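import Mathlib
import Cfsg.Agent.Lib.Helper1.MEO.Defs

set_option autoImplicit false

namespace Cfsg.Agent.Lib.Helper1.MEO

theorem helper9_lcm_le_prod (s : Finset (ℕ × Bool)) (f : ℕ × Bool → ℕ) (hf : ∀ d ∈ s, 0 < f d) :
    s.lcm f ≤ s.prod f := by
  apply Nat.le_of_dvd
  · exact Finset.prod_pos hf
  · apply Finset.lcm_dvd
    intro d hd
    exact Finset.dvd_prod_of_mem f hd

/-- MEO-B -/
theorem types_lcm_bound (q : ℕ) (hq : 2 ≤ q)
    (hA : ∀ B : Finset ℕ, (∀ b ∈ B, 1 ≤ b) →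
      (q - 1) * B.lcm (fun b => q ^ b + 1) ≤ q ^ (B.sum id + 1))
    (D : Finset (ℕ × Bool)) (hD : ∀ d ∈ D, 1 ≤ d.1) :
    (q - 1) * D.lcm (tnum q) ≤ q ^ (D.sum (fun d => d.1) + 1) := by
  classical
  set Dp := D.filter (fun d => d.2 = true) with hDp
  set Dm := D.filter (fun d => ¬ d.2 = true) with hDm
  have hU : D = Dp ∪ Dm := by
    rw [hDp, hDm, Finset.filter_union_filter_not_eq]
  have hsum : D.sum (fun d => d.1) = Dp.sum (fun d => d.1) + Dm.sum (fun d => d.1) := by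
    rw [hDp, hDm, Finset.sum_filter_add_sum_filter_not]
  -- the minus part
  have hm1 : Dm.lcm (tnum q) ≤ Dm.prod (tnum q) := by
    apply helper9_lcm_le_prod
    intro d hd
    rw [hDm, Finset.mem_filter] at hd
    have h1 := hD d hd.1
    unfold tnum
    rw [if_neg hd.2]
    have : q ^ 1 ≤ q ^ d.1 := Nat.pow_le_pow_right (by omega) h1
    simp only [pow_one] at this
    omega
  have hm2 : Dm.prod (tnum q) ≤ q ^ (Dm.sum (fun d => d.1)) := by
    rw [← Finset.prod_pow_eq_pow_sum]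
    apply Finset.prod_le_prod'
    intro d hd
    rw [hDm, Finset.mem_filter] at hd
    unfold tnum
    rw [if_neg hd.2]
    omega
  -- the plus part
  set B := Dp.image Prod.fst with hB
  have hinj : Set.InjOn Prod.fst (Dp : Set (ℕ × Bool)) := by
    intro a ha b hb hab
    have ha' := (Finset.mem_filter.mp ha).2
    have hb' := (Finset.mem_filter.mp hb).2
    exact Prod.ext hab (by rw [ha', hb'])
  have hp1 : Dp.lcm (tnum q) = B.lcm (fun b => q ^ b + 1) := by
    rw [hB, Finset.lcm_image]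
    apply Finset.lcm_congr rfl
    intro d hd
    have hd' := (Finset.mem_filter.mp hd).2
    unfold tnum
    simp [hd']
  have hp2 : B.sum id = Dp.sum (fun d => d.1) := by
    rw [hB, Finset.sum_image hinj]
    rfl
  have hBpos : ∀ b ∈ B, 1 ≤ b := by
    intro b hb
    rw [hB, Finset.mem_image] at hb
    obtain ⟨d, hd, rfl⟩ := hb
    exact hD d (Finset.mem_filter.mp hd).1
  have hp3 := hA B hBpos
  rw [← hp1, hp2] at hp3
  -- combine
  have hl : D.lcm (tnum q) ≤ Dp.lcm (tnum q) * Dm.lcm (tnum q) := by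
    conv_lhs => rw [hU]
    rw [Finset.lcm_union]
    show Nat.lcm _ _ ≤ _
    rcases Nat.eq_zero_or_pos (Dp.lcm (tnum q) * Dm.lcm (tnum q)) with h0 | h0
    · rcases Nat.mul_eq_zero.mp h0 with h | h
      · rw [h]; simp
      · rw [h]; simp
    · exact Nat.le_of_dvd h0 (Nat.lcm_dvd_mul _ _)
  calc (q - 1) * D.lcm (tnum q)
      ≤ (q - 1) * (Dp.lcm (tnum q) * Dm.lcm (tnum q)) := Nat.mul_le_mul_left _ hl
    _ = ((q - 1) * Dp.lcm (tnum q)) * Dm.lcm (tnum q) := by ring
    _ ≤ q ^ (Dp.sum (fun d => d.1) + 1) * q ^ (Dm.sum (fun d => d.1)) :=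
        Nat.mul_le_mul hp3 (hm1.trans hm2)
    _ = q ^ (D.sum (fun d => d.1) + 1) := by
        rw [hsum, ← pow_add]; congr 1; ring

end Cfsg.Agent.Lib.Helper1.MEO
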