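import Mathlib
import Cfsg.Prelude.Def_GeometricClasses
import Cfsg.Agent.Lib.Helper27.ASC.Defs
import Cfsg.Agent.Lib.Helper19.ASG.Defs
import Cfsg.Agent.Lib.Helper18.ASP.Defs
import Cfsg.Agent.Lib.Helper18.ASPADJ
import Cfsg.Agent.Lib.helper8.ASPC.Defs

set_option autoImplicit false
set_option linter.unusedVariables false
set_option linter.unusedSectionVars false

/-!
# Project ASP, block C, piece C-EVQ1 : `spc_even_quad` (VERBATIM vs helper8/ASPC/Skel.lean.txt)
-/

namespace Cfsg.Agent.Lib.Helper18.ASP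

open Cfsg Cfsg.Geo Cfsg.Agent.Lib.Helper27.ASC Cfsg.Agent.Lib.Helper19.ASG
open scoped MatrixGroups Matrix Kronecker

variable {n : ℕ} {F : Type*} [Field F]

/-- the polar form of `x ↦ x M x` has Gram matrix `M + Mᵀ` -/
theorem aspcevq1_polar {κ : Type} [Fintype κ] (M : Matrix κ κ F) (x y : κ → F) :
    formOfGram id M (x + y) (x + y) - formOfGram id M x x - formOfGram id M y y =
      formOfGram id (M + Mᵀ) x y := by
  unfold formOfGram
  have h1 : ∑ a, ∑ b, x a * (M + Mᵀ) a b * id (y b) =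
      (∑ a, ∑ b, x a * M a b * y b) + ∑ a, ∑ b, y a * M a b * x b := by
    have h2 : ∑ a, ∑ b, y a * M a b * x b = ∑ a, ∑ b, x a * Mᵀ a b * y b := by
      rw [Finset.sum_comm]
      refine Finset.sum_congr rfl fun a _ => Finset.sum_congr rfl fun b _ => ?_
      rw [Matrix.transpose_apply]; ring
    rw [h2, ← Finset.sum_add_distrib]
    refine Finset.sum_congr rfl fun a _ => ?_
    rw [← Finset.sum_add_distrib]
    refine Finset.sum_congr rfl fun b _ => ?_
    rw [Matrix.add_apply, id]; ring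
  rw [h1]
  have h3 : ∑ a, ∑ b, (x + y) a * M a b * id ((x + y) b) =
      (∑ a, ∑ b, x a * M a b * id (x b)) + (∑ a, ∑ b, y a * M a b * id (y b)) +
        ((∑ a, ∑ b, x a * M a b * y b) + ∑ a, ∑ b, y a * M a b * x b) := by
    simp only [← Finset.sum_add_distrib]
    refine Finset.sum_congr rfl fun a _ => Finset.sum_congr rfl fun b _ => ?_
    simp only [Pi.add_apply, id]; ring
  rw [h3]; ring

/-- a symmetric matrix with zero diagonal is alternating in characteristic 2 -/
theorem aspcevq1_alt (h2 : (2 : F) = 0) {κ : Type} [Fintype κ] [DecidableEq κ] (B : Matrix κ κ F)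
    (hBs : Bᵀ = B) (hB0 : ∀ j, B j j = 0) (v : κ → F) : ∑ j, ∑ j', v j * B j j' * v j' = 0 := by
  rw [← Finset.sum_product']
  refine Finset.sum_involution (fun p _ => (p.2, p.1)) ?_ ?_ (fun p _ => Finset.mem_univ _) (fun p _ => rfl)
  · intro p _
    have h1 : B p.2 p.1 = B p.1 p.2 := by
      have := congrFun (congrFun hBs p.1) p.2
      rwa [Matrix.transpose_apply] at this
    show v p.1 * B p.1 p.2 * v p.2 + v p.2 * B p.2 p.1 * v p.1 = 0
    rw [h1]
    have : v p.1 * B p.1 p.2 * v p.2 + v p.2 * B p.1 p.2 * v p.1 = 2 * (v p.1 * B p.1 p.2 * v p.2) := by ring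
    rw [this, h2, zero_mul]
  · intro p _ hne hp
    apply hne
    have h1 : p.2 = p.1 := congrArg Prod.fst hp
    show v p.1 * B p.1 p.2 * v p.2 = 0
    rw [h1, hB0, mul_zero, zero_mul]

theorem aspcevq1_upper {k : ℕ} (A : Matrix (Fin k) (Fin k) F) (hAs : Aᵀ = A) (hA0 : ∀ i, A i i = 0)
    (i i' : Fin k) : upperPart A i i' + upperPart A i' i = A i i' := by
  have h1 : A i' i = A i i' := by
    have := congrFun (congrFun hAs i) i'
    rwa [Matrix.transpose_apply] at this
  rw [upperPart_apply, upperPart_apply]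
  rcases lt_trichotomy i i' with h | h | h
  · rw [if_pos h, if_neg (not_lt.mpr h.le), add_zero]
  · subst h
    rw [if_neg (lt_irrefl _), add_zero, hA0]
  · rw [if_neg (not_lt.mpr h.le), if_pos h, zero_add, h1]

/-- C-EVQ1 (medium) : the quadratic form `Q̃ x = x ⬝ᵥ (upperPart A ⊗ B) *ᵥ x`: its polar form has Gram matrix `A ⊗ B`
(`A = U + Uᵀ` as `A` is symmetric with zero diagonal; `B` symmetric) and it vanishes on pure tensors (`B` alternating and
symmetric, `2 = 0`: `v ⬝ᵥ B *ᵥ v = 0`). -/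
theorem spc_even_quad (h2 : (2 : F) = 0) {k d : ℕ} (A : Matrix (Fin k) (Fin k) F) (B : Matrix (Fin d) (Fin d) F)
    (hAs : Aᵀ = A) (hBs : Bᵀ = B) (hA0 : ∀ i, A i i = 0) (hB0 : ∀ j, B j j = 0) :
    (∀ x y : Fin k × Fin d → F,
      formOfGram id (upperPart A ⊗ₖ B) (x + y) (x + y) - formOfGram id (upperPart A ⊗ₖ B) x x -
        formOfGram id (upperPart A ⊗ₖ B) y y = formOfGram id (A ⊗ₖ B) x y) ∧
    (∀ (α : Fin k → F) (v : Fin d → F), formOfGram id (upperPart A ⊗ₖ B) (ptv α v) (ptv α v) = 0) ∧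
    (∀ (c : F) (x : Fin k × Fin d → F),
      formOfGram id (upperPart A ⊗ₖ B) (c • x) (c • x) = c ^ 2 * formOfGram id (upperPart A ⊗ₖ B) x x) := by
  classical
  refine ⟨?_, ?_, ?_⟩
  · intro x y
    rw [aspcevq1_polar]
    have hM : upperPart A ⊗ₖ B + (upperPart A ⊗ₖ B)ᵀ = A ⊗ₖ B := by
      ext ⟨i, j⟩ ⟨i', j'⟩
      have h1 : B j' j = B j j' := by
        have := congrFun (congrFun hBs j) j'
        rwa [Matrix.transpose_apply] at this
      rw [Matrix.add_apply, Matrix.transpose_apply, Matrix.kronecker_apply, Matrix.kronecker_apply,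
        Matrix.kronecker_apply, h1, ← add_mul, aspcevq1_upper A hAs hA0]
    rw [hM]
  · intro α v
    unfold formOfGram
    have h1 : ∀ a b : Fin k × Fin d, ptv α v a * (upperPart A ⊗ₖ B) a b * id (ptv α v b) =
        (α a.1 * upperPart A a.1 b.1 * α b.1) * (v a.2 * B a.2 b.2 * v b.2) := by
      rintro ⟨i, j⟩ ⟨i', j'⟩
      rw [Matrix.kronecker_apply, ptv_apply, ptv_apply, id]; ring
    simp only [h1]
    rw [Fintype.sum_prod_type]
    simp only [Fintype.sum_prod_type]
    have h3 : ∀ i i', ∑ j, ∑ j', (α i * upperPart A i i' * α i') * (v j * B j j' * v j') = 0 := by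
      intro i i'
      simp only [← Finset.mul_sum]
      rw [aspcevq1_alt h2 B hBs hB0 v, mul_zero]
    calc ∑ i, ∑ j, ∑ i', ∑ j', (α i * upperPart A i i' * α i') * (v j * B j j' * v j')
        = ∑ i, ∑ i', ∑ j, ∑ j', (α i * upperPart A i i' * α i') * (v j * B j j' * v j') := by
          refine Finset.sum_congr rfl fun i _ => ?_
          rw [Finset.sum_comm]
      _ = 0 := by
          refine Finset.sum_eq_zero fun i _ => Finset.sum_eq_zero fun i' _ => h3 i i'
  · intro c x
    unfold formOfGram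
    rw [Finset.mul_sum]
    refine Finset.sum_congr rfl fun a _ => ?_
    rw [Finset.mul_sum]
    refine Finset.sum_congr rfl fun b _ => ?_
    simp only [Pi.smul_apply, smul_eq_mul, id]; ring

end Cfsg.Agent.Lib.Helper18.ASP
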