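import Mathlib
import Cfsg.Agent.Lib.Helper1.ClassTwoOrder

set_option autoImplicit false

namespace Cfsg.Agent.Lib.Helper9

open scoped commutatorElement

section
variable {X : Type*} [Group X]

/-- the subgroup of fixed points of an automorphism -/
def arFix (c : MulAut X) : Subgroup X where
  carrier := {x | c x = x}
  one_mem' := map_one c
  mul_mem' := by
    intro a b ha hb
    show c (a * b) = a * b
    rw [map_mul, ha, hb]
  inv_mem' := by
    intro a ha
    show c a⁻¹ = a⁻¹
    rw [map_inv, ha]

theorem mem_arFix {c : MulAut X} {x : X} : x ∈ arFix c ↔ c x = x := Iff.rfl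

/-- fixed point congruence for an automorphism of prime power order on a stable subgroup -/
theorem ar_card_modEq [Finite X] {q : ℕ} [Fact q.Prime] (c : MulAut X) (hc : c ^ q = 1)
    (S : Subgroup X) (hS : ∀ x ∈ S, c x ∈ S) :
    Nat.card S ≡ Nat.card ↥(S ⊓ arFix c) [MOD q] := by
  classical
  haveI : Fintype ↥S := Fintype.ofFinite _
  let f : Function.End ↥S := fun x => ⟨c x.1, hS x.1 x.2⟩
  have hf : ∀ k : ℕ, ∀ x : ↥S, ((f ^ k) x).1 = (c ^ k) x.1 := by
    intro k
    induction k with
    | zero => intro x; rw [pow_zero, pow_zero]; rfl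
    | succ k ih =>
      intro x
      rw [pow_succ', pow_succ']
      show c ((f ^ k) x).1 = _
      rw [ih]; rfl
  have hfq : f ^ q ^ 1 = 1 := by
    funext x
    apply Subtype.ext
    rw [pow_one, hf, hc]
    rfl
  have h1 := Equiv.Perm.card_fixedPoints_modEq (p := q) (n := 1) hfq
  have h2 : Fintype.card ↥(Function.fixedPoints f) = Nat.card ↥(S ⊓ arFix c) := by
    rw [← Nat.card_eq_fintype_card]
    apply Nat.card_congr
    refine ⟨fun x => ⟨x.1.1, Subgroup.mem_inf.2 ⟨x.1.2, ?_⟩⟩,
      fun y => ⟨⟨y.1, (Subgroup.mem_inf.1 y.2).1⟩, ?_⟩, ?_, ?_⟩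
    · have hx : f x.1 = x.1 := x.2
      exact congrArg Subtype.val hx
    · show f ⟨y.1, _⟩ = ⟨y.1, _⟩
      apply Subtype.ext
      exact (Subgroup.mem_inf.1 y.2).2
    · intro x; rfl
    · intro y; rfl
  rw [← Nat.card_eq_fintype_card, h2] at h1
  exact h1

/-- number theory: a prime `q ≠ p` dividing `p ^ m - p ^ j` with `j < m ≤ j + 2` divides
`p ^ 2 - 1` -/
theorem ar_dvd_of_modEq {p q m j : ℕ} (hp : p.Prime) (hq : q.Prime) (hqp : q ≠ p)
    (h : p ^ m ≡ p ^ j [MOD q]) (hjm : j < m) (hm : m ≤ j + 2) : q ∣ p ^ 2 - 1 := by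
  have h1 : q ∣ p ^ m - p ^ j :=
    (Nat.modEq_iff_dvd' (Nat.pow_le_pow_right hp.pos hjm.le)).1 h.symm
  have h2 : p ^ m - p ^ j = p ^ j * (p ^ (m - j) - 1) := by
    rw [Nat.mul_sub, mul_one, ← pow_add]
    congr 2
    omega
  rw [h2] at h1
  have hcop : Nat.Coprime q (p ^ j) :=
    Nat.Coprime.pow_right j ((Nat.coprime_primes hq hp).2 hqp)
  have h3 : q ∣ p ^ (m - j) - 1 := hcop.dvd_of_dvd_mul_left h1
  have hcases : m - j = 1 ∨ m - j = 2 := by omega
  rcases hcases with h4 | h4
  · rw [h4, pow_one] at h3
    have h5 : p ^ 2 - 1 = (p - 1) * (p + 1) := by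
      have := hp.one_le
      zify [this, Nat.one_le_pow 2 p hp.pos]
      ring
    rw [h5]
    exact Dvd.dvd.mul_right h3 _
  · rw [h4] at h3
    exact h3

end

section
universe u
variable {X : Type u} [Group X] [Finite X]

/-- an automorphism of prime order `q ≠ p` of a finite `p`-group of exponent `p` and class at most
two all of whose abelian subgroups have order at most `p ^ 2` forces `q ∣ p ^ 2 - 1` -/
theorem ar_small {p q : ℕ} [hp : Fact p.Prime] [hq : Fact q.Prime] (hqp : q ≠ p)
    (hexp : ∀ x : X, x ^ p = 1) (hcl : commutator X ≤ Subgroup.center X)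
    (hrk : ∀ A : Subgroup X, IsMulCommutative A → Nat.card A ≤ p ^ 2)
    (c : MulAut X) (hc : c ^ q = 1) (hc1 : c ≠ 1) : q ∣ p ^ 2 - 1 := by
  have hX : IsPGroup p X := fun x => ⟨1, by rw [pow_one]; exact hexp x⟩
  obtain ⟨m, hm⟩ := IsPGroup.iff_card.1 hX
  have hF : IsPGroup p ↥(arFix c) := hX.to_subgroup _
  obtain ⟨j, hj⟩ := IsPGroup.iff_card.1 hF
  have h1 := ar_card_modEq c hc ⊤ (fun x _ => Subgroup.mem_top _)
  rw [top_inf_eq, Subgroup.card_top, hm, hj] at h1
  have hne : arFix c ≠ ⊤ := by
    intro htop
    apply hc1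
    ext x
    have : x ∈ arFix c := by rw [htop]; exact Subgroup.mem_top x
    exact this
  have hlt : Nat.card ↥(arFix c) < Nat.card X := by
    rcases lt_or_eq_of_le (Subgroup.card_le_card_group (arFix c)) with h | h
    · exact h
    · exact absurd (Subgroup.card_eq_iff_eq_top _ |>.1 h) hne
  rw [hm, hj] at hlt
  have hjm : j < m := (Nat.pow_lt_pow_iff_right hp.out.one_lt).1 hlt
  by_cases hab : ∀ x y : X, x * y = y * x
  · -- abelian case
    have hcomm : IsMulCommutative (⊤ : Subgroup X) :=
      ⟨⟨fun a b => Subtype.ext (hab a.1 b.1)⟩⟩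
    have h2 := hrk ⊤ hcomm
    rw [Subgroup.card_top, hm] at h2
    have hm2 : m ≤ 2 := (Nat.pow_le_pow_iff_right hp.out.one_lt).1 h2
    exact ar_dvd_of_modEq hp.out hq.out hqp h1 hjm (by omega)
  · -- nonabelian case
    push Not at hab
    obtain ⟨x, y, hxy⟩ := hab
    have hxZ : x ∉ Subgroup.center X := by
      intro hx
      exact hxy ((Subgroup.mem_center_iff.1 hx y).symm)
    haveI : Nontrivial X := ⟨⟨x, y, fun h => hxy (by rw [h])⟩⟩
    haveI := hX.center_nontrivial
    have hZ : IsPGroup p ↥(Subgroup.center X) := hX.to_subgroup _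
    obtain ⟨i, hi⟩ := IsPGroup.iff_card.1 hZ
    have hi0 : i ≠ 0 := by
      intro h0
      rw [h0, pow_zero] at hi
      have := Subgroup.card_eq_one.1 hi
      exact (Subgroup.nontrivial_iff_ne_bot _).1 inferInstance this
    -- A = Z ⊔ ⟨x⟩ is abelian
    have hAcomm : ∀ g : X, g ∈ Subgroup.center X ⊔ Subgroup.zpowers x → g * x = x * g := by
      intro g hg
      rw [sup_comm] at hg
      have : Subgroup.center X ⊔ Subgroup.zpowers x ≤ Subgroup.centralizer {x} := by
        rw [sup_le_iff]
        refine ⟨(Subgroup.center_le_centralizer _), ?_⟩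
        rw [Subgroup.zpowers_le]
        exact Subgroup.mem_centralizer_singleton_iff.2 rfl
      rw [sup_comm] at hg
      exact (Subgroup.mem_centralizer_singleton_iff.1 (this hg))
    have key : ∀ w : X, w * x = x * w →
        IsMulCommutative ↥(Subgroup.center X ⊔ Subgroup.closure {x, w}) := by
      intro w hw
      have hcl2 : IsMulCommutative ↥(Subgroup.closure ({x, w} : Set X)) := by
        refine ⟨⟨?_⟩⟩
        rintro ⟨a, ha⟩ ⟨b, hb⟩
        apply Subtype.ext
        show a * b = b * a
        have hc2 : Subgroup.closure ({x, w} : Set X) ≤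
            Subgroup.centralizer (Subgroup.closure ({x, w} : Set X) : Set X) := by
          rw [Subgroup.closure_le]
          intro u hu
          rw [SetLike.mem_coe, Subgroup.mem_centralizer_iff]
          intro v hv
          have hc3 : Subgroup.closure ({x, w} : Set X) ≤ Subgroup.centralizer {u} := by
            rw [Subgroup.closure_le]
            intro z hz
            rw [SetLike.mem_coe, Subgroup.mem_centralizer_singleton_iff]
            rcases hu with rfl | hu
            · rcases hz with rfl | hz
              · rfl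
              · rw [Set.mem_singleton_iff] at hz; rw [hz]; exact hw
            · rw [Set.mem_singleton_iff] at hu
              rcases hz with rfl | hz
              · rw [hu]; exact hw.symm
              · rw [Set.mem_singleton_iff] at hz; rw [hz, hu]
          exact (Subgroup.mem_centralizer_singleton_iff.1 (hc3 hv))
        exact ((Subgroup.mem_centralizer_iff.1 (hc2 hb)) a ha)
      refine ⟨⟨?_⟩⟩
      rintro ⟨a, ha⟩ ⟨b, hb⟩
      apply Subtype.ext
      show a * b = b * a
      have hle : Subgroup.center X ⊔ Subgroup.closure ({x, w} : Set X) ≤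
          Subgroup.centralizer
            ((Subgroup.center X ⊔ Subgroup.closure ({x, w} : Set X) : Subgroup X) : Set X) := by
        rw [sup_le_iff]
        constructor
        · intro z hz
          rw [Subgroup.mem_centralizer_iff]
          intro v _
          exact (Subgroup.mem_center_iff.1 hz v)
        · intro z hz
          rw [Subgroup.mem_centralizer_iff]
          intro v hv
          have : Subgroup.center X ⊔ Subgroup.closure ({x, w} : Set X) ≤
              Subgroup.centralizer {z} := by
            rw [sup_le_iff]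
            constructor
            · exact Subgroup.center_le_centralizer _
            · intro u hu
              rw [Subgroup.mem_centralizer_singleton_iff]
              have := hcl2.1.1 ⟨u, hu⟩ ⟨z, hz⟩
              exact congrArg Subtype.val this
          exact (Subgroup.mem_centralizer_singleton_iff.1 (this hv))
      exact ((Subgroup.mem_centralizer_iff.1 (hle hb)) a ha)
    -- A₀ = Z ⊔ ⟨x⟩
    have hA₀ := hrk _ (key x rfl)
    have hZle : Subgroup.center X ≤ Subgroup.center X ⊔ Subgroup.closure ({x, x} : Set X) :=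
      le_sup_left
    have hxA₀ : x ∈ Subgroup.center X ⊔ Subgroup.closure ({x, x} : Set X) :=
      (le_sup_right : Subgroup.closure ({x, x} : Set X) ≤ _)
        (Subgroup.subset_closure (Set.mem_insert _ _))
    have hZlt : Subgroup.center X < Subgroup.center X ⊔ Subgroup.closure ({x, x} : Set X) :=
      lt_of_le_of_ne hZle (fun h => hxZ (by rw [h]; exact hxA₀))
    have hA₀p : IsPGroup p ↥(Subgroup.center X ⊔ Subgroup.closure ({x, x} : Set X)) :=
      hX.to_subgroup _
    obtain ⟨i', hi'⟩ := IsPGroup.iff_card.1 hA₀p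
    have hcardlt : Nat.card ↥(Subgroup.center X) <
        Nat.card ↥(Subgroup.center X ⊔ Subgroup.closure ({x, x} : Set X)) := by
      by_contra hcon
      exact (ne_of_lt hZlt) (Subgroup.eq_of_le_of_card_ge hZlt.le (not_lt.mp hcon))
    rw [hi, hi'] at hcardlt
    have hii' : i < i' := (Nat.pow_lt_pow_iff_right hp.out.one_lt).1 hcardlt
    rw [hi'] at hA₀
    have hi'2 : i' ≤ 2 := (Nat.pow_le_pow_iff_right hp.out.one_lt).1 hA₀
    have hi1 : i = 1 := by omega
    have hi'eq : i' = 2 := by omega
    rw [hi1, pow_one] at hi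
    rw [hi'eq] at hi'
    -- the centralizer of x is A₀
    have hcent : Subgroup.centralizer {x} ≤
        Subgroup.center X ⊔ Subgroup.closure ({x, x} : Set X) := by
      intro w hw
      rw [Subgroup.mem_centralizer_singleton_iff] at hw
      have hAw := hrk _ (key w hw)
      have hle : Subgroup.center X ⊔ Subgroup.closure ({x, x} : Set X) ≤
          Subgroup.center X ⊔ Subgroup.closure ({x, w} : Set X) := by
        apply sup_le_sup_left
        apply Subgroup.closure_mono
        intro u hu
        rcases hu with rfl | hu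
        · exact Set.mem_insert _ _
        · rw [Set.mem_singleton_iff] at hu; rw [hu]; exact Set.mem_insert _ _
      have heq : Subgroup.center X ⊔ Subgroup.closure ({x, x} : Set X) =
          Subgroup.center X ⊔ Subgroup.closure ({x, w} : Set X) := by
        apply Subgroup.eq_of_le_of_card_ge hle
        rw [hi']
        exact hAw
      rw [heq]
      exact (le_sup_right : Subgroup.closure ({x, w} : Set X) ≤ _)
        (Subgroup.subset_closure (Set.mem_insert_of_mem _ (Set.mem_singleton _)))
    have hcentcard : Nat.card ↥(Subgroup.centralizer ({x} : Set X)) ≤ p ^ 2 := by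
      rw [← hi']
      exact Subgroup.card_le_of_le hcent
    -- |X| ≤ p^3 via the commutator homomorphism
    have hker : (Cfsg.Agent.Lib.Helper1.commHom hcl x).ker = Subgroup.centralizer {x} := by
      ext g
      rw [MonoidHom.mem_ker, Cfsg.Agent.Lib.Helper1.commHom_eq_one_iff,
        Subgroup.mem_centralizer_singleton_iff]
    have hXcard : Nat.card X ≤ p ^ 3 := by
      rw [← Subgroup.card_mul_index (Cfsg.Agent.Lib.Helper1.commHom hcl x).ker,
        Subgroup.index_ker, hker]
      have hr : Nat.card ↥(Cfsg.Agent.Lib.Helper1.commHom hcl x).range ≤ p := by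
        rw [← hi]
        exact Nat.card_le_card_of_injective Subtype.val Subtype.val_injective
      calc Nat.card ↥(Subgroup.centralizer ({x} : Set X)) *
            Nat.card ↥(Cfsg.Agent.Lib.Helper1.commHom hcl x).range ≤ p ^ 2 * p :=
          Nat.mul_le_mul hcentcard hr
        _ = p ^ 3 := by ring
    rw [hm] at hXcard
    have hm3 : m ≤ 3 := (Nat.pow_le_pow_iff_right hp.out.one_lt).1 hXcard
    -- the action on the centre
    have hZst : ∀ z ∈ Subgroup.center X, c z ∈ Subgroup.center X := by
      intro z hz
      rw [Subgroup.mem_center_iff]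
      intro g
      have := Subgroup.mem_center_iff.1 hz (c⁻¹ g)
      have h3 := congrArg c this
      rw [map_mul, map_mul] at h3
      have h4 : c (c⁻¹ g) = g := by
        rw [← MulAut.mul_apply, mul_inv_cancel, MulAut.one_apply]
      rw [h4] at h3
      exact h3
    have h2 := ar_card_modEq c hc (Subgroup.center X) hZst
    have hZF : IsPGroup p ↥(Subgroup.center X ⊓ arFix c) := hX.to_subgroup _
    obtain ⟨j', hj'⟩ := IsPGroup.iff_card.1 hZF
    rw [hi, hj'] at h2
    have hj'le : p ^ j' ≤ p := by
      rw [← hj', ← hi]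
      exact Subgroup.card_le_of_le inf_le_left
    have hj'1 : j' ≤ 1 := by
      have : p ^ j' ≤ p ^ 1 := by rw [pow_one]; exact hj'le
      exact (Nat.pow_le_pow_iff_right hp.out.one_lt).1 this
    rcases Nat.lt_or_ge j' 1 with h0 | h0
    · have hj0 : j' = 0 := by omega
      rw [hj0] at h2
      have h2' : p ^ 1 ≡ p ^ 0 [MOD q] := by rw [pow_one]; exact h2
      exact ar_dvd_of_modEq hp.out hq.out hqp h2' (by omega) (by omega)
    · have hj1 : j' = 1 := by omega
      rw [hj1, pow_one] at hj'
      have hZF' : Subgroup.center X ⊓ arFix c = Subgroup.center X := by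
        apply Subgroup.eq_of_le_of_card_ge inf_le_left
        rw [hi, hj']
      have hZleF : Subgroup.center X ≤ arFix c := by
        rw [← hZF']; exact inf_le_right
      have := Subgroup.card_le_of_le hZleF
      rw [hi, hj] at this
      have hj1' : 1 ≤ j := by
        have h5 : p ^ 1 ≤ p ^ j := by rw [pow_one]; exact this
        exact (Nat.pow_le_pow_iff_right hp.out.one_lt).1 h5
      exact ar_dvd_of_modEq hp.out hq.out hqp h1 hjm (by omega)

end

end Cfsg.Agent.Lib.Helper9
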