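import Mathlib
import Cfsg.Agent.Lib.Helper9.AutRank1
import Cfsg.Agent.Lib.Helper1.Class2
import Cfsg.Agent.Lib.Helper1.Critical
import Cfsg.Agent.Lib.Helper24.OmegaAut
import Cfsg.Prelude.Def_CaseTheorems

set_option autoImplicit false

namespace Cfsg.Agent.Lib.Helper9

open scoped commutatorElement

section
universe u

/-- rank at most two passes to subgroups -/
theorem ar_rank_subgroup {R : Type*} [Group R] {p : ℕ} (hrk : Cfsg.PRankLE p 2 R) (H : Subgroup R) :
    Cfsg.PRankLE p 2 ↥H := by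
  intro A hA hexp
  have h1 : IsMulCommutative ↥(A.map H.subtype) := by
    refine ⟨⟨?_⟩⟩
    rintro ⟨a, ha⟩ ⟨b, hb⟩
    apply Subtype.ext
    obtain ⟨a', ha', rfl⟩ := Subgroup.mem_map.1 ha
    obtain ⟨b', hb', rfl⟩ := Subgroup.mem_map.1 hb
    show H.subtype a' * H.subtype b' = H.subtype b' * H.subtype a'
    rw [← map_mul, ← map_mul]
    congr 1
    exact congrArg Subtype.val (hA.1.1 ⟨a', ha'⟩ ⟨b', hb'⟩)
  have h2 : ∀ a ∈ A.map H.subtype, a ^ p = 1 := by
    intro a ha
    obtain ⟨a', ha', rfl⟩ := Subgroup.mem_map.1 ha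
    rw [← map_pow, hexp a' ha', map_one]
  have := hrk _ h1 h2
  rwa [Subgroup.card_map_of_injective H.subtype_injective] at this

/-- class at most two passes to subgroups -/
theorem ar_class_subgroup {R : Type*} [Group R] (hcl : commutator R ≤ Subgroup.center R)
    (H : Subgroup R) : commutator ↥H ≤ Subgroup.center ↥H := by
  rw [commutator_def, Subgroup.commutator_le]
  intro a _ b _
  rw [Subgroup.mem_center_iff]
  intro g
  apply Subtype.ext
  have h1 : ⁅a.1, b.1⁆ ∈ Subgroup.center R :=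
    hcl (Subgroup.commutator_mem_commutator (Subgroup.mem_top _) (Subgroup.mem_top _))
  exact Subgroup.mem_center_iff.1 h1 g.1

/-- a non-trivial automorphism of prime order `q ≠ p` of a `p`-group (`p` odd) of class at most
two and rank at most two forces `q ∣ p ^ 2 - 1` -/
theorem ar_class_two {H : Type u} [Group H] [Finite H] {p q : ℕ} [hp : Fact p.Prime]
    [hq : Fact q.Prime] (hp2 : p ≠ 2) (hqp : q ≠ p) (hH : IsPGroup p H)
    (hcl : commutator H ≤ Subgroup.center H) (hrk : Cfsg.PRankLE p 2 H)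
    (b : MulAut H) (hb : b ^ q = 1) (hb1 : b ≠ 1) : q ∣ p ^ 2 - 1 := by
  have hXexp : ∀ x ∈ Subgroup.closure {x : H | x ^ p = 1}, x ^ p = 1 := fun x hx =>
    Cfsg.Agent.Lib.Helper1.pow_prime_eq_one_of_mem_closure hp.out hp2 hcl x hx
  have hXst : ∀ x ∈ Subgroup.closure {x : H | x ^ p = 1},
      b x ∈ Subgroup.closure {x : H | x ^ p = 1} := by
    intro x hx
    apply Subgroup.subset_closure
    show (b x) ^ p = 1
    rw [← map_pow, hXexp x hx, map_one]
  obtain ⟨c, hc, hcord⟩ := Cfsg.Agent.Lib.Helper24.oa_restrict b _ hXst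
  have hbord : orderOf b ∣ q := orderOf_dvd_of_pow_eq_one hb
  have hcq : c ^ q = 1 := orderOf_dvd_iff_pow_eq_one.1 (hcord.trans hbord)
  have hcop : Nat.Coprime (orderOf b) p :=
    Nat.Coprime.coprime_dvd_left hbord ((Nat.coprime_primes hq.out hp.out).2 hqp)
  have hc1 : c ≠ 1 := by
    intro h1
    apply hb1
    apply Cfsg.Agent.Lib.Helper24.oa_main hp2 (Nat.card H) H rfl hH b hcop
    intro x hx
    have hxX : x ∈ Subgroup.closure {x : H | x ^ p = 1} := Subgroup.subset_closure hx
    have := hc ⟨x, hxX⟩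
    rw [h1, MulAut.one_apply] at this
    exact this.symm
  refine ar_small hqp ?_ (ar_class_subgroup hcl _) ?_ c hcq hc1
  · intro x
    apply Subtype.ext
    exact hXexp x.1 x.2
  · intro A hA
    apply ar_rank_subgroup hrk _ A hA
    intro a _
    apply Subtype.ext
    exact hXexp a.1 a.2

/-- a prime `q ≠ p` dividing `|Aut R|` for a `p`-group `R` of rank at most two (`p` odd) divides
`p ^ 2 - 1` -/
theorem ar_main {R : Type u} [Group R] [Finite R] {p : ℕ} [hp : Fact p.Prime] (hp2 : p ≠ 2)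
    (hR : IsPGroup p R) (hrk : Cfsg.PRankLE p 2 R) (q : ℕ) (hq : q.Prime) (hqp : q ≠ p)
    (hdvd : q ∣ Nat.card (MulAut R)) : q ∣ p ^ 2 - 1 := by
  haveI : Fact q.Prime := ⟨hq⟩
  obtain ⟨α, hα⟩ := exists_prime_orderOf_dvd_card' q hdvd
  obtain ⟨H, hchar, -, hcomm, hcent⟩ := Cfsg.Agent.Lib.Helper1.exists_critical hR
  have hst : ∀ k ∈ H, α k ∈ H := by
    intro k hk
    have := (Subgroup.characteristic_iff_map_eq.1 hchar) α
    rw [← this]
    exact Subgroup.mem_map.2 ⟨k, hk, rfl⟩
  obtain ⟨b, hb, hbord⟩ := Cfsg.Agent.Lib.Helper24.oa_restrict α H hst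
  have hcop : Nat.Coprime (orderOf α) p := by
    rw [hα]; exact (Nat.coprime_primes hq hp.out).2 hqp
  have hb1 : b ≠ 1 := by
    intro h1
    have hα1 : α = 1 := by
      apply Cfsg.Agent.Lib.Helper24.ca_crit hR H inferInstance hcent α hcop
      intro x hx
      have := hb ⟨x, hx⟩
      rw [h1, MulAut.one_apply] at this
      exact this.symm
    rw [hα1, orderOf_one] at hα
    exact hq.one_lt.ne hα
  have hbq : b ^ q = 1 := by
    apply orderOf_dvd_iff_pow_eq_one.1
    rw [← hα]; exact hbord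
  have hcl : commutator ↥H ≤ Subgroup.center ↥H := by
    rw [commutator_def, Subgroup.commutator_le]
    intro x _ y _
    rw [Subgroup.mem_center_iff]
    intro g
    apply Subtype.ext
    have h1 : ⁅x.1, y.1⁆ ∈ Subgroup.centralizer (H : Set R) :=
      (hcomm (Subgroup.commutator_mem_commutator x.2 (Subgroup.mem_top _))).2
    exact (Subgroup.mem_centralizer_iff.1 h1) g.1 g.2
  exact ar_class_two hp2 hqp (hR.to_subgroup H) hcl (ar_rank_subgroup hrk H) b hbq hb1

/-- a prime dividing `p ^ 2 - 1` for an odd prime `p` is smaller than `p` -/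
theorem ar_lt {p q : ℕ} (hp : p.Prime) (hp2 : p ≠ 2) (hq : q.Prime) (h : q ∣ p ^ 2 - 1) :
    q < p := by
  have h5 : p ^ 2 - 1 = (p - 1) * (p + 1) := by
    have := hp.one_le
    zify [this, Nat.one_le_pow 2 p hp.pos]
    ring
  rw [h5] at h
  have hp3 : 3 ≤ p := by
    have := hp.two_le
    omega
  rcases (Nat.Prime.dvd_mul hq).1 h with h1 | h1
  · have := Nat.le_of_dvd (by omega) h1
    omega
  · obtain ⟨k, hk⟩ := h1
    have hk0 : k ≠ 0 := by
      intro h0; rw [h0, mul_zero] at hk; omega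
    have hk1 : k ≠ 1 := by
      intro h0
      rw [h0, mul_one] at hk
      -- q = p + 1 is even
      have hodd : Odd p := hp.odd_of_ne_two hp2
      have heven : Even q := by rw [← hk]; exact hodd.add_one
      have := (Nat.Prime.even_iff hq).1 heven
      omega
    have hk2 : 2 ≤ k := by omega
    have : q * 2 ≤ q * k := Nat.mul_le_mul_left q hk2
    omega

end

end Cfsg.Agent.Lib.Helper9
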