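import Mathlib

set_option autoImplicit false

namespace Cfsg.Agent.Lib.Helper9

theorem orderOf_conj_eq {G : Type*} [Group G] (g a : G) : orderOf (g * a * g⁻¹) = orderOf a := by
  have := MulEquiv.orderOf_eq (MulAut.conj g) a
  simpa [MulAut.conj_apply] using this

open scoped Pointwise in
theorem sylow_conj {G : Type*} [Group G] [Finite G] {p : ℕ} [Fact p.Prime] (P Q : Sylow p G) :
    ∃ h : G, ∀ y : G, y ∈ (Q : Subgroup G) ↔ h * y * h⁻¹ ∈ (P : Subgroup G) := by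
  obtain ⟨h, hh⟩ := MulAction.exists_smul_eq G Q P
  refine ⟨h, fun y => ?_⟩
  have : (P : Subgroup G) = MulAut.conj h • (Q : Subgroup G) := by
    rw [← hh]; rfl
  rw [this, Subgroup.mem_pointwise_smul_iff_inv_smul_mem]
  simp [MulAut.smul_def, mul_assoc]

theorem exists_conj_le_sylow_of_le {G : Type*} [Group G] [Finite G] {p : ℕ} [Fact p.Prime]
    (H : Subgroup G) (S : Sylow p G) (hS : (S : Subgroup G) ≤ H) (Q : Subgroup G)
    (hQ : IsPGroup p Q) (hQH : Q ≤ H) :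
    ∃ m ∈ H, ∀ q ∈ Q, m * q * m⁻¹ ∈ (S : Subgroup G) := by
  have hQ' : IsPGroup p (Q.subgroupOf H) :=
    hQ.comap_of_injective H.subtype H.subtype_injective
  obtain ⟨R, hR⟩ := hQ'.exists_le_sylow
  obtain ⟨h, hh⟩ := sylow_conj (S.subtype hS) R
  refine ⟨h, h.2, fun q hq => ?_⟩
  have h1 : (⟨q, hQH hq⟩ : H) ∈ (R : Subgroup H) := hR (by simpa [Subgroup.mem_subgroupOf] using hq)
  have h2 := (hh _).1 h1
  rw [Sylow.coe_subtype, Subgroup.mem_subgroupOf] at h2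
  simpa using h2

theorem exists_conj_mem_sylow_of_mem {G : Type*} [Group G] [Finite G] {p : ℕ} [Fact p.Prime]
    (H : Subgroup G) (S : Sylow p G) (hS : (S : Subgroup G) ≤ H) (y : G)
    (hy : ∃ k : ℕ, orderOf y = p ^ k) (hyH : y ∈ H) :
    ∃ m ∈ H, m * y * m⁻¹ ∈ (S : Subgroup G) := by
  have hQ : IsPGroup p (Subgroup.zpowers y) := by
    obtain ⟨k, hk⟩ := hy
    rw [IsPGroup.iff_card, Nat.card_zpowers, hk]
    exact ⟨k, rfl⟩
  obtain ⟨m, hm, hq⟩ := exists_conj_le_sylow_of_le H S hS (Subgroup.zpowers y) hQ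
    (by simpa using hyH)
  exact ⟨m, hm, hq y (Subgroup.mem_zpowers y)⟩

theorem exists_sylow_conj_le {G : Type*} [Group G] [Finite G] {p : ℕ} [Fact p.Prime]
    (S : Sylow p G) (Q : Subgroup G) (hQ : IsPGroup p Q) :
    ∃ m : G, ∀ q ∈ Q, m * q * m⁻¹ ∈ (S : Subgroup G) := by
  obtain ⟨m, -, hm⟩ := exists_conj_le_sylow_of_le ⊤ S le_top Q hQ le_top
  exact ⟨m, hm⟩

theorem exists_conj_into_common_pgroup {G : Type*} [Group G] [Finite G] {p : ℕ} [Fact p.Prime]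
    (H Q₁ Q₂ : Subgroup G) (hQ₁ : IsPGroup p Q₁) (hQ₂ : IsPGroup p Q₂) (h₁ : Q₁ ≤ H) (h₂ : Q₂ ≤ H) :
    ∃ c ∈ H, ∃ R : Subgroup G, IsPGroup p R ∧ R ≤ H ∧ Q₁ ≤ R ∧ ∀ q ∈ Q₂, c * q * c⁻¹ ∈ R := by
  have hQ₁' : IsPGroup p (Q₁.subgroupOf H) :=
    hQ₁.comap_of_injective H.subtype H.subtype_injective
  have hQ₂' : IsPGroup p (Q₂.subgroupOf H) :=
    hQ₂.comap_of_injective H.subtype H.subtype_injective
  obtain ⟨R₁, hR₁⟩ := hQ₁'.exists_le_sylow
  obtain ⟨R₂, hR₂⟩ := hQ₂'.exists_le_sylow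
  obtain ⟨c, hc⟩ := sylow_conj R₁ R₂
  refine ⟨c, c.2, (R₁ : Subgroup H).map H.subtype, ?_, ?_, ?_, ?_⟩
  · exact R₁.2.map H.subtype
  · exact Subgroup.map_subtype_le _
  · intro q hq
    exact ⟨⟨q, h₁ hq⟩, hR₁ (by simpa [Subgroup.mem_subgroupOf] using hq), rfl⟩
  · intro q hq
    have h3 : (⟨q, h₂ hq⟩ : H) ∈ (R₂ : Subgroup H) :=
      hR₂ (by simpa [Subgroup.mem_subgroupOf] using hq)
    exact ⟨_, (hc _).1 h3, by simp⟩

theorem map_conj_eq_iff {G : Type*} [Group G] (W : Subgroup G) (k : G) :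
    W.map (MulAut.conj k).toMonoidHom = W ↔ W.map (MulAut.conj k⁻¹).toMonoidHom = W := by
  constructor
  · intro h
    conv_lhs => rw [← h]
    rw [Subgroup.map_map]
    have : (MulAut.conj k⁻¹).toMonoidHom.comp (MulAut.conj k).toMonoidHom = MonoidHom.id G := by
      ext x; simp [MulAut.conj_apply, mul_assoc]
    rw [this, Subgroup.map_id]
  · intro h
    conv_lhs => rw [← h]
    rw [Subgroup.map_map]
    have : (MulAut.conj k).toMonoidHom.comp (MulAut.conj k⁻¹).toMonoidHom = MonoidHom.id G := by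
      ext x; simp [MulAut.conj_apply, mul_assoc]
    rw [this, Subgroup.map_id]

theorem map_conj_mul {G : Type*} [Group G] (W : Subgroup G) (k c : G) :
    W.map (MulAut.conj (k * c)).toMonoidHom =
      (W.map (MulAut.conj c).toMonoidHom).map (MulAut.conj k).toMonoidHom := by
  rw [Subgroup.map_map]
  congr 1
  ext x; simp [MulAut.conj_apply, mul_assoc]

theorem mem_map_conj_iff {G : Type*} [Group G] (W : Subgroup G) (k x : G) :
    x ∈ W.map (MulAut.conj k).toMonoidHom ↔ k⁻¹ * x * k ∈ W := by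
  constructor
  · rintro ⟨w, hw, rfl⟩
    simpa [MulAut.conj_apply, mul_assoc] using hw
  · intro h
    exact ⟨_, h, by simp [MulAut.conj_apply, mul_assoc]⟩

theorem map_conj_le_iff {G : Type*} [Group G] (W T : Subgroup G) (k : G) :
    W.map (MulAut.conj k).toMonoidHom ≤ T ↔ ∀ w ∈ W, k * w * k⁻¹ ∈ T := by
  constructor
  · intro h w hw
    exact h ⟨w, hw, by simp [MulAut.conj_apply]⟩
  · rintro h _ ⟨w, hw, rfl⟩
    simpa [MulAut.conj_apply] using h w hw

theorem map_conj_inv_map_conj {G : Type*} [Group G] (X : Subgroup G) (k : G) :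
    (X.map (MulAut.conj k).toMonoidHom).map (MulAut.conj k⁻¹).toMonoidHom = X := by
  ext x
  rw [mem_map_conj_iff, mem_map_conj_iff]
  simp [mul_assoc]

theorem mem_normalizer_of_map_conj_eq {G : Type*} [Group G] {W : Subgroup G} {h : G}
    (key : W.map (MulAut.conj h).toMonoidHom = W) : h ∈ Subgroup.normalizer (W : Set G) := by
  rw [Subgroup.mem_normalizer_iff]
  intro x
  have h1 : h * x * h⁻¹ ∈ W.map (MulAut.conj h).toMonoidHom ↔ x ∈ W := by
    rw [mem_map_conj_iff]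
    have : h⁻¹ * (h * x * h⁻¹) * h = x := by group
    rw [this]
  rw [key] at h1
  exact h1.symm

theorem map_conj_eq_of_mem_normalizer {G : Type*} [Group G] {W : Subgroup G} {h : G}
    (hh : h ∈ Subgroup.normalizer (W : Set G)) : W.map (MulAut.conj h).toMonoidHom = W := by
  ext x
  rw [mem_map_conj_iff]
  have h2 : h⁻¹ ∈ Subgroup.normalizer (W : Set G) := Subgroup.inv_mem _ hh
  rw [Subgroup.mem_normalizer_iff] at h2
  rw [h2 x, inv_inv]

end Cfsg.Agent.Lib.Helper9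

namespace Cfsg.Agent.Lib.Helper9

theorem conj_mem_normalizer_map_conj {G : Type*} [Group G] {X : Subgroup G} {n : G} (c : G)
    (hn : n ∈ Subgroup.normalizer (X : Set G)) :
    c * n * c⁻¹ ∈ Subgroup.normalizer ((X.map (MulAut.conj c).toMonoidHom : Subgroup G) : Set G) := by
  apply mem_normalizer_of_map_conj_eq
  have h1 := map_conj_eq_of_mem_normalizer hn
  ext x
  rw [mem_map_conj_iff, mem_map_conj_iff, mem_map_conj_iff]
  have h2 : ∀ y, y ∈ X ↔ n⁻¹ * y * n ∈ X := by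
    intro y
    conv_lhs => rw [← h1]
    rw [mem_map_conj_iff]
  rw [h2 (c⁻¹ * x * c)]
  have : (c * n * c⁻¹)⁻¹ * x * (c * n * c⁻¹) = c * (n⁻¹ * (c⁻¹ * x * c) * n) * c⁻¹ := by group
  rw [this]
  have : c⁻¹ * (c * (n⁻¹ * (c⁻¹ * x * c) * n) * c⁻¹) * c = n⁻¹ * (c⁻¹ * x * c) * n := by group
  rw [this]

theorem exists_conj_le_sylowOf {G : Type*} [Group G] [Finite G] {p : ℕ} [Fact p.Prime]
    (H : Subgroup G) (P : Sylow p ↥H) (Q : Subgroup G)
    (hQ : IsPGroup p Q) (hQH : Q ≤ H) :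
    ∃ m ∈ H, ∀ q ∈ Q, m * q * m⁻¹ ∈ (P : Subgroup ↥H).map H.subtype := by
  have hQ' : IsPGroup p (Q.subgroupOf H) :=
    hQ.comap_of_injective H.subtype H.subtype_injective
  obtain ⟨R, hR⟩ := hQ'.exists_le_sylow
  obtain ⟨h, hh⟩ := sylow_conj P R
  refine ⟨h, h.2, fun q hq => ?_⟩
  have h1 : (⟨q, hQH hq⟩ : H) ∈ (R : Subgroup H) := hR (by simpa [Subgroup.mem_subgroupOf] using hq)
  have h2 := (hh _).1 h1
  exact ⟨_, h2, by simp⟩

theorem exists_normalizer_not_mem {G : Type*} [Group G] [Finite G] {p : ℕ} [Fact p.Prime]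
    (P₁ R : Subgroup G) (hP₁ : IsPGroup p P₁) (hR : R ≤ P₁) (hne : ¬ P₁ ≤ R) :
    ∃ x ∈ P₁, x ∉ R ∧ x ∈ Subgroup.normalizer (R : Set G) := by
  have hnil : Group.IsNilpotent P₁ := hP₁.isNilpotent
  have hlt : R.subgroupOf P₁ < ⊤ := by
    rw [lt_top_iff_ne_top]
    intro h
    apply hne
    rw [Subgroup.subgroupOf_eq_top] at h
    exact h
  have h1 := Group.normalizerCondition_of_isNilpotent (G := P₁) (R.subgroupOf P₁) hlt
  obtain ⟨x, hxN, hxR⟩ := SetLike.exists_of_lt h1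
  refine ⟨x, x.2, fun h => hxR (Subgroup.mem_subgroupOf.2 h), ?_⟩
  rw [Subgroup.mem_normalizer_iff] at hxN ⊢
  intro y
  constructor
  · intro hy
    have := (hxN ⟨y, hR hy⟩).1 (Subgroup.mem_subgroupOf.2 hy)
    simpa [Subgroup.mem_subgroupOf] using this
  · intro hy
    have hyP : y ∈ P₁ := by
      have h2 : (x : G)⁻¹ * ((x : G) * y * (x : G)⁻¹) * (x : G) ∈ P₁ :=
        P₁.mul_mem (P₁.mul_mem (P₁.inv_mem x.2) (hR hy)) x.2
      have h3 : (x : G)⁻¹ * ((x : G) * y * (x : G)⁻¹) * (x : G) = y := by group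
      rwa [h3] at h2
    have := (hxN ⟨y, hyP⟩).2 (by simpa [Subgroup.mem_subgroupOf] using hy)
    simpa [Subgroup.mem_subgroupOf] using this

end Cfsg.Agent.Lib.Helper9
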