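import Mathlib
import Cfsg.Prelude.Def_Local
import Cfsg.Agent.Lib.Helper1.Fitting
import Cfsg.Agent.Lib.Helper12.Local
import Cfsg.Agent.Lib.Helper9.SylowConj

set_option autoImplicit false

namespace Cfsg.Agent.Lib.Helper9

theorem map_center_subtype' {G : Type*} [Group G] (A : Subgroup G) :
    (Subgroup.center ↥A).map A.subtype = A ⊓ Subgroup.centralizer (A : Set G) := by
  ext x
  constructor
  · rintro ⟨a, ha, rfl⟩
    rw [SetLike.mem_coe, Subgroup.mem_center_iff] at ha
    refine Subgroup.mem_inf.2 ⟨a.2, ?_⟩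
    rw [Subgroup.mem_centralizer_iff]
    intro b hb
    exact congrArg Subtype.val (ha ⟨b, hb⟩)
  · intro hx
    obtain ⟨hxA, hxc⟩ := Subgroup.mem_inf.1 hx
    rw [Subgroup.mem_centralizer_iff] at hxc
    refine ⟨⟨x, hxA⟩, ?_, rfl⟩
    rw [SetLike.mem_coe, Subgroup.mem_center_iff]
    intro b
    ext
    exact hxc b b.2

/-- A nilpotent subgroup that is normal in a normal subgroup lies in the Fitting subgroup. -/
theorem nilpotent_normal_in_normal_le_fitting {G : Type*} [Group G] [Finite G]
    (C N : Subgroup G) [hC : C.Normal] (hNC : N ≤ C)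
    (hnorm : C ≤ Subgroup.normalizer (N : Set G)) (hnil : Group.IsNilpotent N) :
    N ≤ Cfsg.fittingSubgroup G := by
  have hN'n : (N.subgroupOf C).Normal := (Subgroup.normal_subgroupOf_iff_le_normalizer hNC).2 hnorm
  have hN'nil : Group.IsNilpotent (N.subgroupOf C) :=
    Group.nilpotent_of_mulEquiv (Subgroup.subgroupOfEquivOfLe hNC).symm
  have h1 : N.subgroupOf C ≤ Cfsg.fittingSubgroup ↥C :=
    Cfsg.Agent.Lib.Helper1.le_fittingSubgroup hN'n hN'nil
  have hchar : (Cfsg.fittingSubgroup ↥C).Characteristic :=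
    Cfsg.Agent.Lib.Helper12.fittingSubgroup_characteristic ↥C
  have hFCn : ((Cfsg.fittingSubgroup ↥C).map C.subtype).Normal :=
    ConjAct.normal_of_characteristic_of_normal
  have hFCnil : Group.IsNilpotent (Cfsg.fittingSubgroup ↥C) :=
    Cfsg.Agent.Lib.Helper1.fittingSubgroup_nilpotent
  have hFCnil' : Group.IsNilpotent ((Cfsg.fittingSubgroup ↥C).map C.subtype) :=
    Group.nilpotent_of_mulEquiv
      ((Cfsg.fittingSubgroup ↥C).equivMapOfInjective C.subtype C.subtype_injective)
  have h2 : (Cfsg.fittingSubgroup ↥C).map C.subtype ≤ Cfsg.fittingSubgroup G :=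
    Cfsg.Agent.Lib.Helper1.le_fittingSubgroup hFCn hFCnil'
  have h3 : N = (N.subgroupOf C).map C.subtype := (Subgroup.map_subgroupOf_eq_of_le hNC).symm
  rw [h3]
  exact (Subgroup.map_mono h1).trans h2

/-- If `[N,N] ≤ Z(N)` then `N` is nilpotent. -/
theorem isNilpotent_of_commutator_le_center {N : Type*} [Group N]
    (h : commutator N ≤ Subgroup.center N) : Group.IsNilpotent N := by
  have hcomm : IsMulCommutative (N ⧸ Subgroup.center N) :=
    (Subgroup.Normal.quotient_commutative_iff_commutator_le).2 h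
  have : Group.IsNilpotent (N ⧸ Subgroup.center N) := by
    let _ : CommGroup (N ⧸ Subgroup.center N) := { mul_comm := hcomm.is_comm.comm }
    exact CommGroup.isNilpotent
  exact Subgroup.isNilpotent_of_ker_le_center (QuotientGroup.mk' (Subgroup.center N))
    (by rw [QuotientGroup.ker_mk'])

end Cfsg.Agent.Lib.Helper9
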