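import Mathlib
import Cfsg.Prelude.Def_CaseTheorems

set_option autoImplicit false

namespace Cfsg.Agent.Lib.Helper9

open scoped commutatorElement

theorem map_center_mulEquiv {X Y : Type*} [Group X] [Group Y] (e : X ≃* Y) :
    (Subgroup.center X).map (e : X →* Y) = Subgroup.center Y := by
  ext y
  constructor
  · rintro ⟨x, hx, rfl⟩
    rw [SetLike.mem_coe] at hx
    rw [Subgroup.mem_center_iff] at hx ⊢
    intro g
    obtain ⟨g', rfl⟩ := e.surjective g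
    change e g' * e x = e x * e g'
    rw [← map_mul, ← map_mul, hx g']
  · intro hy
    refine ⟨e.symm y, ?_, by simp⟩
    rw [SetLike.mem_coe]
    rw [Subgroup.mem_center_iff] at hy ⊢
    intro g
    apply e.injective
    rw [map_mul, map_mul, e.apply_symm_apply, hy]

theorem isQuasisimple_of_mulEquiv {X Y : Type*} [Group X] [Group Y] (e : X ≃* Y)
    (hX : Cfsg.IsQuasisimple X) : Cfsg.IsQuasisimple Y := by
  obtain ⟨hp, hs⟩ := hX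
  refine ⟨?_, ?_⟩
  · exact Group.IsPerfect.ofSurjective (f := (e : X →* Y)) e.surjective
  · have e' : X ⧸ Subgroup.center X ≃* Y ⧸ Subgroup.center Y :=
      QuotientGroup.congr _ _ e (map_center_mulEquiv e)
    exact e'.symm.isSimpleGroup

theorem commutator_sup_center_le {X : Type*} [Group X] (H : Subgroup X) :
    ⁅H ⊔ Subgroup.center X, H ⊔ Subgroup.center X⁆ ≤ ⁅H, H⁆ := by
  rw [Subgroup.commutator_le]
  intro g₁ hg₁ g₂ hg₂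
  rw [Subgroup.mem_sup_of_normal_right] at hg₁ hg₂
  obtain ⟨h₁, hh₁, z₁, hz₁, rfl⟩ := hg₁
  obtain ⟨h₂, hh₂, z₂, hz₂, rfl⟩ := hg₂
  rw [Subgroup.mem_center_iff] at hz₁ hz₂
  have : ⁅h₁ * z₁, h₂ * z₂⁆ = ⁅h₁, h₂⁆ := by
    rw [commutatorElement_def, commutatorElement_def]
    have a1 : (h₁ * z₁)⁻¹ = z₁⁻¹ * h₁⁻¹ := by group
    have a2 : (h₂ * z₂)⁻¹ = z₂⁻¹ * h₂⁻¹ := by group
    have hz₁i : ∀ g : X, g * z₁⁻¹ = z₁⁻¹ * g := by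
      intro g
      have := hz₁ g
      calc g * z₁⁻¹ = z₁⁻¹ * (z₁ * g) * z₁⁻¹ := by group
        _ = z₁⁻¹ * (g * z₁) * z₁⁻¹ := by rw [this]
        _ = z₁⁻¹ * g := by group
    have hz₂i : ∀ g : X, g * z₂⁻¹ = z₂⁻¹ * g := by
      intro g
      have := hz₂ g
      calc g * z₂⁻¹ = z₂⁻¹ * (z₂ * g) * z₂⁻¹ := by group
        _ = z₂⁻¹ * (g * z₂) * z₂⁻¹ := by rw [this]
        _ = z₂⁻¹ * g := by group
    calc h₁ * z₁ * (h₂ * z₂) * (h₁ * z₁)⁻¹ * (h₂ * z₂)⁻¹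
        = h₁ * (z₁ * h₂) * (z₂ * z₁⁻¹) * h₁⁻¹ * (z₂⁻¹ * h₂⁻¹) := by rw [a1, a2]; group
      _ = h₁ * (h₂ * z₁) * (z₁⁻¹ * z₂) * h₁⁻¹ * (z₂⁻¹ * h₂⁻¹) := by rw [← hz₁ h₂, hz₁i z₂]
      _ = h₁ * h₂ * (z₂ * h₁⁻¹) * z₂⁻¹ * h₂⁻¹ := by group
      _ = h₁ * h₂ * (h₁⁻¹ * z₂) * z₂⁻¹ * h₂⁻¹ := by rw [← hz₂ h₁⁻¹]
      _ = h₁ * h₂ * h₁⁻¹ * h₂⁻¹ := by group
  rw [this]
  exact Subgroup.commutator_mem_commutator hh₁ hh₂

end Cfsg.Agent.Lib.Helper9
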