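import Mathlib
import Cfsg.Prelude.Def_Local
import Cfsg.Agent.Lib.Helper9.Quasisimple

set_option autoImplicit false

namespace Cfsg.Agent.Lib.Helper9

open scoped commutatorElement

theorem quasisimple_normal_top_or_central {X : Type*} [Group X] (hX : Cfsg.IsQuasisimple X)
    (H : Subgroup X) (hH : H.Normal) : H = ⊤ ∨ H ≤ Subgroup.center X := by
  obtain ⟨hp, hs⟩ := hX
  have hn : (H.map (QuotientGroup.mk' (Subgroup.center X))).Normal :=
    hH.map _ (QuotientGroup.mk'_surjective _)
  rcases hn.eq_bot_or_eq_top with h | h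
  · right
    rw [Subgroup.map_eq_bot_iff, QuotientGroup.ker_mk'] at h
    exact h
  · left
    have h1 : H ⊔ Subgroup.center X = ⊤ := by
      have := Subgroup.comap_map_eq (QuotientGroup.mk' (Subgroup.center X)) H
      rw [h, Subgroup.comap_top, QuotientGroup.ker_mk'] at this
      exact this.symm
    have h2 : (⊤ : Subgroup X) = ⁅(⊤ : Subgroup X), ⊤⁆ := by
      have := hp.commutator_eq_top
      rw [commutator_def] at this
      exact this.symm
    rw [eq_top_iff, h2]
    conv_lhs => rw [← h1]
    exact (commutator_sup_center_le H).trans (Subgroup.commutator_le_right H H)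

theorem quasisimple_subnormal_top_or_central {X : Type*} [Group X] (hX : Cfsg.IsQuasisimple X)
    (H : Subgroup X) (hH : H.IsSubnormal) : H = ⊤ ∨ H ≤ Subgroup.center X := by
  induction hH with
  | top => left; rfl
  | step H K hle hK hN ih =>
    rcases ih with rfl | h
    · apply quasisimple_normal_top_or_central hX
      rw [Subgroup.normal_subgroupOf_iff hle] at hN
      exact ⟨fun n hn g => hN n g hn (Subgroup.mem_top g)⟩
    · right; exact hle.trans h

theorem isComponent_subgroupOf {G : Type*} [Group G] {L X : Subgroup G}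
    (hL : Cfsg.IsComponent L) (hLX : L ≤ X) : Cfsg.IsComponent (L.subgroupOf X) :=
  ⟨hL.1.subgroupOf, isQuasisimple_of_mulEquiv (Subgroup.subgroupOfEquivOfLe hLX).symm hL.2⟩

theorem isComponent_of_subgroupOf {G : Type*} [Group G] {L X : Subgroup G}
    (hL : Cfsg.IsComponent (L.subgroupOf X)) (hLX : L ≤ X) (hX : X.IsSubnormal) :
    Cfsg.IsComponent L :=
  ⟨hL.1.trans hLX hX, isQuasisimple_of_mulEquiv (Subgroup.subgroupOfEquivOfLe hLX) hL.2⟩

theorem commutator_subgroupOf_eq_bot_iff {G : Type*} [Group G] {A B X : Subgroup G}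
    (hA : A ≤ X) (hB : B ≤ X) :
    ⁅A.subgroupOf X, B.subgroupOf X⁆ = ⊥ ↔ ⁅A, B⁆ = ⊥ := by
  rw [← Subgroup.map_eq_bot_iff_of_injective _ X.subtype_injective, Subgroup.map_commutator,
    Subgroup.map_subgroupOf_eq_of_le hA, Subgroup.map_subgroupOf_eq_of_le hB]

theorem subgroupOf_le_subgroupOf_iff {G : Type*} [Group G] {A B X : Subgroup G}
    (hA : A ≤ X) : A.subgroupOf X ≤ B.subgroupOf X ↔ A ≤ B := by
  constructor
  · intro h a ha
    have := h (show (⟨a, hA ha⟩ : X) ∈ A.subgroupOf X from ha)
    exact this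
  · intro h x hx
    exact h hx

theorem card_subgroup_lt_of_ne_top {G : Type*} [Group G] [Finite G] {X : Subgroup G}
    (hX : X ≠ ⊤) : Nat.card X < Nat.card G := by
  have h1 : Nat.card X ≤ Nat.card G := Subgroup.card_le_card_group X
  rcases h1.lt_or_eq with h | h
  · exact h
  · exact absurd (Subgroup.card_eq_iff_eq_top X |>.1 h) hX

theorem normalClosure_ne_top_of_subnormal {G : Type*} [Group G] {H : Subgroup G}
    (hH : H.IsSubnormal) (hne : H ≠ ⊤) : Subgroup.normalClosure (H : Set G) ≠ ⊤ := by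
  obtain ⟨K, hKn, hHK, hKlt⟩ := hH.exists_normal_and_le_and_lt_top_of_ne hne
  intro h
  have : Subgroup.normalClosure (H : Set G) ≤ K := Subgroup.normalClosure_le_normal hHK
  rw [h] at this
  exact hKlt.ne (eq_top_iff.2 this)

/-- A component is contained in, or commutes with, any subnormal subgroup. -/
theorem component_le_or_commute_aux (n : ℕ) : ∀ (G : Type*) [Group G] [Finite G],
    Nat.card G = n → ∀ L H : Subgroup G, Cfsg.IsComponent L → H.IsSubnormal →
      L ≤ H ∨ ⁅L, H⁆ = ⊥ := by
  induction n using Nat.strong_induction_on with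
  | _ n ih =>
    intro G _ _ hn L H hL hH
    by_cases hHtop : H = ⊤
    · left; rw [hHtop]; exact le_top
    by_cases hLtop : L = ⊤
    · -- G itself is quasisimple
      subst hLtop
      have hG : Cfsg.IsQuasisimple G := isQuasisimple_of_mulEquiv Subgroup.topEquiv hL.2
      rcases quasisimple_subnormal_top_or_central hG H hH with h | h
      · exact absurd h hHtop
      · right
        rw [Subgroup.commutator_top_left_eq_bot_iff_le_center]
        exact h
    set X := Subgroup.normalClosure (L : Set G) with hX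
    set Y := Subgroup.normalClosure (H : Set G) with hY
    have hXne : X ≠ ⊤ := normalClosure_ne_top_of_subnormal hL.1 hLtop
    have hYne : Y ≠ ⊤ := normalClosure_ne_top_of_subnormal hH hHtop
    have hLX : L ≤ X := Subgroup.le_normalClosure
    have hHY : H ≤ Y := Subgroup.le_normalClosure
    have hXn : X.Normal := Subgroup.normalClosure_normal
    have hYn : Y.Normal := Subgroup.normalClosure_normal
    have hcardX : Nat.card X < n := hn ▸ card_subgroup_lt_of_ne_top hXne
    have hcardY : Nat.card Y < n := hn ▸ card_subgroup_lt_of_ne_top hYne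
    -- apply IH in X to L and X ⊓ Y
    have h1 := ih _ hcardX X rfl (L.subgroupOf X) ((X ⊓ Y).subgroupOf X)
      (isComponent_subgroupOf hL hLX)
      ((inferInstance : (X ⊓ Y).Normal).isSubnormal.subgroupOf)
    rcases h1 with h1 | h1
    · -- L ≤ X ⊓ Y ≤ Y : apply IH in Y
      rw [subgroupOf_le_subgroupOf_iff hLX] at h1
      have hLY : L ≤ Y := h1.trans inf_le_right
      have h2 := ih _ hcardY Y rfl (L.subgroupOf Y) (H.subgroupOf Y)
        (isComponent_subgroupOf hL hLY) hH.subgroupOf
      rcases h2 with h2 | h2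
      · left; exact (subgroupOf_le_subgroupOf_iff hLY).1 h2
      · right; exact (commutator_subgroupOf_eq_bot_iff hLY hHY).1 h2
    · -- [L, X ⊓ Y] = 1
      right
      rw [commutator_subgroupOf_eq_bot_iff hLX inf_le_left] at h1
      have h3 : ⁅H, L⁆ ≤ X ⊓ Y := by
        calc ⁅H, L⁆ ≤ ⁅Y, X⁆ := Subgroup.commutator_mono hHY hLX
          _ ≤ Y ⊓ X := Subgroup.commutator_le_inf Y X
          _ = X ⊓ Y := inf_comm _ _
      have h4 : ⁅⁅H, L⁆, L⁆ = ⊥ := by
        rw [eq_bot_iff]
        calc ⁅⁅H, L⁆, L⁆ ≤ ⁅X ⊓ Y, L⁆ := Subgroup.commutator_mono h3 le_rfl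
          _ = ⁅L, X ⊓ Y⁆ := Subgroup.commutator_comm _ _
          _ = ⊥ := h1
      have h5 : ⁅⁅L, H⁆, L⁆ = ⊥ := by rw [Subgroup.commutator_comm L H]; exact h4
      have h6 : ⁅⁅L, L⁆, H⁆ = ⊥ := Subgroup.commutator_commutator_eq_bot_of_rotate h5 h4
      have hperf : ⁅L, L⁆ = L := by
        have : Group.IsPerfect L := hL.2.1
        exact Subgroup.isPerfect_iff.1 this
      rwa [hperf] at h6

theorem component_le_or_commute {G : Type*} [Group G] [Finite G] (L H : Subgroup G)
    (hL : Cfsg.IsComponent L) (hH : H.IsSubnormal) : L ≤ H ∨ ⁅L, H⁆ = ⊥ :=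
  component_le_or_commute_aux _ G rfl L H hL hH

end Cfsg.Agent.Lib.Helper9
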