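import Mathlib
import Cfsg.Prelude.Def_Local
import Cfsg.Agent.Lib.Helper9.FittingExtra
import Cfsg.Agent.Lib.Helper9.Components

set_option autoImplicit false

namespace Cfsg.Agent.Lib.Helper9

/-- Solvable subgroups of `C_G(F(G))` normalized by `C_G(F(G))` lie in `F(G)`. -/
theorem solvable_le_fitting_aux {G : Type*} [Group G] [Finite G] (n : ℕ) :
    ∀ N : Subgroup G, Nat.card N = n →
    N ≤ Subgroup.centralizer (Cfsg.fittingSubgroup G : Set G) →
    Subgroup.centralizer (Cfsg.fittingSubgroup G : Set G) ≤ Subgroup.normalizer (N : Set G) →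
    Group.IsSolvable ↥N → N ≤ Cfsg.fittingSubgroup G := by
  induction n using Nat.strong_induction_on with
  | _ n ih =>
    intro N hcard hNC hnorm hsolv
    have hFn : (Cfsg.fittingSubgroup G).Normal := Cfsg.Agent.Lib.Helper1.fittingSubgroup_normal
    set C := Subgroup.centralizer (Cfsg.fittingSubgroup G : Set G) with hC
    have hCn : C.Normal := Subgroup.normal_centralizer
    by_cases htriv : Nontrivial N
    · set D := ⁅N, N⁆ with hD
      have hDN : D ≤ N := Subgroup.commutator_le_self N
      have hDlt : Nat.card D < Nat.card N := by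
        have h1 := hsolv.commutator_lt_top_of_nontrivial N
        have h2 : D = (commutator N).map N.subtype := (Subgroup.map_subtype_commutator N).symm
        rw [h2, Subgroup.card_map_of_injective N.subtype_injective]
        have h3 : Nat.card (commutator N) ≤ Nat.card N := Subgroup.card_le_card_group _
        rcases h3.lt_or_eq with h | h
        · exact h
        · exact absurd ((Subgroup.card_eq_iff_eq_top _).1 h) h1.ne
      have hDC : D ≤ C := hDN.trans hNC
      have hDnorm : C ≤ Subgroup.normalizer (D : Set G) := by
        intro c hc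
        apply mem_normalizer_of_map_conj_eq
        have h1 : N.map (MulAut.conj c).toMonoidHom = N := map_conj_eq_of_mem_normalizer (hnorm hc)
        rw [hD, Subgroup.map_commutator, h1]
      have hDsolv : Group.IsSolvable D :=
        Group.isSolvable_of_isSolvable_injective (Subgroup.inclusion_injective hDN)
      have hDF : D ≤ Cfsg.fittingSubgroup G := ih _ (hcard ▸ hDlt) D rfl hDC hDnorm hDsolv
      have hnil : Group.IsNilpotent N := by
        apply isNilpotent_of_commutator_le_center
        intro x hx
        rw [Subgroup.mem_center_iff]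
        intro g
        have hxD : (x : G) ∈ D := by
          rw [hD, ← Subgroup.map_subtype_commutator]
          exact ⟨x, hx, rfl⟩
        have hxF := hDF hxD
        have hgC := hNC g.2
        rw [hC, Subgroup.mem_centralizer_iff] at hgC
        ext
        exact (hgC x hxF).symm
      exact nilpotent_normal_in_normal_le_fitting C N hNC hnorm hnil
    · rw [not_nontrivial_iff_subsingleton] at htriv
      rw [Subgroup.eq_bot_of_subsingleton N]
      exact bot_le

/-- A finite solvable group whose Fitting subgroup is central is abelian. -/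
theorem comm_of_solvable_of_fitting_le_center {T : Type*} [Group T] [Finite T]
    (hsolv : Group.IsSolvable T) (hF : Cfsg.fittingSubgroup T ≤ Subgroup.center T) :
    ∀ a b : T, a * b = b * a := by
  have hcent : Subgroup.centralizer (Cfsg.fittingSubgroup T : Set T) = ⊤ := by
    rw [eq_top_iff]
    intro x _
    rw [Subgroup.mem_centralizer_iff]
    intro f hf
    have := hF hf
    rw [Subgroup.mem_center_iff] at this
    exact (this x).symm
  have h1 : (⊤ : Subgroup T) ≤ Cfsg.fittingSubgroup T := by
    apply solvable_le_fitting_aux _ ⊤ rfl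
    · rw [hcent]
    · rw [hcent]; exact fun x _ => by rw [Subgroup.normalizer_eq_top]; exact Subgroup.mem_top x
    · exact Group.isSolvable_of_isSolvable_injective (f := (⊤ : Subgroup T).subtype)
        (Subgroup.subtype_injective _)
  intro a b
  have ha := hF (h1 (Subgroup.mem_top a))
  rw [Subgroup.mem_center_iff] at ha
  exact (ha b).symm

/-- The Fitting subgroup of a subnormal subgroup lies in the Fitting subgroup. -/
theorem fitting_map_le_of_subnormal {X : Type*} [Group X] [Finite X] (T : Subgroup X)
    (hT : T.IsSubnormal) :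
    (Cfsg.fittingSubgroup ↥T).map T.subtype ≤ Cfsg.fittingSubgroup X := by
  induction hT with
  | top =>
    have hchar : (Cfsg.fittingSubgroup ↥(⊤ : Subgroup X)).Characteristic :=
      Cfsg.Agent.Lib.Helper12.fittingSubgroup_characteristic _
    have hn : ((Cfsg.fittingSubgroup ↥(⊤ : Subgroup X)).map (⊤ : Subgroup X).subtype).Normal :=
      ConjAct.normal_of_characteristic_of_normal
    have hnil : Group.IsNilpotent (Cfsg.fittingSubgroup ↥(⊤ : Subgroup X)) :=
      Cfsg.Agent.Lib.Helper1.fittingSubgroup_nilpotent
    have hnil' : Group.IsNilpotent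
        ((Cfsg.fittingSubgroup ↥(⊤ : Subgroup X)).map (⊤ : Subgroup X).subtype) :=
      Group.nilpotent_of_mulEquiv
        ((Cfsg.fittingSubgroup ↥(⊤ : Subgroup X)).equivMapOfInjective _
          (Subgroup.subtype_injective _))
    exact Cfsg.Agent.Lib.Helper1.le_fittingSubgroup hn hnil'
  | step H K hle hK hN ih =>
    refine le_trans ?_ ih
    -- work inside K
    set H' := H.subgroupOf K with hH'
    have hchar : (Cfsg.fittingSubgroup ↥H').Characteristic :=
      Cfsg.Agent.Lib.Helper12.fittingSubgroup_characteristic _
    have hn : ((Cfsg.fittingSubgroup ↥H').map H'.subtype).Normal :=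
      ConjAct.normal_of_characteristic_of_normal
    have hnil : Group.IsNilpotent (Cfsg.fittingSubgroup ↥H') :=
      Cfsg.Agent.Lib.Helper1.fittingSubgroup_nilpotent
    have hnil' : Group.IsNilpotent ((Cfsg.fittingSubgroup ↥H').map H'.subtype) :=
      Group.nilpotent_of_mulEquiv
        ((Cfsg.fittingSubgroup ↥H').equivMapOfInjective _ (Subgroup.subtype_injective _))
    have h1 : (Cfsg.fittingSubgroup ↥H').map H'.subtype ≤ Cfsg.fittingSubgroup ↥K :=
      Cfsg.Agent.Lib.Helper1.le_fittingSubgroup hn hnil'
    obtain ⟨e, he⟩ : ∃ e : H' ≃* H, ∀ x : H', ((e x : H) : X) = ((x : K) : X) :=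
      ⟨Subgroup.subgroupOfEquivOfLe hle, fun x => rfl⟩
    have h2 : (Cfsg.fittingSubgroup ↥H').map e.toMonoidHom = Cfsg.fittingSubgroup ↥H :=
      Cfsg.Agent.Lib.Helper12.fittingSubgroup_map_mulEquiv e
    have h3 : (Cfsg.fittingSubgroup ↥H).map H.subtype
        = ((Cfsg.fittingSubgroup ↥H').map H'.subtype).map K.subtype := by
      rw [← h2, Subgroup.map_map, Subgroup.map_map]
      congr 1
      ext x
      exact he x
    rw [h3]
    exact Subgroup.map_mono h1

end Cfsg.Agent.Lib.Helper9
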