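import Mathlib
import Cfsg.Prelude.Def_Local
import Cfsg.Agent.Lib.Helper9.GenFitting

set_option autoImplicit false

namespace Cfsg.Agent.Lib.Helper9

/-- A subnormal solvable subgroup of a finite group with central Fitting subgroup is central. -/
theorem solvable_subnormal_le_center {C : Type*} [Group C] [Finite C]
    (hF : Cfsg.fittingSubgroup C ≤ Subgroup.center C) (T : Subgroup C) (hT : T.IsSubnormal)
    (hsolv : Group.IsSolvable T) : T ≤ Subgroup.center C := by
  have h1 : (Cfsg.fittingSubgroup ↥T).map T.subtype ≤ Subgroup.center C :=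
    (fitting_map_le_of_subnormal T hT).trans hF
  have h2 : Cfsg.fittingSubgroup ↥T ≤ Subgroup.center ↥T := by
    intro x hx
    have := h1 ⟨x, hx, rfl⟩
    rw [Subgroup.mem_center_iff] at this ⊢
    intro g
    ext
    exact this g
  have hcomm := comm_of_solvable_of_fitting_le_center hsolv h2
  have hnil : Group.IsNilpotent (⊤ : Subgroup T) := by
    let _ : CommGroup (⊤ : Subgroup T) :=
      { mul_comm := fun a b => by ext; exact congrArg _ (hcomm a b) }
    exact CommGroup.isNilpotent
  have h3 : (⊤ : Subgroup T) ≤ Cfsg.fittingSubgroup ↥T :=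
    Cfsg.Agent.Lib.Helper1.le_fittingSubgroup inferInstance hnil
  intro t ht
  exact h1 ⟨⟨t, ht⟩, h3 (Subgroup.mem_top _), rfl⟩

/-- A finite non-abelian group with central Fitting subgroup has a component. -/
theorem exists_component_of_fitting_central {C : Type*} [Group C] [Finite C]
    (hF : Cfsg.fittingSubgroup C ≤ Subgroup.center C) (hna : ∃ a b : C, a * b ≠ b * a) :
    ∃ K : Subgroup C, Cfsg.IsComponent K := by
  -- C is not solvable
  have hCns : ¬ Group.IsSolvable C := by
    intro hs
    obtain ⟨a, b, hab⟩ := hna
    exact hab (comm_of_solvable_of_fitting_le_center hs hF a b)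
  set S : Set (Subgroup C) := {K | K.IsSubnormal ∧ ¬ Group.IsSolvable K} with hS
  have hSne : S.Nonempty := by
    refine ⟨⊤, Subgroup.IsSubnormal.top, ?_⟩
    intro hs
    apply hCns
    exact Group.isSolvable_of_isSolvable_injective (f := (Subgroup.topEquiv (G := C)).symm.toMonoidHom)
      (Subgroup.topEquiv (G := C)).symm.injective
  obtain ⟨K, hKS, hKmin⟩ := (measure (fun K : Subgroup C => Nat.card K)).wf.has_min S hSne
  obtain ⟨hKsn, hKns⟩ := hKS
  -- proper normal subgroups of K are central in C
  have hprop : ∀ T : Subgroup C, T ≤ K → (T.subgroupOf K).Normal → T ≠ K →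
      T ≤ Subgroup.center C := by
    intro T hTK hTn hTne
    have hTsn : T.IsSubnormal := Subgroup.IsSubnormal.step T K hTK hKsn hTn
    have hlt : Nat.card T < Nat.card K := by
      have h1 : Nat.card T ≤ Nat.card K := Subgroup.card_le_of_le hTK
      rcases h1.lt_or_eq with h | h
      · exact h
      · exfalso; apply hTne
        exact Subgroup.eq_of_le_of_card_ge hTK h.ge
    have hTsolv : Group.IsSolvable T := by
      by_contra hns
      exact hKmin T ⟨hTsn, hns⟩ hlt
    exact solvable_subnormal_le_center hF T hTsn hTsolv
  -- K is perfect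
  have hperf : Group.IsPerfect K := by
    rw [Subgroup.isPerfect_iff]
    by_contra hne
    have hle : ⁅K, K⁆ ≤ K := Subgroup.commutator_le_self K
    have hn : (⁅K, K⁆.subgroupOf K).Normal := by
      rw [Subgroup.normal_subgroupOf_iff_le_normalizer hle]
      exact Subgroup.normalizer_commutator_ge_left (H₁ := K) (H₂ := K)
    have hcen := hprop ⁅K, K⁆ hle hn hne
    apply hKns
    have h2 : Group.IsSolvable (commutator K) := by
      apply Group.isSolvable_of_comm
      intro a b
      have ha : ((a : K) : C) ∈ ⁅K, K⁆ := by
        rw [← Subgroup.map_subtype_commutator]; exact ⟨a, a.2, rfl⟩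
      have := hcen ha
      rw [Subgroup.mem_center_iff] at this
      ext
      exact (this b).symm
    have h3 : Group.IsSolvable (K ⧸ commutator K) := by
      have : Group.IsSolvable (Abelianization K) := inferInstance
      exact this
    exact (Group.isSolvable_iff_subgroup_quotient (commutator K)).2 ⟨h2, h3⟩
  have hKnt : Nontrivial K := by
    by_contra h
    rw [not_nontrivial_iff_subsingleton] at h
    exact hKns inferInstance
  refine ⟨K, hKsn, hperf, ?_⟩
  -- simplicity of K / Z(K)
  have hZne : Subgroup.center K ≠ ⊤ := by
    intro h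
    rw [Subgroup.center_eq_top_iff] at h
    exact Group.IsPerfect.not_isMulCommutative K h
  refine { exists_pair_ne := ?_, eq_bot_or_eq_top_of_normal := ?_ }
  · obtain ⟨x, hx⟩ : ∃ x : K, x ∉ Subgroup.center K := by
      by_contra h
      push Not at h
      exact hZne (eq_top_iff.2 fun x _ => h x)
    refine ⟨QuotientGroup.mk x, 1, ?_⟩
    intro h
    rw [QuotientGroup.eq_one_iff] at h
    exact hx h
  · intro Nbar hNbar
    set N := Nbar.comap (QuotientGroup.mk' (Subgroup.center K)) with hN
    have hNn : N.Normal := hNbar.comap _
    have hNbarN : Nbar = N.map (QuotientGroup.mk' (Subgroup.center K)) := by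
      rw [hN, Subgroup.map_comap_eq_self_of_surjective (QuotientGroup.mk'_surjective _)]
    set T := N.map K.subtype with hT
    have hTK : T ≤ K := Subgroup.map_subtype_le N
    have hTsub : T.subgroupOf K = N :=
      Subgroup.comap_map_eq_self_of_injective K.subtype_injective N
    have hTn : (T.subgroupOf K).Normal := by rw [hTsub]; exact hNn
    by_cases hTeq : T = K
    · right
      have : N = ⊤ := by
        rw [← hTsub, hTeq]; exact Subgroup.subgroupOf_self K
      rw [hNbarN, this, Subgroup.map_top_of_surjective _ (QuotientGroup.mk'_surjective _)]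
    · left
      have hcen := hprop T hTK hTn hTeq
      have hNle : N ≤ Subgroup.center K := by
        intro x hx
        have := hcen ⟨x, hx, rfl⟩
        rw [Subgroup.mem_center_iff] at this ⊢
        intro g
        ext
        exact this g
      rw [hNbarN, Subgroup.map_eq_bot_iff, QuotientGroup.ker_mk']
      exact hNle

end Cfsg.Agent.Lib.Helper9
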