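import Mathlib
import Cfsg.Prelude.Def_PLocal
import Cfsg.Agent.Lib.helper17.SylowNormal
import Cfsg.Agent.Lib.Helper1.Cores

set_option autoImplicit false

namespace Cfsg.Agent.Lib.Helper9

open scoped Pointwise

section ZJ

variable {G : Type*} [Group G]

/-- The subgroups of `D` satisfying `Q` of the largest possible order. -/
def famQ (Q : Subgroup G → Prop) (D : Subgroup G) : Set (Subgroup G) :=
  {A | A ≤ D ∧ Q A ∧ ∀ V : Subgroup G, V ≤ D → Q V → Nat.card V ≤ Nat.card A}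

/-- The intersection of the members of `famQ Q D`. -/
def zfam (Q : Subgroup G → Prop) (D : Subgroup G) : Subgroup G := sInf (famQ Q D)

theorem famQ_nonempty [Finite G] (Q : Subgroup G → Prop) (hbot : Q ⊥) (D : Subgroup G) :
    (famQ Q D).Nonempty := by
  classical
  have hfin : Set.Finite {V : Subgroup G | V ≤ D ∧ Q V} := Set.toFinite _
  obtain ⟨A, hA, hmax⟩ := Set.exists_max_image _ (fun V : Subgroup G => Nat.card V) hfin
    ⟨⊥, bot_le, hbot⟩
  exact ⟨A, hA.1, hA.2, fun V hV hQV => hmax V ⟨hV, hQV⟩⟩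

theorem famQ_subset_of_le [Finite G] (Q : Subgroup G → Prop) {D₁ D A₀ : Subgroup G} (h : D₁ ≤ D)
    (hA₀ : A₀ ∈ famQ Q D) (hA₀D : A₀ ≤ D₁) : famQ Q D₁ ⊆ famQ Q D := by
  intro A hA
  refine ⟨hA.1.trans h, hA.2.1, ?_⟩
  intro V hV hQV
  exact (hA₀.2.2 V hV hQV).trans (hA.2.2 A₀ hA₀D hA₀.2.1)

theorem famQ_mem_of_le (Q : Subgroup G → Prop) {D₁ D A : Subgroup G} (h : D₁ ≤ D)
    (hA : A ∈ famQ Q D) (hAD : A ≤ D₁) : A ∈ famQ Q D₁ :=
  ⟨hAD, hA.2.1, fun V hV hQV => hA.2.2 V (hV.trans h) hQV⟩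

theorem famQ_eq_of_forall_le [Finite G] (Q : Subgroup G → Prop) (hbot : Q ⊥) {D₁ D : Subgroup G}
    (h : D₁ ≤ D) (hall : ∀ A ∈ famQ Q D, A ≤ D₁) : famQ Q D₁ = famQ Q D := by
  obtain ⟨A₀, hA₀⟩ := famQ_nonempty Q hbot D
  apply Set.Subset.antisymm
  · exact famQ_subset_of_le Q h hA₀ (hall A₀ hA₀)
  · intro A hA
    exact famQ_mem_of_le Q h hA (hall A hA)

theorem famQ_map (Q : Subgroup G → Prop)
    (hQaut : ∀ (φ : G ≃* G) (A : Subgroup G), Q A → Q (A.map φ.toMonoidHom))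
    (φ : G ≃* G) {A D : Subgroup G} (hA : A ∈ famQ Q D) :
    A.map φ.toMonoidHom ∈ famQ Q (D.map φ.toMonoidHom) := by
  refine ⟨Subgroup.map_mono hA.1, hQaut φ A hA.2.1, ?_⟩
  intro V hV hQV
  have h1 : V.map φ.symm.toMonoidHom ≤ D := by
    intro x hx
    obtain ⟨y, hy, rfl⟩ := Subgroup.mem_map.mp hx
    obtain ⟨d, hd, hdy⟩ := Subgroup.mem_map.mp (hV hy)
    have : φ.symm.toMonoidHom y = d := by
      rw [← hdy]; simp
    rw [this]; exact hd
  have h2 := hA.2.2 _ h1 (hQaut φ.symm V hQV)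
  rw [Subgroup.card_map_of_injective φ.symm.injective] at h2
  rw [Subgroup.card_map_of_injective φ.injective]
  exact h2

theorem map_symm_map (φ : G ≃* G) (D : Subgroup G) :
    (D.map φ.toMonoidHom).map φ.symm.toMonoidHom = D := by
  ext x
  constructor
  · intro hx
    obtain ⟨y, hy, rfl⟩ := Subgroup.mem_map.mp hx
    obtain ⟨d, hd, rfl⟩ := Subgroup.mem_map.mp hy
    simpa using hd
  · intro hx
    exact Subgroup.mem_map.mpr ⟨φ x, Subgroup.mem_map.mpr ⟨x, hx, rfl⟩, by simp⟩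

theorem zfam_map_le (Q : Subgroup G → Prop)
    (hQaut : ∀ (φ : G ≃* G) (A : Subgroup G), Q A → Q (A.map φ.toMonoidHom))
    (φ : G ≃* G) (D : Subgroup G) :
    (zfam Q D).map φ.toMonoidHom ≤ zfam Q (D.map φ.toMonoidHom) := by
  intro x hx
  obtain ⟨z, hz, rfl⟩ := Subgroup.mem_map.mp hx
  unfold zfam at hz ⊢
  rw [Subgroup.mem_sInf] at hz ⊢
  intro A' hA'
  have h1 := famQ_map Q hQaut φ.symm hA'
  rw [map_symm_map] at h1
  have h2 := hz _ h1
  obtain ⟨y, hy, hyz⟩ := Subgroup.mem_map.mp h2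
  have : φ.toMonoidHom z = y := by
    rw [← hyz]; simp
  rw [this]; exact hy

theorem zfam_map (Q : Subgroup G → Prop)
    (hQaut : ∀ (φ : G ≃* G) (A : Subgroup G), Q A → Q (A.map φ.toMonoidHom))
    (φ : G ≃* G) (D : Subgroup G) :
    zfam Q (D.map φ.toMonoidHom) = (zfam Q D).map φ.toMonoidHom := by
  apply le_antisymm
  · have h1 := zfam_map_le Q hQaut φ.symm (D.map φ.toMonoidHom)
    rw [map_symm_map] at h1
    intro x hx
    have h2 := h1 (Subgroup.mem_map.mpr ⟨x, hx, rfl⟩)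
    exact Subgroup.mem_map.mpr ⟨_, h2, by simp⟩
  · exact zfam_map_le Q hQaut φ D

theorem zj_map_conj_eq_of_mem_normalizer {D : Subgroup G} {g : G}
    (hg : g ∈ Subgroup.normalizer (D : Set G)) :
    D.map (MulAut.conj g).toMonoidHom = D := by
  ext x
  rw [Subgroup.mem_normalizer_iff] at hg
  constructor
  · intro hx
    obtain ⟨d, hd, rfl⟩ := Subgroup.mem_map.mp hx
    simpa using (hg d).mp hd
  · intro hx
    refine Subgroup.mem_map.mpr ⟨g⁻¹ * x * g, ?_, by simp [mul_assoc]⟩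
    rw [hg]
    simpa [mul_assoc] using hx

theorem zj_mem_normalizer_of_map_conj_eq {D : Subgroup G} {g : G}
    (h : D.map (MulAut.conj g).toMonoidHom = D) :
    g ∈ Subgroup.normalizer (D : Set G) := by
  rw [Subgroup.mem_normalizer_iff]
  intro x
  constructor
  · intro hx
    rw [← h]
    exact Subgroup.mem_map.mpr ⟨x, hx, by simp⟩
  · intro hx
    rw [← h] at hx
    obtain ⟨d, hd, hdx⟩ := Subgroup.mem_map.mp hx
    have : d = x := by
      have h1 : g * d * g⁻¹ = g * x * g⁻¹ := by simpa using hdx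
      have h2 := mul_right_cancel h1
      exact mul_left_cancel h2
    rw [← this]; exact hd

theorem normalizer_le_normalizer_zfam (Q : Subgroup G → Prop)
    (hQaut : ∀ (φ : G ≃* G) (A : Subgroup G), Q A → Q (A.map φ.toMonoidHom))
    (D : Subgroup G) :
    Subgroup.normalizer (D : Set G) ≤ Subgroup.normalizer (zfam Q D : Set G) := by
  intro g hg
  apply zj_mem_normalizer_of_map_conj_eq
  rw [← zfam_map Q hQaut, zj_map_conj_eq_of_mem_normalizer hg]

theorem zfam_le_of_mem (Q : Subgroup G → Prop) {D A : Subgroup G} (hA : A ∈ famQ Q D) :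
    zfam Q D ≤ A := sInf_le hA

theorem zfam_comm [Finite G] (Q : Subgroup G → Prop) (hbot : Q ⊥)
    (hQc : ∀ A : Subgroup G, Q A → IsMulCommutative A) (D : Subgroup G) {x y : G}
    (hx : x ∈ zfam Q D) (hy : y ∈ zfam Q D) : x * y = y * x := by
  obtain ⟨A₀, hA₀⟩ := famQ_nonempty Q hbot D
  have := hQc A₀ hA₀.2.1
  exact setLike_mul_comm (zfam_le_of_mem Q hA₀ hx) (zfam_le_of_mem Q hA₀ hy)

end ZJ

end Cfsg.Agent.Lib.Helper9
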