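import Mathlib
import Cfsg.Agent.Lib.Helper9.ZJ

set_option autoImplicit false

namespace Cfsg.Agent.Lib.Helper9

open scoped Pointwise commutatorElement

section ZJ2

variable {G : Type*} [Group G]

/-- The hypotheses on a family predicate `Q` needed for the `ZJ`-argument. -/
structure ZJHyp (Q : Subgroup G → Prop) (P : Subgroup G) : Prop where
  comm : ∀ A : Subgroup G, Q A → IsMulCommutative A
  bot : Q ⊥
  aut : ∀ (φ : G ≃* G) (A : Subgroup G), Q A → Q (A.map φ.toMonoidHom)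
  rep : ∀ D B : Subgroup G, D ≤ P → B ≤ P → P ≤ Subgroup.normalizer (D : Set G) →
    P ≤ Subgroup.normalizer (B : Set G) → ⁅⁅B, B⁆, B⁆ = ⊥ →
    (∃ U ∈ famQ Q D, ⁅B, B⁆ ≤ U ∧ ¬ B ≤ U) →
    ∃ A ∈ famQ Q D, ⁅B, B⁆ ≤ A ∧ ¬ B ≤ A ∧ B ≤ Subgroup.normalizer (A : Set G)

theorem commutator_normalClosure_le {Z₁ B N : Subgroup G} [hBn : B.Normal] [hNn : N.Normal]
    (h : ⁅Z₁, B⁆ ≤ N) : ⁅Subgroup.normalClosure (Z₁ : Set G), B⁆ ≤ N := by
  rw [Subgroup.commutator_le]
  intro x hx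
  unfold Subgroup.normalClosure at hx
  induction hx using Subgroup.closure_induction with
  | mem x hx =>
    intro b hb
    obtain ⟨z, hz, hzx⟩ := Group.mem_conjugatesOfSet_iff.mp hx
    obtain ⟨g, hg⟩ := isConj_iff.mp hzx
    subst hg
    have hb' : g⁻¹ * b * g ∈ B := by
      have := hBn.conj_mem b hb g⁻¹
      simpa using this
    have h1 : ⁅z, g⁻¹ * b * g⁆ ∈ N := h (Subgroup.commutator_mem_commutator hz hb')
    have h2 : ⁅g * z * g⁻¹, b⁆ = g * ⁅z, g⁻¹ * b * g⁆ * g⁻¹ := by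
      simp only [commutatorElement_def]; group
    rw [h2]
    exact hNn.conj_mem _ h1 g
  | one =>
    intro b _
    simp
  | mul x y _ _ hx hy =>
    intro b hb
    have h2 : ⁅x * y, b⁆ = x * ⁅y, b⁆ * x⁻¹ * ⁅x, b⁆ := by
      simp only [commutatorElement_def]; group
    rw [h2]
    exact N.mul_mem (hNn.conj_mem _ (hy b hb) x) (hx b hb)
  | inv x _ hx =>
    intro b hb
    have h2 : ⁅x⁻¹, b⁆ = x⁻¹ * (⁅x, b⁆)⁻¹ * x⁻¹⁻¹ := by
      simp only [commutatorElement_def]; group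
    rw [h2]
    exact hNn.conj_mem _ (N.inv_mem (hx b hb)) x⁻¹

theorem commutator_lt_of_isPGroup [Finite G] {p : ℕ} [Fact p.Prime] {B : Subgroup G}
    (hB : IsPGroup p B) (hne : B ≠ ⊥) : ⁅B, B⁆ < B := by
  have hnt : Nontrivial B := (Subgroup.nontrivial_iff_ne_bot B).mpr hne
  have hnil : Group.IsNilpotent B := hB.isNilpotent
  have hsol : Group.IsSolvable B := inferInstance
  have h1 := Group.IsSolvable.commutator_lt_top_of_nontrivial ↥B
  have h2 : ⁅B, B⁆ ≤ B := by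
    rw [Subgroup.commutator_le]
    intro a ha b hb
    rw [commutatorElement_def]
    exact B.mul_mem (B.mul_mem (B.mul_mem ha hb) (B.inv_mem ha)) (B.inv_mem hb)
  refine lt_of_le_of_ne h2 ?_
  intro heq
  rw [← Subgroup.map_subtype_commutator] at heq
  have h3 : (commutator ↥B).map B.subtype = (⊤ : Subgroup B).map B.subtype := by
    rw [heq]; ext x; simp
  have h4 := Subgroup.map_injective B.subtype_injective h3
  exact (ne_of_lt h1) h4

theorem mem_normalizer_inf {H K : Subgroup G} {g : G}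
    (hH : g ∈ Subgroup.normalizer (H : Set G)) (hK : g ∈ Subgroup.normalizer (K : Set G)) :
    g ∈ Subgroup.normalizer ((H ⊓ K : Subgroup G) : Set G) := by
  rw [Subgroup.mem_normalizer_iff] at hH hK ⊢
  intro x
  rw [Subgroup.mem_inf, Subgroup.mem_inf, hH x, hK x]

theorem normal_normalizer_eq_top (B : Subgroup G) [hB : B.Normal] :
    Subgroup.normalizer (B : Set G) = ⊤ := Subgroup.normalizer_eq_top_iff.mpr hB

end ZJ2

end Cfsg.Agent.Lib.Helper9
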