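import Mathlib
import Cfsg.Agent.Lib.Helper9.ZJ2

set_option autoImplicit false

namespace Cfsg.Agent.Lib.Helper9

open scoped Pointwise commutatorElement

section ZJ3

variable {G : Type*} [Group G]

theorem card_lt_of_lt' [Finite G] {H K : Subgroup G} (h : H < K) : Nat.card H < Nat.card K := by
  by_contra hcon
  exact (ne_of_lt h) (Subgroup.eq_of_le_of_card_ge h.le (not_lt.mp hcon))

theorem centralizer_le_normalizer_of_le {B Z₁ : Subgroup G} (h : Z₁ ≤ B) :
    Subgroup.centralizer (B : Set G) ≤ Subgroup.normalizer (Z₁ : Set G) :=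
  (Subgroup.centralizer_le (by exact_mod_cast h)).trans (Subgroup.centralizer_le_normalizer _)

set_option maxHeartbeats 1600000 in
theorem zfam_inf_normal [Finite G] {p : ℕ} [Fact p.Prime] (Q : Subgroup G → Prop) (P : Sylow p G)
    (h : ZJHyp Q (P : Subgroup G))
    (hst : ∀ (V : Subgroup G) [V.Normal], IsPGroup p V → ∀ a ∈ (P : Subgroup G),
      ⁅⁅V, Subgroup.zpowers a⁆, Subgroup.zpowers a⁆ = ⊥ →
      (QuotientGroup.mk a : G ⧸ Subgroup.centralizer (V : Set G)) ∈
        Cfsg.pCore p (G ⧸ Subgroup.centralizer (V : Set G))) :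
    ∀ (n : ℕ) (L : Subgroup G), L.Normal → Nat.card L = n → ∀ (m : ℕ) (B : Subgroup G),
      B.Normal → IsPGroup p B → Nat.card B = m →
      (zfam Q ((P : Subgroup G) ⊓ L) ⊓ B).Normal := by
  intro n
  induction n using Nat.strong_induction_on with
  | _ n ihL =>
  intro L hLn hLcard m
  induction m using Nat.strong_induction_on with
  | _ m ihB =>
  intro B hBn hBp hBcard
  have hBP : B ≤ (P : Subgroup G) := hBp.le_sylow_of_normal P
  have hPD : (P : Subgroup G) ≤ Subgroup.normalizer (((P : Subgroup G) ⊓ L : Subgroup G) : Set G) := by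
    intro g hg
    apply mem_normalizer_inf (Subgroup.le_normalizer hg)
    rw [normal_normalizer_eq_top L]; trivial
  have hNDZ : Subgroup.normalizer (((P : Subgroup G) ⊓ L : Subgroup G) : Set G) ≤
      Subgroup.normalizer (zfam Q ((P : Subgroup G) ⊓ L) : Set G) :=
    normalizer_le_normalizer_zfam Q h.aut _
  have hNDZ₁ : Subgroup.normalizer (((P : Subgroup G) ⊓ L : Subgroup G) : Set G) ≤
      Subgroup.normalizer ((zfam Q ((P : Subgroup G) ⊓ L) ⊓ B : Subgroup G) : Set G) := by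
    intro g hg
    apply mem_normalizer_inf (hNDZ hg)
    rw [normal_normalizer_eq_top B]; trivial
  have hPZ := hPD.trans hNDZ
  have hPZ₁ := hPD.trans hNDZ₁
  -- Step 2
  have hB₁B : Subgroup.normalClosure ((zfam Q ((P : Subgroup G) ⊓ L) ⊓ B : Subgroup G) : Set G) ≤ B :=
    Subgroup.normalClosure_le_normal (by exact_mod_cast (inf_le_right : zfam Q ((P : Subgroup G) ⊓ L) ⊓ B ≤ B))
  have hZ₁B₁ : zfam Q ((P : Subgroup G) ⊓ L) ⊓ B ≤
      Subgroup.normalClosure ((zfam Q ((P : Subgroup G) ⊓ L) ⊓ B : Subgroup G) : Set G) :=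
    Subgroup.le_normalClosure
  by_cases hlt : Nat.card (Subgroup.normalClosure
      ((zfam Q ((P : Subgroup G) ⊓ L) ⊓ B : Subgroup G) : Set G)) < Nat.card B
  · have h1 := ihB _ (hBcard ▸ hlt) _ Subgroup.normalClosure_normal (hBp.to_le hB₁B) rfl
    have heq : zfam Q ((P : Subgroup G) ⊓ L) ⊓ Subgroup.normalClosure
        ((zfam Q ((P : Subgroup G) ⊓ L) ⊓ B : Subgroup G) : Set G) =
        zfam Q ((P : Subgroup G) ⊓ L) ⊓ B :=
      le_antisymm (inf_le_inf_left _ hB₁B) (le_inf inf_le_left hZ₁B₁)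
    rw [heq] at h1; exact h1
  have hB₁eq : Subgroup.normalClosure ((zfam Q ((P : Subgroup G) ⊓ L) ⊓ B : Subgroup G) : Set G) = B :=
    Subgroup.eq_of_le_of_card_ge hB₁B (not_lt.mp hlt)
  -- Step 3
  by_cases hbot : B = ⊥
  · have h1 : zfam Q ((P : Subgroup G) ⊓ L) ⊓ B = ⊥ := by rw [hbot]; exact inf_bot_eq _
    rw [h1]; exact Subgroup.normal_bot
  have hB'lt : ⁅B, B⁆ < B := commutator_lt_of_isPGroup hBp hbot
  have hB'n : (⁅B, B⁆).Normal := Subgroup.commutator_normal B B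
  have hB'card : Nat.card ↥⁅B, B⁆ < m := hBcard ▸ card_lt_of_lt' hB'lt
  have hN : (zfam Q ((P : Subgroup G) ⊓ L) ⊓ ⁅B, B⁆).Normal :=
    ihB _ hB'card ⁅B, B⁆ hB'n (hBp.to_le hB'lt.le) rfl
  -- Step 4
  have h4a : ⁅zfam Q ((P : Subgroup G) ⊓ L) ⊓ B, B⁆ ≤ zfam Q ((P : Subgroup G) ⊓ L) ⊓ ⁅B, B⁆ := by
    rw [Subgroup.commutator_le]
    intro z hz b hb
    refine Subgroup.mem_inf.mpr ⟨?_, Subgroup.commutator_mem_commutator hz.2 hb⟩
    have hbN := hPZ (hBP hb)
    rw [Subgroup.mem_normalizer_iff] at hbN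
    have h1 : b * z⁻¹ * b⁻¹ ∈ zfam Q ((P : Subgroup G) ⊓ L) :=
      (hbN z⁻¹).mp ((zfam Q ((P : Subgroup G) ⊓ L)).inv_mem hz.1)
    have e : ⁅z, b⁆ = z * (b * z⁻¹ * b⁻¹) := by rw [commutatorElement_def]; group
    rw [e]; exact Subgroup.mul_mem _ hz.1 h1
  have h4b : ⁅B, B⁆ ≤ zfam Q ((P : Subgroup G) ⊓ L) ⊓ ⁅B, B⁆ := by
    have h1 := commutator_normalClosure_le h4a
    rw [hB₁eq] at h1
    exact h1
  have hB'Z : ⁅B, B⁆ ≤ zfam Q ((P : Subgroup G) ⊓ L) := h4b.trans inf_le_left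
  -- Step 5
  have h5a : ⁅zfam Q ((P : Subgroup G) ⊓ L) ⊓ B, ⁅B, B⁆⁆ ≤ ⊥ := by
    rw [Subgroup.commutator_le]
    intro z hz c hc
    rw [Subgroup.mem_bot, commutatorElement_eq_one_iff_mul_comm]
    exact zfam_comm Q h.bot h.comm _ hz.1 (hB'Z hc)
  have h5b : ⁅B, ⁅B, B⁆⁆ ≤ ⊥ := by
    have h1 := commutator_normalClosure_le h5a
    rw [hB₁eq] at h1
    exact h1
  have hcl : ⁅⁅B, B⁆, B⁆ = ⊥ := by
    rw [Subgroup.commutator_comm]; exact le_bot_iff.mp h5b
  -- Step 6
  have hCn : (Subgroup.centralizer (B : Set G)).Normal := Subgroup.normal_centralizer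
  have hKn : ((Cfsg.pCore p (G ⧸ Subgroup.centralizer (B : Set G))).comap
      (QuotientGroup.mk' (Subgroup.centralizer (B : Set G)))).Normal :=
    (Helper1.pCore_normal p).comap _
  have hKZ₁ : (Cfsg.pCore p (G ⧸ Subgroup.centralizer (B : Set G))).comap
      (QuotientGroup.mk' (Subgroup.centralizer (B : Set G))) ≤
      Subgroup.normalizer ((zfam Q ((P : Subgroup G) ⊓ L) ⊓ B : Subgroup G) : Set G) := by
    intro k hk
    rw [Subgroup.mem_comap] at hk
    have hsurj : Function.Surjective (QuotientGroup.mk' (Subgroup.centralizer (B : Set G))) :=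
      QuotientGroup.mk'_surjective _
    have h1 : Cfsg.pCore p (G ⧸ Subgroup.centralizer (B : Set G)) ≤
        ((Sylow.mapSurjective hsurj P : Sylow p (G ⧸ Subgroup.centralizer (B : Set G))) :
          Subgroup (G ⧸ Subgroup.centralizer (B : Set G))) :=
      Helper1.pCore_le_sylow p _
    have h2 := h1 hk
    rw [Sylow.coe_mapSurjective] at h2
    obtain ⟨x, hx, hxk⟩ := Subgroup.mem_map.mp h2
    have h3 : x⁻¹ * k ∈ Subgroup.centralizer (B : Set G) := QuotientGroup.eq.mp hxk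
    have h4 : x⁻¹ * k ∈ Subgroup.normalizer
        ((zfam Q ((P : Subgroup G) ⊓ L) ⊓ B : Subgroup G) : Set G) :=
      centralizer_le_normalizer_of_le inf_le_right h3
    have h5 : k = x * (x⁻¹ * k) := by group
    rw [h5]
    exact Subgroup.mul_mem _ (hPZ₁ hx) h4
  -- Step 7
  have hKM := (Subgroup.normal_le_normalCore (hN := hKn)).mpr hKZ₁
  have hMn : (Subgroup.normalizer
      ((zfam Q ((P : Subgroup G) ⊓ L) ⊓ B : Subgroup G) : Set G)).normalCore.Normal :=
    Subgroup.normalCore_normal _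
  have hMZ₁ := Subgroup.normalCore_le (Subgroup.normalizer
      ((zfam Q ((P : Subgroup G) ⊓ L) ⊓ B : Subgroup G) : Set G))
  -- quadratic action
  have hquad : ∀ A : Subgroup G, A ≤ (P : Subgroup G) → IsMulCommutative A →
      B ≤ Subgroup.normalizer (A : Set G) →
      A ≤ (Cfsg.pCore p (G ⧸ Subgroup.centralizer (B : Set G))).comap
      (QuotientGroup.mk' (Subgroup.centralizer (B : Set G))) := by
    intro A hAP hAc hBA a ha
    have hs := hst B hBp a (hAP ha) ?_
    · exact hs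
    · have hza : Subgroup.zpowers a ≤ A := Subgroup.zpowers_le.mpr ha
      have h1 : ⁅B, Subgroup.zpowers a⁆ ≤ A := by
        rw [Subgroup.commutator_le]
        intro b hb x hx
        have hbN := hBA hb
        rw [Subgroup.mem_normalizer_iff] at hbN
        have h2 : b * x * b⁻¹ ∈ A := (hbN x).mp (hza hx)
        rw [commutatorElement_def]
        exact A.mul_mem h2 (A.inv_mem (hza hx))
      rw [eq_bot_iff]
      calc ⁅⁅B, Subgroup.zpowers a⁆, Subgroup.zpowers a⁆ ≤ ⁅A, A⁆ := Subgroup.commutator_mono h1 hza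
        _ = ⊥ := by
          rw [Subgroup.commutator_eq_bot_iff_le_centralizer]
          exact Subgroup.le_centralizer_iff_isMulCommutative.mpr hAc
  -- Case split
  have hL₁n : (L ⊓ (Subgroup.normalizer
      ((zfam Q ((P : Subgroup G) ⊓ L) ⊓ B : Subgroup G) : Set G)).normalCore).Normal :=
    Subgroup.normal_inf_normal L _
  have hD₁ : (P : Subgroup G) ⊓ (L ⊓ (Subgroup.normalizer
      ((zfam Q ((P : Subgroup G) ⊓ L) ⊓ B : Subgroup G) : Set G)).normalCore) ≤
      (P : Subgroup G) ⊓ L := inf_le_inf_left _ inf_le_left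
  by_cases hall : ∀ A ∈ famQ Q ((P : Subgroup G) ⊓ L), A ≤ (Subgroup.normalizer
      ((zfam Q ((P : Subgroup G) ⊓ L) ⊓ B : Subgroup G) : Set G)).normalCore
  · -- Case I
    have hfam : famQ Q ((P : Subgroup G) ⊓ (L ⊓ (Subgroup.normalizer
        ((zfam Q ((P : Subgroup G) ⊓ L) ⊓ B : Subgroup G) : Set G)).normalCore)) =
        famQ Q ((P : Subgroup G) ⊓ L) :=
      famQ_eq_of_forall_le Q h.bot hD₁ (fun A hA =>
        le_inf (hA.1.trans inf_le_left) (le_inf (hA.1.trans inf_le_right) (hall A hA)))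
    by_cases hlt2 : Nat.card ↥(L ⊓ (Subgroup.normalizer
        ((zfam Q ((P : Subgroup G) ⊓ L) ⊓ B : Subgroup G) : Set G)).normalCore) < Nat.card L
    · have h1 := ihL _ (hLcard ▸ hlt2) _ hL₁n rfl (Nat.card B) B hBn hBp rfl
      have hz : zfam Q ((P : Subgroup G) ⊓ (L ⊓ (Subgroup.normalizer
          ((zfam Q ((P : Subgroup G) ⊓ L) ⊓ B : Subgroup G) : Set G)).normalCore)) =
          zfam Q ((P : Subgroup G) ⊓ L) := congrArg sInf hfam
      rw [hz] at h1
      exact h1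
    · have hL₁eq : L ⊓ (Subgroup.normalizer
          ((zfam Q ((P : Subgroup G) ⊓ L) ⊓ B : Subgroup G) : Set G)).normalCore = L :=
        Subgroup.eq_of_le_of_card_ge inf_le_left (not_lt.mp hlt2)
      have hLM : L ≤ (Subgroup.normalizer
          ((zfam Q ((P : Subgroup G) ⊓ L) ⊓ B : Subgroup G) : Set G)).normalCore :=
        (le_of_eq hL₁eq.symm).trans inf_le_right
      have hfr := Sylow.normalizer_sup_eq_top (helper17.sylowInfNormal P L)
      rw [helper17.sylowInfNormal_map] at hfr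
      rw [← Subgroup.normalizer_eq_top_iff, eq_top_iff, ← hfr]
      exact sup_le hNDZ₁ (hLM.trans hMZ₁)
  · -- Case II
    push Not at hall
    obtain ⟨A, hA, hAM⟩ := hall
    have hAK : ¬ A ≤ (Cfsg.pCore p (G ⧸ Subgroup.centralizer (B : Set G))).comap
        (QuotientGroup.mk' (Subgroup.centralizer (B : Set G))) := fun hh => hAM (hh.trans hKM)
    have hAc := h.comm A hA.2.1
    have hBNA : ¬ B ≤ Subgroup.normalizer (A : Set G) :=
      fun hh => hAK (hquad A (hA.1.trans inf_le_left) hAc hh)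
    have hBA : ¬ B ≤ A := fun hh => hBNA (hh.trans Subgroup.le_normalizer)
    obtain ⟨A₁, hA₁, -, hBA₁, hBNA₁⟩ := h.rep _ B inf_le_left hBP hPD
      (by rw [normal_normalizer_eq_top B]; exact le_top) hcl
      ⟨A, hA, hB'Z.trans (zfam_le_of_mem Q hA), hBA⟩
    have hA₁K := hquad A₁ (hA₁.1.trans inf_le_left) (h.comm A₁ hA₁.2.1) hBNA₁
    have hA₁D₁ : A₁ ≤ (P : Subgroup G) ⊓ (L ⊓ (Subgroup.normalizer
        ((zfam Q ((P : Subgroup G) ⊓ L) ⊓ B : Subgroup G) : Set G)).normalCore) :=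
      le_inf (hA₁.1.trans inf_le_left) (le_inf (hA₁.1.trans inf_le_right) (hA₁K.trans hKM))
    have hlt2 : Nat.card ↥(L ⊓ (Subgroup.normalizer
        ((zfam Q ((P : Subgroup G) ⊓ L) ⊓ B : Subgroup G) : Set G)).normalCore) < Nat.card L := by
      by_contra hcon
      have hL₁eq : L ⊓ (Subgroup.normalizer
          ((zfam Q ((P : Subgroup G) ⊓ L) ⊓ B : Subgroup G) : Set G)).normalCore = L :=
        Subgroup.eq_of_le_of_card_ge inf_le_left (not_lt.mp hcon)
      apply hAM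
      calc A ≤ L := hA.1.trans inf_le_right
        _ = _ := hL₁eq.symm
        _ ≤ _ := inf_le_right
    have hnorm := ihL _ (hLcard ▸ hlt2) _ hL₁n rfl (Nat.card B) B hBn hBp rfl
    have hsub := famQ_subset_of_le Q hD₁ hA₁ hA₁D₁
    have hZle : zfam Q ((P : Subgroup G) ⊓ L) ≤ zfam Q ((P : Subgroup G) ⊓ (L ⊓ (Subgroup.normalizer
        ((zfam Q ((P : Subgroup G) ⊓ L) ⊓ B : Subgroup G) : Set G)).normalCore)) :=
      sInf_le_sInf hsub
    have hZ₁le : zfam Q ((P : Subgroup G) ⊓ L) ⊓ B ≤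
        zfam Q ((P : Subgroup G) ⊓ (L ⊓ (Subgroup.normalizer
        ((zfam Q ((P : Subgroup G) ⊓ L) ⊓ B : Subgroup G) : Set G)).normalCore)) ⊓ B :=
      inf_le_inf_right _ hZle
    have hBle : B ≤ zfam Q ((P : Subgroup G) ⊓ (L ⊓ (Subgroup.normalizer
        ((zfam Q ((P : Subgroup G) ⊓ L) ⊓ B : Subgroup G) : Set G)).normalCore)) ⊓ B := by
      have h1 := Subgroup.normalClosure_le_normal (N := zfam Q ((P : Subgroup G) ⊓ (L ⊓ (Subgroup.normalizer
        ((zfam Q ((P : Subgroup G) ⊓ L) ⊓ B : Subgroup G) : Set G)).normalCore)) ⊓ B)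
        (s := ((zfam Q ((P : Subgroup G) ⊓ L) ⊓ B : Subgroup G) : Set G)) (by exact_mod_cast hZ₁le)
      rw [hB₁eq] at h1
      exact h1
    exact absurd ((hBle.trans inf_le_left).trans
      (zfam_le_of_mem Q (famQ_mem_of_le Q hD₁ hA₁ hA₁D₁))) hBA₁

end ZJ3

end Cfsg.Agent.Lib.Helper9
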