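import Mathlib
import Cfsg.Agent.Lib.Helper9.ZJ3

set_option autoImplicit false

namespace Cfsg.Agent.Lib.Helper9

open scoped Pointwise commutatorElement

section ZJ4

variable {G : Type*} [Group G]

theorem sylow_map_aut_eq_conj [Finite G] {p : ℕ} [Fact p.Prime] (S : Sylow p G) (φ : G ≃* G) :
    ∃ g : G, (S : Subgroup G).map φ.toMonoidHom =
      (S : Subgroup G).map (MulAut.conj g).toMonoidHom := by
  let φ' : MulAut G := φ
  obtain ⟨g, hg⟩ := MulAction.exists_smul_eq G S (φ' • S)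
  refine ⟨g, ?_⟩
  have h1 := congrArg (fun T : Sylow p G => (T : Subgroup G)) hg
  simp only [Sylow.coe_subgroup_smul, Sylow.pointwise_smul_def] at h1
  rw [Subgroup.pointwise_smul_def, Subgroup.pointwise_smul_def] at h1
  exact h1.symm

theorem zfam_le_pCore [Finite G] {p : ℕ} [Fact p.Prime] (Q : Subgroup G → Prop) (S : Sylow p G)
    (h : ZJHyp Q (S : Subgroup G))
    (hc : Subgroup.centralizer (Cfsg.pCore p G : Set G) ≤ Cfsg.pCore p G)
    (hst : ∀ (V : Subgroup G) [V.Normal], IsPGroup p V → ∀ a ∈ (S : Subgroup G),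
      ⁅⁅V, Subgroup.zpowers a⁆, Subgroup.zpowers a⁆ = ⊥ →
      (QuotientGroup.mk a : G ⧸ Subgroup.centralizer (V : Set G)) ∈
        Cfsg.pCore p (G ⧸ Subgroup.centralizer (V : Set G))) :
    zfam Q (S : Subgroup G) ≤ Cfsg.pCore p G := by
  intro z hz
  have hQn : (Cfsg.pCore p G).Normal := Helper1.pCore_normal p
  have hQp : IsPGroup p (Cfsg.pCore p G) := Helper1.pCore_isPGroup p
  have hQS : Cfsg.pCore p G ≤ (S : Subgroup G) := Helper1.pCore_le_sylow p S
  have hSZ : (S : Subgroup G) ≤ Subgroup.normalizer (zfam Q (S : Subgroup G) : Set G) :=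
    Subgroup.le_normalizer.trans (normalizer_le_normalizer_zfam Q h.aut _)
  have hzp : Subgroup.zpowers z ≤ zfam Q (S : Subgroup G) := Subgroup.zpowers_le.mpr hz
  have hquad : ⁅⁅Cfsg.pCore p G, Subgroup.zpowers z⁆, Subgroup.zpowers z⁆ = ⊥ := by
    have h1 : ⁅Cfsg.pCore p G, Subgroup.zpowers z⁆ ≤ zfam Q (S : Subgroup G) := by
      rw [Subgroup.commutator_le]
      intro q hq x hx
      have hqN := hSZ (hQS hq)
      rw [Subgroup.mem_normalizer_iff] at hqN
      have h2 : q * x * q⁻¹ ∈ zfam Q (S : Subgroup G) := (hqN x).mp (hzp hx)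
      rw [commutatorElement_def]
      exact Subgroup.mul_mem _ h2 (Subgroup.inv_mem _ (hzp hx))
    rw [eq_bot_iff]
    calc ⁅⁅Cfsg.pCore p G, Subgroup.zpowers z⁆, Subgroup.zpowers z⁆
        ≤ ⁅zfam Q (S : Subgroup G), zfam Q (S : Subgroup G)⁆ := Subgroup.commutator_mono h1 hzp
      _ ≤ ⊥ := by
        rw [Subgroup.commutator_le]
        intro a ha b hb
        rw [Subgroup.mem_bot, commutatorElement_eq_one_iff_mul_comm]
        exact zfam_comm Q h.bot h.comm _ ha hb
  have hzS : z ∈ (S : Subgroup G) := by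
    obtain ⟨A₀, hA₀⟩ := famQ_nonempty Q h.bot (S : Subgroup G)
    exact hA₀.1 (zfam_le_of_mem Q hA₀ hz)
  have hs := hst (Cfsg.pCore p G) hQp z hzS hquad
  have hCn : (Subgroup.centralizer (Cfsg.pCore p G : Set G)).Normal := Subgroup.normal_centralizer
  have hKn : ((Cfsg.pCore p (G ⧸ Subgroup.centralizer (Cfsg.pCore p G : Set G))).comap
      (QuotientGroup.mk' (Subgroup.centralizer (Cfsg.pCore p G : Set G)))).Normal :=
    (Helper1.pCore_normal p).comap _
  have hKp : IsPGroup p ((Cfsg.pCore p (G ⧸ Subgroup.centralizer (Cfsg.pCore p G : Set G))).comap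
      (QuotientGroup.mk' (Subgroup.centralizer (Cfsg.pCore p G : Set G)))) := by
    apply IsPGroup.comap_of_ker_isPGroup (Helper1.pCore_isPGroup p)
    rw [QuotientGroup.ker_mk']
    exact hQp.to_le hc
  have hK := Helper1.le_pCore hKn hKp
  exact hK hs

theorem zfam_normal [Finite G] {p : ℕ} [Fact p.Prime] (Q : Subgroup G → Prop) (S : Sylow p G)
    (h : ZJHyp Q (S : Subgroup G))
    (hc : Subgroup.centralizer (Cfsg.pCore p G : Set G) ≤ Cfsg.pCore p G)
    (hst : ∀ (V : Subgroup G) [V.Normal], IsPGroup p V → ∀ a ∈ (S : Subgroup G),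
      ⁅⁅V, Subgroup.zpowers a⁆, Subgroup.zpowers a⁆ = ⊥ →
      (QuotientGroup.mk a : G ⧸ Subgroup.centralizer (V : Set G)) ∈
        Cfsg.pCore p (G ⧸ Subgroup.centralizer (V : Set G))) :
    (zfam Q (S : Subgroup G)).Normal := by
  have h1 := zfam_inf_normal Q S h hst _ ⊤ Subgroup.normal_top rfl _ (Cfsg.pCore p G)
    (Helper1.pCore_normal p) (Helper1.pCore_isPGroup p) rfl
  rw [inf_top_eq, inf_eq_left.mpr (zfam_le_pCore Q S h hc hst)] at h1
  exact h1

theorem zfam_characteristic [Finite G] {p : ℕ} [Fact p.Prime] (Q : Subgroup G → Prop)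
    (S : Sylow p G) (h : ZJHyp Q (S : Subgroup G))
    (hc : Subgroup.centralizer (Cfsg.pCore p G : Set G) ≤ Cfsg.pCore p G)
    (hst : ∀ (V : Subgroup G) [V.Normal], IsPGroup p V → ∀ a ∈ (S : Subgroup G),
      ⁅⁅V, Subgroup.zpowers a⁆, Subgroup.zpowers a⁆ = ⊥ →
      (QuotientGroup.mk a : G ⧸ Subgroup.centralizer (V : Set G)) ∈
        Cfsg.pCore p (G ⧸ Subgroup.centralizer (V : Set G))) :
    (zfam Q (S : Subgroup G)).Characteristic := by
  have hn := zfam_normal Q S h hc hst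
  rw [Subgroup.characteristic_iff_map_eq]
  intro φ
  obtain ⟨g, hg⟩ := sylow_map_aut_eq_conj S φ
  rw [← zfam_map Q h.aut, hg, zfam_map Q h.aut]
  apply zj_map_conj_eq_of_mem_normalizer
  rw [normal_normalizer_eq_top]
  trivial

end ZJ4

end Cfsg.Agent.Lib.Helper9
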