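import Mathlib
import Cfsg.Agent.Lib.Helper9.ZJ4
import Cfsg.Agent.Lib.Helper5.Glauberman

set_option autoImplicit false

namespace Cfsg.Agent.Lib.Helper9

open scoped Pointwise commutatorElement

section ZJ5

variable {G : Type*} [Group G]

theorem famQ_subtype_iff (S D : Subgroup G) (hD : D ≤ S) (Q : Subgroup G → Prop)
    (Q' : Subgroup ↥S → Prop) (hQQ' : ∀ A' : Subgroup ↥S, Q' A' ↔ Q (A'.map S.subtype))
    (A' : Subgroup ↥S) :
    A' ∈ famQ Q' (D.subgroupOf S) ↔ A'.map S.subtype ∈ famQ Q D := by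
  constructor
  · rintro ⟨h1, h2, h3⟩
    refine ⟨Subgroup.map_le_iff_le_comap.mpr h1, (hQQ' A').mp h2, ?_⟩
    intro V hV hQV
    have hVS : V ≤ S := hV.trans hD
    have hmap : (V.subgroupOf S).map S.subtype = V := Subgroup.map_subgroupOf_eq_of_le hVS
    have h4 := h3 (V.subgroupOf S) (Subgroup.comap_mono hV) ((hQQ' _).mpr (by rw [hmap]; exact hQV))
    rw [Subgroup.card_map_of_injective S.subtype_injective]
    have h5 : Nat.card (V.subgroupOf S) = Nat.card V := by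
      conv_rhs => rw [← hmap]
      rw [Subgroup.card_map_of_injective S.subtype_injective]
    rw [← h5]; exact h4
  · rintro ⟨h1, h2, h3⟩
    refine ⟨Subgroup.map_le_iff_le_comap.mp h1, (hQQ' A').mpr h2, ?_⟩
    intro V' hV' hQV'
    have h4 := h3 (V'.map S.subtype) (Subgroup.map_le_iff_le_comap.mpr hV') ((hQQ' _).mp hQV')
    rw [Subgroup.card_map_of_injective S.subtype_injective,
      Subgroup.card_map_of_injective S.subtype_injective] at h4
    exact h4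

theorem rep_of_subtype [Finite G] (S : Subgroup G) (Q : Subgroup G → Prop)
    (Q' : Subgroup ↥S → Prop) (hQQ' : ∀ A' : Subgroup ↥S, Q' A' ↔ Q (A'.map S.subtype))
    (hrep' : ∀ (D' B' : Subgroup ↥S) [D'.Normal] [B'.Normal], ⁅⁅B', B'⁆, B'⁆ = ⊥ →
      (∃ U' ∈ famQ Q' D', ⁅B', B'⁆ ≤ U' ∧ ¬ B' ≤ U') →
      ∃ A' ∈ famQ Q' D', ⁅B', B'⁆ ≤ A' ∧ ¬ B' ≤ A' ∧ B' ≤ Subgroup.normalizer (A' : Set ↥S)) :
    ∀ D B : Subgroup G, D ≤ S → B ≤ S → S ≤ Subgroup.normalizer (D : Set G) →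
      S ≤ Subgroup.normalizer (B : Set G) → ⁅⁅B, B⁆, B⁆ = ⊥ →
      (∃ U ∈ famQ Q D, ⁅B, B⁆ ≤ U ∧ ¬ B ≤ U) →
      ∃ A ∈ famQ Q D, ⁅B, B⁆ ≤ A ∧ ¬ B ≤ A ∧ B ≤ Subgroup.normalizer (A : Set G) := by
  intro D B hDS hBS hSD hSB hcl ⟨U, hU, hBU, hnBU⟩
  have hDn : (D.subgroupOf S).Normal := (Subgroup.normal_subgroupOf_iff_le_normalizer hDS).mpr hSD
  have hBn : (B.subgroupOf S).Normal := (Subgroup.normal_subgroupOf_iff_le_normalizer hBS).mpr hSB
  have hBmap : (B.subgroupOf S).map S.subtype = B := Subgroup.map_subgroupOf_eq_of_le hBS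
  have hcomm : (⁅B.subgroupOf S, B.subgroupOf S⁆).map S.subtype = ⁅B, B⁆ := by
    rw [Subgroup.map_commutator, hBmap]
  have hcl' : ⁅⁅B.subgroupOf S, B.subgroupOf S⁆, B.subgroupOf S⁆ = ⊥ := by
    rw [← Subgroup.map_eq_bot_iff_of_injective _ S.subtype_injective, Subgroup.map_commutator,
      hcomm, hBmap]
    exact hcl
  have hUS : U ≤ S := hU.1.trans hDS
  have hUmap : (U.subgroupOf S).map S.subtype = U := Subgroup.map_subgroupOf_eq_of_le hUS
  have hU' : U.subgroupOf S ∈ famQ Q' (D.subgroupOf S) := by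
    rw [famQ_subtype_iff S D hDS Q Q' hQQ', hUmap]; exact hU
  have hBU' : ⁅B.subgroupOf S, B.subgroupOf S⁆ ≤ U.subgroupOf S := by
    apply Subgroup.map_le_iff_le_comap.mp
    rw [hcomm]; exact hBU
  have hnBU' : ¬ B.subgroupOf S ≤ U.subgroupOf S := by
    intro hle
    apply hnBU
    have := Subgroup.map_mono (f := S.subtype) hle
    rwa [hBmap, hUmap] at this
  obtain ⟨A', hA', hBA', hnBA', hBNA'⟩ := hrep' (D.subgroupOf S) (B.subgroupOf S) hcl'
    ⟨U.subgroupOf S, hU', hBU', hnBU'⟩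
  refine ⟨A'.map S.subtype, (famQ_subtype_iff S D hDS Q Q' hQQ' A').mp hA', ?_, ?_, ?_⟩
  · rw [← hcomm]; exact Subgroup.map_mono hBA'
  · intro hle
    apply hnBA'
    have := Subgroup.comap_mono (f := S.subtype) hle
    rwa [Subgroup.comap_map_eq_self_of_injective S.subtype_injective] at this
  · intro b hb
    apply Helper5.h5g_mem_normalizer_of_conj_le
    intro y hy
    obtain ⟨a', ha', rfl⟩ := Subgroup.mem_map.mp hy
    have hb' : (⟨b, hBS hb⟩ : ↥S) ∈ B.subgroupOf S := by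
      rw [Subgroup.mem_subgroupOf]; exact hb
    have h1 := hBNA' hb'
    rw [Subgroup.mem_normalizer_iff] at h1
    have h2 := (h1 a').mp ha'
    exact Subgroup.mem_map.mpr ⟨_, h2, by simp⟩

theorem map_sInf_subtype (S : Subgroup G) (𝒜 : Set (Subgroup ↥S)) (hne : 𝒜.Nonempty) :
    (sInf 𝒜).map S.subtype = sInf ((fun A' : Subgroup ↥S => A'.map S.subtype) '' 𝒜) := by
  ext x
  rw [Subgroup.mem_sInf]
  constructor
  · intro hx
    obtain ⟨y, hy, rfl⟩ := Subgroup.mem_map.mp hx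
    rw [Subgroup.mem_sInf] at hy
    rintro _ ⟨A', hA', rfl⟩
    exact Subgroup.mem_map.mpr ⟨y, hy A' hA', rfl⟩
  · intro hx
    obtain ⟨A₀, hA₀⟩ := hne
    have h0 := hx _ ⟨A₀, hA₀, rfl⟩
    obtain ⟨y, -, rfl⟩ := Subgroup.mem_map.mp h0
    refine Subgroup.mem_map.mpr ⟨y, ?_, rfl⟩
    rw [Subgroup.mem_sInf]
    intro A' hA'
    have h1 := hx _ ⟨A', hA', rfl⟩
    obtain ⟨y', hy', hyy⟩ := Subgroup.mem_map.mp h1
    have : y' = y := Subtype.ext (by simpa using hyy)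
    rw [← this]; exact hy'

end ZJ5

end Cfsg.Agent.Lib.Helper9
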