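import Mathlib
import Cfsg.Agent.Lib.Helper9.ZJ5
import Cfsg.Agent.S0651
import Cfsg.Agent.S0652
import Cfsg.Agent.S0655

set_option autoImplicit false

namespace Cfsg.Agent.Lib.Helper9

open scoped Pointwise commutatorElement

section ZJ6

variable {G : Type*} [Group G]

theorem isMulCommutative_bot' : IsMulCommutative (⊥ : Subgroup G) :=
  ⟨⟨fun a b => Subsingleton.elim _ _⟩⟩

theorem isMulCommutative_map_subtype_iff (S : Subgroup G) (A' : Subgroup ↥S) :
    IsMulCommutative A' ↔ IsMulCommutative (A'.map S.subtype) := by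
  constructor
  · intro h; infer_instance
  · intro h
    have h1 : A' = (A'.map S.subtype).subgroupOf S :=
      (Subgroup.comap_map_eq_self_of_injective S.subtype_injective A').symm
    rw [h1]; infer_instance

theorem zjhyp_comm [Finite G] {p : ℕ} [Fact p.Prime] (hp : p ≠ 2) (S : Sylow p G) :
    ZJHyp (fun A : Subgroup G => IsMulCommutative A) (S : Subgroup G) := by
  refine ⟨fun A h => h, isMulCommutative_bot', ?_, ?_⟩
  · intro φ A hA
    have := hA
    exact (inferInstance : IsMulCommutative (A.map φ.toMonoidHom))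
  · apply rep_of_subtype (S : Subgroup G) _
      (fun A' : Subgroup ↥(S : Subgroup G) => IsMulCommutative A')
      (isMulCommutative_map_subtype_iff (S : Subgroup G))
    intro D' B' _ _ hcl hU
    obtain ⟨U', hU', h1, h2⟩ := hU
    obtain ⟨A', hA', h3, h4, h5⟩ := Cfsg.Agent.S0651.result S.isPGroup' hp D' B' hcl
      ⟨U', (Cfsg.Agent.S0651.mem_image_iff D' U').mpr hU', h1, h2⟩
    exact ⟨A', (Cfsg.Agent.S0651.mem_image_iff D' A').mp hA', h3, h4, h5⟩

theorem famQ_comm_eq_image (S : Subgroup G) :
    famQ (fun A : Subgroup G => IsMulCommutative A) S =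
      (fun A : Subgroup ↥S => A.map S.subtype) '' (Cfsg.maxAbelianSubgroups ↥S) := by
  ext A
  exact (Cfsg.Agent.S0651.mem_image_iff S A).symm

theorem thompsonSubgroupAOf_eq_sSup (S : Subgroup G) :
    Cfsg.thompsonSubgroupAOf S = sSup (famQ (fun A : Subgroup G => IsMulCommutative A) S) := by
  unfold Cfsg.thompsonSubgroupAOf Cfsg.thompsonSubgroupA
  apply le_antisymm
  · rw [Subgroup.map_le_iff_le_comap]
    apply sSup_le
    intro A' hA'
    rw [← Subgroup.map_le_iff_le_comap]
    apply le_sSup
    rw [famQ_comm_eq_image]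
    exact ⟨A', hA', rfl⟩
  · apply sSup_le
    intro A hA
    rw [famQ_comm_eq_image] at hA
    obtain ⟨A', hA', rfl⟩ := hA
    exact Subgroup.map_mono (le_sSup hA')

theorem zfam_eq_centerThompsonAOf [Finite G] (S : Subgroup G) :
    zfam (fun A : Subgroup G => IsMulCommutative A) S = Cfsg.centerThompsonAOf S := by
  unfold Cfsg.centerThompsonAOf
  rw [thompsonSubgroupAOf_eq_sSup]
  obtain ⟨A₀, hA₀⟩ := famQ_nonempty (fun A : Subgroup G => IsMulCommutative A)
    isMulCommutative_bot' S
  have hJS : sSup (famQ (fun A : Subgroup G => IsMulCommutative A) S) ≤ S :=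
    sSup_le (fun A hA => hA.1)
  apply le_antisymm
  · intro x hx
    have hxA : ∀ A ∈ famQ (fun A : Subgroup G => IsMulCommutative A) S, x ∈ A := by
      intro A hA; exact sInf_le hA hx
    refine Subgroup.mem_inf.mpr ⟨le_sSup hA₀ (hxA A₀ hA₀), ?_⟩
    have hle : sSup (famQ (fun A : Subgroup G => IsMulCommutative A) S) ≤
        Subgroup.centralizer ({x} : Set G) := by
      apply sSup_le
      intro A hA y hy
      rw [Subgroup.mem_centralizer_singleton_iff]
      have := hA.2.1
      exact setLike_mul_comm hy (hxA A hA)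
    rw [Subgroup.mem_centralizer_iff]
    intro y hy
    have := hle hy
    rw [Subgroup.mem_centralizer_singleton_iff] at this
    exact this
  · intro x hx
    obtain ⟨hxJ, hxC⟩ := Subgroup.mem_inf.mp hx
    unfold zfam
    rw [Subgroup.mem_sInf]
    intro A hA
    have hAc := hA.2.1
    have hAJ : A ≤ sSup (famQ (fun A : Subgroup G => IsMulCommutative A) S) := le_sSup hA
    have hcomm : ∀ a ∈ ((A : Set G) ∪ {x}), ∀ b ∈ ((A : Set G) ∪ {x}), a * b = b * a := by
      intro a ha b hb
      rcases ha with ha | ha <;> rcases hb with hb | hb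
      · exact setLike_mul_comm ha hb
      · rw [Set.mem_singleton_iff] at hb; subst hb
        exact (Subgroup.mem_centralizer_iff.mp hxC a (hAJ ha))
      · rw [Set.mem_singleton_iff] at ha; subst ha
        exact (Subgroup.mem_centralizer_iff.mp hxC b (hAJ hb)).symm
      · rw [Set.mem_singleton_iff] at ha hb; subst ha; subst hb; rfl
    have hc : IsMulCommutative (Subgroup.closure ((A : Set G) ∪ {x})) :=
      Subgroup.isMulCommutative_closure hcomm
    have hleS : Subgroup.closure ((A : Set G) ∪ {x}) ≤ S := by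
      rw [Subgroup.closure_le]
      rintro y (hy | hy)
      · exact hA.1 hy
      · rw [Set.mem_singleton_iff] at hy; subst hy; exact hJS hxJ
    have hcard := hA.2.2 _ hleS hc
    have hAle : A ≤ Subgroup.closure ((A : Set G) ∪ {x}) := by
      intro a ha; exact Subgroup.subset_closure (Or.inl ha)
    have heq := Subgroup.eq_of_le_of_card_ge hAle hcard
    rw [heq]
    exact Subgroup.subset_closure (Or.inr rfl)

end ZJ6

end Cfsg.Agent.Lib.Helper9
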