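import Mathlib
import Cfsg.Agent.Lib.Helper9.ZJ6

set_option autoImplicit false

namespace Cfsg.Agent.Lib.Helper9

open scoped Pointwise commutatorElement

section ZJ7

universe u

variable {G : Type u} [Group G]

theorem isElementaryAbelian_map_subtype_iff (p : ℕ) (S : Subgroup G) (A' : Subgroup ↥S) :
    Cfsg.IsElementaryAbelian p A' ↔ Cfsg.IsElementaryAbelian p (A'.map S.subtype) := by
  constructor
  · intro h; exact Helper5.elemAb_map S.subtype h
  · intro h
    have h1 := Helper5.elemAb_comap_of_injective S.subtype S.subtype_injective h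
    rwa [Subgroup.comap_map_eq_self_of_injective S.subtype_injective] at h1

theorem zjhyp_elem [Finite G] {p : ℕ} [Fact p.Prime] (hp : p ≠ 2) (S : Sylow p G) :
    ZJHyp (fun A : Subgroup G => Cfsg.IsElementaryAbelian p A) (S : Subgroup G) := by
  refine ⟨fun A h => h.1, Helper5.elemAb_bot p, ?_, ?_⟩
  · intro φ A hA
    exact Helper5.elemAb_map φ.toMonoidHom hA
  · apply rep_of_subtype (S : Subgroup G) _
      (fun A' : Subgroup ↥(S : Subgroup G) => Cfsg.IsElementaryAbelian p A')
      (isElementaryAbelian_map_subtype_iff p (S : Subgroup G))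
    intro D' B' _ _ hcl hU
    obtain ⟨U', hU', h1, h2⟩ := hU
    obtain ⟨A', hA', h3, h4, h5⟩ := Cfsg.Agent.S0652.result S.isPGroup' hp D' B' hcl
      ⟨U', (Cfsg.Agent.S0652.mem_image_iff p D' U').mpr hU', h1, h2⟩
    exact ⟨A', (Cfsg.Agent.S0652.mem_image_iff p D' A').mp hA', h3, h4, h5⟩

theorem famQ_elem_eq_image (p : ℕ) (S : Subgroup G) :
    famQ (fun A : Subgroup G => Cfsg.IsElementaryAbelian p A) S =
      (fun A : Subgroup ↥S => A.map S.subtype) '' (Cfsg.maxElementaryAbelianSubgroups p ↥S) := by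
  ext A
  exact (Cfsg.Agent.S0652.mem_image_iff p S A).symm

theorem zfam_eq_omegaCenterThompson [Finite G] {p : ℕ} [Fact p.Prime] (S : Subgroup G)
    (hS : IsPGroup p S) :
    zfam (fun A : Subgroup G => Cfsg.IsElementaryAbelian p A) S =
      (Cfsg.omegaCenterThompson p ↥S).map S.subtype := by
  rw [← (Cfsg.Agent.S0655.result hS).1, map_sInf_subtype S _ (Helper5.maxElemAb_nonempty p),
    ← famQ_elem_eq_image]
  rfl

end ZJ7

end Cfsg.Agent.Lib.Helper9
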