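import Mathlib
import Cfsg.Prelude.Def_Local
import Cfsg.Agent.Lib.Helper9.ZJ4

set_option autoImplicit false

namespace Cfsg.Agent.Lib.Helper9

open scoped Pointwise commutatorElement

section ZJ8

theorem pCore_map_le_of_surjective {A B : Type*} [Group A] [Group B] {p : ℕ} [Fact p.Prime]
    (f : A →* B) (hf : Function.Surjective f) : (Cfsg.pCore p A).map f ≤ Cfsg.pCore p B := by
  apply Helper1.le_pCore
  · exact Subgroup.Normal.map (Helper1.pCore_normal p) f hf
  · exact (Helper1.pCore_isPGroup p).map _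

theorem pstable_transfer {X Y : Type*} [Group X] [Group Y] {p : ℕ} [Fact p.Prime] (π : X →* Y)
    (V₀ : Subgroup X) (V' : Subgroup Y) [V'.Normal]
    (hV : V₀.map π = V') (hsurj : (Subgroup.normalizer (V₀ : Set X)).map π = ⊤) (A : Subgroup X)
    (hcon : (A.subgroupOf (Subgroup.normalizer (V₀ : Set X))).map
      (QuotientGroup.mk' ((Subgroup.centralizer (V₀ : Set X)).subgroupOf
        (Subgroup.normalizer (V₀ : Set X)))) ≤ Cfsg.pCore p _)
    (a : X) (haA : a ∈ A) (haN : a ∈ Subgroup.normalizer (V₀ : Set X)) :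
    (QuotientGroup.mk (π a) : Y ⧸ Subgroup.centralizer (V' : Set Y)) ∈
      Cfsg.pCore p (Y ⧸ Subgroup.centralizer (V' : Set Y)) := by
  let ψ : ↥(Subgroup.normalizer (V₀ : Set X)) →* Y ⧸ Subgroup.centralizer (V' : Set Y) :=
    (QuotientGroup.mk' (Subgroup.centralizer (V' : Set Y))).comp
      (π.comp (Subgroup.normalizer (V₀ : Set X)).subtype)
  have hker : (Subgroup.centralizer (V₀ : Set X)).subgroupOf (Subgroup.normalizer (V₀ : Set X)) ≤
      ψ.ker := by
    intro n hn
    rw [Subgroup.mem_subgroupOf] at hn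
    rw [MonoidHom.mem_ker]
    show (QuotientGroup.mk (π (n : X)) : Y ⧸ Subgroup.centralizer (V' : Set Y)) = 1
    rw [QuotientGroup.eq_one_iff, Subgroup.mem_centralizer_iff]
    intro y hy
    rw [← hV] at hy
    obtain ⟨v, hv, rfl⟩ := Subgroup.mem_map.mp hy
    rw [← map_mul, ← map_mul, Subgroup.mem_centralizer_iff.mp hn v hv]
  let ψ' := QuotientGroup.lift _ ψ hker
  have hψ'surj : Function.Surjective ψ' := by
    intro y
    obtain ⟨y₀, rfl⟩ := QuotientGroup.mk_surjective y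
    have h1 : y₀ ∈ (Subgroup.normalizer (V₀ : Set X)).map π := by rw [hsurj]; trivial
    obtain ⟨n, hn, rfl⟩ := Subgroup.mem_map.mp h1
    exact ⟨QuotientGroup.mk ⟨n, hn⟩, rfl⟩
  have h2 := pCore_map_le_of_surjective (p := p) ψ' hψ'surj
  have h3 : (QuotientGroup.mk' ((Subgroup.centralizer (V₀ : Set X)).subgroupOf
        (Subgroup.normalizer (V₀ : Set X)))) ⟨a, haN⟩ ∈ Cfsg.pCore p _ := by
    apply hcon
    exact Subgroup.mem_map.mpr ⟨⟨a, haN⟩, by rw [Subgroup.mem_subgroupOf]; exact haA, rfl⟩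
  have h4 := h2 (Subgroup.mem_map.mpr ⟨_, h3, rfl⟩)
  exact h4

end ZJ8

end Cfsg.Agent.Lib.Helper9
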