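import Mathlib
import Cfsg.Prelude.Def_Local
import Cfsg.Agent.Lib.Helper9.ZJ8
import Cfsg.Agent.Lib.Helper5.PConstr2

set_option autoImplicit false

namespace Cfsg.Agent.Lib.Helper9

open scoped Pointwise commutatorElement

section ZJ9

theorem commutator_le_of_normalizes {X : Type*} [Group X] {V A : Subgroup X}
    (h : A ≤ Subgroup.normalizer (V : Set X)) : ⁅V, A⁆ ≤ V := by
  rw [Subgroup.commutator_le]
  intro v hv a ha
  have haN := h ha
  rw [Subgroup.mem_normalizer_iff] at haN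
  have h1 : a * v⁻¹ * a⁻¹ ∈ V := (haN v⁻¹).mp (V.inv_mem hv)
  have e : ⁅v, a⁆ = v * (a * v⁻¹ * a⁻¹) := by rw [commutatorElement_def]; group
  rw [e]; exact V.mul_mem hv h1

/-- `p`-stability (Gorenstein's form) with trivial `p'`-core gives the action form on normal
`p`-subgroups, for elements of a Sylow `p`-subgroup. -/
theorem hst_of_isPStable {H : Type*} [Group H] [Finite H] {p : ℕ} [Fact p.Prime]
    (hs : Cfsg.IsPStable p H) (h0 : Cfsg.pPrimeCore p H = ⊥) (S : Sylow p H) :
    ∀ (V : Subgroup H) [V.Normal], IsPGroup p V → ∀ a ∈ (S : Subgroup H),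
      ⁅⁅V, Subgroup.zpowers a⁆, Subgroup.zpowers a⁆ = ⊥ →
      (QuotientGroup.mk a : H ⧸ Subgroup.centralizer (V : Set H)) ∈
        Cfsg.pCore p (H ⧸ Subgroup.centralizer (V : Set H)) := by
  intro V hVn hV a ha hq
  obtain ⟨-, -, hst⟩ := hs
  have hAp : IsPGroup p (Subgroup.zpowers a) := S.isPGroup'.to_le (Subgroup.zpowers_le.mpr ha)
  have hNtop : Subgroup.normalizer (V : Set H) = ⊤ := normal_normalizer_eq_top V
  have hcon := hst (Subgroup.zpowers a) V hAp hV
    (fun a₁ _ x hx => hVn.conj_mem x hx a₁)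
    ((Helper1.le_pCore hVn hV).trans Helper5.h5_pCore_le_pPrimePCore)
    (by rw [h0, bot_sup_eq]; exact hVn) hq
  have h1 := pstable_transfer (p := p) (MonoidHom.id H) V V (Subgroup.map_id V)
    (by rw [hNtop, Subgroup.map_id]) (Subgroup.zpowers a) hcon a (Subgroup.mem_zpowers a)
    (by rw [hNtop]; trivial)
  exact h1

end ZJ9

end Cfsg.Agent.Lib.Helper9
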