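import Mathlib
import Cfsg.Prelude.Def_CaseTheorems

set_option autoImplicit false

namespace Cfsg.Agent.Lib.Helper9

open Subgroup

variable {G : Type*} [Group G]

/-- The elements of exponent `p` in a commutative subgroup. -/
def omegaSub (p : ℕ) (T : Subgroup G) (hT : ∀ x ∈ T, ∀ y ∈ T, x * y = y * x) : Subgroup G where
  carrier := {x | x ∈ T ∧ x ^ p = 1}
  mul_mem' := by
    rintro a b ⟨ha, ha2⟩ ⟨hb, hb2⟩
    refine ⟨T.mul_mem ha hb, ?_⟩
    have : Commute a b := hT a ha b hb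
    rw [this.mul_pow, ha2, hb2, one_mul]
  one_mem' := ⟨T.one_mem, one_pow p⟩
  inv_mem' := by
    rintro a ⟨ha, ha2⟩
    exact ⟨T.inv_mem ha, by rw [inv_pow, ha2, inv_one]⟩

theorem mem_omegaSub {p : ℕ} {T : Subgroup G} {hT : ∀ x ∈ T, ∀ y ∈ T, x * y = y * x} {x : G} :
    x ∈ omegaSub p T hT ↔ x ∈ T ∧ x ^ p = 1 := Iff.rfl

theorem omegaSub_le {p : ℕ} {T : Subgroup G} {hT : ∀ x ∈ T, ∀ y ∈ T, x * y = y * x} :
    omegaSub p T hT ≤ T := fun _ hx => hx.1

theorem card_omegaSub_le_of_pRankLE {p k : ℕ} {T : Subgroup G}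
    (hT : ∀ x ∈ T, ∀ y ∈ T, x * y = y * x) (h : Cfsg.PRankLE p k T) :
    Nat.card (omegaSub p T hT) ≤ p ^ k := by
  have h1 := h ((omegaSub p T hT).subgroupOf T)
    ⟨⟨fun a b => Subtype.ext (Subtype.ext (hT _ a.1.2 _ b.1.2))⟩⟩
    (by
      intro a ha
      have := (Subgroup.mem_subgroupOf.1 ha).2
      apply Subtype.ext
      simpa using this)
  rwa [Nat.card_congr (Subgroup.subgroupOfEquivOfLe (omegaSub_le (hT := hT))).toEquiv] at h1

theorem lt_card_omegaSub_of_not_pRankLE [Finite G] {p k : ℕ} {T : Subgroup G}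
    (hT : ∀ x ∈ T, ∀ y ∈ T, x * y = y * x) (h : ¬ Cfsg.PRankLE p k T) :
    p ^ k < Nat.card (omegaSub p T hT) := by
  unfold Cfsg.PRankLE at h
  push Not at h
  obtain ⟨A, -, hA2, hcard⟩ := h
  have hle : A.map T.subtype ≤ omegaSub p T hT := by
    rintro _ ⟨a, ha, rfl⟩
    refine ⟨a.2, ?_⟩
    have := hA2 a ha
    have h2 := congrArg (Subtype.val) this
    simpa using h2
  have h3 : Nat.card (A.map T.subtype) = Nat.card A :=
    Subgroup.card_map_of_injective T.subtype_injective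
  calc p ^ k < Nat.card A := hcard
    _ = Nat.card (A.map T.subtype) := h3.symm
    _ ≤ Nat.card (omegaSub p T hT) := Subgroup.card_le_of_le hle

end Cfsg.Agent.Lib.Helper9

namespace Cfsg.Agent.Lib.Helper9

open Subgroup

theorem pRankLE_of_injective {X Y : Type*} [Group X] [Group Y] {p n : ℕ} (f : X →* Y)
    (hf : Function.Injective f) (h : Cfsg.PRankLE p n Y) : Cfsg.PRankLE p n X := by
  intro A hA hexp
  have h1 := h (A.map f)
    (by
      constructor; constructor
      rintro ⟨_, a, ha, rfl⟩ ⟨_, b, hb, rfl⟩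
      apply Subtype.ext
      show f a * f b = f b * f a
      rw [← map_mul, ← map_mul]
      exact congrArg (fun z : A => f z.1) (hA.is_comm.comm ⟨a, ha⟩ ⟨b, hb⟩))
    (by
      rintro _ ⟨a, ha, rfl⟩
      rw [← map_pow, hexp a ha, map_one])
  rwa [Subgroup.card_map_of_injective hf] at h1

theorem pRankLE_of_le {G : Type*} [Group G] {p n : ℕ} {X Y : Subgroup G} (h : X ≤ Y)
    (hY : Cfsg.PRankLE p n Y) : Cfsg.PRankLE p n X :=
  pRankLE_of_injective (Subgroup.inclusion h) (Subgroup.inclusion_injective h) hY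

theorem pRankLE_map_iff {G G' : Type*} [Group G] [Group G'] {p n : ℕ} (f : G →* G')
    (hf : Function.Injective f) (X : Subgroup G) :
    Cfsg.PRankLE p n (X.map f) ↔ Cfsg.PRankLE p n X := by
  constructor
  · exact pRankLE_of_injective (X.equivMapOfInjective f hf).toMonoidHom
      (X.equivMapOfInjective f hf).injective
  · exact pRankLE_of_injective (X.equivMapOfInjective f hf).symm.toMonoidHom
      (X.equivMapOfInjective f hf).symm.injective

theorem not_pRankLE_of_elemAb {X : Type*} [Group X] {p n : ℕ} (A : Subgroup X)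
    (hc : IsMulCommutative A) (hexp : ∀ a ∈ A, a ^ p = 1) (hcard : p ^ n < Nat.card A) :
    ¬ Cfsg.PRankLE p n A := by
  intro h
  have h1 := h ⊤
    ⟨⟨fun a b => Subtype.ext (hc.is_comm.comm a.1 b.1)⟩⟩
    (by
      intro a _
      exact Subtype.ext (by simpa using hexp a.1 a.2))
  rw [Subgroup.card_top] at h1
  omega

end Cfsg.Agent.Lib.Helper9
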