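import Mathlib
import Cfsg.Prelude.Def_Balance
import Cfsg.Agent.Lib.Helper1.Nilp
import Cfsg.Agent.Lib.Helper5.ElemAb
import Cfsg.Agent.Lib.Helper18.PPrimeCore
import Cfsg.Agent.Lib.Helper21.OmegaCent
import Cfsg.Agent.Lib.Helper24.NormalRank

set_option autoImplicit false

namespace Cfsg.Agent.Lib.Helper9

section KJ1
variable {G : Type*} [Group G]

/-- in a finite `p`-group, between two normal subgroups `M < N` there is an element of `N`
outside `M`, with `p`-th power in `M`, central modulo `M` -/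
theorem kj_exists_over_in [Finite G] {p : ℕ} [Fact p.Prime] (hG : IsPGroup p G)
    (M N : Subgroup G) [M.Normal] [N.Normal] (hMN : M ≤ N) (hne : M ≠ N) :
    ∃ x ∈ N, x ∉ M ∧ x ^ p ∈ M ∧ ∀ g : G, x⁻¹ * g * x * g⁻¹ ∈ M := by
  classical
  haveI : Group.IsNilpotent (G ⧸ M) := (hG.to_quotient M).isNilpotent
  have hNn : (N.map (QuotientGroup.mk' M)).Normal :=
    Subgroup.Normal.map inferInstance _ (QuotientGroup.mk'_surjective M)
  have hNne : N.map (QuotientGroup.mk' M) ≠ ⊥ := by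
    intro h
    apply hne
    apply le_antisymm hMN
    intro u hu
    have : (QuotientGroup.mk' M) u ∈ N.map (QuotientGroup.mk' M) := Subgroup.mem_map_of_mem _ hu
    rw [h, Subgroup.mem_bot] at this
    exact (QuotientGroup.eq_one_iff u).mp this
  have h1 := Cfsg.Agent.Lib.Helper1.normal_inf_center_ne_bot (N.map (QuotientGroup.mk' M)) hNne
  obtain ⟨⟨q, hq⟩, hq1⟩ := (Subgroup.ne_bot_iff_exists_ne_one).mp h1
  have hq1' : q ≠ 1 := fun h => hq1 (Subtype.ext h)
  obtain ⟨⟨x0, hx0N, rfl⟩, hqZ⟩ := hq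
  have hx0M : x0 ∉ M := fun h => hq1' ((QuotientGroup.eq_one_iff x0).mpr h)
  have hcomm : ∀ i : ℕ, ∀ g : G, (x0 ^ i)⁻¹ * g * x0 ^ i * g⁻¹ ∈ M := by
    intro i g
    rw [← QuotientGroup.eq_one_iff]
    have h2 := Subgroup.mem_center_iff.mp (Subgroup.pow_mem _ hqZ i) ((QuotientGroup.mk' M) g)
    have h3 : (((x0 ^ i)⁻¹ * g * x0 ^ i * g⁻¹ : G) : G ⧸ M) =
        ((QuotientGroup.mk' M) x0 ^ i)⁻¹ * ((QuotientGroup.mk' M) g * (QuotientGroup.mk' M) x0 ^ i) *
          ((QuotientGroup.mk' M) g)⁻¹ := by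
      simp [mul_assoc]
    rw [h3, h2]
    group
  have hexi : ∃ i, x0 ^ p ^ i ∈ M := by
    obtain ⟨e, he⟩ := hG x0
    exact ⟨e, by rw [he]; exact M.one_mem⟩
  have hspec2 := Nat.find_spec hexi
  have hmin2 := fun i (hi : i < Nat.find hexi) => Nat.find_min hexi hi
  have hpos2 : Nat.find hexi ≠ 0 := by
    intro h0
    rw [h0, pow_zero, pow_one] at hspec2
    exact hx0M hspec2
  obtain ⟨i, hi⟩ : ∃ i, Nat.find hexi = i + 1 := ⟨Nat.find hexi - 1, by omega⟩
  rw [hi] at hspec2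
  refine ⟨x0 ^ p ^ i, Subgroup.pow_mem _ hx0N _, hmin2 i (by omega), ?_, ?_⟩
  · rw [← pow_mul, ← pow_succ]; exact hspec2
  · exact hcomm _

/-- a subgroup between `W` and `F` with `|F| = p |W|` is `W` or `F` -/
theorem kj_between_prime [Finite G] {p : ℕ} [hp : Fact p.Prime] {W D F : Subgroup G}
    (hWD : W ≤ D) (hDF : D ≤ F) (hcard : Nat.card F = p * Nat.card W) : D = W ∨ D = F := by
  have h1 := Cfsg.Agent.Lib.Helper18.card_mul_relIndex_of_le_h18 hWD
  have h2 := Cfsg.Agent.Lib.Helper18.card_mul_relIndex_of_le_h18 hDF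
  have hWpos : 0 < Nat.card W := Nat.card_pos
  have h3 : W.relIndex D * D.relIndex F = p := by
    have : Nat.card W * (W.relIndex D * D.relIndex F) = Nat.card W * p := by
      rw [← mul_assoc, h1, h2, hcard, mul_comm]
    exact Nat.eq_of_mul_eq_mul_left hWpos this
  have h4 : W.relIndex D ∣ p := Dvd.intro _ h3
  rcases (Nat.dvd_prime hp.out).mp h4 with h5 | h5
  · left
    rw [h5, mul_one] at h1
    exact (Subgroup.eq_of_le_of_card_ge hWD (by rw [h1])).symm
  · right
    rw [h5] at h3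
    have h6 : D.relIndex F = 1 := by
      have hp0 := hp.out.pos
      have : p * D.relIndex F = p * 1 := by rw [h3, mul_one]
      exact Nat.eq_of_mul_eq_mul_left hp0 this
    rw [h6, mul_one] at h2
    exact Subgroup.eq_of_le_of_card_ge hDF (by rw [h2])

/-- `|G| = |ker f| * |range f|` -/
theorem kj_card_ker_mul_range [Finite G] {H : Type*} [Group H] (f : G →* H) :
    Nat.card G = Nat.card f.ker * Nat.card f.range := by
  rw [← Subgroup.index_ker, Subgroup.card_mul_index]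

end KJ1

end Cfsg.Agent.Lib.Helper9
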