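import Mathlib

set_option autoImplicit false

namespace Cfsg.Agent.Lib.Helper9

variable {G : Type*} [Group G]

theorem conj_pow_of_conj {g c : G} {r : ℕ} (h : g * c * g⁻¹ = c ^ r) (m : ℕ) :
    g * c ^ m * g⁻¹ = c ^ (r * m) := by
  have : g * c ^ m * g⁻¹ = (g * c * g⁻¹) ^ m := (conj_pow).symm
  rw [this, h, pow_mul]

theorem pow_conj_of_conj {g c : G} {r : ℕ} (h : g * c * g⁻¹ = c ^ r) (k m : ℕ) :
    g ^ k * c ^ m * (g ^ k)⁻¹ = c ^ (r ^ k * m) := by
  induction k generalizing m with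
  | zero => simp
  | succ k ih =>
    have e : g ^ (k+1) * c ^ m * (g ^ (k+1))⁻¹ = g ^ k * (g * c ^ m * g⁻¹) * (g^k)⁻¹ := by
      rw [pow_succ]; group
    rw [e, conj_pow_of_conj h, ih]
    congr 1
    ring

theorem mul_pow_of_conj {g c : G} {r : ℕ} (h : g * c * g⁻¹ = c ^ r) (x k : ℕ) :
    (c ^ x * g) ^ k = c ^ (x * ∑ i ∈ Finset.range k, r ^ i) * g ^ k := by
  induction k with
  | zero => simp
  | succ k ih =>
    rw [pow_succ, ih, Finset.sum_range_succ, mul_add, pow_add]
    have h1 := pow_conj_of_conj h k x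
    have h2 : g ^ k * c ^ x = c ^ (r ^ k * x) * g ^ k := by
      rw [← h1]; group
    calc c ^ (x * ∑ i ∈ Finset.range k, r ^ i) * g ^ k * (c ^ x * g)
        = c ^ (x * ∑ i ∈ Finset.range k, r ^ i) * (g ^ k * c ^ x) * g := by group
      _ = c ^ (x * ∑ i ∈ Finset.range k, r ^ i) * (c ^ (r ^ k * x) * g ^ k) * g := by rw [h2]
      _ = c ^ (x * ∑ i ∈ Finset.range k, r ^ i) * c ^ (x * r ^ k) * g ^ (k + 1) := by
          rw [mul_comm (r ^ k) x, pow_succ]; group

/-- Common setup for `p`-groups with a cyclic maximal subgroup. -/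
theorem cyclic_max_setup [Finite G] {p : ℕ} [Fact p.Prime] (n : ℕ) (hn : 1 ≤ n)
    (hG : Nat.card G = p ^ n) (C : Subgroup G) (hC : IsCyclic C) (hCi : C.index = p)
    (hna : ∃ x y : G, x * y ≠ y * x) :
    ∃ (c g : G) (r : ℕ), orderOf c = p ^ (n - 1) ∧ Subgroup.zpowers c = C ∧ C.Normal ∧ g ∉ C ∧
      g * c * g⁻¹ = c ^ r ∧ ¬ (r ≡ 1 [MOD p ^ (n - 1)]) ∧ r ^ p ≡ 1 [MOD p ^ (n - 1)] ∧
      g ^ p ∈ C := by
  classical
  have hp : p.Prime := Fact.out
  have hCn : C.Normal := by
    apply Subgroup.normal_of_index_eq_minFac_card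
    rw [hCi, hG, Nat.Prime.pow_minFac hp (by omega)]
  have hCcard : Nat.card C = p ^ (n - 1) := by
    have h1 := C.card_mul_index
    rw [hCi, hG] at h1
    have h2 : p ^ n = p ^ (n - 1) * p := by
      rw [← pow_succ]; congr 1; omega
    rw [h2] at h1
    exact Nat.eq_of_mul_eq_mul_right hp.pos h1
  obtain ⟨⟨c, hcC⟩, hgen⟩ := hC.exists_generator
  have hzc : Subgroup.zpowers c = C := by
    apply le_antisymm
    · rw [Subgroup.zpowers_le]; exact hcC
    · intro x hx
      obtain ⟨k, hk⟩ := Subgroup.mem_zpowers_iff.mp (hgen ⟨x, hx⟩)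
      rw [Subgroup.mem_zpowers_iff]
      refine ⟨k, ?_⟩
      have := congrArg Subtype.val hk
      simpa using this
  have hoc : orderOf c = p ^ (n - 1) := by
    rw [← hCcard, ← hzc, Nat.card_zpowers]
  -- some g outside C does not commute with c
  have hex : ∃ g : G, g ∉ C ∧ g * c ≠ c * g := by
    by_contra hcon
    push Not at hcon
    have hcen : ∀ g : G, g * c = c * g := by
      intro g
      by_cases hg : g ∈ C
      · rw [← hzc] at hg
        obtain ⟨k, rfl⟩ := Subgroup.mem_zpowers_iff.mp hg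
        exact (Commute.zpow_self c k).eq
      · exact hcon g hg
    have hCle : C ≤ Subgroup.center G := by
      rw [← hzc, Subgroup.zpowers_le, Subgroup.mem_center_iff]
      exact hcen
    have hidx : (Subgroup.center G).index ∣ p := by
      rw [← hCi]
      exact Subgroup.index_dvd_of_le hCle
    have hcyc : IsCyclic (G ⧸ Subgroup.center G) := by
      rcases (Nat.dvd_prime hp).mp hidx with h1 | h1
      · have : Subsingleton (G ⧸ Subgroup.center G) := by
          rw [← Finite.card_le_one_iff_subsingleton, ← Subgroup.index_eq_card, h1]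
        exact isCyclic_of_subsingleton
      · have hpf : Fact (Nat.card (G ⧸ Subgroup.center G)).Prime := by
          rw [← Subgroup.index_eq_card, h1]; exact ⟨hp⟩
        exact isCyclic_of_prime_card rfl
    obtain ⟨x, y, hxy⟩ := hna
    have hcomm : IsMulCommutative G :=
      MonoidHom.isMulCommutative_of_isCyclic_of_ker_le_center
        (QuotientGroup.mk' (Subgroup.center G)) (by simp)
    exact hxy (mul_comm' x y)
  obtain ⟨g, hgC, hgc⟩ := hex
  have hconjC : g * c * g⁻¹ ∈ C := hCn.conj_mem c hcC g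
  rw [← hzc] at hconjC
  obtain ⟨r, -, hr⟩ := (isOfFinOrder_of_finite c).mem_zpowers_iff_mem_range_orderOf.mp hconjC |>
    Finset.mem_image.mp
  have hr' : g * c * g⁻¹ = c ^ r := hr.symm
  have hgp : g ^ p ∈ C := by
    rw [← hCi]
    exact Subgroup.pow_index_mem C g
  refine ⟨c, g, r, hoc, hzc, hCn, hgC, hr', ?_, ?_, hgp⟩
  · intro hmod
    rw [← hoc] at hmod
    have : c ^ r = c ^ 1 := pow_eq_pow_iff_modEq.mpr hmod
    rw [pow_one] at this
    apply hgc
    rw [this] at hr'
    calc g * c = g * c * g⁻¹ * g := by group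
      _ = c * g := by rw [hr']
  · have h1 := pow_conj_of_conj hr' p 1
    rw [pow_one, mul_one] at h1
    have h2 : g ^ p * c * (g ^ p)⁻¹ = c := by
      rw [← hzc] at hgp
      obtain ⟨k, hk⟩ := Subgroup.mem_zpowers_iff.mp hgp
      rw [← hk]
      have := (Commute.zpow_self c k).eq
      calc c ^ k * c * (c ^ k)⁻¹ = c * c ^ k * (c ^ k)⁻¹ := by rw [this]
        _ = c := by group
    rw [h2] at h1
    rw [← hoc]
    apply pow_eq_pow_iff_modEq.mp
    rw [pow_one]
    exact h1.symm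

theorem one_add_pow_of_sq_zero {R : Type*} [CommRing R] (x : R) (hx : x * x = 0) (j : ℕ) :
    (1 + x) ^ j = 1 + j * x := by
  induction j with
  | zero => simp
  | succ j ih =>
    rw [pow_succ, ih]
    push_cast
    linear_combination (j : R) * hx

/-- `r ^ p ≡ 1 mod p ^ (m+1)` forces `r ≡ 1 mod p ^ m` for odd `p`. -/
theorem modEq_one_of_pow_prime_modEq_one {p : ℕ} [Fact p.Prime] (hp2 : p ≠ 2) {m r : ℕ}
    (h1 : r ^ p ≡ 1 [MOD p ^ (m + 1)]) : r ≡ 1 [MOD p ^ m] := by
  have hp : p.Prime := Fact.out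
  have hodd : Odd p := hp.odd_of_ne_two hp2
  have hN1 : 1 < p ^ (m + 1) := Nat.one_lt_pow (by omega) hp.one_lt
  rcases Nat.lt_or_ge r 2 with hr | hr
  · interval_cases r
    · exfalso
      rw [zero_pow hp.ne_zero] at h1
      have := h1.symm
      rw [Nat.modEq_zero_iff_dvd] at this
      exact absurd (Nat.le_of_dvd one_pos this) (by omega)
    · rfl
  · -- r ≥ 2
    have hmodp : r ^ p ≡ 1 [MOD p] := h1.of_dvd (dvd_pow_self p (by omega))
    have hr1 : r ≡ 1 [MOD p] := by
      rw [← ZMod.natCast_eq_natCast_iff] at hmodp ⊢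
      push_cast at hmodp ⊢
      rw [ZMod.pow_card] at hmodp
      exact hmodp
    have hdvd : p ∣ r - 1 := (Nat.modEq_iff_dvd' (by omega)).mp hr1.symm
    have hndvd : ¬ p ∣ r := by
      intro h
      have h0 : r ≡ 0 [MOD p] := (Nat.modEq_zero_iff_dvd).mpr h
      have := h0.symm.trans hr1
      rw [Nat.ModEq, Nat.zero_mod, Nat.mod_eq_of_lt hp.one_lt] at this
      omega
    have hlte := padicValNat.pow_sub_pow hodd (x := r) (y := 1) (by omega) hdvd hndvd
      (n := p) hp.ne_zero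
    rw [one_pow, padicValNat_self] at hlte
    have hge : 1 ≤ r ^ p := Nat.one_le_pow _ _ (by omega)
    have hdvd2 : p ^ (m + 1) ∣ r ^ p - 1 := (Nat.modEq_iff_dvd' hge).mp h1.symm
    have hne : r ^ p - 1 ≠ 0 := by
      have : 2 ^ p ≤ r ^ p := Nat.pow_le_pow_left hr p
      have h2 : 2 ≤ 2 ^ p := by
        calc 2 = 2 ^ 1 := by norm_num
          _ ≤ 2 ^ p := Nat.pow_le_pow_right (by norm_num) hp.one_le
      omega
    have h3 := (padicValNat_dvd_iff_le hne).mp hdvd2
    rw [hlte] at h3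
    have h4 : m ≤ padicValNat p (r - 1) := by omega
    have h5 : p ^ m ∣ r - 1 := (padicValNat_dvd_iff_le (by omega)).mpr h4
    exact ((Nat.modEq_iff_dvd' (by omega)).mpr h5).symm

end Cfsg.Agent.Lib.Helper9
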