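import Mathlib
import Cfsg.Prelude.Def_CaseTheorems
import Cfsg.Agent.Lib.helper14.Quat
import Cfsg.Agent.Lib.Helper9.CyclicMax

set_option autoImplicit false

namespace Cfsg.Agent.Lib.Helper9

open Cfsg.Agent.Lib.helper14

/-- data of a quasi-dihedral group -/
structure QD (S : Type*) [Group S] where
  n : ℕ
  hn : 3 ≤ n
  card : Nat.card S = 2 ^ (n + 1)
  x : S
  y : S
  hx : orderOf x = 2 ^ n
  hy : orderOf y = 2
  hc : y * x * y⁻¹ = x ^ (2 ^ (n - 1) - 1)

theorem exists_qd {S : Type*} [Group S] (h : Cfsg.IsQuasiDihedral S) : Nonempty (QD S) := by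
  obtain ⟨n, hn, hcard, x, y, hx, hy, hc⟩ := h
  exact ⟨⟨n, hn, hcard, x, y, hx, hy, hc⟩⟩

namespace QD

variable {S : Type*} [Group S] (D : QD S)

/-- the modulus -/
def N : ℕ := 2 ^ D.n

instance : NeZero D.N := ⟨by unfold N; positivity⟩

theorem x_pow_N : D.x ^ D.N = 1 := by
  unfold N; rw [← D.hx]; exact pow_orderOf_eq_one _

/-- powers of `x`, indexed by `ZMod N` -/
noncomputable def X (i : ZMod D.N) : S := zmodPow D.N D.x D.x_pow_N i

/-- the other coset -/
noncomputable def Y (i : ZMod D.N) : S := D.X i * D.y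

/-- `2 ^ (n - 1)` -/
def u : ZMod D.N := ((2 ^ (D.n - 1) : ℕ) : ZMod D.N)

/-- `2 ^ (n - 2)` -/
def v : ZMod D.N := ((2 ^ (D.n - 2) : ℕ) : ZMod D.N)

/-- the conjugation exponent -/
def ρ : ZMod D.N := ((2 ^ (D.n - 1) - 1 : ℕ) : ZMod D.N)

theorem two_u : 2 * D.u = 0 := by
  have h : ((2 * 2 ^ (D.n - 1) : ℕ) : ZMod D.N) = 0 := by
    rw [ZMod.natCast_eq_zero_iff]
    have : 2 * 2 ^ (D.n - 1) = D.N := by
      unfold N
      rw [← pow_succ']
      congr 1
      have := D.hn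
      omega
    rw [this]
  unfold u
  push_cast at h ⊢
  exact h

theorem two_v : 2 * D.v = D.u := by
  unfold u v
  have : 2 * 2 ^ (D.n - 2) = 2 ^ (D.n - 1) := by
    rw [← pow_succ']
    congr 1
    have := D.hn
    omega
  rw [← this]
  push_cast
  ring

theorem u_mul_v : D.u * D.v = 0 := by
  unfold u v
  rw [← Nat.cast_mul, ZMod.natCast_eq_zero_iff]
  have : 2 ^ (D.n - 1) * 2 ^ (D.n - 2) = D.N * 2 ^ (D.n - 3) := by
    unfold N
    rw [← pow_add, ← pow_add]
    congr 1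
    have := D.hn
    omega
  rw [this]
  exact dvd_mul_right _ _

theorem u_sq : D.u * D.u = 0 := by
  calc D.u * D.u = D.u * (2 * D.v) := by rw [D.two_v]
    _ = 2 * (D.u * D.v) := by ring
    _ = 0 := by rw [D.u_mul_v, mul_zero]

theorem ρ_eq : D.ρ = D.u - 1 := by
  unfold ρ u
  rw [Nat.cast_sub (Nat.one_le_two_pow)]
  simp

theorem ρ_sq : D.ρ * D.ρ = 1 := by
  rw [D.ρ_eq]
  linear_combination D.u_sq - D.two_u

theorem u_ne_zero : D.u ≠ 0 := by
  unfold u
  rw [Ne, ZMod.natCast_eq_zero_iff]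
  intro h
  have h1 : 2 ^ (D.n - 1) < D.N := by
    unfold N
    apply Nat.pow_lt_pow_right (by norm_num)
    have := D.hn
    omega
  exact absurd (Nat.le_of_dvd (by positivity) h) (by omega)

theorem u_ne_two : D.u ≠ 2 := by
  intro h
  have h1 := D.u_mul_v
  rw [h, D.two_v] at h1
  exact D.u_ne_zero h1

theorem parity (i : ZMod D.N) : ∃ j : ZMod D.N, i = 2 * j ∨ i = 2 * j + 1 := by
  refine ⟨((i.val / 2 : ℕ) : ZMod D.N), ?_⟩
  rcases Nat.mod_two_eq_zero_or_one i.val with h | h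
  · left
    have : i.val = 2 * (i.val / 2) := by omega
    conv_lhs => rw [← ZMod.natCast_zmod_val i, this]
    push_cast
    rfl
  · right
    have : i.val = 2 * (i.val / 2) + 1 := by omega
    conv_lhs => rw [← ZMod.natCast_zmod_val i, this]
    push_cast
    rfl

theorem two_mul_eq_zero (i : ZMod D.N) (h : 2 * i = 0) : i = 0 ∨ i = D.u := by
  have h1 : ((2 * i.val : ℕ) : ZMod D.N) = 0 := by
    push_cast
    rw [ZMod.natCast_zmod_val]
    exact h
  rw [ZMod.natCast_eq_zero_iff] at h1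
  have hN : D.N = 2 * 2 ^ (D.n - 1) := by
    unfold N
    rw [← pow_succ']
    congr 1
    have := D.hn
    omega
  have h2 : 2 ^ (D.n - 1) ∣ i.val := by
    obtain ⟨c, hc⟩ := h1
    refine ⟨c, ?_⟩
    have h3 : 2 * i.val = 2 * (2 ^ (D.n - 1) * c) := by
      calc 2 * i.val = D.N * c := hc
        _ = (2 * 2 ^ (D.n - 1)) * c := by rw [← hN]
        _ = 2 * (2 ^ (D.n - 1) * c) := by ring
    exact Nat.eq_of_mul_eq_mul_left (by norm_num) h3
  obtain ⟨t, ht⟩ := h2
  have hlt0 : i.val < D.N := ZMod.val_lt i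
  have hlt : 2 ^ (D.n - 1) * t < 2 * 2 ^ (D.n - 1) := by
    have := lt_of_lt_of_eq hlt0 hN
    rwa [ht] at this
  have hpos : 0 < 2 ^ (D.n - 1) := by positivity
  have ht2 : t < 2 := by
    by_contra hcon
    push Not at hcon
    have : 2 ^ (D.n - 1) * 2 ≤ 2 ^ (D.n - 1) * t := Nat.mul_le_mul_left _ hcon
    omega
  interval_cases t
  · left
    rw [mul_zero] at ht
    exact (ZMod.val_eq_zero i).mp ht
  · right
    rw [mul_one] at ht
    unfold u
    rw [← ht, ZMod.natCast_zmod_val]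

theorem two_mul_eq_u (i : ZMod D.N) (h : 2 * i = D.u) : i = D.v ∨ i = -D.v := by
  have h1 : 2 * (i - D.v) = 0 := by
    rw [mul_sub, D.two_v, h, sub_self]
  rcases D.two_mul_eq_zero _ h1 with h2 | h2
  · left
    exact sub_eq_zero.mp h2
  · right
    have : i = D.v + D.u := by rw [← h2]; ring
    rw [this]
    linear_combination D.two_v + D.two_u

theorem u_mul_even (j : ZMod D.N) : D.u * (2 * j) = 0 := by
  linear_combination j * D.two_u

theorem u_mul_odd (j : ZMod D.N) : D.u * (2 * j + 1) = D.u := by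
  linear_combination j * D.two_u

theorem conj_even (j : ZMod D.N) : ∃ k : ZMod D.N, k * (2 - D.u) = 2 * j := by
  refine ⟨j * (1 + D.v), ?_⟩
  linear_combination j * D.two_v - j * D.u_mul_v

/-! ### group elements -/

theorem X_add (i j : ZMod D.N) : D.X (i + j) = D.X i * D.X j := zmodPow_add _ _ _ _ _
theorem X_zero : D.X 0 = 1 := zmodPow_zero _ _ _
theorem X_neg (i : ZMod D.N) : D.X (-i) = (D.X i)⁻¹ := zmodPow_neg _ _ _ _
theorem X_sub (i j : ZMod D.N) : D.X (i - j) = D.X i * (D.X j)⁻¹ := zmodPow_sub _ _ _ _ _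
theorem X_one : D.X 1 = D.x := by
  have := zmodPow_natCast D.N D.x D.x_pow_N 1
  simpa [X] using this
theorem X_natCast (k : ℕ) : D.X (k : ZMod D.N) = D.x ^ k := zmodPow_natCast _ _ _ _

theorem X_eq_one (i : ZMod D.N) (h : D.X i = 1) : i = 0 :=
  zmodPow_eq_one D.N D.x D.x_pow_N (by unfold N; exact D.hx) i h

theorem X_inj {i j : ZMod D.N} (h : D.X i = D.X j) : i = j := by
  have : D.X (i - j) = 1 := by rw [X_sub, h, mul_inv_cancel]
  exact sub_eq_zero.mp (D.X_eq_one _ this)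

theorem y_sq : D.y * D.y = 1 := by
  have := pow_orderOf_eq_one D.y
  rw [D.hy, pow_two] at this
  exact this

theorem y_inv : D.y⁻¹ = D.y := inv_eq_of_mul_eq_one_left D.y_sq

theorem y_ne_one : D.y ≠ 1 := by
  intro h
  have := D.hy
  rw [h, orderOf_one] at this
  omega

theorem y_mul_X (i : ZMod D.N) : D.y * D.X i = D.X (D.ρ * i) * D.y := by
  have h1 : D.X i = D.x ^ i.val := zmodPow_eq_pow _ _ _ _
  have h2 := conj_pow_of_conj D.hc i.val
  have h3 : D.X (D.ρ * i) = D.x ^ ((2 ^ (D.n - 1) - 1) * i.val) := by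
    rw [← D.X_natCast]
    congr 1
    unfold ρ
    push_cast
    rw [ZMod.natCast_zmod_val]
  rw [h1, h3, ← h2]
  group

theorem X_mul_Y (i j : ZMod D.N) : D.X i * D.Y j = D.Y (i + j) := by
  unfold Y; rw [X_add, mul_assoc]

theorem Y_mul_X (i j : ZMod D.N) : D.Y i * D.X j = D.Y (i + D.ρ * j) := by
  unfold Y; rw [X_add, mul_assoc, D.y_mul_X, mul_assoc]

theorem Y_mul_Y (i j : ZMod D.N) : D.Y i * D.Y j = D.X (i + D.ρ * j) := by
  unfold Y
  rw [X_add]
  calc D.X i * D.y * (D.X j * D.y) = D.X i * (D.y * D.X j) * D.y := by group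
    _ = D.X i * (D.X (D.ρ * j) * D.y) * D.y := by rw [D.y_mul_X]
    _ = D.X i * D.X (D.ρ * j) * (D.y * D.y) := by group
    _ = D.X i * D.X (D.ρ * j) := by rw [D.y_sq, mul_one]

theorem Y_zero : D.Y 0 = D.y := by unfold Y; rw [X_zero, one_mul]

theorem Y_inv (i : ZMod D.N) : (D.Y i)⁻¹ = D.Y (-(D.ρ * i)) := by
  apply inv_eq_of_mul_eq_one_right
  rw [Y_mul_Y]
  have : i + D.ρ * -(D.ρ * i) = 0 := by linear_combination (-i) * D.ρ_sq
  rw [this, X_zero]

theorem y_notMem : D.y ∉ Subgroup.zpowers D.x := by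
  intro h
  obtain ⟨k, hk⟩ := Subgroup.mem_zpowers_iff.mp h
  have hcomm : D.y * D.x = D.x * D.y := by
    rw [← hk]
    exact (Commute.zpow_self D.x k).eq
  have h1 : D.y * D.x * D.y⁻¹ = D.x := by rw [hcomm]; group
  rw [D.hc] at h1
  have h2 : D.X D.ρ = D.X 1 := by
    rw [X_one]
    unfold ρ
    rw [X_natCast]
    exact h1
  have h3 := D.X_inj h2
  rw [D.ρ_eq] at h3
  apply D.u_ne_two
  linear_combination h3

theorem card_zpowers_x : Nat.card (Subgroup.zpowers D.x) = 2 ^ D.n := by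
  rw [Nat.card_zpowers, D.hx]

theorem index_zpowers_x : (Subgroup.zpowers D.x).index = 2 := by
  have h := (Subgroup.zpowers D.x).card_mul_index
  rw [D.card_zpowers_x, D.card, pow_succ] at h
  exact Nat.eq_of_mul_eq_mul_left (by positivity) h

theorem mem_zpowers_iff (g : S) : g ∈ Subgroup.zpowers D.x ↔ ∃ i, g = D.X i := by
  classical
  constructor
  · intro h
    have : Finite S := Nat.finite_of_card_ne_zero (by rw [D.card]; positivity)
    obtain ⟨k, -, hk⟩ := (isOfFinOrder_of_finite D.x).mem_zpowers_iff_mem_range_orderOf.mp h |>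
      Finset.mem_image.mp
    exact ⟨(k : ZMod D.N), by rw [X_natCast, hk]⟩
  · rintro ⟨i, rfl⟩
    have : D.X i = D.x ^ i.val := zmodPow_eq_pow _ _ _ _
    rw [this]
    exact Subgroup.pow_mem _ (Subgroup.mem_zpowers _) _

theorem Y_notMem (i : ZMod D.N) : D.Y i ∉ Subgroup.zpowers D.x := by
  intro h
  apply D.y_notMem
  have h1 : D.X i ∈ Subgroup.zpowers D.x := (D.mem_zpowers_iff _).mpr ⟨i, rfl⟩
  have : D.y = (D.X i)⁻¹ * D.Y i := by unfold Y; group
  rw [this]
  exact Subgroup.mul_mem _ (Subgroup.inv_mem _ h1) h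

theorem Y_ne_X (i j : ZMod D.N) : D.Y i ≠ D.X j := by
  intro h
  apply D.Y_notMem i
  rw [h]
  exact (D.mem_zpowers_iff _).mpr ⟨j, rfl⟩

theorem Y_inj {i j : ZMod D.N} (h : D.Y i = D.Y j) : i = j := by
  unfold Y at h
  exact D.X_inj (mul_right_cancel h)

theorem cases (g : S) : (∃ i, g = D.X i) ∨ (∃ i, g = D.Y i) := by
  by_cases h : g ∈ Subgroup.zpowers D.x
  · left; exact (D.mem_zpowers_iff g).mp h
  · right
    have h1 : g * D.y ∈ Subgroup.zpowers D.x := by
      rw [Subgroup.mul_mem_iff_of_index_two D.index_zpowers_x]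
      exact iff_of_false h D.y_notMem
    obtain ⟨i, hi⟩ := (D.mem_zpowers_iff _).mp h1
    refine ⟨i, ?_⟩
    unfold Y
    rw [← hi, mul_assoc, D.y_sq, mul_one]

/-- the central involution -/
noncomputable def z : S := D.X D.u

theorem Y_sq (i : ZMod D.N) : D.Y i * D.Y i = D.X (D.u * i) := by
  rw [Y_mul_Y, D.ρ_eq]
  congr 1
  ring

theorem Y_sq_even (j : ZMod D.N) : D.Y (2 * j) * D.Y (2 * j) = 1 := by
  rw [Y_sq, D.u_mul_even, X_zero]

theorem Y_sq_odd (j : ZMod D.N) : D.Y (2 * j + 1) * D.Y (2 * j + 1) = D.z := by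
  rw [Y_sq, D.u_mul_odd]; rfl

theorem z_sq : D.z * D.z = 1 := by
  unfold z
  rw [← X_add, ← two_mul, D.two_u, X_zero]

theorem z_ne_one : D.z ≠ 1 := fun h => D.u_ne_zero (D.X_eq_one _ h)

theorem X_conj_Y (k i : ZMod D.N) : D.X k * D.Y i * (D.X k)⁻¹ = D.Y (i + k * (2 - D.u)) := by
  rw [← X_neg, X_mul_Y, Y_mul_X, D.ρ_eq]
  congr 1
  ring

theorem Y_conj_X (k i : ZMod D.N) : D.Y k * D.X i * (D.Y k)⁻¹ = D.X (D.ρ * i) := by
  rw [Y_inv, Y_mul_X, Y_mul_Y]
  congr 1
  linear_combination (-k) * D.ρ_sq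

theorem Y_conj_Y (k i : ZMod D.N) :
    D.Y k * D.Y i * (D.Y k)⁻¹ = D.Y (k + D.ρ * i - D.ρ * k) := by
  rw [Y_inv, Y_mul_Y, X_mul_Y]
  congr 1
  ring

theorem X_conj_X (k i : ZMod D.N) : D.X k * D.X i * (D.X k)⁻¹ = D.X i := by
  rw [← X_neg, ← X_add, ← X_add]
  congr 1
  ring

end QD

end Cfsg.Agent.Lib.Helper9
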