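import Mathlib
import Cfsg.Agent.Lib.Helper9.QD

set_option autoImplicit false

namespace Cfsg.Agent.Lib.Helper9

theorem isCoatom_of_index_two {G : Type*} [Group G] (H : Subgroup G) (h : H.index = 2) :
    IsCoatom H := by
  constructor
  · intro ht
    rw [ht, Subgroup.index_top] at h
    omega
  · intro K hK
    have h1 : K.index ∣ H.index := Subgroup.index_dvd_of_le hK.le
    rw [h] at h1
    have h2 : K.index = 1 ∨ K.index = 2 := (Nat.dvd_prime Nat.prime_two).mp h1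
    rcases h2 with h2 | h2
    · exact Subgroup.index_eq_one.mp h2
    · exfalso
      have h3 : H.relIndex K = 1 := by
        have := Subgroup.relIndex_mul_index hK.le
        rw [h, h2] at this
        omega
      have h4 : K ≤ H := Subgroup.relIndex_eq_one.mp h3
      exact absurd (le_antisymm hK.le h4) hK.ne

namespace QD

variable {S : Type*} [Group S] (D : QD S)

/-- even residues -/
def Ev (i : ZMod D.N) : Prop := ∃ j, i = 2 * j

theorem ev_two_mul (j : ZMod D.N) : D.Ev (2 * j) := ⟨j, rfl⟩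

theorem ev_zero : D.Ev 0 := ⟨0, by ring⟩

theorem not_ev_one : ¬ D.Ev 1 := by
  rintro ⟨j, hj⟩
  apply D.u_ne_zero
  have := D.u_mul_even j
  rw [← hj, mul_one] at this
  exact this

theorem ev_add {i j : ZMod D.N} (hi : D.Ev i) (hj : D.Ev j) : D.Ev (i + j) := by
  obtain ⟨a, rfl⟩ := hi
  obtain ⟨b, rfl⟩ := hj
  exact ⟨a + b, by ring⟩

theorem ev_neg {i : ZMod D.N} (hi : D.Ev i) : D.Ev (-i) := by
  obtain ⟨a, rfl⟩ := hi
  exact ⟨-a, by ring⟩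

theorem ev_sub {i j : ZMod D.N} (hi : D.Ev i) (hj : D.Ev j) : D.Ev (i - j) := by
  rw [sub_eq_add_neg]; exact D.ev_add hi (D.ev_neg hj)

theorem ev_mul_left {i : ZMod D.N} (k : ZMod D.N) (hi : D.Ev i) : D.Ev (k * i) := by
  obtain ⟨a, rfl⟩ := hi
  exact ⟨k * a, by ring⟩

theorem ev_mul_right {i : ZMod D.N} (k : ZMod D.N) (hi : D.Ev i) : D.Ev (i * k) := by
  rw [mul_comm]; exact D.ev_mul_left k hi

theorem ev_or_succ (i : ZMod D.N) : D.Ev i ∨ D.Ev (i + 1) := by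
  obtain ⟨j, h | h⟩ := D.parity i
  · left; exact ⟨j, h⟩
  · right; exact ⟨j + 1, by rw [h]; ring⟩

theorem not_ev_succ {i : ZMod D.N} (hi : D.Ev i) : ¬ D.Ev (i + 1) := by
  intro h
  apply D.not_ev_one
  have := D.ev_sub h hi
  rwa [add_sub_cancel_left] at this

theorem ev_succ_iff (i : ZMod D.N) : D.Ev (i + 1) ↔ ¬ D.Ev i := by
  constructor
  · intro h hi
    exact D.not_ev_succ hi h
  · intro h
    exact (D.ev_or_succ i).resolve_left h

theorem odd_form {i : ZMod D.N} (hi : ¬ D.Ev i) : ∃ j, i = 2 * j + 1 := by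
  obtain ⟨j, h | h⟩ := D.parity i
  · exact absurd ⟨j, h⟩ hi
  · exact ⟨j, h⟩

theorem ev_u : D.Ev D.u := ⟨D.v, D.two_v.symm⟩

theorem not_ev_ρ : ¬ D.Ev D.ρ := by
  intro h
  apply D.not_ev_one
  have : (1 : ZMod D.N) = D.u - D.ρ := by rw [D.ρ_eq]; ring
  rw [this]
  exact D.ev_sub D.ev_u h

theorem ev_ρ_mul_iff (i : ZMod D.N) : D.Ev (D.ρ * i) ↔ D.Ev i := by
  constructor
  · intro h
    have := D.ev_mul_left D.ρ h
    rwa [← mul_assoc, D.ρ_sq, one_mul] at this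
  · exact D.ev_mul_left D.ρ

theorem ev_two_sub_u : D.Ev (2 - D.u) := by
  have : (2 : ZMod D.N) - D.u = 2 * 1 - D.u := by ring
  rw [this]
  exact D.ev_sub (D.ev_two_mul 1) D.ev_u

theorem u_mul_of_ev {i : ZMod D.N} (hi : D.Ev i) : D.u * i = 0 := by
  obtain ⟨j, rfl⟩ := hi
  exact D.u_mul_even j

theorem u_mul_of_not_ev {i : ZMod D.N} (hi : ¬ D.Ev i) : D.u * i = D.u := by
  obtain ⟨j, rfl⟩ := D.odd_form hi
  exact D.u_mul_odd j

/-- the subgroup generated by `x ^ 2` -/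
noncomputable def E : Subgroup S where
  carrier := {g | ∃ i, D.Ev i ∧ g = D.X i}
  one_mem' := ⟨0, D.ev_zero, D.X_zero.symm⟩
  mul_mem' := by
    rintro a b ⟨i, hi, rfl⟩ ⟨j, hj, rfl⟩
    exact ⟨i + j, D.ev_add hi hj, (D.X_add i j).symm⟩
  inv_mem' := by
    rintro a ⟨i, hi, rfl⟩
    exact ⟨-i, D.ev_neg hi, (D.X_neg i).symm⟩

theorem mem_E (g : S) : g ∈ D.E ↔ ∃ i, D.Ev i ∧ g = D.X i := Iff.rfl

theorem X_mem_E (i : ZMod D.N) : D.X i ∈ D.E ↔ D.Ev i := by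
  constructor
  · rintro ⟨j, hj, h⟩
    rw [D.X_inj h]; exact hj
  · intro h
    exact ⟨i, h, rfl⟩

theorem Y_notMem_E (i : ZMod D.N) : D.Y i ∉ D.E := by
  rintro ⟨j, -, h⟩
  exact D.Y_ne_X i j h

/-- the dihedral maximal subgroup -/
noncomputable def M3 : Subgroup S where
  carrier := {g | (∃ i, D.Ev i ∧ g = D.X i) ∨ (∃ i, D.Ev i ∧ g = D.Y i)}
  one_mem' := Or.inl ⟨0, D.ev_zero, D.X_zero.symm⟩
  mul_mem' := by
    rintro a b (⟨i, hi, rfl⟩ | ⟨i, hi, rfl⟩) (⟨j, hj, rfl⟩ | ⟨j, hj, rfl⟩)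
    · exact Or.inl ⟨i + j, D.ev_add hi hj, (D.X_add i j).symm⟩
    · exact Or.inr ⟨i + j, D.ev_add hi hj, D.X_mul_Y i j⟩
    · exact Or.inr ⟨i + D.ρ * j, D.ev_add hi (D.ev_mul_left _ hj), D.Y_mul_X i j⟩
    · exact Or.inl ⟨i + D.ρ * j, D.ev_add hi (D.ev_mul_left _ hj), D.Y_mul_Y i j⟩
  inv_mem' := by
    rintro a (⟨i, hi, rfl⟩ | ⟨i, hi, rfl⟩)
    · exact Or.inl ⟨-i, D.ev_neg hi, (D.X_neg i).symm⟩
    · exact Or.inr ⟨-(D.ρ * i), D.ev_neg (D.ev_mul_left _ hi), D.Y_inv i⟩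

theorem X_mem_M3 (i : ZMod D.N) : D.X i ∈ D.M3 ↔ D.Ev i := by
  constructor
  · rintro (⟨j, hj, h⟩ | ⟨j, hj, h⟩)
    · rw [D.X_inj h]; exact hj
    · exact absurd h.symm (D.Y_ne_X j i)
  · intro h
    exact Or.inl ⟨i, h, rfl⟩

theorem Y_mem_M3 (i : ZMod D.N) : D.Y i ∈ D.M3 ↔ D.Ev i := by
  constructor
  · rintro (⟨j, hj, h⟩ | ⟨j, hj, h⟩)
    · exact absurd h (D.Y_ne_X i j)
    · rw [D.Y_inj h]; exact hj
  · intro h
    exact Or.inr ⟨i, h, rfl⟩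

/-- the quaternion maximal subgroup -/
noncomputable def M2 : Subgroup S where
  carrier := {g | (∃ i, D.Ev i ∧ g = D.X i) ∨ (∃ i, ¬ D.Ev i ∧ g = D.Y i)}
  one_mem' := Or.inl ⟨0, D.ev_zero, D.X_zero.symm⟩
  mul_mem' := by
    rintro a b (⟨i, hi, rfl⟩ | ⟨i, hi, rfl⟩) (⟨j, hj, rfl⟩ | ⟨j, hj, rfl⟩)
    · exact Or.inl ⟨i + j, D.ev_add hi hj, (D.X_add i j).symm⟩
    · refine Or.inr ⟨i + j, ?_, D.X_mul_Y i j⟩
      intro h
      apply hj
      have := D.ev_sub h hi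
      rwa [add_sub_cancel_left] at this
    · refine Or.inr ⟨i + D.ρ * j, ?_, D.Y_mul_X i j⟩
      intro h
      apply hi
      have := D.ev_sub h (D.ev_mul_left D.ρ hj)
      rwa [add_sub_cancel_right] at this
    · refine Or.inl ⟨i + D.ρ * j, ?_, D.Y_mul_Y i j⟩
      obtain ⟨a, rfl⟩ := D.odd_form hi
      obtain ⟨b, rfl⟩ := D.odd_form hj
      rw [D.ρ_eq]
      refine ⟨a + D.u * b - b + D.v, ?_⟩
      linear_combination (-1 : ZMod D.N) * D.two_v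
  inv_mem' := by
    rintro a (⟨i, hi, rfl⟩ | ⟨i, hi, rfl⟩)
    · exact Or.inl ⟨-i, D.ev_neg hi, (D.X_neg i).symm⟩
    · refine Or.inr ⟨-(D.ρ * i), ?_, D.Y_inv i⟩
      intro h
      apply hi
      have := D.ev_neg h
      rw [neg_neg] at this
      exact (D.ev_ρ_mul_iff i).mp this

theorem X_mem_M2 (i : ZMod D.N) : D.X i ∈ D.M2 ↔ D.Ev i := by
  constructor
  · rintro (⟨j, hj, h⟩ | ⟨j, hj, h⟩)
    · rw [D.X_inj h]; exact hj
    · exact absurd h.symm (D.Y_ne_X j i)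
  · intro h
    exact Or.inl ⟨i, h, rfl⟩

theorem Y_mem_M2 (i : ZMod D.N) : D.Y i ∈ D.M2 ↔ ¬ D.Ev i := by
  constructor
  · rintro (⟨j, hj, h⟩ | ⟨j, hj, h⟩)
    · exact absurd h (D.Y_ne_X i j)
    · rw [D.Y_inj h]; exact hj
  · intro h
    exact Or.inr ⟨i, h, rfl⟩

theorem X_mem_zpowers (i : ZMod D.N) : D.X i ∈ Subgroup.zpowers D.x :=
  (D.mem_zpowers_iff _).mpr ⟨i, rfl⟩

theorem index_M3 : D.M3.index = 2 := by
  rw [Subgroup.index_eq_two_iff]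
  refine ⟨D.X 1, ?_⟩
  intro b
  rcases D.cases b with ⟨i, rfl⟩ | ⟨i, rfl⟩
  · rw [← D.X_add, D.X_mem_M3, D.X_mem_M3, D.ev_succ_iff]
    by_cases h : D.Ev i
    · exact Or.inr ⟨h, fun h' => h' h⟩
    · exact Or.inl ⟨h, h⟩
  · rw [D.Y_mul_X, mul_one, D.Y_mem_M3, D.Y_mem_M3]
    have : i + D.ρ = (i + D.u - 2) + 1 := by rw [D.ρ_eq]; ring
    rw [this, D.ev_succ_iff]
    have h2 : D.Ev (i + D.u - 2) ↔ D.Ev i := by
      constructor
      · intro h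
        have h3 : i = (i + D.u - 2) - D.u + 2 * 1 := by ring
        rw [h3]
        exact D.ev_add (D.ev_sub h D.ev_u) (D.ev_two_mul 1)
      · intro h
        have h3 : i + D.u - 2 = i + D.u - 2 * 1 := by ring
        rw [h3]
        exact D.ev_sub (D.ev_add h D.ev_u) (D.ev_two_mul 1)
    rw [h2]
    by_cases h : D.Ev i
    · exact Or.inr ⟨h, fun h' => h' h⟩
    · exact Or.inl ⟨h, h⟩

theorem index_M2 : D.M2.index = 2 := by
  rw [Subgroup.index_eq_two_iff]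
  refine ⟨D.X 1, ?_⟩
  intro b
  rcases D.cases b with ⟨i, rfl⟩ | ⟨i, rfl⟩
  · rw [← D.X_add, D.X_mem_M2, D.X_mem_M2, D.ev_succ_iff]
    by_cases h : D.Ev i
    · exact Or.inr ⟨h, fun h' => h' h⟩
    · exact Or.inl ⟨h, h⟩
  · rw [D.Y_mul_X, mul_one, D.Y_mem_M2, D.Y_mem_M2]
    have : i + D.ρ = (i + D.u - 2) + 1 := by rw [D.ρ_eq]; ring
    rw [this, D.ev_succ_iff]
    have h2 : D.Ev (i + D.u - 2) ↔ D.Ev i := by
      constructor
      · intro h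
        have h3 : i = (i + D.u - 2) - D.u + 2 * 1 := by ring
        rw [h3]
        exact D.ev_add (D.ev_sub h D.ev_u) (D.ev_two_mul 1)
      · intro h
        have h3 : i + D.u - 2 = i + D.u - 2 * 1 := by ring
        rw [h3]
        exact D.ev_sub (D.ev_add h D.ev_u) (D.ev_two_mul 1)
    rw [h2, not_not]
    by_cases h : D.Ev i
    · exact Or.inl ⟨h, fun h' => h' h⟩
    · exact Or.inr ⟨h, h⟩

end QD

end Cfsg.Agent.Lib.Helper9
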