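import Mathlib
import Cfsg.Agent.Lib.Helper9.QD2
import Cfsg.Agent.Lib.Helper1.Frat

set_option autoImplicit false

namespace Cfsg.Agent.Lib.Helper9

namespace QD

open scoped commutatorElement

variable {S : Type*} [Group S] (D : QD S)

theorem X_pow (i : ZMod D.N) (k : ℕ) : (D.X i) ^ k = D.X (k * i) := by
  induction k with
  | zero => simp [D.X_zero]
  | succ k ih =>
    rw [pow_succ, ih, ← D.X_add]
    congr 1
    push_cast
    ring

theorem X_two : D.X 2 = D.x ^ 2 := by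
  have := D.X_natCast 2
  simpa using this

theorem E_eq_zpowers : D.E = Subgroup.zpowers (D.X 2) := by
  apply le_antisymm
  · rintro g ⟨i, ⟨j, rfl⟩, rfl⟩
    have : D.X (2 * j) = (D.X 2) ^ j.val := by
      rw [D.X_pow, ZMod.natCast_zmod_val, mul_comm]
    rw [this]
    exact Subgroup.pow_mem _ (Subgroup.mem_zpowers _) _
  · rw [Subgroup.zpowers_le]
    exact (D.X_mem_E 2).mpr ⟨1, by ring⟩

theorem card_E : Nat.card D.E = 2 ^ (D.n - 1) := by
  rw [D.E_eq_zpowers, Nat.card_zpowers, D.X_two, orderOf_pow' _ (by norm_num), D.hx]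
  have h1 : Nat.gcd (2 ^ D.n) 2 = 2 := by
    apply Nat.gcd_eq_right
    exact dvd_pow_self 2 (by have := D.hn; omega)
  rw [h1]
  have h2 : 2 ^ D.n = 2 ^ (D.n - 1) * 2 := by
    rw [← pow_succ]; congr 1; have := D.hn; omega
  rw [h2, Nat.mul_div_cancel _ (by norm_num)]

theorem isCyclic_E : IsCyclic D.E := by
  rw [D.E_eq_zpowers]
  infer_instance

theorem E_normal : D.E.Normal := by
  constructor
  rintro g ⟨i, hi, rfl⟩ h
  rcases D.cases h with ⟨k, rfl⟩ | ⟨k, rfl⟩
  · rw [D.X_conj_X]; exact (D.X_mem_E i).mpr hi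
  · rw [D.Y_conj_X]; exact (D.X_mem_E _).mpr (D.ev_mul_left _ hi)

theorem commutator_le_E : commutator S ≤ D.E := by
  rw [commutator_def, Subgroup.commutator_le]
  intro a _ b _
  rw [commutatorElement_def]
  rcases D.cases a with ⟨i, rfl⟩ | ⟨i, rfl⟩ <;> rcases D.cases b with ⟨j, rfl⟩ | ⟨j, rfl⟩
  · rw [D.X_conj_X, mul_inv_cancel]; exact D.E.one_mem
  · rw [D.X_conj_Y, D.Y_inv, D.Y_mul_Y, D.X_mem_E]
    have : j + i * (2 - D.u) + D.ρ * -(D.ρ * j) = i * (2 - D.u) := by
      linear_combination (-j) * D.ρ_sq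
    rw [this]
    exact D.ev_mul_left _ D.ev_two_sub_u
  · rw [D.Y_conj_X, ← D.X_neg, ← D.X_add, D.X_mem_E]
    have : D.ρ * j + -j = j * (D.u - 2) := by rw [D.ρ_eq]; ring
    rw [this]
    apply D.ev_mul_left
    have h2 : D.u - 2 = D.u - 2 * 1 := by ring
    rw [h2]
    exact D.ev_sub D.ev_u (D.ev_two_mul 1)
  · rw [D.Y_conj_Y, D.Y_inv, D.Y_mul_Y, D.X_mem_E]
    have : i + D.ρ * j - D.ρ * i + D.ρ * -(D.ρ * j) = (i - j) * (2 - D.u) := by
      linear_combination (-j) * D.ρ_sq + (-(i - j)) * D.ρ_eq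
    rw [this]
    exact D.ev_mul_left _ D.ev_two_sub_u

theorem E_le_commutator : D.E ≤ commutator S := by
  rintro g ⟨i, ⟨j, rfl⟩, rfl⟩
  obtain ⟨k, hk⟩ := D.conj_even j
  have h1 : ⁅D.X k, D.Y 0⁆ = D.X (2 * j) := by
    rw [commutatorElement_def, D.X_conj_Y, D.Y_inv, D.Y_mul_Y]
    congr 1
    rw [hk]
    ring
  rw [← h1, commutator_def]
  exact Subgroup.commutator_mem_commutator (Subgroup.mem_top _) (Subgroup.mem_top _)

theorem commutator_eq : commutator S = D.E :=
  le_antisymm D.commutator_le_E D.E_le_commutator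

include D in
theorem isPGroup : IsPGroup 2 S := IsPGroup.of_card D.card

theorem isCoatom_zpowers_x : IsCoatom (Subgroup.zpowers D.x) :=
  isCoatom_of_index_two _ D.index_zpowers_x

theorem isCoatom_M3 : IsCoatom D.M3 := isCoatom_of_index_two _ D.index_M3

theorem isCoatom_M2 : IsCoatom D.M2 := isCoatom_of_index_two _ D.index_M2

theorem frattini_eq [Finite S] : frattini S = D.E := by
  apply le_antisymm
  · intro g hg
    have h1 : g ∈ Subgroup.zpowers D.x := frattini_le_coatom D.isCoatom_zpowers_x hg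
    have h2 : g ∈ D.M3 := frattini_le_coatom D.isCoatom_M3 hg
    obtain ⟨i, rfl⟩ := (D.mem_zpowers_iff g).mp h1
    exact (D.X_mem_E i).mpr ((D.X_mem_M3 i).mp h2)
  · rw [← D.commutator_eq]
    exact Cfsg.Agent.Lib.Helper1.pgroup_commutator_le_frattini D.isPGroup

theorem orderOf_two_iff (g : S) :
    orderOf g = 2 ↔ g = D.z ∨ ∃ i, D.Ev i ∧ g = D.Y i := by
  rw [orderOf_eq_prime_iff, pow_two]
  constructor
  · rintro ⟨h1, h2⟩
    rcases D.cases g with ⟨i, rfl⟩ | ⟨i, rfl⟩
    · left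
      rw [← D.X_add, ← two_mul] at h1
      rcases D.two_mul_eq_zero i (D.X_eq_one _ h1) with h | h
      · exfalso; apply h2; rw [h, D.X_zero]
      · rw [h]; rfl
    · right
      refine ⟨i, ?_, rfl⟩
      by_contra hi
      rw [D.Y_sq, D.u_mul_of_not_ev hi] at h1
      exact D.z_ne_one h1
  · rintro (rfl | ⟨i, hi, rfl⟩)
    · exact ⟨D.z_sq, D.z_ne_one⟩
    · refine ⟨?_, ?_⟩
      · rw [D.Y_sq, D.u_mul_of_ev hi, D.X_zero]
      · rw [← D.X_zero]; exact D.Y_ne_X i 0

theorem z_mem_M3 : D.z ∈ D.M3 := (D.X_mem_M3 D.u).mpr D.ev_u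

theorem orderOf_X_two_ρ : orderOf (D.X (2 * D.ρ)) = 2 ^ (D.n - 1) := by
  apply orderOf_eq_of_pow_and_pow_div_prime (by positivity)
  · rw [D.X_pow]
    have : ((2 ^ (D.n - 1) : ℕ) : ZMod D.N) * (2 * D.ρ) = 0 := by
      change D.u * (2 * D.ρ) = 0
      exact D.u_mul_even _
    rw [this, D.X_zero]
  · intro p hp hdvd
    have hp2 : p = 2 := (Nat.prime_dvd_prime_iff_eq hp Nat.prime_two).mp (hp.dvd_of_dvd_pow hdvd)
    rw [hp2]
    have h1 : 2 ^ (D.n - 1) / 2 = 2 ^ (D.n - 2) := by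
      have : 2 ^ (D.n - 1) = 2 ^ (D.n - 2) * 2 := by
        rw [← pow_succ]; congr 1; have := D.hn; omega
      rw [this, Nat.mul_div_cancel _ (by norm_num)]
    rw [h1, D.X_pow]
    intro h
    have h2 := D.X_eq_one _ h
    have h3 : ((2 ^ (D.n - 2) : ℕ) : ZMod D.N) * (2 * D.ρ) = D.u := by
      change D.v * (2 * D.ρ) = D.u
      rw [D.ρ_eq]
      linear_combination (D.u - 1) * D.two_v + D.u_sq - D.two_u
    rw [h3] at h2
    exact D.u_ne_zero h2

theorem M3_eq_closure : D.M3 = Subgroup.closure {D.Y 0, D.Y 2} := by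
  apply le_antisymm
  · have h0 : D.Y 0 ∈ Subgroup.closure {D.Y 0, D.Y 2} := Subgroup.subset_closure (by simp)
    have h2 : D.Y 2 ∈ Subgroup.closure {D.Y 0, D.Y 2} := Subgroup.subset_closure (by simp)
    have hX : ∀ j : ZMod D.N, D.X (2 * j) ∈ Subgroup.closure {D.Y 0, D.Y 2} := by
      intro j
      have h3 : D.X (2 * D.ρ) ∈ Subgroup.closure {D.Y 0, D.Y 2} := by
        have : D.X (2 * D.ρ) = D.Y 0 * D.Y 2 := by
          rw [D.Y_mul_Y]; congr 1; ring
        rw [this]
        exact Subgroup.mul_mem _ h0 h2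
      have h4 : D.X (2 * j) = (D.X (2 * D.ρ)) ^ (D.ρ * j).val := by
        rw [D.X_pow, ZMod.natCast_zmod_val]
        congr 1
        linear_combination (-2 * j) * D.ρ_sq
      rw [h4]
      exact Subgroup.pow_mem _ h3 _
    rintro g (⟨i, ⟨j, rfl⟩, rfl⟩ | ⟨i, ⟨j, rfl⟩, rfl⟩)
    · exact hX j
    · have : D.Y (2 * j) = D.X (2 * j) * D.Y 0 := by
        rw [D.X_mul_Y, add_zero]
      rw [this]
      exact Subgroup.mul_mem _ (hX j) h0
  · rw [Subgroup.closure_le]
    rintro g (rfl | rfl)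
    · exact (D.Y_mem_M3 0).mpr D.ev_zero
    · exact (D.Y_mem_M3 2).mpr ⟨1, by ring⟩

theorem closure_involutions : Subgroup.closure {g : S | orderOf g = 2} = D.M3 := by
  apply le_antisymm
  · rw [Subgroup.closure_le]
    intro g hg
    rcases (D.orderOf_two_iff g).mp hg with rfl | ⟨i, hi, rfl⟩
    · exact D.z_mem_M3
    · exact (D.Y_mem_M3 i).mpr hi
  · rw [D.M3_eq_closure]
    apply Subgroup.closure_mono
    rintro g (rfl | rfl)
    · exact (D.orderOf_two_iff _).mpr (Or.inr ⟨0, D.ev_zero, rfl⟩)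
    · exact (D.orderOf_two_iff _).mpr (Or.inr ⟨2, ⟨1, by ring⟩, rfl⟩)

theorem z_central (h : S) : h * D.z = D.z * h := by
  unfold z
  rcases D.cases h with ⟨j, rfl⟩ | ⟨j, rfl⟩
  · rw [← D.X_add, ← D.X_add, add_comm]
  · rw [D.Y_mul_X, D.X_mul_Y]
    congr 1
    rw [D.ρ_eq]
    linear_combination D.u_sq - D.two_u

theorem mem_center_iff (g : S) : g ∈ Subgroup.center S ↔ g = 1 ∨ g = D.z := by
  constructor
  · intro hg
    rw [Subgroup.mem_center_iff] at hg
    rcases D.cases g with ⟨i, rfl⟩ | ⟨i, rfl⟩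
    · have h1 := hg (D.Y 0)
      rw [D.Y_mul_X, D.X_mul_Y] at h1
      have h2 := D.Y_inj h1
      have h3 : 2 * i = 0 := by
        have h4 : (D.u - 2) * i = 0 := by
          rw [D.ρ_eq] at h2
          linear_combination h2
        have h5 : (D.u - 2) * (1 + D.v) = -2 := by
          linear_combination D.u_mul_v - D.two_v
        have h6 : (-2 : ZMod D.N) * i = 0 := by
          rw [← h5]
          linear_combination (1 + D.v) * h4
        linear_combination (-1 : ZMod D.N) * h6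
      rcases D.two_mul_eq_zero i h3 with h | h
      · left; rw [h, D.X_zero]
      · right; rw [h]; rfl
    · exfalso
      have h1 := hg (D.X 1)
      rw [D.X_mul_Y, D.Y_mul_X] at h1
      have h2 := D.Y_inj h1
      apply D.u_ne_two
      rw [D.ρ_eq] at h2
      linear_combination -h2
  · rintro (rfl | rfl)
    · exact Subgroup.one_mem _
    · rw [Subgroup.mem_center_iff]
      exact D.z_central

theorem orderOf_z : orderOf D.z = 2 :=
  (D.orderOf_two_iff _).mpr (Or.inl rfl)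

theorem center_eq : Subgroup.center S = Subgroup.zpowers D.z := by
  ext g
  rw [D.mem_center_iff]
  constructor
  · rintro (rfl | rfl)
    · exact Subgroup.one_mem _
    · exact Subgroup.mem_zpowers _
  · intro h
    obtain ⟨k, rfl⟩ := Subgroup.mem_zpowers_iff.mp h
    rcases Int.even_or_odd k with ⟨t, rfl⟩ | ⟨t, rfl⟩
    · left
      rw [← two_mul, zpow_mul, zpow_two, D.z_sq, one_zpow]
    · right
      rw [zpow_add, zpow_mul, zpow_two, D.z_sq, one_zpow, one_mul, zpow_one]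

include D in
theorem card_center : Nat.card (Subgroup.center S) = 2 := by
  rw [D.center_eq, Nat.card_zpowers, D.orderOf_z]

end QD

end Cfsg.Agent.Lib.Helper9
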