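import Mathlib
import Cfsg.Agent.Lib.Helper9.QD3

set_option autoImplicit false

namespace Cfsg.Agent.Lib.Helper9

theorem card_subtype_eq_two {α : Type*} (P : α → Prop) (a b : α) (hab : a ≠ b) (ha : P a)
    (hb : P b) (h : ∀ c, P c → c = a ∨ c = b) : Nat.card {c // P c} = 2 := by
  rw [Nat.card_eq_two_iff]
  refine ⟨⟨a, ha⟩, ⟨b, hb⟩, ?_, ?_⟩
  · intro hh
    exact hab (congrArg Subtype.val hh)
  · ext ⟨c, hc⟩
    simp only [Set.mem_insert_iff, Set.mem_singleton_iff, Set.mem_univ, iff_true]
    rcases h c hc with rfl | rfl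
    · left; rfl
    · right; rfl

namespace QD

variable {S : Type*} [Group S] (D : QD S)

theorem isConj_Y {i i' : ZMod D.N} (h : D.Ev (i - i')) : IsConj (D.Y i') (D.Y i) := by
  obtain ⟨j, hj⟩ := h
  obtain ⟨k, hk⟩ := D.conj_even j
  rw [isConj_iff]
  refine ⟨D.X k, ?_⟩
  rw [D.X_conj_Y, hk, ← hj]
  congr 1
  ring

theorem isConj_X_neg (i : ZMod D.N) (h : D.u * i = 0) : IsConj (D.X i) (D.X (-i)) := by
  rw [isConj_iff]
  refine ⟨D.Y 0, ?_⟩
  rw [D.Y_conj_X, D.ρ_eq]
  congr 1
  linear_combination h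

theorem not_isConj_X_Y (i j : ZMod D.N) : ¬ IsConj (D.X i) (D.Y j) := by
  rw [isConj_iff]
  rintro ⟨c, hc⟩
  rcases D.cases c with ⟨k, rfl⟩ | ⟨k, rfl⟩
  · rw [D.X_conj_X] at hc
    exact D.Y_ne_X j i hc.symm
  · rw [D.Y_conj_X] at hc
    exact D.Y_ne_X j _ hc.symm

theorem orderOf_four_iff (g : S) :
    orderOf g = 4 ↔ g = D.X D.v ∨ g = D.X (-D.v) ∨ ∃ i, ¬ D.Ev i ∧ g = D.Y i := by
  have e4 : g ^ 4 = (g * g) * (g * g) := by
    rw [show (4 : ℕ) = 2 + 2 from rfl, pow_add, pow_two]
  have key : orderOf g = 4 ↔ (g * g) * (g * g) = 1 ∧ g * g ≠ 1 := by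
    constructor
    · intro h
      constructor
      · have := pow_orderOf_eq_one g
        rw [h] at this
        rw [← e4]
        exact this
      · intro h2
        have h3 : orderOf g ∣ 2 := orderOf_dvd_of_pow_eq_one (by rw [pow_two]; exact h2)
        rw [h] at h3
        omega
    · rintro ⟨h1, h2⟩
      have : orderOf g = 2 ^ (1 + 1) := by
        apply orderOf_eq_prime_pow
        · rw [pow_one, pow_two]; exact h2
        · rw [show (2 : ℕ) ^ (1 + 1) = 4 from rfl, e4]; exact h1
      rw [this]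
      norm_num
  rw [key]
  constructor
  · rintro ⟨h1, h2⟩
    rcases D.cases g with ⟨i, rfl⟩ | ⟨i, rfl⟩
    · rw [← D.X_add, ← D.X_add] at h1
      rw [← D.X_add] at h2
      have h3 : 2 * (2 * i) = 0 := by
        have := D.X_eq_one _ h1
        linear_combination this
      have h4 : 2 * i = D.u := by
        rcases D.two_mul_eq_zero _ h3 with h | h
        · exfalso; apply h2
          have : i + i = 0 := by linear_combination h
          rw [this, D.X_zero]
        · exact h
      rcases D.two_mul_eq_u i h4 with h | h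
      · left; rw [h]
      · right; left; rw [h]
    · right; right
      refine ⟨i, ?_, rfl⟩
      intro hi
      apply h2
      rw [D.Y_sq, D.u_mul_of_ev hi, D.X_zero]
  · rintro (rfl | rfl | ⟨i, hi, rfl⟩)
    · rw [← D.X_add, ← D.X_add]
      constructor
      · have : D.v + D.v + (D.v + D.v) = 0 := by linear_combination 2 * D.two_v + D.two_u
        rw [this, D.X_zero]
      · intro h
        have := D.X_eq_one _ h
        apply D.u_ne_zero
        linear_combination this - D.two_v
    · rw [← D.X_add, ← D.X_add]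
      constructor
      · have : -D.v + -D.v + (-D.v + -D.v) = 0 := by linear_combination -2 * D.two_v - D.two_u
        rw [this, D.X_zero]
      · intro h
        have := D.X_eq_one _ h
        apply D.u_ne_zero
        linear_combination -this - D.two_v
    · rw [D.Y_sq, D.u_mul_of_not_ev hi]
      exact ⟨D.z_sq, D.z_ne_one⟩

end QD

end Cfsg.Agent.Lib.Helper9
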