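import Mathlib
import Cfsg.Agent.Lib.Helper9.QD4

set_option autoImplicit false

namespace Cfsg.Agent.Lib.Helper9

namespace QD

variable {S : Type*} [Group S] (D : QD S)

/-- the subgroup `{X k | c k = 0} ∪ {Y k | c (k - i) = 0}` (for `c u = 0`) -/
noncomputable def L (c : ZMod D.N) (hc : c * D.u = 0) (i : ZMod D.N) : Subgroup S where
  carrier := {g | (∃ k, c * k = 0 ∧ g = D.X k) ∨ (∃ k, c * (k - i) = 0 ∧ g = D.Y k)}
  one_mem' := Or.inl ⟨0, by ring, D.X_zero.symm⟩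
  mul_mem' := by
    rintro a b (⟨k, hk, rfl⟩ | ⟨k, hk, rfl⟩) (⟨m, hm, rfl⟩ | ⟨m, hm, rfl⟩)
    · exact Or.inl ⟨k + m, by linear_combination hk + hm, (D.X_add k m).symm⟩
    · exact Or.inr ⟨k + m, by linear_combination hk + hm, D.X_mul_Y k m⟩
    · exact Or.inr ⟨k + D.ρ * m, by linear_combination hk + D.ρ * hm, D.Y_mul_X k m⟩
    · refine Or.inl ⟨k + D.ρ * m, ?_, D.Y_mul_Y k m⟩
      rw [D.ρ_eq] at *
      linear_combination hk + (D.u - 1) * hm + i * hc
  inv_mem' := by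
    rintro a (⟨k, hk, rfl⟩ | ⟨k, hk, rfl⟩)
    · exact Or.inl ⟨-k, by linear_combination -hk, (D.X_neg k).symm⟩
    · refine Or.inr ⟨-(D.ρ * k), ?_, D.Y_inv k⟩
      rw [D.ρ_eq]
      linear_combination (1 - D.u) * hk - i * hc

theorem X_mem_L (c : ZMod D.N) (hc : c * D.u = 0) (i k : ZMod D.N) :
    D.X k ∈ D.L c hc i ↔ c * k = 0 := by
  constructor
  · rintro (⟨m, hm, h⟩ | ⟨m, hm, h⟩)
    · rw [D.X_inj h]; exact hm
    · exact absurd h.symm (D.Y_ne_X m k)
  · intro h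
    exact Or.inl ⟨k, h, rfl⟩

theorem Y_mem_L (c : ZMod D.N) (hc : c * D.u = 0) (i k : ZMod D.N) :
    D.Y k ∈ D.L c hc i ↔ c * (k - i) = 0 := by
  constructor
  · rintro (⟨m, hm, h⟩ | ⟨m, hm, h⟩)
    · exact absurd h (D.Y_ne_X k m)
    · rw [D.Y_inj h]; exact hm
  · intro h
    exact Or.inr ⟨k, h, rfl⟩

theorem two_sub_u_mul_one_add_v : (2 - D.u) * (1 + D.v) = 2 := by
  linear_combination D.two_v - D.u_mul_v

theorem eq_zero_of_two_sub_u_mul {k : ZMod D.N} (h : (2 - D.u) * k = 0) : 2 * k = 0 := by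
  have := D.two_sub_u_mul_one_add_v
  calc 2 * k = ((2 - D.u) * (1 + D.v)) * k := by rw [this]
    _ = (1 + D.v) * ((2 - D.u) * k) := by ring
    _ = 0 := by rw [h, mul_zero]

/-- conjugating `L c i` by `X m` -/
theorem map_conj_L (c : ZMod D.N) (hc : c * D.u = 0) (i m : ZMod D.N) :
    (D.L c hc i).map (MulAut.conj (D.X m)).toMonoidHom = D.L c hc (i + m * (2 - D.u)) := by
  ext g
  simp only [Subgroup.mem_map, MulEquiv.coe_toMonoidHom, MulAut.conj_apply]
  constructor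
  · rintro ⟨h, hh, rfl⟩
    rcases hh with ⟨k, hk, rfl⟩ | ⟨k, hk, rfl⟩
    · rw [D.X_conj_X]; exact (D.X_mem_L c hc _ k).mpr hk
    · rw [D.X_conj_Y, D.Y_mem_L]
      linear_combination hk
  · intro hg
    refine ⟨(D.X m)⁻¹ * g * D.X m, ?_, by group⟩
    rcases hg with ⟨k, hk, rfl⟩ | ⟨k, hk, rfl⟩
    · have : (D.X m)⁻¹ * D.X k * D.X m = D.X k := by
        rw [← D.X_neg, ← D.X_add, ← D.X_add]; congr 1; ring
      rw [this]; exact (D.X_mem_L c hc _ k).mpr hk
    · have : (D.X m)⁻¹ * D.Y k * D.X m = D.Y (k - m * (2 - D.u)) := by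
        rw [← D.X_neg, D.X_mul_Y, D.Y_mul_X, D.ρ_eq]; congr 1; ring
      rw [this, D.Y_mem_L]
      linear_combination hk

/-- the centralizer of `Y i` -/
theorem commute_Y_iff (i : ZMod D.N) (g : S) :
    g * D.Y i = D.Y i * g ↔ g ∈ D.L 2 D.two_u i := by
  rcases D.cases g with ⟨k, rfl⟩ | ⟨k, rfl⟩
  · rw [D.X_mul_Y, D.Y_mul_X, D.X_mem_L]
    constructor
    · intro h
      have h1 := D.Y_inj h
      apply D.eq_zero_of_two_sub_u_mul
      rw [D.ρ_eq] at h1
      linear_combination h1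
    · intro h
      congr 1
      rw [D.ρ_eq]
      have h2 : D.u * k = 0 := by
        rw [← D.two_v]
        linear_combination D.v * h
      linear_combination h - h2
  · rw [D.Y_mul_Y, D.Y_mul_Y, D.Y_mem_L]
    constructor
    · intro h
      have h1 := D.X_inj h
      apply D.eq_zero_of_two_sub_u_mul
      rw [D.ρ_eq] at h1
      linear_combination h1
    · intro h
      congr 1
      rw [D.ρ_eq]
      have h2 : D.u * (k - i) = 0 := by
        rw [← D.two_v]
        linear_combination D.v * h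
      linear_combination h - h2

theorem four_u : (4 : ZMod D.N) * D.u = 0 := by linear_combination 2 * D.two_u

theorem four_mul_eq_zero (k : ZMod D.N) (h : 4 * k = 0) : 2 * k = 0 ∨ 2 * k = D.u := by
  apply D.two_mul_eq_zero
  linear_combination h

/-- `L 2 i` has index two in `L 4 i` -/
theorem relIndex_L2_L4 (i : ZMod D.N) :
    (D.L 2 D.two_u i).relIndex (D.L 4 D.four_u i) = 2 := by
  rw [Subgroup.relIndex, Subgroup.index_eq_two_iff]
  have hv : D.X D.v ∈ D.L 4 D.four_u i := by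
    rw [D.X_mem_L]
    linear_combination 2 * D.two_v + D.two_u
  refine ⟨⟨D.X D.v, hv⟩, ?_⟩
  rintro ⟨b, hb⟩
  simp only [Subgroup.mem_subgroupOf, Subgroup.coe_mul]
  rcases hb with ⟨k, hk, rfl⟩ | ⟨k, hk, rfl⟩
  · rw [← D.X_add, D.X_mem_L, D.X_mem_L]
    rcases D.four_mul_eq_zero k hk with h | h
    · refine Or.inr ⟨h, ?_⟩
      intro h2
      apply D.u_ne_zero
      linear_combination h2 - h - D.two_v
    · refine Or.inl ⟨?_, ?_⟩
      · linear_combination h + D.two_v + D.two_u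
      · rw [h]; exact D.u_ne_zero
  · rw [D.Y_mul_X, D.Y_mem_L, D.Y_mem_L]
    have e : (2 : ZMod D.N) * (k + D.ρ * D.v - i) = 2 * (k - i) + D.u := by
      rw [D.ρ_eq]
      linear_combination (D.u - 1) * D.two_v + D.u_sq - D.two_u
    rw [e]
    rcases D.four_mul_eq_zero (k - i) hk with h | h
    · refine Or.inr ⟨h, ?_⟩
      rw [h, zero_add]
      exact D.u_ne_zero
    · refine Or.inl ⟨?_, ?_⟩
      · rw [h]; linear_combination D.two_u
      · rw [h]; exact D.u_ne_zero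

/-- normalizer of `L 2 i` -/
theorem normalizer_L2 [Finite S] (i : ZMod D.N) :
    Subgroup.normalizer ((D.L 2 D.two_u i : Subgroup S) : Set S) = D.L 4 D.four_u i := by
  apply le_antisymm
  · intro g hg
    rw [Subgroup.mem_normalizer_iff] at hg
    have hYi : D.Y i ∈ D.L 2 D.two_u i := by
      rw [D.Y_mem_L]; ring
    have h1 := (hg _).mp hYi
    rcases D.cases g with ⟨m, rfl⟩ | ⟨m, rfl⟩
    · rw [D.X_conj_Y, D.Y_mem_L] at h1
      rw [D.X_mem_L]
      linear_combination h1 + m * D.two_u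
    · rw [D.Y_conj_Y, D.Y_mem_L] at h1
      rw [D.Y_mem_L]
      rw [D.ρ_eq] at h1
      linear_combination h1 + (m - i) * D.two_u
  · intro g hg
    apply Subgroup.mem_normalizer_fintype
    intro h hh
    have hh' : h ∈ D.L 2 D.two_u i := hh
    show g * h * g⁻¹ ∈ D.L 2 D.two_u i
    rcases hg with ⟨m, hm, rfl⟩ | ⟨m, hm, rfl⟩ <;> rcases hh' with ⟨k, hk, rfl⟩ | ⟨k, hk, rfl⟩
    · rw [D.X_conj_X, D.X_mem_L]; exact hk
    · rw [D.X_conj_Y, D.Y_mem_L]
      linear_combination hk + hm - m * D.two_u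
    · rw [D.Y_conj_X, D.X_mem_L]
      linear_combination D.ρ * hk
    · rw [D.Y_conj_Y, D.Y_mem_L, D.ρ_eq]
      linear_combination (D.u - 1) * hk + hm - (m - i) * D.two_u

end QD

end Cfsg.Agent.Lib.Helper9
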