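import Mathlib
import Cfsg.Agent.Lib.Helper9.QD5

set_option autoImplicit false

namespace Cfsg.Agent.Lib.Helper9

namespace QD

variable {S : Type*} [Group S] (D : QD S)

/-- `2 ^ (n - 3)` -/
def w : ZMod D.N := ((2 ^ (D.n - 3) : ℕ) : ZMod D.N)

theorem two_w : 2 * D.w = D.v := by
  unfold w v
  have : 2 * 2 ^ (D.n - 3) = 2 ^ (D.n - 2) := by
    rw [← pow_succ']
    congr 1
    have := D.hn
    omega
  rw [← this]
  push_cast
  ring

theorem four_w : 4 * D.w = D.u := by
  linear_combination 2 * D.two_w + D.two_v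

theorem double_u (c : ZMod D.N) (hc : c * D.u = 0) : (2 * c) * D.u = 0 := by
  linear_combination 2 * hc

/-- general normalizer computation -/
theorem normalizer_L [Finite S] (c : ZMod D.N) (hc : c * D.u = 0) (i : ZMod D.N) :
    Subgroup.normalizer ((D.L c hc i : Subgroup S) : Set S) = D.L (2 * c) (D.double_u c hc) i := by
  apply le_antisymm
  · intro g hg
    rw [Subgroup.mem_normalizer_iff] at hg
    have hYi : D.Y i ∈ D.L c hc i := by
      rw [D.Y_mem_L]; ring
    have h1 := (hg _).mp hYi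
    rcases D.cases g with ⟨m, rfl⟩ | ⟨m, rfl⟩
    · rw [D.X_conj_Y, D.Y_mem_L] at h1
      rw [D.X_mem_L]
      linear_combination h1 + m * hc
    · rw [D.Y_conj_Y, D.Y_mem_L] at h1
      rw [D.Y_mem_L]
      rw [D.ρ_eq] at h1
      linear_combination h1 + (m - i) * hc
  · intro g hg
    apply Subgroup.mem_normalizer_fintype
    intro h hh
    have hh' : h ∈ D.L c hc i := hh
    show g * h * g⁻¹ ∈ D.L c hc i
    rcases hg with ⟨m, hm, rfl⟩ | ⟨m, hm, rfl⟩ <;> rcases hh' with ⟨k, hk, rfl⟩ | ⟨k, hk, rfl⟩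
    · rw [D.X_conj_X, D.X_mem_L]; exact hk
    · rw [D.X_conj_Y, D.Y_mem_L]
      linear_combination hk + hm - m * hc
    · rw [D.Y_conj_X, D.X_mem_L]
      linear_combination D.ρ * hk
    · rw [D.Y_conj_Y, D.Y_mem_L, D.ρ_eq]
      linear_combination (D.u - 1) * hk + hm - (m - i) * hc

/-- general index computation -/
theorem relIndex_L (c : ZMod D.N) (hc : c * D.u = 0) (a₀ : ZMod D.N) (ha₀ : c * a₀ = D.u)
    (i : ZMod D.N) :
    (D.L c hc i).relIndex (D.L (2 * c) (D.double_u c hc) i) = 2 := by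
  rw [Subgroup.relIndex, Subgroup.index_eq_two_iff]
  have hv : D.X a₀ ∈ D.L (2 * c) (D.double_u c hc) i := by
    rw [D.X_mem_L]
    linear_combination 2 * ha₀ + D.two_u
  refine ⟨⟨D.X a₀, hv⟩, ?_⟩
  rintro ⟨b, hb⟩
  simp only [Subgroup.mem_subgroupOf, Subgroup.coe_mul]
  rcases hb with ⟨k, hk, rfl⟩ | ⟨k, hk, rfl⟩
  · rw [← D.X_add, D.X_mem_L, D.X_mem_L]
    have hk' : 2 * (c * k) = 0 := by linear_combination hk
    rcases D.two_mul_eq_zero _ hk' with h | h
    · refine Or.inr ⟨h, ?_⟩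
      intro h2
      apply D.u_ne_zero
      linear_combination h2 - h - ha₀
    · refine Or.inl ⟨?_, ?_⟩
      · linear_combination h + ha₀ + D.two_u
      · rw [h]; exact D.u_ne_zero
  · rw [D.Y_mul_X, D.Y_mem_L, D.Y_mem_L]
    have e : c * (k + D.ρ * a₀ - i) = c * (k - i) + D.u := by
      rw [D.ρ_eq]
      linear_combination (D.u - 1) * ha₀ + D.u_sq - D.two_u
    rw [e]
    have hk' : 2 * (c * (k - i)) = 0 := by linear_combination hk
    rcases D.two_mul_eq_zero _ hk' with h | h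
    · refine Or.inr ⟨h, ?_⟩
      rw [h, zero_add]
      exact D.u_ne_zero
    · refine Or.inl ⟨?_, ?_⟩
      · rw [h]; linear_combination D.two_u
      · rw [h]; exact D.u_ne_zero

theorem four_mul_cases (k : ZMod D.N) (h : 4 * k = 0) :
    k = 0 ∨ k = D.u ∨ k = D.v ∨ k = -D.v := by
  rcases D.four_mul_eq_zero k h with h2 | h2
  · rcases D.two_mul_eq_zero k h2 with h3 | h3
    · exact Or.inl h3
    · exact Or.inr (Or.inl h3)
  · rcases D.two_mul_eq_u k h2 with h3 | h3
    · exact Or.inr (Or.inr (Or.inl h3))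
    · exact Or.inr (Or.inr (Or.inr h3))

theorem Y_pow_two (a : ZMod D.N) : (D.Y a) ^ 2 = D.X (D.u * a) := by
  rw [pow_two, D.Y_sq]

end QD

end Cfsg.Agent.Lib.Helper9
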