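import Mathlib

set_option autoImplicit false

namespace Cfsg.Agent.Lib.Helper9

section QDF1

theorem perm_fin3_sq : ∀ (τ : Equiv.Perm (Fin 3)) (i : Fin 3), τ i = i → τ * τ = 1 := by decide

theorem perm_sq_eq_one_of_fixed {X : Type*} [Fintype X] [DecidableEq X] (hX : Fintype.card X = 3)
    (σ : Equiv.Perm X) (x₀ : X) (h : σ x₀ = x₀) : σ * σ = 1 := by
  let e : X ≃ Fin 3 := Fintype.equivFinOfCardEq hX
  have h1 := perm_fin3_sq (e.permCongr σ) (e x₀) (by simp [Equiv.permCongr_apply, h])
  have h2 : e.permCongr (σ * σ) = e.permCongr 1 := by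
    rw [show e.permCongr (σ * σ) = e.permCongr σ * e.permCongr σ from by
      ext i; simp [Equiv.permCongr_apply]]
    rw [h1]
    ext i; simp [Equiv.permCongr_apply]
  exact e.permCongr.injective h2

/-- A finite group acting on three points, with an element outside the kernel fixing a point. -/
theorem three_point_action {N : Type*} [Group N] {X : Type*} [MulAction N X]
    (hX : Nat.card X = 3) (K : Subgroup N) (hK : K = (MulAction.toPermHom N X).ker) (s : N) (x₀ : X)
    (hs : s • x₀ = x₀) (hsK : s ∉ K) :
    (K.index = 2 ∨ K.index = 6) ∧ (K.index = 6 ↔ ∃ n : N, n • x₀ ≠ x₀) ∧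
      (K.index = 6 → ∀ x y : X, ∃ n : N, n • x = y) := by
  classical
  have hfin : Finite X := Nat.finite_of_card_ne_zero (by rw [hX]; norm_num)
  have hft : Fintype X := Fintype.ofFinite X
  have hX' : Fintype.card X = 3 := by rw [← Nat.card_eq_fintype_card]; exact hX
  have hidx : K.index = Nat.card (MulAction.toPermHom N X).range := by
    rw [hK]; exact Subgroup.index_ker _
  have hperm : Nat.card (Equiv.Perm X) = 6 := by
    rw [Nat.card_eq_fintype_card, Fintype.card_perm, hX']; rfl
  have hdvd : Nat.card (MulAction.toPermHom N X).range ∣ 6 := by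
    rw [← hperm]; exact Subgroup.card_subgroup_dvd_card _
  have hs1 : (MulAction.toPermHom N X) s ≠ 1 := by
    intro h
    apply hsK
    rw [hK, MonoidHom.mem_ker]; exact h
  have hs2 : (MulAction.toPermHom N X) s * (MulAction.toPermHom N X) s = 1 :=
    perm_sq_eq_one_of_fixed hX' _ x₀ (by simpa using hs)
  have hord : orderOf ((MulAction.toPermHom N X) s) = 2 := by
    apply orderOf_eq_prime
    · rw [pow_two]; exact hs2
    · exact hs1
  have hsr : (⟨(MulAction.toPermHom N X) s, ⟨s, rfl⟩⟩ : (MulAction.toPermHom N X).range) ≠ 1 := by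
    intro h
    apply hs1
    exact congrArg Subtype.val h
  have hord' : orderOf (⟨(MulAction.toPermHom N X) s, ⟨s, rfl⟩⟩ : (MulAction.toPermHom N X).range) = 2 := by
    apply orderOf_eq_prime
    · apply Subtype.ext
      rw [pow_two]
      exact hs2
    · exact hsr
  have heven : 2 ∣ Nat.card (MulAction.toPermHom N X).range := by
    rw [← hord']; exact orderOf_dvd_natCard _
  have hcases : Nat.card (MulAction.toPermHom N X).range = 2 ∨
      Nat.card (MulAction.toPermHom N X).range = 6 := by
    have hle : Nat.card (MulAction.toPermHom N X).range ≤ 6 := Nat.le_of_dvd (by norm_num) hdvd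
    have hpos : 0 < Nat.card (MulAction.toPermHom N X).range := Nat.card_pos
    interval_cases (Nat.card (MulAction.toPermHom N X).range) <;> omega
  have htrans : K.index = 6 → ∀ x y : X, ∃ n : N, n • x = y := by
    intro h6 x y
    rw [hidx, ← hperm] at h6
    have htop := (Subgroup.card_eq_iff_eq_top _).mp h6
    have hmem : Equiv.swap x y ∈ (MulAction.toPermHom N X).range := by rw [htop]; trivial
    obtain ⟨n, hn⟩ := hmem
    refine ⟨n, ?_⟩
    have := congrArg (fun σ : Equiv.Perm X => σ x) hn
    simpa using this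
  refine ⟨by rw [hidx]; exact hcases, ⟨?_, ?_⟩, htrans⟩
  · intro h6
    have hex : ∃ y : X, y ≠ x₀ := by
      by_contra hcon
      push Not at hcon
      have : Fintype.card X ≤ 1 := Fintype.card_le_one_iff.mpr (fun a b => by rw [hcon a, hcon b])
      omega
    obtain ⟨y, hy⟩ := hex
    obtain ⟨n, hn⟩ := htrans h6 x₀ y
    exact ⟨n, by rw [hn]; exact hy⟩
  · rintro ⟨n, hn⟩
    rw [hidx]
    rcases hcases with h2 | h6
    · exfalso
      have hz : Nat.card (Subgroup.zpowers (⟨(MulAction.toPermHom N X) s, ⟨s, rfl⟩⟩ :
          (MulAction.toPermHom N X).range)) = 2 := by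
        rw [Nat.card_zpowers, hord']
      have htop : Subgroup.zpowers (⟨(MulAction.toPermHom N X) s, ⟨s, rfl⟩⟩ :
          (MulAction.toPermHom N X).range) = ⊤ := by
        apply (Subgroup.card_eq_iff_eq_top _).mp
        rw [hz, h2]
      have hmem : (⟨(MulAction.toPermHom N X) n, ⟨n, rfl⟩⟩ : (MulAction.toPermHom N X).range) ∈
          Subgroup.zpowers (⟨(MulAction.toPermHom N X) s, ⟨s, rfl⟩⟩ :
          (MulAction.toPermHom N X).range) := by rw [htop]; trivial
      obtain ⟨k, hk⟩ := Subgroup.mem_zpowers_iff.mp hmem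
      have hk' : ((MulAction.toPermHom N X) s) ^ k = (MulAction.toPermHom N X) n := by
        have := congrArg Subtype.val hk
        simpa using this
      apply hn
      have h3 : (MulAction.toPermHom N X) (s ^ k) = (MulAction.toPermHom N X) n := by
        rw [map_zpow]; exact hk'
      have h4 := congrArg (fun σ : Equiv.Perm X => σ x₀) h3
      simp only [MulAction.toPermHom_apply, MulAction.toPerm_apply] at h4
      rw [← h4]
      have hfix : ∀ k : ℤ, s ^ k • x₀ = x₀ := by
        intro k
        have hmemst : s ∈ MulAction.stabilizer N x₀ := hs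
        exact (MulAction.stabilizer N x₀).zpow_mem hmemst k
      exact hfix k
    · exact h6

end QDF1

end Cfsg.Agent.Lib.Helper9
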