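import Mathlib
import Cfsg.Agent.Lib.Helper9.QDF1

set_option autoImplicit false

namespace Cfsg.Agent.Lib.Helper9

section QDF2

variable {G : Type*} [Group G]

/-- conjugation action of the normalizer of `T` on the non-identity elements of `T` -/
@[reducible] def conjActPts (T : Subgroup G) :
    MulAction ↥(Subgroup.normalizer (T : Set G)) {t : G // t ∈ T ∧ t ≠ 1} where
  smul g t := ⟨(g : G) * t.1 * (g : G)⁻¹, (Subgroup.mem_normalizer_iff.mp g.2 t.1).mp t.2.1,
    fun h => t.2.2 (by
      have h1 : (g : G)⁻¹ * ((g : G) * t.1 * (g : G)⁻¹) * (g : G) = t.1 := by group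
      rw [h] at h1
      rw [← h1]; group)⟩
  one_smul t := by
    apply Subtype.ext
    show ((1 : ↥(Subgroup.normalizer (T : Set G))) : G) * t.1 *
      ((1 : ↥(Subgroup.normalizer (T : Set G))) : G)⁻¹ = t.1
    simp
  mul_smul g h t := by
    apply Subtype.ext
    show ((g * h : ↥(Subgroup.normalizer (T : Set G))) : G) * t.1 *
      ((g * h : ↥(Subgroup.normalizer (T : Set G))) : G)⁻¹ =
      (g : G) * ((h : G) * t.1 * (h : G)⁻¹) * (g : G)⁻¹
    simp [mul_assoc]

theorem conjActPts_smul_val (T : Subgroup G) (g : ↥(Subgroup.normalizer (T : Set G)))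
    (t : {t : G // t ∈ T ∧ t ≠ 1}) :
    (letI := conjActPts T; (g • t).1) = (g : G) * t.1 * (g : G)⁻¹ := rfl

theorem conjActPts_ker (T : Subgroup G) :
    (letI := conjActPts T;
      (MulAction.toPermHom ↥(Subgroup.normalizer (T : Set G)) {t : G // t ∈ T ∧ t ≠ 1}).ker) =
      (Subgroup.centralizer (T : Set G)).subgroupOf (Subgroup.normalizer (T : Set G)) := by
  letI := conjActPts T
  ext g
  rw [MonoidHom.mem_ker, Subgroup.mem_subgroupOf, Subgroup.mem_centralizer_iff]
  constructor
  · intro h t ht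
    by_cases h1 : t = 1
    · rw [h1]; simp
    · have h2 := congrArg (fun σ : Equiv.Perm {t : G // t ∈ T ∧ t ≠ 1} => (σ ⟨t, ht, h1⟩).1) h
      simp only [MulAction.toPermHom_apply, MulAction.toPerm_apply, Equiv.Perm.coe_one, id_eq] at h2
      rw [conjActPts_smul_val] at h2
      have h3 : (g : G) * t = t * (g : G) := by
        calc (g : G) * t = ((g : G) * t * (g : G)⁻¹) * (g : G) := by group
          _ = t * (g : G) := by rw [h2]
      exact h3.symm
  · intro h
    ext t
    simp only [MulAction.toPermHom_apply, MulAction.toPerm_apply, Equiv.Perm.coe_one, id_eq]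
    rw [conjActPts_smul_val]
    have h2 := h t.1 t.2.1
    calc (g : G) * t.1 * (g : G)⁻¹ = (t.1 * (g : G)) * (g : G)⁻¹ := by rw [h2]
      _ = t.1 := by group

theorem card_pts (T : Subgroup G) [Finite T] :
    Nat.card {t : G // t ∈ T ∧ t ≠ 1} = Nat.card T - 1 := by
  classical
  have e : {t : G // t ∈ T ∧ t ≠ 1} ≃ {t : ↥T // t ≠ 1} :=
    { toFun := fun t => ⟨⟨t.1, t.2.1⟩, fun h => t.2.2 (congrArg Subtype.val h)⟩
      invFun := fun t => ⟨t.1.1, t.1.2, fun h => t.2 (Subtype.ext h)⟩
      left_inv := fun t => rfl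
      right_inv := fun t => rfl }
  rw [Nat.card_congr e]
  have := Fintype.ofFinite ↥T
  rw [Nat.card_eq_fintype_card, Nat.card_eq_fintype_card, Fintype.card_subtype_compl,
    Fintype.card_subtype_eq]

end QDF2

end Cfsg.Agent.Lib.Helper9
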