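import Mathlib
import Cfsg.Agent.Lib.Helper9.QDF2
import Cfsg.Agent.Lib.Helper9.QD6
import Cfsg.Agent.Lib.Helper9.SylowConj
import Cfsg.Agent.S1190
import Cfsg.Agent.S1191

set_option autoImplicit false

namespace Cfsg.Agent.Lib.Helper9

section QDF3

variable {G : Type*} [Group G]

theorem isKleinFour_subgroupOf {T S : Subgroup G} (hT : IsKleinFour T) (hTS : T ≤ S) :
    IsKleinFour (T.subgroupOf S) := by
  have e : T.subgroupOf S ≃* T := Subgroup.subgroupOfEquivOfLe hTS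
  exact ⟨by rw [Nat.card_congr e.toEquiv]; exact hT.card_four,
    by rw [Monoid.exponent_eq_of_mulEquiv e]; exact hT.exponent_two⟩

theorem mem_normalizer_of_conj_mem' [Finite G] {K : Subgroup G} {g : G}
    (h : ∀ x ∈ K, g * x * g⁻¹ ∈ K) : g ∈ Subgroup.normalizer (K : Set G) := by
  have hle : K.map (MulAut.conj g).toMonoidHom ≤ K := by
    rintro _ ⟨x, hx, rfl⟩
    exact h x hx
  have heq : K.map (MulAut.conj g).toMonoidHom = K :=
    Subgroup.eq_of_le_of_card_ge hle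
      (by rw [Subgroup.card_map_of_injective (MulAut.conj g).injective])
  exact Subgroup.mem_normalizer_iff_map_conj_eq.mpr heq

theorem klein_index [Finite G] (S : Subgroup G) (D : QD ↥S) (T : Subgroup G)
    (hT : IsKleinFour T) (hTS : T ≤ S) :
    ((Subgroup.centralizer (T : Set G)).relIndex (Subgroup.normalizer (T : Set G)) = 2 ∨
      (Subgroup.centralizer (T : Set G)).relIndex (Subgroup.normalizer (T : Set G)) = 6) ∧
    ((Subgroup.centralizer (T : Set G)).relIndex (Subgroup.normalizer (T : Set G)) = 6 ↔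
      ∃ n ∈ Subgroup.normalizer (T : Set G), n * (D.z : G) * n⁻¹ ≠ (D.z : G)) ∧
    ((Subgroup.centralizer (T : Set G)).relIndex (Subgroup.normalizer (T : Set G)) = 6 →
      ∃ i, D.Ev i ∧ ∃ n : G, n * (D.z : G) * n⁻¹ = (D.Y i : G)) ∧
    ((D.z : G) ∈ T) ∧ ∃ i, D.Ev i ∧ T.subgroupOf S = D.L 2 D.two_u i := by
  classical
  have hfinS : Finite ↥S := inferInstance
  obtain ⟨i, hi, hTi⟩ := Cfsg.Agent.S1190.klein_eq D (T.subgroupOf S) (isKleinFour_subgroupOf hT hTS)
  have memT : ∀ a : ↥S, (a : G) ∈ T ↔ a ∈ D.L 2 D.two_u i := by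
    intro a
    rw [← hTi, Subgroup.mem_subgroupOf]
  have hz : (D.z : G) ∈ T := by
    rw [memT]
    unfold QD.z
    rw [D.X_mem_L]
    exact D.two_u
  have hYi : (D.Y i : G) ∈ T := by
    rw [memT, D.Y_mem_L]; ring
  have hz1 : (D.z : G) ≠ 1 := by
    intro h
    apply D.z_ne_one
    exact Subtype.ext h
  have hYi1 : (D.Y i : G) ≠ 1 := by
    intro h
    have h2 : D.Y i = 1 := Subtype.ext h
    rw [← D.X_zero] at h2
    exact D.Y_ne_X _ _ h2
  obtain ⟨k, hk⟩ := D.conj_even D.v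
  have hs₀N : ((D.X k : ↥S) : G) ∈ Subgroup.normalizer (T : Set G) := by
    apply mem_normalizer_of_conj_mem'
    intro t ht
    have htS : t ∈ S := hTS ht
    have ht' : (⟨t, htS⟩ : ↥S) ∈ D.L 2 D.two_u i := (memT ⟨t, htS⟩).mp ht
    have h1 : ((D.X k * ⟨t, htS⟩ * (D.X k)⁻¹ : ↥S) : G) = (D.X k : G) * t * (D.X k : G)⁻¹ := by
      simp
    rw [← h1, memT]
    rcases ht' with ⟨m, hm, hmt⟩ | ⟨m, hm, hmt⟩
    · rw [hmt, D.X_conj_X, D.X_mem_L]; exact hm
    · rw [hmt, D.X_conj_Y, D.Y_mem_L, hk]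
      linear_combination hm + 2 * D.two_v + D.two_u
  have hs₀z : (D.X k : G) * (D.z : G) * (D.X k : G)⁻¹ = (D.z : G) := by
    have h1 : D.X k * D.z * (D.X k)⁻¹ = D.z := by
      unfold QD.z; rw [D.X_conj_X]
    have := congrArg (Subtype.val : ↥S → G) h1
    simpa using this
  have hs₀C : ((D.X k : ↥S) : G) ∉ Subgroup.centralizer (T : Set G) := by
    intro hc
    have h1 := Subgroup.mem_centralizer_iff.mp hc _ hYi
    have h2 : D.Y i * D.X k = D.X k * D.Y i := Subtype.ext (by simpa using h1)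
    rw [D.Y_mul_X, D.X_mul_Y] at h2
    have h3 := D.Y_inj h2
    apply D.u_ne_zero
    rw [D.ρ_eq] at h3
    have h4 : k * (2 - D.u) = 0 := by linear_combination -h3
    rw [hk, D.two_v] at h4
    exact h4
  letI := conjActPts T
  have hfinT : Finite ↥T := inferInstance
  have hX : Nat.card {t : G // t ∈ T ∧ t ≠ 1} = 3 := by
    rw [card_pts, hT.card_four]
  have h3 := three_point_action (N := ↥(Subgroup.normalizer (T : Set G)))
    (X := {t : G // t ∈ T ∧ t ≠ 1}) hX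
    ((Subgroup.centralizer (T : Set G)).subgroupOf (Subgroup.normalizer (T : Set G)))
    (conjActPts_ker T).symm ⟨(D.X k : G), hs₀N⟩ ⟨(D.z : G), hz, hz1⟩
    (Subtype.ext hs₀z)
    (by rw [Subgroup.mem_subgroupOf]; exact hs₀C)
  obtain ⟨h3a, h3b, h3c⟩ := h3
  refine ⟨h3a, ?_, ?_, hz, i, hi, hTi⟩
  · constructor
    · intro h6
      obtain ⟨n, hn⟩ := h3b.mp h6
      refine ⟨n.1, n.2, ?_⟩
      intro h
      apply hn
      exact Subtype.ext h
    · rintro ⟨n, hnN, hn⟩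
      apply h3b.mpr
      refine ⟨⟨n, hnN⟩, ?_⟩
      intro h
      apply hn
      exact congrArg Subtype.val h
  · intro h6
    obtain ⟨n, hn⟩ := h3c h6 ⟨(D.z : G), hz, hz1⟩ ⟨(D.Y i : G), hYi, hYi1⟩
    exact ⟨i, hi, n.1, congrArg Subtype.val hn⟩

end QDF3

end Cfsg.Agent.Lib.Helper9
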