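import Mathlib
import Cfsg.Agent.Lib.Helper9.QDF3

set_option autoImplicit false

namespace Cfsg.Agent.Lib.Helper9

section QDF4

variable {G : Type*} [Group G]

/-- the cyclic subgroups of order four inside `Q` -/
def Cyc4 (Q : Subgroup G) : Type _ :=
  {A : Subgroup G // A ≤ Q ∧ ∃ g, orderOf g = 4 ∧ A = Subgroup.zpowers g}

theorem map_conj_zpowers (n g : G) :
    (Subgroup.zpowers g).map (MulAut.conj n).toMonoidHom = Subgroup.zpowers (n * g * n⁻¹) := by
  rw [MonoidHom.map_zpowers]
  rfl

/-- conjugation action of the normalizer of `Q` on the cyclic subgroups of order four of `Q` -/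
@[reducible] def conjActSub (Q : Subgroup G) :
    MulAction ↥(Subgroup.normalizer (Q : Set G)) (Cyc4 Q) where
  smul n A := ⟨A.1.map (MulAut.conj (n : G)).toMonoidHom, by
      rintro _ ⟨x, hx, rfl⟩
      exact (Subgroup.mem_normalizer_iff.mp n.2 x).mp (A.2.1 hx), by
      obtain ⟨g, hg, hA⟩ := A.2.2
      refine ⟨(n : G) * g * (n : G)⁻¹, ?_, ?_⟩
      · rw [orderOf_conj_eq]; exact hg
      · rw [hA, map_conj_zpowers]⟩
  one_smul A := by
    apply Subtype.ext
    show A.1.map (MulAut.conj ((1 : ↥(Subgroup.normalizer (Q : Set G))) : G)).toMonoidHom = A.1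
    ext x
    simp
  mul_smul n m A := by
    apply Subtype.ext
    show A.1.map (MulAut.conj ((n * m : ↥(Subgroup.normalizer (Q : Set G))) : G)).toMonoidHom =
      (A.1.map (MulAut.conj (m : G)).toMonoidHom).map (MulAut.conj (n : G)).toMonoidHom
    rw [Subgroup.map_map]
    congr 1
    ext x
    simp [mul_assoc]

theorem conjActSub_smul_val (Q : Subgroup G) (n : ↥(Subgroup.normalizer (Q : Set G)))
    (A : Cyc4 Q) :
    (letI := conjActSub Q; (n • A).1) = A.1.map (MulAut.conj (n : G)).toMonoidHom := rfl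

theorem conjActSub_mem_ker (Q : Subgroup G) (n : ↥(Subgroup.normalizer (Q : Set G))) :
    (letI := conjActSub Q;
      n ∈ (MulAction.toPermHom ↥(Subgroup.normalizer (Q : Set G)) (Cyc4 Q)).ker) ↔
      ∀ A : Cyc4 Q, A.1.map (MulAut.conj (n : G)).toMonoidHom = A.1 := by
  letI := conjActSub Q
  rw [MonoidHom.mem_ker]
  constructor
  · intro h A
    have h2 := congrArg (fun σ : Equiv.Perm (Cyc4 Q) => (σ A).1) h
    simp only [MulAction.toPermHom_apply, MulAction.toPerm_apply, Equiv.Perm.coe_one, id_eq] at h2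
    exact h2
  · intro h
    ext A : 1
    apply Subtype.ext
    simp only [MulAction.toPermHom_apply, MulAction.toPerm_apply, Equiv.Perm.coe_one, id_eq]
    exact h A

end QDF4

end Cfsg.Agent.Lib.Helper9
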