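import Mathlib
import Cfsg.Agent.Lib.Helper9.QDF4

set_option autoImplicit false

namespace Cfsg.Agent.Lib.Helper9

section QDF5

theorem mem_zpowers_order_four {H : Type*} [Group H] {g h : H} (hg : orderOf g = 4)
    (hh : h ∈ Subgroup.zpowers g) (hho : orderOf h = 4) : h = g ∨ h = g⁻¹ := by
  classical
  have hfin : IsOfFinOrder g := orderOf_pos_iff.mp (by rw [hg]; norm_num)
  rw [hfin.mem_zpowers_iff_mem_range_orderOf, hg] at hh
  obtain ⟨k, hk, rfl⟩ := Finset.mem_image.mp hh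
  rw [Finset.mem_range] at hk
  have hg4 : g ^ 4 = 1 := by rw [← hg]; exact pow_orderOf_eq_one g
  interval_cases k
  · simp at hho
  · left; simp
  · exfalso
    have h1 : (g ^ 2) ^ 2 = 1 := by rw [← pow_mul]; exact hg4
    have h2 := orderOf_dvd_of_pow_eq_one h1
    rw [hho] at h2
    omega
  · right
    apply eq_inv_of_mul_eq_one_left
    rw [← pow_succ]; exact hg4

namespace QD

variable {S : Type*} [Group S] (D : QD S)

theorem ev_v : D.Ev D.v := ⟨D.w, D.two_w.symm⟩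

theorem neg_v : -D.v = D.v + D.u := by
  linear_combination -D.two_v - D.two_u

theorem Y_inv_odd {a : ZMod D.N} (ha : ¬ D.Ev a) : (D.Y a)⁻¹ = D.Y (a + D.u) := by
  rw [D.Y_inv, D.ρ_eq]
  congr 1
  have := D.u_mul_of_not_ev ha
  linear_combination -this - D.two_u

theorem not_ev_add_v {a : ZMod D.N} (ha : ¬ D.Ev a) : ¬ D.Ev (a + D.v) := by
  intro h
  apply ha
  have := D.ev_sub h D.ev_v
  simpa using this

theorem not_ev_add_u {a : ZMod D.N} (ha : ¬ D.Ev a) : ¬ D.Ev (a + D.u) := by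
  intro h
  apply ha
  have := D.ev_sub h D.ev_u
  simpa using this

theorem orderOf_X_v : orderOf (D.X D.v) = 4 := (D.orderOf_four_iff _).mpr (Or.inl rfl)

theorem orderOf_Y_odd {a : ZMod D.N} (ha : ¬ D.Ev a) : orderOf (D.Y a) = 4 :=
  (D.orderOf_four_iff _).mpr (Or.inr (Or.inr ⟨a, ha, rfl⟩))

theorem X_neg_v : D.X (-D.v) = (D.X D.v)⁻¹ := D.X_neg _

end QD

end QDF5

end Cfsg.Agent.Lib.Helper9
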