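import Mathlib
import Cfsg.Agent.Lib.Helper9.QDF5

set_option autoImplicit false

namespace Cfsg.Agent.Lib.Helper9

section QDF6

theorem card_subtype_eq_three' {α : Type*} (P : α → Prop) (a b c : α) (hab : a ≠ b) (hac : a ≠ c)
    (hbc : b ≠ c) (ha : P a) (hb : P b) (hc : P c) (h : ∀ d, P d → d = a ∨ d = b ∨ d = c) :
    Nat.card {d // P d} = 3 := by
  have hbij : Function.Bijective (fun i : Fin 3 => (![⟨a, ha⟩, ⟨b, hb⟩, ⟨c, hc⟩] i : {d // P d})) := by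
    constructor
    · intro i j hij
      fin_cases i <;> fin_cases j <;> simp_all [Subtype.ext_iff]
    · rintro ⟨d, hd⟩
      rcases h d hd with rfl | rfl | rfl
      · exact ⟨0, rfl⟩
      · exact ⟨1, rfl⟩
      · exact ⟨2, rfl⟩
  rw [← Nat.card_congr (Equiv.ofBijective _ hbij)]
  simp

theorem zpowers_eq_of_mem_of_orderOf_eq {H : Type*} [Group H] {g h : H} (hh : h ∈ Subgroup.zpowers g)
    (ho : orderOf h = orderOf g) (hpos : 0 < orderOf g) : Subgroup.zpowers h = Subgroup.zpowers g := by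
  have hfin : Finite (Subgroup.zpowers g) := by
    apply Nat.finite_of_card_ne_zero
    rw [Nat.card_zpowers]; omega
  apply Subgroup.eq_of_le_of_card_ge (Subgroup.zpowers_le.mpr hh)
  rw [Nat.card_zpowers, Nat.card_zpowers, ho]

variable {G : Type*} [Group G]

/-- Structure of a quaternion subgroup of order 8 in a quasi-dihedral subgroup `S` of `G`. -/
structure QSetup (S : Subgroup G) (D : QD ↥S) (Q : Subgroup G) (a : ZMod D.N) : Prop where
  le : Q ≤ S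
  odd : ¬ D.Ev a
  eq : Q.subgroupOf S = D.L 4 D.four_u a
  card : Nat.card Q = 8

namespace QSetup

variable {S : Subgroup G} {D : QD ↥S} {Q : Subgroup G} {a : ZMod D.N} (h : QSetup S D Q a)
include h

theorem mem_iff (b : ↥S) : (b : G) ∈ Q ↔ b ∈ D.L 4 D.four_u a := by
  rw [← h.eq, Subgroup.mem_subgroupOf]

theorem four_v : (4 : ZMod D.N) * D.v = 0 := by linear_combination 2 * D.two_v + D.two_u

theorem xv_mem : ((D.X D.v : ↥S) : G) ∈ Q := by
  rw [h.mem_iff, D.X_mem_L]; exact h.four_v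

theorem ya_mem : ((D.Y a : ↥S) : G) ∈ Q := by
  rw [h.mem_iff, D.Y_mem_L]; ring

theorem yav_mem : ((D.Y (a + D.v) : ↥S) : G) ∈ Q := by
  rw [h.mem_iff, D.Y_mem_L]; linear_combination h.four_v

theorem orderOf_xv : orderOf ((D.X D.v : ↥S) : G) = 4 := by
  rw [Subgroup.orderOf_coe]; exact D.orderOf_X_v

theorem orderOf_ya : orderOf ((D.Y a : ↥S) : G) = 4 := by
  rw [Subgroup.orderOf_coe]; exact D.orderOf_Y_odd h.odd

theorem orderOf_yav : orderOf ((D.Y (a + D.v) : ↥S) : G) = 4 := by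
  rw [Subgroup.orderOf_coe]; exact D.orderOf_Y_odd (D.not_ev_add_v h.odd)

/-- the three cyclic subgroups of order four -/
noncomputable def A₁ : Cyc4 Q := ⟨Subgroup.zpowers ((D.X D.v : ↥S) : G), Subgroup.zpowers_le.mpr h.xv_mem,
  _, h.orderOf_xv, rfl⟩

noncomputable def A₂ : Cyc4 Q := ⟨Subgroup.zpowers ((D.Y a : ↥S) : G), Subgroup.zpowers_le.mpr h.ya_mem,
  _, h.orderOf_ya, rfl⟩

noncomputable def A₃ : Cyc4 Q := ⟨Subgroup.zpowers ((D.Y (a + D.v) : ↥S) : G), Subgroup.zpowers_le.mpr h.yav_mem,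
  _, h.orderOf_yav, rfl⟩

theorem zpowers_xv_le : Subgroup.zpowers ((D.X D.v : ↥S) : G) ≤
    (Subgroup.zpowers D.x).map S.subtype := by
  rw [Subgroup.zpowers_le]
  exact Subgroup.mem_map.mpr ⟨D.X D.v, D.X_mem_zpowers _, rfl⟩

theorem Y_notMem_zpowers_xv (i : ZMod D.N) :
    ((D.Y i : ↥S) : G) ∉ Subgroup.zpowers ((D.X D.v : ↥S) : G) := by
  intro hc
  obtain ⟨b, hb, hbe⟩ := Subgroup.mem_map.mp (h.zpowers_xv_le hc)
  have : b = D.Y i := Subtype.ext hbe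
  rw [this] at hb
  exact D.Y_notMem i hb

theorem zpowers_Y_le (i : ZMod D.N) : Subgroup.zpowers ((D.Y i : ↥S) : G) ≤
    (D.L 2 D.two_u i).map S.subtype := by
  rw [Subgroup.zpowers_le]
  refine Subgroup.mem_map.mpr ⟨D.Y i, ?_, rfl⟩
  rw [D.Y_mem_L]; ring

theorem Y_mem_zpowers_Y {i j : ZMod D.N}
    (hc : ((D.Y j : ↥S) : G) ∈ Subgroup.zpowers ((D.Y i : ↥S) : G)) : 2 * (j - i) = 0 := by
  obtain ⟨b, hb, hbe⟩ := Subgroup.mem_map.mp (h.zpowers_Y_le i hc)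
  have : b = D.Y j := Subtype.ext hbe
  rw [this, D.Y_mem_L] at hb
  exact hb

theorem two_v_ne : (2 : ZMod D.N) * D.v ≠ 0 := by
  rw [D.two_v]; exact D.u_ne_zero

theorem A₁_ne_A₂ : h.A₁ ≠ h.A₂ := by
  intro he
  have h1 : ((D.Y a : ↥S) : G) ∈ (h.A₂).1 := Subgroup.mem_zpowers _
  rw [← he] at h1
  exact h.Y_notMem_zpowers_xv a h1

theorem A₁_ne_A₃ : h.A₁ ≠ h.A₃ := by
  intro he
  have h1 : ((D.Y (a + D.v) : ↥S) : G) ∈ (h.A₃).1 := Subgroup.mem_zpowers _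
  rw [← he] at h1
  exact h.Y_notMem_zpowers_xv _ h1

theorem A₂_ne_A₃ : h.A₂ ≠ h.A₃ := by
  intro he
  have h1 : ((D.Y (a + D.v) : ↥S) : G) ∈ (h.A₃).1 := Subgroup.mem_zpowers _
  rw [← he] at h1
  have h2 := h.Y_mem_zpowers_Y h1
  apply h.two_v_ne
  linear_combination h2

end QSetup

end QDF6

end Cfsg.Agent.Lib.Helper9
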