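import Mathlib
import Cfsg.Agent.Lib.Helper9.QDF6

set_option autoImplicit false

namespace Cfsg.Agent.Lib.Helper9

section QDF7

variable {G : Type*} [Group G]

namespace QSetup

variable {S : Subgroup G} {D : QD ↥S} {Q : Subgroup G} {a : ZMod D.N} (h : QSetup S D Q a)
include h

theorem coe_inv_eq (b : ↥S) : ((b⁻¹ : ↥S) : G) = (b : G)⁻¹ := rfl

theorem cyc4_cases (A : Cyc4 Q) : A = h.A₁ ∨ A = h.A₂ ∨ A = h.A₃ := by
  obtain ⟨A', hle, g, hg4, hA'⟩ := A
  subst hA'
  have hgQ : g ∈ Q := hle (Subgroup.mem_zpowers g)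
  have hgS : g ∈ S := h.le hgQ
  have hb4 : orderOf (⟨g, hgS⟩ : ↥S) = 4 := by
    rw [← Subgroup.orderOf_coe]; exact hg4
  have hbL : (⟨g, hgS⟩ : ↥S) ∈ D.L 4 D.four_u a := (h.mem_iff ⟨g, hgS⟩).mp hgQ
  rcases (D.orderOf_four_iff _).mp hb4 with hb | hb | ⟨i, hi, hb⟩
  · left
    apply Subtype.ext
    show Subgroup.zpowers g = Subgroup.zpowers ((D.X D.v : ↥S) : G)
    have : g = ((D.X D.v : ↥S) : G) := congrArg Subtype.val hb
    rw [this]
  · left
    apply Subtype.ext
    show Subgroup.zpowers g = Subgroup.zpowers ((D.X D.v : ↥S) : G)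
    have : g = ((D.X D.v : ↥S) : G)⁻¹ := by
      have h1 := congrArg Subtype.val hb
      rw [D.X_neg_v] at h1
      exact h1
    rw [this, Subgroup.zpowers_inv]
  · rw [hb, D.Y_mem_L] at hbL
    have hg : g = ((D.Y i : ↥S) : G) := congrArg Subtype.val hb
    rcases D.four_mul_cases (i - a) hbL with h0 | h0 | h0 | h0
    · right; left
      apply Subtype.ext
      show Subgroup.zpowers g = Subgroup.zpowers ((D.Y a : ↥S) : G)
      have : i = a := sub_eq_zero.mp h0
      rw [hg, this]
    · right; left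
      apply Subtype.ext
      show Subgroup.zpowers g = Subgroup.zpowers ((D.Y a : ↥S) : G)
      have : i = a + D.u := by linear_combination h0
      rw [hg, this, ← D.Y_inv_odd h.odd, h.coe_inv_eq, Subgroup.zpowers_inv]
    · right; right
      apply Subtype.ext
      show Subgroup.zpowers g = Subgroup.zpowers ((D.Y (a + D.v) : ↥S) : G)
      have : i = a + D.v := by linear_combination h0
      rw [hg, this]
    · right; right
      apply Subtype.ext
      show Subgroup.zpowers g = Subgroup.zpowers ((D.Y (a + D.v) : ↥S) : G)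
      have : i = a + D.v + D.u := by linear_combination h0 + D.neg_v
      rw [hg, this, ← D.Y_inv_odd (D.not_ev_add_v h.odd), h.coe_inv_eq, Subgroup.zpowers_inv]

theorem card_cyc4 : Nat.card (Cyc4 Q) = 3 := by
  unfold Cyc4
  exact card_subtype_eq_three' _ h.A₁.1 h.A₂.1 h.A₃.1
    (fun he => h.A₁_ne_A₂ (Subtype.ext he)) (fun he => h.A₁_ne_A₃ (Subtype.ext he))
    (fun he => h.A₂_ne_A₃ (Subtype.ext he)) h.A₁.2 h.A₂.2 h.A₃.2
    (fun d hd => by
      rcases h.cyc4_cases ⟨d, hd⟩ with h1 | h1 | h1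
      · left; exact congrArg Subtype.val h1
      · right; left; exact congrArg Subtype.val h1
      · right; right; exact congrArg Subtype.val h1)

end QSetup

end QDF7

end Cfsg.Agent.Lib.Helper9
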