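import Mathlib
import Cfsg.Agent.Lib.Helper9.QDF7

set_option autoImplicit false

namespace Cfsg.Agent.Lib.Helper9

section QDF8

variable {G : Type*} [Group G]

theorem map_conj_eq_of_forall_mem {A : Subgroup G} [Finite A] {q : G}
    (hq : ∀ x ∈ A, q * x * q⁻¹ ∈ A) : A.map (MulAut.conj q).toMonoidHom = A := by
  have hle : A.map (MulAut.conj q).toMonoidHom ≤ A := by
    rintro _ ⟨x, hx, rfl⟩
    exact hq x hx
  exact Subgroup.eq_of_le_of_card_ge hle
    (by rw [Subgroup.card_map_of_injective (MulAut.conj q).injective])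

namespace QSetup

variable {S : Subgroup G} {D : QD ↥S} {Q : Subgroup G} {a : ZMod D.N} (h : QSetup S D Q a)
include h

theorem cyc4_finite (A : Cyc4 Q) : Finite A.1 := by
  obtain ⟨g, hg, hA⟩ := A.2.2
  apply Nat.finite_of_card_ne_zero
  rw [hA, Nat.card_zpowers, hg]; norm_num

theorem cyc4_card (A : Cyc4 Q) : Nat.card A.1 = 4 := by
  obtain ⟨g, hg, hA⟩ := A.2.2
  rw [hA, Nat.card_zpowers, hg]

theorem fix_of_mem_Q {q : G} (hq : q ∈ Q) (A : Cyc4 Q) :
    A.1.map (MulAut.conj q).toMonoidHom = A.1 := by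
  have hfin := h.cyc4_finite A
  have hQfin : Finite Q := Nat.finite_of_card_ne_zero (by rw [h.card]; norm_num)
  have hidx : (A.1.subgroupOf Q).index = 2 := by
    have h1 := Subgroup.index_mul_card (A.1.subgroupOf Q)
    have h2 : Nat.card (A.1.subgroupOf Q) = 4 := by
      rw [Nat.card_congr (Subgroup.subgroupOfEquivOfLe A.2.1).toEquiv]; exact h.cyc4_card A
    rw [h2, h.card] at h1
    omega
  have hn : (A.1.subgroupOf Q).Normal := Subgroup.normal_of_index_eq_two hidx
  apply map_conj_eq_of_forall_mem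
  intro x hx
  have h1 := hn.conj_mem ⟨x, A.2.1 hx⟩ (by rw [Subgroup.mem_subgroupOf]; exact hx) ⟨q, hq⟩
  rw [Subgroup.mem_subgroupOf] at h1
  simpa using h1

theorem fix_of_mem_centralizer {c : G} (hc : c ∈ Subgroup.centralizer (Q : Set G)) (A : Cyc4 Q) :
    A.1.map (MulAut.conj c).toMonoidHom = A.1 := by
  have hfin := h.cyc4_finite A
  apply map_conj_eq_of_forall_mem
  intro x hx
  have h1 := Subgroup.mem_centralizer_iff.mp hc x (A.2.1 hx)
  have : c * x * c⁻¹ = x := by rw [← h1]; group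
  rw [this]; exact hx

theorem X_mem_zpowers_xv {m : ZMod D.N} (hm : 4 * m = 0) :
    ((D.X m : ↥S) : G) ∈ Subgroup.zpowers ((D.X D.v : ↥S) : G) := by
  rcases D.four_mul_cases m hm with rfl | rfl | rfl | rfl
  · rw [D.X_zero]; exact Subgroup.one_mem _
  · have : ((D.X D.u : ↥S) : G) = ((D.X D.v : ↥S) : G) ^ 2 := by
      rw [← D.two_v, two_mul, D.X_add, pow_two]; rfl
    rw [this]; exact Subgroup.pow_mem _ (Subgroup.mem_zpowers _) 2
  · exact Subgroup.mem_zpowers _
  · rw [D.X_neg_v, h.coe_inv_eq]; exact Subgroup.inv_mem _ (Subgroup.mem_zpowers _)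

theorem mem_centralizer_of_commute {c : G}
    (h1 : c * ((D.X D.v : ↥S) : G) = ((D.X D.v : ↥S) : G) * c)
    (h2 : c * ((D.Y a : ↥S) : G) = ((D.Y a : ↥S) : G) * c) :
    c ∈ Subgroup.centralizer (Q : Set G) := by
  have hz : ∀ t ∈ Subgroup.zpowers ((D.X D.v : ↥S) : G), t * c = c * t := by
    intro t ht
    have : Subgroup.zpowers ((D.X D.v : ↥S) : G) ≤ Subgroup.centralizer ({c} : Set G) := by
      rw [Subgroup.zpowers_le, Subgroup.mem_centralizer_singleton_iff]
      exact h1.symm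
    have h3 := this ht
    rw [Subgroup.mem_centralizer_singleton_iff] at h3
    exact h3
  rw [Subgroup.mem_centralizer_iff]
  intro t ht
  have htS : t ∈ S := h.le ht
  have htL : (⟨t, htS⟩ : ↥S) ∈ D.L 4 D.four_u a := (h.mem_iff ⟨t, htS⟩).mp ht
  rcases htL with ⟨m, hm, hmt⟩ | ⟨m, hm, hmt⟩
  · have : t = ((D.X m : ↥S) : G) := congrArg Subtype.val hmt
    rw [this]
    exact hz _ (h.X_mem_zpowers_xv hm)
  · have h3 : D.Y m = D.X (m - a) * D.Y a := by
      rw [D.X_mul_Y]; congr 1; ring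
    have : t = ((D.X (m - a) : ↥S) : G) * ((D.Y a : ↥S) : G) := by
      have h4 := congrArg Subtype.val hmt
      rw [h3] at h4
      exact h4
    rw [this]
    have h5 := hz _ (h.X_mem_zpowers_xv hm)
    calc ((D.X (m - a) : ↥S) : G) * ((D.Y a : ↥S) : G) * c
        = ((D.X (m - a) : ↥S) : G) * (c * ((D.Y a : ↥S) : G)) := by rw [mul_assoc, h2]
      _ = (((D.X (m - a) : ↥S) : G) * c) * ((D.Y a : ↥S) : G) := by rw [mul_assoc]
      _ = c * (((D.X (m - a) : ↥S) : G) * ((D.Y a : ↥S) : G)) := by rw [h5, mul_assoc]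

end QSetup

end QDF8

end Cfsg.Agent.Lib.Helper9
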