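import Mathlib
import Cfsg.Agent.Lib.Helper9.QDF8

set_option autoImplicit false

namespace Cfsg.Agent.Lib.Helper9

section QDF9

namespace QD

variable {S : Type*} [Group S] (D : QD S)

theorem ρ_mul_v : D.ρ * D.v = -D.v := by
  rw [D.ρ_eq]; linear_combination D.u_mul_v

theorem exists_inner (a : ZMod D.N) (e₁ e₂ : S)
    (h1 : e₁ = D.X D.v ∨ e₁ = D.X (-D.v)) (h2 : e₂ = D.Y a ∨ e₂ = D.Y (a + D.u)) :
    ∃ q ∈ D.L 4 D.four_u a, q * D.X D.v * q⁻¹ = e₁ ∧ q * D.Y a * q⁻¹ = e₂ := by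
  have h4v : (4 : ZMod D.N) * D.v = 0 := by linear_combination 2 * D.two_v + D.two_u
  rcases h1 with rfl | rfl <;> rcases h2 with rfl | rfl
  · exact ⟨1, Subgroup.one_mem _, by simp, by simp⟩
  · refine ⟨D.X D.v, (D.X_mem_L _ _ _ _).mpr h4v, by rw [D.X_conj_X], ?_⟩
    rw [D.X_conj_Y]; congr 1
    linear_combination D.two_v - D.u_mul_v
  · refine ⟨D.Y a, (D.Y_mem_L _ _ _ _).mpr (by ring), ?_, ?_⟩
    · rw [D.Y_conj_X, D.ρ_mul_v]
    · rw [D.Y_conj_Y]; congr 1; ring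
  · refine ⟨D.Y (a + D.v), (D.Y_mem_L _ _ _ _).mpr (by linear_combination h4v), ?_, ?_⟩
    · rw [D.Y_conj_X, D.ρ_mul_v]
    · rw [D.Y_conj_Y]; congr 1
      have := D.ρ_mul_v
      linear_combination -this + D.two_v

end QD

variable {G : Type*} [Group G]

namespace QSetup

variable {S : Subgroup G} {D : QD ↥S} {Q : Subgroup G} {a : ZMod D.N} (h : QSetup S D Q a)
include h

theorem conj_mem_of_map_eq {A : Subgroup G} {n g : G}
    (hA : A.map (MulAut.conj n).toMonoidHom = A) (hg : g ∈ A) : n * g * n⁻¹ ∈ A := by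
  rw [← hA]
  exact Subgroup.mem_map.mpr ⟨g, hg, by simp⟩

theorem mem_sup_of_fix {n : G}
    (h1 : (h.A₁).1.map (MulAut.conj n).toMonoidHom = (h.A₁).1)
    (h2 : (h.A₂).1.map (MulAut.conj n).toMonoidHom = (h.A₂).1) :
    n ∈ Q ⊔ Subgroup.centralizer (Q : Set G) := by
  have hx := h.conj_mem_of_map_eq h1 (Subgroup.mem_zpowers ((D.X D.v : ↥S) : G))
  have hy := h.conj_mem_of_map_eq h2 (Subgroup.mem_zpowers ((D.Y a : ↥S) : G))
  have hx' := mem_zpowers_order_four h.orderOf_xv hx (by rw [orderOf_conj_eq]; exact h.orderOf_xv)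
  have hy' := mem_zpowers_order_four h.orderOf_ya hy (by rw [orderOf_conj_eq]; exact h.orderOf_ya)
  have hx'' : ∃ e₁ : ↥S, (e₁ = D.X D.v ∨ e₁ = D.X (-D.v)) ∧ n * ((D.X D.v : ↥S) : G) * n⁻¹ = (e₁ : G) := by
    rcases hx' with hh | hh
    · exact ⟨D.X D.v, Or.inl rfl, hh⟩
    · exact ⟨D.X (-D.v), Or.inr rfl, by rw [hh, D.X_neg_v]; rfl⟩
  have hy'' : ∃ e₂ : ↥S, (e₂ = D.Y a ∨ e₂ = D.Y (a + D.u)) ∧ n * ((D.Y a : ↥S) : G) * n⁻¹ = (e₂ : G) := by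
    rcases hy' with hh | hh
    · exact ⟨D.Y a, Or.inl rfl, hh⟩
    · exact ⟨D.Y (a + D.u), Or.inr rfl, by rw [hh, ← D.Y_inv_odd h.odd]; rfl⟩
  obtain ⟨e₁, he₁, hne₁⟩ := hx''
  obtain ⟨e₂, he₂, hne₂⟩ := hy''
  obtain ⟨q, hqL, hq1, hq2⟩ := D.exists_inner a e₁ e₂ he₁ he₂
  have hqQ : (q : G) ∈ Q := (h.mem_iff q).mpr hqL
  have hq1' : (q : G) * ((D.X D.v : ↥S) : G) * (q : G)⁻¹ = n * ((D.X D.v : ↥S) : G) * n⁻¹ := by
    rw [hne₁, ← hq1]; rfl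
  have hq2' : (q : G) * ((D.Y a : ↥S) : G) * (q : G)⁻¹ = n * ((D.Y a : ↥S) : G) * n⁻¹ := by
    rw [hne₂, ← hq2]; rfl
  have hc : (q : G)⁻¹ * n ∈ Subgroup.centralizer (Q : Set G) := by
    apply h.mem_centralizer_of_commute
    · have e : (q : G)⁻¹ * n * ((D.X D.v : ↥S) : G) =
          (q : G)⁻¹ * (n * ((D.X D.v : ↥S) : G) * n⁻¹) * n := by group
      rw [e, ← hq1']; group
    · have e : (q : G)⁻¹ * n * ((D.Y a : ↥S) : G) =
          (q : G)⁻¹ * (n * ((D.Y a : ↥S) : G) * n⁻¹) * n := by group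
      rw [e, ← hq2']; group
  have e : n = (q : G) * ((q : G)⁻¹ * n) := by group
  rw [e]
  exact Subgroup.mul_mem _ (Subgroup.mem_sup_left hqQ) (Subgroup.mem_sup_right hc)

end QSetup

end QDF9

end Cfsg.Agent.Lib.Helper9
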