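import Mathlib
import Cfsg.Agent.Lib.Helper9.QDF9

set_option autoImplicit false

namespace Cfsg.Agent.Lib.Helper9

section QDF10

variable {G : Type*} [Group G]

theorem qsetup_of_iso [Finite G] (S : Subgroup G) (D : QD ↥S) (Q : Subgroup G) (hQS : Q ≤ S)
    (eQ : Q ≃* QuaternionGroup 2) : ∃ a, QSetup S D Q a := by
  have e' : Q.subgroupOf S ≃* QuaternionGroup 2 := (Subgroup.subgroupOfEquivOfLe hQS).trans eQ
  obtain ⟨a, ha, hQa⟩ := Cfsg.Agent.S1191.quat_eq D (Q.subgroupOf S) ⟨e'⟩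
  refine ⟨a, hQS, ha, hQa, ?_⟩
  rw [Nat.card_congr eQ.toEquiv, Nat.card_eq_fintype_card, QuaternionGroup.card]

namespace QSetup

variable {S : Subgroup G} {D : QD ↥S} {Q : Subgroup G} {a : ZMod D.N} (h : QSetup S D Q a)
include h

theorem xw_mem_normalizer [Finite G] : ((D.X D.w : ↥S) : G) ∈ Subgroup.normalizer (Q : Set G) := by
  apply mem_normalizer_of_conj_mem'
  intro t ht
  have htS : t ∈ S := h.le ht
  have ht' : (⟨t, htS⟩ : ↥S) ∈ D.L 4 D.four_u a := (h.mem_iff ⟨t, htS⟩).mp ht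
  have h1 : ((D.X D.w * ⟨t, htS⟩ * (D.X D.w)⁻¹ : ↥S) : G) =
      (D.X D.w : G) * t * (D.X D.w : G)⁻¹ := by simp
  rw [← h1, h.mem_iff]
  rcases ht' with ⟨m, hm, hmt⟩ | ⟨m, hm, hmt⟩
  · rw [hmt, D.X_conj_X, D.X_mem_L]; exact hm
  · rw [hmt, D.X_conj_Y, D.Y_mem_L]
    linear_combination hm + 2 * D.four_w + D.two_u - D.u * D.four_w - D.u_sq

theorem xw_fix_A₁ : (h.A₁).1.map (MulAut.conj ((D.X D.w : ↥S) : G)).toMonoidHom = (h.A₁).1 := by
  show (Subgroup.zpowers ((D.X D.v : ↥S) : G)).map _ = Subgroup.zpowers ((D.X D.v : ↥S) : G)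
  rw [map_conj_zpowers]
  have h1 : D.X D.w * D.X D.v * (D.X D.w)⁻¹ = D.X D.v := D.X_conj_X _ _
  have h2 := congrArg (Subtype.val : ↥S → G) h1
  have h3 : ((D.X D.w : ↥S) : G) * ((D.X D.v : ↥S) : G) * ((D.X D.w : ↥S) : G)⁻¹ =
      ((D.X D.v : ↥S) : G) := by simpa using h2
  rw [h3]

theorem xw_move_A₂ : (h.A₂).1.map (MulAut.conj ((D.X D.w : ↥S) : G)).toMonoidHom ≠ (h.A₂).1 := by
  intro hc
  have h0 := h.conj_mem_of_map_eq hc (Subgroup.mem_zpowers ((D.Y a : ↥S) : G))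
  have h1 : D.X D.w * D.Y a * (D.X D.w)⁻¹ = D.Y (a + D.w * (2 - D.u)) := D.X_conj_Y _ _
  have h2 := congrArg (Subtype.val : ↥S → G) h1
  have h3 : ((D.X D.w : ↥S) : G) * ((D.Y a : ↥S) : G) * ((D.X D.w : ↥S) : G)⁻¹ =
      ((D.Y (a + D.w * (2 - D.u)) : ↥S) : G) := by simpa using h2
  rw [h3] at h0
  have h4 := h.Y_mem_zpowers_Y h0
  apply D.u_ne_zero
  linear_combination h4 - D.four_w + D.w * D.two_u

theorem sup_le_fix (A : Cyc4 Q) :
    Q ⊔ Subgroup.centralizer (Q : Set G) ≤ Subgroup.normalizer (A.1 : Set G) := by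
  apply sup_le
  · intro q hq
    exact Subgroup.mem_normalizer_iff_map_conj_eq.mpr (h.fix_of_mem_Q hq A)
  · intro c hc
    exact Subgroup.mem_normalizer_iff_map_conj_eq.mpr (h.fix_of_mem_centralizer hc A)

theorem ker_eq : (letI := conjActSub Q;
    (Q ⊔ Subgroup.centralizer (Q : Set G)).subgroupOf (Subgroup.normalizer (Q : Set G)) =
      (MulAction.toPermHom ↥(Subgroup.normalizer (Q : Set G)) (Cyc4 Q)).ker) := by
  letI := conjActSub Q
  ext n
  rw [conjActSub_mem_ker, Subgroup.mem_subgroupOf]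
  constructor
  · intro hn A
    exact Subgroup.mem_normalizer_iff_map_conj_eq.mp (h.sup_le_fix A hn)
  · intro hA
    exact h.mem_sup_of_fix (hA h.A₁) (hA h.A₂)

theorem index_cases [Finite G] :
    ((Q ⊔ Subgroup.centralizer (Q : Set G)).relIndex (Subgroup.normalizer (Q : Set G)) = 2 ∨
      (Q ⊔ Subgroup.centralizer (Q : Set G)).relIndex (Subgroup.normalizer (Q : Set G)) = 6) ∧
    ((Q ⊔ Subgroup.centralizer (Q : Set G)).relIndex (Subgroup.normalizer (Q : Set G)) = 6 ↔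
      ∃ n ∈ Subgroup.normalizer (Q : Set G),
        (Subgroup.zpowers ((D.X D.v : ↥S) : G)).map (MulAut.conj n).toMonoidHom ≠
          Subgroup.zpowers ((D.X D.v : ↥S) : G)) ∧
    ((Q ⊔ Subgroup.centralizer (Q : Set G)).relIndex (Subgroup.normalizer (Q : Set G)) = 6 →
      ∃ i, ¬ D.Ev i ∧ ∃ n : G, n * ((D.X D.v : ↥S) : G) * n⁻¹ = ((D.Y i : ↥S) : G)) := by
  classical
  letI := conjActSub Q
  have h3 := three_point_action (N := ↥(Subgroup.normalizer (Q : Set G)))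
    (X := Cyc4 Q) h.card_cyc4
    ((Q ⊔ Subgroup.centralizer (Q : Set G)).subgroupOf (Subgroup.normalizer (Q : Set G)))
    h.ker_eq ⟨((D.X D.w : ↥S) : G), h.xw_mem_normalizer⟩ h.A₁
    (Subtype.ext h.xw_fix_A₁)
    (by
      rw [Subgroup.mem_subgroupOf]
      intro hc
      exact h.xw_move_A₂ (Subgroup.mem_normalizer_iff_map_conj_eq.mp (h.sup_le_fix h.A₂ hc)))
  obtain ⟨h3a, h3b, h3c⟩ := h3
  refine ⟨h3a, ?_, ?_⟩
  · constructor
    · intro h6
      obtain ⟨n, hn⟩ := h3b.mp h6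
      refine ⟨n.1, n.2, ?_⟩
      intro hc
      apply hn
      exact Subtype.ext hc
    · rintro ⟨n, hnN, hn⟩
      apply h3b.mpr
      refine ⟨⟨n, hnN⟩, ?_⟩
      intro hc
      apply hn
      exact congrArg Subtype.val hc
  · intro h6
    obtain ⟨n, hn⟩ := h3c h6 h.A₁ h.A₂
    have hn' : (Subgroup.zpowers ((D.X D.v : ↥S) : G)).map (MulAut.conj (n : G)).toMonoidHom =
        Subgroup.zpowers ((D.Y a : ↥S) : G) := congrArg Subtype.val hn
    rw [map_conj_zpowers] at hn'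
    have hmem : (n : G) * ((D.X D.v : ↥S) : G) * (n : G)⁻¹ ∈ Subgroup.zpowers ((D.Y a : ↥S) : G) := by
      rw [← hn']; exact Subgroup.mem_zpowers _
    rcases mem_zpowers_order_four h.orderOf_ya hmem (by rw [orderOf_conj_eq]; exact h.orderOf_xv)
      with hh | hh
    · exact ⟨a, h.odd, n, hh⟩
    · refine ⟨a + D.u, D.not_ev_add_u h.odd, n, ?_⟩
      rw [hh, ← D.Y_inv_odd h.odd]; rfl

end QSetup

end QDF10

end Cfsg.Agent.Lib.Helper9
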