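import Mathlib
import Cfsg.Agent.Lib.Helper9.QDF10

set_option autoImplicit false

namespace Cfsg.Agent.Lib.Helper9

section QDF11

variable {G : Type*} [Group G]

theorem isConj_coe {S : Subgroup G} {a b : ↥S} (h : IsConj a b) : IsConj (a : G) (b : G) := by
  rw [isConj_iff] at h ⊢
  obtain ⟨c, hc⟩ := h
  refine ⟨(c : G), ?_⟩
  have := congrArg (Subtype.val : ↥S → G) hc
  simpa using this

theorem card_classes_eq_one (k : ℕ) (g₀ : G) (h₀ : orderOf g₀ = k)
    (h : ∀ t : G, orderOf t = k → IsConj t g₀) :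
    Nat.card {C : ConjClasses G // ∃ t : G, orderOf t = k ∧ ConjClasses.mk t = C} = 1 := by
  rw [Nat.card_eq_one_iff_unique]
  refine ⟨⟨?_⟩, ⟨⟨ConjClasses.mk g₀, g₀, h₀, rfl⟩⟩⟩
  rintro ⟨C₁, t₁, ht₁, rfl⟩ ⟨C₂, t₂, ht₂, rfl⟩
  apply Subtype.ext
  show ConjClasses.mk t₁ = ConjClasses.mk t₂
  rw [ConjClasses.mk_eq_mk_iff_isConj]
  exact (h t₁ ht₁).trans (h t₂ ht₂).symm

theorem invol_cases [Finite G] (S : Sylow 2 G) (D : QD ↥(S : Subgroup G)) (t : G)
    (ht : orderOf t = 2) :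
    IsConj t ((D.z : ↥(S : Subgroup G)) : G) ∨ IsConj t ((D.Y 0 : ↥(S : Subgroup G)) : G) := by
  obtain ⟨m, -, hm⟩ := exists_conj_mem_sylow_of_mem (p := 2) ⊤ S le_top t ⟨1, by rw [ht]; rfl⟩
    (Subgroup.mem_top t)
  have ho : orderOf (⟨m * t * m⁻¹, hm⟩ : ↥(S : Subgroup G)) = 2 := by
    rw [← Subgroup.orderOf_coe]
    show orderOf (m * t * m⁻¹) = 2
    rw [orderOf_conj_eq]; exact ht
  have hconj : IsConj t (m * t * m⁻¹) := isConj_iff.mpr ⟨m, rfl⟩
  rcases (D.orderOf_two_iff _).mp ho with hz | ⟨i, hi, hY⟩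
  · left
    have : m * t * m⁻¹ = ((D.z : ↥(S : Subgroup G)) : G) := congrArg Subtype.val hz
    rw [← this]; exact hconj
  · right
    have : m * t * m⁻¹ = ((D.Y i : ↥(S : Subgroup G)) : G) := congrArg Subtype.val hY
    refine hconj.trans ?_
    rw [this]
    apply isConj_coe
    apply D.isConj_Y
    have := D.ev_neg hi
    simpa using this

theorem order4_cases [Finite G] (S : Sylow 2 G) (D : QD ↥(S : Subgroup G)) (t : G)
    (ht : orderOf t = 4) :
    IsConj t ((D.X D.v : ↥(S : Subgroup G)) : G) ∨ IsConj t ((D.Y 1 : ↥(S : Subgroup G)) : G) := by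
  obtain ⟨m, -, hm⟩ := exists_conj_mem_sylow_of_mem (p := 2) ⊤ S le_top t ⟨2, by rw [ht]; rfl⟩
    (Subgroup.mem_top t)
  have ho : orderOf (⟨m * t * m⁻¹, hm⟩ : ↥(S : Subgroup G)) = 4 := by
    rw [← Subgroup.orderOf_coe]
    show orderOf (m * t * m⁻¹) = 4
    rw [orderOf_conj_eq]; exact ht
  have hconj : IsConj t (m * t * m⁻¹) := isConj_iff.mpr ⟨m, rfl⟩
  rcases (D.orderOf_four_iff _).mp ho with hz | hz | ⟨i, hi, hY⟩
  · left
    have : m * t * m⁻¹ = ((D.X D.v : ↥(S : Subgroup G)) : G) := congrArg Subtype.val hz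
    rw [← this]; exact hconj
  · left
    have : m * t * m⁻¹ = ((D.X (-D.v) : ↥(S : Subgroup G)) : G) := congrArg Subtype.val hz
    refine hconj.trans ?_
    rw [this]
    apply isConj_coe
    exact (D.isConj_X_neg D.v D.u_mul_v).symm
  · right
    have : m * t * m⁻¹ = ((D.Y i : ↥(S : Subgroup G)) : G) := congrArg Subtype.val hY
    refine hconj.trans ?_
    rw [this]
    apply isConj_coe
    apply D.isConj_Y
    by_contra hc
    rcases D.ev_or_succ (1 - i) with h1 | h1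
    · exact hc h1
    · apply hi
      have h2 := D.ev_sub (D.ev_two_mul 1) h1
      have e : (2 : ZMod D.N) * 1 - (1 - i + 1) = i := by ring
      rw [e] at h2
      exact h2

/-- if `z` is fused to some `Y (even)` then it is fused to `Y 0`. -/
theorem isConj_z_Y0 {S : Subgroup G} (D : QD ↥S) {i : ZMod D.N} (hi : D.Ev i) {n : G}
    (hn : n * ((D.z : ↥S) : G) * n⁻¹ = ((D.Y i : ↥S) : G)) :
    IsConj ((D.z : ↥S) : G) ((D.Y 0 : ↥S) : G) := by
  have h1 : IsConj ((D.z : ↥S) : G) ((D.Y i : ↥S) : G) := isConj_iff.mpr ⟨n, hn⟩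
  refine h1.trans (isConj_coe ?_)
  apply D.isConj_Y
  have := D.ev_neg hi
  simpa using this

theorem isConj_xv_Y1 {S : Subgroup G} (D : QD ↥S) {i : ZMod D.N} (hi : ¬ D.Ev i) {n : G}
    (hn : n * ((D.X D.v : ↥S) : G) * n⁻¹ = ((D.Y i : ↥S) : G)) :
    IsConj ((D.X D.v : ↥S) : G) ((D.Y 1 : ↥S) : G) := by
  have h1 : IsConj ((D.X D.v : ↥S) : G) ((D.Y i : ↥S) : G) := isConj_iff.mpr ⟨n, hn⟩
  refine h1.trans (isConj_coe ?_)
  apply D.isConj_Y
  by_contra hc
  rcases D.ev_or_succ (1 - i) with h1 | h1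
  · exact hc h1
  · apply hi
    have h2 := D.ev_sub (D.ev_two_mul 1) h1
    have e : (2 : ZMod D.N) * 1 - (1 - i + 1) = i := by ring
    rw [e] at h2
    exact h2

/-- a subgroup of index two contains `S` as soon as it contains all involutions and elements
of order four. -/
theorem le_of_index_two {S : Subgroup G} (D : QD ↥S) (H : Subgroup G)
    (h0 : ((D.Y 0 : ↥S) : G) ∈ H) (h1 : ((D.Y 1 : ↥S) : G) ∈ H) : S ≤ H := by
  have hx : ((D.X 1 : ↥S) : G) ∈ H := by
    have e : D.X 1 = D.Y 1 * D.Y 0 := by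
      rw [D.Y_mul_Y]; congr 1; ring
    rw [e]
    exact H.mul_mem h1 h0
  have hX : ∀ i : ZMod D.N, ((D.X i : ↥S) : G) ∈ H := by
    intro i
    have hle : Subgroup.zpowers D.x ≤ H.subgroupOf S := by
      rw [Subgroup.zpowers_le, Subgroup.mem_subgroupOf, ← D.X_one]
      exact hx
    have := hle (D.X_mem_zpowers i)
    rwa [Subgroup.mem_subgroupOf] at this
  have hy : ((D.y : ↥S) : G) ∈ H := by
    rw [← D.Y_zero]; exact h0
  intro s hs
  rcases D.cases ⟨s, hs⟩ with ⟨i, hi⟩ | ⟨i, hi⟩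
  · have : s = ((D.X i : ↥S) : G) := congrArg Subtype.val hi
    rw [this]; exact hX i
  · have : s = ((D.Y i : ↥S) : G) := congrArg Subtype.val hi
    rw [this]
    show ((D.X i * D.y : ↥S) : G) ∈ H
    exact H.mul_mem (hX i) hy

end QDF11

end Cfsg.Agent.Lib.Helper9
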