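import Mathlib
import Cfsg.Agent.Lib.Helper9.QDF11
import Cfsg.Agent.Lib.Helper1.Fusion

set_option autoImplicit false

namespace Cfsg.Agent.Lib.Helper9

section QDF12

variable {G : Type*} [Group G]

theorem sylow_juggle [Finite G] {p : ℕ} [Fact p.Prime] (S : Sylow p G) (H : Subgroup G) (g : G)
    (hg : ∀ s ∈ (S : Subgroup G), g * s * g⁻¹ ∈ H) (Q : Subgroup G) (hQ : IsPGroup p Q)
    (hQH : Q ≤ H) :
    ∃ m ∈ H, ∀ q ∈ Q, (g⁻¹ * m) * q * (g⁻¹ * m)⁻¹ ∈ (S : Subgroup G) := by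
  have hS₁ : ((g • S : Sylow p G) : Subgroup G) ≤ H := by
    intro y hy
    have h1 : g⁻¹ * y * g ∈ (S : Subgroup G) :=
      (Cfsg.Agent.Lib.Helper1.mem_sylow_smul_iff g y S).mp hy
    have h2 := hg _ h1
    have e : g * (g⁻¹ * y * g) * g⁻¹ = y := by group
    rwa [e] at h2
  obtain ⟨m, hm, hmq⟩ := exists_conj_le_sylow_of_le H (g • S) hS₁ Q hQ hQH
  refine ⟨m, hm, fun q hq => ?_⟩
  have h1 := (Cfsg.Agent.Lib.Helper1.mem_sylow_smul_iff g _ S).mp (hmq q hq)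
  have e : g⁻¹ * m * q * (g⁻¹ * m)⁻¹ = g⁻¹ * (m * q * m⁻¹) * g := by group
  rw [e]; exact h1

theorem klein_s0 [Finite G] (S : Subgroup G) (D : QD ↥S) (T : Subgroup G)
    (hT : IsKleinFour T) (hTS : T ≤ S) :
    ∃ s₀ ∈ Subgroup.normalizer (T : Set G), s₀ ∉ Subgroup.centralizer (T : Set G) ∧
      s₀ * (D.z : G) * s₀⁻¹ = (D.z : G) := by
  classical
  obtain ⟨i, hi, hTi⟩ := Cfsg.Agent.S1190.klein_eq D (T.subgroupOf S) (isKleinFour_subgroupOf hT hTS)
  have memT : ∀ a : ↥S, (a : G) ∈ T ↔ a ∈ D.L 2 D.two_u i := by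
    intro a
    rw [← hTi, Subgroup.mem_subgroupOf]
  have hYi : (D.Y i : G) ∈ T := by
    rw [memT, D.Y_mem_L]; ring
  obtain ⟨k, hk⟩ := D.conj_even D.v
  have hs₀N : ((D.X k : ↥S) : G) ∈ Subgroup.normalizer (T : Set G) := by
    apply mem_normalizer_of_conj_mem'
    intro t ht
    have htS : t ∈ S := hTS ht
    have ht' : (⟨t, htS⟩ : ↥S) ∈ D.L 2 D.two_u i := (memT ⟨t, htS⟩).mp ht
    have h1 : ((D.X k * ⟨t, htS⟩ * (D.X k)⁻¹ : ↥S) : G) = (D.X k : G) * t * (D.X k : G)⁻¹ := by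
      simp
    rw [← h1, memT]
    rcases ht' with ⟨m, hm, hmt⟩ | ⟨m, hm, hmt⟩
    · rw [hmt, D.X_conj_X, D.X_mem_L]; exact hm
    · rw [hmt, D.X_conj_Y, D.Y_mem_L, hk]
      linear_combination hm + 2 * D.two_v + D.two_u
  have hs₀z : (D.X k : G) * (D.z : G) * (D.X k : G)⁻¹ = (D.z : G) := by
    have h1 : D.X k * D.z * (D.X k)⁻¹ = D.z := by
      unfold QD.z; rw [D.X_conj_X]
    have := congrArg (Subtype.val : ↥S → G) h1
    simpa using this
  have hs₀C : ((D.X k : ↥S) : G) ∉ Subgroup.centralizer (T : Set G) := by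
    intro hc
    have h1 := Subgroup.mem_centralizer_iff.mp hc _ hYi
    have h2 : D.Y i * D.X k = D.X k * D.Y i := Subtype.ext (by simpa using h1)
    rw [D.Y_mul_X, D.X_mul_Y] at h2
    have h3 := D.Y_inj h2
    apply D.u_ne_zero
    rw [D.ρ_eq] at h3
    have h4 : k * (2 - D.u) = 0 := by linear_combination -h3
    rw [hk, D.two_v] at h4
    exact h4
  exact ⟨_, hs₀N, hs₀C, hs₀z⟩

theorem mem_centralizer_klein {S : Subgroup G} (D : QD ↥S) (T : Subgroup G) (i₀ : ZMod D.N)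
    (hTi : T.subgroupOf S = D.L 2 D.two_u i₀) (hTS : T ≤ S) {n : G}
    (hz : n * ((D.z : ↥S) : G) * n⁻¹ = ((D.z : ↥S) : G))
    (ht : n * ((D.Y i₀ : ↥S) : G) * n⁻¹ = ((D.Y i₀ : ↥S) : G)) :
    n ∈ Subgroup.centralizer (T : Set G) := by
  have hz' : ((D.z : ↥S) : G) * n = n * ((D.z : ↥S) : G) := by
    conv_lhs => rw [← hz]
    group
  have ht' : ((D.Y i₀ : ↥S) : G) * n = n * ((D.Y i₀ : ↥S) : G) := by
    conv_lhs => rw [← ht]
    group
  rw [Subgroup.mem_centralizer_iff]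
  intro q hq
  have hqS : q ∈ S := hTS hq
  have hqL : (⟨q, hqS⟩ : ↥S) ∈ D.L 2 D.two_u i₀ := by
    rw [← hTi, Subgroup.mem_subgroupOf]; exact hq
  rcases hqL with ⟨m, hm, hmq⟩ | ⟨m, hm, hmq⟩
  · have hq' : q = ((D.X m : ↥S) : G) := congrArg Subtype.val hmq
    rcases D.two_mul_eq_zero m hm with rfl | rfl
    · rw [hq', D.X_zero]; simp
    · rw [hq']; exact hz'
  · have hq' : q = ((D.Y m : ↥S) : G) := congrArg Subtype.val hmq
    rcases D.two_mul_eq_zero (m - i₀) hm with h0 | h0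
    · have : m = i₀ := sub_eq_zero.mp h0
      rw [hq', this]; exact ht'
    · have : D.Y m = D.z * D.Y i₀ := by
        unfold QD.z
        rw [D.X_mul_Y]; congr 1; linear_combination h0
      rw [hq', this]
      show ((D.z : ↥S) : G) * ((D.Y i₀ : ↥S) : G) * n = n * (((D.z : ↥S) : G) * ((D.Y i₀ : ↥S) : G))
      rw [mul_assoc, ht', ← mul_assoc, hz', mul_assoc]

theorem isKleinFour_map_conj {T : Subgroup G} (hT : IsKleinFour T) (k : G) :
    IsKleinFour (T.map (MulAut.conj k).toMonoidHom) := by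
  have e : T ≃* T.map (MulAut.conj k).toMonoidHom :=
    T.equivMapOfInjective _ (MulAut.conj k).injective
  exact ⟨by rw [← Nat.card_congr e.toEquiv]; exact hT.card_four,
    by rw [← Monoid.exponent_eq_of_mulEquiv e]; exact hT.exponent_two⟩

/-- if `z` is fused to a non-central involution then the Klein four-groups have index six. -/
theorem klein_index_of_fused [Finite G] (S : Sylow 2 G) (D : QD ↥(S : Subgroup G))
    (T : Subgroup G) (hT : IsKleinFour T) (hTS : T ≤ S) {i : ZMod D.N} (hi : D.Ev i) {g : G}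
    (hg : g * ((D.z : ↥(S : Subgroup G)) : G) * g⁻¹ = ((D.Y i : ↥(S : Subgroup G)) : G)) :
    (Subgroup.centralizer (T : Set G)).relIndex (Subgroup.normalizer (T : Set G)) = 6 := by
  classical
  obtain ⟨-, h6, -, hzT, i₀, hi₀, hTi⟩ := klein_index (S : Subgroup G) D T hT hTS
  -- reduce to `i = i₀`
  have hconj : IsConj ((D.Y i : ↥(S : Subgroup G)) : G) ((D.Y i₀ : ↥(S : Subgroup G)) : G) := by
    apply isConj_coe
    apply D.isConj_Y
    exact D.ev_sub hi₀ hi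
  obtain ⟨s, hs⟩ := isConj_iff.mp hconj
  set t : G := ((D.Y i₀ : ↥(S : Subgroup G)) : G) with ht_def
  have hg' : (s * g) * ((D.z : ↥(S : Subgroup G)) : G) * (s * g)⁻¹ = t := by
    rw [← hs, ← hg]; group
  set g' := s * g with hg'_def
  have htT : t ∈ T := by
    have : (D.Y i₀ : ↥(S : Subgroup G)) ∈ T.subgroupOf (S : Subgroup G) := by
      rw [hTi, D.Y_mem_L]; ring
    exact Subgroup.mem_subgroupOf.mp this
  -- the conjugate Sylow subgroup centralizes `t`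
  have hS₁ : ∀ y ∈ (S : Subgroup G), g' * y * g'⁻¹ ∈ Subgroup.centralizer ({t} : Set G) := by
    intro y hy
    rw [Subgroup.mem_centralizer_singleton_iff]
    have h1 : (⟨y, hy⟩ : ↥(S : Subgroup G)) * D.z = D.z * ⟨y, hy⟩ := D.z_central _
    have h2 : y * ((D.z : ↥(S : Subgroup G)) : G) = ((D.z : ↥(S : Subgroup G)) : G) * y :=
      congrArg Subtype.val h1
    rw [← hg']
    calc g' * y * g'⁻¹ * (g' * ((D.z : ↥(S : Subgroup G)) : G) * g'⁻¹)
        = g' * (y * ((D.z : ↥(S : Subgroup G)) : G)) * g'⁻¹ := by group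
      _ = g' * (((D.z : ↥(S : Subgroup G)) : G) * y) * g'⁻¹ := by rw [h2]
      _ = g' * ((D.z : ↥(S : Subgroup G)) : G) * g'⁻¹ * (g' * y * g'⁻¹) := by group
  have hTC : T ≤ Subgroup.centralizer ({t} : Set G) := by
    intro q hq
    rw [Subgroup.mem_centralizer_singleton_iff]
    have hqS : q ∈ (S : Subgroup G) := hTS hq
    have hqL : (⟨q, hqS⟩ : ↥(S : Subgroup G)) ∈ D.L 2 D.two_u i₀ := by
      rw [← hTi, Subgroup.mem_subgroupOf]; exact hq
    have h1 := (D.commute_Y_iff i₀ _).mpr hqL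
    exact congrArg Subtype.val h1
  have hT2 : IsPGroup 2 T := IsPGroup.of_card (n := 2) (by rw [hT.card_four]; rfl)
  obtain ⟨m, hm, hmq⟩ := sylow_juggle S _ g' hS₁ T hT2 hTC
  set k := g'⁻¹ * m with hk_def
  have hkt : k * t * k⁻¹ = ((D.z : ↥(S : Subgroup G)) : G) := by
    have hmt : m * t = t * m := Subgroup.mem_centralizer_singleton_iff.mp hm
    have e : k * t * k⁻¹ = g'⁻¹ * (m * t * m⁻¹) * g' := by rw [hk_def]; group
    have e2 : m * t * m⁻¹ = t := by rw [hmt]; group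
    rw [e, e2, ← hg']; group
  set T₁ := T.map (MulAut.conj k).toMonoidHom with hT₁_def
  have hT₁S : T₁ ≤ (S : Subgroup G) := by
    rintro _ ⟨q, hq, rfl⟩
    exact hmq q hq
  have hT₁K : IsKleinFour T₁ := isKleinFour_map_conj hT k
  obtain ⟨s₀, hs₀N, hs₀C, hs₀z⟩ := klein_s0 (S : Subgroup G) D T₁ hT₁K hT₁S
  -- pull back
  have hTback : T₁.map (MulAut.conj k⁻¹).toMonoidHom = T := map_conj_inv_map_conj T k
  have hnN : k⁻¹ * s₀ * k ∈ Subgroup.normalizer (T : Set G) := by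
    have := conj_mem_normalizer_map_conj k⁻¹ hs₀N
    rw [hTback, inv_inv] at this
    exact this
  refine h6.mpr ⟨k⁻¹ * s₀ * k, hnN, ?_⟩
  intro hfix
  have hnt : (k⁻¹ * s₀ * k) * t * (k⁻¹ * s₀ * k)⁻¹ = t := by
    have e : (k⁻¹ * s₀ * k) * t * (k⁻¹ * s₀ * k)⁻¹ = k⁻¹ * (s₀ * (k * t * k⁻¹) * s₀⁻¹) * k := by
      group
    rw [e, hkt, hs₀z, ← hkt]; group
  have hnC := mem_centralizer_klein D T i₀ hTi hTS hfix hnt
  apply hs₀C
  rw [Subgroup.mem_centralizer_iff]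
  rintro _ ⟨q, hq, rfl⟩
  have h1 := Subgroup.mem_centralizer_iff.mp hnC q hq
  simp only [MulEquiv.coe_toMonoidHom, MulAut.conj_apply]
  have e1 : k * q * k⁻¹ * s₀ = k * (q * (k⁻¹ * s₀ * k)) * k⁻¹ := by group
  have e2 : s₀ * (k * q * k⁻¹) = k * ((k⁻¹ * s₀ * k) * q) * k⁻¹ := by group
  rw [e1, e2, h1]

end QDF12

end Cfsg.Agent.Lib.Helper9
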