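import Mathlib
import Cfsg.Agent.Lib.Helper9.QDF12

set_option autoImplicit false

namespace Cfsg.Agent.Lib.Helper9

section QDF13

namespace QD

variable {S : Type*} [Group S] (D : QD S)

theorem ev_sub_of_not_ev {i j : ZMod D.N} (hi : ¬ D.Ev i) (hj : ¬ D.Ev j) : D.Ev (i - j) := by
  obtain ⟨a, rfl⟩ := D.odd_form hi
  obtain ⟨b, rfl⟩ := D.odd_form hj
  exact ⟨a - b, by ring⟩

end QD

variable {G : Type*} [Group G]

theorem map_conj_injective (k : G) {A B : Subgroup G}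
    (h : A.map (MulAut.conj k).toMonoidHom = B.map (MulAut.conj k).toMonoidHom) : A = B :=
  Subgroup.map_injective (f := (MulAut.conj k).toMonoidHom) (MulAut.conj k).injective h

namespace QSetup

variable {S : Subgroup G} {D : QD ↥S} {Q : Subgroup G} {a : ZMod D.N} (h : QSetup S D Q a)
include h

theorem xw_move_of_ne [Finite G] (A : Cyc4 Q) (hA : A ≠ h.A₁) :
    A.1.map (MulAut.conj ((D.X D.w : ↥S) : G)).toMonoidHom ≠ A.1 := by
  rcases h.cyc4_cases A with rfl | rfl | rfl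
  · exact absurd rfl hA
  · exact h.xw_move_A₂
  · intro hc
    letI := conjActSub Q
    set s : ↥(Subgroup.normalizer (Q : Set G)) := ⟨((D.X D.w : ↥S) : G), h.xw_mem_normalizer⟩
    have hB : (s • h.A₂).1 = (h.A₂).1.map (MulAut.conj ((D.X D.w : ↥S) : G)).toMonoidHom := rfl
    rcases h.cyc4_cases (s • h.A₂) with h1 | h1 | h1
    · have h2 := congrArg Subtype.val h1
      rw [hB, ← h.xw_fix_A₁] at h2
      exact h.A₁_ne_A₂ (Subtype.ext (map_conj_injective _ h2).symm)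
    · have h2 := congrArg Subtype.val h1
      rw [hB] at h2
      exact h.xw_move_A₂ h2
    · have h2 := congrArg Subtype.val h1
      rw [hB, ← hc] at h2
      exact h.A₂_ne_A₃ (Subtype.ext (map_conj_injective _ h2))

theorem A₁_normal {y : G} (hy : y ∈ S) :
    y ∈ Subgroup.normalizer (((h.A₁).1 : Subgroup G) : Set G) := by
  apply mem_normalizer_of_map_conj_eq
  show (Subgroup.zpowers ((D.X D.v : ↥S) : G)).map (MulAut.conj y).toMonoidHom =
    Subgroup.zpowers ((D.X D.v : ↥S) : G)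
  rw [map_conj_zpowers]
  rcases D.cases ⟨y, hy⟩ with ⟨k, hk⟩ | ⟨k, hk⟩
  · have h1 : D.X k * D.X D.v * (D.X k)⁻¹ = D.X D.v := D.X_conj_X _ _
    rw [← hk] at h1
    have h2 := congrArg (Subtype.val : ↥S → G) h1
    have h3 : y * ((D.X D.v : ↥S) : G) * y⁻¹ = ((D.X D.v : ↥S) : G) := by simpa using h2
    rw [h3]
  · have h1 : D.Y k * D.X D.v * (D.Y k)⁻¹ = (D.X D.v)⁻¹ := by
      rw [D.Y_conj_X, D.ρ_mul_v, D.X_neg_v]
    rw [← hk] at h1
    have h2 := congrArg (Subtype.val : ↥S → G) h1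
    have h3 : y * ((D.X D.v : ↥S) : G) * y⁻¹ = ((D.X D.v : ↥S) : G)⁻¹ := by simpa using h2
    rw [h3, Subgroup.zpowers_inv]

end QSetup

/-- if `X v` is fused to an element of order four outside the cyclic maximal subgroup then the
quaternion subgroups have index six. -/
theorem quat_index_of_fused [Finite G] (S : Sylow 2 G) (D : QD ↥(S : Subgroup G))
    (Q : Subgroup G) (hQS : Q ≤ S) (eQ : Q ≃* QuaternionGroup 2) {i : ZMod D.N} (hi : ¬ D.Ev i)
    {g : G}
    (hg : g * ((D.X D.v : ↥(S : Subgroup G)) : G) * g⁻¹ = ((D.Y i : ↥(S : Subgroup G)) : G)) :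
    (Q ⊔ Subgroup.centralizer (Q : Set G)).relIndex (Subgroup.normalizer (Q : Set G)) = 6 := by
  classical
  obtain ⟨a, hQ⟩ := qsetup_of_iso (S : Subgroup G) D Q hQS eQ
  have hconj : IsConj ((D.Y i : ↥(S : Subgroup G)) : G) ((D.Y a : ↥(S : Subgroup G)) : G) := by
    apply isConj_coe
    apply D.isConj_Y
    exact D.ev_sub_of_not_ev hQ.odd hi
  obtain ⟨s, hs⟩ := isConj_iff.mp hconj
  set b : G := ((D.Y a : ↥(S : Subgroup G)) : G) with hb_def
  set xv : G := ((D.X D.v : ↥(S : Subgroup G)) : G) with hxv_def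
  have hg' : (s * g) * xv * (s * g)⁻¹ = b := by
    rw [← hs, ← hg]; group
  set g' := s * g with hg'_def
  have hA12 : (hQ.A₁).1.map (MulAut.conj g').toMonoidHom = (hQ.A₂).1 := by
    show (Subgroup.zpowers xv).map _ = Subgroup.zpowers b
    rw [map_conj_zpowers, hg']
  have hS₁ : ∀ y ∈ (S : Subgroup G), g' * y * g'⁻¹ ∈
      Subgroup.normalizer (((hQ.A₂).1 : Subgroup G) : Set G) := by
    intro y hy
    have := conj_mem_normalizer_map_conj g' (hQ.A₁_normal hy)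
    rw [hA12] at this
    exact this
  have hQN : Q ≤ Subgroup.normalizer (((hQ.A₂).1 : Subgroup G) : Set G) := by
    intro q hq
    exact Subgroup.mem_normalizer_iff_map_conj_eq.mpr (hQ.fix_of_mem_Q hq hQ.A₂)
  have hQ2 : IsPGroup 2 Q := IsPGroup.of_card (n := 3) (by rw [hQ.card]; rfl)
  obtain ⟨m, hm, hmq⟩ := sylow_juggle S _ g' hS₁ Q hQ2 hQN
  set k := g'⁻¹ * m with hk_def
  have hkA₂ : (hQ.A₂).1.map (MulAut.conj k).toMonoidHom = (hQ.A₁).1 := by
    rw [hk_def, map_conj_mul, map_conj_eq_of_mem_normalizer hm, ← hA12,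
      map_conj_inv_map_conj]
  set Q₁ := Q.map (MulAut.conj k).toMonoidHom with hQ₁_def
  have hQ₁S : Q₁ ≤ (S : Subgroup G) := by
    rintro _ ⟨q, hq, rfl⟩
    exact hmq q hq
  have eQ₁ : Q₁ ≃* QuaternionGroup 2 :=
    (Q.equivMapOfInjective _ (MulAut.conj k).injective).symm.trans eQ
  obtain ⟨a₁, hQ₁⟩ := qsetup_of_iso (S : Subgroup G) D Q₁ hQ₁S eQ₁
  -- the subgroup `B = k A₁ k⁻¹` of `Q₁`
  have hBle : (hQ.A₁).1.map (MulAut.conj k).toMonoidHom ≤ Q₁ :=
    Subgroup.map_mono hQ.A₁.2.1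
  have hBgen : ∃ g₀, orderOf g₀ = 4 ∧
      (hQ.A₁).1.map (MulAut.conj k).toMonoidHom = Subgroup.zpowers g₀ := by
    refine ⟨k * xv * k⁻¹, ?_, ?_⟩
    · rw [orderOf_conj_eq]; exact hQ.orderOf_xv
    · show (Subgroup.zpowers xv).map _ = _
      rw [map_conj_zpowers]
  set B : Cyc4 Q₁ := ⟨(hQ.A₁).1.map (MulAut.conj k).toMonoidHom, hBle, hBgen⟩ with hB_def
  have hBne : B ≠ hQ₁.A₁ := by
    intro hc
    have h1 : (hQ.A₁).1.map (MulAut.conj k).toMonoidHom = (hQ.A₁).1 := congrArg Subtype.val hc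
    rw [← hkA₂] at h1
    have h2 := map_conj_injective k h1
    rw [hkA₂] at h2
    exact hQ.A₁_ne_A₂ (Subtype.ext h2)
  have hmove := hQ₁.xw_move_of_ne B hBne
  set s₀ : G := ((D.X D.w : ↥(S : Subgroup G)) : G) with hs₀_def
  have hQback : Q₁.map (MulAut.conj k⁻¹).toMonoidHom = Q := map_conj_inv_map_conj Q k
  have hnN : k⁻¹ * s₀ * k ∈ Subgroup.normalizer (Q : Set G) := by
    have := conj_mem_normalizer_map_conj k⁻¹ hQ₁.xw_mem_normalizer
    rw [hQback, inv_inv] at this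
    exact this
  refine hQ.index_cases.2.1.mpr ⟨k⁻¹ * s₀ * k, hnN, ?_⟩
  intro hfix
  apply hmove
  have h1 : (hQ.A₁).1.map (MulAut.conj (k⁻¹ * s₀ * k)).toMonoidHom = (hQ.A₁).1 := hfix
  rw [map_conj_mul, map_conj_mul] at h1
  have h2 : ((hQ.A₁).1.map (MulAut.conj k).toMonoidHom).map (MulAut.conj k⁻¹).toMonoidHom =
      (hQ.A₁).1 := map_conj_inv_map_conj _ k
  rw [← h2] at h1
  have h3 := map_conj_injective k⁻¹ h1
  rw [h2] at h3
  exact h3

end QDF13

end Cfsg.Agent.Lib.Helper9
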