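import Mathlib
import Cfsg.Agent.Lib.Helper9.QDF13

set_option autoImplicit false

namespace Cfsg.Agent.Lib.Helper9

section QDF14

open scoped Pointwise

theorem zpowers_eq_of_orderOf_eq_of_isCyclic {H : Type*} [Group H] [Finite H] [IsCyclic H] (a b : H)
    (hab : orderOf a = orderOf b) : Subgroup.zpowers a = Subgroup.zpowers b := by
  classical
  haveI := Fintype.ofFinite H
  have hm : 0 < orderOf a := orderOf_pos a
  have hle := IsCyclic.card_pow_eq_one_le (α := H) hm
  have hsub : (Subgroup.zpowers a : Set H).toFinset ⊆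
      Finset.univ.filter (fun c : H => c ^ orderOf a = 1) := by
    intro c hc
    rw [Set.mem_toFinset] at hc
    simp only [Finset.mem_filter, Finset.mem_univ, true_and]
    obtain ⟨k, rfl⟩ := Subgroup.mem_zpowers_iff.mp hc
    rw [← zpow_natCast, ← zpow_mul, mul_comm, zpow_mul, zpow_natCast, pow_orderOf_eq_one, one_zpow]
  have hcard : ((Subgroup.zpowers a : Set H).toFinset).card = orderOf a := by
    rw [Set.toFinset_card, ← Nat.card_eq_fintype_card]
    exact Nat.card_zpowers a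
  have heq := Finset.eq_of_subset_of_card_le hsub (by rw [hcard]; exact hle)
  have hb : b ∈ Subgroup.zpowers a := by
    have h1 : b ∈ Finset.univ.filter (fun c : H => c ^ orderOf a = 1) := by
      simp [hab, pow_orderOf_eq_one]
    rw [← heq, Set.mem_toFinset] at h1
    exact h1
  exact (zpowers_eq_of_mem_of_orderOf_eq hb hab.symm hm).symm

variable {G : Type*} [Group G]

theorem card_classes_eq_two (k : ℕ) (g₁ g₂ : G) (h₁ : orderOf g₁ = k) (h₂ : orderOf g₂ = k)
    (hne : ¬ IsConj g₁ g₂) (h : ∀ t : G, orderOf t = k → IsConj t g₁ ∨ IsConj t g₂) :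
    Nat.card {C : ConjClasses G // ∃ t : G, orderOf t = k ∧ ConjClasses.mk t = C} = 2 := by
  apply card_subtype_eq_two _ (ConjClasses.mk g₁) (ConjClasses.mk g₂)
  · intro hc
    exact hne (ConjClasses.mk_eq_mk_iff_isConj.mp hc)
  · exact ⟨g₁, h₁, rfl⟩
  · exact ⟨g₂, h₂, rfl⟩
  · rintro C ⟨t, ht, rfl⟩
    rcases h t ht with hc | hc
    · left; exact ConjClasses.mk_eq_mk_iff_isConj.mpr hc
    · right; exact ConjClasses.mk_eq_mk_iff_isConj.mpr hc

theorem cyc_control [Finite G] (S : Sylow 2 G) (C₁ : Subgroup G) (hcyc : IsCyclic C₁)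
    (hC₁S : C₁ ≤ S) (hSN : (S : Subgroup G) ≤ Subgroup.normalizer (C₁ : Set G)) {u : G}
    (hu : u ∈ Subgroup.normalizer (C₁ : Set G)) :
    ∃ s ∈ (S : Subgroup G), ∀ x ∈ C₁, u * x * u⁻¹ = s * x * s⁻¹ := by
  classical
  have hC₁2 : IsPGroup 2 C₁ := S.2.to_le hC₁S
  have key := Subgroup.card_dvd_of_injective _
    (QuotientGroup.kerLift_injective C₁.normalizerMonoidHom)
  rw [Subgroup.normalizerMonoidHom_ker, ← Subgroup.index] at key
  obtain ⟨e, he⟩ := hC₁2.exists_card_eq
  have hpow : ∃ j, Nat.card (MulAut C₁) = 2 ^ j := by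
    rw [IsCyclic.card_mulAut, he]
    rcases Nat.eq_zero_or_pos e with h0 | h0
    · exact ⟨0, by rw [h0, pow_zero, Nat.totient_one]⟩
    · exact ⟨e - 1, by rw [Nat.totient_prime_pow Nat.prime_two h0]; norm_num⟩
  obtain ⟨j, hj⟩ := hpow
  rw [hj] at key
  set N := Subgroup.normalizer (C₁ : Set G) with hN_def
  set K : Subgroup ↥N := (Subgroup.centralizer (C₁ : Set G)).subgroupOf N with hK_def
  set S' : Subgroup ↥N := (S : Subgroup G).subgroupOf N with hS'_def
  haveI hKn : K.Normal := Subgroup.normal_subgroupOf_centralizer_normalizer _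
  have hS'odd : ¬ 2 ∣ S'.index := by
    intro h2
    have h3 : (S : Subgroup G).relIndex N * N.index = (S : Subgroup G).index :=
      Subgroup.relIndex_mul_index hSN
    have h4 : 2 ∣ (S : Subgroup G).index := by
      rw [← h3]; exact Dvd.dvd.mul_right h2 _
    exact S.not_dvd_index h4
  have htop : K ⊔ S' = ⊤ := by
    rw [← Subgroup.index_eq_one]
    have h1 : (K ⊔ S').index ∣ K.index := Subgroup.index_dvd_of_le le_sup_left
    have h2 : (K ⊔ S').index ∣ S'.index := Subgroup.index_dvd_of_le le_sup_right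
    have h3 : (K ⊔ S').index ∣ 2 ^ j := h1.trans key
    obtain ⟨i, -, hi⟩ := (Nat.dvd_prime_pow Nat.prime_two).mp h3
    rcases Nat.eq_zero_or_pos i with h0 | h0
    · rw [hi, h0, pow_zero]
    · exfalso
      apply hS'odd
      refine Dvd.dvd.trans ?_ h2
      rw [hi]
      exact dvd_pow_self 2 (by omega)
  have hn : (⟨u, hu⟩ : ↥N) ∈ ((K ⊔ S' : Subgroup ↥N) : Set ↥N) := by
    rw [htop]; trivial
  rw [Subgroup.normal_mul] at hn
  obtain ⟨c, hc, r, hr, hcr⟩ := Set.mem_mul.mp hn
  have hcC : (c : G) ∈ Subgroup.centralizer (C₁ : Set G) := Subgroup.mem_subgroupOf.mp hc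
  have hrS : (r : G) ∈ (S : Subgroup G) := Subgroup.mem_subgroupOf.mp hr
  have hu' : u = (c : G) * (r : G) := by
    have := congrArg Subtype.val hcr
    simpa using this.symm
  refine ⟨(r : G), hrS, fun x hx => ?_⟩
  have hrx : (r : G) * x * (r : G)⁻¹ ∈ C₁ := (Subgroup.mem_normalizer_iff.mp r.2 x).mp hx
  have h1 := Subgroup.mem_centralizer_iff.mp hcC _ hrx
  rw [hu']
  calc (c : G) * (r : G) * x * ((c : G) * (r : G))⁻¹
      = ((c : G) * ((r : G) * x * (r : G)⁻¹)) * (c : G)⁻¹ := by group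
    _ = (((r : G) * x * (r : G)⁻¹) * (c : G)) * (c : G)⁻¹ := by rw [h1]
    _ = (r : G) * x * (r : G)⁻¹ := by group

end QDF14

end Cfsg.Agent.Lib.Helper9
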