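import Mathlib
import Cfsg.Agent.Lib.Helper9.QDF14
import Cfsg.Agent.Lib.Helper1.FusionControl2

set_option autoImplicit false

namespace Cfsg.Agent.Lib.Helper9

section QDF15

namespace QD

variable {S : Type*} [Group S] (D : QD S)

theorem X_rho_mem_zpowers (k : ZMod D.N) : D.X (D.ρ * k) ∈ Subgroup.zpowers (D.X k) := by
  have h1 := D.X_pow k (2 ^ (D.n - 1) - 1)
  have h2 : D.X (D.ρ * k) = (D.X k) ^ (2 ^ (D.n - 1) - 1) := by
    rw [h1]; rfl
  rw [h2]
  exact Subgroup.pow_mem _ (Subgroup.mem_zpowers _) _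

theorem orderOf_Y_even {i : ZMod D.N} (hi : D.Ev i) : orderOf (D.Y i) = 2 :=
  (D.orderOf_two_iff _).mpr (Or.inr ⟨i, hi, rfl⟩)

end QD

variable {G : Type*} [Group G]

theorem orderOf_eq_of_isConj {a b : G} (h : IsConj a b) : orderOf a = orderOf b := by
  obtain ⟨c, hc⟩ := isConj_iff.mp h
  rw [← hc, orderOf_conj_eq]

theorem isConj_Y_Y0 {S : Subgroup G} (D : QD ↥S) {i : ZMod D.N} (hi : D.Ev i) :
    IsConj ((D.Y i : ↥S) : G) ((D.Y 0 : ↥S) : G) := by
  apply isConj_coe
  apply D.isConj_Y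
  have := D.ev_neg hi
  simpa using this

theorem isConj_Y_Y1 {S : Subgroup G} (D : QD ↥S) {i : ZMod D.N} (hi : ¬ D.Ev i) :
    IsConj ((D.Y i : ↥S) : G) ((D.Y 1 : ↥S) : G) := by
  apply isConj_coe
  apply D.isConj_Y
  exact D.ev_sub_of_not_ev D.not_ev_one hi

theorem not_fused_XY {S : Subgroup G} (D : QD ↥S)
    (hz : ¬ IsConj ((D.z : ↥S) : G) ((D.Y 0 : ↥S) : G))
    (hx : ¬ IsConj ((D.X D.v : ↥S) : G) ((D.Y 1 : ↥S) : G)) (k i : ZMod D.N) :
    ¬ IsConj ((D.X k : ↥S) : G) ((D.Y i : ↥S) : G) := by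
  intro hc
  have ho := orderOf_eq_of_isConj hc
  rw [Subgroup.orderOf_coe, Subgroup.orderOf_coe] at ho
  by_cases hi : D.Ev i
  · rw [D.orderOf_Y_even hi] at ho
    rcases (D.orderOf_two_iff _).mp ho with h1 | ⟨j, -, h1⟩
    · apply hz
      have : ((D.X k : ↥S) : G) = ((D.z : ↥S) : G) := congrArg Subtype.val h1
      rw [← this]
      exact hc.trans (isConj_Y_Y0 D hi)
    · exact D.Y_ne_X j k h1.symm
  · rw [D.orderOf_Y_odd hi] at ho
    rcases (D.orderOf_four_iff _).mp ho with h1 | h1 | ⟨j, -, h1⟩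
    · apply hx
      have : ((D.X k : ↥S) : G) = ((D.X D.v : ↥S) : G) := congrArg Subtype.val h1
      rw [← this]
      exact hc.trans (isConj_Y_Y1 D hi)
    · apply hx
      have : ((D.X k : ↥S) : G) = ((D.X (-D.v) : ↥S) : G) := congrArg Subtype.val h1
      have h2 : IsConj ((D.X D.v : ↥S) : G) ((D.X (-D.v) : ↥S) : G) :=
        isConj_coe (D.isConj_X_neg D.v D.u_mul_v)
      rw [this] at hc
      exact h2.trans (hc.trans (isConj_Y_Y1 D hi))
    · exact D.Y_ne_X j k h1.symm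

theorem controlsFusion_of_not_fused [Finite G] (S : Sylow 2 G) (D : QD ↥(S : Subgroup G))
    (hz : ¬ IsConj ((D.z : ↥(S : Subgroup G)) : G) ((D.Y 0 : ↥(S : Subgroup G)) : G))
    (hx : ¬ IsConj ((D.X D.v : ↥(S : Subgroup G)) : G) ((D.Y 1 : ↥(S : Subgroup G)) : G)) :
    Cfsg.Agent.Lib.Helper1.ControlsFusion (S : Subgroup G) := by
  classical
  intro x hxS u hux
  have hconj : IsConj x (u * x * u⁻¹) := isConj_iff.mpr ⟨u, rfl⟩
  rcases D.cases ⟨x, hxS⟩ with ⟨k, hk⟩ | ⟨i, hi⟩ <;>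
    rcases D.cases ⟨u * x * u⁻¹, hux⟩ with ⟨k', hk'⟩ | ⟨i', hi'⟩
  · -- both in the cyclic maximal subgroup
    have hxk : x = ((D.X k : ↥(S : Subgroup G)) : G) := congrArg Subtype.val hk
    have hxk' : u * x * u⁻¹ = ((D.X k' : ↥(S : Subgroup G)) : G) := congrArg Subtype.val hk'
    set C₁ : Subgroup G := Subgroup.zpowers x with hC₁_def
    have hC₁S : C₁ ≤ (S : Subgroup G) := Subgroup.zpowers_le.mpr hxS
    have hSN : (S : Subgroup G) ≤ Subgroup.normalizer (C₁ : Set G) := by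
      intro y hy
      apply mem_normalizer_of_map_conj_eq
      have hle : C₁.map (MulAut.conj y).toMonoidHom ≤ C₁ := by
        rw [hC₁_def, map_conj_zpowers, Subgroup.zpowers_le, hxk]
        rcases D.cases ⟨y, hy⟩ with ⟨m, hm⟩ | ⟨m, hm⟩
        · have h1 : D.X m * D.X k * (D.X m)⁻¹ = D.X k := D.X_conj_X _ _
          rw [← hm] at h1
          have h2 := congrArg (Subtype.val : ↥(S : Subgroup G) → G) h1
          have h3 : y * ((D.X k : ↥(S : Subgroup G)) : G) * y⁻¹ =
              ((D.X k : ↥(S : Subgroup G)) : G) := by simpa using h2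
          rw [h3]; exact Subgroup.mem_zpowers _
        · have h1 : D.Y m * D.X k * (D.Y m)⁻¹ = D.X (D.ρ * k) := D.Y_conj_X _ _
          rw [← hm] at h1
          have h2 := congrArg (Subtype.val : ↥(S : Subgroup G) → G) h1
          have h3 : y * ((D.X k : ↥(S : Subgroup G)) : G) * y⁻¹ =
              ((D.X (D.ρ * k) : ↥(S : Subgroup G)) : G) := by simpa using h2
          rw [h3]
          obtain ⟨j, hj⟩ := Subgroup.mem_zpowers_iff.mp (D.X_rho_mem_zpowers k)
          rw [← hj]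
          exact Subgroup.zpow_mem _ (Subgroup.mem_zpowers _) j
      exact Subgroup.eq_of_le_of_card_ge hle
        (by rw [Subgroup.card_map_of_injective (MulAut.conj y).injective])
    have hord : orderOf (D.X k) = orderOf (D.X k') := by
      rw [← Subgroup.orderOf_coe, ← Subgroup.orderOf_coe, ← hxk, ← hxk', orderOf_conj_eq]
    have hmem : D.X k' ∈ Subgroup.zpowers (D.X k) := by
      haveI : IsCyclic ↥(Subgroup.zpowers D.x) := inferInstance
      have h1 := zpowers_eq_of_orderOf_eq_of_isCyclic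
        (⟨D.X k, D.X_mem_zpowers k⟩ : ↥(Subgroup.zpowers D.x))
        ⟨D.X k', D.X_mem_zpowers k'⟩
        (by
          have e1 := Subgroup.orderOf_coe (⟨D.X k, D.X_mem_zpowers k⟩ : ↥(Subgroup.zpowers D.x))
          have e2 := Subgroup.orderOf_coe (⟨D.X k', D.X_mem_zpowers k'⟩ : ↥(Subgroup.zpowers D.x))
          rw [← e1, ← e2]; exact hord)
      have h2 : (⟨D.X k', D.X_mem_zpowers k'⟩ : ↥(Subgroup.zpowers D.x)) ∈
          Subgroup.zpowers (⟨D.X k, D.X_mem_zpowers k⟩ : ↥(Subgroup.zpowers D.x)) := by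
        rw [h1]; exact Subgroup.mem_zpowers _
      obtain ⟨j, hj⟩ := Subgroup.mem_zpowers_iff.mp h2
      have h3 := congrArg Subtype.val hj
      rw [Subgroup.mem_zpowers_iff]
      exact ⟨j, by simpa using h3⟩
    have huN : u ∈ Subgroup.normalizer (C₁ : Set G) := by
      apply mem_normalizer_of_map_conj_eq
      have hle : C₁.map (MulAut.conj u).toMonoidHom ≤ C₁ := by
        rw [hC₁_def, map_conj_zpowers, Subgroup.zpowers_le, hxk', hxk]
        obtain ⟨j, hj⟩ := Subgroup.mem_zpowers_iff.mp hmem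
        rw [← hj]
        exact Subgroup.zpow_mem _ (Subgroup.mem_zpowers _) j
      exact Subgroup.eq_of_le_of_card_ge hle
        (by rw [Subgroup.card_map_of_injective (MulAut.conj u).injective])
    obtain ⟨s, hs, hsx⟩ := cyc_control S C₁ (by rw [hC₁_def]; infer_instance) hC₁S hSN huN
    exact ⟨s, hs, (hsx x (Subgroup.mem_zpowers x)).symm⟩
  · exfalso
    have hxk : x = ((D.X k : ↥(S : Subgroup G)) : G) := congrArg Subtype.val hk
    have hxi' : u * x * u⁻¹ = ((D.Y i' : ↥(S : Subgroup G)) : G) := congrArg Subtype.val hi'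
    rw [hxi', hxk] at hconj
    exact not_fused_XY D hz hx k i' hconj
  · exfalso
    have hxi : x = ((D.Y i : ↥(S : Subgroup G)) : G) := congrArg Subtype.val hi
    have hxk' : u * x * u⁻¹ = ((D.X k' : ↥(S : Subgroup G)) : G) := congrArg Subtype.val hk'
    rw [hxk', hxi] at hconj
    exact not_fused_XY D hz hx k' i hconj.symm
  · have hxi : x = ((D.Y i : ↥(S : Subgroup G)) : G) := congrArg Subtype.val hi
    have hxi' : u * x * u⁻¹ = ((D.Y i' : ↥(S : Subgroup G)) : G) := congrArg Subtype.val hi'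
    have hord : orderOf (D.Y i) = orderOf (D.Y i') := by
      rw [← Subgroup.orderOf_coe, ← Subgroup.orderOf_coe, ← hxi, ← hxi', orderOf_conj_eq]
    have hev : D.Ev (i' - i) := by
      by_cases h1 : D.Ev i <;> by_cases h2 : D.Ev i'
      · exact D.ev_sub h2 h1
      · rw [D.orderOf_Y_even h1, D.orderOf_Y_odd h2] at hord; omega
      · rw [D.orderOf_Y_odd h1, D.orderOf_Y_even h2] at hord; omega
      · exact D.ev_sub_of_not_ev h2 h1
    obtain ⟨s, hs⟩ := isConj_iff.mp (D.isConj_Y hev)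
    refine ⟨(s : G), s.2, ?_⟩
    rw [hxi', hxi]
    have := congrArg (Subtype.val : ↥(S : Subgroup G) → G) hs
    simpa using this

end QDF15

end Cfsg.Agent.Lib.Helper9
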