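import Mathlib
import Cfsg.Agent.Lib.Helper9.QDF15

set_option autoImplicit false

namespace Cfsg.Agent.Lib.Helper9

section QDF16

/-- with index six, some element of odd order acts without fixed points. -/
theorem three_point_odd_mover {N : Type*} [Group N] [Finite N] {X : Type*} [MulAction N X]
    (hX : Nat.card X = 3) (K : Subgroup N) (hK : K = (MulAction.toPermHom N X).ker)
    (h6 : K.index = 6) :
    ∃ ν : N, Odd (orderOf ν) ∧ ∀ x : X, ν • x ≠ x := by
  classical
  have hfin : Finite X := Nat.finite_of_card_ne_zero (by rw [hX]; norm_num)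
  have hft : Fintype X := Fintype.ofFinite X
  have hX' : Fintype.card X = 3 := by rw [← Nat.card_eq_fintype_card]; exact hX
  have hidx : K.index = Nat.card (MulAction.toPermHom N X).range := by
    rw [hK]; exact Subgroup.index_ker _
  haveI : Fact (Nat.Prime 3) := ⟨Nat.prime_three⟩
  have hdvd : 3 ∣ Nat.card (MulAction.toPermHom N X).range := by
    rw [← hidx, h6]; norm_num
  obtain ⟨σ', hσ'⟩ := exists_prime_orderOf_dvd_card' 3 hdvd
  obtain ⟨σ, n, rfl⟩ := σ'
  set φ := MulAction.toPermHom N X with hφ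
  have hσ : orderOf (φ n) = 3 := by
    rw [← hσ', ← Subgroup.orderOf_coe]
  have hσ3 : (φ n) ^ 3 = 1 := by rw [← hσ]; exact pow_orderOf_eq_one _
  have ho : orderOf n ≠ 0 := (orderOf_pos n).ne'
  obtain ⟨a, r, hr, hor⟩ := Nat.exists_eq_two_pow_mul_odd ho
  refine ⟨n ^ (2 ^ a), ?_, ?_⟩
  · rw [orderOf_pow_of_dvd (by positivity) (by rw [hor]; exact dvd_mul_right _ _), hor,
      Nat.mul_div_cancel_left _ (by positivity)]
    exact hr
  · intro x hx
    set τ := φ (n ^ (2 ^ a)) with hτ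
    have hτx : τ x = x := by
      rw [hτ, hφ]; simpa using hx
    have hτ2 : τ * τ = 1 := perm_sq_eq_one_of_fixed hX' τ x hτx
    have hτ3 : τ ^ 3 = 1 := by
      rw [hτ, map_pow, ← pow_mul, mul_comm, pow_mul, hσ3, one_pow]
    have hτ1 : τ = 1 := by
      have : τ ^ 3 = τ * τ * τ := by rw [pow_succ, pow_two]
      rw [this, hτ2, one_mul] at hτ3
      exact hτ3
    rw [hτ, map_pow] at hτ1
    have h3 := orderOf_dvd_of_pow_eq_one hτ1
    rw [hσ] at h3
    have h4 := Nat.Prime.dvd_of_dvd_pow Nat.prime_three h3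
    omega

variable {G : Type*} [Group G]

theorem klein_odd_mover [Finite G] (S : Subgroup G) (D : QD ↥S) (T : Subgroup G)
    (hT : IsKleinFour T) (hTS : T ≤ S)
    (h6 : (Subgroup.centralizer (T : Set G)).relIndex (Subgroup.normalizer (T : Set G)) = 6) :
    ∃ ν ∈ Subgroup.normalizer (T : Set G), Odd (orderOf ν) ∧
      ν * ((D.z : ↥S) : G) * ν⁻¹ ≠ ((D.z : ↥S) : G) := by
  classical
  obtain ⟨-, -, -, hz, -⟩ := klein_index S D T hT hTS
  have hz1 : (D.z : G) ≠ 1 := by
    intro h
    apply D.z_ne_one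
    exact Subtype.ext h
  letI := conjActPts T
  have hfinT : Finite ↥T := inferInstance
  have hX : Nat.card {t : G // t ∈ T ∧ t ≠ 1} = 3 := by
    rw [card_pts, hT.card_four]
  obtain ⟨ν, hν, hmove⟩ := three_point_odd_mover (N := ↥(Subgroup.normalizer (T : Set G)))
    (X := {t : G // t ∈ T ∧ t ≠ 1}) hX
    ((Subgroup.centralizer (T : Set G)).subgroupOf (Subgroup.normalizer (T : Set G)))
    (conjActPts_ker T).symm h6
  refine ⟨(ν : G), ν.2, ?_, ?_⟩
  · rw [Subgroup.orderOf_coe]; exact hν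
  · intro hc
    exact hmove ⟨(D.z : G), hz, hz1⟩ (Subtype.ext hc)

theorem QSetup.odd_mover [Finite G] {S : Subgroup G} {D : QD ↥S} {Q : Subgroup G} {a : ZMod D.N}
    (h : QSetup S D Q a)
    (h6 : (Q ⊔ Subgroup.centralizer (Q : Set G)).relIndex (Subgroup.normalizer (Q : Set G)) = 6) :
    ∃ ν ∈ Subgroup.normalizer (Q : Set G), Odd (orderOf ν) ∧
      (Subgroup.zpowers ((D.X D.v : ↥S) : G)).map (MulAut.conj ν).toMonoidHom ≠
        Subgroup.zpowers ((D.X D.v : ↥S) : G) := by
  classical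
  letI := conjActSub Q
  obtain ⟨ν, hν, hmove⟩ := three_point_odd_mover (N := ↥(Subgroup.normalizer (Q : Set G)))
    (X := Cyc4 Q) h.card_cyc4
    ((Q ⊔ Subgroup.centralizer (Q : Set G)).subgroupOf (Subgroup.normalizer (Q : Set G)))
    h.ker_eq h6
  refine ⟨(ν : G), ν.2, ?_, ?_⟩
  · rw [Subgroup.orderOf_coe]; exact hν
  · intro hc
    exact hmove h.A₁ (Subtype.ext hc)

/-- elements of odd order lie in every subgroup of index two -/
theorem mem_of_odd_of_index_two {H : Subgroup G} (hH : H.index = 2) {g : G} (hg : Odd (orderOf g)) :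
    g ∈ H := by
  obtain ⟨m, hm⟩ := hg
  have h1 : g = (g * g) ^ (m + 1) := by
    rw [← pow_two, ← pow_mul]
    have : 2 * (m + 1) = orderOf g + 1 := by omega
    rw [this, pow_succ, pow_orderOf_eq_one, one_mul]
  rw [h1]
  exact H.pow_mem (Subgroup.mul_self_mem_of_index_two hH g) _

/-- elements of odd order lie in every subgroup of index two of a subgroup of index two -/
theorem mem_of_odd_of_index_two_two {K : Subgroup G} (hK : K.index = 2) {H : Subgroup ↥K}
    (hH : H.index = 2) {g : G} (hg : Odd (orderOf g)) : g ∈ H.map K.subtype := by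
  have hgK : g ∈ K := mem_of_odd_of_index_two hK hg
  have h1 : (⟨g, hgK⟩ : ↥K) ∈ H := by
    apply mem_of_odd_of_index_two hH
    rw [← Subgroup.orderOf_coe]; exact hg
  exact ⟨⟨g, hgK⟩, h1, rfl⟩

/-- commutators with elements of odd order lie in such subgroups -/
theorem comm_mem_of_odd {K : Subgroup G} (hK : K.index = 2) {H : Subgroup ↥K}
    (hH : H.index = 2) {ν : G} (hν : Odd (orderOf ν)) (a : G) :
    a⁻¹ * (ν * a * ν⁻¹) ∈ H.map K.subtype := by
  have e : a⁻¹ * (ν * a * ν⁻¹) = (a⁻¹ * ν * a⁻¹⁻¹) * ν⁻¹ := by group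
  rw [e]
  apply Subgroup.mul_mem
  · apply mem_of_odd_of_index_two_two hK hH
    rw [orderOf_conj_eq]; exact hν
  · apply mem_of_odd_of_index_two_two hK hH
    rw [orderOf_inv]; exact hν

end QDF16

end Cfsg.Agent.Lib.Helper9
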