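import Mathlib
import Cfsg.Agent.Lib.Helper9.QDF16
import Cfsg.Agent.S0206

set_option autoImplicit false

namespace Cfsg.Agent.Lib.Helper9

section QDF17

variable {G : Type*} [Group G]

/-- the normal subgroup generated by the elements of odd order -/
def oddClosure (G : Type*) [Group G] : Subgroup G :=
  Subgroup.normalClosure {g : G | Odd (orderOf g)}

instance oddClosure_normal : (oddClosure G).Normal := Subgroup.normalClosure_normal

theorem mem_oddClosure_of_odd {g : G} (hg : Odd (orderOf g)) : g ∈ oddClosure G :=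
  Subgroup.subset_normalClosure hg

theorem comm_mem_oddClosure {ν : G} (hν : Odd (orderOf ν)) (a : G) :
    a⁻¹ * (ν * a * ν⁻¹) ∈ oddClosure G := by
  have e : a⁻¹ * (ν * a * ν⁻¹) = (a⁻¹ * ν * a⁻¹⁻¹) * ν⁻¹ := by group
  rw [e]
  apply Subgroup.mul_mem
  · apply mem_oddClosure_of_odd
    rw [orderOf_conj_eq]; exact hν
  · apply mem_oddClosure_of_odd
    rw [orderOf_inv]; exact hν

theorem oddClosure_le {K : Subgroup G} (hK : K.index = 2) {H : Subgroup ↥K} (hH : H.index = 2) :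
    oddClosure G ≤ H.map K.subtype := by
  unfold oddClosure Subgroup.normalClosure
  rw [Subgroup.closure_le]
  intro g hg
  obtain ⟨b, hb, hbg⟩ := Group.mem_conjugatesOfSet_iff.mp hg
  apply mem_of_odd_of_index_two_two hK hH
  rw [← orderOf_eq_of_isConj hbg]
  exact hb

theorem conj_mem_oddClosure {a b : G} (h : IsConj a b) (ha : a ∈ oddClosure G) :
    b ∈ oddClosure G := by
  obtain ⟨c, hc⟩ := isConj_iff.mp h
  rw [← hc]
  exact (oddClosure_normal (G := G)).conj_mem a ha c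

/-- no subgroup of index two in `K` when a maximal subgroup of the Sylow subgroup lies in the
odd closure. -/
theorem no_index_two [Finite G] (S : Sylow 2 G) (M : Subgroup G) (hMS : M ≤ S)
    (hM2 : M.relIndex (S : Subgroup G) = 2) (hMR : M ≤ oddClosure G)
    (K : Subgroup G) (hK : K.index = 2) (H : Subgroup ↥K) : H.index ≠ 2 := by
  intro hH
  have h1 : M ≤ H.map K.subtype := hMR.trans (oddClosure_le hK hH)
  have h2 : (H.map K.subtype).index = 4 := by
    rw [Subgroup.index_map_subtype, hH, hK]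
  have h3 := Subgroup.index_dvd_of_le h1
  rw [h2] at h3
  have h4 : M.relIndex (S : Subgroup G) * (S : Subgroup G).index = M.index :=
    Subgroup.relIndex_mul_index hMS
  rw [hM2] at h4
  rw [← h4] at h3
  have h5 : 2 ∣ (S : Subgroup G).index := by omega
  exact S.not_dvd_index h5

/-- Sylow subgroups of a normal subgroup are isomorphic to the intersection with a Sylow
subgroup of the whole group. -/
theorem sylow_normal_iso [Finite G] (S : Sylow 2 G) (K : Subgroup G) [hKn : K.Normal]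
    (P : Sylow 2 ↥K) : Nonempty (↥(P : Subgroup ↥K) ≃* ↥((S : Subgroup G) ⊓ K)) := by
  classical
  haveI : Fact (Nat.Prime 2) := ⟨Nat.prime_two⟩
  set P' : Subgroup G := (P : Subgroup ↥K).map K.subtype with hP'
  have hP'2 : IsPGroup 2 P' := P.2.map _
  obtain ⟨g, hg⟩ := exists_sylow_conj_le S P' hP'2
  set P'' : Subgroup G := P'.map (MulAut.conj g).toMonoidHom with hP''
  have hle : P'' ≤ (S : Subgroup G) ⊓ K := by
    rintro _ ⟨q, hq, rfl⟩
    refine ⟨hg q hq, ?_⟩
    have hqK : q ∈ K := by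
      obtain ⟨q', -, rfl⟩ := hq
      exact q'.2
    exact hKn.conj_mem q hqK g
  have hI2 : IsPGroup 2 (((S : Subgroup G) ⊓ K).subgroupOf K) := by
    have h1 : IsPGroup 2 ((S : Subgroup G) ⊓ K : Subgroup G) := S.2.to_le inf_le_left
    exact h1.comap_of_injective K.subtype K.subtype_injective
  obtain ⟨P₁, hP₁⟩ := hI2.exists_le_sylow
  have hc1 : Nat.card (((S : Subgroup G) ⊓ K).subgroupOf K) ≤ Nat.card (P₁ : Subgroup ↥K) :=
    Subgroup.card_le_of_le hP₁
  have hc2 : Nat.card (((S : Subgroup G) ⊓ K).subgroupOf K) =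
      Nat.card ((S : Subgroup G) ⊓ K : Subgroup G) :=
    Nat.card_congr (Subgroup.subgroupOfEquivOfLe inf_le_right).toEquiv
  have hc3 : Nat.card (P₁ : Subgroup ↥K) = Nat.card (P : Subgroup ↥K) := by
    rw [Sylow.card_eq_multiplicity, Sylow.card_eq_multiplicity]
  have hc4 : Nat.card P' = Nat.card (P : Subgroup ↥K) :=
    Subgroup.card_map_of_injective K.subtype_injective
  have hc5 : Nat.card P'' = Nat.card P' :=
    Subgroup.card_map_of_injective (MulAut.conj g).injective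
  have heq : P'' = (S : Subgroup G) ⊓ K := by
    apply Subgroup.eq_of_le_of_card_ge hle
    rw [hc5, hc4, ← hc3, ← hc2]
    exact hc1
  have e1 : ↥(P : Subgroup ↥K) ≃* ↥P' :=
    (P : Subgroup ↥K).equivMapOfInjective _ K.subtype_injective
  have e2 : ↥P' ≃* ↥P'' := P'.equivMapOfInjective _ (MulAut.conj g).injective
  exact ⟨(e1.trans e2).trans (MulEquiv.subgroupCongr heq)⟩

theorem inf_eq_map_of_subgroupOf_eq {S K : Subgroup G} {M : Subgroup ↥S}
    (h : K.subgroupOf S = M) : S ⊓ K = M.map S.subtype := by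
  ext x
  rw [Subgroup.mem_inf, Subgroup.mem_map]
  constructor
  · rintro ⟨hxS, hxK⟩
    refine ⟨⟨x, hxS⟩, ?_, rfl⟩
    have : (⟨x, hxS⟩ : ↥S) ∈ K.subgroupOf S := Subgroup.mem_subgroupOf.mpr hxK
    rw [h] at this
    exact this
  · rintro ⟨m, hm, rfl⟩
    refine ⟨m.2, ?_⟩
    have : m ∈ K.subgroupOf S := by rw [h]; exact hm
    exact Subgroup.mem_subgroupOf.mp this

namespace QD

variable {S : Type*} [Group S] (D : QD S)

theorem X_even_pow (j : ZMod D.N) : D.X (2 * j) = (D.X 2) ^ j.val := by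
  rw [D.X_pow, ZMod.natCast_zmod_val, mul_comm]

theorem M2_iso [Finite S] : Nonempty (D.M2 ≃* QuaternionGroup (2 ^ (D.n - 2))) := by
  have hn3 := D.hn
  have hord : orderOf (D.X 2) = 2 * 2 ^ (D.n - 2) := by
    have h1 := D.card_E
    rw [D.E_eq_zpowers, Nat.card_zpowers] at h1
    rw [h1, ← pow_succ']
    congr 1
    omega
  have hw : D.Y 1 * D.Y 1 = (D.X 2) ^ (2 ^ (D.n - 2)) := by
    rw [D.Y_sq, D.X_pow, mul_one]
    congr 1
    have : ((2 ^ (D.n - 2) : ℕ) : ZMod D.N) = D.v := rfl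
    rw [this, mul_comm, D.two_v]
  have hwt : D.Y 1 * D.X 2 * (D.Y 1)⁻¹ = (D.X 2)⁻¹ := by
    rw [D.Y_conj_X, ← D.X_neg]
    congr 1
    rw [D.ρ_eq]
    linear_combination D.two_u
  obtain ⟨Q, hQcard, htQ, hwQ, hQiso⟩ :=
    Cfsg.Agent.Lib.helper14.exists_quaternion_subgroup (2 ^ (D.n - 2)) Nat.one_le_two_pow
      (D.X 2) (D.Y 1) hord hw hwt
  have hle : D.M2 ≤ Q := by
    rintro g (⟨i, ⟨j, rfl⟩, rfl⟩ | ⟨i, hi, rfl⟩)
    · rw [D.X_even_pow]
      exact Q.pow_mem htQ _
    · obtain ⟨j, rfl⟩ := D.odd_form hi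
      have h1 : D.Y (2 * j + 1) = D.X (2 * j) * D.Y 1 := by rw [D.X_mul_Y]
      rw [h1, D.X_even_pow]
      exact Q.mul_mem (Q.pow_mem htQ _) hwQ
  have hQtop : Q ≠ ⊤ := by
    intro h
    rw [h, Subgroup.card_top, D.card] at hQcard
    have h3 : 4 * 2 ^ (D.n - 2) = 2 ^ D.n := by
      have : D.n = (D.n - 2) + 2 := by omega
      conv_rhs => rw [this, pow_add]
      ring
    rw [h3, pow_succ] at hQcard
    have : 0 < 2 ^ D.n := by positivity
    omega
  have hQeq : D.M2 = Q := by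
    rcases eq_or_lt_of_le hle with h | h
    · exact h
    · exact absurd (D.isCoatom_M2.2 Q h) hQtop
  rw [hQeq]
  exact hQiso

theorem M3_iso [Finite S] : Nonempty (D.M3 ≃* DihedralGroup (2 ^ (D.n - 1))) := by
  rw [D.M3_eq_closure]
  have h0 : orderOf (D.Y 0) = 2 := (D.orderOf_two_iff _).mpr (Or.inr ⟨0, D.ev_zero, rfl⟩)
  have h2 : orderOf (D.Y 2) = 2 := (D.orderOf_two_iff _).mpr (Or.inr ⟨2, ⟨1, by ring⟩, rfl⟩)
  have hne : D.Y 0 ≠ D.Y 2 := by
    intro h
    have h3 := D.Y_inj h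
    apply D.u_ne_zero
    rw [← D.two_v]
    have h4 : (2 : ZMod D.N) * D.v = D.v * 2 := by ring
    rw [h4, ← h3, mul_zero]
  have hord : orderOf (D.Y 0 * D.Y 2) = 2 ^ (D.n - 1) := by
    have : D.Y 0 * D.Y 2 = D.X (2 * D.ρ) := by
      rw [D.Y_mul_Y]; congr 1; ring
    rw [this, D.orderOf_X_two_ρ]
  have := Cfsg.Agent.S0206.result (D.Y 0) (D.Y 2) h0 h2 hne
  rw [hord] at this
  exact this

theorem card_M2 [Finite S] : D.M2.relIndex ⊤ = 2 := by
  rw [Subgroup.relIndex_top_right]; exact D.index_M2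

end QD

end QDF17

end Cfsg.Agent.Lib.Helper9
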