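import Mathlib
import Cfsg.Agent.Lib.Helper9.QDF17

set_option autoImplicit false

namespace Cfsg.Agent.Lib.Helper9

section QDF18

variable {G : Type*} [Group G]

theorem X_even_mem_of_X_two_mem {S : Subgroup G} (D : QD ↥S) {R : Subgroup G}
    (h2 : ((D.X 2 : ↥S) : G) ∈ R) (j : ZMod D.N) : ((D.X (2 * j) : ↥S) : G) ∈ R := by
  rw [D.X_even_pow, Subgroup.coe_pow]
  exact R.pow_mem h2 _

theorem QSetup.M2_le_oddClosure [Finite G] {S : Subgroup G} {D : QD ↥S} {Q : Subgroup G}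
    {a : ZMod D.N} (h : QSetup S D Q a)
    (h6 : (Q ⊔ Subgroup.centralizer (Q : Set G)).relIndex (Subgroup.normalizer (Q : Set G)) = 6) :
    D.M2.map S.subtype ≤ oddClosure G := by
  classical
  obtain ⟨ν, hνN, hνodd, hνmove⟩ := h.odd_mover h6
  set a₀ : G := ((D.X D.v : ↥S) : G) with ha₀
  set b : G := ν * a₀ * ν⁻¹ with hb
  have hbQ : b ∈ Q := (Subgroup.mem_normalizer_iff.mp hνN a₀).mp h.xv_mem
  have hbS : b ∈ S := h.le hbQ
  have hb4 : orderOf (⟨b, hbS⟩ : ↥S) = 4 := by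
    rw [← Subgroup.orderOf_coe]
    show orderOf (ν * a₀ * ν⁻¹) = 4
    rw [orderOf_conj_eq]; exact h.orderOf_xv
  have hmap : (Subgroup.zpowers a₀).map (MulAut.conj ν).toMonoidHom = Subgroup.zpowers b := by
    rw [map_conj_zpowers]
  have hR1 : a₀⁻¹ * b ∈ oddClosure G := comm_mem_oddClosure hνodd a₀
  rcases (D.orderOf_four_iff _).mp hb4 with h1 | h1 | ⟨j, hj, h1⟩
  · exfalso
    apply hνmove
    have : b = a₀ := congrArg Subtype.val h1
    rw [hmap, this]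
  · exfalso
    apply hνmove
    have : b = a₀⁻¹ := by
      have h2 := congrArg (Subtype.val : ↥S → G) h1
      rw [D.X_neg_v] at h2
      exact h2
    rw [hmap, this, Subgroup.zpowers_inv]
  · have hbY : b = ((D.Y j : ↥S) : G) := congrArg Subtype.val h1
    have hj' : ¬ D.Ev (-D.v + j) := by
      intro hc
      apply hj
      have := D.ev_sub hc (D.ev_neg D.ev_v)
      simpa using this
    have hR2 : ((D.Y (-D.v + j) : ↥S) : G) ∈ oddClosure G := by
      have e : D.Y (-D.v + j) = (D.X D.v)⁻¹ * D.Y j := by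
        rw [← D.X_neg, D.X_mul_Y]
      rw [e]
      have e2 : (((D.X D.v)⁻¹ * D.Y j : ↥S) : G) = a₀⁻¹ * b := by
        rw [hbY]; rfl
      rw [e2]; exact hR1
    have hodd : ∀ i : ZMod D.N, ¬ D.Ev i → ((D.Y i : ↥S) : G) ∈ oddClosure G := by
      intro i hi
      exact conj_mem_oddClosure (isConj_coe (D.isConj_Y (D.ev_sub_of_not_ev hi hj'))) hR2
    have hX2 : ((D.X 2 : ↥S) : G) ∈ oddClosure G := by
      have e : D.X 2 = D.Y 1 * D.Y D.ρ := by
        rw [D.Y_mul_Y, D.ρ_sq]; congr 1; ring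
      rw [e]
      exact Subgroup.mul_mem _ (hodd 1 D.not_ev_one) (hodd D.ρ D.not_ev_ρ)
    rintro _ ⟨m, hm, rfl⟩
    rcases hm with ⟨i, ⟨k, rfl⟩, rfl⟩ | ⟨i, hi, rfl⟩
    · exact X_even_mem_of_X_two_mem D hX2 k
    · exact hodd i hi

theorem M3_le_oddClosure [Finite G] (S : Subgroup G) (D : QD ↥S) (T : Subgroup G)
    (hT : IsKleinFour T) (hTS : T ≤ S)
    (h6 : (Subgroup.centralizer (T : Set G)).relIndex (Subgroup.normalizer (T : Set G)) = 6) :
    D.M3.map S.subtype ≤ oddClosure G := by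
  classical
  obtain ⟨ν, hνN, hνodd, hνmove⟩ := klein_odd_mover S D T hT hTS h6
  obtain ⟨-, -, -, hzT, -⟩ := klein_index S D T hT hTS
  set z₀ : G := ((D.z : ↥S) : G) with hz₀
  set b : G := ν * z₀ * ν⁻¹ with hb
  have hbT : b ∈ T := (Subgroup.mem_normalizer_iff.mp hνN z₀).mp hzT
  have hbS : b ∈ S := hTS hbT
  have hb2 : orderOf (⟨b, hbS⟩ : ↥S) = 2 := by
    rw [← Subgroup.orderOf_coe]
    show orderOf (ν * z₀ * ν⁻¹) = 2
    rw [orderOf_conj_eq, hz₀, Subgroup.orderOf_coe]; exact D.orderOf_z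
  have hR1 : z₀⁻¹ * b ∈ oddClosure G := comm_mem_oddClosure hνodd z₀
  rcases (D.orderOf_two_iff _).mp hb2 with h1 | ⟨j, hj, h1⟩
  · exfalso
    apply hνmove
    exact congrArg Subtype.val h1
  · have hbY : b = ((D.Y j : ↥S) : G) := congrArg Subtype.val h1
    have hj' : D.Ev (D.u + j) := D.ev_add D.ev_u hj
    have hR2 : ((D.Y (D.u + j) : ↥S) : G) ∈ oddClosure G := by
      have e : D.Y (D.u + j) = (D.z)⁻¹ * D.Y j := by
        have hzinv : (D.z)⁻¹ = D.z := inv_eq_of_mul_eq_one_left D.z_sq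
        rw [hzinv]
        unfold QD.z
        rw [D.X_mul_Y]
      rw [e]
      have e2 : (((D.z)⁻¹ * D.Y j : ↥S) : G) = z₀⁻¹ * b := by
        rw [hbY]; rfl
      rw [e2]; exact hR1
    have hev : ∀ i : ZMod D.N, D.Ev i → ((D.Y i : ↥S) : G) ∈ oddClosure G := by
      intro i hi
      exact conj_mem_oddClosure (isConj_coe (D.isConj_Y (D.ev_sub hi hj'))) hR2
    have hX2 : ((D.X 2 : ↥S) : G) ∈ oddClosure G := by
      have e : D.X 2 = D.Y 2 * D.Y 0 := by
        rw [D.Y_mul_Y]; congr 1; ring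
      rw [e]
      exact Subgroup.mul_mem _ (hev 2 ⟨1, by ring⟩) (hev 0 D.ev_zero)
    rintro _ ⟨m, hm, rfl⟩
    rcases hm with ⟨i, ⟨k, rfl⟩, rfl⟩ | ⟨i, hi, rfl⟩
    · exact X_even_mem_of_X_two_mem D hX2 k
    · exact hev i hi

end QDF18

end Cfsg.Agent.Lib.Helper9
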