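import Mathlib
import Cfsg.Agent.Lib.Helper9.QDF18
import Cfsg.Agent.Lib.Helper19.TransferTwo

set_option autoImplicit false

namespace Cfsg.Agent.Lib.Helper9

section QDF19

variable {G : Type*} [Group G]

theorem subgroupOf_map_subtype_self {S : Subgroup G} (M : Subgroup ↥S) :
    (M.map S.subtype).subgroupOf S = M :=
  Subgroup.comap_map_eq_self_of_injective S.subtype_injective M

theorem relIndex_map_subtype_eq {S : Subgroup G} (M : Subgroup ↥S) :
    (M.map S.subtype).relIndex S = M.index := by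
  rw [Subgroup.relIndex, subgroupOf_map_subtype_self]

theorem mem_of_isConj_of_normal {K : Subgroup G} [hK : K.Normal] {a b : G} (h : IsConj a b)
    (ha : a ∈ K) : b ∈ K := by
  obtain ⟨c, hc⟩ := isConj_iff.mp h
  rw [← hc]
  exact hK.conj_mem a ha c

theorem X_even_mem_of_index_two {S : Subgroup G} (D : QD ↥S) {K : Subgroup G} (hK : K.index = 2)
    (j : ZMod D.N) : ((D.X (2 * j) : ↥S) : G) ∈ K := by
  have e : D.X (2 * j) = D.X j * D.X j := by
    rw [← D.X_add]; congr 1; ring
  rw [e]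
  exact Subgroup.mul_self_mem_of_index_two hK _

theorem exists_K_M2 [Finite G] (S : Sylow 2 G) (D : QD ↥(S : Subgroup G))
    (hz : ¬ IsConj ((D.z : ↥(S : Subgroup G)) : G) ((D.Y 0 : ↥(S : Subgroup G)) : G))
    (hxY : IsConj ((D.X D.v : ↥(S : Subgroup G)) : G) ((D.Y 1 : ↥(S : Subgroup G)) : G)) :
    ∃ K : Subgroup G, K.Normal ∧ K.index = 2 ∧ K.subgroupOf (S : Subgroup G) = D.M2 := by
  classical
  set M : Subgroup G := D.M2.map (S : Subgroup G).subtype with hM_def
  have hMS : M ≤ (S : Subgroup G) := Subgroup.map_subtype_le _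
  have hM : M.relIndex (S : Subgroup G) = 2 := by
    rw [hM_def, relIndex_map_subtype_eq]; exact D.index_M2
  have hoY0 : orderOf ((D.Y 0 : ↥(S : Subgroup G)) : G) = 2 ^ 1 := by
    rw [Subgroup.orderOf_coe, pow_one]; exact D.orderOf_Y_even D.ev_zero
  obtain ⟨K, hKn, hKi, hKY⟩ := Cfsg.Agent.Lib.Helper19.exists_index_two_of_not_conj_mem S M hMS hM
    1 le_rfl
    (by
      intro y _ hyM
      have hpos : 0 < orderOf y := orderOf_pos y
      have hne : orderOf y ≠ 1 := by
        intro h1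
        rw [orderOf_eq_one_iff] at h1
        exact hyM (h1 ▸ M.one_mem)
      simp only [Nat.sub_self, pow_zero]
      omega)
    ((D.Y 0 : ↥(S : Subgroup G)) : G) (D.Y 0).2 hoY0
    (by
      rintro g ⟨m, hm, hmg⟩
      have hmo : orderOf m = 2 := by
        rw [← Subgroup.orderOf_coe]
        show orderOf ((S : Subgroup G).subtype m) = 2
        rw [hmg, orderOf_conj_eq, hoY0, pow_one]
      rcases (D.orderOf_two_iff _).mp hmo with h1 | ⟨i, hi, h1⟩
      · apply hz
        have : IsConj ((D.Y 0 : ↥(S : Subgroup G)) : G) ((D.z : ↥(S : Subgroup G)) : G) := by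
          rw [isConj_iff]
          refine ⟨g, ?_⟩
          rw [← hmg, h1]; rfl
        exact this.symm
      · rw [h1] at hm
        exact (D.Y_mem_M2 i).mp hm hi)
  refine ⟨K, hKn, hKi, ?_⟩
  haveI := hKn
  have hxv : ((D.X D.v : ↥(S : Subgroup G)) : G) ∈ K := by
    have e : D.X D.v = D.X D.w * D.X D.w := by
      rw [← D.X_add, ← D.two_w]; congr 1; ring
    rw [e]
    exact Subgroup.mul_self_mem_of_index_two hKi _
  have hY1 : ((D.Y 1 : ↥(S : Subgroup G)) : G) ∈ K := mem_of_isConj_of_normal hxY hxv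
  have hle : D.M2 ≤ K.subgroupOf (S : Subgroup G) := by
    rintro m (⟨i, ⟨j, rfl⟩, rfl⟩ | ⟨i, hi, rfl⟩)
    · rw [Subgroup.mem_subgroupOf]; exact X_even_mem_of_index_two D hKi j
    · rw [Subgroup.mem_subgroupOf]
      exact mem_of_isConj_of_normal (isConj_Y_Y1 D hi).symm hY1
  have hne : K.subgroupOf (S : Subgroup G) ≠ ⊤ := by
    intro h
    apply hKY
    have : (D.Y 0 : ↥(S : Subgroup G)) ∈ K.subgroupOf (S : Subgroup G) := by rw [h]; trivial
    exact Subgroup.mem_subgroupOf.mp this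
  rcases eq_or_lt_of_le hle with h | h
  · exact h.symm
  · exact absurd (D.isCoatom_M2.2 _ h) hne

theorem exists_K_M3 [Finite G] (S : Sylow 2 G) (D : QD ↥(S : Subgroup G))
    (hzY : IsConj ((D.z : ↥(S : Subgroup G)) : G) ((D.Y 0 : ↥(S : Subgroup G)) : G))
    (hx : ¬ IsConj ((D.X D.v : ↥(S : Subgroup G)) : G) ((D.Y 1 : ↥(S : Subgroup G)) : G)) :
    ∃ K : Subgroup G, K.Normal ∧ K.index = 2 ∧ K.subgroupOf (S : Subgroup G) = D.M3 := by
  classical
  set M : Subgroup G := D.M3.map (S : Subgroup G).subtype with hM_def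
  have hMS : M ≤ (S : Subgroup G) := Subgroup.map_subtype_le _
  have hM : M.relIndex (S : Subgroup G) = 2 := by
    rw [hM_def, relIndex_map_subtype_eq]; exact D.index_M3
  have hoY1 : orderOf ((D.Y 1 : ↥(S : Subgroup G)) : G) = 2 ^ 2 := by
    rw [Subgroup.orderOf_coe]; exact D.orderOf_Y_odd D.not_ev_one
  obtain ⟨K, hKn, hKi, hKY⟩ := Cfsg.Agent.Lib.Helper19.exists_index_two_of_not_conj_mem S M hMS hM
    2 (by norm_num)
    (by
      intro y hyS hyM
      have hpos : 0 < orderOf y := orderOf_pos y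
      have hne1 : orderOf y ≠ 1 := by
        intro h1
        rw [orderOf_eq_one_iff] at h1
        exact hyM (h1 ▸ M.one_mem)
      have hne2 : orderOf y ≠ 2 := by
        intro h2
        apply hyM
        have h3 : orderOf (⟨y, hyS⟩ : ↥(S : Subgroup G)) = 2 := by
          rw [← Subgroup.orderOf_coe]; exact h2
        refine ⟨⟨y, hyS⟩, ?_, rfl⟩
        rcases (D.orderOf_two_iff _).mp h3 with h4 | ⟨i, hi, h4⟩
        · rw [h4]; exact D.z_mem_M3
        · rw [h4]; exact (D.Y_mem_M3 i).mpr hi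
      simp only [Nat.add_one_sub_one, pow_one]
      omega)
    ((D.Y 1 : ↥(S : Subgroup G)) : G) (D.Y 1).2 hoY1
    (by
      rintro g ⟨m, hm, hmg⟩
      have hmo : orderOf m = 4 := by
        rw [← Subgroup.orderOf_coe]
        show orderOf ((S : Subgroup G).subtype m) = 4
        rw [hmg, orderOf_conj_eq]; exact hoY1
      have hc : IsConj ((D.Y 1 : ↥(S : Subgroup G)) : G) (m : G) := by
        rw [isConj_iff]
        exact ⟨g, hmg.symm⟩
      rcases (D.orderOf_four_iff _).mp hmo with h1 | h1 | ⟨i, hi, h1⟩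
      · apply hx
        rw [h1] at hc
        exact hc.symm
      · apply hx
        rw [h1] at hc
        have h2 : IsConj ((D.X D.v : ↥(S : Subgroup G)) : G) ((D.X (-D.v) : ↥(S : Subgroup G)) : G) :=
          isConj_coe (D.isConj_X_neg D.v D.u_mul_v)
        exact h2.trans hc.symm
      · rw [h1] at hm
        exact hi ((D.Y_mem_M3 i).mp hm))
  refine ⟨K, hKn, hKi, ?_⟩
  haveI := hKn
  have hz : ((D.z : ↥(S : Subgroup G)) : G) ∈ K := by
    have e : D.z = D.Y 1 * D.Y 1 := by
      have := D.Y_sq_odd 0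
      simpa using this.symm
    rw [e]
    exact Subgroup.mul_self_mem_of_index_two hKi _
  have hY0 : ((D.Y 0 : ↥(S : Subgroup G)) : G) ∈ K := mem_of_isConj_of_normal hzY hz
  have hle : D.M3 ≤ K.subgroupOf (S : Subgroup G) := by
    rintro m (⟨i, ⟨j, rfl⟩, rfl⟩ | ⟨i, hi, rfl⟩)
    · rw [Subgroup.mem_subgroupOf]; exact X_even_mem_of_index_two D hKi j
    · rw [Subgroup.mem_subgroupOf]
      exact mem_of_isConj_of_normal (isConj_Y_Y0 D hi).symm hY0
  have hne : K.subgroupOf (S : Subgroup G) ≠ ⊤ := by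
    intro h
    apply hKY
    have : (D.Y 1 : ↥(S : Subgroup G)) ∈ K.subgroupOf (S : Subgroup G) := by rw [h]; trivial
    exact Subgroup.mem_subgroupOf.mp this
  rcases eq_or_lt_of_le hle with h | h
  · exact h.symm
  · exact absurd (D.isCoatom_M3.2 _ h) hne

end QDF19

end Cfsg.Agent.Lib.Helper9
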