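import Mathlib
import Cfsg.Agent.Lib.Helper9.QDF19

set_option autoImplicit false

namespace Cfsg.Agent.Lib.Helper9

section WF1

variable {G : Type*} [Group G]

/-- conjugation action of a subgroup `Nn ≤ N_G(T)` on the non-identity elements of `T` -/
@[reducible] def conjActPtsOf (T Nn : Subgroup G) (hN : Nn ≤ Subgroup.normalizer (T : Set G)) :
    MulAction ↥Nn {t : G // t ∈ T ∧ t ≠ 1} where
  smul g t := ⟨(g : G) * t.1 * (g : G)⁻¹, (Subgroup.mem_normalizer_iff.mp (hN g.2) t.1).mp t.2.1,
    fun h => t.2.2 (by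
      have h1 : (g : G)⁻¹ * ((g : G) * t.1 * (g : G)⁻¹) * (g : G) = t.1 := by group
      rw [h] at h1
      rw [← h1]; group)⟩
  one_smul t := by
    apply Subtype.ext
    show ((1 : ↥Nn) : G) * t.1 * ((1 : ↥Nn) : G)⁻¹ = t.1
    simp
  mul_smul g h t := by
    apply Subtype.ext
    show ((g * h : ↥Nn) : G) * t.1 * ((g * h : ↥Nn) : G)⁻¹ =
      (g : G) * ((h : G) * t.1 * (h : G)⁻¹) * (g : G)⁻¹
    simp [mul_assoc]

theorem conjActPtsOf_smul_val (T Nn : Subgroup G) (hN : Nn ≤ Subgroup.normalizer (T : Set G))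
    (g : ↥Nn) (t : {t : G // t ∈ T ∧ t ≠ 1}) :
    (letI := conjActPtsOf T Nn hN; (g • t).1) = (g : G) * t.1 * (g : G)⁻¹ := rfl

theorem conjActPtsOf_ker (T Nn : Subgroup G) (hN : Nn ≤ Subgroup.normalizer (T : Set G)) :
    (letI := conjActPtsOf T Nn hN;
      (MulAction.toPermHom ↥Nn {t : G // t ∈ T ∧ t ≠ 1}).ker) =
      (Subgroup.centralizer (T : Set G)).subgroupOf Nn := by
  letI := conjActPtsOf T Nn hN
  ext g
  rw [MonoidHom.mem_ker, Subgroup.mem_subgroupOf, Subgroup.mem_centralizer_iff]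
  constructor
  · intro h t ht
    by_cases h1 : t = 1
    · rw [h1]; simp
    · have h2 := congrArg (fun σ : Equiv.Perm {t : G // t ∈ T ∧ t ≠ 1} => (σ ⟨t, ht, h1⟩).1) h
      simp only [MulAction.toPermHom_apply, MulAction.toPerm_apply, Equiv.Perm.coe_one, id_eq] at h2
      rw [conjActPtsOf_smul_val] at h2
      have h3 : (g : G) * t = t * (g : G) := by
        calc (g : G) * t = ((g : G) * t * (g : G)⁻¹) * (g : G) := by group
          _ = t * (g : G) := by rw [h2]
      exact h3.symm
  · intro h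
    ext t
    simp only [MulAction.toPermHom_apply, MulAction.toPerm_apply, Equiv.Perm.coe_one, id_eq]
    rw [conjActPtsOf_smul_val]
    have h2 := h t.1 t.2.1
    calc (g : G) * t.1 * (g : G)⁻¹ = (t.1 * (g : G)) * (g : G)⁻¹ := by rw [h2]
      _ = t.1 := by group

/-- an element lies in a subgroup as soon as two coprime powers of it do -/
theorem mem_of_pow_mem_of_coprime {H : Subgroup G} {k : G} {a b : ℕ} (hab : Nat.Coprime a b)
    (ha : k ^ a ∈ H) (hb : k ^ b ∈ H) : k ∈ H := by
  obtain ⟨α, β, hαβ⟩ := (Nat.isCoprime_iff_coprime.mpr hab)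
  have h1 : k = (k ^ a) ^ α * (k ^ b) ^ β := by
    rw [← zpow_natCast k a, ← zpow_natCast k b, ← zpow_mul, ← zpow_mul, ← zpow_add]
    have : (a : ℤ) * α + (b : ℤ) * β = 1 := by linarith
    rw [this, zpow_one]
  rw [h1]
  exact H.mul_mem (H.zpow_mem ha α) (H.zpow_mem hb β)

/-- split an element of a finite group into a `2`-part and an odd part -/
theorem exists_two_odd_parts [Finite G] (k : G) :
    ∃ e r : ℕ, Odd r ∧ Nat.Coprime (2 ^ e) r ∧ orderOf (k ^ (2 ^ e)) = r ∧
      orderOf (k ^ r) = 2 ^ e := by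
  have ho : orderOf k ≠ 0 := (orderOf_pos k).ne'
  obtain ⟨e, r, hr, hor⟩ := Nat.exists_eq_two_pow_mul_odd ho
  refine ⟨e, r, hr, ?_, ?_, ?_⟩
  · exact Nat.Coprime.pow_left _ (Nat.coprime_two_left.mpr hr)
  · rw [orderOf_pow_of_dvd (by positivity) (by rw [hor]; exact dvd_mul_right _ _), hor,
      Nat.mul_div_cancel_left _ (by positivity)]
  · have hrpos : r ≠ 0 := by
      rintro rfl
      simp at hr
    rw [orderOf_pow_of_dvd hrpos (by rw [hor]; exact dvd_mul_left _ _), hor,
      Nat.mul_div_cancel _ (Nat.pos_of_ne_zero hrpos)]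

/-- an automorphism of odd order of an abelian `2`-group which fixes the involutions is trivial -/
theorem abelian_odd_centralizes [Finite G] (U : Subgroup G) (hUab : ∀ a ∈ U, ∀ b ∈ U, a * b = b * a)
    (hU2 : IsPGroup 2 U) {g : G} (hgN : g ∈ Subgroup.normalizer (U : Set G))
    (hg : Odd (orderOf g)) (hinv : ∀ a ∈ U, orderOf a = 2 → g * a * g⁻¹ = a) :
    g ∈ Subgroup.centralizer (U : Set G) := by
  have key : ∀ m : ℕ, ∀ a ∈ U, a ^ (2 ^ m) = 1 → g * a * g⁻¹ = a := by
    intro m
    induction m with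
    | zero =>
      intro a _ ha
      rw [pow_zero, pow_one] at ha
      rw [ha]; group
    | succ m ih =>
      intro a haU ha
      have ha2 : (a * a) ^ (2 ^ m) = 1 := by
        rw [← pow_two, ← pow_mul, ← pow_succ']; exact ha
      have h1 := ih (a * a) (U.mul_mem haU haU) ha2
      set b := g * a * g⁻¹ with hb
      have hbU : b ∈ U := (Subgroup.mem_normalizer_iff.mp hgN a).mp haU
      have hbb : b * b = a * a := by
        rw [← h1, hb]; group
      set c := a⁻¹ * b with hc
      have hcU : c ∈ U := U.mul_mem (U.inv_mem haU) hbU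
      have hcc : c * c = 1 := by
        have e1 : a⁻¹ * b * (a⁻¹ * b) = a⁻¹ * (b * a⁻¹) * b := by group
        have e2 : b * a⁻¹ = a⁻¹ * b := hUab b hbU a⁻¹ (U.inv_mem haU)
        rw [hc, e1, e2]
        have e3 : a⁻¹ * (a⁻¹ * b) * b = a⁻¹ * a⁻¹ * (b * b) := by group
        rw [e3, hbb]; group
      have hgc : g * c * g⁻¹ = c := by
        by_cases hc1 : c = 1
        · rw [hc1]; group
        · apply hinv c hcU
          exact orderOf_eq_prime (by rw [pow_two]; exact hcc) hc1
      have hbac : b = a * c := by rw [hc]; group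
      have hpow : ∀ k : ℕ, g ^ k * a * (g ^ k)⁻¹ = a * c ^ k := by
        intro k
        induction k with
        | zero => simp
        | succ k ihk =>
          have e1 : g ^ (k + 1) * a * (g ^ (k + 1))⁻¹ = g * (g ^ k * a * (g ^ k)⁻¹) * g⁻¹ := by
            rw [pow_succ']; group
          rw [e1, ihk]
          have e2 : g * (a * c ^ k) * g⁻¹ = (g * a * g⁻¹) * (g * c * g⁻¹) ^ k := by
            rw [conj_pow]; group
          rw [e2, hgc, ← hb, hbac, pow_succ]
          have e3 : c ^ k * c = c * c ^ k := (Commute.pow_self c k).eq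
          rw [e3, mul_assoc]
      have h2 := hpow (orderOf g)
      rw [pow_orderOf_eq_one] at h2
      have h3 : c ^ orderOf g = 1 := by
        have : a = a * c ^ orderOf g := by simpa using h2
        exact (mul_eq_left.mp this.symm)
      obtain ⟨j, hj⟩ := hg
      have h4 : c ^ (2 * j) = 1 := by rw [pow_mul, pow_two, hcc, one_pow]
      have h5 : c = 1 := by
        rw [hj, pow_succ, h4, one_mul] at h3
        exact h3
      rw [hbac, h5, mul_one]
  rw [Subgroup.mem_centralizer_iff]
  intro a ha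
  obtain ⟨m, hm⟩ := hU2 ⟨a, ha⟩
  have ham : a ^ (2 ^ m) = 1 := by
    have := congrArg Subtype.val hm
    simpa using this
  have h1 := key m a ha ham
  calc a * g = (g * a * g⁻¹) * g := by rw [h1]
    _ = g * a := by group

end WF1

end Cfsg.Agent.Lib.Helper9
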