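import Mathlib
import Cfsg.Prelude.Def_CaseTheorems
import Cfsg.Agent.Lib.helper14.Quat

set_option autoImplicit false

namespace Cfsg.Agent.Lib.Helper9

open Cfsg.Agent.Lib.helper14

/-- data of a wreathed 2-group -/
structure WD (S : Type*) [Group S] where
  n : ℕ
  hn : 2 ≤ n
  card : Nat.card S = 2 ^ (2 * n + 1)
  x : S
  y : S
  z : S
  hx : orderOf x = 2 ^ n
  hxy : x * y = y * x
  hdisj : Subgroup.zpowers x ⊓ Subgroup.zpowers y = ⊥
  hz : orderOf z = 2
  hc : z * x * z⁻¹ = y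

theorem exists_wd {S : Type*} [Group S] (h : Cfsg.IsWreathed S) : Nonempty (WD S) := by
  obtain ⟨n, hn, hcard, x, y, z, hx, hxy, hd, hz, hc⟩ := h
  exact ⟨⟨n, hn, hcard, x, y, z, hx, hxy, hd, hz, hc⟩⟩

namespace WD

variable {S : Type*} [Group S] (D : WD S)

/-- the modulus -/
def N : ℕ := 2 ^ D.n

instance : NeZero D.N := ⟨by unfold N; positivity⟩

theorem z_sq : D.z * D.z = 1 := by
  have := pow_orderOf_eq_one D.z
  rw [D.hz, pow_two] at this
  exact this

theorem z_inv : D.z⁻¹ = D.z := inv_eq_of_mul_eq_one_left D.z_sq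

theorem hc' : D.z * D.y * D.z⁻¹ = D.x := by
  rw [← D.hc]
  have := D.z_sq
  calc D.z * (D.z * D.x * D.z⁻¹) * D.z⁻¹ = (D.z * D.z) * D.x * (D.z * D.z)⁻¹ := by group
    _ = D.x := by rw [this]; group

theorem hy : orderOf D.y = 2 ^ D.n := by
  rw [← D.hx]
  symm
  apply SemiconjBy.orderOf_eq D.z
  show D.z * D.x = D.y * D.z
  rw [← D.hc]; group

theorem x_pow_N : D.x ^ D.N = 1 := by
  unfold N; rw [← D.hx]; exact pow_orderOf_eq_one _

theorem y_pow_N : D.y ^ D.N = 1 := by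
  unfold N; rw [← D.hy]; exact pow_orderOf_eq_one _

/-- powers of `x` -/
noncomputable def X (i : ZMod D.N) : S := zmodPow D.N D.x D.x_pow_N i

/-- powers of `y` -/
noncomputable def Yp (i : ZMod D.N) : S := zmodPow D.N D.y D.y_pow_N i

theorem X_eq_pow (i : ZMod D.N) : D.X i = D.x ^ i.val := zmodPow_eq_pow _ _ _ _
theorem Yp_eq_pow (i : ZMod D.N) : D.Yp i = D.y ^ i.val := zmodPow_eq_pow _ _ _ _

theorem X_add (i j : ZMod D.N) : D.X (i + j) = D.X i * D.X j := zmodPow_add _ _ _ _ _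
theorem Yp_add (i j : ZMod D.N) : D.Yp (i + j) = D.Yp i * D.Yp j := zmodPow_add _ _ _ _ _
theorem X_zero : D.X 0 = 1 := zmodPow_zero _ _ _
theorem Yp_zero : D.Yp 0 = 1 := zmodPow_zero _ _ _
theorem X_neg (i : ZMod D.N) : D.X (-i) = (D.X i)⁻¹ := zmodPow_neg _ _ _ _
theorem Yp_neg (i : ZMod D.N) : D.Yp (-i) = (D.Yp i)⁻¹ := zmodPow_neg _ _ _ _

theorem X_comm_Yp (i j : ZMod D.N) : D.X i * D.Yp j = D.Yp j * D.X i := by
  rw [X_eq_pow, Yp_eq_pow]
  have h : Commute D.x D.y := D.hxy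
  exact (h.pow_pow _ _).eq

theorem X_eq_one (i : ZMod D.N) (h : D.X i = 1) : i = 0 :=
  zmodPow_eq_one D.N D.x D.x_pow_N (by unfold N; exact D.hx) i h

theorem Yp_eq_one (i : ZMod D.N) (h : D.Yp i = 1) : i = 0 :=
  zmodPow_eq_one D.N D.y D.y_pow_N (by unfold N; exact D.hy) i h

theorem z_X (i : ZMod D.N) : D.z * D.X i = D.Yp i * D.z := by
  rw [X_eq_pow, Yp_eq_pow]
  have : D.z * D.x ^ i.val * D.z⁻¹ = D.y ^ i.val := by
    rw [← conj_pow, D.hc]
  rw [← this]; group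

theorem z_Yp (i : ZMod D.N) : D.z * D.Yp i = D.X i * D.z := by
  rw [X_eq_pow, Yp_eq_pow]
  have : D.z * D.y ^ i.val * D.z⁻¹ = D.x ^ i.val := by
    rw [← conj_pow, D.hc']
  rw [← this]; group

/-- elements of the base group -/
noncomputable def A (i j : ZMod D.N) : S := D.X i * D.Yp j

/-- elements outside the base group -/
noncomputable def B (i j : ZMod D.N) : S := D.A i j * D.z

theorem A_mul_A (i j k l : ZMod D.N) : D.A i j * D.A k l = D.A (i + k) (j + l) := by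
  unfold A
  rw [X_add, Yp_add]
  calc D.X i * D.Yp j * (D.X k * D.Yp l) = D.X i * (D.Yp j * D.X k) * D.Yp l := by group
    _ = D.X i * (D.X k * D.Yp j) * D.Yp l := by rw [D.X_comm_Yp]
    _ = D.X i * D.X k * (D.Yp j * D.Yp l) := by group

theorem A_zero : D.A 0 0 = 1 := by unfold A; rw [X_zero, Yp_zero, one_mul]

theorem A_inv (i j : ZMod D.N) : (D.A i j)⁻¹ = D.A (-i) (-j) := by
  apply inv_eq_of_mul_eq_one_right
  rw [A_mul_A, add_neg_cancel, add_neg_cancel, A_zero]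

theorem z_A (i j : ZMod D.N) : D.z * D.A i j = D.A j i * D.z := by
  unfold A
  calc D.z * (D.X i * D.Yp j) = (D.z * D.X i) * D.Yp j := by group
    _ = D.Yp i * (D.z * D.Yp j) := by rw [D.z_X]; group
    _ = D.Yp i * (D.X j * D.z) := by rw [D.z_Yp]
    _ = (D.Yp i * D.X j) * D.z := by group
    _ = D.X j * D.Yp i * D.z := by rw [← D.X_comm_Yp]

theorem A_eq_one (i j : ZMod D.N) (h : D.A i j = 1) : i = 0 ∧ j = 0 := by
  unfold A at h
  have h1 : D.X i = (D.Yp j)⁻¹ := eq_inv_of_mul_eq_one_left h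
  have hmem : D.X i ∈ Subgroup.zpowers D.x ⊓ Subgroup.zpowers D.y := by
    constructor
    · rw [X_eq_pow]; exact Subgroup.pow_mem _ (Subgroup.mem_zpowers _) _
    · rw [h1, Yp_eq_pow]
      exact Subgroup.inv_mem _ (Subgroup.pow_mem _ (Subgroup.mem_zpowers _) _)
  rw [D.hdisj, Subgroup.mem_bot] at hmem
  have hi := D.X_eq_one i hmem
  rw [hmem] at h1
  have h2 : D.Yp j = 1 := by
    have := congrArg (·⁻¹) h1
    simpa using this.symm
  exact ⟨hi, D.Yp_eq_one j h2⟩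

theorem A_inj {i j k l : ZMod D.N} (h : D.A i j = D.A k l) : i = k ∧ j = l := by
  have : D.A (i - k) (j - l) = 1 := by
    have e : D.A (i - k) (j - l) = D.A i j * (D.A k l)⁻¹ := by
      rw [A_inv, A_mul_A]; congr 1 <;> ring
    rw [e, h, mul_inv_cancel]
  obtain ⟨h1, h2⟩ := D.A_eq_one _ _ this
  exact ⟨sub_eq_zero.mp h1, sub_eq_zero.mp h2⟩

theorem A_mul_B (i j k l : ZMod D.N) : D.A i j * D.B k l = D.B (i + k) (j + l) := by
  unfold B; rw [← mul_assoc, A_mul_A]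

theorem B_mul_A (i j k l : ZMod D.N) : D.B i j * D.A k l = D.B (i + l) (j + k) := by
  unfold B; rw [mul_assoc, D.z_A, ← mul_assoc, A_mul_A]

theorem B_mul_B (i j k l : ZMod D.N) : D.B i j * D.B k l = D.A (i + l) (j + k) := by
  unfold B
  calc D.A i j * D.z * (D.A k l * D.z) = D.A i j * (D.z * D.A k l) * D.z := by group
    _ = D.A i j * (D.A l k * D.z) * D.z := by rw [D.z_A]
    _ = D.A i j * D.A l k * (D.z * D.z) := by group
    _ = D.A (i + l) (j + k) := by rw [D.z_sq, mul_one, A_mul_A]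

theorem B_zero : D.B 0 0 = D.z := by unfold B; rw [A_zero, one_mul]

theorem B_inv (i j : ZMod D.N) : (D.B i j)⁻¹ = D.B (-j) (-i) := by
  apply inv_eq_of_mul_eq_one_right
  rw [B_mul_B, add_neg_cancel, add_neg_cancel, A_zero]

/-- the base group -/
noncomputable def U : Subgroup S where
  carrier := {g | ∃ i j, g = D.A i j}
  one_mem' := ⟨0, 0, D.A_zero.symm⟩
  mul_mem' := by
    rintro a b ⟨i, j, rfl⟩ ⟨k, l, rfl⟩
    exact ⟨i + k, j + l, D.A_mul_A i j k l⟩
  inv_mem' := by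
    rintro a ⟨i, j, rfl⟩
    exact ⟨-i, -j, D.A_inv i j⟩

theorem mem_U (g : S) : g ∈ D.U ↔ ∃ i j, g = D.A i j := Iff.rfl

theorem A_mem_U (i j : ZMod D.N) : D.A i j ∈ D.U := ⟨i, j, rfl⟩

theorem card_U : Nat.card D.U = 2 ^ (2 * D.n) := by
  have hbij : Function.Bijective (fun p : ZMod D.N × ZMod D.N => (⟨D.A p.1 p.2, D.A_mem_U _ _⟩ : D.U)) := by
    constructor
    · rintro ⟨i, j⟩ ⟨k, l⟩ h
      have := D.A_inj (congrArg Subtype.val h)
      exact Prod.ext this.1 this.2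
    · rintro ⟨g, i, j, rfl⟩
      exact ⟨(i, j), rfl⟩
  rw [← Nat.card_congr (Equiv.ofBijective _ hbij), Nat.card_prod, Nat.card_zmod]
  unfold N
  rw [← pow_add]
  congr 1
  ring

theorem index_U : D.U.index = 2 := by
  have h := D.U.card_mul_index
  rw [D.card_U, D.card, pow_succ] at h
  exact Nat.eq_of_mul_eq_mul_left (by positivity) h

theorem x_ne_one : D.x ≠ 1 := by
  intro h
  have := D.hx
  rw [h, orderOf_one] at this
  have h2 : 2 ^ D.n ≥ 2 ^ 2 := Nat.pow_le_pow_right (by norm_num) D.hn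
  omega

theorem z_notMem_U : D.z ∉ D.U := by
  rintro ⟨i, j, h⟩
  -- then z commutes with x
  have hcomm : D.z * D.x = D.x * D.z := by
    have h1 : D.x = D.A 1 0 := by
      unfold A
      rw [Yp_zero, mul_one, X_eq_pow]
      have : (1 : ZMod D.N).val = 1 := by
        apply ZMod.val_one''
        unfold N
        have h2 : 2 ^ D.n ≥ 2 ^ 2 := Nat.pow_le_pow_right (by norm_num) D.hn
        omega
      rw [this, pow_one]
    rw [h, h1, A_mul_A, A_mul_A]
    congr 1 <;> ring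
  have h2 : D.y = D.x := by
    rw [← D.hc, hcomm]; group
  have hmem : D.x ∈ Subgroup.zpowers D.x ⊓ Subgroup.zpowers D.y := by
    constructor
    · exact Subgroup.mem_zpowers _
    · rw [h2]; exact Subgroup.mem_zpowers _
  rw [D.hdisj, Subgroup.mem_bot] at hmem
  exact D.x_ne_one hmem

theorem B_notMem_U (i j : ZMod D.N) : D.B i j ∉ D.U := by
  intro h
  apply D.z_notMem_U
  have : D.z = (D.A i j)⁻¹ * D.B i j := by unfold B; group
  rw [this]
  exact D.U.mul_mem (D.U.inv_mem (D.A_mem_U i j)) h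

theorem B_ne_A (i j k l : ZMod D.N) : D.B i j ≠ D.A k l := by
  intro h
  apply D.B_notMem_U i j
  rw [h]; exact D.A_mem_U k l

theorem B_inj {i j k l : ZMod D.N} (h : D.B i j = D.B k l) : i = k ∧ j = l := by
  unfold B at h
  exact D.A_inj (mul_right_cancel h)

theorem cases (g : S) : (∃ i j, g = D.A i j) ∨ (∃ i j, g = D.B i j) := by
  by_cases h : g ∈ D.U
  · left; exact h
  · right
    have h1 : g * D.z ∈ D.U := by
      rw [Subgroup.mul_mem_iff_of_index_two D.index_U]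
      exact iff_of_false h D.z_notMem_U
    obtain ⟨i, j, hij⟩ := h1
    refine ⟨i, j, ?_⟩
    unfold B
    rw [← hij, mul_assoc, D.z_sq, mul_one]

theorem A_conj_A (i j k l : ZMod D.N) : D.A i j * D.A k l * (D.A i j)⁻¹ = D.A k l := by
  rw [A_inv, A_mul_A, A_mul_A]; congr 1 <;> ring

theorem A_conj_B (i j k l : ZMod D.N) :
    D.A i j * D.B k l * (D.A i j)⁻¹ = D.B (k + i - j) (l + j - i) := by
  rw [A_inv, A_mul_B, B_mul_A]; congr 1 <;> ring

theorem B_conj_A (i j k l : ZMod D.N) : D.B i j * D.A k l * (D.B i j)⁻¹ = D.A l k := by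
  rw [B_inv, B_mul_A, B_mul_B]; congr 1 <;> ring

theorem B_conj_B (i j k l : ZMod D.N) :
    D.B i j * D.B k l * (D.B i j)⁻¹ = D.B (l + i - j) (k + j - i) := by
  rw [B_inv, B_mul_B, A_mul_B]; congr 1 <;> ring

end WD

end Cfsg.Agent.Lib.Helper9
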