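import Mathlib
import Cfsg.Agent.Lib.Helper9.Wr

set_option autoImplicit false

namespace Cfsg.Agent.Lib.Helper9

theorem card_subtype_eq_three {α : Type*} (P : α → Prop) (a b c : α) (hab : a ≠ b) (hac : a ≠ c)
    (hbc : b ≠ c) (ha : P a) (hb : P b) (hc : P c) (h : ∀ d, P d → d = a ∨ d = b ∨ d = c) :
    Nat.card {d // P d} = 3 := by
  have hbij : Function.Bijective (fun i : Fin 3 => (![⟨a, ha⟩, ⟨b, hb⟩, ⟨c, hc⟩] i : {d // P d})) := by
    constructor
    · intro i j hij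
      fin_cases i <;> fin_cases j <;> simp_all [Subtype.ext_iff]
    · rintro ⟨d, hd⟩
      rcases h d hd with rfl | rfl | rfl
      · exact ⟨0, rfl⟩
      · exact ⟨1, rfl⟩
      · exact ⟨2, rfl⟩
  rw [← Nat.card_congr (Equiv.ofBijective _ hbij)]
  simp

namespace WD

variable {S : Type*} [Group S] (D : WD S)

/-- `2 ^ (n - 1)` -/
def u : ZMod D.N := ((2 ^ (D.n - 1) : ℕ) : ZMod D.N)

theorem N_eq : D.N = 2 * 2 ^ (D.n - 1) := by
  unfold N
  rw [← pow_succ']
  congr 1
  have := D.hn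
  omega

theorem two_u : 2 * D.u = 0 := by
  have h : ((2 * 2 ^ (D.n - 1) : ℕ) : ZMod D.N) = 0 := by
    rw [ZMod.natCast_eq_zero_iff, ← D.N_eq]
  unfold u
  push_cast at h ⊢
  exact h

theorem u_ne_zero : D.u ≠ 0 := by
  unfold u
  rw [Ne, ZMod.natCast_eq_zero_iff]
  intro h
  have h1 : 2 ^ (D.n - 1) < D.N := by
    rw [D.N_eq]
    have : 0 < 2 ^ (D.n - 1) := by positivity
    omega
  exact absurd (Nat.le_of_dvd (by positivity) h) (by omega)

theorem two_mul_eq_zero (i : ZMod D.N) (h : 2 * i = 0) : i = 0 ∨ i = D.u := by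
  have h1 : ((2 * i.val : ℕ) : ZMod D.N) = 0 := by
    push_cast
    rw [ZMod.natCast_zmod_val]
    exact h
  rw [ZMod.natCast_eq_zero_iff] at h1
  have hN := D.N_eq
  have h2 : 2 ^ (D.n - 1) ∣ i.val := by
    obtain ⟨c, hc⟩ := h1
    refine ⟨c, ?_⟩
    have h3 : 2 * i.val = 2 * (2 ^ (D.n - 1) * c) := by
      calc 2 * i.val = D.N * c := hc
        _ = (2 * 2 ^ (D.n - 1)) * c := by rw [← hN]
        _ = 2 * (2 ^ (D.n - 1) * c) := by ring
    exact Nat.eq_of_mul_eq_mul_left (by norm_num) h3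
  obtain ⟨t, ht⟩ := h2
  have hlt0 : i.val < D.N := ZMod.val_lt i
  have hlt : 2 ^ (D.n - 1) * t < 2 * 2 ^ (D.n - 1) := by
    have := lt_of_lt_of_eq hlt0 hN
    rwa [ht] at this
  have hpos : 0 < 2 ^ (D.n - 1) := by positivity
  have ht2 : t < 2 := by
    by_contra hcon
    push Not at hcon
    have : 2 ^ (D.n - 1) * 2 ≤ 2 ^ (D.n - 1) * t := Nat.mul_le_mul_left _ hcon
    omega
  interval_cases t
  · left
    rw [mul_zero] at ht
    exact (ZMod.val_eq_zero i).mp ht
  · right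
    rw [mul_one] at ht
    unfold u
    rw [← ht, ZMod.natCast_zmod_val]

/-- involutions -/
theorem orderOf_two_iff (g : S) :
    orderOf g = 2 ↔ g = D.A D.u D.u ∨ g = D.A D.u 0 ∨ g = D.A 0 D.u ∨ ∃ i, g = D.B i (-i) := by
  rw [orderOf_eq_prime_iff, pow_two]
  constructor
  · rintro ⟨h1, h2⟩
    rcases D.cases g with ⟨i, j, rfl⟩ | ⟨i, j, rfl⟩
    · rw [D.A_mul_A] at h1
      obtain ⟨hi, hj⟩ := D.A_eq_one _ _ h1
      have hi' : 2 * i = 0 := by linear_combination hi
      have hj' : 2 * j = 0 := by linear_combination hj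
      rcases D.two_mul_eq_zero i hi' with rfl | rfl <;> rcases D.two_mul_eq_zero j hj' with rfl | rfl
      · exact absurd D.A_zero h2
      · right; right; left; rfl
      · right; left; rfl
      · left; rfl
    · right; right; right
      rw [D.B_mul_B] at h1
      obtain ⟨hi, -⟩ := D.A_eq_one _ _ h1
      refine ⟨i, ?_⟩
      congr 1
      linear_combination hi
  · have hA : ∀ i j : ZMod D.N, 2 * i = 0 → 2 * j = 0 → (i ≠ 0 ∨ j ≠ 0) →
        D.A i j * D.A i j = 1 ∧ D.A i j ≠ 1 := by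
      intro i j hi hj hne
      constructor
      · rw [D.A_mul_A]
        have e1 : i + i = 0 := by linear_combination hi
        have e2 : j + j = 0 := by linear_combination hj
        rw [e1, e2, D.A_zero]
      · intro h
        obtain ⟨h1, h2⟩ := D.A_eq_one _ _ h
        rcases hne with h3 | h3
        · exact h3 h1
        · exact h3 h2
    rintro (rfl | rfl | rfl | ⟨i, rfl⟩)
    · exact hA _ _ D.two_u D.two_u (Or.inl D.u_ne_zero)
    · exact hA _ _ D.two_u (by ring) (Or.inl D.u_ne_zero)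
    · exact hA _ _ (by ring) D.two_u (Or.inr D.u_ne_zero)
    · constructor
      · rw [D.B_mul_B]
        have e1 : i + -i = 0 := by ring
        have e2 : -i + i = 0 := by ring
        rw [e1, e2, D.A_zero]
      · rw [← D.A_zero]; exact D.B_ne_A _ _ _ _

theorem not_isConj_A_B (i j k l : ZMod D.N) : ¬ IsConj (D.A i j) (D.B k l) := by
  rw [isConj_iff]
  rintro ⟨c, hc⟩
  rcases D.cases c with ⟨a, b, rfl⟩ | ⟨a, b, rfl⟩
  · rw [D.A_conj_A] at hc
    exact D.B_ne_A _ _ _ _ hc.symm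
  · rw [D.B_conj_A] at hc
    exact D.B_ne_A _ _ _ _ hc.symm

theorem isConj_A_swap (i j : ZMod D.N) : IsConj (D.A i j) (D.A j i) := by
  rw [isConj_iff]
  exact ⟨D.B 0 0, D.B_conj_A 0 0 i j⟩

theorem isConj_A_iff (i j k l : ZMod D.N) :
    IsConj (D.A i j) (D.A k l) ↔ (i = k ∧ j = l) ∨ (i = l ∧ j = k) := by
  constructor
  · rw [isConj_iff]
    rintro ⟨c, hc⟩
    rcases D.cases c with ⟨a, b, rfl⟩ | ⟨a, b, rfl⟩
    · rw [D.A_conj_A] at hc
      exact Or.inl (D.A_inj hc)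
    · rw [D.B_conj_A] at hc
      have := D.A_inj hc
      exact Or.inr ⟨this.2, this.1⟩
  · rintro (⟨rfl, rfl⟩ | ⟨rfl, rfl⟩)
    · exact IsConj.refl _
    · exact D.isConj_A_swap _ _

theorem isConj_B_z (i : ZMod D.N) : IsConj (D.B 0 0) (D.B i (-i)) := by
  rw [isConj_iff]
  refine ⟨D.A i 0, ?_⟩
  rw [D.A_conj_B]
  congr 1 <;> ring

end WD

end Cfsg.Agent.Lib.Helper9
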