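import Mathlib
import Cfsg.Agent.Lib.Helper9.Wr2

set_option autoImplicit false

namespace Cfsg.Agent.Lib.Helper9

namespace WD

open scoped commutatorElement

variable {S : Type*} [Group S] (D : WD S)

theorem A_pow (i j : ZMod D.N) (m : ℕ) : (D.A i j) ^ m = D.A (m * i) (m * j) := by
  induction m with
  | zero => simp [D.A_zero]
  | succ m ih =>
    rw [pow_succ, ih, D.A_mul_A]
    congr 1 <;> (push_cast; ring)

theorem one_ne_zero' : (1 : ZMod D.N) ≠ 0 := by
  intro h
  apply D.u_ne_zero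
  calc D.u = D.u * 1 := by ring
    _ = 0 := by rw [h, mul_zero]

theorem natCast_N : ((D.N : ℕ) : ZMod D.N) = 0 := ZMod.natCast_self _

theorem natCast_half : ((D.N / 2 : ℕ) : ZMod D.N) = D.u := by
  have : D.N / 2 = 2 ^ (D.n - 1) := by
    rw [D.N_eq, Nat.mul_div_cancel_left _ (by norm_num)]
  rw [this]; rfl

/-- order of `A i j` when the `N/2`-th power is nontrivial -/
theorem orderOf_A (i j : ZMod D.N) (h : D.u * i ≠ 0 ∨ D.u * j ≠ 0) : orderOf (D.A i j) = D.N := by
  apply orderOf_eq_of_pow_and_pow_div_prime (by unfold N; positivity)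
  · rw [D.A_pow, D.natCast_N, zero_mul, zero_mul, D.A_zero]
  · intro p hp hdvd
    have hp2 : p = 2 := by
      unfold N at hdvd
      exact (Nat.prime_dvd_prime_iff_eq hp Nat.prime_two).mp (hp.dvd_of_dvd_pow hdvd)
    rw [hp2, D.A_pow, D.natCast_half]
    intro h1
    obtain ⟨h2, h3⟩ := D.A_eq_one _ _ h1
    rcases h with h | h
    · exact h h2
    · exact h h3

theorem mem_center_iff (g : S) : g ∈ Subgroup.center S ↔ ∃ k, g = D.A k k := by
  constructor
  · intro hg
    rw [Subgroup.mem_center_iff] at hg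
    rcases D.cases g with ⟨i, j, rfl⟩ | ⟨i, j, rfl⟩
    · have h1 := hg (D.B 0 0)
      rw [D.B_mul_A, D.A_mul_B] at h1
      have h2 := D.B_inj h1
      refine ⟨i, ?_⟩
      congr 1
      linear_combination h2.1
    · exfalso
      have h1 := hg (D.A 1 0)
      rw [D.A_mul_B, D.B_mul_A] at h1
      have h2 := D.B_inj h1
      apply D.one_ne_zero'
      linear_combination h2.1
  · rintro ⟨k, rfl⟩
    rw [Subgroup.mem_center_iff]
    intro h
    rcases D.cases h with ⟨i, j, rfl⟩ | ⟨i, j, rfl⟩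
    · rw [D.A_mul_A, D.A_mul_A]; congr 1 <;> ring
    · rw [D.B_mul_A, D.A_mul_B]; congr 1 <;> ring

theorem center_eq : Subgroup.center S = Subgroup.zpowers (D.A 1 1) := by
  apply le_antisymm
  · intro g hg
    obtain ⟨k, rfl⟩ := (D.mem_center_iff g).mp hg
    have : D.A k k = (D.A 1 1) ^ k.val := by
      rw [D.A_pow, ZMod.natCast_zmod_val, mul_one]
    rw [this]
    exact Subgroup.pow_mem _ (Subgroup.mem_zpowers _) _
  · rw [Subgroup.zpowers_le]
    exact (D.mem_center_iff _).mpr ⟨1, rfl⟩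

theorem card_center : Nat.card (Subgroup.center S) = 2 ^ D.n := by
  rw [D.center_eq, Nat.card_zpowers, D.orderOf_A]
  · rfl
  · left; rw [mul_one]; exact D.u_ne_zero

/-- the derived subgroup, explicitly -/
noncomputable def Dg : Subgroup S where
  carrier := {g | ∃ k, g = D.A k (-k)}
  one_mem' := ⟨0, by rw [neg_zero, D.A_zero]⟩
  mul_mem' := by
    rintro a b ⟨k, rfl⟩ ⟨l, rfl⟩
    exact ⟨k + l, by rw [D.A_mul_A]; congr 1; ring⟩
  inv_mem' := by
    rintro a ⟨k, rfl⟩
    exact ⟨-k, by rw [D.A_inv]⟩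

theorem mem_Dg (g : S) : g ∈ D.Dg ↔ ∃ k, g = D.A k (-k) := Iff.rfl

theorem commutator_eq : commutator S = D.Dg := by
  apply le_antisymm
  · rw [commutator_def, Subgroup.commutator_le]
    intro a _ b _
    rw [commutatorElement_def]
    rcases D.cases a with ⟨i, j, rfl⟩ | ⟨i, j, rfl⟩ <;> rcases D.cases b with ⟨k, l, rfl⟩ | ⟨k, l, rfl⟩
    · rw [D.A_conj_A, mul_inv_cancel]; exact D.Dg.one_mem
    · rw [D.A_conj_B, D.B_inv, D.B_mul_B]
      exact ⟨i - j, by congr 1 <;> ring⟩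
    · rw [D.B_conj_A, D.A_inv, D.A_mul_A]
      exact ⟨l - k, by congr 1 <;> ring⟩
    · rw [D.B_conj_B, D.B_inv, D.B_mul_B]
      exact ⟨l + i - j - k, by congr 1 <;> ring⟩
  · rintro g ⟨k, rfl⟩
    have h1 : ⁅D.A k 0, D.B 0 0⁆ = D.A k (-k) := by
      rw [commutatorElement_def, D.A_conj_B, D.B_inv, D.B_mul_B]
      congr 1 <;> ring
    rw [← h1, commutator_def]
    exact Subgroup.commutator_mem_commutator (Subgroup.mem_top _) (Subgroup.mem_top _)

theorem Dg_eq_zpowers : D.Dg = Subgroup.zpowers (D.A 1 (-1)) := by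
  apply le_antisymm
  · rintro g ⟨k, rfl⟩
    have : D.A k (-k) = (D.A 1 (-1)) ^ k.val := by
      rw [D.A_pow, ZMod.natCast_zmod_val]
      congr 1 <;> ring
    rw [this]
    exact Subgroup.pow_mem _ (Subgroup.mem_zpowers _) _
  · rw [Subgroup.zpowers_le]
    exact ⟨1, rfl⟩

theorem card_Dg : Nat.card D.Dg = 2 ^ D.n := by
  rw [D.Dg_eq_zpowers, Nat.card_zpowers, D.orderOf_A]
  · rfl
  · left; rw [mul_one]; exact D.u_ne_zero

end WD

end Cfsg.Agent.Lib.Helper9
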