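import Mathlib
import Cfsg.Agent.Lib.Helper9.Wr3

set_option autoImplicit false

namespace Cfsg.Agent.Lib.Helper9

namespace WD

variable {S : Type*} [Group S] (D : WD S)

/-- preimage of `{s | c s = 0}` under the sum homomorphism `A i j, B i j ↦ i + j` -/
noncomputable def Om (c : ZMod D.N) : Subgroup S where
  carrier := {g | (∃ i j, c * (i + j) = 0 ∧ g = D.A i j) ∨ (∃ i j, c * (i + j) = 0 ∧ g = D.B i j)}
  one_mem' := Or.inl ⟨0, 0, by ring, D.A_zero.symm⟩
  mul_mem' := by
    rintro a b (⟨i, j, h1, rfl⟩ | ⟨i, j, h1, rfl⟩) (⟨k, l, h2, rfl⟩ | ⟨k, l, h2, rfl⟩)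
    · exact Or.inl ⟨i + k, j + l, by linear_combination h1 + h2, D.A_mul_A i j k l⟩
    · exact Or.inr ⟨i + k, j + l, by linear_combination h1 + h2, D.A_mul_B i j k l⟩
    · exact Or.inr ⟨i + l, j + k, by linear_combination h1 + h2, D.B_mul_A i j k l⟩
    · exact Or.inl ⟨i + l, j + k, by linear_combination h1 + h2, D.B_mul_B i j k l⟩
  inv_mem' := by
    rintro a (⟨i, j, h1, rfl⟩ | ⟨i, j, h1, rfl⟩)
    · exact Or.inl ⟨-i, -j, by linear_combination -h1, D.A_inv i j⟩
    · exact Or.inr ⟨-j, -i, by linear_combination -h1, D.B_inv i j⟩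

theorem A_mem_Om (c i j : ZMod D.N) : D.A i j ∈ D.Om c ↔ c * (i + j) = 0 := by
  constructor
  · rintro (⟨k, l, h1, h⟩ | ⟨k, l, h1, h⟩)
    · obtain ⟨rfl, rfl⟩ := D.A_inj h; exact h1
    · exact absurd h.symm (D.B_ne_A _ _ _ _)
  · intro h
    exact Or.inl ⟨i, j, h, rfl⟩

theorem B_mem_Om (c i j : ZMod D.N) : D.B i j ∈ D.Om c ↔ c * (i + j) = 0 := by
  constructor
  · rintro (⟨k, l, h1, h⟩ | ⟨k, l, h1, h⟩)
    · exact absurd h (D.B_ne_A _ _ _ _)
    · obtain ⟨rfl, rfl⟩ := D.B_inj h; exact h1
  · intro h
    exact Or.inr ⟨i, j, h, rfl⟩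

theorem closure_involutions : Subgroup.closure {g : S | orderOf g = 2} = D.Om 2 := by
  apply le_antisymm
  · rw [Subgroup.closure_le]
    intro g hg
    rcases (D.orderOf_two_iff g).mp hg with rfl | rfl | rfl | ⟨i, rfl⟩
    · exact (D.A_mem_Om _ _ _).mpr (by linear_combination 2 * D.two_u)
    · exact (D.A_mem_Om _ _ _).mpr (by linear_combination D.two_u)
    · exact (D.A_mem_Om _ _ _).mpr (by linear_combination D.two_u)
    · exact (D.B_mem_Om _ _ _).mpr (by ring)
  · have hB : ∀ i, D.B i (-i) ∈ Subgroup.closure {g : S | orderOf g = 2} := fun i =>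
      Subgroup.subset_closure ((D.orderOf_two_iff _).mpr (Or.inr (Or.inr (Or.inr ⟨i, rfl⟩))))
    have hA0 : ∀ i, D.A i (-i) ∈ Subgroup.closure {g : S | orderOf g = 2} := by
      intro i
      have : D.A i (-i) = D.B i (-i) * D.B 0 (-0) := by
        rw [D.B_mul_B]; congr 1 <;> ring
      rw [this]
      exact Subgroup.mul_mem _ (hB i) (hB 0)
    have hAu : D.A 0 D.u ∈ Subgroup.closure {g : S | orderOf g = 2} :=
      Subgroup.subset_closure ((D.orderOf_two_iff _).mpr (Or.inr (Or.inr (Or.inl rfl))))
    have hA : ∀ i j, 2 * (i + j) = 0 → D.A i j ∈ Subgroup.closure {g : S | orderOf g = 2} := by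
      intro i j h
      rcases D.two_mul_eq_zero _ h with h1 | h1
      · have : j = -i := by linear_combination h1
        rw [this]; exact hA0 i
      · have : D.A i j = D.A i (-i) * D.A 0 D.u := by
          rw [D.A_mul_A]; congr 1
          · ring
          · linear_combination h1
        rw [this]
        exact Subgroup.mul_mem _ (hA0 i) hAu
    rintro g (⟨i, j, h, rfl⟩ | ⟨i, j, h, rfl⟩)
    · exact hA i j h
    · have : D.B i j = D.A i j * D.B 0 (-0) := by
        rw [D.A_mul_B]; congr 1 <;> ring
      rw [this]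
      exact Subgroup.mul_mem _ (hA i j h) (hB 0)

theorem card_Om_two : Nat.card (D.Om 2) = 2 ^ (D.n + 2) := by
  classical
  let f : ZMod D.N × Bool × Bool → D.Om 2 := fun p =>
    if p.2.2 then ⟨D.B p.1 (-p.1 + if p.2.1 then D.u else 0),
        (D.B_mem_Om _ _ _).mpr (by split_ifs; exacts [by linear_combination D.two_u, by ring])⟩
      else ⟨D.A p.1 (-p.1 + if p.2.1 then D.u else 0),
        (D.A_mem_Om _ _ _).mpr (by split_ifs; exacts [by linear_combination D.two_u, by ring])⟩
  have hinj_e : ∀ e e' : Bool, (if e then D.u else (0 : ZMod D.N)) = (if e' then D.u else 0) →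
      e = e' := by
    intro e e' h
    cases e <;> cases e' <;> simp_all [D.u_ne_zero, D.u_ne_zero.symm]
  have hbij : Function.Bijective f := by
    constructor
    · rintro ⟨i, e, t⟩ ⟨i', e', t'⟩ h
      have h' := congrArg Subtype.val h
      cases t <;> cases t' <;> simp only [f, Bool.false_eq_true, if_false, if_true] at h'
      · obtain ⟨h1, h2⟩ := D.A_inj h'
        subst h1
        have := hinj_e e e' (by linear_combination h2)
        rw [this]
      · exact absurd h'.symm (D.B_ne_A _ _ _ _)
      · exact absurd h' (D.B_ne_A _ _ _ _)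
      · obtain ⟨h1, h2⟩ := D.B_inj h'
        subst h1
        have := hinj_e e e' (by linear_combination h2)
        rw [this]
    · rintro ⟨g, hg⟩
      rcases hg with ⟨i, j, h, rfl⟩ | ⟨i, j, h, rfl⟩
      · rcases D.two_mul_eq_zero _ h with h1 | h1
        · refine ⟨(i, false, false), ?_⟩
          apply Subtype.ext
          simp only [f, Bool.false_eq_true, if_false]
          congr 1
          linear_combination -h1
        · refine ⟨(i, true, false), ?_⟩
          apply Subtype.ext
          simp only [f, Bool.false_eq_true, if_false, if_true]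
          congr 1
          linear_combination -h1
      · rcases D.two_mul_eq_zero _ h with h1 | h1
        · refine ⟨(i, false, true), ?_⟩
          apply Subtype.ext
          simp only [f, Bool.false_eq_true, if_false, if_true]
          congr 1
          linear_combination -h1
        · refine ⟨(i, true, true), ?_⟩
          apply Subtype.ext
          simp only [f, if_true]
          congr 1
          linear_combination -h1
  rw [← Nat.card_congr (Equiv.ofBijective f hbij), Nat.card_prod, Nat.card_prod, Nat.card_zmod]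
  simp only [Nat.card_eq_fintype_card, Fintype.card_bool]
  unfold N
  rw [pow_add]
  ring

end WD

end Cfsg.Agent.Lib.Helper9
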