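import Mathlib
import Cfsg.Agent.Lib.Helper9.Wr4

set_option autoImplicit false

namespace Cfsg.Agent.Lib.Helper9

namespace WD

variable {S : Type*} [Group S] (D : WD S)

/-- `e ↦ e • u` -/
def bu (e : Bool) : ZMod D.N := if e then D.u else 0

theorem two_bu (e : Bool) : 2 * D.bu e = 0 := by
  cases e
  · simp [bu]
  · simpa [bu] using D.two_u

theorem bu_inj {e e' : Bool} (h : D.bu e = D.bu e') : e = e' := by
  cases e <;> cases e' <;> simp_all [bu, D.u_ne_zero, D.u_ne_zero.symm]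

theorem eq_bu (k : ZMod D.N) (h : 2 * k = 0) : ∃ e, k = D.bu e := by
  rcases D.two_mul_eq_zero k h with rfl | rfl
  · exact ⟨false, rfl⟩
  · exact ⟨true, rfl⟩

/-- the normal four-group -/
noncomputable def T : Subgroup S where
  carrier := {g | ∃ i j, 2 * i = 0 ∧ 2 * j = 0 ∧ g = D.A i j}
  one_mem' := ⟨0, 0, by ring, by ring, D.A_zero.symm⟩
  mul_mem' := by
    rintro a b ⟨i, j, hi, hj, rfl⟩ ⟨k, l, hk, hl, rfl⟩
    exact ⟨i + k, j + l, by linear_combination hi + hk, by linear_combination hj + hl,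
      D.A_mul_A i j k l⟩
  inv_mem' := by
    rintro a ⟨i, j, hi, hj, rfl⟩
    exact ⟨-i, -j, by linear_combination -hi, by linear_combination -hj, D.A_inv i j⟩

theorem A_mem_T (i j : ZMod D.N) : D.A i j ∈ D.T ↔ 2 * i = 0 ∧ 2 * j = 0 := by
  constructor
  · rintro ⟨k, l, hk, hl, h⟩
    obtain ⟨rfl, rfl⟩ := D.A_inj h
    exact ⟨hk, hl⟩
  · rintro ⟨h1, h2⟩
    exact ⟨i, j, h1, h2, rfl⟩

theorem B_notMem_T (i j : ZMod D.N) : D.B i j ∉ D.T := by
  rintro ⟨k, l, -, -, h⟩
  exact D.B_ne_A _ _ _ _ h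

theorem card_T : Nat.card D.T = 4 := by
  classical
  let f : Bool × Bool → D.T := fun p =>
    ⟨D.A (D.bu p.1) (D.bu p.2), (D.A_mem_T _ _).mpr ⟨D.two_bu _, D.two_bu _⟩⟩
  have hbij : Function.Bijective f := by
    constructor
    · rintro ⟨e, e'⟩ ⟨d, d'⟩ h
      have h1 := D.A_inj (congrArg Subtype.val h)
      exact Prod.ext (D.bu_inj h1.1) (D.bu_inj h1.2)
    · rintro ⟨g, i, j, hi, hj, rfl⟩
      obtain ⟨e, rfl⟩ := D.eq_bu i hi
      obtain ⟨e', rfl⟩ := D.eq_bu j hj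
      exact ⟨(e, e'), rfl⟩
  rw [← Nat.card_congr (Equiv.ofBijective f hbij)]
  simp

theorem isKleinFour_of (H : Subgroup S) (hcard : Nat.card H = 4) (hsq : ∀ g ∈ H, g * g = 1) :
    IsKleinFour H := by
  refine ⟨hcard, ?_⟩
  have : Nontrivial H := by
    have : Finite H := Nat.finite_of_card_ne_zero (by rw [hcard]; norm_num)
    rw [← Finite.one_lt_card_iff_nontrivial, hcard]
    norm_num
  rw [Monoid.exponent_eq_prime_iff Nat.prime_two]
  intro g hg
  rw [orderOf_eq_prime_iff]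
  refine ⟨?_, hg⟩
  rw [pow_two]
  exact Subtype.ext (hsq g.1 g.2)

theorem isKleinFour_T : IsKleinFour D.T := by
  apply WD.isKleinFour_of _ D.card_T
  rintro g ⟨i, j, hi, hj, rfl⟩
  rw [D.A_mul_A]
  have e1 : i + i = 0 := by linear_combination hi
  have e2 : j + j = 0 := by linear_combination hj
  rw [e1, e2, D.A_zero]

theorem T_normal : D.T.Normal := by
  constructor
  rintro g ⟨i, j, hi, hj, rfl⟩ h
  rcases D.cases h with ⟨k, l, rfl⟩ | ⟨k, l, rfl⟩
  · rw [D.A_conj_A]; exact (D.A_mem_T i j).mpr ⟨hi, hj⟩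
  · rw [D.B_conj_A]; exact (D.A_mem_T j i).mpr ⟨hj, hi⟩

/-- the other four-groups -/
noncomputable def K (i : ZMod D.N) : Subgroup S where
  carrier := {g | (∃ k, 2 * k = 0 ∧ g = D.A k k) ∨ (∃ k, 2 * (k - i) = 0 ∧ g = D.B k (-k))}
  one_mem' := Or.inl ⟨0, by ring, D.A_zero.symm⟩
  mul_mem' := by
    rintro a b (⟨k, hk, rfl⟩ | ⟨k, hk, rfl⟩) (⟨l, hl, rfl⟩ | ⟨l, hl, rfl⟩)
    · exact Or.inl ⟨k + l, by linear_combination hk + hl, D.A_mul_A k k l l⟩
    · refine Or.inr ⟨k + l, by linear_combination hk + hl, ?_⟩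
      rw [D.A_mul_B]; congr 1; linear_combination hk
    · refine Or.inr ⟨k + l, by linear_combination hk + hl, ?_⟩
      rw [D.B_mul_A]; congr 1; linear_combination hl
    · refine Or.inl ⟨k - l, by linear_combination hk - hl, ?_⟩
      rw [D.B_mul_B]; congr 1
      · ring
      · linear_combination hl - hk
  inv_mem' := by
    rintro a (⟨k, hk, rfl⟩ | ⟨k, hk, rfl⟩)
    · exact Or.inl ⟨-k, by linear_combination -hk, D.A_inv k k⟩
    · refine Or.inr ⟨k, hk, ?_⟩
      rw [D.B_inv, neg_neg]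

theorem B_mem_K (i k l : ZMod D.N) : D.B k l ∈ D.K i ↔ l = -k ∧ 2 * (k - i) = 0 := by
  constructor
  · rintro (⟨m, -, h⟩ | ⟨m, hm, h⟩)
    · exact absurd h (D.B_ne_A _ _ _ _)
    · obtain ⟨rfl, rfl⟩ := D.B_inj h
      exact ⟨rfl, hm⟩
  · rintro ⟨rfl, h⟩
    exact Or.inr ⟨k, h, rfl⟩

theorem A_mem_K (i k l : ZMod D.N) : D.A k l ∈ D.K i ↔ l = k ∧ 2 * k = 0 := by
  constructor
  · rintro (⟨m, hm, h⟩ | ⟨m, -, h⟩)
    · obtain ⟨rfl, rfl⟩ := D.A_inj h
      exact ⟨rfl, hm⟩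
    · exact absurd h.symm (D.B_ne_A _ _ _ _)
  · rintro ⟨rfl, h⟩
    exact Or.inl ⟨_, h, rfl⟩

theorem card_K (i : ZMod D.N) : Nat.card (D.K i) = 4 := by
  classical
  let f : Bool × Bool → D.K i := fun p =>
    if p.2 then ⟨D.B (i + D.bu p.1) (-(i + D.bu p.1)),
        (D.B_mem_K _ _ _).mpr ⟨rfl, by linear_combination D.two_bu p.1⟩⟩
      else ⟨D.A (D.bu p.1) (D.bu p.1), (D.A_mem_K _ _ _).mpr ⟨rfl, D.two_bu _⟩⟩
  have hbij : Function.Bijective f := by
    constructor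
    · rintro ⟨e, t⟩ ⟨e', t'⟩ h
      have h' := congrArg Subtype.val h
      cases t <;> cases t' <;> simp only [f, Bool.false_eq_true, if_false, if_true] at h'
      · have h1 := D.A_inj h'
        rw [D.bu_inj h1.1]
      · exact absurd h'.symm (D.B_ne_A _ _ _ _)
      · exact absurd h' (D.B_ne_A _ _ _ _)
      · have h1 := D.B_inj h'
        have h2 : D.bu e = D.bu e' := by linear_combination h1.1
        rw [D.bu_inj h2]
    · rintro ⟨g, hg⟩
      rcases hg with ⟨k, hk, rfl⟩ | ⟨k, hk, rfl⟩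
      · obtain ⟨e, rfl⟩ := D.eq_bu k hk
        refine ⟨(e, false), ?_⟩
        apply Subtype.ext
        simp only [f, Bool.false_eq_true, if_false]
      · obtain ⟨e, he⟩ := D.eq_bu (k - i) hk
        refine ⟨(e, true), ?_⟩
        apply Subtype.ext
        simp only [f, if_true]
        have : i + D.bu e = k := by rw [← he]; ring
        rw [this]
  rw [← Nat.card_congr (Equiv.ofBijective f hbij)]
  simp

theorem isKleinFour_K (i : ZMod D.N) : IsKleinFour (D.K i) := by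
  apply WD.isKleinFour_of _ (D.card_K i)
  rintro g (⟨k, hk, rfl⟩ | ⟨k, hk, rfl⟩)
  · rw [D.A_mul_A]
    have e1 : k + k = 0 := by linear_combination hk
    rw [e1, D.A_zero]
  · rw [D.B_mul_B]
    have e1 : k + -k = 0 := by ring
    have e2 : -k + k = 0 := by ring
    rw [e1, e2, D.A_zero]

theorem map_conj_K (i m : ZMod D.N) :
    (D.K i).map (MulAut.conj (D.A m 0)).toMonoidHom = D.K (i + m) := by
  ext g
  simp only [Subgroup.mem_map, MulEquiv.coe_toMonoidHom, MulAut.conj_apply]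
  constructor
  · rintro ⟨h, hh, rfl⟩
    rcases hh with ⟨k, hk, rfl⟩ | ⟨k, hk, rfl⟩
    · rw [D.A_conj_A]; exact (D.A_mem_K _ _ _).mpr ⟨rfl, hk⟩
    · rw [D.A_conj_B, D.B_mem_K]
      exact ⟨by ring, by linear_combination hk⟩
  · intro hg
    refine ⟨(D.A m 0)⁻¹ * g * D.A m 0, ?_, by group⟩
    rcases hg with ⟨k, hk, rfl⟩ | ⟨k, hk, rfl⟩
    · have : (D.A m 0)⁻¹ * D.A k k * D.A m 0 = D.A k k := by
        rw [D.A_inv, D.A_mul_A, D.A_mul_A]; congr 1 <;> ring
      rw [this]; exact (D.A_mem_K _ _ _).mpr ⟨rfl, hk⟩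
    · have : (D.A m 0)⁻¹ * D.B k (-k) * D.A m 0 = D.B (k - m) (-(k - m)) := by
        rw [D.A_inv, D.A_mul_B, D.B_mul_A]; congr 1 <;> ring
      rw [this, D.B_mem_K]
      exact ⟨rfl, by linear_combination hk⟩

/-- classification of four-subgroups -/
theorem klein_cases [Finite S] (T₁ : Subgroup S) (h : IsKleinFour T₁) :
    T₁ = D.T ∨ ∃ i, T₁ = D.K i := by
  classical
  have hsq : ∀ g ∈ T₁, g * g = 1 := by
    intro g hg
    have := IsKleinFour.mul_self (⟨g, hg⟩ : T₁)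
    exact congrArg Subtype.val this
  have hcard : Nat.card T₁ = 4 := IsKleinFour.card_four
  have hA : ∀ i j, D.A i j ∈ T₁ → 2 * i = 0 ∧ 2 * j = 0 := by
    intro i j hij
    have := hsq _ hij
    rw [D.A_mul_A] at this
    obtain ⟨h1, h2⟩ := D.A_eq_one _ _ this
    exact ⟨by linear_combination h1, by linear_combination h2⟩
  have hB : ∀ i j, D.B i j ∈ T₁ → j = -i := by
    intro i j hij
    have := hsq _ hij
    rw [D.B_mul_B] at this
    obtain ⟨h1, -⟩ := D.A_eq_one _ _ this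
    linear_combination h1
  by_cases hle : T₁ ≤ D.U
  · left
    apply Subgroup.eq_of_le_of_card_ge
    · intro g hg
      obtain ⟨i, j, rfl⟩ := hle hg
      exact (D.A_mem_T i j).mpr (hA i j hg)
    · rw [hcard, D.card_T]
  · right
    obtain ⟨g, hg, hgU⟩ := SetLike.not_le_iff_exists.mp hle
    rcases D.cases g with ⟨a, b, rfl⟩ | ⟨a, b, rfl⟩
    · exact absurd (D.A_mem_U a b) hgU
    · have hb := hB a b hg
      subst hb
      have hcomm : ∀ h ∈ T₁, h * D.B a (-a) = D.B a (-a) * h := by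
        intro h hh
        have hc := IsKleinFour.isMulCommutative (G := ↥T₁)
        exact congrArg Subtype.val (mul_comm' (⟨h, hh⟩ : T₁) ⟨_, hg⟩)
      refine ⟨a, ?_⟩
      apply Subgroup.eq_of_le_of_card_ge
      · intro h hh
        rcases D.cases h with ⟨k, l, rfl⟩ | ⟨k, l, rfl⟩
        · have h1 := hcomm _ hh
          rw [D.A_mul_B, D.B_mul_A] at h1
          have h2 := D.B_inj h1
          rw [D.A_mem_K]
          exact ⟨by linear_combination -h2.1, (hA k l hh).1⟩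
        · have hl := hB k l hh
          subst hl
          rw [D.B_mem_K]
          refine ⟨rfl, ?_⟩
          have h1 : D.B k (-k) * D.B a (-a) ∈ T₁ := T₁.mul_mem hh hg
          rw [D.B_mul_B] at h1
          have h2 := (hA _ _ h1).1
          linear_combination h2
      · rw [hcard, D.card_K]

end WD

end Cfsg.Agent.Lib.Helper9
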