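import Mathlib
import Cfsg.Agent.Lib.Helper9.Wr5

set_option autoImplicit false

namespace Cfsg.Agent.Lib.Helper9

namespace WD

variable {S : Type*} [Group S] (D : WD S)

/-- the generalized quaternion subgroup -/
noncomputable def Qs : Subgroup S where
  carrier := {g | (∃ k, g = D.A k (-k)) ∨ (∃ k l, k + l = D.u ∧ g = D.B k l)}
  one_mem' := Or.inl ⟨0, by rw [neg_zero, D.A_zero]⟩
  mul_mem' := by
    rintro a b (⟨k, rfl⟩ | ⟨k, l, hkl, rfl⟩) (⟨k', rfl⟩ | ⟨k', l', hkl', rfl⟩)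
    · exact Or.inl ⟨k + k', by rw [D.A_mul_A]; congr 1; ring⟩
    · exact Or.inr ⟨k + k', -k + l', by linear_combination hkl', D.A_mul_B _ _ _ _⟩
    · exact Or.inr ⟨k + -k', l + k', by linear_combination hkl, D.B_mul_A _ _ _ _⟩
    · refine Or.inl ⟨k + l', ?_⟩
      rw [D.B_mul_B]; congr 1
      linear_combination hkl + hkl' + D.two_u
  inv_mem' := by
    rintro a (⟨k, rfl⟩ | ⟨k, l, hkl, rfl⟩)
    · exact Or.inl ⟨-k, by rw [D.A_inv]⟩
    · exact Or.inr ⟨-l, -k, by linear_combination -hkl - D.two_u, D.B_inv k l⟩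

theorem A_mem_Qs (i j : ZMod D.N) : D.A i j ∈ D.Qs ↔ j = -i := by
  constructor
  · rintro (⟨k, h⟩ | ⟨k, l, -, h⟩)
    · obtain ⟨rfl, rfl⟩ := D.A_inj h; rfl
    · exact absurd h.symm (D.B_ne_A _ _ _ _)
  · rintro rfl
    exact Or.inl ⟨i, rfl⟩

theorem B_mem_Qs (i j : ZMod D.N) : D.B i j ∈ D.Qs ↔ i + j = D.u := by
  constructor
  · rintro (⟨k, h⟩ | ⟨k, l, hkl, h⟩)
    · exact absurd h (D.B_ne_A _ _ _ _)
    · obtain ⟨rfl, rfl⟩ := D.B_inj h; exact hkl
  · intro h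
    exact Or.inr ⟨i, j, h, rfl⟩

theorem card_Qs : Nat.card D.Qs = 2 ^ (D.n + 1) := by
  classical
  let f : ZMod D.N × Bool → D.Qs := fun p =>
    if p.2 then ⟨D.B p.1 (D.u - p.1), (D.B_mem_Qs _ _).mpr (by ring)⟩
    else ⟨D.A p.1 (-p.1), (D.A_mem_Qs _ _).mpr rfl⟩
  have hbij : Function.Bijective f := by
    constructor
    · rintro ⟨k, t⟩ ⟨k', t'⟩ h
      have h' := congrArg Subtype.val h
      cases t <;> cases t' <;> simp only [f, Bool.false_eq_true, if_false, if_true] at h'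
      · rw [(D.A_inj h').1]
      · exact absurd h'.symm (D.B_ne_A _ _ _ _)
      · exact absurd h' (D.B_ne_A _ _ _ _)
      · rw [(D.B_inj h').1]
    · rintro ⟨g, hg⟩
      rcases hg with ⟨k, rfl⟩ | ⟨k, l, hkl, rfl⟩
      · exact ⟨(k, false), rfl⟩
      · refine ⟨(k, true), ?_⟩
        apply Subtype.ext
        simp only [f, if_true]
        congr 1
        linear_combination -hkl
  rw [← Nat.card_congr (Equiv.ofBijective f hbij), Nat.card_prod, Nat.card_zmod]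
  simp only [Nat.card_eq_fintype_card, Fintype.card_bool]
  unfold N
  rw [pow_succ]

theorem Qs_normal : D.Qs.Normal := by
  constructor
  rintro g hg h
  rcases D.cases h with ⟨i, j, rfl⟩ | ⟨i, j, rfl⟩ <;> rcases hg with ⟨k, rfl⟩ | ⟨k, l, hkl, rfl⟩
  · rw [D.A_conj_A]; exact (D.A_mem_Qs _ _).mpr rfl
  · rw [D.A_conj_B, D.B_mem_Qs]; linear_combination hkl
  · rw [D.B_conj_A]; exact (D.A_mem_Qs _ _).mpr (by ring)
  · rw [D.B_conj_B, D.B_mem_Qs]; linear_combination hkl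

theorem natCast_m : ((2 ^ (D.n - 1) : ℕ) : ZMod D.N) = D.u := rfl

theorem neg_u : -D.u = D.u := by linear_combination -D.two_u

theorem Qs_iso [Finite S] : Nonempty (D.Qs ≃* QuaternionGroup (2 ^ (D.n - 1))) := by
  have hord : orderOf (D.A 1 (-1)) = 2 * 2 ^ (D.n - 1) := by
    rw [D.orderOf_A _ _ (Or.inl (by rw [mul_one]; exact D.u_ne_zero)), D.N_eq]
  have hw : D.B 0 D.u * D.B 0 D.u = (D.A 1 (-1)) ^ (2 ^ (D.n - 1)) := by
    rw [D.B_mul_B, D.A_pow, D.natCast_m]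
    congr 1
    · ring
    · linear_combination D.two_u
  have hwt : D.B 0 D.u * D.A 1 (-1) * (D.B 0 D.u)⁻¹ = (D.A 1 (-1))⁻¹ := by
    rw [D.B_conj_A, D.A_inv, neg_neg]
  obtain ⟨Q, hQcard, htQ, hwQ, hQiso⟩ :=
    Cfsg.Agent.Lib.helper14.exists_quaternion_subgroup (2 ^ (D.n - 1)) Nat.one_le_two_pow
      (D.A 1 (-1)) (D.B 0 D.u) hord hw hwt
  have hle : D.Qs ≤ Q := by
    have hA : ∀ k : ZMod D.N, D.A k (-k) ∈ Q := by
      intro k
      have : D.A k (-k) = (D.A 1 (-1)) ^ k.val := by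
        rw [D.A_pow, ZMod.natCast_zmod_val]; congr 1 <;> ring
      rw [this]
      exact Q.pow_mem htQ _
    rintro g (⟨k, rfl⟩ | ⟨k, l, hkl, rfl⟩)
    · exact hA k
    · have : D.B k l = D.A k (-k) * D.B 0 D.u := by
        rw [D.A_mul_B]; congr 1
        · ring
        · linear_combination hkl
      rw [this]
      exact Q.mul_mem (hA k) hwQ
  have hQeq : D.Qs = Q := by
    apply Subgroup.eq_of_le_of_card_ge hle
    rw [hQcard, D.card_Qs, pow_succ]
    have : 2 ^ D.n = 2 * 2 ^ (D.n - 1) := D.N_eq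
    omega
  rw [hQeq]
  exact hQiso

end WD

end Cfsg.Agent.Lib.Helper9
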