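import Mathlib
import Cfsg.Agent.Lib.Helper9.Wr6

set_option autoImplicit false

namespace Cfsg.Agent.Lib.Helper9

open QuaternionGroup in
theorem quat_struct (m : ℕ) [NeZero m] (q : QuaternionGroup m) :
    q ∈ Subgroup.zpowers (a 1 : QuaternionGroup m) ∨
      (q * a 1 * q⁻¹ = (a 1 : QuaternionGroup m)⁻¹ ∧ q * q = (a 1 : QuaternionGroup m) ^ m) := by
  cases q with
  | a i =>
    left
    have : (a i : QuaternionGroup m) = (a 1) ^ i.val := by
      rw [a_one_pow, ZMod.natCast_zmod_val]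
    rw [this]
    exact Subgroup.pow_mem _ (Subgroup.mem_zpowers _) _
  | xa i =>
    right
    constructor
    · have h1 : (xa i : QuaternionGroup m)⁻¹ = xa ((m : ZMod (2 * m)) + i) := rfl
      have h2 : (a 1 : QuaternionGroup m)⁻¹ = a (-1) := rfl
      rw [h1, h2, xa_mul_a, xa_mul_xa]
      congr 1
      have : ((m : ZMod (2 * m)) + m) = 0 := by
        rw [← two_mul]
        have := ZMod.natCast_self (2 * m)
        push_cast at this
        exact this
      linear_combination this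
    · rw [xa_mul_xa, a_one_pow]
      congr 1
      ring

theorem q8_P : ∀ c g : QuaternionGroup 2, c * c ≠ 1 → g ≠ 1 → g ≠ c → g ≠ c * c → g ≠ c * c * c →
    g * c * g⁻¹ = c⁻¹ ∧ g * g = c * c := by decide

theorem q8_inv : ∀ g h : QuaternionGroup 2, g * g = 1 → g ≠ 1 → h * h = 1 → h ≠ 1 → g = h := by
  decide

theorem q8_pow4 : ∀ g : QuaternionGroup 2, g ^ 4 = 1 := by decide

theorem q8_noncomm : ∃ p q : QuaternionGroup 2, p * q ≠ q * p := by decide

namespace WD

variable {S : Type*} [Group S] (D : WD S)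

theorem N_ge_four : 4 ≤ D.N := by
  unfold N
  calc 4 = 2 ^ 2 := by norm_num
    _ ≤ 2 ^ D.n := Nat.pow_le_pow_right (by norm_num) D.hn

/-- Step B: a good generator pins the subgroup down -/
theorem quat_unique_of_c [Finite S] (Y : Subgroup S) (hcard : Nat.card Y = 2 ^ (D.n + 1))
    (c : S) (hcU : c ∈ D.U) (hord : orderOf c = D.N)
    (hP : ∀ g ∈ Y, g ∈ Subgroup.zpowers c ∨ (g * c * g⁻¹ = c⁻¹ ∧ g * g = c ^ (2 ^ (D.n - 1)))) :
    Y = D.Qs := by
  classical
  obtain ⟨p, q, rfl⟩ := hcU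
  have hN4 := D.N_ge_four
  have hzc : Nat.card (Subgroup.zpowers (D.A p q)) = 2 ^ D.n := by
    rw [Nat.card_zpowers, hord]; rfl
  have hex : ∃ g ∈ Y, g ∉ Subgroup.zpowers (D.A p q) := by
    by_contra hcon
    push Not at hcon
    have := Subgroup.card_le_of_le (show Y ≤ Subgroup.zpowers (D.A p q) from hcon)
    rw [hcard, hzc, pow_succ] at this
    have : 0 < 2 ^ D.n := by positivity
    omega
  have hnotA : ∀ i j, D.A i j * D.A p q * (D.A i j)⁻¹ ≠ (D.A p q)⁻¹ := by
    intro i j h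
    rw [D.A_conj_A] at h
    have h1 : D.A p q * D.A p q = 1 := by
      nth_rewrite 1 [h]
      exact inv_mul_cancel _
    have h2 : orderOf (D.A p q) ∣ 2 := orderOf_dvd_of_pow_eq_one (by rw [pow_two]; exact h1)
    rw [hord] at h2
    have := Nat.le_of_dvd (by norm_num) h2
    omega
  obtain ⟨g₀, hg₀, hg₀n⟩ := hex
  have hq : q = -p := by
    rcases hP g₀ hg₀ with h | ⟨h, -⟩
    · exact absurd h hg₀n
    · rcases D.cases g₀ with ⟨i, j, rfl⟩ | ⟨k, l, rfl⟩
      · exact absurd h (hnotA i j)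
      · rw [D.B_conj_A, D.A_inv] at h
        exact (D.A_inj h).1
  subst hq
  have hup : D.u * p = D.u := by
    have h1 : 2 * (D.u * p) = 0 := by linear_combination p * D.two_u
    rcases D.two_mul_eq_zero _ h1 with h | h
    · exfalso
      have h2 : (D.A p (-p)) ^ (2 ^ (D.n - 1)) = 1 := by
        rw [D.A_pow, D.natCast_m, h]
        have : D.u * -p = 0 := by linear_combination -h
        rw [this, D.A_zero]
      have h3 := orderOf_dvd_of_pow_eq_one h2
      rw [hord, D.N_eq] at h3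
      have h4 := Nat.le_of_dvd (by positivity) h3
      have : 0 < 2 ^ (D.n - 1) := by positivity
      omega
    · exact h
  have hle : Y ≤ D.Qs := by
    intro g hg
    rcases hP g hg with h | ⟨h1, h2⟩
    · have : Subgroup.zpowers (D.A p (-p)) ≤ D.Qs := by
        rw [Subgroup.zpowers_le]; exact (D.A_mem_Qs _ _).mpr rfl
      exact this h
    · rcases D.cases g with ⟨i, j, rfl⟩ | ⟨k, l, rfl⟩
      · exact absurd h1 (hnotA i j)
      · rw [D.B_mul_B, D.A_pow, D.natCast_m] at h2
        have h3 := (D.A_inj h2).1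
        rw [D.B_mem_Qs]
        rw [h3, hup]
  apply Subgroup.eq_of_le_of_card_ge hle
  rw [hcard, D.card_Qs]

/-- Step A for `n ≥ 3` -/
theorem exists_c_ge3 [Finite S] (hn3 : 3 ≤ D.n) (Y : Subgroup S)
    (hcard : Nat.card Y = 2 ^ (D.n + 1)) (e : Y ≃* QuaternionGroup (2 ^ (D.n - 1))) :
    ∃ c : S, c ∈ D.U ∧ orderOf c = D.N ∧
      ∀ g ∈ Y, g ∈ Subgroup.zpowers c ∨ (g * c * g⁻¹ = c⁻¹ ∧ g * g = c ^ (2 ^ (D.n - 1))) := by
  classical
  haveI : NeZero (2 ^ (D.n - 1)) := ⟨by positivity⟩
  set c' : Y := e.symm (QuaternionGroup.a 1) with hc'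
  have hec : e c' = QuaternionGroup.a 1 := by rw [hc', MulEquiv.apply_symm_apply]
  have hord : orderOf (c' : S) = D.N := by
    rw [Subgroup.orderOf_coe, ← MulEquiv.orderOf_eq e, hec, QuaternionGroup.orderOf_a_one, D.N_eq]
  have hP : ∀ g ∈ Y, g ∈ Subgroup.zpowers (c' : S) ∨
      (g * (c' : S) * g⁻¹ = (c' : S)⁻¹ ∧ g * g = (c' : S) ^ (2 ^ (D.n - 1))) := by
    intro g hg
    rcases quat_struct (2 ^ (D.n - 1)) (e ⟨g, hg⟩) with h | ⟨h1, h2⟩
    · left
      obtain ⟨k, hk⟩ := Subgroup.mem_zpowers_iff.mp h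
      rw [Subgroup.mem_zpowers_iff]
      refine ⟨k, ?_⟩
      have h1 : e (c' ^ k) = e ⟨g, hg⟩ := by rw [map_zpow, hec, hk]
      have h2 := e.injective h1
      have := congrArg Subtype.val h2
      simpa using this
    · right
      constructor
      · have h3 : e (⟨g, hg⟩ * c' * ⟨g, hg⟩⁻¹) = e (c'⁻¹) := by
          rw [map_mul, map_mul, map_inv, map_inv, hec]; exact h1
        have := congrArg Subtype.val (e.injective h3)
        simpa using this
      · have h3 : e (⟨g, hg⟩ * ⟨g, hg⟩) = e (c' ^ (2 ^ (D.n - 1))) := by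
          rw [map_mul, map_pow, hec]; exact h2
        have := congrArg Subtype.val (e.injective h3)
        simpa using this
  refine ⟨(c' : S), ?_, hord, hP⟩
  -- c ∈ U
  rcases D.cases (c' : S) with ⟨i, j, hc⟩ | ⟨k, l, hc⟩
  · rw [hc]; exact D.A_mem_U i j
  · exfalso
    have hzc : Nat.card (Subgroup.zpowers (c' : S)) = 2 ^ D.n := by
      rw [Nat.card_zpowers, hord]; rfl
    have hex : ∃ g ∈ Y, g ∉ Subgroup.zpowers (c' : S) := by
      by_contra hcon
      push Not at hcon
      have := Subgroup.card_le_of_le (show Y ≤ Subgroup.zpowers (c' : S) from hcon)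
      rw [hcard, hzc, pow_succ] at this
      have : 0 < 2 ^ D.n := by positivity
      omega
    obtain ⟨g, hg, hgn⟩ := hex
    rcases hP g hg with h | ⟨h1, -⟩
    · exact hgn h
    · have hcc : (c' : S) * (c' : S) ∈ Subgroup.center S := by
        rw [hc, D.B_mul_B, D.mem_center_iff]
        exact ⟨k + l, by congr 1; ring⟩
      rw [Subgroup.mem_center_iff] at hcc
      have h2 : g * ((c' : S) * (c' : S)) * g⁻¹ = ((c' : S) * (c' : S))⁻¹ := by
        calc g * ((c' : S) * (c' : S)) * g⁻¹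
            = (g * (c' : S) * g⁻¹) * (g * (c' : S) * g⁻¹) := by group
          _ = ((c' : S) * (c' : S))⁻¹ := by rw [h1]; group
      have h3 : g * ((c' : S) * (c' : S)) * g⁻¹ = (c' : S) * (c' : S) := by
        rw [hcc g]; group
      rw [h3] at h2
      have h4 : (c' : S) ^ 4 = 1 := by
        have : (c' : S) ^ 4 = ((c' : S) * (c' : S)) * ((c' : S) * (c' : S)) := by
          rw [show (4 : ℕ) = 2 + 2 from rfl, pow_add, pow_two]
        rw [this]
        nth_rewrite 1 [h2]
        exact inv_mul_cancel _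
      have h5 := orderOf_dvd_of_pow_eq_one h4
      rw [hord] at h5
      have h6 := Nat.le_of_dvd (by norm_num) h5
      have h7 : 2 ^ 3 ≤ D.N := by
        unfold N; exact Nat.pow_le_pow_right (by norm_num) hn3
      omega

end WD

end Cfsg.Agent.Lib.Helper9
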