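import Mathlib
import Cfsg.Agent.Lib.Helper9.Wr7

set_option autoImplicit false

namespace Cfsg.Agent.Lib.Helper9

namespace WD

variable {S : Type*} [Group S] (D : WD S)

/-- Step A for `n = 2` -/
theorem exists_c_eq2 [Finite S] (Y : Subgroup S) (hcard : Nat.card Y = 8)
    (e : Y ≃* QuaternionGroup 2) :
    ∃ c : S, c ∈ D.U ∧ orderOf c = 4 ∧
      ∀ g ∈ Y, g ∈ Subgroup.zpowers c ∨ (g * c * g⁻¹ = c⁻¹ ∧ g * g = c * c) := by
  classical
  have hone : ∀ (t : S) (ht : t ∈ Y), e ⟨t, ht⟩ = 1 → t = 1 := by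
    intro t ht h
    have := e.injective (h.trans (map_one e).symm)
    exact congrArg Subtype.val this
  have hpow4 : ∀ g ∈ Y, g ^ 4 = 1 := by
    intro g hg
    have h1 := q8_pow4 (e ⟨g, hg⟩)
    rw [← map_pow] at h1
    have h2 := e.injective (h1.trans (map_one e).symm)
    exact congrArg Subtype.val h2
  have hinv : ∀ g ∈ Y, ∀ h ∈ Y, g * g = 1 → g ≠ 1 → h * h = 1 → h ≠ 1 → g = h := by
    intro g hg h hh g1 g2 h1 h2
    have tr : ∀ (t : S) (ht : t ∈ Y), t * t = 1 → t ≠ 1 →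
        e ⟨t, ht⟩ * e ⟨t, ht⟩ = 1 ∧ e ⟨t, ht⟩ ≠ 1 := by
      intro t ht t1 t2
      constructor
      · rw [← map_mul]
        have : (⟨t, ht⟩ : Y) * ⟨t, ht⟩ = 1 := Subtype.ext t1
        rw [this, map_one]
      · intro hc
        exact t2 (hone t ht hc)
    obtain ⟨a1, a2⟩ := tr g hg g1 g2
    obtain ⟨b1, b2⟩ := tr h hh h1 h2
    have := e.injective (q8_inv _ _ a1 a2 b1 b2)
    exact congrArg Subtype.val this
  -- an element outside U
  have hexb : ∃ b ∈ Y, b ∉ D.U := by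
    by_contra hcon
    push Not at hcon
    obtain ⟨p, q, hpq⟩ := q8_noncomm
    apply hpq
    have h1 : (e.symm p : S) * (e.symm q : S) = (e.symm q : S) * (e.symm p : S) := by
      obtain ⟨i, j, hi⟩ := hcon _ (e.symm p).2
      obtain ⟨k, l, hk⟩ := hcon _ (e.symm q).2
      rw [hi, hk, D.A_mul_A, D.A_mul_A]; congr 1 <;> ring
    have h2 : e.symm p * e.symm q = e.symm q * e.symm p := Subtype.ext h1
    have h3 := congrArg e h2
    simpa using h3
  obtain ⟨b, hbY, hbU⟩ := hexb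
  have hexc : ∃ c ∈ Y, c ∈ D.U ∧ c * c ≠ 1 := by
    by_contra hcon
    push Not at hcon
    let f : Y → Bool × Bool := fun g =>
      (decide ((g : S) ∈ D.U), if (g : S) ∈ D.U then decide ((g : S) = 1) else decide ((g : S) * b = 1))
    have hf : Function.Injective f := by
      intro g g' h
      simp only [f, Prod.mk.injEq, decide_eq_decide] at h
      obtain ⟨h1, h2⟩ := h
      apply Subtype.ext
      by_cases hg : (g : S) ∈ D.U
      · have hg' : (g' : S) ∈ D.U := h1.mp hg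
        rw [if_pos hg, if_pos hg', decide_eq_decide] at h2
        by_cases g1 : (g : S) = 1
        · rw [g1, h2.mp g1]
        · have g1' : (g' : S) ≠ 1 := fun hh => g1 (h2.mpr hh)
          exact hinv _ g.2 _ g'.2 (hcon _ g.2 hg) g1 (hcon _ g'.2 hg') g1'
      · have hg' : (g' : S) ∉ D.U := fun hh => hg (h1.mpr hh)
        rw [if_neg hg, if_neg hg', decide_eq_decide] at h2
        have hgb : (g : S) * b ∈ D.U :=
          (Subgroup.mul_mem_iff_of_index_two D.index_U).mpr (iff_of_false hg hbU)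
        have hgb' : (g' : S) * b ∈ D.U :=
          (Subgroup.mul_mem_iff_of_index_two D.index_U).mpr (iff_of_false hg' hbU)
        have key : (g : S) * b = (g' : S) * b := by
          by_cases g1 : (g : S) * b = 1
          · rw [g1, h2.mp g1]
          · have g1' : (g' : S) * b ≠ 1 := fun hh => g1 (h2.mpr hh)
            exact hinv _ (Y.mul_mem g.2 hbY) _ (Y.mul_mem g'.2 hbY)
              (hcon _ (Y.mul_mem g.2 hbY) hgb) g1 (hcon _ (Y.mul_mem g'.2 hbY) hgb') g1'
        exact mul_right_cancel key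
    have hle := Nat.card_le_card_of_injective f hf
    rw [hcard] at hle
    simp at hle
  obtain ⟨c, hcY, hcU, hcc⟩ := hexc
  have hord : orderOf c = 4 := by
    have : orderOf c = 2 ^ (1 + 1) := by
      apply orderOf_eq_prime_pow
      · rw [pow_one, pow_two]; exact hcc
      · exact hpow4 c hcY
    rw [this]
    norm_num
  refine ⟨c, hcU, hord, ?_⟩
  intro g hg
  by_cases hz : g = 1 ∨ g = c ∨ g = c * c ∨ g = c * c * c
  · left
    rcases hz with rfl | rfl | rfl | rfl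
    · exact Subgroup.one_mem _
    · exact Subgroup.mem_zpowers _
    · exact Subgroup.mul_mem _ (Subgroup.mem_zpowers _) (Subgroup.mem_zpowers _)
    · exact Subgroup.mul_mem _ (Subgroup.mul_mem _ (Subgroup.mem_zpowers _)
        (Subgroup.mem_zpowers _)) (Subgroup.mem_zpowers _)
  · right
    push Not at hz
    obtain ⟨z1, z2, z3, z4⟩ := hz
    have inj : ∀ (s t : Y), e s = e t → (s : S) = (t : S) := fun s t h =>
      congrArg Subtype.val (e.injective h)
    have k1 : e ⟨c, hcY⟩ * e ⟨c, hcY⟩ ≠ 1 := by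
      intro h
      apply hcc
      have := inj (⟨c, hcY⟩ * ⟨c, hcY⟩) 1 (by rw [map_mul, map_one]; exact h)
      simpa using this
    have k2 : e ⟨g, hg⟩ ≠ 1 := fun h => z1 (hone g hg h)
    have k3 : e ⟨g, hg⟩ ≠ e ⟨c, hcY⟩ := fun h => z2 (inj _ _ h)
    have k4 : e ⟨g, hg⟩ ≠ e ⟨c, hcY⟩ * e ⟨c, hcY⟩ := by
      intro h
      apply z3
      have := inj ⟨g, hg⟩ (⟨c, hcY⟩ * ⟨c, hcY⟩) (by rw [map_mul]; exact h)
      simpa using this
    have k5 : e ⟨g, hg⟩ ≠ e ⟨c, hcY⟩ * e ⟨c, hcY⟩ * e ⟨c, hcY⟩ := by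
      intro h
      apply z4
      have := inj ⟨g, hg⟩ (⟨c, hcY⟩ * ⟨c, hcY⟩ * ⟨c, hcY⟩) (by rw [map_mul, map_mul]; exact h)
      simpa using this
    obtain ⟨r1, r2⟩ := q8_P _ _ k1 k2 k3 k4 k5
    constructor
    · have := inj (⟨g, hg⟩ * ⟨c, hcY⟩ * ⟨g, hg⟩⁻¹) (⟨c, hcY⟩⁻¹)
        (by rw [map_mul, map_mul, map_inv, map_inv]; exact r1)
      simpa using this
    · have := inj (⟨g, hg⟩ * ⟨g, hg⟩) (⟨c, hcY⟩ * ⟨c, hcY⟩)
        (by rw [map_mul, map_mul]; exact r2)
      simpa using this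

end WD

end Cfsg.Agent.Lib.Helper9
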