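import Mathlib
import Cfsg.Agent.Lib.Helper9.WF1
import Cfsg.Agent.Lib.Helper9.Wr8

set_option autoImplicit false

namespace Cfsg.Agent.Lib.Helper9

section WF2

variable {G : Type*} [Group G]

namespace WD

variable {S : Subgroup G} (D : WD ↥S)

/-- the homocyclic abelian subgroup, inside `G` -/
noncomputable def Ug : Subgroup G := D.U.map S.subtype

/-- the normal four-group, inside `G` -/
noncomputable def Tg : Subgroup G := D.T.map S.subtype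

theorem Ug_le : D.Ug ≤ S := Subgroup.map_subtype_le _

theorem Tg_le_Ug : D.Tg ≤ D.Ug := by
  apply Subgroup.map_mono
  rintro g ⟨i, j, -, -, rfl⟩
  exact D.A_mem_U i j

theorem coe_mem_Ug_iff (a : ↥S) : (a : G) ∈ D.Ug ↔ a ∈ D.U := by
  constructor
  · rintro ⟨b, hb, hba⟩
    have : b = a := Subtype.ext hba
    rw [← this]; exact hb
  · intro h
    exact ⟨a, h, rfl⟩

theorem coe_mem_Tg_iff (a : ↥S) : (a : G) ∈ D.Tg ↔ a ∈ D.T := by
  constructor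
  · rintro ⟨b, hb, hba⟩
    have : b = a := Subtype.ext hba
    rw [← this]; exact hb
  · intro h
    exact ⟨a, h, rfl⟩

theorem A_mem_Ug (i j : ZMod D.N) : ((D.A i j : ↥S) : G) ∈ D.Ug :=
  (D.coe_mem_Ug_iff _).mpr (D.A_mem_U i j)

theorem B_notMem_Ug (i j : ZMod D.N) : ((D.B i j : ↥S) : G) ∉ D.Ug := fun h =>
  D.B_notMem_U i j ((D.coe_mem_Ug_iff _).mp h)

theorem exists_of_mem_Ug {a : G} (ha : a ∈ D.Ug) : ∃ i j, a = ((D.A i j : ↥S) : G) := by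
  obtain ⟨b, ⟨i, j, rfl⟩, rfl⟩ := ha
  exact ⟨i, j, rfl⟩

theorem Ug_comm : ∀ a ∈ D.Ug, ∀ b ∈ D.Ug, a * b = b * a := by
  intro a ha b hb
  obtain ⟨i, j, rfl⟩ := D.exists_of_mem_Ug ha
  obtain ⟨k, l, rfl⟩ := D.exists_of_mem_Ug hb
  have h : D.A i j * D.A k l = D.A k l * D.A i j := by
    rw [D.A_mul_A, D.A_mul_A]; congr 1 <;> ring
  exact congrArg (Subtype.val : ↥S → G) h

theorem Ug_isPGroup [Finite G] (hS : IsPGroup 2 S) : IsPGroup 2 D.Ug := hS.to_le D.Ug_le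

theorem card_Ug : Nat.card D.Ug = 2 ^ (2 * D.n) := by
  unfold Ug
  rw [Subgroup.card_map_of_injective S.subtype_injective]
  exact D.card_U

theorem mem_Tg_iff_sq {a : G} (ha : a ∈ D.Ug) : a ∈ D.Tg ↔ a * a = 1 := by
  obtain ⟨i, j, rfl⟩ := D.exists_of_mem_Ug ha
  rw [D.coe_mem_Tg_iff, D.A_mem_T]
  constructor
  · rintro ⟨hi, hj⟩
    have h : D.A i j * D.A i j = 1 := by
      rw [D.A_mul_A]
      have e1 : i + i = 0 := by linear_combination hi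
      have e2 : j + j = 0 := by linear_combination hj
      rw [e1, e2, D.A_zero]
    exact congrArg (Subtype.val : ↥S → G) h
  · intro h
    have h' : D.A i j * D.A i j = 1 := Subtype.ext h
    rw [D.A_mul_A] at h'
    obtain ⟨h1, h2⟩ := D.A_eq_one _ _ h'
    exact ⟨by linear_combination h1, by linear_combination h2⟩

theorem normalizer_Ug_le : Subgroup.normalizer (D.Ug : Set G) ≤
    Subgroup.normalizer (D.Tg : Set G) := by
  intro n hn
  rw [Subgroup.mem_normalizer_iff] at hn ⊢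
  intro a
  have key : ∀ (m : G), (∀ b, b ∈ D.Ug ↔ m * b * m⁻¹ ∈ D.Ug) → ∀ b, b ∈ D.Tg → m * b * m⁻¹ ∈ D.Tg := by
    intro m hm b hb
    have hbU := D.Tg_le_Ug hb
    rw [D.mem_Tg_iff_sq ((hm b).mp hbU)]
    have h1 := (D.mem_Tg_iff_sq hbU).mp hb
    have e : m * b * m⁻¹ * (m * b * m⁻¹) = m * (b * b) * m⁻¹ := by group
    rw [e, h1]; group
  constructor
  · exact key n hn a
  · intro h
    have hn' : ∀ b, b ∈ D.Ug ↔ n⁻¹ * b * n⁻¹⁻¹ ∈ D.Ug := by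
      intro b
      rw [hn (n⁻¹ * b * n⁻¹⁻¹)]
      have e : n * (n⁻¹ * b * n⁻¹⁻¹) * n⁻¹ = b := by group
      rw [e]
    have h2 := key n⁻¹ hn' _ h
    have e : n⁻¹ * (n * a * n⁻¹) * n⁻¹⁻¹ = a := by group
    rwa [e] at h2

theorem le_normalizer_Ug : S ≤ Subgroup.normalizer (D.Ug : Set G) := by
  intro s hs
  haveI : D.U.Normal := Subgroup.normal_of_index_eq_two D.index_U
  rw [Subgroup.mem_normalizer_iff]
  intro a
  constructor
  · intro ha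
    obtain ⟨b, hb, rfl⟩ := ha
    have h1 : (⟨s, hs⟩ : ↥S) * b * (⟨s, hs⟩ : ↥S)⁻¹ ∈ D.U :=
      (inferInstance : D.U.Normal).conj_mem b hb _
    exact ⟨_, h1, by simp⟩
  · intro ha
    obtain ⟨b, hb, hba⟩ := ha
    have h1 : (⟨s, hs⟩ : ↥S)⁻¹ * b * (⟨s, hs⟩ : ↥S)⁻¹⁻¹ ∈ D.U :=
      (inferInstance : D.U.Normal).conj_mem b hb _
    refine ⟨_, h1, ?_⟩
    have h2 : (S.subtype b : G) = s * a * s⁻¹ := hba
    simp only [Subgroup.subtype_apply, Subgroup.coe_mul, Subgroup.coe_inv, inv_inv]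
    have h3 : (b : G) = s * a * s⁻¹ := h2
    rw [h3]; group

/-- the three involutions of `Tg` -/
theorem zeta_mem_Tg : ((D.A D.u D.u : ↥S) : G) ∈ D.Tg :=
  (D.coe_mem_Tg_iff _).mpr ((D.A_mem_T _ _).mpr ⟨D.two_u, D.two_u⟩)

theorem t_mem_Tg : ((D.A D.u 0 : ↥S) : G) ∈ D.Tg :=
  (D.coe_mem_Tg_iff _).mpr ((D.A_mem_T _ _).mpr ⟨D.two_u, by ring⟩)

theorem t'_mem_Tg : ((D.A 0 D.u : ↥S) : G) ∈ D.Tg :=
  (D.coe_mem_Tg_iff _).mpr ((D.A_mem_T _ _).mpr ⟨by ring, D.two_u⟩)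

theorem A_ne_one_of_left {i j : ZMod D.N} (hi : i ≠ 0) : ((D.A i j : ↥S) : G) ≠ 1 := by
  intro h
  have h' : D.A i j = 1 := Subtype.ext h
  exact hi (D.A_eq_one _ _ h').1

theorem A_ne_one_of_right {i j : ZMod D.N} (hj : j ≠ 0) : ((D.A i j : ↥S) : G) ≠ 1 := by
  intro h
  have h' : D.A i j = 1 := Subtype.ext h
  exact hj (D.A_eq_one _ _ h').2

theorem card_Tg : Nat.card D.Tg = 4 := by
  unfold Tg
  rw [Subgroup.card_map_of_injective S.subtype_injective]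
  exact D.card_T

theorem mem_Tg_cases {a : G} (ha : a ∈ D.Tg) :
    a = 1 ∨ a = ((D.A D.u D.u : ↥S) : G) ∨ a = ((D.A D.u 0 : ↥S) : G) ∨
      a = ((D.A 0 D.u : ↥S) : G) := by
  obtain ⟨b, ⟨i, j, hi, hj, rfl⟩, rfl⟩ := ha
  rcases D.two_mul_eq_zero i hi with rfl | rfl <;> rcases D.two_mul_eq_zero j hj with rfl | rfl
  · left
    show ((D.A 0 0 : ↥S) : G) = 1
    rw [D.A_zero]; rfl
  · right; right; right; rfl
  · right; right; left; rfl
  · right; left; rfl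

/-- an element of `S` commuting with `A u 0` lies in `Ug` -/
theorem mem_Ug_of_commute {s : G} (hs : s ∈ S)
    (hc : s * ((D.A D.u 0 : ↥S) : G) * s⁻¹ = ((D.A D.u 0 : ↥S) : G)) : s ∈ D.Ug := by
  rcases D.cases ⟨s, hs⟩ with ⟨i, j, h⟩ | ⟨i, j, h⟩
  · have : s = ((D.A i j : ↥S) : G) := congrArg Subtype.val h
    rw [this]; exact D.A_mem_Ug i j
  · exfalso
    have hs' : s = ((D.B i j : ↥S) : G) := congrArg Subtype.val h
    have h1 : D.B i j * D.A D.u 0 * (D.B i j)⁻¹ = D.A 0 D.u := D.B_conj_A _ _ _ _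
    have h2 := congrArg (Subtype.val : ↥S → G) h1
    have h3 : s * ((D.A D.u 0 : ↥S) : G) * s⁻¹ = ((D.A 0 D.u : ↥S) : G) := by
      rw [hs']; simpa using h2
    rw [hc] at h3
    have h4 : D.A D.u 0 = D.A 0 D.u := Subtype.ext h3
    exact D.u_ne_zero (D.A_inj h4).1

end WD

end WF2

end Cfsg.Agent.Lib.Helper9
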