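import Mathlib
import Cfsg.Agent.Lib.Helper9.WF2

set_option autoImplicit false

namespace Cfsg.Agent.Lib.Helper9

section WF3

variable {G : Type*} [Group G]

theorem conj_mem_centralizer_of_mem_normalizer {U : Subgroup G} {m s : G}
    (hm : m ∈ Subgroup.normalizer (U : Set G)) (hs : s ∈ Subgroup.centralizer (U : Set G)) :
    m⁻¹ * s * m ∈ Subgroup.centralizer (U : Set G) := by
  rw [Subgroup.mem_centralizer_iff] at hs ⊢
  intro a ha
  have h1 : m * a * m⁻¹ ∈ U := (Subgroup.mem_normalizer_iff.mp hm a).mp ha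
  have h2 := hs _ h1
  calc a * (m⁻¹ * s * m) = m⁻¹ * ((m * a * m⁻¹) * s) * m := by group
    _ = m⁻¹ * (s * (m * a * m⁻¹)) * m := by rw [h2]
    _ = m⁻¹ * s * m * a := by group

theorem WD.ker_U [Finite G] (S : Sylow 2 G) (D : WD ↥(S : Subgroup G)) :
    (Subgroup.centralizer (D.Tg : Set G)).subgroupOf (Subgroup.normalizer (D.Ug : Set G)) =
    (Subgroup.centralizer (D.Ug : Set G)).subgroupOf (Subgroup.normalizer (D.Ug : Set G)) := by
  classical
  ext ⟨k, hk⟩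
  rw [Subgroup.mem_subgroupOf, Subgroup.mem_subgroupOf]
  show k ∈ Subgroup.centralizer (D.Tg : Set G) ↔ k ∈ Subgroup.centralizer (D.Ug : Set G)
  constructor
  · intro hkT
    obtain ⟨e, r, hr, hcop, ho1, ho2⟩ := exists_two_odd_parts k
    have hU2 : IsPGroup 2 D.Ug := D.Ug_isPGroup S.2
    have h1 : k ^ (2 ^ e) ∈ Subgroup.centralizer (D.Ug : Set G) := by
      apply abelian_odd_centralizes D.Ug D.Ug_comm hU2 (Subgroup.pow_mem _ hk _)
        (by rw [ho1]; exact hr)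
      intro a ha hao
      have haT : a ∈ D.Tg := by
        rw [D.mem_Tg_iff_sq ha, ← pow_two, ← hao]; exact pow_orderOf_eq_one a
      have h2 := Subgroup.mem_centralizer_iff.mp (Subgroup.pow_mem _ hkT (2 ^ e)) a haT
      rw [← h2]; group
    have h2 : k ^ r ∈ Subgroup.centralizer (D.Ug : Set G) := by
      obtain ⟨m, hm, hms⟩ := exists_conj_mem_sylow_of_mem (p := 2)
        (Subgroup.normalizer (D.Ug : Set G)) S D.le_normalizer_Ug (k ^ r) ⟨e, ho2⟩
        (Subgroup.pow_mem _ hk _)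
      set s := m * k ^ r * m⁻¹ with hs_def
      have hmT : m ∈ Subgroup.normalizer (D.Tg : Set G) := D.normalizer_Ug_le hm
      have hsc : s * ((D.A D.u 0 : ↥(S : Subgroup G)) : G) * s⁻¹ =
          ((D.A D.u 0 : ↥(S : Subgroup G)) : G) := by
        set a := ((D.A D.u 0 : ↥(S : Subgroup G)) : G) with ha_def
        have h3 : m⁻¹ * a * m⁻¹⁻¹ ∈ D.Tg :=
          (Subgroup.mem_normalizer_iff.mp (Subgroup.inv_mem _ hmT) a).mp D.t_mem_Tg
        have h4 := Subgroup.mem_centralizer_iff.mp (Subgroup.pow_mem _ hkT r) _ h3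
        have e1 : s * a * s⁻¹ = m * (k ^ r * (m⁻¹ * a * m⁻¹⁻¹) * (k ^ r)⁻¹) * m⁻¹ := by
          rw [hs_def]; group
        rw [e1, ← h4]; group
      have hsU : s ∈ D.Ug := D.mem_Ug_of_commute hms hsc
      have hsC : s ∈ Subgroup.centralizer (D.Ug : Set G) := by
        rw [Subgroup.mem_centralizer_iff]
        intro a ha
        exact D.Ug_comm a ha s hsU
      have h5 := conj_mem_centralizer_of_mem_normalizer hm hsC
      have e2 : m⁻¹ * s * m = k ^ r := by rw [hs_def]; group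
      rwa [e2] at h5
    exact mem_of_pow_mem_of_coprime hcop h1 h2
  · intro hkU
    exact Subgroup.centralizer_le (by exact_mod_cast D.Tg_le_Ug) hkU

/-- the action of `N_G(U)` on the involutions of `U` -/
theorem WD.U_index [Finite G] (S : Sylow 2 G) (D : WD ↥(S : Subgroup G)) :
    ((Subgroup.centralizer (D.Ug : Set G)).relIndex (Subgroup.normalizer (D.Ug : Set G)) = 2 ∨
      (Subgroup.centralizer (D.Ug : Set G)).relIndex (Subgroup.normalizer (D.Ug : Set G)) = 6) ∧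
    ((Subgroup.centralizer (D.Ug : Set G)).relIndex (Subgroup.normalizer (D.Ug : Set G)) = 6 ↔
      ∃ n ∈ Subgroup.normalizer (D.Ug : Set G),
        n * ((D.A D.u D.u : ↥(S : Subgroup G)) : G) * n⁻¹ ≠
          ((D.A D.u D.u : ↥(S : Subgroup G)) : G)) ∧
    ((Subgroup.centralizer (D.Ug : Set G)).relIndex (Subgroup.normalizer (D.Ug : Set G)) = 6 →
      ∃ n ∈ Subgroup.normalizer (D.Ug : Set G),
        n * ((D.A D.u D.u : ↥(S : Subgroup G)) : G) * n⁻¹ =
          ((D.A D.u 0 : ↥(S : Subgroup G)) : G)) ∧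
    ((Subgroup.centralizer (D.Ug : Set G)).relIndex (Subgroup.normalizer (D.Ug : Set G)) = 6 →
      ∃ ν ∈ Subgroup.normalizer (D.Ug : Set G), Odd (orderOf ν) ∧
        ∀ a ∈ D.Tg, a ≠ 1 → ν * a * ν⁻¹ ≠ a) := by
  classical
  letI := conjActPtsOf D.Tg (Subgroup.normalizer (D.Ug : Set G)) D.normalizer_Ug_le
  have hfinT : Finite ↥D.Tg := inferInstance
  have hX : Nat.card {t : G // t ∈ D.Tg ∧ t ≠ 1} = 3 := by
    rw [card_pts, D.card_Tg]
  have hK : (Subgroup.centralizer (D.Ug : Set G)).subgroupOf (Subgroup.normalizer (D.Ug : Set G)) =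
      (MulAction.toPermHom ↥(Subgroup.normalizer (D.Ug : Set G))
        {t : G // t ∈ D.Tg ∧ t ≠ 1}).ker := by
    rw [conjActPtsOf_ker, WD.ker_U]
  have hzN : ((D.B 0 0 : ↥(S : Subgroup G)) : G) ∈ Subgroup.normalizer (D.Ug : Set G) :=
    D.le_normalizer_Ug (D.B 0 0).2
  have hζ1 : ((D.A D.u D.u : ↥(S : Subgroup G)) : G) ≠ 1 := D.A_ne_one_of_left D.u_ne_zero
  have ht1 : ((D.A D.u 0 : ↥(S : Subgroup G)) : G) ≠ 1 := D.A_ne_one_of_left D.u_ne_zero
  have hfix : ((D.B 0 0 : ↥(S : Subgroup G)) : G) * ((D.A D.u D.u : ↥(S : Subgroup G)) : G) *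
      ((D.B 0 0 : ↥(S : Subgroup G)) : G)⁻¹ = ((D.A D.u D.u : ↥(S : Subgroup G)) : G) := by
    have h1 : D.B 0 0 * D.A D.u D.u * (D.B 0 0)⁻¹ = D.A D.u D.u := D.B_conj_A _ _ _ _
    have := congrArg (Subtype.val : ↥(S : Subgroup G) → G) h1
    simpa using this
  have hnotK : (⟨((D.B 0 0 : ↥(S : Subgroup G)) : G), hzN⟩ :
      ↥(Subgroup.normalizer (D.Ug : Set G))) ∉
      (Subgroup.centralizer (D.Ug : Set G)).subgroupOf (Subgroup.normalizer (D.Ug : Set G)) := by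
    rw [Subgroup.mem_subgroupOf]
    intro hc
    have h1 := Subgroup.mem_centralizer_iff.mp hc _ (D.A_mem_Ug D.u 0)
    have h2 : D.A D.u 0 * D.B 0 0 = D.B 0 0 * D.A D.u 0 := Subtype.ext (by simpa using h1)
    rw [D.A_mul_B, D.B_mul_A] at h2
    have h3 := (D.B_inj h2).1
    apply D.u_ne_zero
    linear_combination h3
  have h3 := three_point_action (N := ↥(Subgroup.normalizer (D.Ug : Set G)))
    (X := {t : G // t ∈ D.Tg ∧ t ≠ 1}) hX _ hK ⟨_, hzN⟩
    ⟨((D.A D.u D.u : ↥(S : Subgroup G)) : G), D.zeta_mem_Tg, hζ1⟩ (Subtype.ext hfix) hnotK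
  obtain ⟨h3a, h3b, h3c⟩ := h3
  refine ⟨h3a, ?_, ?_, ?_⟩
  · constructor
    · intro h6
      obtain ⟨n, hn⟩ := h3b.mp h6
      exact ⟨n.1, n.2, fun h => hn (Subtype.ext h)⟩
    · rintro ⟨n, hnN, hn⟩
      exact h3b.mpr ⟨⟨n, hnN⟩, fun h => hn (congrArg Subtype.val h)⟩
  · intro h6
    obtain ⟨n, hn⟩ := h3c h6 ⟨((D.A D.u D.u : ↥(S : Subgroup G)) : G), D.zeta_mem_Tg, hζ1⟩
      ⟨((D.A D.u 0 : ↥(S : Subgroup G)) : G), D.t_mem_Tg, ht1⟩
    exact ⟨n.1, n.2, congrArg Subtype.val hn⟩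
  · intro h6
    obtain ⟨ν, hν, hmove⟩ := three_point_odd_mover (N := ↥(Subgroup.normalizer (D.Ug : Set G)))
      (X := {t : G // t ∈ D.Tg ∧ t ≠ 1}) hX _ hK h6
    refine ⟨(ν : G), ν.2, ?_, ?_⟩
    · rw [Subgroup.orderOf_coe]; exact hν
    · intro a ha ha1 hc
      exact hmove ⟨a, ha, ha1⟩ (Subtype.ext hc)

end WF3

end Cfsg.Agent.Lib.Helper9
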