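import Mathlib
import Cfsg.Agent.Lib.Helper9.WF3
import Cfsg.Agent.S1196

set_option autoImplicit false

namespace Cfsg.Agent.Lib.Helper9

namespace WD

variable {S : Type*} [Group S] (D : WD S)

/-- `2 ^ (n - 2)` -/
def v : ZMod D.N := ((2 ^ (D.n - 2) : ℕ) : ZMod D.N)

theorem two_v : 2 * D.v = D.u := by
  unfold v u
  have h : 2 * 2 ^ (D.n - 2) = 2 ^ (D.n - 1) := by
    rw [← pow_succ']; congr 1; have := D.hn; omega
  rw [← h]; push_cast; ring

theorem four_v : 4 * D.v = 0 := by linear_combination 2 * D.two_v + D.two_u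

theorem two_v_ne : 2 * D.v ≠ 0 := by rw [D.two_v]; exact D.u_ne_zero

theorem v_ne_zero : D.v ≠ 0 := by
  intro h
  apply D.two_v_ne
  rw [h, mul_zero]

theorem two_ne_zero' : (2 : ZMod D.N) ≠ 0 := by
  intro h
  apply D.two_v_ne
  rw [h, zero_mul]

theorem neg_v : -D.v = D.v + D.u := by linear_combination -D.two_v - D.two_u

theorem four_mul_eq_zero (k : ZMod D.N) (h : 4 * k = 0) :
    k = 0 ∨ k = D.v ∨ k = D.u ∨ k = -D.v := by
  have h2 : 2 * (2 * k) = 0 := by linear_combination h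
  rcases D.two_mul_eq_zero (2 * k) h2 with h0 | hu
  · rcases D.two_mul_eq_zero k h0 with rfl | rfl
    · left; rfl
    · right; right; left; rfl
  · have h3 : 2 * (k - D.v) = 0 := by linear_combination hu - D.two_v
    rcases D.two_mul_eq_zero (k - D.v) h3 with h4 | h4
    · right; left; linear_combination h4
    · right; right; right; rw [D.neg_v]; linear_combination h4

/-- the quaternion subgroups of order eight -/
noncomputable def Q8s (c : ZMod D.N) : Subgroup S where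
  carrier := {g | (∃ k, 4 * k = 0 ∧ g = D.A k (-k)) ∨
    (∃ k l, k + l = D.u ∧ 4 * (k - c) = 0 ∧ g = D.B k l)}
  one_mem' := Or.inl ⟨0, by ring, by rw [neg_zero, D.A_zero]⟩
  mul_mem' := by
    rintro a b (⟨k, hk, rfl⟩ | ⟨k, l, hkl, hk, rfl⟩) (⟨k', hk', rfl⟩ | ⟨k', l', hkl', hk', rfl⟩)
    · exact Or.inl ⟨k + k', by linear_combination hk + hk', by rw [D.A_mul_A]; congr 1; ring⟩
    · exact Or.inr ⟨k + k', -k + l', by linear_combination hkl', by linear_combination hk + hk',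
        D.A_mul_B _ _ _ _⟩
    · exact Or.inr ⟨k + -k', l + k', by linear_combination hkl, by linear_combination hk - hk',
        D.B_mul_A _ _ _ _⟩
    · refine Or.inl ⟨k + l', ?_, ?_⟩
      · linear_combination hk - hk' + 4 * hkl' + 2 * D.two_u
      · rw [D.B_mul_B]; congr 1
        linear_combination hkl + hkl' + D.two_u
  inv_mem' := by
    rintro a (⟨k, hk, rfl⟩ | ⟨k, l, hkl, hk, rfl⟩)
    · exact Or.inl ⟨-k, by linear_combination -hk, by rw [D.A_inv]⟩
    · exact Or.inr ⟨-l, -k, by linear_combination -hkl - D.two_u,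
        by linear_combination hk - 4 * hkl - 2 * D.two_u, D.B_inv k l⟩

theorem A_mem_Q8s (c i j : ZMod D.N) : D.A i j ∈ D.Q8s c ↔ j = -i ∧ 4 * i = 0 := by
  constructor
  · rintro (⟨k, hk, h⟩ | ⟨k, l, -, -, h⟩)
    · obtain ⟨rfl, rfl⟩ := D.A_inj h; exact ⟨rfl, hk⟩
    · exact absurd h.symm (D.B_ne_A _ _ _ _)
  · rintro ⟨rfl, h4⟩
    exact Or.inl ⟨i, h4, rfl⟩

theorem B_mem_Q8s (c i j : ZMod D.N) : D.B i j ∈ D.Q8s c ↔ i + j = D.u ∧ 4 * (i - c) = 0 := by
  constructor
  · rintro (⟨k, -, h⟩ | ⟨k, l, hkl, hk, h⟩)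
    · exact absurd h (D.B_ne_A _ _ _ _)
    · obtain ⟨rfl, rfl⟩ := D.B_inj h; exact ⟨hkl, hk⟩
  · rintro ⟨h, h4⟩
    exact Or.inr ⟨i, j, h, h4, rfl⟩

theorem Q8s_le_Qs (c : ZMod D.N) : D.Q8s c ≤ D.Qs := by
  rintro g (⟨k, -, rfl⟩ | ⟨k, l, hkl, -, rfl⟩)
  · exact (D.A_mem_Qs _ _).mpr rfl
  · exact (D.B_mem_Qs _ _).mpr hkl

theorem card_Q8s_le (c : ZMod D.N) : Nat.card (D.Q8s c) ≤ 8 := by
  classical
  let f : Fin 4 × Bool → D.Q8s c := fun p =>
    if p.2 then ⟨D.B (c + (p.1.val : ZMod D.N) * D.v) (D.u - c - (p.1.val : ZMod D.N) * D.v),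
      (D.B_mem_Q8s _ _ _).mpr ⟨by ring, by linear_combination (p.1.val : ZMod D.N) * D.four_v⟩⟩
    else ⟨D.A ((p.1.val : ZMod D.N) * D.v) (-((p.1.val : ZMod D.N) * D.v)),
      (D.A_mem_Q8s _ _ _).mpr ⟨rfl, by linear_combination (p.1.val : ZMod D.N) * D.four_v⟩⟩
  have hsurj : Function.Surjective f := by
    rintro ⟨g, hg⟩
    have key : ∀ k : ZMod D.N, 4 * k = 0 → ∃ m : Fin 4, k = (m.val : ZMod D.N) * D.v := by
      intro k hk
      rcases D.four_mul_eq_zero k hk with rfl | rfl | rfl | rfl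
      · exact ⟨0, by simp⟩
      · exact ⟨1, by simp⟩
      · exact ⟨2, by rw [← D.two_v]; simp⟩
      · refine ⟨3, ?_⟩
        have : ((3 : Fin 4).val : ZMod D.N) = 3 := by simp
        rw [this]; linear_combination -D.four_v
    rcases hg with ⟨k, hk, rfl⟩ | ⟨k, l, hkl, hk, rfl⟩
    · obtain ⟨m, hm⟩ := key k hk
      refine ⟨(m, false), ?_⟩
      apply Subtype.ext
      simp only [f, Bool.false_eq_true, if_false]
      rw [hm]
    · obtain ⟨m, hm⟩ := key (k - c) hk
      refine ⟨(m, true), ?_⟩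
      apply Subtype.ext
      simp only [f, if_true]
      congr 1
      · linear_combination -hm
      · linear_combination hm - hkl
  have h1 := Nat.card_le_card_of_surjective f hsurj
  have h2 : Nat.card (Fin 4 × Bool) = 8 := by
    rw [Nat.card_prod]; simp
  omega

/-- every quaternion subgroup of order eight is one of the `Q8s c` -/
theorem q8_classify [Finite S] (Y : Subgroup S) (e : Y ≃* QuaternionGroup 2) :
    ∃ c, Y = D.Q8s c := by
  classical
  have hcard : Nat.card Y = 8 := by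
    rw [Nat.card_congr e.toEquiv, Nat.card_eq_fintype_card, QuaternionGroup.card]
  obtain ⟨c, hcU, hco, hP⟩ := D.exists_c_eq2 Y hcard e
  obtain ⟨a, b, rfl⟩ := hcU
  have hcc : D.A a b * D.A a b ≠ 1 := by
    intro h
    have h1 : orderOf (D.A a b) ∣ 2 := orderOf_dvd_of_pow_eq_one (by rw [pow_two]; exact h)
    rw [hco] at h1
    omega
  have hzU : Subgroup.zpowers (D.A a b) ≤ D.U := Subgroup.zpowers_le.mpr (D.A_mem_U a b)
  -- an element outside `U`
  have hex : ∃ g ∈ Y, g ∉ D.U := by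
    by_contra hne
    push Not at hne
    obtain ⟨p, q, hpq⟩ := q8_noncomm
    apply hpq
    have h1 : ((e.symm p : Y) : S) * ((e.symm q : Y) : S) = ((e.symm q : Y) : S) * ((e.symm p : Y) : S) := by
      obtain ⟨i, j, hi⟩ := hne _ (e.symm p).2
      obtain ⟨k, l, hk⟩ := hne _ (e.symm q).2
      rw [hi, hk, D.A_mul_A, D.A_mul_A]; congr 1 <;> ring
    have h2 : e.symm p * e.symm q = e.symm q * e.symm p := Subtype.ext h1
    have h3 := congrArg e h2
    simpa using h3
  obtain ⟨g, hgY, hgU⟩ := hex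
  rcases D.cases g with ⟨i, j, rfl⟩ | ⟨i, j, rfl⟩
  · exact absurd (D.A_mem_U i j) hgU
  have hB : ∀ k l, D.B k l ∈ Y → D.B k l * D.A a b * (D.B k l)⁻¹ = (D.A a b)⁻¹ ∧
      D.B k l * D.B k l = D.A a b * D.A a b := by
    intro k l hkl
    rcases hP _ hkl with h | h
    · exact absurd (hzU h) (D.B_notMem_U k l)
    · exact h
  obtain ⟨h1, h2⟩ := hB i j hgY
  rw [D.B_conj_A, D.A_inv] at h1
  obtain ⟨hb, -⟩ := D.A_inj h1
  subst hb
  rw [D.B_mul_B, D.A_mul_A] at h2
  obtain ⟨h3, h4⟩ := D.A_inj h2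
  have h4a : 4 * a = 0 := by linear_combination h4 - h3
  have h2a : 2 * a = D.u := by
    rcases D.two_mul_eq_zero (2 * a) (by linear_combination h4a) with h | h
    · exfalso; apply hcc
      rw [D.A_mul_A]
      have e1 : a + a = 0 := by linear_combination h
      have e2 : -a + -a = 0 := by linear_combination -h
      rw [e1, e2, D.A_zero]
    · exact h
  have hij : i + j = D.u := by linear_combination h3 + h2a
  have hcQ : D.A a (-a) ∈ D.Q8s i := (D.A_mem_Q8s _ _ _).mpr ⟨rfl, h4a⟩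
  have hzQ : Subgroup.zpowers (D.A a (-a)) ≤ D.Q8s i := Subgroup.zpowers_le.mpr hcQ
  have hle : Y ≤ D.Q8s i := by
    intro h hh
    have hA : ∀ k l, D.A k l ∈ Y → D.A k l ∈ D.Q8s i := by
      intro k l hkl
      rcases hP _ hkl with h5 | ⟨h5, -⟩
      · exact hzQ h5
      · exfalso
        rw [D.A_conj_A] at h5
        apply hcc
        nth_rewrite 1 [h5]
        exact inv_mul_cancel _
    rcases D.cases h with ⟨k, l, rfl⟩ | ⟨k, l, rfl⟩
    · exact hA k l hh
    · obtain ⟨-, h6⟩ := hB k l hh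
      rw [D.B_mul_B, D.A_mul_A] at h6
      obtain ⟨h7, -⟩ := D.A_inj h6
      have hkl : k + l = D.u := by linear_combination h7 + h2a
      have h8 : D.B k l * (D.B i j)⁻¹ ∈ Y := Y.mul_mem hh (Y.inv_mem hgY)
      rw [D.B_inv, D.B_mul_B] at h8
      have h9 := hA _ _ h8
      rw [D.A_mem_Q8s] at h9
      rw [D.B_mem_Q8s]
      exact ⟨hkl, by linear_combination h9.2⟩
  refine ⟨i, ?_⟩
  apply Subgroup.eq_of_le_of_card_ge hle
  rw [hcard]
  exact D.card_Q8s_le i

/-- `IsWreathed` from the data -/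
theorem isWreathed (D : WD S) : Cfsg.IsWreathed S :=
  ⟨D.n, D.hn, D.card, D.x, D.y, D.z, D.hx, D.hxy, D.hdisj, D.hz, D.hc⟩

/-- uniqueness of the abelian subgroup of index two -/
theorem abelian_unique [Finite S] (W : Subgroup S) (hW : ∀ a ∈ W, ∀ b ∈ W, a * b = b * a)
    (hcard : Nat.card W = 2 ^ (2 * D.n)) : W = D.U := by
  obtain ⟨⟨U₀, -, hU₀⟩, -⟩ := Cfsg.Agent.S1196.result D.isWreathed D.n D.card
  have h1 : W = U₀ := by
    apply hU₀
    refine ⟨⟨⟨fun a b => ?_⟩⟩, hcard⟩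
    exact Subtype.ext (hW a a.2 b b.2)
  have h2 : D.U = U₀ := by
    apply hU₀
    refine ⟨⟨⟨fun a b => ?_⟩⟩, D.card_U⟩
    apply Subtype.ext
    obtain ⟨i, j, ha⟩ := a.2
    obtain ⟨k, l, hb⟩ := b.2
    show (a : S) * (b : S) = (b : S) * (a : S)
    rw [ha, hb, D.A_mul_A, D.A_mul_A]; congr 1 <;> ring
  rw [h1, h2]

theorem A_comm_B_iff (k l i j : ZMod D.N) :
    D.A k l * D.B i j = D.B i j * D.A k l ↔ k = l := by
  rw [D.A_mul_B, D.B_mul_A]
  constructor
  · intro h
    have := (D.B_inj h).1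
    linear_combination this
  · rintro rfl; congr 1 <;> ring

theorem B_comm_B_iff (i j k l : ZMod D.N) :
    D.B i j * D.B k l = D.B k l * D.B i j ↔ i + l = k + j := by
  rw [D.B_mul_B, D.B_mul_B]
  constructor
  · intro h
    exact (D.A_inj h).1
  · intro h
    congr 1
    linear_combination -h

/-- an abelian normal subgroup lies in `U` -/
theorem le_U_of_normal_of_comm (E : Subgroup S) (hEn : E.Normal)
    (hE : ∀ a ∈ E, ∀ b ∈ E, a * b = b * a) : E ≤ D.U := by
  intro g hg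
  rcases D.cases g with ⟨i, j, rfl⟩ | ⟨i, j, rfl⟩
  · exact D.A_mem_U i j
  · exfalso
    have h1 : D.A 1 0 * D.B i j * (D.A 1 0)⁻¹ ∈ E := hEn.conj_mem _ hg _
    rw [D.A_conj_B] at h1
    have h2 := hE _ hg _ h1
    rw [D.B_comm_B_iff] at h2
    apply D.two_ne_zero'
    linear_combination -h2

/-- involutions which are squares lie in `U` -/
theorem sq_involution (g h : S) (hg : orderOf g = 2) (hgh : g = h * h) :
    g = D.A D.u D.u ∨ g = D.A D.u 0 ∨ g = D.A 0 D.u := by
  have hgU : g ∈ D.U := by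
    rw [hgh]; exact Subgroup.mul_self_mem_of_index_two D.index_U h
  rcases (D.orderOf_two_iff g).mp hg with h1 | h1 | h1 | ⟨i, h1⟩
  · left; exact h1
  · right; left; exact h1
  · right; right; exact h1
  · rw [h1] at hgU
    exact absurd hgU (D.B_notMem_U _ _)

end WD

end Cfsg.Agent.Lib.Helper9
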