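import Mathlib
import Cfsg.Agent.Lib.Helper9.WF4

set_option autoImplicit false

namespace Cfsg.Agent.Lib.Helper9

section WF5gen

variable {G : Type*} [Group G]

theorem mem_sup_of_commute {H K : Subgroup G} (hc : ∀ a ∈ H, ∀ b ∈ K, a * b = b * a) {x : G} :
    x ∈ H ⊔ K ↔ ∃ a ∈ H, ∃ b ∈ K, x = a * b := by
  constructor
  · intro hx
    let M : Subgroup G :=
      { carrier := {x | ∃ a ∈ H, ∃ b ∈ K, x = a * b}
        one_mem' := ⟨1, H.one_mem, 1, K.one_mem, by simp⟩
        mul_mem' := by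
          rintro _ _ ⟨a, ha, b, hb, rfl⟩ ⟨a', ha', b', hb', rfl⟩
          refine ⟨a * a', H.mul_mem ha ha', b * b', K.mul_mem hb hb', ?_⟩
          have := hc a' ha' b hb
          calc a * b * (a' * b') = a * (b * a') * b' := by group
            _ = a * (a' * b) * b' := by rw [this]
            _ = a * a' * (b * b') := by group
        inv_mem' := by
          rintro _ ⟨a, ha, b, hb, rfl⟩
          refine ⟨a⁻¹, H.inv_mem ha, b⁻¹, K.inv_mem hb, ?_⟩
          have := hc a⁻¹ (H.inv_mem ha) b⁻¹ (K.inv_mem hb)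
          rw [mul_inv_rev, this] }
    have hle : H ⊔ K ≤ M := sup_le (fun a ha => ⟨a, ha, 1, K.one_mem, by simp⟩)
      (fun b hb => ⟨1, H.one_mem, b, hb, by simp⟩)
    exact hle hx
  · rintro ⟨a, ha, b, hb, rfl⟩
    exact Subgroup.mul_mem _ (Subgroup.mem_sup_left ha) (Subgroup.mem_sup_right hb)

theorem orderOf_eq_four {H : Type*} [Group H] {g : H} (h2 : g * g ≠ 1) (h4 : g * g * (g * g) = 1) :
    orderOf g = 4 := by
  haveI : Fact (Nat.Prime 2) := ⟨Nat.prime_two⟩
  have := orderOf_eq_prime_pow (x := g) (p := 2) (n := 1)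
    (by rw [pow_one, pow_two]; exact h2)
    (by
      have e : g ^ 2 ^ (1 + 1) = g * g * (g * g) := by
        norm_num [pow_succ, mul_assoc]
      rw [e]; exact h4)
  simpa using this

theorem cyc4_finite {Q : Subgroup G} (A : Cyc4 Q) : Finite A.1 := by
  obtain ⟨g, hg, hA⟩ := A.2.2
  apply Nat.finite_of_card_ne_zero
  rw [hA, Nat.card_zpowers, hg]; norm_num

theorem cyc4_card_eq {Q : Subgroup G} (A : Cyc4 Q) : Nat.card A.1 = 4 := by
  obtain ⟨g, hg, hA⟩ := A.2.2
  rw [hA, Nat.card_zpowers, hg]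

theorem cyc4_fix_of_mem {Q : Subgroup G} (hcard : Nat.card Q = 8) {q : G} (hq : q ∈ Q)
    (A : Cyc4 Q) : A.1.map (MulAut.conj q).toMonoidHom = A.1 := by
  have hfin := cyc4_finite A
  have hQfin : Finite Q := Nat.finite_of_card_ne_zero (by rw [hcard]; norm_num)
  have hidx : (A.1.subgroupOf Q).index = 2 := by
    have h1 := Subgroup.index_mul_card (A.1.subgroupOf Q)
    have h2 : Nat.card (A.1.subgroupOf Q) = 4 := by
      rw [Nat.card_congr (Subgroup.subgroupOfEquivOfLe A.2.1).toEquiv]; exact cyc4_card_eq A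
    rw [h2, hcard] at h1
    omega
  have hn : (A.1.subgroupOf Q).Normal := Subgroup.normal_of_index_eq_two hidx
  apply map_conj_eq_of_forall_mem
  intro x hx
  have h1 := hn.conj_mem ⟨x, A.2.1 hx⟩ (by rw [Subgroup.mem_subgroupOf]; exact hx) ⟨q, hq⟩
  rw [Subgroup.mem_subgroupOf] at h1
  simpa using h1

theorem cyc4_fix_of_commute {Q : Subgroup G} {c : G} (hc : ∀ x ∈ Q, c * x = x * c)
    (A : Cyc4 Q) : A.1.map (MulAut.conj c).toMonoidHom = A.1 := by
  have hfin := cyc4_finite A
  apply map_conj_eq_of_forall_mem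
  intro x hx
  have h1 := hc x (A.2.1 hx)
  have : c * x * c⁻¹ = x := by rw [h1]; group
  rw [this]; exact hx

/-- conjugation action of a subgroup `Nn ≤ N_G(Q)` on the cyclic subgroups of order four of `Q` -/
@[reducible] def conjActSubOf (Q Nn : Subgroup G) (hN : Nn ≤ Subgroup.normalizer (Q : Set G)) :
    MulAction ↥Nn (Cyc4 Q) :=
  letI := conjActSub Q
  MulAction.compHom (Cyc4 Q) (Subgroup.inclusion hN)

theorem conjActSubOf_smul_val (Q Nn : Subgroup G) (hN : Nn ≤ Subgroup.normalizer (Q : Set G))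
    (n : ↥Nn) (A : Cyc4 Q) :
    (letI := conjActSubOf Q Nn hN; (n • A).1) = A.1.map (MulAut.conj (n : G)).toMonoidHom := rfl

theorem conjActSubOf_mem_ker (Q Nn : Subgroup G) (hN : Nn ≤ Subgroup.normalizer (Q : Set G))
    (n : ↥Nn) :
    (letI := conjActSubOf Q Nn hN;
      n ∈ (MulAction.toPermHom ↥Nn (Cyc4 Q)).ker) ↔
      ∀ A : Cyc4 Q, A.1.map (MulAut.conj (n : G)).toMonoidHom = A.1 := by
  letI := conjActSubOf Q Nn hN
  rw [MonoidHom.mem_ker]
  constructor
  · intro h A
    have h2 := congrArg (fun σ : Equiv.Perm (Cyc4 Q) => (σ A).1) h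
    simp only [MulAction.toPermHom_apply, MulAction.toPerm_apply, Equiv.Perm.coe_one, id_eq] at h2
    exact h2
  · intro h
    ext A : 1
    apply Subtype.ext
    simp only [MulAction.toPermHom_apply, MulAction.toPerm_apply, Equiv.Perm.coe_one, id_eq]
    exact h A

theorem conj_mem_of_map_eq' {A : Subgroup G} {n g : G}
    (hA : A.map (MulAut.conj n).toMonoidHom = A) (hg : g ∈ A) : n * g * n⁻¹ ∈ A := by
  rw [← hA]
  exact Subgroup.mem_map.mpr ⟨g, hg, by simp⟩

end WF5gen

namespace WD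

section internal

variable {S : Type*} [Group S] (D : WD S)

theorem zeta_sq : D.A D.u D.u * D.A D.u D.u = 1 := by
  rw [D.A_mul_A]
  have e : D.u + D.u = 0 := by linear_combination D.two_u
  rw [e, D.A_zero]

theorem zeta_ne_one : D.A D.u D.u ≠ 1 := by
  intro h
  exact D.u_ne_zero (D.A_eq_one _ _ h).1

theorem g1_sq : D.A D.v (-D.v) * D.A D.v (-D.v) = D.A D.u D.u := by
  rw [D.A_mul_A]; congr 1
  · linear_combination D.two_v
  · linear_combination -D.two_v - D.two_u

theorem B_sq_of_sum {k l : ZMod D.N} (h : k + l = D.u) : D.B k l * D.B k l = D.A D.u D.u := by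
  rw [D.B_mul_B]; congr 1
  linear_combination h

theorem orderOf_g1 : orderOf (D.A D.v (-D.v)) = 4 := by
  apply orderOf_eq_four
  · rw [D.g1_sq]; exact D.zeta_ne_one
  · rw [D.g1_sq]; exact D.zeta_sq

theorem orderOf_B_of_sum {k l : ZMod D.N} (h : k + l = D.u) : orderOf (D.B k l) = 4 := by
  apply orderOf_eq_four
  · rw [D.B_sq_of_sum h]; exact D.zeta_ne_one
  · rw [D.B_sq_of_sum h]; exact D.zeta_sq

theorem g2_mem (c : ZMod D.N) : D.B c (D.u - c) ∈ D.Q8s c :=
  (D.B_mem_Q8s _ _ _).mpr ⟨by ring, by ring⟩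

theorem g3_mem (c : ZMod D.N) : D.B (c + D.v) (D.u - c - D.v) ∈ D.Q8s c :=
  (D.B_mem_Q8s _ _ _).mpr ⟨by ring, by linear_combination D.four_v⟩

theorem g1_mem (c : ZMod D.N) : D.A D.v (-D.v) ∈ D.Q8s c :=
  (D.A_mem_Q8s _ _ _).mpr ⟨rfl, D.four_v⟩

theorem zeta_mem_Q8s (c : ZMod D.N) : D.A D.u D.u ∈ D.Q8s c :=
  (D.A_mem_Q8s _ _ _).mpr ⟨by linear_combination D.two_u, by linear_combination 2 * D.two_u⟩

theorem g1_mul_g2 (c : ZMod D.N) :
    D.A D.v (-D.v) * D.B c (D.u - c) = D.B (c + D.v) (D.u - c - D.v) := by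
  rw [D.A_mul_B]; congr 1 <;> ring

theorem g2_inv (c : ZMod D.N) : (D.B c (D.u - c))⁻¹ = D.B (c + D.u) (-c) := by
  rw [D.B_inv]; congr 1
  linear_combination -D.two_u

theorem g3_inv (c : ZMod D.N) : (D.B (c + D.v) (D.u - c - D.v))⁻¹ = D.B (c - D.v) (-c - D.v) := by
  rw [D.B_inv]; congr 1
  · linear_combination D.two_v
  · ring

theorem g1_inv : (D.A D.v (-D.v))⁻¹ = D.A (-D.v) D.v := by
  rw [D.A_inv, neg_neg]

/-- elements of order four of `Q8s c` -/
theorem Q8s_order_four (c : ZMod D.N) {s : S} (hs : s ∈ D.Q8s c) (ho : orderOf s = 4) :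
    s = D.A D.v (-D.v) ∨ s = (D.A D.v (-D.v))⁻¹ ∨ s = D.B c (D.u - c) ∨
      s = (D.B c (D.u - c))⁻¹ ∨ s = D.B (c + D.v) (D.u - c - D.v) ∨
      s = (D.B (c + D.v) (D.u - c - D.v))⁻¹ := by
  rcases hs with ⟨k, hk, rfl⟩ | ⟨k, l, hkl, hk, rfl⟩
  · rcases D.four_mul_eq_zero k hk with rfl | rfl | rfl | rfl
    · exfalso
      rw [neg_zero, D.A_zero, orderOf_one] at ho
      omega
    · left; rfl
    · exfalso
      have h1 : orderOf (D.A D.u (-D.u)) ∣ 2 := by
        apply orderOf_dvd_of_pow_eq_one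
        rw [pow_two, D.A_mul_A]
        have e1 : D.u + D.u = 0 := by linear_combination D.two_u
        have e2 : -D.u + -D.u = 0 := by linear_combination -D.two_u
        rw [e1, e2, D.A_zero]
      rw [ho] at h1
      omega
    · right; left; rw [D.g1_inv, neg_neg]
  · have hl : l = D.u - k := by linear_combination hkl
    subst hl
    rcases D.four_mul_eq_zero (k - c) hk with h | h | h | h
    · right; right; left
      have : k = c := by linear_combination h
      rw [this]
    · right; right; right; right; left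
      have : k = c + D.v := by linear_combination h
      rw [this]; congr 1; ring
    · right; right; right; left
      have : k = c + D.u := by linear_combination h
      rw [D.g2_inv, this]; congr 1
      ring
    · right; right; right; right; right
      have : k = c - D.v := by linear_combination h
      rw [D.g3_inv, this]; congr 1
      linear_combination D.two_v + D.two_u

theorem Q8s_le_closure (c : ZMod D.N) :
    D.Q8s c ≤ Subgroup.closure {D.A D.v (-D.v), D.B c (D.u - c)} := by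
  have h1 : D.A D.v (-D.v) ∈ Subgroup.closure {D.A D.v (-D.v), D.B c (D.u - c)} :=
    Subgroup.subset_closure (by simp)
  have h2 : D.B c (D.u - c) ∈ Subgroup.closure {D.A D.v (-D.v), D.B c (D.u - c)} :=
    Subgroup.subset_closure (by simp)
  have hA : ∀ k : ZMod D.N, 4 * k = 0 →
      D.A k (-k) ∈ Subgroup.closure {D.A D.v (-D.v), D.B c (D.u - c)} := by
    intro k hk
    rcases D.four_mul_eq_zero k hk with rfl | rfl | rfl | rfl
    · rw [neg_zero, D.A_zero]; exact Subgroup.one_mem _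
    · exact h1
    · have : D.A D.u (-D.u) = D.A D.v (-D.v) * D.A D.v (-D.v) := by
        rw [D.A_mul_A]; congr 1
        · linear_combination -D.two_v
        · linear_combination D.two_v
      rw [this]; exact Subgroup.mul_mem _ h1 h1
    · rw [← D.A_inv]; exact Subgroup.inv_mem _ h1
  rintro g (⟨k, hk, rfl⟩ | ⟨k, l, hkl, hk, rfl⟩)
  · exact hA k hk
  · have : D.B k l = D.A (k - c) (-(k - c)) * D.B c (D.u - c) := by
      rw [D.A_mul_B]; congr 1
      · ring
      · linear_combination hkl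
    rw [this]
    exact Subgroup.mul_mem _ (hA _ hk) h2

/-- elements of `Q8s c · Z(S)` with square `ζ` outside the centre lie in `Q8s c` -/
theorem mem_Q8s_of_sq (c : ZMod D.N) {s : S} (hs : s ∈ D.Q8s c) (m : ZMod D.N)
    (hsq : (s * D.A m m) * (s * D.A m m) = D.A D.u D.u) (hnc : s * D.A m m ∉ Subgroup.center S) :
    s * D.A m m ∈ D.Q8s c := by
  rcases hs with ⟨k, hk, rfl⟩ | ⟨k, l, hkl, hk, rfl⟩
  · rw [D.A_mul_A] at hsq hnc ⊢
    rw [D.A_mul_A] at hsq
    obtain ⟨h1, h2⟩ := D.A_inj hsq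
    rcases D.two_mul_eq_zero (2 * k) (by linear_combination hk) with h0 | h0
    · exfalso
      apply hnc
      rw [D.mem_center_iff]
      refine ⟨k + m, ?_⟩
      congr 1
      linear_combination -h0
    · have hm : 2 * m = 0 := by linear_combination h1 - h0
      rw [D.A_mem_Q8s]
      exact ⟨by linear_combination hm, by linear_combination hk + 2 * hm⟩
  · rw [D.B_mul_A] at hsq hnc ⊢
    rw [D.B_mul_B] at hsq
    obtain ⟨h1, -⟩ := D.A_inj hsq
    have hm : 2 * m = 0 := by linear_combination h1 - hkl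
    rw [D.B_mem_Q8s]
    exact ⟨by linear_combination hkl + hm, by linear_combination hk + 2 * hm⟩

/-- elements of `S` commuting with the two generators are central -/
theorem mem_center_of_commute (c : ZMod D.N) {s : S}
    (h1 : s * D.A D.v (-D.v) = D.A D.v (-D.v) * s)
    (h2 : s * D.B c (D.u - c) = D.B c (D.u - c) * s) : s ∈ Subgroup.center S := by
  rcases D.cases s with ⟨i, j, rfl⟩ | ⟨i, j, rfl⟩
  · rw [D.mem_center_iff]
    have := (D.A_comm_B_iff i j c (D.u - c)).mp h2
    exact ⟨i, by rw [this]⟩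
  · exfalso
    rw [D.B_mul_A, D.A_mul_B] at h1
    have := (D.B_inj h1).1
    apply D.two_v_ne
    linear_combination -this

theorem g1_notMem_center : D.A D.v (-D.v) ∉ Subgroup.center S := by
  rw [D.mem_center_iff]
  rintro ⟨k, hk⟩
  obtain ⟨h1, h2⟩ := D.A_inj hk
  apply D.two_v_ne
  linear_combination h1 - h2

theorem B_notMem_center (k l : ZMod D.N) : D.B k l ∉ Subgroup.center S := by
  rw [D.mem_center_iff]
  rintro ⟨m, hm⟩
  exact D.B_ne_A _ _ _ _ hm

end internal

end WD

end Cfsg.Agent.Lib.Helper9
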