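import Mathlib
import Cfsg.Agent.Lib.Helper1.Class2

set_option autoImplicit false

namespace Cfsg.Agent.Lib.Helper9

open scoped commutatorElement

section ClassTwo

variable {M : Type*} [Group M]

theorem mcp_comm_central (hc : commutator M ≤ Subgroup.center M) (x y : M) :
    ⁅x, y⁆ ∈ Subgroup.center M :=
  hc (Cfsg.Agent.Lib.Helper1.commElem_mem_commutator x y)

theorem mcp_comm_mul_left (hc : commutator M ≤ Subgroup.center M) (x y w : M) :
    ⁅x * y, w⁆ = ⁅x, w⁆ * ⁅y, w⁆ := by
  have h1 : ⁅x * y, w⁆ = x * ⁅y, w⁆ * x⁻¹ * ⁅x, w⁆ := by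
    simp only [commutatorElement_def]; group
  have h2 := (Subgroup.mem_center_iff.1 (mcp_comm_central hc y w)) x
  rw [h1, h2, mul_inv_cancel_right]
  exact ((Subgroup.mem_center_iff.1 (mcp_comm_central hc y w)) _).symm

theorem mcp_comm_mul_right (hc : commutator M ≤ Subgroup.center M) (x y w : M) :
    ⁅x, y * w⁆ = ⁅x, y⁆ * ⁅x, w⁆ := by
  have h1 : ⁅x, y * w⁆ = ⁅x, y⁆ * (y * ⁅x, w⁆ * y⁻¹) := by
    simp only [commutatorElement_def]; group
  have h2 := (Subgroup.mem_center_iff.1 (mcp_comm_central hc x w)) y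
  rw [h1, h2, mul_inv_cancel_right]

theorem mcp_comm_inv_left (hc : commutator M ≤ Subgroup.center M) (x w : M) :
    ⁅x⁻¹, w⁆ = ⁅x, w⁆⁻¹ := by
  have h := mcp_comm_mul_left hc x x⁻¹ w
  rw [mul_inv_cancel, commutatorElement_one_left] at h
  exact eq_inv_of_mul_eq_one_right h.symm

theorem mcp_comm_inv_right (hc : commutator M ≤ Subgroup.center M) (x w : M) :
    ⁅x, w⁻¹⁆ = ⁅x, w⁆⁻¹ := by
  have h := mcp_comm_mul_right hc x w w⁻¹
  rw [mul_inv_cancel, commutatorElement_one_right] at h
  exact eq_inv_of_mul_eq_one_right h.symm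

/-- In a class-2 group, for fixed `w` the elements `x` with `⁅x, w⁆ ∈ C` form a subgroup. -/
def mcpLeftSub (hc : commutator M ≤ Subgroup.center M) (C : Subgroup M) (w : M) : Subgroup M where
  carrier := {x | ⁅x, w⁆ ∈ C}
  one_mem' := by
    show ⁅(1 : M), w⁆ ∈ C
    rw [commutatorElement_one_left]; exact C.one_mem
  mul_mem' := by
    intro a b ha hb
    show ⁅a * b, w⁆ ∈ C
    rw [mcp_comm_mul_left hc]; exact C.mul_mem ha hb
  inv_mem' := by
    intro a ha
    show ⁅a⁻¹, w⁆ ∈ C
    rw [mcp_comm_inv_left hc]; exact C.inv_mem ha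

def mcpRightSub (hc : commutator M ≤ Subgroup.center M) (C : Subgroup M) (x : M) : Subgroup M where
  carrier := {w | ⁅x, w⁆ ∈ C}
  one_mem' := by
    show ⁅x, (1 : M)⁆ ∈ C
    rw [commutatorElement_one_right]; exact C.one_mem
  mul_mem' := by
    intro a b ha hb
    show ⁅x, a * b⁆ ∈ C
    rw [mcp_comm_mul_right hc]; exact C.mul_mem ha hb
  inv_mem' := by
    intro a ha
    show ⁅x, a⁻¹⁆ ∈ C
    rw [mcp_comm_inv_right hc]; exact C.inv_mem ha

/-- In a class-2 group generated by `x, y`, the commutator subgroup is generated by `⁅x, y⁆`. -/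
theorem mcp_commutator_le_zpowers (hc : commutator M ≤ Subgroup.center M) (x y : M)
    (hgen : Subgroup.closure ({x, y} : Set M) = ⊤) :
    commutator M ≤ Subgroup.zpowers ⁅x, y⁆ := by
  set C := Subgroup.zpowers ⁅x, y⁆ with hC
  have hxy : ⁅x, y⁆ ∈ C := Subgroup.mem_zpowers _
  have hyx : ⁅y, x⁆ ∈ C := by
    rw [← commutatorElement_inv]; exact C.inv_mem hxy
  have h1 : ∀ w : M, ⁅x, w⁆ ∈ C := by
    intro w
    have : w ∈ mcpRightSub hc C x := by
      have hle : Subgroup.closure ({x, y} : Set M) ≤ mcpRightSub hc C x := by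
        rw [Subgroup.closure_le]
        rintro g (rfl | rfl)
        · show ⁅g, g⁆ ∈ C
          rw [commutatorElement_self]; exact C.one_mem
        · exact hxy
      exact hle (hgen ▸ Subgroup.mem_top w)
    exact this
  have h2 : ∀ w : M, ⁅y, w⁆ ∈ C := by
    intro w
    have : w ∈ mcpRightSub hc C y := by
      have hle : Subgroup.closure ({x, y} : Set M) ≤ mcpRightSub hc C y := by
        rw [Subgroup.closure_le]
        rintro g (rfl | rfl)
        · exact hyx
        · show ⁅g, g⁆ ∈ C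
          rw [commutatorElement_self]; exact C.one_mem
      exact hle (hgen ▸ Subgroup.mem_top w)
    exact this
  have h3 : ∀ v w : M, ⁅v, w⁆ ∈ C := by
    intro v w
    have : v ∈ mcpLeftSub hc C w := by
      have hle : Subgroup.closure ({x, y} : Set M) ≤ mcpLeftSub hc C w := by
        rw [Subgroup.closure_le]
        rintro g (rfl | rfl)
        · exact h1 w
        · exact h2 w
      exact hle (hgen ▸ Subgroup.mem_top v)
    exact this
  rw [commutator_def, Subgroup.commutator_le]
  intro v _ w _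
  exact h3 v w

end ClassTwo

end Cfsg.Agent.Lib.Helper9
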