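import Mathlib
import Cfsg.Agent.Lib.Helper9.MetaCop1

set_option autoImplicit false

namespace Cfsg.Agent.Lib.Helper9

open scoped commutatorElement

section Action

variable {M A : Type*} [Group M] [Group A] [MulDistribMulAction A M]

theorem mcp_smul_commutatorElement (a : A) (x y : M) : a • ⁅x, y⁆ = ⁅a • x, a • y⁆ := by
  simp only [commutatorElement_def, smul_mul', smul_inv']

theorem mcp_smul_commutator_mem (a : A) {w : M} (hw : w ∈ commutator M) :
    a • w ∈ commutator M := by
  have hchar : (commutator M).Characteristic := by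
    rw [commutator_def]; infer_instance
  have h := Subgroup.characteristic_iff_map_eq.1 hchar (MulDistribMulAction.toMulAut A M a)
  rw [← h]
  exact ⟨w, hw, rfl⟩

/-- If `M' = ⟨z⟩` is cyclic and `[M, A] = M`, then `M` has class at most two. -/
theorem mcp_class_two (z : M) (hz : commutator M = Subgroup.zpowers z)
    (hMA : ∀ U : Subgroup M, (∀ m : M, ∀ a : A, m⁻¹ * a • m ∈ U) → U = ⊤) :
    commutator M ≤ Subgroup.center M := by
  have hU := hMA (Subgroup.centralizer (commutator M : Set M)) ?_
  · intro w hw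
    rw [Subgroup.mem_center_iff]
    intro g
    have hg : g ∈ Subgroup.centralizer (commutator M : Set M) := hU ▸ Subgroup.mem_top g
    exact (Subgroup.mem_centralizer_iff.1 hg w hw).symm
  intro m a
  have hzc : z ∈ commutator M := hz ▸ Subgroup.mem_zpowers z
  have hnorm : (commutator M).Normal := inferInstance
  -- the two endomorphisms
  set f : M →* M := (MulDistribMulAction.toMulAut A M a).toMonoidHom.comp
    (MulAut.conj m).toMonoidHom with hf
  set g : M →* M := (MulAut.conj m).toMonoidHom.comp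
    (MulDistribMulAction.toMulAut A M a).toMonoidHom with hg
  have hfz : f z = a • (m * z * m⁻¹) := rfl
  have hgz : g z = m * (a • z) * m⁻¹ := rfl
  obtain ⟨t, ht⟩ : ∃ t : ℤ, z ^ t = m * z * m⁻¹ := by
    have : m * z * m⁻¹ ∈ Subgroup.zpowers z := hz ▸ hnorm.conj_mem z hzc m
    exact Subgroup.mem_zpowers_iff.1 this
  obtain ⟨s, hs⟩ : ∃ s : ℤ, z ^ s = a • z := by
    have : a • z ∈ Subgroup.zpowers z := hz ▸ mcp_smul_commutator_mem a hzc
    exact Subgroup.mem_zpowers_iff.1 this
  have hfg : f z = g z := by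
    rw [hfz, hgz, ← ht, smul_zpow', ← hs, ← conj_zpow, ← ht, ← zpow_mul, ← zpow_mul, mul_comm]
  have heq : ∀ w ∈ commutator M, f w = g w := by
    intro w hw
    rw [hz, Subgroup.zpowers_eq_closure] at hw
    have : Set.EqOn f g ({z} : Set M) := by
      intro x hx
      rw [Set.mem_singleton_iff] at hx
      rw [hx]; exact hfg
    exact MonoidHom.eqOn_closure this hw
  rw [Subgroup.mem_centralizer_iff]
  intro w' hw'
  have hw : a⁻¹ • w' ∈ commutator M := mcp_smul_commutator_mem a⁻¹ hw'
  have h1 := heq _ hw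
  have h2 : f (a⁻¹ • w') = (a • m) * w' * (a • m)⁻¹ := by
    show a • (m * (a⁻¹ • w') * m⁻¹) = _
    rw [smul_mul', smul_mul', smul_inv', smul_inv_smul]
  have h3 : g (a⁻¹ • w') = m * w' * m⁻¹ := by
    show m * (a • (a⁻¹ • w')) * m⁻¹ = _
    rw [smul_inv_smul]
  rw [h2, h3] at h1
  have h4 : w' = m⁻¹ * ((a • m) * w' * (a • m)⁻¹) * m := by
    rw [h1]; group
  calc w' * (m⁻¹ * a • m) = (m⁻¹ * ((a • m) * w' * (a • m)⁻¹) * m) * (m⁻¹ * a • m) := by
        rw [← h4]
    _ = m⁻¹ * a • m * w' := by group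

end Action

end Cfsg.Agent.Lib.Helper9
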