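import Mathlib
import Cfsg.Agent.Lib.Helper20.Metacyclic3
import Cfsg.Agent.Lib.Helper9.MetaCop2

set_option autoImplicit false

namespace Cfsg.Agent.Lib.Helper9

open scoped commutatorElement
open Cfsg.Agent.Lib.Helper20

section Index

variable {M : Type*} [Group M] [Finite M]

theorem mcp_index_lt {H K : Subgroup M} (h : H < K) : K.index < H.index := by
  have hd : K.index ∣ H.index := Subgroup.index_dvd_of_le h.le
  have hne : K.index ≠ H.index := by
    intro he
    have h1 := H.card_mul_index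
    have h2 := K.card_mul_index
    have h3 : Nat.card H = Nat.card K := by
      rw [he, ← h1] at h2
      exact (Nat.eq_of_mul_eq_mul_right (Nat.pos_of_ne_zero Subgroup.index_ne_zero_of_finite)
        h2).symm
    exact h.ne (Subgroup.eq_of_le_of_card_ge h.le h3.ge)
  exact lt_of_le_of_ne (Nat.le_of_dvd (Nat.pos_of_ne_zero Subgroup.index_ne_zero_of_finite) hd) hne

/-- A chain `Φ < L < Y` over a subgroup of index `p²` ends at the top. -/
theorem mcp_chain_top {p : ℕ} (hp : p.Prime) {Φ L Y : Subgroup M} (hΦ : Φ.index = p * p)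
    (h1 : Φ < L) (h2 : L < Y) : Y = ⊤ := by
  have hL := mcp_index_lt h1
  have hY := mcp_index_lt h2
  have hdL : L.index ∣ p ^ 2 := by
    rw [pow_two, ← hΦ]; exact Subgroup.index_dvd_of_le h1.le
  have hdY : Y.index ∣ L.index := Subgroup.index_dvd_of_le h2.le
  obtain ⟨i, hi, hLi⟩ := (Nat.dvd_prime_pow hp).1 hdL
  rw [hΦ, ← pow_two, hLi] at hL
  have hi1 : i ≤ 1 := by
    have := (Nat.pow_lt_pow_iff_right hp.one_lt).1 hL
    omega
  rw [hLi] at hdY hY
  obtain ⟨j, hj, hYj⟩ := (Nat.dvd_prime_pow hp).1 hdY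
  rw [hYj] at hY
  have hj0 : j = 0 := by
    have := (Nat.pow_lt_pow_iff_right hp.one_lt).1 hY
    omega
  rw [hj0, pow_zero] at hYj
  exact Subgroup.index_eq_one.1 hYj

end Index

section Setup

variable {M : Type*} [Group M] [Finite M] {p : ℕ} [hp : Fact p.Prime] (D : MC p M)

/-- the generator of the derived subgroup -/
noncomputable def mcpZ : M := D.a ^ (D.r - 1)

theorem mcp_commutator_eq : commutator M = Subgroup.zpowers (mcpZ D) := D.commutator_eq

theorem mcp_orderOf_z : orderOf (mcpZ D) = p ^ D.n := by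
  rw [← Nat.card_zpowers, ← mcp_commutator_eq D, D.card_commutator]

theorem mcp_z_mem : mcpZ D ∈ commutator M := by
  rw [mcp_commutator_eq D]; exact Subgroup.mem_zpowers _

/-- `K = (M')^p` -/
noncomputable def mcpK : Subgroup M := Subgroup.zpowers (mcpZ D ^ p)

theorem mcp_z_not_mem_K (hn : 1 ≤ D.n) : mcpZ D ∉ mcpK D := by
  intro h
  have hle : Subgroup.zpowers (mcpZ D) ≤ Subgroup.zpowers (mcpZ D ^ p) :=
    Subgroup.zpowers_le.2 h
  have h1 := Subgroup.card_le_of_le hle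
  rw [Nat.card_zpowers, Nat.card_zpowers, orderOf_pow, mcp_orderOf_z D] at h1
  have hg : Nat.gcd (p ^ D.n) p = p := by
    apply Nat.gcd_eq_right
    exact dvd_pow_self p (by omega)
  rw [hg] at h1
  have h2 : p ^ D.n / p < p ^ D.n :=
    Nat.div_lt_self (pow_pos hp.out.pos _) hp.out.one_lt
  omega

theorem mcp_pow_p_mem_K {w : M} (hw : w ∈ commutator M) : w ^ p ∈ mcpK D := by
  rw [mcp_commutator_eq D, Subgroup.mem_zpowers_iff] at hw
  obtain ⟨k, rfl⟩ := hw
  have : (mcpZ D ^ k) ^ p = (mcpZ D ^ p) ^ k := by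
    rw [← zpow_natCast, ← zpow_mul, mul_comm, zpow_mul, zpow_natCast]
  rw [this]
  exact Subgroup.zpow_mem _ (Subgroup.mem_zpowers _) _

theorem mcp_K_le_commutator : mcpK D ≤ commutator M := by
  rw [mcpK, Subgroup.zpowers_le]
  exact Subgroup.pow_mem _ (mcp_z_mem D) _

/-- commutators with elements of `Φ = ℧₁` lie in `K`. -/
theorem mcp_comm_frat_right (hp2 : p ≠ 2) (hc : commutator M ≤ Subgroup.center M) (x : M) {φ : M}
    (hφ : φ ∈ D.pw 1) : ⁅x, φ⁆ ∈ mcpK D := by
  rw [← D.closure_pow_eq_pw hp2 1] at hφ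
  have hle : Subgroup.closure {y : M | ∃ w : M, w ^ p ^ 1 = y} ≤ mcpRightSub hc (mcpK D) x := by
    rw [Subgroup.closure_le]
    rintro y ⟨w, rfl⟩
    show ⁅x, w ^ p ^ 1⁆ ∈ mcpK D
    rw [pow_one, Cfsg.Agent.Lib.Helper1.commElem_pow_right_of_central (mcp_comm_central hc x w)]
    exact mcp_pow_p_mem_K D (Cfsg.Agent.Lib.Helper1.commElem_mem_commutator x w)
  exact hle hφ

theorem mcp_comm_frat_left (hp2 : p ≠ 2) (hc : commutator M ≤ Subgroup.center M) (x : M) {φ : M}
    (hφ : φ ∈ D.pw 1) : ⁅φ, x⁆ ∈ mcpK D := by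
  rw [← commutatorElement_inv]
  exact (mcpK D).inv_mem (mcp_comm_frat_right D hp2 hc x hφ)

/-- non-degeneracy: if `⁅x, y⁆ ∈ K` then `x, y` do not generate `M` modulo `Φ`. -/
theorem mcp_nondeg (hp2 : p ≠ 2) (hM : IsPGroup p M) (hc : commutator M ≤ Subgroup.center M)
    (hn : 1 ≤ D.n) (x y : M) (hxy : ⁅x, y⁆ ∈ mcpK D) :
    Subgroup.closure ({x, y} : Set M) ⊔ D.pw 1 ≠ ⊤ := by
  intro h
  rw [← D.frattini_eq_pw_one hp2 hM] at h
  have hgen := frattini_nongenerating h
  have h1 := mcp_commutator_le_zpowers hc x y hgen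
  have h2 : Subgroup.zpowers ⁅x, y⁆ ≤ mcpK D := Subgroup.zpowers_le.2 hxy
  exact mcp_z_not_mem_K D hn (h2 (h1 (mcp_z_mem D)))

end Setup

end Cfsg.Agent.Lib.Helper9
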