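import Mathlib
import Cfsg.Agent.Lib.Helper9.MetaCop3

set_option autoImplicit false

namespace Cfsg.Agent.Lib.Helper9

open scoped commutatorElement
open Cfsg.Agent.Lib.Helper20

section PowHom

variable {M : Type*} [Group M] [Finite M] {p : ℕ} [hp : Fact p.Prime] (D : MC p M)

theorem mcp_dvd_choose_two (hp2 : p ≠ 2) (k : ℕ) : p ^ k ∣ (p ^ k).choose 2 := by
  rw [Nat.choose_two_right]
  have hodd : Odd (p ^ k) := (hp.out.odd_of_ne_two hp2).pow
  have h2 : 2 ∣ p ^ k - 1 := by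
    obtain ⟨m, hm⟩ := hodd
    rw [hm]; simp
  rw [Nat.mul_div_assoc _ h2]
  exact dvd_mul_right _ _

theorem mcp_comm_pow_eq_one (k : ℕ) (hk : D.n ≤ k) {w : M} (hw : w ∈ commutator M) :
    w ^ (p ^ k) = 1 := by
  rw [mcp_commutator_eq D, Subgroup.mem_zpowers_iff] at hw
  obtain ⟨i, rfl⟩ := hw
  have h1 : mcpZ D ^ (p ^ k) = 1 := by
    rw [← orderOf_dvd_iff_pow_eq_one, mcp_orderOf_z D]
    exact pow_dvd_pow p hk
  rw [← zpow_natCast, ← zpow_mul, mul_comm, zpow_mul, zpow_natCast, h1, one_zpow]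

theorem mcp_mul_pow (hp2 : p ≠ 2) (hc : commutator M ≤ Subgroup.center M) (k : ℕ)
    (hk : D.n ≤ k) (x y : M) : (x * y) ^ (p ^ k) = x ^ (p ^ k) * y ^ (p ^ k) := by
  rw [Cfsg.Agent.Lib.Helper1.mul_pow_of_central (mcp_comm_central hc y x)]
  obtain ⟨c, hcc⟩ := mcp_dvd_choose_two (p := p) hp2 k
  rw [hcc, pow_mul,
    mcp_comm_pow_eq_one D k hk (Cfsg.Agent.Lib.Helper1.commElem_mem_commutator y x), one_pow,
    one_mul]

/-- the `p^k`-th power endomorphism, `k ≥ n` -/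
noncomputable def mcpPowHom (hp2 : p ≠ 2) (hc : commutator M ≤ Subgroup.center M) (k : ℕ)
    (hk : D.n ≤ k) : M →* M where
  toFun x := x ^ (p ^ k)
  map_one' := one_pow _
  map_mul' := mcp_mul_pow D hp2 hc k hk

theorem mcpPowHom_apply (hp2 : p ≠ 2) (hc : commutator M ≤ Subgroup.center M) (k : ℕ)
    (hk : D.n ≤ k) (x : M) : mcpPowHom D hp2 hc k hk x = x ^ (p ^ k) := rfl

theorem mcp_powHom_range (hp2 : p ≠ 2) (hc : commutator M ≤ Subgroup.center M) (k : ℕ)
    (hk : D.n ≤ k) : (mcpPowHom D hp2 hc k hk).range = D.pw k := by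
  apply le_antisymm
  · rintro _ ⟨x, rfl⟩
    rw [← D.closure_pow_eq_pw hp2 k]
    exact Subgroup.subset_closure ⟨x, rfl⟩
  · rw [← D.closure_pow_eq_pw hp2 k, Subgroup.closure_le]
    rintro y ⟨w, rfl⟩
    exact ⟨w, rfl⟩

theorem mcp_smul_mem_pw {A : Type*} [Group A] [MulDistribMulAction A M] (hp2 : p ≠ 2) (k : ℕ)
    (a : A) {x : M} (hx : x ∈ D.pw k) : a • x ∈ D.pw k := by
  rw [← D.closure_pow_eq_pw hp2 k] at hx ⊢
  induction hx using Subgroup.closure_induction with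
  | mem y hy =>
    obtain ⟨w, rfl⟩ := hy
    apply Subgroup.subset_closure
    exact ⟨a • w, (smul_pow' a w _).symm⟩
  | one => rw [smul_one]; exact Subgroup.one_mem _
  | mul y w _ _ hy hw => rw [smul_mul']; exact Subgroup.mul_mem _ hy hw
  | inv y _ hy => rw [smul_inv']; exact Subgroup.inv_mem _ hy

theorem mcp_exists_k (hp2 : p ≠ 2) (hM : IsPGroup p M) (hc : commutator M ≤ Subgroup.center M)
    (hn : 1 ≤ D.n) :
    ∃ k : ℕ, D.n ≤ k ∧ mcpZ D ∈ D.pw k ∧ mcpZ D ∉ D.pw (k + 1) := by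
  by_contra hcon
  push Not at hcon
  have hz0 : mcpZ D ∈ D.pw D.n := by
    rw [D.pw_n_eq_center hp2]
    exact hc (mcp_z_mem D)
  have hall : ∀ j : ℕ, mcpZ D ∈ D.pw (D.n + j) := by
    intro j
    induction j with
    | zero => exact hz0
    | succ j ih => exact hcon (D.n + j) (by omega) ih
  obtain ⟨e, he⟩ := hM.exists_card_eq
  have hbot : D.pw (D.n + e) = ⊥ := by
    rw [← D.closure_pow_eq_pw hp2, Subgroup.closure_eq_bot_iff]
    rintro y ⟨w, rfl⟩
    rw [Set.mem_singleton_iff, pow_add, mul_comm, pow_mul, ← he, pow_card_eq_one', one_pow]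
  have hz1 : mcpZ D = 1 := by
    have := hall e
    rw [hbot, Subgroup.mem_bot] at this
    exact this
  have hord := mcp_orderOf_z D
  rw [hz1, orderOf_one] at hord
  have : 1 < p ^ D.n := Nat.one_lt_pow (by omega) hp.out.one_lt
  omega

end PowHom

end Cfsg.Agent.Lib.Helper9
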