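import Mathlib
import Cfsg.Agent.Lib.helper23.MaschkeGrp
import Cfsg.Agent.Lib.Helper9.MetaCop4

set_option autoImplicit false

namespace Cfsg.Agent.Lib.Helper9

open scoped commutatorElement
open Cfsg.Agent.Lib.Helper20

section CommHom

variable {M : Type*} [Group M]

/-- `w ↦ ⁅x, w⁆` as a homomorphism in a class-2 group -/
def mcpCommHomRight (hc : commutator M ≤ Subgroup.center M) (x : M) : M →* M where
  toFun w := ⁅x, w⁆
  map_one' := commutatorElement_one_right x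
  map_mul' := mcp_comm_mul_right hc x

def mcpCommHomLeft (hc : commutator M ≤ Subgroup.center M) (w : M) : M →* M where
  toFun x := ⁅x, w⁆
  map_one' := commutatorElement_one_left w
  map_mul' := fun x y => mcp_comm_mul_left hc x y w

theorem mcp_comm_zpow_right (hc : commutator M ≤ Subgroup.center M) (x y : M) (s : ℤ) :
    ⁅x, y ^ s⁆ = ⁅x, y⁆ ^ s := map_zpow (mcpCommHomRight hc x) y s

theorem mcp_comm_zpow_left (hc : commutator M ≤ Subgroup.center M) (x y : M) (s : ℤ) :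
    ⁅x ^ s, y⁆ = ⁅x, y⁆ ^ s := map_zpow (mcpCommHomLeft hc y) x s

end CommHom

section Main

variable {M A : Type*} [Group M] [Finite M] [Group A] [Finite A] [MulDistribMulAction A M]
  {p : ℕ} [hp : Fact p.Prime] (D : MC p M)

theorem mcp_pw_one_normal : (D.pw 1).Normal :=
  MC.normal_of_commutator_le _ D.commutator_le_pw_one

theorem mcp_pow_mem_pw_one (hp2 : p ≠ 2) (x : M) : x ^ p ∈ D.pw 1 := by
  rw [← D.closure_pow_eq_pw hp2 1]
  exact Subgroup.subset_closure ⟨x, by rw [pow_one]⟩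

/-- An `A`-invariant subgroup centralized by `A` modulo `Φ` lies in `Φ` when `[M, A] = M`. -/
theorem mcp_lemmaC (hp2 : p ≠ 2) (hcop : (Nat.card A).Coprime p)
    (hMA : ∀ U : Subgroup M, (∀ m : M, ∀ a : A, m⁻¹ * a • m ∈ U) → U = ⊤)
    (U : Subgroup M) (hUinv : ∀ a : A, ∀ x ∈ U, a • x ∈ U)
    (hU : ∀ l ∈ U, ∀ a : A, l⁻¹ * a • l ∈ D.pw 1) : U ≤ D.pw 1 := by
  haveI := mcp_pw_one_normal D
  obtain ⟨W, hNW, hWinv, hUW, hsup⟩ :=
    Cfsg.Agent.Lib.helper23.exists_invariant_supplement (A := A) (D.pw 1)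
      (fun a x hx => mcp_smul_mem_pw D hp2 1 a hx) p
      (fun x y => by
        apply D.commutator_le_pw_one
        have : (x * y)⁻¹ * (y * x) = ⁅y⁻¹, x⁻¹⁆ := by
          simp only [commutatorElement_def]; group
        rw [this]
        exact Cfsg.Agent.Lib.Helper1.commElem_mem_commutator _ _)
      (fun x => mcp_pow_mem_pw_one D hp2 x) hcop U hUinv
  haveI hWn : W.Normal := MC.normal_of_commutator_le _ (D.commutator_le_pw_one.trans hNW)
  have hW : W = ⊤ := by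
    apply hMA
    intro g a
    have hg : g ∈ ((U ⊔ W : Subgroup M) : Set M) := by rw [hsup]; exact Set.mem_univ _
    rw [Subgroup.mul_normal U W] at hg
    obtain ⟨l, hl, w, hw, rfl⟩ := hg
    have e : (l * w)⁻¹ * a • (l * w) = w⁻¹ * (l⁻¹ * a • l) * a • w := by
      rw [smul_mul']; group
    rw [e]
    exact W.mul_mem (W.mul_mem (W.inv_mem hw) (hNW (hU l hl a))) (hWinv a w hw)
  rw [hW, inf_top_eq] at hUW
  exact hUW

theorem mcp_false (hp2 : p ≠ 2) (hM : IsPGroup p M) (hcop : (Nat.card A).Coprime p)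
    (hc : commutator M ≤ Subgroup.center M) (hn : 1 ≤ D.n)
    (hMA : ∀ U : Subgroup M, (∀ m : M, ∀ a : A, m⁻¹ * a • m ∈ U) → U = ⊤) : False := by
  obtain ⟨k, hk, hzk, hzk1⟩ := mcp_exists_k D hp2 hM hc hn
  set z := mcpZ D with hzdef
  set K := mcpK D with hKdef
  set P := mcpPowHom D hp2 hc k hk with hPdef
  set Φ := D.pw 1 with hΦdef
  set U₀ : Subgroup M := (D.pw (k + 1)).comap P with hU₀def
  have hΦidx : Φ.index = p * p := by
    have := D.index_pw hp2 1 hn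
    rwa [pow_one] at this
  have hmemU₀ : ∀ x : M, x ∈ U₀ ↔ x ^ (p ^ k) ∈ D.pw (k + 1) := fun x => Iff.rfl
  obtain ⟨u₀, hu₀⟩ : ∃ u₀ : M, u₀ ^ (p ^ k) = z := by
    rw [← mcp_powHom_range D hp2 hc k hk] at hzk
    exact hzk
  have hΦU₀ : Φ ≤ U₀ := by
    rw [hΦdef, ← D.closure_pow_eq_pw hp2 1, Subgroup.closure_le]
    rintro y ⟨w, rfl⟩
    show (w ^ p ^ 1) ^ (p ^ k) ∈ D.pw (k + 1)
    rw [pow_one, ← pow_mul, ← pow_succ', ← D.closure_pow_eq_pw hp2 (k + 1)]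
    exact Subgroup.subset_closure ⟨w, rfl⟩
  have hu₀U₀ : u₀ ∉ U₀ := by
    rw [hmemU₀, hu₀]; exact hzk1
  have hu₀Φ : u₀ ∉ Φ := fun h => hu₀U₀ (hΦU₀ h)
  have hU₀top : U₀ ≠ ⊤ := fun h => hu₀U₀ (h ▸ Subgroup.mem_top _)
  have hU₀inv : ∀ a : A, ∀ x ∈ U₀, a • x ∈ U₀ := by
    intro a x hx
    rw [hmemU₀] at hx ⊢
    rw [← smul_pow']
    exact mcp_smul_mem_pw D hp2 (k + 1) a hx
  have hKinv : ∀ a : A, ∀ w ∈ K, a • w ∈ K := by
    intro a w hw
    rw [hKdef, mcpK, Subgroup.mem_zpowers_iff] at hw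
    obtain ⟨i, rfl⟩ := hw
    rw [smul_zpow', smul_pow']
    exact Subgroup.zpow_mem _
      (mcp_pow_p_mem_K D (mcp_smul_commutator_mem a (mcp_z_mem D))) _
  have hKcancel : ∀ a : A, ∀ w : M, a • w ∈ K → w ∈ K := by
    intro a w hw
    have := hKinv a⁻¹ _ hw
    rwa [inv_smul_smul] at this
  -- the action on the derived subgroup is a power map
  have hpowact : ∀ a : A, ∃ s : ℤ, (∀ w ∈ commutator M, a • w = w ^ s) ∧
      (u₀ ^ s)⁻¹ * a • u₀ ∈ U₀ := by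
    intro a
    obtain ⟨s, hs⟩ : ∃ s : ℤ, z ^ s = a • z := by
      have : a • z ∈ Subgroup.zpowers z := by
        rw [← mcp_commutator_eq D]
        exact mcp_smul_commutator_mem a (mcp_z_mem D)
      exact Subgroup.mem_zpowers_iff.1 this
    refine ⟨s, ?_, ?_⟩
    · intro w hw
      rw [mcp_commutator_eq D, Subgroup.mem_zpowers_iff] at hw
      obtain ⟨i, rfl⟩ := hw
      rw [smul_zpow', ← hs, ← zpow_mul, ← zpow_mul, mul_comm]
    · rw [hmemU₀]
      have e : ((u₀ ^ s)⁻¹ * a • u₀) ^ (p ^ k) = 1 := by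
        have h1 : P ((u₀ ^ s)⁻¹ * a • u₀) = ((u₀ ^ s)⁻¹ * a • u₀) ^ (p ^ k) := rfl
        rw [← h1, map_mul, map_inv, map_zpow]
        show ((u₀ ^ (p ^ k)) ^ s)⁻¹ * (a • u₀) ^ (p ^ k) = 1
        rw [← smul_pow', hu₀, ← hs, inv_mul_cancel]
      rw [e]; exact Subgroup.one_mem _
  have hgenU₀ : ∀ x ∈ U₀, x ∉ Φ → U₀ = Φ ⊔ Subgroup.zpowers x := by
    intro x hx hxΦ
    by_contra hne
    have h1 : Φ < Φ ⊔ Subgroup.zpowers x := by
      refine lt_of_le_of_ne le_sup_left ?_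
      intro h
      apply hxΦ
      rw [h]
      exact (le_sup_right : Subgroup.zpowers x ≤ _) (Subgroup.mem_zpowers x)
    have h2 : Φ ⊔ Subgroup.zpowers x < U₀ := by
      refine lt_of_le_of_ne (sup_le hΦU₀ (Subgroup.zpowers_le.2 hx)) ?_
      exact fun h => hne h.symm
    exact hU₀top (mcp_chain_top hp.out hΦidx h1 h2)
  by_cases hU : U₀ = Φ
  · -- Case I
    set L₁ := Φ ⊔ Subgroup.zpowers u₀ with hL₁
    have hu₀L₁ : u₀ ∈ L₁ := (le_sup_right : Subgroup.zpowers u₀ ≤ _) (Subgroup.mem_zpowers u₀)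
    have hΦL₁ : Φ < L₁ := by
      refine lt_of_le_of_ne le_sup_left ?_
      intro h
      exact hu₀Φ (h ▸ hu₀L₁)
    have hclaim : ∀ g : M, ∀ a : A, g⁻¹ * a • g ∈ L₁ := by
      intro g a
      by_contra ht
      obtain ⟨t, htdef⟩ : ∃ t : M, t = g⁻¹ * a • g := ⟨_, rfl⟩
      rw [← htdef] at ht
      have hag : a • g = g * t := by rw [htdef]; group
      obtain ⟨s, hs1, hs2⟩ := hpowact a
      obtain ⟨φ, hφdef⟩ : ∃ φ : M, φ = (u₀ ^ s)⁻¹ * a • u₀ := ⟨_, rfl⟩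
      rw [← hφdef] at hs2
      have hφΦ : φ ∈ Φ := hU ▸ hs2
      have hau : a • u₀ = u₀ ^ s * φ := by rw [hφdef]; group
      have hkey : a • ⁅g, u₀⁆ = ⁅g, u₀⁆ ^ s :=
        hs1 _ (Cfsg.Agent.Lib.Helper1.commElem_mem_commutator _ _)
      have hE : ⁅g * t, u₀ ^ s * φ⁆ = ⁅g, u₀⁆ ^ s * (⁅g, φ⁆ * (⁅t, u₀⁆ ^ s * ⁅t, φ⁆)) := by
        rw [mcp_comm_mul_left hc, mcp_comm_mul_right hc g, mcp_comm_mul_right hc t,
          mcp_comm_zpow_right hc, mcp_comm_zpow_right hc, mul_assoc]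
      rw [mcp_smul_commutatorElement, hag, hau, hE] at hkey
      have h2 : ⁅g, φ⁆ * (⁅t, u₀⁆ ^ s * ⁅t, φ⁆) = 1 := by
        have h3 : ⁅g, u₀⁆ ^ s * (⁅g, φ⁆ * (⁅t, u₀⁆ ^ s * ⁅t, φ⁆)) = ⁅g, u₀⁆ ^ s * 1 := by
          rw [mul_one]; exact hkey
        exact mul_left_cancel h3
      have h1 : ⁅t, u₀⁆ ^ s = ⁅g, φ⁆⁻¹ * ⁅t, φ⁆⁻¹ := by
        calc ⁅t, u₀⁆ ^ s = ⁅g, φ⁆⁻¹ * (⁅g, φ⁆ * (⁅t, u₀⁆ ^ s * ⁅t, φ⁆)) * ⁅t, φ⁆⁻¹ := by group
          _ = ⁅g, φ⁆⁻¹ * ⁅t, φ⁆⁻¹ := by rw [h2, mul_one]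
      have h4 : ⁅t, u₀⁆ ^ s ∈ K := by
        rw [h1]
        exact K.mul_mem (K.inv_mem (mcp_comm_frat_right D hp2 hc g hφΦ))
          (K.inv_mem (mcp_comm_frat_right D hp2 hc t hφΦ))
      have h5 : ⁅t, u₀⁆ ∈ K := by
        apply hKcancel a
        rw [hs1 _ (Cfsg.Agent.Lib.Helper1.commElem_mem_commutator _ _)]
        exact h4
      have hnd := mcp_nondeg D hp2 hM hc hn t u₀ h5
      apply hnd
      apply mcp_chain_top hp.out hΦidx hΦL₁
      refine lt_of_le_of_ne ?_ ?_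
      · apply sup_le le_sup_right
        apply le_trans _ le_sup_left
        rw [Subgroup.zpowers_le]
        exact Subgroup.subset_closure (by simp)
      · intro h
        apply ht
        rw [h]
        exact (le_sup_left : Subgroup.closure ({t, u₀} : Set M) ≤ _)
          (Subgroup.subset_closure (by simp))
    have hL₁top := hMA L₁ hclaim
    have hnd := mcp_nondeg D hp2 hM hc hn u₀ u₀
      (by rw [commutatorElement_self]; exact Subgroup.one_mem _)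
    apply hnd
    rw [Set.pair_eq_singleton, ← Subgroup.zpowers_eq_closure, sup_comm]
    exact hL₁top
  · -- Case II
    have hΦltU₀ : Φ < U₀ := lt_of_le_of_ne hΦU₀ (fun h => hU h.symm)
    have hU₀K : ∀ x ∈ U₀, ∀ y ∈ U₀, ⁅x, y⁆ ∈ K := by
      intro x hx y hy
      by_cases hxΦ : x ∈ Φ
      · exact mcp_comm_frat_left D hp2 hc y hxΦ
      · have h1 := hgenU₀ x hx hxΦ
        have hle : U₀ ≤ mcpRightSub hc K x := by
          rw [h1]
          apply sup_le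
          · intro φ hφ
            exact mcp_comm_frat_right D hp2 hc x hφ
          · rw [Subgroup.zpowers_le]
            show ⁅x, x⁆ ∈ K
            rw [commutatorElement_self]; exact K.one_mem
        exact hle hy
    have hclaim : ∀ l ∈ U₀, ∀ a : A, l⁻¹ * a • l ∈ D.pw 1 := by
      intro l hl a
      by_contra hs'
      obtain ⟨s', hs'def⟩ : ∃ s' : M, s' = l⁻¹ * a • l := ⟨_, rfl⟩
      rw [← hs'def] at hs'
      have hs'U₀ : s' ∈ U₀ := by
        rw [hs'def]; exact U₀.mul_mem (U₀.inv_mem hl) (hU₀inv a l hl)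
      have hal : a • l = l * s' := by rw [hs'def]; group
      obtain ⟨s, hs1, hs2⟩ := hpowact a
      obtain ⟨l', hl'def⟩ : ∃ l' : M, l' = (u₀ ^ s)⁻¹ * a • u₀ := ⟨_, rfl⟩
      rw [← hl'def] at hs2
      have hau : a • u₀ = u₀ ^ s * l' := by rw [hl'def]; group
      have hkey : a • ⁅u₀, l⁆ = ⁅u₀, l⁆ ^ s :=
        hs1 _ (Cfsg.Agent.Lib.Helper1.commElem_mem_commutator _ _)
      have hE : ⁅u₀ ^ s * l', l * s'⁆ =
          ⁅u₀, l⁆ ^ s * (⁅u₀, s'⁆ ^ s * (⁅l', l⁆ * ⁅l', s'⁆)) := by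
        rw [mcp_comm_mul_left hc, mcp_comm_mul_right hc (u₀ ^ s), mcp_comm_mul_right hc l',
          mcp_comm_zpow_left hc, mcp_comm_zpow_left hc, mul_assoc]
      rw [mcp_smul_commutatorElement, hal, hau, hE] at hkey
      have h2 : ⁅u₀, s'⁆ ^ s * (⁅l', l⁆ * ⁅l', s'⁆) = 1 := by
        have h3 : ⁅u₀, l⁆ ^ s * (⁅u₀, s'⁆ ^ s * (⁅l', l⁆ * ⁅l', s'⁆)) = ⁅u₀, l⁆ ^ s * 1 := by
          rw [mul_one]; exact hkey
        exact mul_left_cancel h3
      have h4 : ⁅u₀, s'⁆ ^ s ∈ K := by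
        have : ⁅u₀, s'⁆ ^ s = (⁅l', l⁆ * ⁅l', s'⁆)⁻¹ := eq_inv_of_mul_eq_one_left h2
        rw [this]
        exact K.inv_mem (K.mul_mem (hU₀K l' hs2 l hl) (hU₀K l' hs2 s' hs'U₀))
      have h5 : ⁅u₀, s'⁆ ∈ K := by
        apply hKcancel a
        rw [hs1 _ (Cfsg.Agent.Lib.Helper1.commElem_mem_commutator _ _)]
        exact h4
      have hnd := mcp_nondeg D hp2 hM hc hn u₀ s' h5
      apply hnd
      apply mcp_chain_top hp.out hΦidx hΦltU₀
      refine lt_of_le_of_ne ?_ ?_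
      · rw [hgenU₀ s' hs'U₀ hs']
        apply sup_le le_sup_right
        apply le_trans _ le_sup_left
        rw [Subgroup.zpowers_le]
        exact Subgroup.subset_closure (by simp)
      · intro h
        apply hu₀U₀
        rw [h]
        exact (le_sup_left : Subgroup.closure ({u₀, s'} : Set M) ≤ _)
          (Subgroup.subset_closure (by simp))
    have := mcp_lemmaC D hp2 hcop hMA U₀ hU₀inv hclaim
    exact hΦltU₀.not_ge this

end Main

end Cfsg.Agent.Lib.Helper9
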