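import Mathlib
import Cfsg.Agent.Lib.Helper20.Metacyclic2
import Cfsg.Agent.Lib.Helper9.MetaCop5

set_option autoImplicit false

namespace Cfsg.Agent.Lib.Helper9

open scoped commutatorElement
open Cfsg.Agent.Lib.Helper20

section Abstract

variable {M A : Type*} [Group M] [Finite M] [Group A] [Finite A] [MulDistribMulAction A M]
  {p : ℕ} [hp : Fact p.Prime]

/-- A metacyclic `p`-group (`p` odd) with a coprime action satisfying `[M, A] = M` is abelian. -/
theorem mcp_abelian_of_MC (D : MC p M) (hp2 : p ≠ 2) (hM : IsPGroup p M)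
    (hcop : (Nat.card A).Coprime p)
    (hMA : ∀ U : Subgroup M, (∀ m : M, ∀ a : A, m⁻¹ * a • m ∈ U) → U = ⊤) :
    IsMulCommutative M := by
  have hc : commutator M ≤ Subgroup.center M :=
    mcp_class_two (A := A) (mcpZ D) (mcp_commutator_eq D) hMA
  by_cases hn : D.n = 0
  · exact (D.isMulCommutative_iff_n_eq_zero).2 hn
  · exact (mcp_false D hp2 hM hcop hc (by omega) hMA).elim

/-- transport of coordinates along an isomorphism -/
def mcpMCcongr {G H : Type*} [Group G] [Group H] (e : G ≃* H) (D : MC p G) : MC p H where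
  a := e D.a
  b := e D.b
  m := D.m
  r := D.r
  hord := by rw [MulEquiv.orderOf_eq]; exact D.hord
  hconj := by rw [← map_inv, ← map_mul, ← map_mul, D.hconj, map_pow]
  hr := D.hr
  hr2 := D.hr2
  hgen := by
    intro g
    obtain ⟨i, j, hij⟩ := D.hgen (e.symm g)
    refine ⟨i, j, ?_⟩
    rw [← map_pow, ← map_pow, ← map_mul, ← hij, MulEquiv.apply_symm_apply]

end Abstract

end Cfsg.Agent.Lib.Helper9
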