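import Mathlib
import Cfsg.Agent.Lib.Helper20.Metacyclic6
import Cfsg.Agent.Lib.Helper9.MetaCop6
import Cfsg.Agent.Lib.Lead.Coprime
import Cfsg.Agent.Lib.Helper1.CoprimeAbelian
import Cfsg.Agent.S0027

set_option autoImplicit false

namespace Cfsg.Agent.Lib.Helper9

open scoped commutatorElement
open scoped Pointwise
open Cfsg.Agent.Lib.Helper20

section Cyc

variable {M : Type*} [Group M] [Finite M] {p : ℕ} [hp : Fact p.Prime]

/-- In a metacyclic `p`-group (`p` odd), if `H ⊓ K = ⊥` and `K ≠ ⊥` then `H` is cyclic. -/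
theorem mcp_cyclic_of_disjoint (D : MC p M) (hp2 : p ≠ 2) (hM : IsPGroup p M)
    (H K : Subgroup M) (hHK : H ⊓ K = ⊥) (hK : K ≠ ⊥) : IsCyclic ↥H := by
  by_contra hnc
  have hncM : ¬ IsCyclic M := fun h => hnc (Subgroup.isCyclic H)
  obtain ⟨W, hW, hWcard⟩ := D.exists_omega hp2 hM hncM
  obtain ⟨α, β, DH, -, -, -, -⟩ := D.exists_sub_MC hM H
  obtain ⟨WH, hWH, hWHcard⟩ := DH.exists_omega hp2 (hM.to_subgroup H) hnc
  have hle : WH.map H.subtype ≤ W := by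
    rintro _ ⟨x, hx, rfl⟩
    rw [hW]
    have := (hWH x).1 hx
    rw [Subgroup.coe_subtype, ← Subgroup.coe_pow, this, Subgroup.coe_one]
  have hcard : Nat.card ↥(WH.map H.subtype) = Nat.card ↥W := by
    rw [Subgroup.card_map_of_injective H.subtype_injective, hWHcard, hWcard]
  have heq : WH.map H.subtype = W := Subgroup.eq_of_le_of_card_ge hle hcard.ge
  -- an element of order p in K
  have hKnt : Nontrivial ↥K := (Subgroup.nontrivial_iff_ne_bot K).2 hK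
  have hpK : p ∣ Nat.card ↥K := by
    obtain ⟨n, hn⟩ := (hM.to_subgroup K).exists_card_eq
    rw [hn]
    have hn0 : n ≠ 0 := by
      rintro rfl
      rw [pow_zero] at hn
      have := (Nat.card_eq_one_iff_unique.1 hn).1
      exact not_subsingleton ↥K this
    exact dvd_pow_self p hn0
  obtain ⟨k, hk⟩ := exists_prime_orderOf_dvd_card' p hpK
  have hkp : (k : M) ^ p = 1 := by
    rw [← Subgroup.coe_pow, ← hk, pow_orderOf_eq_one, Subgroup.coe_one]
  have hkW : (k : M) ∈ W := (hW _).2 hkp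
  rw [← heq] at hkW
  obtain ⟨x, -, hx⟩ := hkW
  have hkH : (k : M) ∈ H := by rw [← hx]; exact x.2
  have : (k : M) ∈ H ⊓ K := ⟨hkH, k.2⟩
  rw [hHK, Subgroup.mem_bot] at this
  have hk1 : k = 1 := Subtype.ext this
  rw [hk1, orderOf_one] at hk
  exact hp.out.one_lt.ne hk
  
end Cyc

section Concrete

variable {G : Type*} [Group G]

/-- conjugation action of `A ≤ N_G(M)` on `M` -/
@[reducible] def mcpConjAct (M A : Subgroup G) (h : A ≤ Subgroup.normalizer (M : Set G)) :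
    MulDistribMulAction ↥A ↥M where
  smul a m := ⟨a * m * a⁻¹, (Subgroup.mem_normalizer_iff.mp (h a.2) m).mp m.2⟩
  one_smul m := by
    apply Subtype.ext
    show ((1 : A) : G) * m * ((1 : A) : G)⁻¹ = m
    simp
  mul_smul a b m := by
    apply Subtype.ext
    show ((a * b : A) : G) * m * ((a * b : A) : G)⁻¹ = a * (b * m * (b : G)⁻¹) * (a : G)⁻¹
    rw [Subgroup.coe_mul]; group
  smul_mul a m n := by
    apply Subtype.ext
    show (a : G) * ((m * n : M) : G) * (a : G)⁻¹ = (a * m * (a : G)⁻¹) * (a * n * (a : G)⁻¹)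
    rw [Subgroup.coe_mul]; group
  smul_one a := by
    apply Subtype.ext
    show (a : G) * ((1 : M) : G) * (a : G)⁻¹ = ((1 : M) : G)
    simp

theorem mcpConjAct_coe (M A : Subgroup G) (h : A ≤ Subgroup.normalizer (M : Set G)) (a : A) (m : M) :
    letI := mcpConjAct M A h
    ((a • m : M) : G) = a * m * (a : G)⁻¹ := rfl

variable [Finite G]

theorem mcp_commutator_abelian (p : ℕ) [Fact p.Prime] (hp : p ≠ 2) (R A : Subgroup G)
    (hR : IsPGroup p R) (hRm : Cfsg.IsMetacyclic R)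
    (hA : A ≤ Subgroup.normalizer (R : Set G)) (hcop : (Nat.card A).Coprime p) :
    IsMulCommutative ↥⁅R, A⁆ := by
  have hM₀R : ⁅R, A⁆ ≤ R := Cfsg.Agent.Lib.Lead.commutator_le_left_of_le_normalizer R A hA
  have hAM₀ : A ≤ Subgroup.normalizer ((⁅R, A⁆ : Subgroup G) : Set G) :=
    Cfsg.Agent.Lib.Lead.right_le_normalizer_commutator R A hA
  have hcopR : (Nat.card A).Coprime (Nat.card R) := by
    obtain ⟨n, hn⟩ := hR.exists_card_eq
    rw [hn]; exact hcop.pow_right n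
  haveI : Group.IsNilpotent R := hR.isNilpotent
  have h27 : ⁅⁅R, A⁆, A⁆ = ⁅R, A⁆ :=
    Cfsg.Agent.S0027.result A R hA hcopR (Or.inr inferInstance)
  obtain ⟨DR⟩ := exists_MC hR hRm
  obtain ⟨α, β, DL, -⟩ := DR.exists_sub_MC hR ((⁅R, A⁆ : Subgroup G).subgroupOf R)
  let D : MC p ↥(⁅R, A⁆ : Subgroup G) := mcpMCcongr (Subgroup.subgroupOfEquivOfLe hM₀R) DL
  letI := mcpConjAct ⁅R, A⁆ A hAM₀
  apply mcp_abelian_of_MC (A := ↥A) D hp (hR.to_le hM₀R) hcop
  intro U hU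
  rw [eq_top_iff]
  intro x _
  have hle : ⁅⁅R, A⁆, A⁆ ≤ U.map (⁅R, A⁆ : Subgroup G).subtype := by
    rw [Subgroup.commutator_le]
    intro m hm a ha
    refine ⟨_, hU (⟨m, hm⟩ : ↥(⁅R, A⁆ : Subgroup G))⁻¹ ⟨a, ha⟩, ?_⟩
    rw [Subgroup.coe_subtype, Subgroup.coe_mul, mcpConjAct_coe]
    simp only [commutatorElement_def, Subgroup.coe_inv, inv_inv]
    group
  rw [h27] at hle
  obtain ⟨u, hu, hux⟩ := hle x.2
  have : u = x := Subtype.ext hux
  rw [← this]; exact hu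

end Concrete

section Concrete2

variable {G : Type*} [Group G] [Finite G]

theorem mcp_commutator_le_of_cyclic (R M₀ C₀ : Subgroup G) (hC₀R : C₀ ≤ R)
    (hn : R ≤ Subgroup.normalizer (M₀ : Set G)) (hsup : M₀ ⊔ C₀ = R)
    (hC₀ : ∀ c ∈ C₀, ∀ c' ∈ C₀, c * c' = c' * c) : ⁅R, R⁆ ≤ M₀ := by
  have hdec : ∀ x ∈ R, ∃ m ∈ M₀, ∃ c ∈ C₀, x = m * c := by
    intro x hx
    have : x ∈ ((M₀ ⊔ C₀ : Subgroup G) : Set G) := by rw [hsup]; exact hx
    rw [Subgroup.coe_mul_of_right_le_normalizer_left M₀ C₀ (hC₀R.trans hn)] at this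
    obtain ⟨m, hm, c, hc, rfl⟩ := this
    exact ⟨m, hm, c, hc, rfl⟩
  rw [Subgroup.commutator_le]
  intro x hx y hy
  obtain ⟨m, hm, c, hc, rfl⟩ := hdec x hx
  obtain ⟨m', hm', c', hc', rfl⟩ := hdec y hy
  have hcc : c' * c⁻¹ = c⁻¹ * c' := by
    have := hC₀ c hc c' hc'
    calc c' * c⁻¹ = c⁻¹ * (c * c') * c⁻¹ := by group
      _ = c⁻¹ * (c' * c) * c⁻¹ := by rw [this]
      _ = c⁻¹ * c' := by group
  have e : ⁅m * c, m' * c'⁆ = m * (c * m' * c⁻¹) * (c' * m⁻¹ * c'⁻¹) * m'⁻¹ := by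
    calc ⁅m * c, m' * c'⁆ = m * c * m' * (c' * c⁻¹) * m⁻¹ * c'⁻¹ * m'⁻¹ := by
          simp only [commutatorElement_def]; group
      _ = m * c * m' * (c⁻¹ * c') * m⁻¹ * c'⁻¹ * m'⁻¹ := by rw [hcc]
      _ = _ := by group
  rw [e]
  have h1 : c * m' * c⁻¹ ∈ M₀ := (Subgroup.mem_normalizer_iff.mp (hn (hC₀R hc)) m').mp hm'
  have h2 : c' * m⁻¹ * c'⁻¹ ∈ M₀ :=
    (Subgroup.mem_normalizer_iff.mp (hn (hC₀R hc')) m⁻¹).mp (M₀.inv_mem hm)
  exact M₀.mul_mem (M₀.mul_mem (M₀.mul_mem hm h1) h2) (M₀.inv_mem hm')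

end Concrete2

end Cfsg.Agent.Lib.Helper9
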