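import Mathlib
import Cfsg.Agent.Lib.Helper9.MetaCop7

set_option autoImplicit false

namespace Cfsg.Agent.Lib.Helper9

open scoped commutatorElement
open scoped Pointwise
open Cfsg.Agent.Lib.Helper20

section Concrete3

variable {G : Type*} [Group G] [Finite G]

theorem mcp_main (p : ℕ) [Fact p.Prime] (hp : p ≠ 2) (R A : Subgroup G) (hR : IsPGroup p R)
    (hRm : Cfsg.IsMetacyclic R)
    (hA : (A ≤ Subgroup.normalizer (R : Set G))) (hcop : (Nat.card A).Coprime p) :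
    IsMulCommutative ↥⁅R, A⁆ ∧ ⁅R, A⁆ ⊔ (R ⊓ Subgroup.centralizer (A : Set G)) = R ∧
      ⁅R, A⁆ ⊓ (R ⊓ Subgroup.centralizer (A : Set G)) = ⊥ ∧
      (¬ IsMulCommutative R → ¬ A ≤ Subgroup.centralizer (R : Set G) →
        ⁅R, A⁆ ≠ ⊥ ∧ IsCyclic ↥⁅R, A⁆ ∧ (R ⊓ Subgroup.centralizer (A : Set G)) ≠ ⊥ ∧
          IsCyclic ↥(R ⊓ Subgroup.centralizer (A : Set G)) ∧ ⁅R, R⁆ ≤ ⁅R, A⁆) := by
  have hM₀R : ⁅R, A⁆ ≤ R := Cfsg.Agent.Lib.Lead.commutator_le_left_of_le_normalizer R A hA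
  have hAM₀ : A ≤ Subgroup.normalizer ((⁅R, A⁆ : Subgroup G) : Set G) :=
    Cfsg.Agent.Lib.Lead.right_le_normalizer_commutator R A hA
  have hRM₀ : R ≤ Subgroup.normalizer ((⁅R, A⁆ : Subgroup G) : Set G) :=
    Cfsg.Agent.Lib.Lead.left_le_normalizer_commutator R A
  have hcopR : (Nat.card A).Coprime (Nat.card R) := by
    obtain ⟨n, hn⟩ := hR.exists_card_eq
    rw [hn]; exact hcop.pow_right n
  haveI : Group.IsNilpotent R := hR.isNilpotent
  have h27 : ⁅⁅R, A⁆, A⁆ = ⁅R, A⁆ :=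
    Cfsg.Agent.S0027.result A R hA hcopR (Or.inr inferInstance)
  have h26 : ⁅R, A⁆ ⊔ (R ⊓ Subgroup.centralizer (A : Set G)) = R :=
    Cfsg.Agent.S0026.result A R hA hcopR (Or.inr inferInstance)
  have hab : IsMulCommutative ↥⁅R, A⁆ := mcp_commutator_abelian p hp R A hR hRm hA hcop
  have hdisj : ⁅R, A⁆ ⊓ (R ⊓ Subgroup.centralizer (A : Set G)) = ⊥ := by
    have hcopM : (Nat.card A).Coprime (Nat.card ↥⁅R, A⁆) :=
      Nat.Coprime.coprime_dvd_right (Subgroup.card_dvd_of_le hM₀R) hcopR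
    have h := (Cfsg.Agent.Lib.Helper1.coprime_abelian_decomposition A ⁅R, A⁆ hAM₀ hcopM).1
    rw [h27] at h
    rw [eq_bot_iff]
    intro x hx
    rw [← h]
    exact ⟨⟨hx.1, hx.2.2⟩, hx.1⟩
  refine ⟨hab, h26, hdisj, ?_⟩
  intro hnab hnc
  have hM₀ne : ⁅R, A⁆ ≠ ⊥ := by
    intro h
    rw [Subgroup.commutator_eq_bot_iff_le_centralizer] at h
    apply hnc
    intro a ha
    rw [Subgroup.mem_centralizer_iff]
    intro r hr
    exact (Subgroup.mem_centralizer_iff.1 (h hr) a ha).symm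
  have hC₀ne : R ⊓ Subgroup.centralizer (A : Set G) ≠ ⊥ := by
    intro h
    rw [h, sup_bot_eq] at h26
    apply hnab
    rw [← h26]
    exact hab
  obtain ⟨DR⟩ := exists_MC hR hRm
  -- cyclicity, inside `↥R`
  have hcyc : ∀ H K : Subgroup G, H ≤ R → K ≤ R → H ⊓ K = ⊥ → K ≠ ⊥ → IsCyclic ↥H := by
    intro H K hH hK hHK hKne
    have h1 : H.subgroupOf R ⊓ K.subgroupOf R = ⊥ := by
      have := (Subgroup.comap_inf H K R.subtype).symm
      rw [hHK] at this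
      exact this.trans (Subgroup.bot_subgroupOf R)
    have h2 : K.subgroupOf R ≠ ⊥ := by
      intro h
      rw [Subgroup.subgroupOf_eq_bot] at h
      apply hKne
      rw [eq_bot_iff]
      rw [disjoint_iff, inf_eq_left.2 hK] at h
      exact h.le
    have := mcp_cyclic_of_disjoint DR hp hR _ _ h1 h2
    exact isCyclic_of_surjective (Subgroup.subgroupOfEquivOfLe hH) (Subgroup.subgroupOfEquivOfLe hH).surjective
  have hcycM : IsCyclic ↥⁅R, A⁆ := hcyc _ _ hM₀R inf_le_left hdisj hC₀ne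
  have hcycC : IsCyclic ↥(R ⊓ Subgroup.centralizer (A : Set G)) :=
    hcyc _ _ inf_le_left hM₀R (by rw [inf_comm]; exact hdisj) hM₀ne
  refine ⟨hM₀ne, hcycM, hC₀ne, hcycC, ?_⟩
  apply mcp_commutator_le_of_cyclic R _ _ inf_le_left hRM₀ h26
  intro c hc c' hc'
  have h := (IsCyclic.commGroup (α := ↥(R ⊓ Subgroup.centralizer (A : Set G)))).mul_comm ⟨c, hc⟩ ⟨c', hc'⟩
  exact congrArg Subtype.val h

end Concrete3

end Cfsg.Agent.Lib.Helper9
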