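import Mathlib
import Cfsg.Prelude.Def_Balance
import Cfsg.Agent.Lib.Helper1.Nilp
import Cfsg.Agent.Lib.Helper5.ElemAb

set_option autoImplicit false

namespace Cfsg.Agent.Lib.Helper9

section RankComp1
variable {P : Type*} [Group P]

theorem rc_normal_of_le_center (Z : Subgroup P) (hZ : Z ≤ Subgroup.center P) : Z.Normal := by
  constructor
  intro n hn g
  have h := Subgroup.mem_center_iff.mp (hZ hn) g
  have : g * n * g⁻¹ = n := by rw [h]; group
  rw [this]; exact hn

/-- in a `p`-group, a normal subgroup `U` properly containing a central subgroup `Z` has an element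
outside `Z` that is central modulo `Z` -/
theorem rc_exists_central_mod [Finite P] {p : ℕ} [Fact p.Prime] (hP : IsPGroup p P)
    (U Z : Subgroup P) [U.Normal] (hZ : Z ≤ Subgroup.center P) (hZU : Z ≤ U) (hne : Z ≠ U) :
    ∃ w ∈ U, w ∉ Z ∧ ∀ g : P, g * w * g⁻¹ * w⁻¹ ∈ Z := by
  haveI : Z.Normal := rc_normal_of_le_center Z hZ
  haveI : Group.IsNilpotent (P ⧸ Z) := (hP.to_quotient Z).isNilpotent
  have hUn : (U.map (QuotientGroup.mk' Z)).Normal :=
    Subgroup.Normal.map inferInstance _ (QuotientGroup.mk'_surjective Z)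
  have hUne : U.map (QuotientGroup.mk' Z) ≠ ⊥ := by
    intro h
    apply hne
    apply le_antisymm hZU
    intro u hu
    have : (QuotientGroup.mk' Z) u ∈ U.map (QuotientGroup.mk' Z) := Subgroup.mem_map_of_mem _ hu
    rw [h, Subgroup.mem_bot] at this
    exact (QuotientGroup.eq_one_iff u).mp this
  have h1 := Cfsg.Agent.Lib.Helper1.normal_inf_center_ne_bot (U.map (QuotientGroup.mk' Z)) hUne
  obtain ⟨⟨q, hq⟩, hq1⟩ := (Subgroup.ne_bot_iff_exists_ne_one).mp h1
  have hq1' : q ≠ 1 := fun h => hq1 (Subtype.ext h)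
  obtain ⟨⟨w, hwU, rfl⟩, hqZ⟩ := hq
  refine ⟨w, hwU, fun h => hq1' ((QuotientGroup.eq_one_iff w).mpr h), fun g => ?_⟩
  rw [← QuotientGroup.eq_one_iff]
  have h2 := Subgroup.mem_center_iff.mp hqZ ((QuotientGroup.mk' Z) g)
  have h3 : ((g * w * g⁻¹ * w⁻¹ : P) : P ⧸ Z) =
      (QuotientGroup.mk' Z) g * (QuotientGroup.mk' Z) w * ((QuotientGroup.mk' Z) g)⁻¹ *
        ((QuotientGroup.mk' Z) w)⁻¹ := by
    simp
  rw [h3, h2]
  group

/-- `F ⊓ C(w)` has index at most `|Z|` in `F` when all commutators `[g, w]` lie in the central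
subgroup `Z` -/
theorem rc_card_le_of_comm_mem [Finite P] (Z : Subgroup P) (hZ : Z ≤ Subgroup.center P) (w : P)
    (hw : ∀ g : P, g * w * g⁻¹ * w⁻¹ ∈ Z) (F : Subgroup P) :
    Nat.card F ≤ Nat.card Z * Nat.card (F ⊓ Subgroup.centralizer {w} : Subgroup P) := by
  let φ : F →* Z := MonoidHom.mk' (fun g => ⟨(g : P) * w * (g : P)⁻¹ * w⁻¹, hw g⟩) (by
    intro a b
    apply Subtype.ext
    show ((a * b : F) : P) * w * ((a * b : F) : P)⁻¹ * w⁻¹ =
      ((a : P) * w * (a : P)⁻¹ * w⁻¹) * ((b : P) * w * (b : P)⁻¹ * w⁻¹)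
    have hc := Subgroup.mem_center_iff.mp (hZ (hw (b : P)))
    rw [Subgroup.coe_mul]
    calc (a : P) * b * w * ((a : P) * b)⁻¹ * w⁻¹
        = (a : P) * ((b : P) * w * (b : P)⁻¹ * w⁻¹) * w * (a : P)⁻¹ * w⁻¹ := by group
      _ = ((b : P) * w * (b : P)⁻¹ * w⁻¹) * (a : P) * w * (a : P)⁻¹ * w⁻¹ := by rw [hc (a : P)]
      _ = ((b : P) * w * (b : P)⁻¹ * w⁻¹) * ((a : P) * w * (a : P)⁻¹ * w⁻¹) := by group
      _ = ((a : P) * w * (a : P)⁻¹ * w⁻¹) * ((b : P) * w * (b : P)⁻¹ * w⁻¹) :=
          (hc _).symm)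
  have hker : φ.ker.map F.subtype = F ⊓ Subgroup.centralizer {w} := by
    ext x
    constructor
    · rintro ⟨y, hy, rfl⟩
      refine ⟨y.2, ?_⟩
      show (y : P) ∈ Subgroup.centralizer {w}
      rw [Subgroup.mem_centralizer_singleton_iff]
      have h1 : (y : P) * w * (y : P)⁻¹ * w⁻¹ = 1 := congrArg Subtype.val (MonoidHom.mem_ker.mp hy)
      have h2 : (y : P) * w * (y : P)⁻¹ = w := by
        have := mul_inv_eq_one.mp h1
        exact this
      calc (y : P) * w = ((y : P) * w * (y : P)⁻¹) * y := by group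
        _ = w * y := by rw [h2]
    · rintro ⟨hxF, hxw⟩
      have hxF : x ∈ F := hxF
      have hxw : x ∈ Subgroup.centralizer {w} := hxw
      rw [Subgroup.mem_centralizer_singleton_iff] at hxw
      refine ⟨⟨x, hxF⟩, ?_, rfl⟩
      show (⟨x, hxF⟩ : F) ∈ φ.ker
      rw [MonoidHom.mem_ker]
      apply Subtype.ext
      show x * w * x⁻¹ * w⁻¹ = 1
      rw [hxw]; group
  have hkc : Nat.card φ.ker = Nat.card (F ⊓ Subgroup.centralizer {w} : Subgroup P) := by
    rw [← hker]
    exact Nat.card_congr (φ.ker.equivMapOfInjective F.subtype F.subtype_injective).toEquiv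
  have h1 := Subgroup.card_mul_index φ.ker
  rw [Subgroup.index_ker] at h1
  have h2 : Nat.card φ.range ≤ Nat.card Z := Subgroup.card_le_card_group _
  rw [← h1, hkc, mul_comm]
  exact Nat.mul_le_mul_right _ h2

/-- a normal elementary abelian subgroup of order `p²` of a `p`-group is centralized by a
subgroup of index at most `p` of any subgroup `F` -/
theorem rc_card_le [Finite P] {p : ℕ} [hp : Fact p.Prime] (hP : IsPGroup p P) (U : Subgroup P)
    [U.Normal] (hU : Cfsg.IsElementaryAbelian p U) (hUc : Nat.card U = p ^ 2) (F : Subgroup P) :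
    Nat.card F ≤ p * Nat.card (F ⊓ Subgroup.centralizer (U : Set P) : Subgroup P) := by
  haveI : Group.IsNilpotent P := hP.isNilpotent
  have hp1 := hp.out.one_lt
  have hUne : U ≠ ⊥ := by
    intro h
    rw [h, Subgroup.card_bot] at hUc
    nlinarith
  obtain ⟨⟨z, hz⟩, hz1⟩ := (Subgroup.ne_bot_iff_exists_ne_one).mp
    (Cfsg.Agent.Lib.Helper1.normal_inf_center_ne_bot U hUne)
  have hz1' : z ≠ 1 := fun h => hz1 (Subtype.ext h)
  have hzU : z ∈ U := hz.1
  have hzC : z ∈ Subgroup.center P := hz.2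
  have hzp : z ^ p = 1 := hU.2 z hzU
  have hoz : orderOf z = p := orderOf_eq_prime hzp hz1'
  have hZc : Nat.card (Subgroup.zpowers z) = p := by rw [Nat.card_zpowers, hoz]
  have hZcen : Subgroup.zpowers z ≤ Subgroup.center P := Subgroup.zpowers_le.mpr hzC
  have hZU : Subgroup.zpowers z ≤ U := Subgroup.zpowers_le.mpr hzU
  have hne : Subgroup.zpowers z ≠ U := by
    intro h
    rw [h, hUc] at hZc
    nlinarith
  obtain ⟨w, hwU, hwZ, hw⟩ := rc_exists_central_mod hP U _ hZcen hZU hne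
  have h1 := rc_card_le_of_comm_mem _ hZcen w hw F
  rw [hZc] at h1
  have hgen : Subgroup.zpowers z ⊔ Subgroup.zpowers w = U := by
    have hle : Subgroup.zpowers z ⊔ Subgroup.zpowers w ≤ U :=
      sup_le hZU (Subgroup.zpowers_le.mpr hwU)
    apply Subgroup.eq_of_le_of_card_ge hle
    have hdvd : Nat.card (Subgroup.zpowers z ⊔ Subgroup.zpowers w : Subgroup P) ∣ p ^ 2 :=
      hUc ▸ Subgroup.card_dvd_of_le hle
    obtain ⟨i, hi, hi2⟩ := (Nat.dvd_prime_pow hp.out).mp hdvd
    have hlt : p < Nat.card (Subgroup.zpowers z ⊔ Subgroup.zpowers w : Subgroup P) := by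
      by_contra hcon
      push Not at hcon
      have heq : Subgroup.zpowers z = Subgroup.zpowers z ⊔ Subgroup.zpowers w :=
        Subgroup.eq_of_le_of_card_ge le_sup_left (by rw [hZc]; exact hcon)
      apply hwZ
      rw [heq]
      exact (le_sup_right : Subgroup.zpowers w ≤ _) (Subgroup.mem_zpowers w)
    rw [hUc, hi2]
    rw [hi2] at hlt
    have : 1 < i := by
      by_contra hcon
      push Not at hcon
      have : p ^ i ≤ p ^ 1 := Nat.pow_le_pow_right hp.out.pos hcon
      rw [pow_one] at this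
      omega
    exact Nat.pow_le_pow_right hp.out.pos this
  have hle2 : F ⊓ Subgroup.centralizer {w} ≤ F ⊓ Subgroup.centralizer (U : Set P) := by
    rintro x ⟨hxF, hxw⟩
    have hxw : x ∈ Subgroup.centralizer {w} := hxw
    rw [Subgroup.mem_centralizer_singleton_iff] at hxw
    refine ⟨hxF, ?_⟩
    show x ∈ Subgroup.centralizer (U : Set P)
    rw [Subgroup.mem_centralizer_iff]
    have hUx : U ≤ Subgroup.centralizer {x} := by
      rw [← hgen]
      apply sup_le
      · exact hZcen.trans (Subgroup.center_le_centralizer _)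
      · rw [Subgroup.zpowers_le, Subgroup.mem_centralizer_singleton_iff]
        exact hxw.symm
    intro u hu
    have := hUx hu
    rw [Subgroup.mem_centralizer_singleton_iff] at this
    exact this
  exact h1.trans (Nat.mul_le_mul_left _ (Subgroup.card_le_of_le hle2))

end RankComp1

end Cfsg.Agent.Lib.Helper9
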