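import Mathlib
import Cfsg.Prelude.Def_Balance
import Cfsg.Agent.Lib.Helper9.RankComp1
import Cfsg.Agent.Lib.Helper24.NormalRank
import Cfsg.Agent.Lib.Helper18.NormalFour

set_option autoImplicit false

namespace Cfsg.Agent.Lib.Helper9

section RankComp2
variable {P : Type*} [Group P]

theorem rc_four_group [Finite P] (z w : P) (hz : ∀ g : P, g * z = z * g) (hz1 : z ≠ 1)
    (hz2 : z * z = 1) (hw2 : w * w = 1) (hw1 : w ≠ 1) (hwz : w ≠ z)
    (hconj : ∀ g : P, g * w * g⁻¹ = w ∨ g * w * g⁻¹ = z * w) :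
    ∃ U : Subgroup P, U.Normal ∧ Cfsg.IsElementaryAbelian 2 U ∧ Nat.card U = 2 ^ 2 := by
  have hzz : z ^ 2 = 1 := by rw [pow_two]; exact hz2
  have hww : w ^ 2 = 1 := by rw [pow_two]; exact hw2
  have hZn : (Subgroup.zpowers z).Normal :=
    Cfsg.Agent.Lib.Helper18.NormalFour.zpowers_normal_of_central hz
  have hb : Cfsg.IsElementaryAbelian 2 (⊥ : Subgroup P) := Cfsg.Agent.Lib.Helper5.elemAb_bot 2
  have hZea : Cfsg.IsElementaryAbelian 2 (Subgroup.zpowers z) := by
    have := Cfsg.Agent.Lib.Helper18.E8C.ea_sup_zpowers hb hzz (by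
      rw [Subgroup.mem_centralizer_iff]
      intro h hh
      rw [Subgroup.coe_bot, Set.mem_singleton_iff] at hh
      subst hh; simp)
    rwa [bot_sup_eq] at this
  have hZc : Nat.card (Subgroup.zpowers z) = 2 := by
    have := Cfsg.Agent.Lib.Helper18.E8C.card_sup_zpowers (B := (⊥ : Subgroup P)) (a := z)
      (by rw [Subgroup.mem_bot]; exact hz1) hzz (by
      rw [Subgroup.mem_centralizer_iff]
      intro h hh
      rw [Subgroup.coe_bot, Set.mem_singleton_iff] at hh
      subst hh; simp)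
    rwa [bot_sup_eq, Subgroup.card_bot, mul_one] at this
  have hwc : w ∈ Subgroup.centralizer ((Subgroup.zpowers z : Subgroup P) : Set P) := by
    rw [Subgroup.mem_centralizer_iff]
    intro h hh
    rcases Cfsg.Agent.Lib.Helper18.E8C.zpowers_eq_of_sq hzz hh with rfl | rfl
    · simp
    · exact (hz w).symm
  have hwZ : w ∉ Subgroup.zpowers z := by
    intro hh
    rcases Cfsg.Agent.Lib.Helper18.E8C.zpowers_eq_of_sq hzz hh with h | h
    · exact hw1 h
    · exact hwz h
  refine ⟨Subgroup.zpowers z ⊔ Subgroup.zpowers w, ?_, ?_, ?_⟩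
  · apply Cfsg.Agent.Lib.Helper24.nr_sup_normal
    intro g
    have hwinv : w⁻¹ = w := inv_eq_of_mul_eq_one_left hw2
    rcases hconj g with h | h
    · have : w⁻¹ * g * w * g⁻¹ = 1 := by
        calc w⁻¹ * g * w * g⁻¹ = w⁻¹ * (g * w * g⁻¹) := by group
          _ = 1 := by rw [h]; group
      rw [this]; exact Subgroup.one_mem _
    · have : w⁻¹ * g * w * g⁻¹ = z := by
        calc w⁻¹ * g * w * g⁻¹ = w⁻¹ * (g * w * g⁻¹) := by group
          _ = w⁻¹ * (z * w) := by rw [h]
          _ = w⁻¹ * (w * z) := by rw [hz w]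
          _ = z := by group
      rw [this]; exact Subgroup.mem_zpowers z
  · exact Cfsg.Agent.Lib.Helper18.E8C.ea_sup_zpowers hZea hww hwc
  · rw [Cfsg.Agent.Lib.Helper18.E8C.card_sup_zpowers hwZ hww hwc, hZc]
    norm_num

theorem rc_exists_U [Finite P] (p : ℕ) [hp : Fact p.Prime] (hP : IsPGroup p P)
    (E : Subgroup P) (hE : Cfsg.IsElementaryAbelian p E) (hEc : Nat.card E = p ^ 3) :
    ∃ U : Subgroup P, U.Normal ∧ Cfsg.IsElementaryAbelian p U ∧ Nat.card U = p ^ 2 := by
  by_cases hp2 : p = 2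
  · subst hp2
    have hE2 : ∀ e ∈ E, e * e = 1 := by
      intro e he
      have := hE.2 e he
      rwa [pow_two] at this
    obtain ⟨z, w, hzc, hz1, hz2, hw2, hw1, hwz, hconj⟩ :=
      Cfsg.Agent.Lib.Helper18.NormalFour.exists_normal_four hP E (by rw [hEc]; norm_num) hE2
    exact rc_four_group z w hzc hz1 hz2 hw2 hw1 hwz hconj
  · apply Cfsg.Agent.Lib.Helper24.nr_main hp2 hP
    intro hcyc
    haveI : IsCyclic E := Subgroup.isCyclic E
    obtain ⟨e, he⟩ := (Subgroup.isCyclic_iff_exists_zpowers_eq_top E).mp inferInstance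
    have heE : e ∈ E := he ▸ Subgroup.mem_zpowers e
    have h1 : orderOf e ∣ p := orderOf_dvd_of_pow_eq_one (hE.2 e heE)
    have h2 : Nat.card E = orderOf e := by rw [← he, Nat.card_zpowers]
    have h3 : p ^ 3 ≤ p := by
      rw [← hEc, h2]
      exact Nat.le_of_dvd hp.out.pos h1
    have := hp.out.one_lt
    nlinarith [Nat.pow_le_pow_right hp.out.pos (show 1 ≤ 3 by norm_num), pow_one p,
      Nat.pow_lt_pow_right this (show 1 < 3 by norm_num)]

end RankComp2

end Cfsg.Agent.Lib.Helper9
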