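import Mathlib
import Cfsg.Prelude.Def_Balance
import Cfsg.Agent.Lib.Helper9.RankComp2

set_option autoImplicit false

namespace Cfsg.Agent.Lib.Helper9

section RankComp3
variable {P : Type*} [Group P]

theorem rc_not_rankLE_of {p : ℕ} (T F : Subgroup P) (hF : Cfsg.IsElementaryAbelian p F)
    (hFT : F ≤ Subgroup.centralizer (T : Set P)) (hc : p ^ 2 < Nat.card F) :
    ¬ Cfsg.PRankLE p 2 ↥(Subgroup.centralizer (T : Set P)) := by
  intro h
  have h1 := Cfsg.Agent.Lib.Helper5.elemAb_comap_of_injective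
    (Subgroup.centralizer (T : Set P)).subtype (Subgroup.subtype_injective _) hF
  have h2 := h _ h1.1 h1.2
  have h3 : Nat.card (F.comap (Subgroup.centralizer (T : Set P)).subtype) = Nat.card F :=
    Cfsg.Agent.Lib.Helper5.card_subgroupOf_of_le hFT
  rw [h3] at h2
  omega

theorem rc_exists_of_not_rankLE {p : ℕ} (T : Subgroup P)
    (h : ¬ Cfsg.PRankLE p 2 ↥(Subgroup.centralizer (T : Set P))) :
    ∃ F : Subgroup P, Cfsg.IsElementaryAbelian p F ∧ F ≤ Subgroup.centralizer (T : Set P) ∧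
      p ^ 2 < Nat.card F := by
  unfold Cfsg.PRankLE at h
  push Not at h
  obtain ⟨A, hAc, hAp, hcard⟩ := h
  refine ⟨A.map (Subgroup.centralizer (T : Set P)).subtype,
    Cfsg.Agent.Lib.Helper5.elemAb_map _ ⟨hAc, hAp⟩, ?_, ?_⟩
  · rintro _ ⟨y, -, rfl⟩
    exact y.2
  · have : Nat.card (A.map (Subgroup.centralizer (T : Set P)).subtype) = Nat.card A :=
      Nat.card_congr (A.equivMapOfInjective _ (Subgroup.subtype_injective _)).symm.toEquiv
    rw [this]
    exact hcard

theorem rc_ea_sup {p : ℕ} {A B : Subgroup P} (hA : Cfsg.IsElementaryAbelian p A)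
    (hB : Cfsg.IsElementaryAbelian p B) (hAB : ∀ a ∈ A, ∀ b ∈ B, a * b = b * a) :
    Cfsg.IsElementaryAbelian p (A ⊔ B) := by
  rw [Subgroup.sup_eq_closure]
  apply Cfsg.Agent.Lib.Helper5.elemAb_closure
  · have hAc := (Cfsg.Agent.Lib.Helper1.isMulCommutative_subgroup_iff A).mp hA.1
    have hBc := (Cfsg.Agent.Lib.Helper1.isMulCommutative_subgroup_iff B).mp hB.1
    rintro y (hy | hy) z (hz | hz)
    · exact hAc y hy z hz
    · exact hAB y hy z hz
    · exact (hAB z hz y hy).symm
    · exact hBc y hy z hz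
  · rintro y (hy | hy)
    · exact hA.2 y hy
    · exact hB.2 y hy

theorem rc_le_centralizer_self {p : ℕ} {A : Subgroup P} (hA : Cfsg.IsElementaryAbelian p A) :
    A ≤ Subgroup.centralizer (A : Set P) := by
  have hAc := (Cfsg.Agent.Lib.Helper1.isMulCommutative_subgroup_iff A).mp hA.1
  intro x hx
  rw [Subgroup.mem_centralizer_iff]
  intro y hy
  exact hAc y hy x hx

/-- a power of `p` exceeding `p²` is at least `p³` -/
theorem rc_card_ge_cube [Finite P] {p : ℕ} [hp : Fact p.Prime] (hP : IsPGroup p P)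
    (F : Subgroup P) (hc : p ^ 2 < Nat.card F) : p ^ 3 ≤ Nat.card F := by
  obtain ⟨k, hk⟩ := IsPGroup.iff_card.mp (hP.to_subgroup F)
  rw [hk] at hc ⊢
  have : 2 < k := (Nat.pow_lt_pow_iff_right hp.out.one_lt).mp hc
  exact Nat.pow_le_pow_right hp.out.pos this

/-- the centralizer of a normal `E_{p²}` in a `p`-group of rank `≥ 3` has rank `≥ 3` -/
theorem rc_centralizer_U [Finite P] {p : ℕ} [hp : Fact p.Prime] (hP : IsPGroup p P)
    (U : Subgroup P) [U.Normal] (hU : Cfsg.IsElementaryAbelian p U) (hUc : Nat.card U = p ^ 2)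
    (E : Subgroup P) (hE : Cfsg.IsElementaryAbelian p E) (hEc : Nat.card E = p ^ 3) :
    ¬ Cfsg.PRankLE p 2 ↥(Subgroup.centralizer (U : Set P)) := by
  have hp1 := hp.out.one_lt
  have hppos := hp.out.pos
  have h1 := rc_card_le hP U hU hUc E
  set F₁ : Subgroup P := E ⊓ Subgroup.centralizer (U : Set P) with hF₁
  have hF₁c : p ^ 2 ≤ Nat.card F₁ := by
    rw [hEc] at h1
    have : p * p ^ 2 ≤ p * Nat.card F₁ := by
      calc p * p ^ 2 = p ^ 3 := by ring
        _ ≤ p * Nat.card F₁ := h1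
    exact Nat.le_of_mul_le_mul_left this hppos
  have hF₁ea : Cfsg.IsElementaryAbelian p F₁ := Cfsg.Agent.Lib.Helper5.elemAb_of_le inf_le_left hE
  have hF₁U : ∀ a ∈ F₁, ∀ b ∈ U, a * b = b * a := by
    intro a ha b hb
    have := ha.2
    have h2 : a ∈ Subgroup.centralizer (U : Set P) := this
    rw [Subgroup.mem_centralizer_iff] at h2
    exact (h2 b hb).symm
  have hWea := rc_ea_sup hF₁ea hU hF₁U
  have hWle : F₁ ⊔ U ≤ Subgroup.centralizer (U : Set P) :=
    sup_le inf_le_right (rc_le_centralizer_self hU)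
  by_cases hW : p ^ 2 < Nat.card (F₁ ⊔ U : Subgroup P)
  · exact rc_not_rankLE_of U _ hWea hWle hW
  · push Not at hW
    have hUW : U = F₁ ⊔ U := Subgroup.eq_of_le_of_card_ge le_sup_right (by rw [hUc]; exact hW)
    have hF₁W : F₁ = F₁ ⊔ U := Subgroup.eq_of_le_of_card_ge le_sup_left (hW.trans hF₁c)
    have hUE : U ≤ E := by
      rw [hUW, ← hF₁W]
      exact inf_le_left
    have hEU : E ≤ Subgroup.centralizer (U : Set P) :=
      (rc_le_centralizer_self hE).trans (Subgroup.centralizer_le hUE)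
    apply rc_not_rankLE_of U E hE hEU
    rw [hEc]
    exact Nat.pow_lt_pow_right hp1 (by norm_num)

theorem rc_main [Finite P] (p : ℕ) [hp : Fact p.Prime] (hP : IsPGroup p P)
    (hrk : ¬ Cfsg.PRankLE p 2 P) :
    ∃ U : Subgroup P, U.Normal ∧ Cfsg.IsElementaryAbelian p U ∧ Nat.card ↥U = p ^ 2 ∧
      ∀ X : Subgroup P, Cfsg.IsElementaryAbelian p X → p ^ 2 ≤ Nat.card ↥X →
      (Relation.ReflTransGen (fun A B : Subgroup P => Cfsg.IsElementaryAbelian p A ∧
        p ^ 2 ≤ Nat.card ↥A ∧ Cfsg.IsElementaryAbelian p B ∧ p ^ 2 ≤ Nat.card ↥B ∧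
        ∀ a ∈ A, ∀ b ∈ B, a * b = b * a) X U ↔
        ¬ Cfsg.PRankLE p 2 ↥(Subgroup.centralizer (X : Set P))) := by
  have hp1 := hp.out.one_lt
  have hppos := hp.out.pos
  have hrk' := hrk
  unfold Cfsg.PRankLE at hrk'
  push Not at hrk'
  obtain ⟨A, hAc, hAp, hAcard⟩ := hrk'
  have hAea : Cfsg.IsElementaryAbelian p A := ⟨hAc, hAp⟩
  have hA3 : p ^ 3 ≤ Nat.card A := rc_card_ge_cube hP A hAcard
  obtain ⟨E, hEA, hEc⟩ := Sylow.exists_subgroup_le_card_pow_prime_of_le_card hp.out hP hA3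
  have hE : Cfsg.IsElementaryAbelian p E := Cfsg.Agent.Lib.Helper5.elemAb_of_le hEA hAea
  obtain ⟨U, hUn, hU, hUc⟩ := rc_exists_U p hP E hE hEc
  haveI := hUn
  refine ⟨U, hUn, hU, hUc, ?_⟩
  intro X hX hXc
  constructor
  · intro hchain hrank
    -- everything adjacent to `X` equals `X`
    have hall : ∀ Y : Subgroup P, Relation.ReflTransGen (fun A B : Subgroup P =>
        Cfsg.IsElementaryAbelian p A ∧
        p ^ 2 ≤ Nat.card ↥A ∧ Cfsg.IsElementaryAbelian p B ∧ p ^ 2 ≤ Nat.card ↥B ∧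
        ∀ a ∈ A, ∀ b ∈ B, a * b = b * a) X Y → Y = X := by
      intro Y hY
      induction hY with
      | refl => rfl
      | @tail b c _ hbc ih =>
        rw [ih] at hbc
        obtain ⟨-, -, hcea, hcc, hcomm⟩ := hbc
        have hWea := rc_ea_sup hX hcea hcomm
        have hcle : c ≤ Subgroup.centralizer (X : Set P) := by
          intro x hx
          rw [Subgroup.mem_centralizer_iff]
          intro y hy
          exact hcomm y hy x hx
        have hWle : X ⊔ c ≤ Subgroup.centralizer (X : Set P) :=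
          sup_le (rc_le_centralizer_self hX) hcle
        have hW : Nat.card (X ⊔ c : Subgroup P) ≤ p ^ 2 := by
          by_contra hcon
          push Not at hcon
          exact rc_not_rankLE_of X _ hWea hWle hcon hrank
        have hbW : X = X ⊔ c := Subgroup.eq_of_le_of_card_ge le_sup_left (hW.trans hXc)
        have hcb : c ≤ X := by rw [hbW]; exact le_sup_right
        have hbc2 : Nat.card X ≤ p ^ 2 := by
          have : Nat.card X = Nat.card (X ⊔ c : Subgroup P) := by rw [← hbW]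
          rw [this]; exact hW
        exact Subgroup.eq_of_le_of_card_ge hcb (hbc2.trans hcc)
    have hUX : U = X := hall U hchain
    subst hUX
    exact rc_centralizer_U hP U hU hUc E hE hEc hrank
  · intro hrank
    obtain ⟨F, hFea, hFX, hFc⟩ := rc_exists_of_not_rankLE X hrank
    have hF3 : p ^ 3 ≤ Nat.card F := rc_card_ge_cube hP F hFc
    have h1 := rc_card_le hP U hU hUc F
    set F₁ : Subgroup P := F ⊓ Subgroup.centralizer (U : Set P) with hF₁
    have hF₁c : p ^ 2 ≤ Nat.card F₁ := by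
      have : p * p ^ 2 ≤ p * Nat.card F₁ := by
        calc p * p ^ 2 = p ^ 3 := by ring
          _ ≤ Nat.card F := hF3
          _ ≤ p * Nat.card F₁ := h1
      exact Nat.le_of_mul_le_mul_left this hppos
    have hF₁ea : Cfsg.IsElementaryAbelian p F₁ :=
      Cfsg.Agent.Lib.Helper5.elemAb_of_le inf_le_left hFea
    have hFc2 : p ^ 2 ≤ Nat.card F := hFc.le
    have hFcomm := (Cfsg.Agent.Lib.Helper1.isMulCommutative_subgroup_iff F).mp hFea.1
    refine Relation.ReflTransGen.head ⟨hX, hXc, hFea, hFc2, ?_⟩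
      (Relation.ReflTransGen.head ⟨hFea, hFc2, hF₁ea, hF₁c, ?_⟩
        (Relation.ReflTransGen.single ⟨hF₁ea, hF₁c, hU, hUc.ge, ?_⟩))
    · intro a ha b hb
      have := hFX hb
      rw [Subgroup.mem_centralizer_iff] at this
      exact this a ha
    · intro a ha b hb
      exact hFcomm a ha b hb.1
    · intro a ha b hb
      have h2 : a ∈ Subgroup.centralizer (U : Set P) := ha.2
      rw [Subgroup.mem_centralizer_iff] at h2
      exact (h2 b hb).symm

end RankComp3

end Cfsg.Agent.Lib.Helper9
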