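import Mathlib
import Cfsg.Prelude.Def_Local
import Cfsg.Agent.Lib.Helper9.ZJ9
import Cfsg.Agent.Lib.Helper9.ZJ6

set_option autoImplicit false

namespace Cfsg.Agent.Lib.Helper9

open scoped Pointwise commutatorElement

section ZJ10

variable {G : Type*} [Group G]

/-- transfer of `zfam` (commutative family) between a subgroup `H` and the ambient group. -/
theorem zfam_comm_map_subtype [Finite G] (H : Subgroup G) (R' : Subgroup ↥H) :
    zfam (fun A : Subgroup G => IsMulCommutative A) (R'.map H.subtype) =
      (zfam (fun A : Subgroup ↥H => IsMulCommutative A) R').map H.subtype := by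
  have hDH : R'.map H.subtype ≤ H := Subgroup.map_subtype_le R'
  have hsub : (R'.map H.subtype).subgroupOf H = R' :=
    Subgroup.comap_map_eq_self_of_injective H.subtype_injective R'
  have hiff := famQ_subtype_iff H (R'.map H.subtype) hDH (fun A : Subgroup G => IsMulCommutative A)
    (fun A : Subgroup ↥H => IsMulCommutative A) (isMulCommutative_map_subtype_iff H)
  rw [hsub] at hiff
  have himg : famQ (fun A : Subgroup G => IsMulCommutative A) (R'.map H.subtype) =
      (fun A' : Subgroup ↥H => A'.map H.subtype) ''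
        (famQ (fun A : Subgroup ↥H => IsMulCommutative A) R') := by
    ext A
    constructor
    · intro hA
      have hAH : A ≤ H := hA.1.trans hDH
      refine ⟨A.subgroupOf H, ?_, Subgroup.map_subgroupOf_eq_of_le hAH⟩
      rw [hiff, Subgroup.map_subgroupOf_eq_of_le hAH]; exact hA
    · rintro ⟨A', hA', rfl⟩
      exact (hiff A').mp hA'
  unfold zfam
  rw [himg, map_sInf_subtype H _ (famQ_nonempty _ isMulCommutative_bot' R')]

theorem local_zj [Finite G] {p : ℕ} [Fact p.Prime] (hp : p ≠ 2) (Q : Subgroup G)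
    (hlocQ : Cfsg.pPrimeCore p ↥(Subgroup.normalizer (Q : Set G)) = ⊥ ∧
      Cfsg.IsPConstrained p ↥(Subgroup.normalizer (Q : Set G)) ∧
      Cfsg.IsPStable p ↥(Subgroup.normalizer (Q : Set G)))
    (R' : Sylow p ↥(Subgroup.normalizer (Q : Set G))) :
    Subgroup.normalizer (Q : Set G) ≤ Subgroup.normalizer
      (zfam (fun A : Subgroup G => IsMulCommutative A)
        ((R' : Subgroup ↥(Subgroup.normalizer (Q : Set G))).map
          (Subgroup.normalizer (Q : Set G)).subtype) : Set G) := by
  obtain ⟨h0, hcon, hs⟩ := hlocQ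
  have hc' : Subgroup.centralizer (Cfsg.pCore p ↥(Subgroup.normalizer (Q : Set G)) :
      Set ↥(Subgroup.normalizer (Q : Set G))) ≤ Cfsg.pCore p ↥(Subgroup.normalizer (Q : Set G)) := by
    have h1 := (Helper5.h5_isPConstrained_iff_of_isPGroup (Helper5.h5_pPrimePCore_isPGroup h0)).mp hcon
    rw [Helper5.h5_pPrimePCore_eq_pCore h0] at h1
    exact h1
  have hst' := hst_of_isPStable hs h0 R'
  have hnorm := zfam_normal _ R' (zjhyp_comm hp R') hc' hst'
  rw [zfam_comm_map_subtype]
  intro h hh
  apply Helper5.h5g_mem_normalizer_of_conj_le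
  intro y hy
  obtain ⟨z, hz, rfl⟩ := Subgroup.mem_map.mp hy
  have h1 := hnorm.conj_mem z hz ⟨h, hh⟩
  exact Subgroup.mem_map.mpr ⟨_, h1, by simp⟩

end ZJ10

end Cfsg.Agent.Lib.Helper9
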