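import Mathlib
import Cfsg.Prelude.Def_Local
import Cfsg.Agent.Lib.Helper9.ZJ10
import Cfsg.Agent.Lib.Helper5.Glauberman2

set_option autoImplicit false

namespace Cfsg.Agent.Lib.Helper9

open scoped Pointwise commutatorElement

section ZJ11

variable {G : Type*} [Group G]

theorem qc_aut (φ : G ≃* G) (A : Subgroup G) (hA : IsMulCommutative A) :
    IsMulCommutative (A.map φ.toMonoidHom) := inferInstance

theorem mem_famQ_comm_of_centralizes [Finite G] {S A : Subgroup G}
    (hA : A ∈ famQ (fun A : Subgroup G => IsMulCommutative A) S) {x : G} (hxS : x ∈ S)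
    (hx : ∀ a ∈ A, a * x = x * a) : x ∈ A := by
  have hAc := hA.2.1
  have hcomm : ∀ a ∈ ((A : Set G) ∪ {x}), ∀ b ∈ ((A : Set G) ∪ {x}), a * b = b * a := by
    intro a ha b hb
    rcases ha with ha | ha <;> rcases hb with hb | hb
    · exact setLike_mul_comm ha hb
    · rw [Set.mem_singleton_iff] at hb; subst hb
      exact hx a ha
    · rw [Set.mem_singleton_iff] at ha; subst ha
      exact (hx b hb).symm
    · rw [Set.mem_singleton_iff] at ha hb; subst ha; subst hb; rfl
  have hc : IsMulCommutative (Subgroup.closure ((A : Set G) ∪ {x})) :=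
    Subgroup.isMulCommutative_closure hcomm
  have hleS : Subgroup.closure ((A : Set G) ∪ {x}) ≤ S := by
    rw [Subgroup.closure_le]
    rintro y (hy | hy)
    · exact hA.1 hy
    · rw [Set.mem_singleton_iff] at hy; subst hy; exact hxS
  have hcard := hA.2.2 _ hleS hc
  have hAle : A ≤ Subgroup.closure ((A : Set G) ∪ {x}) := by
    intro a ha; exact Subgroup.subset_closure (Or.inl ha)
  have heq := Subgroup.eq_of_le_of_card_ge hAle hcard
  rw [heq]
  exact Subgroup.subset_closure (Or.inr rfl)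

theorem zfam_comm_le [Finite G] (R : Subgroup G) :
    zfam (fun A : Subgroup G => IsMulCommutative A) R ≤ R := by
  obtain ⟨A₀, hA₀⟩ := famQ_nonempty (fun A : Subgroup G => IsMulCommutative A)
    isMulCommutative_bot' R
  exact (zfam_le_of_mem _ hA₀).trans hA₀.1

theorem zfam_comm_ne_bot [Finite G] {p : ℕ} [Fact p.Prime] (R : Subgroup G) (hR : IsPGroup p R)
    (hR1 : R ≠ ⊥) : zfam (fun A : Subgroup G => IsMulCommutative A) R ≠ ⊥ := by
  have hnt : Nontrivial R := (Subgroup.nontrivial_iff_ne_bot R).mpr hR1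
  have hcn : Nontrivial (Subgroup.center R) := hR.center_nontrivial
  obtain ⟨z, hz⟩ := exists_ne (1 : Subgroup.center R)
  have hz1 : ((z : R) : G) ≠ 1 := by
    intro h
    apply hz
    apply Subtype.ext
    apply Subtype.ext
    simpa using h
  have hzc : ∀ r ∈ R, r * ((z : R) : G) = ((z : R) : G) * r := by
    intro r hr
    have h1 := Subgroup.mem_center_iff.mp z.2 ⟨r, hr⟩
    have h2 := congrArg Subtype.val h1
    simpa using h2
  have hmem : ((z : R) : G) ∈ zfam (fun A : Subgroup G => IsMulCommutative A) R := by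
    unfold zfam
    rw [Subgroup.mem_sInf]
    intro A hA
    exact mem_famQ_comm_of_centralizes hA (z : R).2 (fun a ha => hzc a (hA.1 ha))
  intro hbot
  rw [hbot, Subgroup.mem_bot] at hmem
  exact hz1 hmem

theorem exists_sylow_map_ge [Finite G] {p : ℕ} [Fact p.Prime] (K U : Subgroup G)
    (hU : IsPGroup p U) (hUK : U ≤ K) :
    ∃ R' : Sylow p ↥K, U ≤ (R' : Subgroup ↥K).map K.subtype := by
  have h1 : IsPGroup p (U.subgroupOf K) := hU.comap_subtype
  obtain ⟨R', hR'⟩ := h1.exists_le_sylow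
  refine ⟨R', ?_⟩
  have h2 := Subgroup.map_mono (f := K.subtype) hR'
  rwa [Subgroup.map_subgroupOf_eq_of_le hUK] at h2

theorem lt_inf_normalizer [Finite G] {p : ℕ} [Fact p.Prime] {T D : Subgroup G}
    (hT : IsPGroup p T) (hDT : D < T) : D < T ⊓ Subgroup.normalizer (D : Set G) := by
  refine lt_of_le_of_ne (le_inf hDT.le Subgroup.le_normalizer) ?_
  intro heq
  have hnot : ¬ (⊤ : Subgroup ↥T) ≤ D.subgroupOf T := by
    intro hle
    apply (ne_of_lt hDT)
    apply le_antisymm hDT.le
    intro t ht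
    have := hle (Subgroup.mem_top (⟨t, ht⟩ : ↥T))
    rwa [Subgroup.mem_subgroupOf] at this
  obtain ⟨b, -, hbN, hbD⟩ := Helper5.h5g_exists_normalizing hT (D.subgroupOf T) ⊤ hnot
  have hbG : (b : G) ∈ Subgroup.normalizer (D : Set G) := by
    apply Helper5.h5g_mem_normalizer_of_conj_le
    intro y hy
    have hyT : y ∈ T := hDT.le hy
    have h1 : (⟨y, hyT⟩ : ↥T) ∈ D.subgroupOf T := by rw [Subgroup.mem_subgroupOf]; exact hy
    have h2 := (Subgroup.mem_normalizer_iff.mp hbN ⟨y, hyT⟩).mp h1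
    rw [Subgroup.mem_subgroupOf] at h2
    simpa using h2
  have h3 : (b : G) ∈ T ⊓ Subgroup.normalizer (D : Set G) := Subgroup.mem_inf.mpr ⟨b.2, hbG⟩
  rw [← heq] at h3
  apply hbD
  rw [Subgroup.mem_subgroupOf]; exact h3

end ZJ11

end Cfsg.Agent.Lib.Helper9
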