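import Mathlib
import Cfsg.Agent.Lib.Helper9.ZJ11

set_option autoImplicit false

namespace Cfsg.Agent.Lib.Helper9

open scoped Pointwise commutatorElement

section ZJ14

variable {G : Type*} [Group G] {H : Type*} [Group H]

theorem card_map_of_injOn (f : G →* H) {S A : Subgroup G} (hinj : Set.InjOn f (S : Set G))
    (hA : A ≤ S) : Nat.card (A.map f) = Nat.card A := by
  have hinjA : Function.Injective (f.comp A.subtype) := by
    intro a b hab
    apply Subtype.ext
    exact hinj (hA a.2) (hA b.2) hab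
  have h1 : A.map f = (f.comp A.subtype).range := by
    rw [MonoidHom.range_eq_map, ← Subgroup.map_map]
    congr 1
    rw [← MonoidHom.range_eq_map, Subgroup.range_subtype]
  rw [h1]
  exact (Nat.card_congr (MonoidHom.ofInjective hinjA).toEquiv).symm

theorem comm_of_map_comm_of_injOn (f : G →* H) {S A : Subgroup G}
    (hinj : Set.InjOn f (S : Set G)) (hA : A ≤ S) (hc : IsMulCommutative (A.map f)) :
    IsMulCommutative A := by
  refine ⟨⟨fun a b => ?_⟩⟩
  apply Subtype.ext
  apply hinj (hA (A.mul_mem a.2 b.2)) (hA (A.mul_mem b.2 a.2))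
  have h1 : f a.1 ∈ A.map f := Subgroup.mem_map.mpr ⟨a.1, a.2, rfl⟩
  have h2 : f b.1 ∈ A.map f := Subgroup.mem_map.mpr ⟨b.1, b.2, rfl⟩
  have := setLike_mul_comm h1 h2
  simpa using this

theorem map_comap_inf_of_le_map (f : G →* H) {S : Subgroup G} {B : Subgroup H}
    (hB : B ≤ S.map f) : (B.comap f ⊓ S).map f = B := by
  apply le_antisymm
  · rintro _ ⟨x, hx, rfl⟩
    exact (Subgroup.mem_inf.mp hx).1
  · intro b hb
    obtain ⟨x, hx, rfl⟩ := Subgroup.mem_map.mp (hB hb)
    exact Subgroup.mem_map.mpr ⟨x, Subgroup.mem_inf.mpr ⟨hb, hx⟩, rfl⟩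

theorem famQ_comm_map_of_injOn [Finite G] [Finite H] (f : G →* H) (S : Subgroup G)
    (hinj : Set.InjOn f (S : Set G)) :
    famQ (fun A : Subgroup H => IsMulCommutative A) (S.map f) =
      (fun A : Subgroup G => A.map f) '' famQ (fun A : Subgroup G => IsMulCommutative A) S := by
  ext B
  constructor
  · intro hB
    refine ⟨B.comap f ⊓ S, ⟨inf_le_right, ?_, ?_⟩, map_comap_inf_of_le_map f hB.1⟩
    · apply comm_of_map_comm_of_injOn f hinj inf_le_right
      rw [map_comap_inf_of_le_map f hB.1]; exact hB.2.1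
    · intro V hV hVc
      have h1 := hB.2.2 (V.map f) (Subgroup.map_mono hV) inferInstance
      rw [card_map_of_injOn f hinj hV] at h1
      have h2 := card_map_of_injOn f hinj (inf_le_right : B.comap f ⊓ S ≤ S)
      rw [map_comap_inf_of_le_map f hB.1] at h2
      omega
  · rintro ⟨A, hA, rfl⟩
    have hAc := hA.2.1
    refine ⟨Subgroup.map_mono hA.1, inferInstance, ?_⟩
    intro V hV hVc
    have h0 := map_comap_inf_of_le_map f hV
    have h1 := hA.2.2 (V.comap f ⊓ S) inf_le_right
      (comm_of_map_comm_of_injOn f hinj inf_le_right (by rw [h0]; exact hVc))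
    have h2 := card_map_of_injOn f hinj (inf_le_right : V.comap f ⊓ S ≤ S)
    rw [h0] at h2
    rw [card_map_of_injOn f hinj hA.1]
    omega

theorem zfam_comm_map_of_injOn [Finite G] [Finite H] (f : G →* H) (S : Subgroup G)
    (hinj : Set.InjOn f (S : Set G)) :
    zfam (fun A : Subgroup H => IsMulCommutative A) (S.map f) =
      (zfam (fun A : Subgroup G => IsMulCommutative A) S).map f := by
  unfold zfam
  rw [famQ_comm_map_of_injOn f S hinj]
  obtain ⟨A₀, hA₀⟩ := famQ_nonempty (fun A : Subgroup G => IsMulCommutative A)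
    isMulCommutative_bot' S
  ext x
  rw [Subgroup.mem_sInf]
  constructor
  · intro hx
    obtain ⟨z, hz, rfl⟩ := Subgroup.mem_map.mp (hx _ ⟨A₀, hA₀, rfl⟩)
    refine Subgroup.mem_map.mpr ⟨z, ?_, rfl⟩
    rw [Subgroup.mem_sInf]
    intro A hA
    obtain ⟨z', hz', hzz⟩ := Subgroup.mem_map.mp (hx _ ⟨A, hA, rfl⟩)
    have : z' = z := hinj (hA.1 hz') (hA₀.1 hz) hzz
    rw [← this]; exact hz'
  · intro hx
    obtain ⟨z, hz, rfl⟩ := Subgroup.mem_map.mp hx
    rw [Subgroup.mem_sInf] at hz
    rintro _ ⟨A, hA, rfl⟩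
    exact Subgroup.mem_map.mpr ⟨z, hz A hA, rfl⟩

end ZJ14

end Cfsg.Agent.Lib.Helper9
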