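import Mathlib
import Cfsg.Prelude.Def_TwoFusion

set_option autoImplicit false

namespace Cfsg.Agent.Lib.Helper9

section
variable {G : Type*} [Group G]

theorem inv_eq_self_of_orderOf_two {z : G} (hz : orderOf z = 2) : z⁻¹ = z := by
  have h : z ^ 2 = 1 := by rw [← hz]; exact pow_orderOf_eq_one z
  rw [inv_eq_iff_mul_eq_one, ← sq, h]

theorem mul_self_of_orderOf_two {z : G} (hz : orderOf z = 2) : z * z = 1 := by
  have h : z ^ 2 = 1 := by rw [← hz]; exact pow_orderOf_eq_one z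
  rw [← sq, h]

theorem ne_one_of_orderOf_two {z : G} (hz : orderOf z = 2) : z ≠ 1 := by
  rintro rfl; simp at hz

theorem conj_orderOf_two {z : G} (hz : orderOf z = 2) (g : G) : orderOf (g * z * g⁻¹) = 2 := by
  have := MulEquiv.orderOf_eq (MulAut.conj g) z
  rw [MulAut.conj_apply] at this
  rw [this, hz]

theorem inv_conj_eq {z : G} (hz : orderOf z = 2) (g : G) : (g * z * g⁻¹)⁻¹ = g * z * g⁻¹ :=
  inv_eq_self_of_orderOf_two (conj_orderOf_two hz g)

/-- `z` inverts `z * w` when both are involutions. -/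
theorem conj_mul_invol {z w : G} (hz : z⁻¹ = z) (hw : w⁻¹ = w) :
    z * (z * w) * z⁻¹ = (z * w)⁻¹ := by
  rw [mul_inv_rev, hz, hw]
  have : z * z = 1 := by
    nth_rewrite 1 [← hz]; exact inv_mul_cancel z
  rw [← mul_assoc, this, one_mul]

theorem conj_zpow_invol {z r : G} (h : z * r * z⁻¹ = r⁻¹) (k : ℤ) :
    z * r ^ k * z⁻¹ = r ^ (-k) := by
  have := conj_zpow (a := z) (b := r) (i := k)
  rw [← this, h, inv_zpow, zpow_neg]

theorem zpow_mul_invol {z r : G} (h : z * r * z⁻¹ = r⁻¹) (k : ℤ) :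
    z * r ^ k = r ^ (-k) * z := by
  have := conj_zpow_invol h k
  rw [← this]; group

/-- The subgroup of elements centralizing or inverting `x`. -/
def centOrInv (x : G) : Subgroup G where
  carrier := {y | y * x * y⁻¹ = x ∨ y * x * y⁻¹ = x⁻¹}
  one_mem' := by left; simp
  mul_mem' := by
    intro a b ha hb
    have e : a * b * x * (a * b)⁻¹ = a * (b * x * b⁻¹) * a⁻¹ := by group
    have e2 : a * x⁻¹ * a⁻¹ = (a * x * a⁻¹)⁻¹ := by group
    simp only [Set.mem_ofPred_eq] at ha hb ⊢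
    rcases hb with hb | hb <;> rcases ha with ha | ha
    · left; rw [e, hb, ha]
    · right; rw [e, hb, ha]
    · right; rw [e, hb, e2, ha]
    · left; rw [e, hb, e2, ha, inv_inv]
  inv_mem' := by
    intro a ha
    simp only [Set.mem_ofPred_eq] at ha ⊢
    rcases ha with ha | ha
    · left
      calc a⁻¹ * x * a⁻¹⁻¹ = a⁻¹ * (a * x * a⁻¹) * a := by rw [ha, inv_inv]
        _ = x := by group
    · right
      calc a⁻¹ * x * a⁻¹⁻¹ = (a⁻¹ * (a * x * a⁻¹) * a)⁻¹ := by rw [ha, inv_inv]; group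
        _ = x⁻¹ := by group

theorem mem_centOrInv {x y : G} :
    y ∈ centOrInv x ↔ (y * x * y⁻¹ = x ∨ y * x * y⁻¹ = x⁻¹) := Iff.rfl

end

section
variable {G : Type*} [Group G] [Finite G]

/-- Key lemma: the product of an isolated involution with any conjugate has odd order. -/
theorem isolated_mul_conj_odd {z : G} (hz : Cfsg.IsIsolatedInvolution z) (g : G) :
    Odd (orderOf (z * (g * z * g⁻¹))) := by
  obtain ⟨hz2, hiso⟩ := hz
  set w := g * z * g⁻¹ with hw
  have hzi : z⁻¹ = z := inv_eq_self_of_orderOf_two hz2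
  have hwi : w⁻¹ = w := inv_conj_eq hz2 g
  set r := z * w with hr
  have hinv : z * r * z⁻¹ = r⁻¹ := conj_mul_invol hzi hwi
  have hwr : w = z * r := by
    rw [hr, ← mul_assoc]
    have : z * z = 1 := mul_self_of_orderOf_two hz2
    rw [this, one_mul]
  by_contra hodd
  rw [Nat.not_odd_iff_even] at hodd
  obtain ⟨m, hm⟩ := hodd
  have hn0 : 0 < orderOf r := orderOf_pos r
  have hm0 : 0 < m := by omega
  set u := r ^ (m : ℤ) with hu
  have hu1 : u ≠ 1 := by
    intro h1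
    rw [hu, zpow_natCast] at h1
    have := orderOf_dvd_of_pow_eq_one h1
    have := Nat.le_of_dvd hm0 this
    omega
  have hu2 : r ^ ((m : ℤ) + m) = 1 := by
    have : ((m : ℤ) + m) = ((orderOf r : ℕ) : ℤ) := by rw [hm]; push_cast; ring
    rw [this, zpow_natCast, pow_orderOf_eq_one]
  have huinv : r ^ (-(m : ℤ)) = u := by
    have : r ^ (-(m : ℤ)) = r ^ ((m : ℤ) + m) * r ^ (-(m : ℤ)) := by rw [hu2, one_mul]
    rw [this, ← zpow_add]; rw [hu]; congr 1; ring
  have hzu : z * u = u * z := by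
    rw [hu, zpow_mul_invol hinv, huinv]
  have hcomm : Commute z (u * z) := by
    unfold Commute SemiconjBy
    rw [← mul_assoc, hzu]
  have hne : u * z ≠ z := by
    intro h; apply hu1
    have := mul_right_cancel (h.trans (one_mul z).symm)
    exact this
  rcases Nat.even_or_odd' m with ⟨j, hj | hj⟩
  · -- m = 2j: u z = r^j z r^-j
    have h1 : u * z = (r ^ (j : ℤ)) * z * (r ^ (j : ℤ))⁻¹ := by
      have : z * (r ^ (j : ℤ))⁻¹ = r ^ (j : ℤ) * z := by
        rw [← zpow_neg, zpow_mul_invol hinv, neg_neg]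
      rw [mul_assoc, this, ← mul_assoc, ← zpow_add, hu]
      congr 2; rw [hj]; push_cast; ring
    rw [h1] at hcomm hne
    exact hne (hiso _ hcomm)
  · -- m = 2j+1: u z = r^(j+1) w r^-(j+1)
    have h1 : u * z = (r ^ ((j : ℤ) + 1) * g) * z * (r ^ ((j : ℤ) + 1) * g)⁻¹ := by
      have e1 : (r ^ ((j : ℤ) + 1) * g) * z * (r ^ ((j : ℤ) + 1) * g)⁻¹
          = r ^ ((j : ℤ) + 1) * w * (r ^ ((j : ℤ) + 1))⁻¹ := by rw [hw]; group
      rw [e1, hwr]
      have : z * (r * (r ^ ((j : ℤ) + 1))⁻¹) = r ^ (j : ℤ) * z := by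
        have e2 : r * (r ^ ((j : ℤ) + 1))⁻¹ = r ^ (-(j : ℤ)) := by
          rw [← zpow_neg]
          conv_lhs => rw [← zpow_one r]
          rw [zpow_one r]
          nth_rewrite 1 [← zpow_one r]
          rw [← zpow_add]; congr 1; ring
        rw [e2, zpow_mul_invol hinv, neg_neg]
      rw [mul_assoc, mul_assoc, this, ← mul_assoc, ← zpow_add, hu]
      congr 2; rw [hj]; push_cast; ring
    rw [h1] at hcomm hne
    exact hne (hiso _ hcomm)

/-- For an isolated involution `z` and a conjugate `w`, a power of `z * w` conjugates `z` to `w`. -/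
theorem isolated_conj_by_zpow {z : G} (hz : Cfsg.IsIsolatedInvolution z) (g : G) :
    ∃ k : ℤ, (z * (g * z * g⁻¹)) ^ k * z * ((z * (g * z * g⁻¹)) ^ k)⁻¹ = g * z * g⁻¹ := by
  have hodd := isolated_mul_conj_odd hz g
  obtain ⟨hz2, hiso⟩ := hz
  set w := g * z * g⁻¹ with hw
  have hzi : z⁻¹ = z := inv_eq_self_of_orderOf_two hz2
  have hwi : w⁻¹ = w := inv_conj_eq hz2 g
  set r := z * w with hr
  have hinv : z * r * z⁻¹ = r⁻¹ := conj_mul_invol hzi hwi
  have hwr : w = z * r := by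
    rw [hr, ← mul_assoc]
    have : z * z = 1 := mul_self_of_orderOf_two hz2
    rw [this, one_mul]
  obtain ⟨j, hj⟩ := hodd
  refine ⟨j, ?_⟩
  have h1 : z * (r ^ (j : ℤ))⁻¹ = r ^ (j : ℤ) * z := by
    rw [← zpow_neg, zpow_mul_invol hinv, neg_neg]
  have h2 : r ^ ((j : ℤ) + j + 1) = 1 := by
    have : ((j : ℤ) + j + 1) = ((orderOf r : ℕ) : ℤ) := by rw [hj]; push_cast; ring
    rw [this, zpow_natCast, pow_orderOf_eq_one]
  have h3 : r ^ ((j : ℤ) + j) = r⁻¹ := by
    have : r ^ ((j : ℤ) + j) = r ^ ((j : ℤ) + j + 1) * r⁻¹ := by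
      rw [zpow_add_one]; group
    rw [this, h2, one_mul]
  rw [mul_assoc, h1, ← mul_assoc, ← zpow_add, h3, hwr]
  have := zpow_mul_invol hinv 1
  rw [zpow_one, zpow_neg, zpow_one] at this
  exact this.symm

omit [Finite G] in
theorem isolated_conj {z : G} (hz : Cfsg.IsIsolatedInvolution z) (a : G) :
    Cfsg.IsIsolatedInvolution (a * z * a⁻¹) := by
  refine ⟨conj_orderOf_two hz.1 a, ?_⟩
  intro g hg
  have h1 : Commute z ((a⁻¹ * g * a) * z * (a⁻¹ * g * a)⁻¹) := by
    have := hg.eq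
    unfold Commute SemiconjBy
    have e1 : z * ((a⁻¹ * g * a) * z * (a⁻¹ * g * a)⁻¹)
        = a⁻¹ * ((a * z * a⁻¹) * (g * (a * z * a⁻¹) * g⁻¹)) * a := by group
    have e2 : ((a⁻¹ * g * a) * z * (a⁻¹ * g * a)⁻¹) * z
        = a⁻¹ * ((g * (a * z * a⁻¹) * g⁻¹) * (a * z * a⁻¹)) * a := by group
    rw [e1, e2, this]
  have h2 := hz.2 _ h1
  calc g * (a * z * a⁻¹) * g⁻¹ = a * ((a⁻¹ * g * a) * z * (a⁻¹ * g * a)⁻¹) * a⁻¹ := by group
    _ = a * z * a⁻¹ := by rw [h2]

omit [Finite G] in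
/-- Odd-order elements with equal squares are equal. -/
theorem eq_of_sq_eq_of_odd {k k' : G} (hk : Odd (orderOf k)) (hk' : Odd (orderOf k'))
    (h : k * k = k' * k') : k = k' := by
  obtain ⟨a, ha⟩ := hk
  obtain ⟨b, hb⟩ := hk'
  have h1 : k ^ ((2 * a + 1) * (2 * b + 1)) = 1 := by
    rw [pow_mul, ← ha, pow_orderOf_eq_one, one_pow]
  have h2 : k' ^ ((2 * a + 1) * (2 * b + 1)) = 1 := by
    rw [mul_comm, pow_mul, ← hb, pow_orderOf_eq_one, one_pow]
  have e : (2 * a + 1) * (2 * b + 1) + 1 = 2 * (2 * a * b + a + b + 1) := by ring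
  have h3 : k = (k * k) ^ (2 * a * b + a + b + 1) := by
    rw [← sq, ← pow_mul, ← e, pow_succ, h1, one_mul]
  have h4 : k' = (k' * k') ^ (2 * a * b + a + b + 1) := by
    rw [← sq, ← pow_mul, ← e, pow_succ, h2, one_mul]
  rw [h3, h4, h]

end

end Cfsg.Agent.Lib.Helper9
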