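import Mathlib
import Cfsg.Agent.Lib.Helper9.Isolated

set_option autoImplicit false

namespace Cfsg.Agent.Lib.Helper9

section
variable {G : Type*} [Group G]

/-- In the dihedral group generated by involutions `z`, `w` with `z * w` of even order `2m > 0`,
the element `u = (z*w)^m` is a central involution and `u * z` is conjugate to `z` or to `w`. -/
theorem dihedral_even_central {z w : G} (hz2 : orderOf z = 2) (hw2 : orderOf w = 2) {m : ℕ}
    (hm0 : 0 < m) (hm : orderOf (z * w) = m + m) :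
    (z * w) ^ m ≠ 1 ∧ (z * w) ^ m * (z * w) ^ m = 1 ∧ z * (z * w) ^ m = (z * w) ^ m * z ∧
      w * (z * w) ^ m = (z * w) ^ m * w ∧
      ∃ a : G, a * z * a⁻¹ = (z * w) ^ m * z ∨ a * w * a⁻¹ = (z * w) ^ m * z := by
  have hzi : z⁻¹ = z := inv_eq_self_of_orderOf_two hz2
  have hwi : w⁻¹ = w := inv_eq_self_of_orderOf_two hw2
  have hzz : z * z = 1 := mul_self_of_orderOf_two hz2
  have hww : w * w = 1 := mul_self_of_orderOf_two hw2
  set r := z * w with hr
  have hinv : z * r * z⁻¹ = r⁻¹ := conj_mul_invol hzi hwi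
  have hwr : w = z * r := by
    rw [hr, ← mul_assoc, hzz, one_mul]
  have hu1 : r ^ m ≠ 1 := by
    intro h1
    have := orderOf_dvd_of_pow_eq_one h1
    have := Nat.le_of_dvd hm0 this
    omega
  have hu2' : r ^ ((m : ℤ) + m) = 1 := by
    have : ((m : ℤ) + m) = ((orderOf r : ℕ) : ℤ) := by rw [hm]; push_cast; ring
    rw [this, zpow_natCast, pow_orderOf_eq_one]
  have hu2 : r ^ m * r ^ m = 1 := by
    rw [← pow_add, ← hm, pow_orderOf_eq_one]
  have huinv : r ^ (-(m : ℤ)) = r ^ (m : ℤ) := by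
    have : r ^ (-(m : ℤ)) = r ^ ((m : ℤ) + m) * r ^ (-(m : ℤ)) := by rw [hu2', one_mul]
    rw [this, ← zpow_add]; congr 1; ring
  have hzu : z * r ^ m = r ^ m * z := by
    rw [← zpow_natCast, zpow_mul_invol hinv, huinv]
  have hwu : w * r ^ m = r ^ m * w := by
    have e : r * r ^ m = r ^ m * r := by rw [← pow_succ', ← pow_succ]
    calc w * r ^ m = z * (r * r ^ m) := by rw [hwr]; group
      _ = (z * r ^ m) * r := by rw [e]; group
      _ = r ^ m * (z * r) := by rw [hzu]; group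
      _ = r ^ m * w := by rw [← hwr]
  refine ⟨hu1, hu2, hzu, hwu, ?_⟩
  rcases Nat.even_or_odd' m with ⟨j, hj | hj⟩
  · refine ⟨r ^ (j : ℤ), Or.inl ?_⟩
    have : z * (r ^ (j : ℤ))⁻¹ = r ^ (j : ℤ) * z := by
      rw [← zpow_neg, zpow_mul_invol hinv, neg_neg]
    rw [mul_assoc, this, ← mul_assoc, ← zpow_add, ← zpow_natCast]
    congr 2; rw [hj]; push_cast; ring
  · refine ⟨r ^ ((j : ℤ) + 1), Or.inr ?_⟩
    have e0 : r ^ ((j : ℤ) + 1) * w * (r ^ ((j : ℤ) + 1))⁻¹
        = r ^ ((j : ℤ) + 1) * (z * r) * (r ^ ((j : ℤ) + 1))⁻¹ := by rw [← hwr]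
    rw [e0]
    have : z * (r * (r ^ ((j : ℤ) + 1))⁻¹) = r ^ (j : ℤ) * z := by
      have e2 : r * (r ^ ((j : ℤ) + 1))⁻¹ = r ^ (-(j : ℤ)) := by
        rw [← zpow_neg]
        nth_rewrite 1 [← zpow_one r]
        rw [← zpow_add]; congr 1; ring
      rw [e2, zpow_mul_invol hinv, neg_neg]
    rw [mul_assoc, mul_assoc, this, ← mul_assoc, ← zpow_add, ← zpow_natCast]
    congr 2; rw [hj]; push_cast; ring

end

end Cfsg.Agent.Lib.Helper9

namespace Cfsg.Agent.Lib.Helper9

section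
variable {G : Type*} [Group G]

/-- Two involutions whose product has odd order are swapped by an involution. -/
theorem dihedral_odd_conj {z w : G} (hz2 : orderOf z = 2) (hw2 : orderOf w = 2) {l : ℕ}
    (hl : orderOf (z * w) = 2 * l + 1) :
    ∃ r : G, r * r = 1 ∧ r * z * r = w := by
  have hzi : z⁻¹ = z := inv_eq_self_of_orderOf_two hz2
  have hwi : w⁻¹ = w := inv_eq_self_of_orderOf_two hw2
  have hzz : z * z = 1 := mul_self_of_orderOf_two hz2
  set r := z * w with hr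
  have hinv : z * r * z⁻¹ = r⁻¹ := conj_mul_invol hzi hwi
  have hwr : w = z * r := by
    rw [hr, ← mul_assoc, hzz, one_mul]
  have hpow : r ^ ((l : ℤ) + 1 + ((l : ℤ) + 1)) = r := by
    have : ((l : ℤ) + 1 + ((l : ℤ) + 1)) = ((orderOf r : ℕ) : ℤ) + 1 := by rw [hl]; push_cast; ring
    rw [this, zpow_add_one, zpow_natCast, pow_orderOf_eq_one, one_mul]
  refine ⟨z * r ^ ((l : ℤ) + 1), ?_, ?_⟩
  · have h1 : z * r ^ ((l : ℤ) + 1) * (z * r ^ ((l : ℤ) + 1))
        = (z * r ^ ((l : ℤ) + 1)) * z * r ^ ((l : ℤ) + 1) := by group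
    rw [h1, zpow_mul_invol hinv, mul_assoc (r ^ (-((l : ℤ) + 1))), hzz, mul_one, ← zpow_add]
    simp
  · have h1 : z * r ^ ((l : ℤ) + 1) * z * (z * r ^ ((l : ℤ) + 1))
        = z * r ^ ((l : ℤ) + 1) * (z * z) * r ^ ((l : ℤ) + 1) := by group
    rw [h1, hzz, mul_one, mul_assoc, ← zpow_add, hpow, ← hwr]

/-- Two involutions whose product has even order are centralized by a common involution. -/
theorem dihedral_even_common {z w : G} [Finite G] (hz2 : orderOf z = 2) (hw2 : orderOf w = 2)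
    (he : Even (orderOf (z * w))) :
    ∃ u : G, orderOf u = 2 ∧ z * u = u * z ∧ w * u = u * w := by
  obtain ⟨m, hm⟩ := he
  have hpos : 0 < orderOf (z * w) := orderOf_pos _
  have hm0 : 0 < m := by omega
  obtain ⟨h1, h2, h3, h4, -⟩ := dihedral_even_central hz2 hw2 hm0 hm
  refine ⟨(z * w) ^ m, ?_, h3, h4⟩
  apply orderOf_eq_prime
  · rw [sq]; exact h2
  · exact h1

end

end Cfsg.Agent.Lib.Helper9
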