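import Mathlib
import Cfsg.Prelude.Def_Involutions
import Cfsg.Agent.Lib.Helper9.SylowConj
import Cfsg.Agent.Lib.Helper9.Dihedral

set_option autoImplicit false

namespace Cfsg.Agent.Lib.Helper9

open Subgroup

/-- A `p`-element normalizing a Sylow `p`-subgroup lies in it. -/
theorem mem_sylow_of_mem_normalizer {G : Type*} [Group G] {p : ℕ} [Fact p.Prime] (T : Sylow p G)
    (t : G) (ht : t ∈ Subgroup.normalizer ((T : Subgroup G) : Set G))
    (hp : IsPGroup p (Subgroup.zpowers t)) : t ∈ (T : Subgroup G) := by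
  have h1 : IsPGroup p (Subgroup.zpowers t ⊔ (T : Subgroup G) : Subgroup G) :=
    IsPGroup.to_sup_of_normal_right' hp T.2 (by rw [Subgroup.zpowers_le]; exact ht)
  have h2 := T.is_maximal' h1 le_sup_right
  have h3 : t ∈ Subgroup.zpowers t ⊔ (T : Subgroup G) :=
    (le_sup_left : Subgroup.zpowers t ≤ _) (Subgroup.mem_zpowers t)
  rw [h2] at h3
  exact h3

theorem isPGroup_zpowers_of_orderOf {G : Type*} [Group G] {p : ℕ} (t : G) (k : ℕ)
    (ht : orderOf t = p ^ k) : IsPGroup p (Subgroup.zpowers t) := by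
  intro x
  obtain ⟨y, hy⟩ := x
  obtain ⟨n, rfl⟩ := Subgroup.mem_zpowers_iff.1 hy
  refine ⟨k, Subtype.ext ?_⟩
  simp only [Subgroup.coe_pow, Subgroup.coe_one]
  rw [← zpow_natCast, ← zpow_mul, mul_comm, zpow_mul, zpow_natCast, ← ht, pow_orderOf_eq_one,
    one_zpow]

/-- An even-order subgroup contains an involution. -/
theorem exists_involution_of_even_card {G : Type*} [Group G] [Finite G] (K : Subgroup G)
    (h : Even (Nat.card K)) : ∃ t ∈ K, orderOf t = 2 := by
  have : Fact (Nat.Prime 2) := ⟨Nat.prime_two⟩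
  obtain ⟨x, hx⟩ := exists_prime_orderOf_dvd_card' (G := K) 2 (even_iff_two_dvd.1 h)
  exact ⟨x, x.2, by rwa [Subgroup.orderOf_coe]⟩


section SE
variable {G : Type*} [Group G] [Finite G] {H : Subgroup G}

/-- L1: if an involution `t` of `H` satisfies `g⁻¹ t g ∈ H`, then `g ∈ H`. -/
theorem se_mem_of_conj_mem (hH : Cfsg.IsStronglyEmbedded H) {t g : G} (ht : orderOf t = 2)
    (htH : t ∈ H) (hg : g⁻¹ * t * g ∈ H) : g ∈ H := by
  by_contra hgH
  have hodd := hH.2.2 g hgH
  have hmem : t ∈ H ⊓ H.map (MulAut.conj g).toMonoidHom :=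
    Subgroup.mem_inf.2 ⟨htH, (mem_map_conj_iff _ _ _).2 hg⟩
  have h2 : 2 ∣ Nat.card ↥(H ⊓ H.map (MulAut.conj g).toMonoidHom) := by
    have := orderOf_dvd_natCard (⟨t, hmem⟩ : ↥(H ⊓ H.map (MulAut.conj g).toMonoidHom))
    rwa [Subgroup.orderOf_mk, ht] at this
  exact (Nat.not_even_iff_odd.2 hodd) (even_iff_two_dvd.2 h2)

/-- L2: centralizers of involutions of `H` lie in `H`. -/
theorem se_commute_mem (hH : Cfsg.IsStronglyEmbedded H) {t g : G} (ht : orderOf t = 2)
    (htH : t ∈ H) (hg : g * t = t * g) : g ∈ H := by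
  apply se_mem_of_conj_mem hH ht htH
  have : g⁻¹ * t * g = t := by rw [mul_assoc, ← hg, inv_mul_cancel_left]
  rwa [this]

/-- L4: the product of an involution of `H` with an involution outside `H` has odd order. -/
theorem se_odd_mul (hH : Cfsg.IsStronglyEmbedded H) {s v : G} (hs : orderOf s = 2)
    (hsH : s ∈ H) (hv : orderOf v = 2) (hvH : v ∉ H) : Odd (orderOf (s * v)) := by
  by_contra hodd
  rw [Nat.not_odd_iff_even] at hodd
  obtain ⟨w, hw2, hsw, hvw⟩ := dihedral_even_common hs hv hodd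
  have hwH : w ∈ H := se_commute_mem hH hs hsH hsw.symm
  exact hvH (se_commute_mem hH hw2 hwH hvw)

/-- an involution of `H` and an involution outside `H` are swapped by an involution. -/
theorem se_swap (hH : Cfsg.IsStronglyEmbedded H) {s v : G} (hs : orderOf s = 2)
    (hsH : s ∈ H) (hv : orderOf v = 2) (hvH : v ∉ H) : ∃ r : G, r * r = 1 ∧ r * s * r = v := by
  obtain ⟨l, hl⟩ := se_odd_mul hH hs hsH hv hvH
  exact dihedral_odd_conj hs hv hl

/-- L6: there is an involution outside `H`. -/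
theorem se_exists_involution_not_mem (hH : Cfsg.IsStronglyEmbedded H) :
    ∃ v : G, orderOf v = 2 ∧ v ∉ H := by
  obtain ⟨s, hsH, hs⟩ := exists_involution_of_even_card H hH.2.1
  obtain ⟨g, -, hg⟩ := SetLike.exists_of_lt (lt_top_iff_ne_top.2 hH.1)
  refine ⟨g * s * g⁻¹, conj_orderOf_two hs g, ?_⟩
  intro hv
  apply hg
  apply se_mem_of_conj_mem hH (conj_orderOf_two hs g) hv
  have : g⁻¹ * (g * s * g⁻¹) * g = s := by group
  rwa [this]

theorem se_exists_involution_mem (hH : Cfsg.IsStronglyEmbedded H) :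
    ∃ s : G, orderOf s = 2 ∧ s ∈ H := by
  obtain ⟨s, hsH, hs⟩ := exists_involution_of_even_card H hH.2.1
  exact ⟨s, hs, hsH⟩

/-- all involutions are conjugate -/
theorem se_isConj (hH : Cfsg.IsStronglyEmbedded H) {a b : G} (ha : orderOf a = 2)
    (hb : orderOf b = 2) : IsConj a b := by
  have key : ∀ {s v : G}, orderOf s = 2 → s ∈ H → orderOf v = 2 → v ∉ H → IsConj s v := by
    intro s v hs hsH hv hvH
    obtain ⟨r, hr1, hr2⟩ := se_swap hH hs hsH hv hvH
    rw [isConj_iff]
    refine ⟨r, ?_⟩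
    have : r⁻¹ = r := inv_eq_of_mul_eq_one_right hr1
    rw [this, hr2]
  obtain ⟨v, hv, hvH⟩ := se_exists_involution_not_mem hH
  obtain ⟨s, hs, hsH⟩ := se_exists_involution_mem hH
  by_cases haH : a ∈ H <;> by_cases hbH : b ∈ H
  · exact (key ha haH hv hvH).trans (key hb hbH hv hvH).symm
  · exact key ha haH hb hbH
  · exact (key hb hbH ha haH).symm
  · exact (key hs hsH ha haH).symm.trans (key hs hsH hb hbH)

end SE


section SEPoints
variable {G : Type*} [Group G] [Finite G] {H : Subgroup G}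

omit [Finite G] in
theorem smul_mk_eq_mk_iff (i g k : G) :
    i • (QuotientGroup.mk g : G ⧸ H) = QuotientGroup.mk k ↔ k⁻¹ * i * g ∈ H := by
  rw [MulAction.Quotient.smul_mk, smul_eq_mul, QuotientGroup.eq]
  constructor
  · intro h
    have := H.inv_mem h
    simpa [mul_assoc] using this
  · intro h
    have := H.inv_mem h
    simpa [mul_assoc] using this

/-- every involution is conjugate into `H` -/
theorem se_exists_conj_mem (hH : Cfsg.IsStronglyEmbedded H) {a : G} (ha : orderOf a = 2) :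
    ∃ g : G, g⁻¹ * a * g ∈ H := by
  by_cases haH : a ∈ H
  · exact ⟨1, by simpa using haH⟩
  · obtain ⟨s, hs, hsH⟩ := se_exists_involution_mem hH
    obtain ⟨r, hr1, hr2⟩ := se_swap hH hs hsH ha haH
    refine ⟨r, ?_⟩
    have hri : r⁻¹ = r := inv_eq_of_mul_eq_one_right hr1
    rw [hri, ← hr2]
    have : r * (r * s * r) * r = (r * r) * s * (r * r) := by group
    rw [this, hr1, one_mul, mul_one]
    exact hsH

/-- every involution fixes a point of `G ⧸ H` -/
theorem se_exists_fixed (hH : Cfsg.IsStronglyEmbedded H) {a : G} (ha : orderOf a = 2) :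
    ∃ c : G ⧸ H, a • c = c := by
  obtain ⟨g, hg⟩ := se_exists_conj_mem hH ha
  exact ⟨QuotientGroup.mk g, (smul_mk_eq_mk_iff a g g).2 hg⟩

/-- an involution fixes at most one point of `G ⧸ H` -/
theorem se_fixed_unique (hH : Cfsg.IsStronglyEmbedded H) {a : G} (ha : orderOf a = 2)
    {c d : G ⧸ H} (hc : a • c = c) (hd : a • d = d) : c = d := by
  induction c using QuotientGroup.induction_on with
  | H g =>
    induction d using QuotientGroup.induction_on with
    | H k =>
      rw [smul_mk_eq_mk_iff] at hc hd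
      rw [QuotientGroup.eq]
      have ho : orderOf (g⁻¹ * a * g) = 2 := by
        have := conj_orderOf_two ha g⁻¹
        rwa [inv_inv] at this
      apply se_mem_of_conj_mem hH ho hc
      have : (g⁻¹ * k)⁻¹ * (g⁻¹ * a * g) * (g⁻¹ * k) = k⁻¹ * a * k := by group
      rwa [this]

/-- an involution fixing a point and one moving it are swapped by an involution -/
theorem se_swap_points (hH : Cfsg.IsStronglyEmbedded H) {s v : G} (hs : orderOf s = 2)
    (hv : orderOf v = 2) (a : G ⧸ H) (hsa : s • a = a) (hva : v • a ≠ a) :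
    ∃ r : G, r * r = 1 ∧ r * s * r = v := by
  induction a using QuotientGroup.induction_on with
  | H g =>
    rw [smul_mk_eq_mk_iff] at hsa
    rw [Ne, smul_mk_eq_mk_iff] at hva
    have hs' : orderOf (g⁻¹ * s * g) = 2 := by
      have := conj_orderOf_two hs g⁻¹
      rwa [inv_inv] at this
    have hv' : orderOf (g⁻¹ * v * g) = 2 := by
      have := conj_orderOf_two hv g⁻¹
      rwa [inv_inv] at this
    obtain ⟨r, hr1, hr2⟩ := se_swap hH hs' hsa hv' hva
    refine ⟨g * r * g⁻¹, ?_, ?_⟩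
    · have : g * r * g⁻¹ * (g * r * g⁻¹) = g * (r * r) * g⁻¹ := by group
      rw [this, hr1]; group
    · have : g * r * g⁻¹ * s * (g * r * g⁻¹) = g * (r * (g⁻¹ * s * g) * r) * g⁻¹ := by group
      rw [this, hr2]; group

end SEPoints

end Cfsg.Agent.Lib.Helper9
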