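import Mathlib
import Cfsg.Agent.S1224
import Cfsg.Agent.S1225
import Cfsg.Agent.S1226
import Cfsg.Agent.S1227
import Cfsg.Agent.Lib.Helper9.StrongEmb

set_option autoImplicit false

namespace Cfsg.Agent.Lib.Helper9

open Subgroup

/-- hypotheses of the CIT situation on a Sylow 2-subgroup -/
structure CITHyp {G : Type*} [Group G] (T : Sylow 2 G) : Prop where
  hnc : ¬ IsCyclic (T : Subgroup G)
  hnn : ¬ (T : Subgroup G).Normal
  hC : ∀ t : G, orderOf t = 2 → IsMulCommutative (Subgroup.centralizer ({t} : Set G)) ∧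
    ∀ c ∈ Subgroup.centralizer ({t} : Set G), c ^ 2 = 1

section
variable {G : Type*} [Group G]

theorem mem_normalizer_smul_iff (T : Sylow 2 G) (u x : G) :
    x ∈ Subgroup.normalizer (((u • T : Sylow 2 G) : Subgroup G) : Set G) ↔
      u⁻¹ * x * u ∈ Subgroup.normalizer ((T : Subgroup G) : Set G) := by
  have h1 : x ∈ Subgroup.normalizer (((u • T : Sylow 2 G) : Subgroup G) : Set G) ↔
      x • (u • T) = u • T := (Sylow.smul_eq_iff_mem_normalizer (P := u • T) (g := x)).symm
  have h2 : u⁻¹ * x * u ∈ Subgroup.normalizer ((T : Subgroup G) : Set G) ↔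
      (u⁻¹ * x * u) • T = T := (Sylow.smul_eq_iff_mem_normalizer (P := T) (g := u⁻¹ * x * u)).symm
  rw [h1, h2, mul_smul, mul_smul, inv_smul_eq_iff]

theorem map_conj_normalizer (T : Sylow 2 G) (u : G) :
    (Subgroup.normalizer ((T : Subgroup G) : Set G)).map (MulAut.conj u).toMonoidHom =
      Subgroup.normalizer (((u • T : Sylow 2 G) : Subgroup G) : Set G) := by
  ext x
  rw [mem_map_conj_iff, mem_normalizer_smul_iff]

theorem mem_smul_sylow_iff' (T : Sylow 2 G) (g x : G) :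
    x ∈ ((g • T : Sylow 2 G) : Subgroup G) ↔ g⁻¹ * x * g ∈ (T : Subgroup G) := by
  rw [Sylow.coe_subgroup_smul, Subgroup.mem_pointwise_smul_iff_inv_smul_mem]
  simp [MulAut.smul_def, mul_assoc]

theorem CITHyp.smul {T : Sylow 2 G} (h : CITHyp T) (g : G) : CITHyp (g • T) := by
  refine ⟨?_, ?_, h.hC⟩
  · intro hc
    apply h.hnc
    have e : (T : Subgroup G) ≃* ((g • T : Sylow 2 G) : Subgroup G) :=
      Sylow.equivSMul T g
    exact isCyclic_of_surjective e.symm e.symm.surjective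
  · intro hn
    apply h.hnn
    constructor
    intro n hn' x
    have h1 : g * n * g⁻¹ ∈ ((g • T : Sylow 2 G) : Subgroup G) := by
      rw [mem_smul_sylow_iff']
      have : g⁻¹ * (g * n * g⁻¹) * g = n := by group
      rwa [this]
    have h2 := hn.conj_mem _ h1 (g * x * g⁻¹)
    rw [mem_smul_sylow_iff'] at h2
    have : g⁻¹ * (g * x * g⁻¹ * (g * n * g⁻¹) * (g * x * g⁻¹)⁻¹) * g = x * n * x⁻¹ := by group
    rwa [this] at h2

end

section
variable {G : Type*} [Group G] [Finite G]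

theorem CITHyp.se {T : Sylow 2 G} (h : CITHyp T) :
    Cfsg.IsStronglyEmbedded (Subgroup.normalizer ((T : Subgroup G) : Set G)) :=
  Cfsg.Agent.S1226.result T h.hnc h.hnn h.hC

theorem CITHyp.ne_bot {T : Sylow 2 G} (h : CITHyp T) : (T : Subgroup G) ≠ ⊥ := by
  intro hb
  apply h.hnn
  rw [hb]
  infer_instance

theorem CITHyp.exp_two {T : Sylow 2 G} (h : CITHyp T) : ∀ x ∈ (T : Subgroup G), x ^ 2 = 1 := by
  obtain ⟨⟨z, hzT, hz2⟩, hcent⟩ := Cfsg.Agent.S1226.sylow_structure T h.ne_bot h.hC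
  intro x hx
  rw [← hcent z hzT hz2] at hx
  exact (h.hC z hz2).2 x hx

theorem CITHyp.centralizer_eq {T : Sylow 2 G} (h : CITHyp T) {t : G} (ht : t ∈ (T : Subgroup G))
    (ht1 : t ≠ 1) : Subgroup.centralizer ({t} : Set G) = (T : Subgroup G) := by
  obtain ⟨-, hcent⟩ := Cfsg.Agent.S1226.sylow_structure T h.ne_bot h.hC
  exact hcent t ht (orderOf_eq_prime (h.exp_two t ht) ht1)

/-- the order of `T` is at least four -/
theorem CITHyp.four_le_card {T : Sylow 2 G} (h : CITHyp T) : 4 ≤ Nat.card (T : Subgroup G) := by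
  have : Fact (Nat.Prime 2) := ⟨Nat.prime_two⟩
  obtain ⟨k, hk⟩ := IsPGroup.iff_card.1 T.2
  rcases k with _ | _ | k
  · exfalso
    apply h.ne_bot
    exact Subgroup.eq_bot_of_card_eq _ (by simpa using hk)
  · exfalso
    apply h.hnc
    have : Fact (Nat.Prime 2) := ⟨Nat.prime_two⟩
    exact isCyclic_of_prime_card (p := 2) (by simpa using hk)
  · rw [hk]
    have : 2 ^ (k + 1 + 1) = 4 * 2 ^ k := by ring
    rw [this]
    have := Nat.one_le_two_pow (n := k)
    omega

/-- the data of `S1227` for an involution moving `T` -/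
theorem CITHyp.inverts {T : Sylow 2 G} (h : CITHyp T) {u : G} (hu : orderOf u = 2)
    (huT : u • T ≠ T) :
    (∀ d ∈ Subgroup.normalizer ((T : Subgroup G) : Set G) ⊓
        Subgroup.normalizer (((u • T : Sylow 2 G) : Subgroup G) : Set G), u * d * u⁻¹ = d⁻¹) ∧
    Nat.card ↥(Subgroup.normalizer ((T : Subgroup G) : Set G) ⊓
        Subgroup.normalizer (((u • T : Sylow 2 G) : Subgroup G) : Set G)) + 1 =
      Nat.card (T : Subgroup G) ∧
    (∀ x ∈ Subgroup.normalizer ((T : Subgroup G) : Set G), ∃ d ∈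
      Subgroup.normalizer ((T : Subgroup G) : Set G) ⊓
        Subgroup.normalizer (((u • T : Sylow 2 G) : Subgroup G) : Set G),
      ∃ t ∈ (T : Subgroup G), x = d * t) := by
  have huH : u ∉ Subgroup.normalizer ((T : Subgroup G) : Set G) := by
    intro hmem
    exact huT (Sylow.smul_eq_iff_mem_normalizer.2 hmem)
  obtain ⟨ha, hb, hc⟩ := Cfsg.Agent.S1227.result T h.hnc h.hnn h.hC u hu huH
  rw [map_conj_normalizer] at ha hc
  refine ⟨ha, ?_, ?_⟩
  · have h1 := hc.card_mul_card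
    have hDH : Subgroup.normalizer ((T : Subgroup G) : Set G) ⊓
        Subgroup.normalizer (((u • T : Sylow 2 G) : Subgroup G) : Set G) ≤
        Subgroup.normalizer ((T : Subgroup G) : Set G) := inf_le_left
    have hTH : (T : Subgroup G) ≤ Subgroup.normalizer ((T : Subgroup G) : Set G) :=
      Subgroup.le_normalizer
    rw [Nat.card_congr (Subgroup.subgroupOfEquivOfLe hDH).toEquiv,
      Nat.card_congr (Subgroup.subgroupOfEquivOfLe hTH).toEquiv, hb] at h1
    have h4 := h.four_le_card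
    have hT0 : 0 < Nat.card (T : Subgroup G) := by omega
    have h2 : Nat.card ↥(Subgroup.normalizer ((T : Subgroup G) : Set G) ⊓
        Subgroup.normalizer (((u • T : Sylow 2 G) : Subgroup G) : Set G)) =
        Nat.card (T : Subgroup G) - 1 := by
      have h3 : Nat.card ↥(Subgroup.normalizer ((T : Subgroup G) : Set G) ⊓
          Subgroup.normalizer (((u • T : Sylow 2 G) : Subgroup G) : Set G)) *
          Nat.card (T : Subgroup G) = (Nat.card (T : Subgroup G) - 1) * Nat.card (T : Subgroup G) := by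
        rw [h1]; ring
      exact Nat.eq_of_mul_eq_mul_right hT0 h3
    rw [h2]
    have : (Nat.card T : ℕ) = Nat.card (T : Subgroup G) := rfl
    omega
  · intro x hx
    have h1 : (⟨x, hx⟩ : ↥(Subgroup.normalizer ((T : Subgroup G) : Set G))) ∈
        (⊤ : Subgroup ↥(Subgroup.normalizer ((T : Subgroup G) : Set G))) := Subgroup.mem_top _
    rw [← hc.sup_eq_top] at h1
    have hTn : ((T : Subgroup G).subgroupOf (Subgroup.normalizer ((T : Subgroup G) : Set G))).Normal :=
      Subgroup.normal_in_normalizer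
    rw [Subgroup.mem_sup_of_normal_right] at h1
    obtain ⟨d, hd, t, ht, hdt⟩ := h1
    refine ⟨d, Subgroup.mem_subgroupOf.1 hd, t, Subgroup.mem_subgroupOf.1 ht, ?_⟩
    have := congrArg Subtype.val hdt
    simpa using this.symm

/-- the two point stabilizer -/
def citD (T : Sylow 2 G) (u : G) : Subgroup G :=
  Subgroup.normalizer ((T : Subgroup G) : Set G) ⊓
    Subgroup.normalizer (((u • T : Sylow 2 G) : Subgroup G) : Set G)

theorem mem_citD {T : Sylow 2 G} {u x : G} : x ∈ citD T u ↔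
    x ∈ Subgroup.normalizer ((T : Subgroup G) : Set G) ∧
      x ∈ Subgroup.normalizer (((u • T : Sylow 2 G) : Subgroup G) : Set G) := Subgroup.mem_inf

theorem citD_inv {T : Sylow 2 G} (h : CITHyp T) {u : G} (hu : orderOf u = 2)
    (huT : u • T ≠ T) {d : G} (hd : d ∈ citD T u) : u * d * u⁻¹ = d⁻¹ :=
  (h.inverts hu huT).1 d hd

theorem citD_card {T : Sylow 2 G} (h : CITHyp T) {u : G} (hu : orderOf u = 2)
    (huT : u • T ≠ T) : Nat.card ↥(citD T u) + 1 = Nat.card (T : Subgroup G) :=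
  (h.inverts hu huT).2.1

theorem citD_mul {T : Sylow 2 G} (h : CITHyp T) {u : G} (hu : orderOf u = 2)
    (huT : u • T ≠ T) {x : G} (hx : x ∈ Subgroup.normalizer ((T : Subgroup G) : Set G)) :
    ∃ d ∈ citD T u, ∃ t ∈ (T : Subgroup G), x = d * t :=
  (h.inverts hu huT).2.2 x hx

theorem citD_comm {T : Sylow 2 G} (h : CITHyp T) {u : G} (hu : orderOf u = 2)
    (huT : u • T ≠ T) {d e : G} (hd : d ∈ citD T u) (he : e ∈ citD T u) : d * e = e * d := by
  have h1 := citD_inv h hu huT hd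
  have h2 := citD_inv h hu huT he
  have h3 := citD_inv h hu huT (mul_mem hd he)
  have h4 : u * (d * e) * u⁻¹ = (u * d * u⁻¹) * (u * e * u⁻¹) := by group
  rw [h4, h1, h2, mul_inv_rev] at h3
  have h5 := congrArg Inv.inv h3
  simpa using h5.symm

theorem citD_sq {T : Sylow 2 G} (h : CITHyp T) {u : G} (hu : orderOf u = 2)
    (huT : u • T ≠ T) {x : G} (hx : x ∈ citD T u) (hx2 : x * x = 1) : x = 1 := by
  by_contra hx1
  have : Fact (Nat.Prime 2) := ⟨Nat.prime_two⟩
  have hord : orderOf x = 2 := orderOf_eq_prime (by rw [pow_two]; exact hx2) hx1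
  have hxT : x ∈ (T : Subgroup G) :=
    mem_sylow_of_mem_normalizer T x (mem_citD.1 hx).1
      (isPGroup_zpowers_of_orderOf x 1 (by simpa using hord))
  have hcard := citD_card h hu huT
  have h2 : 2 ∣ Nat.card ↥(citD T u) := by
    have := orderOf_dvd_natCard (⟨x, hx⟩ : ↥(citD T u))
    rwa [Subgroup.orderOf_mk, hord] at this
  obtain ⟨k, hk⟩ := IsPGroup.iff_card.1 T.2
  have h4 := h.four_le_card
  have hk' : Nat.card (T : Subgroup G) = 2 ^ k := hk
  have h2' : 2 ∣ Nat.card (T : Subgroup G) := by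
    rw [hk']
    rcases k with _ | k
    · rw [hk'] at h4; simp at h4
    · exact Dvd.intro_left (2 ^ k) rfl
  omega

theorem citD_disjoint {T : Sylow 2 G} (h : CITHyp T) {u : G} (hu : orderOf u = 2)
    (huT : u • T ≠ T) {x : G} (hx : x ∈ citD T u) (hxT : x ∈ (T : Subgroup G)) : x = 1 := by
  apply citD_sq h hu huT hx
  rw [← pow_two]
  exact h.exp_two x hxT

theorem citD_exists_ne_one {T : Sylow 2 G} (h : CITHyp T) {u : G} (hu : orderOf u = 2)
    (huT : u • T ≠ T) : ∃ e ∈ citD T u, e ≠ 1 := by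
  have hcard := citD_card h hu huT
  have h4 := h.four_le_card
  have h1 : 1 < Nat.card ↥(citD T u) := by omega
  have : Nontrivial ↥(citD T u) := (Finite.one_lt_card_iff_nontrivial).1 h1
  obtain ⟨e, he⟩ := exists_ne (1 : ↥(citD T u))
  exact ⟨e.1, e.2, fun h0 => he (Subtype.ext h0)⟩

theorem smul_smul_self_of_orderOf_two (T : Sylow 2 G) {u : G} (hu : orderOf u = 2) :
    u • (u • T) = T := by
  rw [← mul_smul]
  have : u * u = 1 := by
    have := pow_orderOf_eq_one u
    rwa [hu, pow_two] at this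
  rw [this, one_smul]

/-- there is an involution moving `T` to any other Sylow subgroup -/
theorem cit_exists_swap {T : Sylow 2 G} (h : CITHyp T) {T₃ : Sylow 2 G} (hne : T₃ ≠ T) :
    ∃ v : G, orderOf v = 2 ∧ v • T = T₃ := by
  have : Fact (Nat.Prime 2) := ⟨Nat.prime_two⟩
  obtain ⟨g, hg⟩ := MulAction.exists_smul_eq G T T₃
  have hgH : g ∉ Subgroup.normalizer ((T : Subgroup G) : Set G) := by
    intro hmem
    apply hne
    rw [← hg]
    exact Sylow.smul_eq_iff_mem_normalizer.2 hmem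
  have hxy : (QuotientGroup.mk 1 : G ⧸ Subgroup.normalizer ((T : Subgroup G) : Set G)) ≠
      QuotientGroup.mk g := by
    intro heq
    rw [QuotientGroup.eq] at heq
    apply hgH
    simpa using heq
  have hcount := Cfsg.Agent.S1224.result _ h.se _ _ hxy
  obtain ⟨z, hz2, hzH⟩ := se_exists_involution_mem h.se
  have : Nonempty {t : G // orderOf t = 2 ∧ t ∈ Subgroup.normalizer ((T : Subgroup G) : Set G)} :=
    ⟨⟨z, hz2, hzH⟩⟩
  have hpos : 0 < Nat.card {t : G // orderOf t = 2 ∧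
      t ∈ Subgroup.normalizer ((T : Subgroup G) : Set G)} := Nat.card_pos
  rw [← hcount] at hpos
  obtain ⟨⟨i, hi2, hi⟩⟩ := (Nat.card_pos_iff.1 hpos).1
  refine ⟨i, hi2, ?_⟩
  rw [smul_mk_eq_mk_iff] at hi
  have h1 : (g⁻¹ * i * 1) • T = T := Sylow.smul_eq_iff_mem_normalizer.2 hi
  rw [mul_one, mul_smul, inv_smul_eq_iff, hg] at h1
  exact h1


/-- only the identity fixes three Sylow subgroups -/
theorem cit_three_point {T : Sylow 2 G} (h : CITHyp T) {T₂ T₃ : Sylow 2 G} (h12 : T₂ ≠ T)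
    (h13 : T₃ ≠ T) (h23 : T₃ ≠ T₂) {e : G}
    (he1 : e ∈ Subgroup.normalizer ((T : Subgroup G) : Set G))
    (he2 : e ∈ Subgroup.normalizer ((T₂ : Subgroup G) : Set G))
    (he3 : e ∈ Subgroup.normalizer ((T₃ : Subgroup G) : Set G)) : e = 1 := by
  obtain ⟨u, hu, huT⟩ := cit_exists_swap h h12
  obtain ⟨v, hv, hvT⟩ := cit_exists_swap h h13
  have h2 : CITHyp T₂ := huT ▸ h.smul u
  obtain ⟨w, hw, hwT⟩ := cit_exists_swap h2 h23
  have huT2 : u • T₂ = T := by rw [← huT]; exact smul_smul_self_of_orderOf_two T hu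
  have heu : e ∈ citD T u := mem_citD.2 ⟨he1, by rw [huT]; exact he2⟩
  have hev : e ∈ citD T v := mem_citD.2 ⟨he1, by rw [hvT]; exact he3⟩
  have hew : e ∈ citD T₂ w := mem_citD.2 ⟨he2, by rw [hwT]; exact he3⟩
  have heu2 : e ∈ citD T₂ u := mem_citD.2 ⟨he2, by rw [huT2]; exact he1⟩
  have n1 : u • T ≠ T := by rw [huT]; exact h12
  have n2 : v • T ≠ T := by rw [hvT]; exact h13
  have n3 : w • T₂ ≠ T₂ := by rw [hwT]; exact h23
  have n4 : u • T₂ ≠ T₂ := by rw [huT2]; exact h12.symm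
  have i1 := citD_inv h hu n1 heu
  have i2 := citD_inv h hv n2 hev
  have i3 := citD_inv h2 hw n3 hew
  have hd₀ : w⁻¹ * v * u ∈ Subgroup.normalizer ((T₂ : Subgroup G) : Set G) := by
    apply Sylow.smul_eq_iff_mem_normalizer.1
    rw [mul_smul, mul_smul, huT2, hvT, inv_smul_eq_iff, hwT]
  have hinv : (w⁻¹ * v * u) * e * (w⁻¹ * v * u)⁻¹ = e⁻¹ := by
    have e1 : (w⁻¹ * v * u) * e * (w⁻¹ * v * u)⁻¹ = w⁻¹ * (v * (u * e * u⁻¹) * v⁻¹) * w := by
      group
    have e2 : v * e⁻¹ * v⁻¹ = (v * e * v⁻¹)⁻¹ := by group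
    have e3 : w⁻¹ * e * w = e⁻¹ := by
      have e4 : e = w⁻¹ * (w * e * w⁻¹) * w := by group
      rw [i3] at e4
      have e5 : w⁻¹ * e * w = (w⁻¹ * e⁻¹ * w)⁻¹ := by group
      rw [e5, ← e4]
    rw [e1, i1, e2, i2, inv_inv, e3]
  obtain ⟨d, hd, t, ht, hdt⟩ := citD_mul h2 hu n4 hd₀
  have hcomm := citD_comm h2 hu n4 hd heu2
  have h5 : t * e * t⁻¹ = e⁻¹ := by
    rw [hdt] at hinv
    have e1 : t * e * t⁻¹ = d⁻¹ * (d * t * e * (d * t)⁻¹) * d := by group
    rw [e1, hinv]
    have e2 : d⁻¹ * e⁻¹ * d = (d⁻¹ * (e * d))⁻¹ := by group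
    rw [e2, ← hcomm]
    group
  have h6 : e⁻¹ * e⁻¹ ∈ (T₂ : Subgroup G) := by
    have e1 : e⁻¹ * e⁻¹ = t * (e * t⁻¹ * e⁻¹) := by
      rw [← h5]; group
    rw [e1]
    refine mul_mem ht ?_
    exact (Subgroup.mem_normalizer_iff.1 he2 t⁻¹).1 (inv_mem ht)
  have h7 : e⁻¹ * e⁻¹ = 1 :=
    citD_disjoint h2 hu n4 (mul_mem (inv_mem heu2) (inv_mem heu2)) h6
  apply citD_sq h2 hu n4 heu2
  have := congrArg Inv.inv h7
  simpa using this

/-- the two point stabilizer is self-normalizing in the point stabilizer -/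
theorem citD_self_normalizing {T : Sylow 2 G} (h : CITHyp T) {u : G} (hu : orderOf u = 2)
    (huT : u • T ≠ T) {x : G} (hx1 : x ∈ Subgroup.normalizer ((T : Subgroup G) : Set G))
    (hx2 : x ∈ Subgroup.normalizer ((citD T u : Subgroup G) : Set G)) : x ∈ citD T u := by
  obtain ⟨d, hd, t, ht, hxt⟩ := citD_mul h hu huT hx1
  have htN : t ∈ Subgroup.normalizer ((citD T u : Subgroup G) : Set G) := by
    have : t = d⁻¹ * x := by rw [hxt]; group
    rw [this]
    exact mul_mem (inv_mem (Subgroup.le_normalizer hd)) hx2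
  have ht1 : t = 1 := by
    by_contra ht1
    obtain ⟨e, he, he1⟩ := citD_exists_ne_one h hu huT
    have h1 : t * e * t⁻¹ ∈ citD T u := (Subgroup.mem_normalizer_iff.1 htN e).1 he
    have h2 : t * e * t⁻¹ * e⁻¹ ∈ citD T u := mul_mem h1 (inv_mem he)
    have h3 : t * e * t⁻¹ * e⁻¹ ∈ (T : Subgroup G) := by
      have e1 : t * e * t⁻¹ * e⁻¹ = t * (e * t⁻¹ * e⁻¹) := by group
      rw [e1]
      exact mul_mem ht ((Subgroup.mem_normalizer_iff.1 (mem_citD.1 he).1 t⁻¹).1 (inv_mem ht))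
    have h4 := citD_disjoint h hu huT h2 h3
    have h5 : e ∈ Subgroup.centralizer ({t} : Set G) := by
      rw [Subgroup.mem_centralizer_singleton_iff]
      have : e * t = (t * e * t⁻¹ * e⁻¹)⁻¹ * (t * e) := by group
      rw [this, h4]; group
    rw [h.centralizer_eq ht ht1] at h5
    exact he1 (citD_disjoint h hu huT he h5)
  rw [hxt, ht1, mul_one]
  exact hd


/-- a Sylow subgroup normalized by the two point stabilizer is one of the two points -/
theorem citD_fixed {T : Sylow 2 G} (h : CITHyp T) {u : G} (hu : orderOf u = 2)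
    (huT : u • T ≠ T) {T₃ : Sylow 2 G}
    (hfix : ∀ d ∈ citD T u, d ∈ Subgroup.normalizer ((T₃ : Subgroup G) : Set G)) :
    T₃ = T ∨ T₃ = u • T := by
  by_contra hne
  rw [not_or] at hne
  obtain ⟨e, he, he1⟩ := citD_exists_ne_one h hu huT
  exact he1 (cit_three_point h (T₂ := u • T) (T₃ := T₃) huT hne.1 hne.2 (mem_citD.1 he).1
    (mem_citD.1 he).2 (hfix e he))

theorem mul_self_of_orderOf_two' {u : G} (hu : orderOf u = 2) : u * u = 1 := by
  have := pow_orderOf_eq_one u
  rwa [hu, pow_two] at this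

theorem citD_mem_normalizer {T : Sylow 2 G} (h : CITHyp T) {u : G} (hu : orderOf u = 2)
    (huT : u • T ≠ T) : u ∈ Subgroup.normalizer ((citD T u : Subgroup G) : Set G) := by
  rw [Subgroup.mem_normalizer_iff]
  intro d
  constructor
  · intro hd
    rw [citD_inv h hu huT hd]
    exact inv_mem hd
  · intro hd
    have h1 := citD_inv h hu huT hd
    have h2 : u * (u * d * u⁻¹) * u⁻¹ = (u * u) * d * (u * u)⁻¹ := by group
    rw [h2, mul_self_of_orderOf_two' hu] at h1
    have h3 : d = (u * d * u⁻¹)⁻¹ := by simpa using h1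
    rw [h3]
    exact inv_mem hd

theorem citD_normalizer {T : Sylow 2 G} (h : CITHyp T) {u : G} (hu : orderOf u = 2)
    (huT : u • T ≠ T) : Subgroup.normalizer ((citD T u : Subgroup G) : Set G) =
      citD T u ⊔ Subgroup.zpowers u := by
  have huN := citD_mem_normalizer h hu huT
  apply le_antisymm
  · intro n hn
    have hfix : ∀ d ∈ citD T u,
        d ∈ Subgroup.normalizer (((n • T : Sylow 2 G) : Subgroup G) : Set G) := by
      intro d hd
      rw [mem_normalizer_smul_iff]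
      have h1 := (Subgroup.mem_normalizer_iff.1 (inv_mem hn) d).1 hd
      rw [inv_inv] at h1
      exact (mem_citD.1 h1).1
    rcases citD_fixed h hu huT hfix with h1 | h1
    · have hnT : n ∈ Subgroup.normalizer ((T : Subgroup G) : Set G) :=
        Sylow.smul_eq_iff_mem_normalizer.1 h1
      exact Subgroup.mem_sup_left (citD_self_normalizing h hu huT hnT hn)
    · have h2 : (u⁻¹ * n) • T = T := by rw [mul_smul, h1, inv_smul_smul]
      have hnT : u⁻¹ * n ∈ Subgroup.normalizer ((T : Subgroup G) : Set G) :=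
        Sylow.smul_eq_iff_mem_normalizer.1 h2
      have h3 := citD_self_normalizing h hu huT hnT (mul_mem (inv_mem huN) hn)
      have h4 : n = u * (u⁻¹ * n) := by group
      rw [h4]
      exact mul_mem (Subgroup.mem_sup_right (Subgroup.mem_zpowers u)) (Subgroup.mem_sup_left h3)
  · exact sup_le Subgroup.le_normalizer ((Subgroup.zpowers_le).2 huN)

/-- the fixed cosets of the two point stabilizer -/
theorem citD_fixed_cosets {T : Sylow 2 G} (h : CITHyp T) {u : G} (hu : orderOf u = 2)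
    (huT : u • T ≠ T) (g : G) :
    (∀ d ∈ citD T u, d • (QuotientGroup.mk g : G ⧸ Subgroup.normalizer ((T : Subgroup G) : Set G)) =
        QuotientGroup.mk g) ↔
      (QuotientGroup.mk g : G ⧸ Subgroup.normalizer ((T : Subgroup G) : Set G)) =
        QuotientGroup.mk 1 ∨
      (QuotientGroup.mk g : G ⧸ Subgroup.normalizer ((T : Subgroup G) : Set G)) =
        QuotientGroup.mk u := by
  have key : ∀ d : G, d • (QuotientGroup.mk g : G ⧸ Subgroup.normalizer ((T : Subgroup G) : Set G))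
      = QuotientGroup.mk g ↔
      d ∈ Subgroup.normalizer (((g • T : Sylow 2 G) : Subgroup G) : Set G) := by
    intro d
    rw [smul_mk_eq_mk_iff, mem_normalizer_smul_iff]
  have k1 : (QuotientGroup.mk g : G ⧸ Subgroup.normalizer ((T : Subgroup G) : Set G)) =
      QuotientGroup.mk 1 ↔ g • T = T := by
    rw [QuotientGroup.eq, mul_one, inv_mem_iff]
    exact (Sylow.smul_eq_iff_mem_normalizer (P := T) (g := g)).symm
  have k2 : (QuotientGroup.mk g : G ⧸ Subgroup.normalizer ((T : Subgroup G) : Set G)) =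
      QuotientGroup.mk u ↔ g • T = u • T := by
    rw [QuotientGroup.eq]
    have e1 : g⁻¹ * u ∈ Subgroup.normalizer ((T : Subgroup G) : Set G) ↔ (g⁻¹ * u) • T = T :=
      (Sylow.smul_eq_iff_mem_normalizer (P := T) (g := g⁻¹ * u)).symm
    rw [e1, mul_smul, inv_smul_eq_iff, eq_comm]
  rw [k1, k2]
  constructor
  · intro hfix
    exact citD_fixed h hu huT (fun d hd => (key d).1 (hfix d hd))
  · rintro (h1 | h1) d hd
    · rw [key, h1]; exact (mem_citD.1 hd).1
    · rw [key, h1]; exact (mem_citD.1 hd).2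


theorem CITHyp.comm {T : Sylow 2 G} (h : CITHyp T) {a b : G} (ha : a ∈ (T : Subgroup G))
    (hb : b ∈ (T : Subgroup G)) : a * b = b * a := by
  have h1 := h.exp_two a ha
  have h2 := h.exp_two b hb
  have h3 := h.exp_two (a * b) (mul_mem ha hb)
  rw [pow_two] at h1 h2 h3
  have e1 : a * b = a * (a * b * (a * b)) * b := by rw [h3, mul_one]
  have e2 : a * (a * b * (a * b)) * b = (a * a) * (b * a) * (b * b) := by group
  rw [e1, e2, h1, h2, one_mul, mul_one]

/-- `T` acts semiregularly off the fixed coset -/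
theorem cit_semiregular {T : Sylow 2 G} (h : CITHyp T) {t : G} (ht : t ∈ (T : Subgroup G))
    {x : G ⧸ Subgroup.normalizer ((T : Subgroup G) : Set G)} (hx : x ≠ QuotientGroup.mk 1)
    (hfix : t • x = x) : t = 1 := by
  by_contra ht1
  have : Fact (Nat.Prime 2) := ⟨Nat.prime_two⟩
  have hord : orderOf t = 2 := orderOf_eq_prime (h.exp_two t ht) ht1
  induction x using QuotientGroup.induction_on with
  | H g =>
    rw [smul_mk_eq_mk_iff] at hfix
    have hg := se_mem_of_conj_mem h.se hord (Subgroup.le_normalizer ht) hfix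
    apply hx
    rw [QuotientGroup.eq, mul_one]
    exact inv_mem hg

/-- elements of the point stabilizer outside `T` are conjugate under `T` into `D` -/
theorem cit_conj_into_D {T : Sylow 2 G} (h : CITHyp T) {u : G} (hu : orderOf u = 2)
    (huT : u • T ≠ T) {e : G} (he : e ∈ Subgroup.normalizer ((T : Subgroup G) : Set G))
    (heT : e ∉ (T : Subgroup G)) : ∃ s ∈ (T : Subgroup G), s⁻¹ * e * s ∈ citD T u := by
  obtain ⟨d, hd, t₀, ht₀, hdt⟩ := citD_mul h hu huT he
  have hd1 : d ≠ 1 := by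
    intro hd1
    apply heT
    rw [hdt, hd1, one_mul]
    exact ht₀
  have hdN : d⁻¹ ∈ Subgroup.normalizer ((T : Subgroup G) : Set G) := inv_mem (mem_citD.1 hd).1
  have hconj : ∀ s ∈ (T : Subgroup G), d⁻¹ * s * d ∈ (T : Subgroup G) := by
    intro s hs
    have := (Subgroup.mem_normalizer_iff.1 hdN s).1 hs
    rwa [inv_inv] at this
  let φ : ↥(T : Subgroup G) → ↥(T : Subgroup G) := fun s =>
    ⟨d⁻¹ * s.1 * d * s.1⁻¹, mul_mem (hconj s.1 s.2) (inv_mem s.2)⟩
  have hinj : Function.Injective φ := by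
    intro s s' hss
    have h1 : d⁻¹ * s.1 * d * s.1⁻¹ = d⁻¹ * s'.1 * d * s'.1⁻¹ := congrArg Subtype.val hss
    have hr : s'.1⁻¹ * s.1 ∈ (T : Subgroup G) := mul_mem (inv_mem s'.2) s.2
    have h2 : d⁻¹ * (s'.1⁻¹ * s.1) * d = s'.1⁻¹ * s.1 := by
      have e1 : d⁻¹ * (s'.1⁻¹ * s.1) * d = (d⁻¹ * s'.1 * d)⁻¹ * (d⁻¹ * s.1 * d) := by group
      have e2 : d⁻¹ * s.1 * d = d⁻¹ * s'.1 * d * s'.1⁻¹ * s.1 := by
        rw [← h1]; group
      rw [e1, e2]; group
    by_contra hne
    have hr1 : s'.1⁻¹ * s.1 ≠ 1 := by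
      intro hr1
      apply hne
      apply Subtype.ext
      have : s.1 = s'.1 * (s'.1⁻¹ * s.1) := by group
      rw [this, hr1, mul_one]
    have h5 : d ∈ Subgroup.centralizer ({s'.1⁻¹ * s.1} : Set G) := by
      rw [Subgroup.mem_centralizer_singleton_iff]
      have : d * (s'.1⁻¹ * s.1) = d * (d⁻¹ * (s'.1⁻¹ * s.1) * d) := by rw [h2]
      rw [this]; group
    rw [h.centralizer_eq hr hr1] at h5
    exact hd1 (citD_disjoint h hu huT hd h5)
  have hsurj : Function.Surjective φ := Finite.injective_iff_surjective.1 hinj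
  obtain ⟨s, hs⟩ := hsurj ⟨t₀, ht₀⟩
  have hs' : d⁻¹ * s.1 * d * s.1⁻¹ = t₀ := congrArg Subtype.val hs
  refine ⟨s.1, s.2, ?_⟩
  have e1 : s.1⁻¹ * e * s.1 = d * ((d⁻¹ * s.1 * d)⁻¹ * t₀ * s.1) := by
    rw [hdt]; group
  have e2 : (d⁻¹ * s.1 * d)⁻¹ * t₀ * s.1 = 1 := by
    rw [← hs']
    group
  rw [e1, e2, mul_one]
  exact hd


theorem mk_eq_mk_iff_smul (T : Sylow 2 G) (a b : G) :
    (QuotientGroup.mk a : G ⧸ Subgroup.normalizer ((T : Subgroup G) : Set G)) =
      QuotientGroup.mk b ↔ a • T = b • T := by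
  rw [QuotientGroup.eq]
  have e1 : a⁻¹ * b ∈ Subgroup.normalizer ((T : Subgroup G) : Set G) ↔ (a⁻¹ * b) • T = T :=
    (Sylow.smul_eq_iff_mem_normalizer (P := T) (g := a⁻¹ * b)).symm
  rw [e1, mul_smul, inv_smul_eq_iff, eq_comm]

theorem smul_eq_self_of_mem (T : Sylow 2 G) {s : G} (hs : s ∈ (T : Subgroup G)) : s • T = T :=
  Sylow.smul_eq_iff_mem_normalizer.2 (Subgroup.le_normalizer hs)

/-- `T` is transitive off the fixed coset -/
theorem cit_transitive {T : Sylow 2 G} (h : CITHyp T) {u : G} (hu : orderOf u = 2)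
    (huT : u • T ≠ T) {x : G ⧸ Subgroup.normalizer ((T : Subgroup G) : Set G)}
    (hx : x ≠ QuotientGroup.mk 1) :
    ∃ s ∈ (T : Subgroup G), x = s • (QuotientGroup.mk u :
      G ⧸ Subgroup.normalizer ((T : Subgroup G) : Set G)) := by
  induction x using QuotientGroup.induction_on with
  | H g =>
    have hgT : g • T ≠ T := by
      intro heq
      apply hx
      rw [mk_eq_mk_iff_smul, heq, one_smul]
    obtain ⟨v, hv, hvT⟩ := cit_exists_swap h hgT
    have hvT' : v • T ≠ T := by rw [hvT]; exact hgT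
    obtain ⟨e, he, he1⟩ := citD_exists_ne_one h hv hvT'
    have heT : e ∉ (T : Subgroup G) := fun hmem => he1 (citD_disjoint h hv hvT' he hmem)
    obtain ⟨s, hs, hsD⟩ := cit_conj_into_D h hu huT (mem_citD.1 he).1 heT
    have hd1 : s⁻¹ * e * s ≠ 1 := by
      intro h0
      apply he1
      have : e = s * (s⁻¹ * e * s) * s⁻¹ := by group
      rw [this, h0]; group
    have hsT : s • T = T := smul_eq_self_of_mem T hs
    have hsT' : s⁻¹ • T = T := smul_eq_self_of_mem T (inv_mem hs)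
    have h3 : s⁻¹ * e * s ∈
        Subgroup.normalizer (((s⁻¹ • (g • T) : Sylow 2 G) : Subgroup G) : Set G) := by
      rw [mem_normalizer_smul_iff, inv_inv]
      have : s * (s⁻¹ * e * s) * s⁻¹ = e := by group
      rw [this, ← hvT]
      exact (mem_citD.1 he).2
    have hne1 : s⁻¹ • (g • T) ≠ T := by
      intro heq
      apply hgT
      rw [inv_smul_eq_iff, hsT] at heq
      exact heq
    have key : s⁻¹ • (g • T) = u • T := by
      by_contra hne2
      exact hd1 (cit_three_point h (T₂ := u • T) (T₃ := s⁻¹ • (g • T)) huT hne1 hne2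
        (mem_citD.1 hsD).1 (mem_citD.1 hsD).2 h3)
    refine ⟨s, hs, ?_⟩
    rw [MulAction.Quotient.smul_mk, smul_eq_mul, mk_eq_mk_iff_smul, mul_smul, ← key,
      smul_inv_smul]

/-- `D` is transitive on the involutions of `T` -/
theorem citD_transitive {T : Sylow 2 G} (h : CITHyp T) {u : G} (hu : orderOf u = 2)
    (huT : u • T ≠ T) {a b : G} (ha : a ∈ (T : Subgroup G)) (ha1 : a ≠ 1)
    (hb : b ∈ (T : Subgroup G)) (hb1 : b ≠ 1) : ∃ d ∈ citD T u, d * a * d⁻¹ = b := by
  have : Fact (Nat.Prime 2) := ⟨Nat.prime_two⟩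
  have hoa : orderOf a = 2 := orderOf_eq_prime (h.exp_two a ha) ha1
  have hob : orderOf b = 2 := orderOf_eq_prime (h.exp_two b hb) hb1
  have huH : u ∉ Subgroup.normalizer ((T : Subgroup G) : Set G) := fun hmem =>
    huT (Sylow.smul_eq_iff_mem_normalizer.2 hmem)
  obtain ⟨⟨d, hd, hdab⟩, -⟩ := Cfsg.Agent.S1225.result _ h.se u hu huH a b hoa
    (Subgroup.le_normalizer ha) hob (Subgroup.le_normalizer hb)
  rw [map_conj_normalizer] at hd
  exact ⟨d, hd, hdab⟩


theorem smul_mk_one_of_mem (T : Sylow 2 G) {k : G}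
    (hk : k ∈ Subgroup.normalizer ((T : Subgroup G) : Set G)) :
    k • (QuotientGroup.mk 1 : G ⧸ Subgroup.normalizer ((T : Subgroup G) : Set G)) =
      QuotientGroup.mk 1 := by
  rw [smul_mk_eq_mk_iff]
  simpa using hk

theorem smul_mk_of_mem_citD (T : Sylow 2 G) {u d : G} (hd : d ∈ citD T u) :
    d • (QuotientGroup.mk u : G ⧸ Subgroup.normalizer ((T : Subgroup G) : Set G)) =
      QuotientGroup.mk u := by
  rw [smul_mk_eq_mk_iff, ← mem_normalizer_smul_iff]
  exact (mem_citD.1 hd).2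

/-- every triple of distinct cosets can be moved to a fixed one -/
theorem cit_canonical {T : Sylow 2 G} (h : CITHyp T) {u : G} (hu : orderOf u = 2)
    (huT : u • T ≠ T) {t₀ : G} (ht₀ : t₀ ∈ (T : Subgroup G)) (ht₀1 : t₀ ≠ 1)
    (x₁ x₂ x₃ : G ⧸ Subgroup.normalizer ((T : Subgroup G) : Set G))
    (h12 : x₁ ≠ x₂) (h13 : x₁ ≠ x₃) (h23 : x₂ ≠ x₃) :
    ∃ g : G, g • x₁ = QuotientGroup.mk 1 ∧ g • x₂ = QuotientGroup.mk u ∧
      g • x₃ = QuotientGroup.mk (t₀ * u) := by
  obtain ⟨g₁, rfl⟩ := QuotientGroup.mk_surjective x₁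
  have a1 : g₁⁻¹ • (QuotientGroup.mk g₁ : G ⧸ Subgroup.normalizer ((T : Subgroup G) : Set G)) =
      QuotientGroup.mk 1 := by
    rw [MulAction.Quotient.smul_mk, smul_eq_mul, inv_mul_cancel]
  have b2 : g₁⁻¹ • x₂ ≠ QuotientGroup.mk 1 := by
    intro heq
    rw [← a1] at heq
    exact h12 (smul_left_cancel _ heq).symm
  have b3 : g₁⁻¹ • x₃ ≠ QuotientGroup.mk 1 := by
    intro heq
    rw [← a1] at heq
    exact h13 (smul_left_cancel _ heq).symm
  obtain ⟨s, hs, hs2⟩ := cit_transitive h hu huT b2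
  have hsN : s⁻¹ ∈ Subgroup.normalizer ((T : Subgroup G) : Set G) :=
    Subgroup.le_normalizer (inv_mem hs)
  have c2 : s⁻¹ • g₁⁻¹ • x₂ = QuotientGroup.mk u := by rw [hs2, inv_smul_smul]
  have c3 : s⁻¹ • g₁⁻¹ • x₃ ≠ QuotientGroup.mk 1 := by
    intro heq
    rw [← smul_mk_one_of_mem T hsN] at heq
    exact b3 (smul_left_cancel _ heq)
  have c3' : s⁻¹ • g₁⁻¹ • x₃ ≠ QuotientGroup.mk u := by
    intro heq
    rw [← c2] at heq
    exact h23 (smul_left_cancel _ (smul_left_cancel _ heq)).symm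
  obtain ⟨r, hr, hr3⟩ := cit_transitive h hu huT c3
  have hr1 : r ≠ 1 := by
    intro h0
    rw [h0, one_smul] at hr3
    exact c3' hr3
  obtain ⟨d, hd, hdr⟩ := citD_transitive h hu huT hr hr1 ht₀ ht₀1
  refine ⟨d * s⁻¹ * g₁⁻¹, ?_, ?_, ?_⟩
  · rw [mul_smul, mul_smul, a1, smul_mk_one_of_mem T hsN, smul_mk_one_of_mem T (mem_citD.1 hd).1]
  · rw [mul_smul, mul_smul, c2, smul_mk_of_mem_citD T hd]
  · rw [mul_smul, mul_smul, hr3, ← mul_smul]
    have : d * r = t₀ * d := by rw [← hdr]; group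
    rw [this, mul_smul, smul_mk_of_mem_citD T hd, MulAction.Quotient.smul_mk, smul_eq_mul]


end

end Cfsg.Agent.Lib.Helper9
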