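import Mathlib

set_option autoImplicit false

namespace Cfsg.Agent.Lib.Helper9

open scoped IsMulCommutative

section
variable {G : Type*} [Group G] (T D : Subgroup G) [IsMulCommutative ↥T]

/-- conjugation by an element normalizing `T`, as an endomorphism of the additive version of `T` -/
noncomputable def conjEnd (hnorm : ∀ d ∈ D, ∀ a ∈ T, d * a * d⁻¹ ∈ T) (d : D) :
    AddMonoid.End (Additive ↥T) :=
  MonoidHom.toAdditive
    { toFun := fun a => ⟨(d : G) * a * (d : G)⁻¹, hnorm d d.2 a a.2⟩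
      map_one' := by
        apply Subtype.ext
        simp
      map_mul' := by
        intro a b
        apply Subtype.ext
        simp only [Subgroup.coe_mul]
        group }

theorem conjEnd_apply (hnorm : ∀ d ∈ D, ∀ a ∈ T, d * a * d⁻¹ ∈ T) (d : D) (a : Additive ↥T) :
    ((conjEnd T D hnorm d a).toMul : G) = (d : G) * (a.toMul : G) * (d : G)⁻¹ := rfl

end

/-- A commutative group `D` acting regularly by conjugation on the non-identity elements of a finite
commutative group `T` yields a field structure on `T`. -/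
theorem exists_field_of_regular {G : Type*} [Group G] (T D : Subgroup G) [Finite ↥T]
    (hTcomm : ∀ a ∈ T, ∀ b ∈ T, a * b = b * a)
    (hDcomm : ∀ a ∈ D, ∀ b ∈ D, a * b = b * a)
    (hnorm : ∀ d ∈ D, ∀ a ∈ T, d * a * d⁻¹ ∈ T)
    (e : G) (he : e ∈ T) (he1 : e ≠ 1)
    (hreg : ∀ a ∈ T, a ≠ 1 → ∃ d ∈ D, d * e * d⁻¹ = a) :
    ∃ (F : Type) (_ : Field F) (_ : Fintype F) (ι : F → G) (δ : F → G),
      Function.Injective ι ∧ (∀ a ∈ T, ∃ x, ι x = a) ∧ (∀ x, ι x ∈ T) ∧
      (∀ x y, ι (x + y) = ι x * ι y) ∧ ι 1 = e ∧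
      (∀ m, m ≠ 0 → δ m ∈ D ∧ ∀ x, ι (m * x) = δ m * ι x * (δ m)⁻¹) := by
  classical
  haveI : IsMulCommutative ↥T := ⟨⟨fun a b => Subtype.ext (hTcomm a a.2 b b.2)⟩⟩
  let c : D → AddMonoid.End (Additive ↥T) := conjEnd T D hnorm
  let R : Subring (AddMonoid.End (Additive ↥T)) := Subring.centralizer (Set.range c)
  let e' : Additive ↥T := Additive.ofMul ⟨e, he⟩
  -- evaluation at `e`
  have hcc : ∀ d d' : D, c d * c d' = c d' * c d := by
    intro d d'
    ext a
    show (d : G) * ((d' : G) * (a.toMul : G) * (d' : G)⁻¹) * (d : G)⁻¹ =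
      (d' : G) * ((d : G) * (a.toMul : G) * (d : G)⁻¹) * (d' : G)⁻¹
    have h1 := hDcomm d d.2 d' d'.2
    have e1 : (d : G) * ((d' : G) * (a.toMul : G) * (d' : G)⁻¹) * (d : G)⁻¹ =
        ((d : G) * (d' : G)) * (a.toMul : G) * ((d : G) * (d' : G))⁻¹ := by group
    have e2 : (d' : G) * ((d : G) * (a.toMul : G) * (d : G)⁻¹) * (d' : G)⁻¹ =
        ((d' : G) * (d : G)) * (a.toMul : G) * ((d' : G) * (d : G))⁻¹ := by group
    rw [e1, e2, h1]
  have hcR : ∀ d : D, c d ∈ R := by
    intro d
    rw [Subring.mem_centralizer_iff]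
    rintro _ ⟨d', rfl⟩
    exact hcc d' d
  have hc_e : ∀ d : D, ((c d e').toMul : G) = (d : G) * e * (d : G)⁻¹ := fun d => rfl
  -- an element of `R` vanishing at `e` is zero
  have k2 : ∀ f ∈ R, f e' = 0 → f = 0 := by
    intro f hf hfe
    ext a
    by_cases ha : (a.toMul : G) = 1
    · have : a = 0 := by
        apply Additive.toMul.injective
        apply Subtype.ext
        exact ha
      rw [this, map_zero]; rfl
    · obtain ⟨d, hd, hda⟩ := hreg (a.toMul : G) (a.toMul).2 ha
      have h1 : a = c ⟨d, hd⟩ e' := by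
        apply Additive.toMul.injective
        apply Subtype.ext
        rw [hc_e]
        exact hda.symm
      have h2 : f * c ⟨d, hd⟩ = c ⟨d, hd⟩ * f :=
        ((Subring.mem_centralizer_iff.1 hf) _ ⟨⟨d, hd⟩, rfl⟩).symm
      have h3 : f (c ⟨d, hd⟩ e') = c ⟨d, hd⟩ (f e') := by
        have := congrArg (fun g : AddMonoid.End (Additive ↥T) => g e') h2
        exact this
      rw [h1, h3, hfe, map_zero]; rfl
  have k3 : ∀ f ∈ R, ∀ g ∈ R, f e' = g e' → f = g := by
    intro f hf g hg hfg
    have h1 : f - g ∈ R := R.sub_mem hf hg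
    have h2 : (f - g) e' = 0 := by
      show f e' - g e' = 0
      rw [hfg, sub_self]
    exact sub_eq_zero.1 (k2 _ h1 h2)
  have k4 : ∀ f ∈ R, f = 0 ∨ ∃ d : D, f = c d := by
    intro f hf
    by_cases ha : ((f e').toMul : G) = 1
    · left
      apply k2 f hf
      apply Additive.toMul.injective
      apply Subtype.ext
      exact ha
    · right
      obtain ⟨d, hd, hda⟩ := hreg ((f e').toMul : G) ((f e').toMul).2 ha
      refine ⟨⟨d, hd⟩, k3 f hf _ (hcR _) ?_⟩
      apply Additive.toMul.injective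
      apply Subtype.ext
      rw [hc_e]
      exact hda.symm
  have hc_ne : ∀ d : D, c d ≠ 0 := by
    intro d h0
    have h1 : ((c d e').toMul : G) = 1 := by rw [h0]; rfl
    rw [hc_e] at h1
    apply he1
    have : e = (d : G)⁻¹ * ((d : G) * e * (d : G)⁻¹) * (d : G) := by group
    rw [this, h1]; group
  have hc_mul : ∀ d d' : D, c d * c d' = c (d * d') := by
    intro d d'
    ext a
    show (d : G) * ((d' : G) * (a.toMul : G) * (d' : G)⁻¹) * (d : G)⁻¹ =
      ((d * d' : D) : G) * (a.toMul : G) * ((d * d' : D) : G)⁻¹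
    rw [Subgroup.coe_mul]; group
  haveI : Finite (AddMonoid.End (Additive ↥T)) :=
    Finite.of_injective (fun f => (f : Additive ↥T → Additive ↥T)) DFunLike.coe_injective
  haveI : Nontrivial ↥R := by
    refine ⟨⟨0, 1, ?_⟩⟩
    intro h01
    have h1 : (0 : AddMonoid.End (Additive ↥T)) = 1 := congrArg Subtype.val h01
    have h2 : ((0 : AddMonoid.End (Additive ↥T)) e') = ((1 : AddMonoid.End (Additive ↥T)) e') := by
      rw [h1]
    apply he1
    have h3 : (((1 : AddMonoid.End (Additive ↥T)) e').toMul : G) = 1 := by rw [← h2]; rfl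
    exact h3
  haveI : NoZeroDivisors ↥R := by
    refine ⟨?_⟩
    rintro ⟨f, hf⟩ ⟨g, hg⟩ hfg
    have hfg' : f * g = 0 := congrArg Subtype.val hfg
    rcases k4 f hf with h1 | ⟨d, rfl⟩
    · left; exact Subtype.ext h1
    · rcases k4 g hg with h2 | ⟨d', rfl⟩
      · right; exact Subtype.ext h2
      · exfalso
        rw [hc_mul] at hfg'
        exact hc_ne _ hfg'
  haveI : IsDomain ↥R := NoZeroDivisors.to_isDomain _
  letI : Field ↥R := (Finite.isDomain_to_isField ↥R).toField
  haveI : Small.{0} ↥R := Countable.toSmall _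
  let φ : Shrink.{0} ↥R ≃+* ↥R := Shrink.ringEquiv ↥R
  haveI : Fintype (Shrink.{0} ↥R) := Fintype.ofFinite _
  let ι : Shrink.{0} ↥R → G := fun x => (((φ x : ↥R) : AddMonoid.End (Additive ↥T)) e').toMul
  let δ : Shrink.{0} ↥R → G := fun m =>
    if h : ∃ d : D, ((φ m : ↥R) : AddMonoid.End (Additive ↥T)) = c d then ((Classical.choose h : D) : G)
    else 1
  refine ⟨Shrink.{0} ↥R, inferInstance, inferInstance, ι, δ, ?_, ?_, ?_, ?_, ?_, ?_⟩
  · intro x y hxy
    apply φ.injective
    apply Subtype.ext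
    apply k3 _ (φ x).2 _ (φ y).2
    apply Additive.toMul.injective
    apply Subtype.ext
    exact hxy
  · intro a ha
    by_cases ha1 : a = 1
    · refine ⟨0, ?_⟩
      show ((((φ 0 : ↥R) : AddMonoid.End (Additive ↥T)) e').toMul : G) = a
      rw [map_zero, ha1]; rfl
    · obtain ⟨d, hd, hda⟩ := hreg a ha ha1
      refine ⟨φ.symm ⟨c ⟨d, hd⟩, hcR _⟩, ?_⟩
      show ((((φ (φ.symm ⟨c ⟨d, hd⟩, hcR _⟩) : ↥R) : AddMonoid.End (Additive ↥T)) e').toMul : G) = a
      rw [RingEquiv.apply_symm_apply]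
      exact hda
  · intro x
    exact ((((φ x : ↥R) : AddMonoid.End (Additive ↥T)) e').toMul).2
  · intro x y
    show ((((φ (x + y) : ↥R) : AddMonoid.End (Additive ↥T)) e').toMul : G) = _
    rw [map_add]
    rfl
  · show ((((φ 1 : ↥R) : AddMonoid.End (Additive ↥T)) e').toMul : G) = e
    rw [map_one]
    rfl
  · intro m hm
    have hφm : (φ m : ↥R) ≠ 0 := by
      intro h0
      apply hm
      apply φ.injective
      rw [h0, map_zero]
    have hex : ∃ d : D, ((φ m : ↥R) : AddMonoid.End (Additive ↥T)) = c d := by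
      rcases k4 _ (φ m).2 with h0 | h1
      · exfalso
        exact hφm (Subtype.ext h0)
      · exact h1
    have hδ : δ m = ((Classical.choose hex : D) : G) := dif_pos hex
    have hspec := Classical.choose_spec hex
    refine ⟨?_, ?_⟩
    · rw [hδ]; exact (Classical.choose hex).2
    · intro x
      show ((((φ (m * x) : ↥R) : AddMonoid.End (Additive ↥T)) e').toMul : G) = _
      rw [map_mul, hδ]
      show (((((φ m : ↥R) : AddMonoid.End (Additive ↥T)) *
        ((φ x : ↥R) : AddMonoid.End (Additive ↥T))) e').toMul : G) = _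
      have h5 : ((φ m : ↥R) : AddMonoid.End (Additive ↥T)) *
          ((φ x : ↥R) : AddMonoid.End (Additive ↥T)) =
          c (Classical.choose hex) * ((φ x : ↥R) : AddMonoid.End (Additive ↥T)) :=
        congrArg (· * ((φ x : ↥R) : AddMonoid.End (Additive ↥T))) hspec
      rw [h5]
      rfl

end Cfsg.Agent.Lib.Helper9
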