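import Mathlib

set_option autoImplicit false

namespace Cfsg.Agent.Lib.Helper9

open Matrix OnePoint

section
variable {F : Type} [Field F] [DecidableEq F]

/-- the action of `SL₂(F)` on the projective line by Möbius transformations -/
noncomputable def slAct : Matrix.SpecialLinearGroup (Fin 2) F →* Equiv.Perm (OnePoint F) :=
  (MulAction.toPermHom (GL (Fin 2) F) (OnePoint F)).comp Matrix.SpecialLinearGroup.toGL

theorem slAct_infty (A : Matrix.SpecialLinearGroup (Fin 2) F) :
    slAct A ∞ = if A.1 1 0 = 0 then ∞ else ((A.1 0 0 / A.1 1 0 : F) : OnePoint F) := by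
  show (Matrix.SpecialLinearGroup.toGL A) • (∞ : OnePoint F) = _
  rw [OnePoint.smul_infty_eq_ite]
  rfl

theorem slAct_coe (A : Matrix.SpecialLinearGroup (Fin 2) F) (x : F) :
    slAct A (x : OnePoint F) = if A.1 1 0 * x + A.1 1 1 = 0 then ∞ else
      (((A.1 0 0 * x + A.1 0 1) / (A.1 1 0 * x + A.1 1 1) : F) : OnePoint F) := by
  show (Matrix.SpecialLinearGroup.toGL A) • (x : OnePoint F) = _
  rw [OnePoint.smul_some_eq_ite]
  rfl

/-- upper unitriangular matrices -/
def supper (b : F) : Matrix.SpecialLinearGroup (Fin 2) F :=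
  ⟨!![1, b; 0, 1], by simp [Matrix.det_fin_two]⟩

theorem slAct_supper_infty (b : F) : slAct (supper b) ∞ = ∞ := by
  rw [slAct_infty]
  simp [supper]

theorem slAct_supper_coe (b x : F) :
    slAct (supper b) (x : OnePoint F) = ((b + x : F) : OnePoint F) := by
  rw [slAct_coe]
  simp [supper, add_comm]

/-- diagonal matrices -/
def sdiag (n : F) (hn : n ≠ 0) : Matrix.SpecialLinearGroup (Fin 2) F :=
  ⟨!![n, 0; 0, n⁻¹], by simp [Matrix.det_fin_two, hn]⟩

theorem slAct_sdiag_infty (n : F) (hn : n ≠ 0) : slAct (sdiag n hn) ∞ = ∞ := by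
  rw [slAct_infty]
  simp [sdiag]

theorem slAct_sdiag_coe (n : F) (hn : n ≠ 0) (x : F) :
    slAct (sdiag n hn) (x : OnePoint F) = ((n * n * x : F) : OnePoint F) := by
  rw [slAct_coe]
  simp [sdiag, hn]
  field_simp

/-- antidiagonal matrices (in characteristic two) -/
def santi (l : F) (hl : l ≠ 0) (h2 : (2 : F) = 0) : Matrix.SpecialLinearGroup (Fin 2) F :=
  ⟨!![0, l; l⁻¹, 0], by
    simp [Matrix.det_fin_two, hl]
    have : (-1 : F) = 1 := by linear_combination (-1 : F) * h2
    exact this⟩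

theorem slAct_santi_infty (l : F) (hl : l ≠ 0) (h2 : (2 : F) = 0) :
    slAct (santi l hl h2) ∞ = ((0 : F) : OnePoint F) := by
  rw [slAct_infty]
  simp [santi, hl]

theorem slAct_santi_zero (l : F) (hl : l ≠ 0) (h2 : (2 : F) = 0) :
    slAct (santi l hl h2) ((0 : F) : OnePoint F) = ∞ := by
  rw [slAct_coe]
  simp [santi]

theorem slAct_santi_coe (l : F) (hl : l ≠ 0) (h2 : (2 : F) = 0) (x : F) (hx : x ≠ 0) :
    slAct (santi l hl h2) (x : OnePoint F) = ((l * l / x : F) : OnePoint F) := by
  rw [slAct_coe]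
  simp [santi, hl, hx]
  field_simp

omit [DecidableEq F] in
theorem sq_eq_one_char_two (h2 : (2 : F) = 0) {a : F} (ha : a * a = 1) : a = 1 := by
  have h1 : (a - 1) * (a - 1) = 0 := by linear_combination ha - a * h2 + h2
  have h3 : a - 1 = 0 := by
    rcases mul_eq_zero.1 h1 with h | h <;> exact h
  exact sub_eq_zero.1 h3

/-- in characteristic two the action is faithful -/
theorem slAct_injective (h2 : (2 : F) = 0) : Function.Injective (slAct (F := F)) := by
  rw [injective_iff_map_eq_one]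
  intro A hA
  have hdet : A.1 0 0 * A.1 1 1 - A.1 0 1 * A.1 1 0 = 1 := by
    have := A.2
    rwa [Matrix.det_fin_two] at this
  have hinf : slAct A ∞ = ∞ := by rw [hA]; rfl
  have h0 : slAct A ((0 : F) : OnePoint F) = ((0 : F) : OnePoint F) := by rw [hA]; rfl
  have h1 : slAct A ((1 : F) : OnePoint F) = ((1 : F) : OnePoint F) := by rw [hA]; rfl
  rw [slAct_infty] at hinf
  have hc : A.1 1 0 = 0 := by
    by_contra hc
    rw [if_neg hc] at hinf
    exact OnePoint.coe_ne_infty _ hinf
  rw [hc, mul_zero, sub_zero] at hdet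
  have hd : A.1 1 1 ≠ 0 := by
    intro hd
    rw [hd, mul_zero] at hdet
    exact zero_ne_one hdet
  rw [slAct_coe, hc, zero_mul, zero_add, if_neg hd, mul_zero, zero_add] at h0
  have hb : A.1 0 1 = 0 := by
    have := OnePoint.coe_injective h0
    rcases div_eq_zero_iff.1 this with h | h
    · exact h
    · exact absurd h hd
  rw [slAct_coe, hc, zero_mul, zero_add, if_neg hd, mul_one, hb, add_zero] at h1
  have had : A.1 0 0 = A.1 1 1 := by
    have := OnePoint.coe_injective h1
    rwa [div_eq_one_iff_eq hd] at this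
  rw [had] at hdet
  have hd1 : A.1 1 1 = 1 := sq_eq_one_char_two h2 hdet
  apply Subtype.ext
  ext i j
  fin_cases i <;> fin_cases j
  · show A.1 0 0 = 1
    rw [had, hd1]
  · show A.1 0 1 = 0
    exact hb
  · show A.1 1 0 = 0
    exact hc
  · show A.1 1 1 = 1
    exact hd1

omit [DecidableEq F] in
/-- in characteristic two `PSL₂` is `SL₂` -/
theorem center_SL2_eq_bot (h2 : (2 : F) = 0) :
    Subgroup.center (Matrix.SpecialLinearGroup (Fin 2) F) = ⊥ := by
  rw [Subgroup.eq_bot_iff_forall]
  intro A hA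
  obtain ⟨r, hr, hrA⟩ := Matrix.SpecialLinearGroup.mem_center_iff.1 hA
  rw [Fintype.card_fin, pow_two] at hr
  have hr1 := sq_eq_one_char_two h2 hr
  rw [hr1] at hrA
  apply Subtype.ext
  rw [← hrA]
  simp

omit [DecidableEq F] in
theorem nonempty_mulEquiv_PSL2 (h2 : (2 : F) = 0) :
    Nonempty (Matrix.SpecialLinearGroup (Fin 2) F ≃* Matrix.ProjectiveSpecialLinearGroup (Fin 2) F) := by
  refine ⟨MulEquiv.symm ?_⟩
  exact (QuotientGroup.quotientMulEquivOfEq (center_SL2_eq_bot h2)).trans
    (QuotientGroup.quotientBot)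

end

end Cfsg.Agent.Lib.Helper9
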