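import Mathlib
import Cfsg.Agent.Lib.Helper9.CIT
import Cfsg.Agent.Lib.Helper9.FieldOfAffine
import Cfsg.Agent.Lib.Helper9.SL2Act
import Cfsg.Agent.Lib.helper15.SL2Card
import Cfsg.Agent.S1229

set_option autoImplicit false

namespace Cfsg.Agent.Lib.Helper9

open OnePoint

/-- coordinates on the Sylow subgroup `T` by a field, with `D` acting by scalars -/
structure CITFieldData {G : Type*} [Group G] (T : Sylow 2 G) (u : G) (F : Type) [Field F] where
  ι : F → G
  δ : F → G
  ι_inj : Function.Injective ι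
  ι_surj : ∀ a ∈ (T : Subgroup G), ∃ x, ι x = a
  ι_mem : ∀ x, ι x ∈ (T : Subgroup G)
  ι_add : ∀ x y, ι (x + y) = ι x * ι y
  δ_mem : ∀ m, m ≠ 0 → δ m ∈ citD T u
  δ_conj : ∀ m, m ≠ 0 → ∀ x, ι (m * x) = δ m * ι x * (δ m)⁻¹
  δ_surj : ∀ d ∈ citD T u, ∃ m, m ≠ 0 ∧ δ m = d

section
variable {G : Type*} [Group G] [Finite G] {T : Sylow 2 G}

theorem citD_conj_unique (h : CITHyp T) {u : G} (hu : orderOf u = 2) (huT : u • T ≠ T)
    {e d d' : G} (he : e ∈ (T : Subgroup G)) (he1 : e ≠ 1) (hd : d ∈ citD T u)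
    (hd' : d' ∈ citD T u) (heq : d * e * d⁻¹ = d' * e * d'⁻¹) : d = d' := by
  have h1 : d'⁻¹ * d ∈ Subgroup.centralizer ({e} : Set G) := by
    rw [Subgroup.mem_centralizer_singleton_iff]
    have : d'⁻¹ * d * e = d'⁻¹ * (d * e * d⁻¹) * d := by group
    rw [this, heq]; group
  rw [h.centralizer_eq he he1] at h1
  have h2 := citD_disjoint h hu huT (mul_mem (inv_mem hd') hd) h1
  have : d = d' * (d'⁻¹ * d) := by group
  rw [this, h2, mul_one]

theorem exists_citFieldData (h : CITHyp T) {u : G} (hu : orderOf u = 2) (huT : u • T ≠ T) :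
    ∃ (F : Type) (_ : Field F) (_ : Fintype F), Nonempty (CITFieldData T u F) := by
  obtain ⟨e, he, he1⟩ : ∃ e ∈ (T : Subgroup G), e ≠ 1 := by
    by_contra hno
    apply h.ne_bot
    rw [Subgroup.eq_bot_iff_forall]
    intro x hx
    by_contra hx1
    exact hno ⟨x, hx, hx1⟩
  obtain ⟨F, instF, instFin, ι, δ, hinj, hsurj, hmem, hadd, hone, hδ⟩ :=
    exists_field_of_regular (T : Subgroup G) (citD T u)
      (fun a ha b hb => h.comm ha hb)
      (fun a ha b hb => citD_comm h hu huT ha hb)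
      (fun d hd a ha => (Subgroup.mem_normalizer_iff.1 (mem_citD.1 hd).1 a).1 ha)
      e he he1
      (fun a ha ha1 => citD_transitive h hu huT he he1 ha ha1)
  refine ⟨F, instF, instFin, ⟨⟨ι, δ, hinj, hsurj, hmem, hadd, fun m hm => (hδ m hm).1,
    fun m hm => (hδ m hm).2, ?_⟩⟩⟩
  intro d hd
  have h1 : d * e * d⁻¹ ∈ (T : Subgroup G) :=
    (Subgroup.mem_normalizer_iff.1 (mem_citD.1 hd).1 e).1 he
  obtain ⟨m, hm⟩ := hsurj _ h1
  have hzero : ι 0 = 1 := by
    have := hadd 0 0
    rw [add_zero] at this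
    exact (mul_eq_left.1 this.symm)
  have hm0 : m ≠ 0 := by
    intro h0
    rw [h0, hzero] at hm
    apply he1
    have : e = d⁻¹ * (d * e * d⁻¹) * d := by group
    rw [this, ← hm]; group
  refine ⟨m, hm0, ?_⟩
  have h2 := (hδ m hm0).2 1
  rw [mul_one, hone, hm] at h2
  exact (citD_conj_unique h hu huT he he1 hd (hδ m hm0).1 h2).symm

end

section
variable {G : Type*} [Group G] [Finite G] {T : Sylow 2 G} {u : G} {F : Type} [Field F]
  (c : CITFieldData T u F)

omit [Finite G] in
theorem CITFieldData.ι_zero : c.ι 0 = 1 := by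
  have := c.ι_add 0 0
  rw [add_zero] at this
  exact (mul_eq_left.1 this.symm)

theorem CITFieldData.two_eq_zero (c : CITFieldData T u F) (h : CITHyp T) : (2 : F) = 0 := by
  apply c.ι_inj
  rw [c.ι_zero, ← one_add_one_eq_two, c.ι_add, ← pow_two]
  exact h.exp_two _ (c.ι_mem 1)

/-- the identification of the projective line over `F` with the cosets of `N(T)` -/
def CITFieldData.Φ : OnePoint F → G ⧸ Subgroup.normalizer ((T : Subgroup G) : Set G) :=
  fun p => p.elim (QuotientGroup.mk 1) (fun x => QuotientGroup.mk (c.ι x * u))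

omit [Finite G] in
theorem CITFieldData.Φ_infty : c.Φ ∞ = QuotientGroup.mk 1 := rfl

omit [Finite G] in
theorem CITFieldData.Φ_coe (x : F) :
    c.Φ (x : OnePoint F) = c.ι x • (QuotientGroup.mk u :
      G ⧸ Subgroup.normalizer ((T : Subgroup G) : Set G)) := rfl

omit [Finite G] in
theorem CITFieldData.Φ_zero :
    c.Φ ((0 : F) : OnePoint F) = (QuotientGroup.mk u :
      G ⧸ Subgroup.normalizer ((T : Subgroup G) : Set G)) := by
  rw [c.Φ_coe, c.ι_zero, one_smul]

theorem mk_u_ne (huT : u • T ≠ T) :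
    (QuotientGroup.mk u : G ⧸ Subgroup.normalizer ((T : Subgroup G) : Set G)) ≠
      QuotientGroup.mk 1 := by
  intro heq
  rw [mk_eq_mk_iff_smul, one_smul] at heq
  exact huT heq

theorem CITFieldData.Φ_injective (h : CITHyp T) (huT : u • T ≠ T) :
    Function.Injective c.Φ := by
  intro p p' hpp
  induction p using OnePoint.rec with
  | infty =>
    induction p' using OnePoint.rec with
    | infty => rfl
    | coe y =>
      exfalso
      rw [c.Φ_infty, c.Φ_coe] at hpp
      have h1 : (QuotientGroup.mk u : G ⧸ Subgroup.normalizer ((T : Subgroup G) : Set G)) =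
          (c.ι y)⁻¹ • QuotientGroup.mk 1 := by rw [hpp, inv_smul_smul]
      rw [smul_mk_one_of_mem T (Subgroup.le_normalizer (inv_mem (c.ι_mem y)))] at h1
      exact mk_u_ne huT h1
  | coe x =>
    induction p' using OnePoint.rec with
    | infty =>
      exfalso
      rw [c.Φ_infty, c.Φ_coe] at hpp
      have h1 : (QuotientGroup.mk u : G ⧸ Subgroup.normalizer ((T : Subgroup G) : Set G)) =
          (c.ι x)⁻¹ • QuotientGroup.mk 1 := by rw [← hpp, inv_smul_smul]
      rw [smul_mk_one_of_mem T (Subgroup.le_normalizer (inv_mem (c.ι_mem x)))] at h1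
      exact mk_u_ne huT h1
    | coe y =>
      rw [c.Φ_coe, c.Φ_coe] at hpp
      have h1 : ((c.ι y)⁻¹ * c.ι x) • (QuotientGroup.mk u :
          G ⧸ Subgroup.normalizer ((T : Subgroup G) : Set G)) = QuotientGroup.mk u := by
        rw [mul_smul, hpp, inv_smul_smul]
      have h2 := cit_semiregular h (mul_mem (inv_mem (c.ι_mem y)) (c.ι_mem x)) (mk_u_ne huT) h1
      have h3 : c.ι x = c.ι y := by
        have : c.ι x = c.ι y * ((c.ι y)⁻¹ * c.ι x) := by group
        rw [this, h2, mul_one]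
      rw [c.ι_inj h3]

theorem CITFieldData.Φ_surjective (h : CITHyp T) (hu : orderOf u = 2) (huT : u • T ≠ T) :
    Function.Surjective c.Φ := by
  intro x
  by_cases hx : x = QuotientGroup.mk 1
  · exact ⟨∞, hx.symm⟩
  · obtain ⟨s, hs, hsx⟩ := cit_transitive h hu huT hx
    obtain ⟨y, hy⟩ := c.ι_surj s hs
    refine ⟨(y : OnePoint F), ?_⟩
    rw [c.Φ_coe, hy, hsx]

variable [DecidableEq F]

/-- `g` acts on the cosets as the matrix `A` acts on the projective line -/
def CITFieldData.IsMoebius (g : G) (A : Matrix.SpecialLinearGroup (Fin 2) F) : Prop :=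
  ∀ p : OnePoint F, g • c.Φ p = c.Φ (slAct A p)

theorem CITFieldData.isMoebius_T {s : G} (hs : s ∈ (T : Subgroup G)) :
    ∃ A, c.IsMoebius s A := by
  obtain ⟨b, hb⟩ := c.ι_surj s hs
  refine ⟨supper b, ?_⟩
  intro p
  induction p using OnePoint.rec with
  | infty =>
    rw [slAct_supper_infty, c.Φ_infty]
    exact smul_mk_one_of_mem T (Subgroup.le_normalizer hs)
  | coe x =>
    rw [slAct_supper_coe, c.Φ_coe, c.Φ_coe, ← mul_smul, c.ι_add, hb]

/-- elements of `D` act by scalars -/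
theorem CITFieldData.smul_δ {m : F} (hm : m ≠ 0) (x : F) :
    c.δ m • c.Φ (x : OnePoint F) = c.Φ ((m * x : F) : OnePoint F) := by
  rw [c.Φ_coe, c.Φ_coe, c.δ_conj m hm]
  have h1 : (c.δ m)⁻¹ • (QuotientGroup.mk u : G ⧸ Subgroup.normalizer ((T : Subgroup G) : Set G)) =
      QuotientGroup.mk u := by
    rw [inv_smul_eq_iff, smul_mk_of_mem_citD T (c.δ_mem m hm)]
  rw [mul_smul, mul_smul, h1]

theorem CITFieldData.isMoebius_D (h : CITHyp T) {d : G} (hd : d ∈ citD T u) :
    ∃ A, c.IsMoebius d A := by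
  obtain ⟨m, hm0, hmd⟩ := c.δ_surj d hd
  have h2 := c.two_eq_zero h
  haveI : CharP F 2 := CharTwo.of_one_ne_zero_of_two_eq_zero one_ne_zero h2
  haveI : Finite F := Finite.of_injective c.ι c.ι_inj
  obtain ⟨n, hn⟩ := FiniteField.isSquare_of_char_two (ringChar.eq F 2) m
  have hn0 : n ≠ 0 := by
    intro h0
    rw [h0, mul_zero] at hn
    exact hm0 hn
  refine ⟨sdiag n hn0, ?_⟩
  intro p
  induction p using OnePoint.rec with
  | infty =>
    rw [slAct_sdiag_infty, c.Φ_infty]
    exact smul_mk_one_of_mem T (mem_citD.1 hd).1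
  | coe x =>
    rw [slAct_sdiag_coe, ← hn, ← hmd, c.smul_δ hm0]

theorem CITFieldData.isMoebius_u (h : CITHyp T) (hu : orderOf u = 2) (huT : u • T ≠ T) :
    ∃ A, c.IsMoebius u A := by
  have h2 := c.two_eq_zero h
  haveI : CharP F 2 := CharTwo.of_one_ne_zero_of_two_eq_zero one_ne_zero h2
  haveI : Finite F := Finite.of_injective c.ι c.ι_inj
  have hinj := c.Φ_injective h huT
  have hui : u⁻¹ = u := inv_eq_self_of_orderOf_two hu
  have huu : u * u = 1 := mul_self_of_orderOf_two hu
  have hu_inf : u • c.Φ ∞ = c.Φ ((0 : F) : OnePoint F) := by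
    rw [c.Φ_infty, c.Φ_zero, MulAction.Quotient.smul_mk, smul_eq_mul, mul_one]
  have hu_zero : u • c.Φ ((0 : F) : OnePoint F) = c.Φ ∞ := by
    rw [c.Φ_infty, c.Φ_zero, MulAction.Quotient.smul_mk, smul_eq_mul, huu]
  obtain ⟨p, hp⟩ := c.Φ_surjective h hu huT (u • c.Φ ((1 : F) : OnePoint F))
  obtain ⟨κ, hκ0, hκ⟩ : ∃ κ : F, κ ≠ 0 ∧ u • c.Φ ((1 : F) : OnePoint F) = c.Φ (κ : OnePoint F) := by
    induction p using OnePoint.rec with
    | infty =>
      exfalso
      rw [← hu_zero] at hp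
      have := hinj (smul_left_cancel u hp)
      exact zero_ne_one (OnePoint.coe_injective this)
    | coe κ =>
      refine ⟨κ, ?_, hp.symm⟩
      intro h0
      rw [h0, ← hu_inf] at hp
      have := hinj (smul_left_cancel u hp)
      exact OnePoint.coe_ne_infty _ this.symm
  have hux : ∀ x : F, x ≠ 0 → u • c.Φ (x : OnePoint F) = c.Φ ((x⁻¹ * κ : F) : OnePoint F) := by
    intro x hx
    have h1 : c.Φ (x : OnePoint F) = c.δ x • c.Φ ((1 : F) : OnePoint F) := by
      rw [c.smul_δ hx, mul_one]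
    have h3 : u * c.δ x = (c.δ x)⁻¹ * u := by
      have := citD_inv h hu huT (c.δ_mem x hx)
      rw [← this]; group
    have h4 : (c.δ x)⁻¹ • c.Φ (κ : OnePoint F) = c.Φ ((x⁻¹ * κ : F) : OnePoint F) := by
      rw [inv_smul_eq_iff, c.smul_δ hx, ← mul_assoc, mul_inv_cancel₀ hx, one_mul]
    rw [h1, ← mul_smul, h3, mul_smul, hκ, h4]
  obtain ⟨l, hl⟩ := FiniteField.isSquare_of_char_two (ringChar.eq F 2) κ
  have hl0 : l ≠ 0 := by
    intro h0
    rw [h0, mul_zero] at hl
    exact hκ0 hl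
  refine ⟨santi l hl0 h2, ?_⟩
  intro p
  induction p using OnePoint.rec with
  | infty => rw [slAct_santi_infty, hu_inf]
  | coe x =>
    by_cases hx : x = 0
    · rw [hx, slAct_santi_zero, hu_zero]
    · rw [slAct_santi_coe _ _ _ _ hx, hux x hx, ← hl, div_eq_inv_mul]

/-- every element of `G` acts as a Möbius transformation -/
theorem CITFieldData.exists_isMoebius (h : CITHyp T) (hu : orderOf u = 2) (huT : u • T ≠ T)
    (g : G) : ∃ A, c.IsMoebius g A := by
  let M : Subgroup G :=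
    { carrier := {g | ∃ A, c.IsMoebius g A}
      one_mem' := ⟨1, fun p => by rw [one_smul, map_one]; rfl⟩
      mul_mem' := by
        rintro g g' ⟨A, hA⟩ ⟨A', hA'⟩
        refine ⟨A * A', fun p => ?_⟩
        rw [mul_smul, hA' p, hA (slAct A' p), map_mul]
        rfl
      inv_mem' := by
        rintro g ⟨A, hA⟩
        refine ⟨A⁻¹, fun p => ?_⟩
        rw [inv_smul_eq_iff, hA (slAct A⁻¹ p), map_inv]
        show c.Φ p = c.Φ (slAct A ((slAct A)⁻¹ p))
        rw [Equiv.Perm.inv_def, Equiv.apply_symm_apply] }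
  have hT : ∀ s ∈ (T : Subgroup G), s ∈ M := fun s hs => c.isMoebius_T hs
  have hD : ∀ d ∈ citD T u, d ∈ M := fun d hd => c.isMoebius_D h hd
  have hu' : u ∈ M := c.isMoebius_u h hu huT
  have hH : ∀ x ∈ Subgroup.normalizer ((T : Subgroup G) : Set G), x ∈ M := by
    intro x hx
    obtain ⟨d, hd, t, ht, hxdt⟩ := citD_mul h hu huT hx
    rw [hxdt]
    exact mul_mem (hD d hd) (hT t ht)
  show g ∈ M
  by_cases hg : g ∈ Subgroup.normalizer ((T : Subgroup G) : Set G)
  · exact hH g hg
  · have hx : g • (QuotientGroup.mk 1 : G ⧸ Subgroup.normalizer ((T : Subgroup G) : Set G)) ≠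
        QuotientGroup.mk 1 := by
      intro heq
      apply hg
      rw [smul_mk_eq_mk_iff] at heq
      simpa using heq
    obtain ⟨s, hs, hsx⟩ := cit_transitive h hu huT hx
    have h1 : (s * u)⁻¹ * g ∈ Subgroup.normalizer ((T : Subgroup G) : Set G) := by
      rw [MulAction.Quotient.smul_mk, MulAction.Quotient.smul_mk, smul_eq_mul, smul_eq_mul,
        mul_one, QuotientGroup.eq] at hsx
      have := inv_mem hsx
      simpa [mul_assoc] using this
    have : g = s * u * ((s * u)⁻¹ * g) := by group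
    rw [this]
    exact mul_mem (mul_mem (hT s hs) hu') (hH _ h1)

omit [DecidableEq F] in
theorem CITFieldData.card_eq (c : CITFieldData T u F) : Nat.card F = Nat.card (T : Subgroup G) := by
  let f : F → ↥(T : Subgroup G) := fun x => ⟨c.ι x, c.ι_mem x⟩
  have hbij : Function.Bijective f := by
    constructor
    · intro x y hxy
      exact c.ι_inj (congrArg Subtype.val hxy)
    · rintro ⟨a, ha⟩
      obtain ⟨x, hx⟩ := c.ι_surj a ha
      exact ⟨x, Subtype.ext hx⟩
  exact Nat.card_congr (Equiv.ofBijective f hbij)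

theorem CITFieldData.isMoebius_unique (h : CITHyp T) (huT : u • T ≠ T) {g : G}
    {A A' : Matrix.SpecialLinearGroup (Fin 2) F} (hA : c.IsMoebius g A) (hA' : c.IsMoebius g A') :
    A = A' := by
  apply slAct_injective (c.two_eq_zero h)
  ext p
  apply c.Φ_injective h huT
  rw [← hA p, ← hA' p]

theorem CITFieldData.nonempty_mulEquiv (c : CITFieldData T u F) (h : CITHyp T) (hu : orderOf u = 2) (huT : u • T ≠ T)
    [Fintype F] :
    Nonempty (G ≃* Matrix.SpecialLinearGroup (Fin 2) F) := by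
  have hex := c.exists_isMoebius h hu huT
  let ψ₀ : G → Matrix.SpecialLinearGroup (Fin 2) F := fun g => Classical.choose (hex g)
  have hψ₀ : ∀ g, c.IsMoebius g (ψ₀ g) := fun g => Classical.choose_spec (hex g)
  have hmul : ∀ g g', ψ₀ (g * g') = ψ₀ g * ψ₀ g' := by
    intro g g'
    apply c.isMoebius_unique h huT (hψ₀ (g * g'))
    intro p
    rw [mul_smul, hψ₀ g' p, hψ₀ g (slAct (ψ₀ g') p), map_mul]
    rfl
  let ψ : G →* Matrix.SpecialLinearGroup (Fin 2) F := MonoidHom.mk' ψ₀ hmul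
  have hinj : Function.Injective ψ := by
    rw [injective_iff_map_eq_one]
    intro g hg
    have hg' : ψ₀ g = 1 := hg
    have hfix : ∀ p, g • c.Φ p = c.Φ p := by
      intro p
      rw [hψ₀ g p, hg', map_one]
      rfl
    have hΦ := c.Φ_injective h huT
    refine (Cfsg.Agent.S1229.result T h.hnc h.hnn h.hC).2.1 g (c.Φ ∞) (c.Φ ((0 : F) : OnePoint F))
      (c.Φ ((1 : F) : OnePoint F)) ?_ ?_ ?_ (hfix _) (hfix _) (hfix _)
    · intro heq
      exact OnePoint.infty_ne_coe _ (hΦ heq)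
    · intro heq
      exact OnePoint.infty_ne_coe _ (hΦ heq)
    · intro heq
      exact zero_ne_one (OnePoint.coe_injective (hΦ heq))
  -- cardinalities
  have hq : Fintype.card F = Nat.card (T : Subgroup G) := by
    rw [← Nat.card_eq_fintype_card]; exact c.card_eq
  have hcardSL := Cfsg.Agent.Lib.helper15.card_SL2 (F := F)
  have huH : u ∉ Subgroup.normalizer ((T : Subgroup G) : Set G) := fun hmem =>
    huT (Sylow.smul_eq_iff_mem_normalizer.2 hmem)
  have hcardH := (Cfsg.Agent.S1227.result T h.hnc h.hnn h.hC u hu huH).2.1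
  have hcardX : Nat.card (G ⧸ Subgroup.normalizer ((T : Subgroup G) : Set G)) =
      Nat.card (T : Subgroup G) + 1 := by
    rw [← Nat.card_congr (Equiv.ofBijective c.Φ ⟨c.Φ_injective h huT, c.Φ_surjective h hu huT⟩)]
    show Nat.card (Option F) = _
    rw [Finite.card_option, c.card_eq]
  have hcardG : Nat.card G = Nat.card (Matrix.SpecialLinearGroup (Fin 2) F) := by
    rw [hcardSL, hq, ← Subgroup.card_mul_index (Subgroup.normalizer ((T : Subgroup G) : Set G)),
      Subgroup.index_eq_card, hcardX, hcardH]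
    have h4 := h.four_le_card
    have hTT : (Nat.card T : ℕ) = Nat.card (T : Subgroup G) := rfl
    rw [hTT]
    obtain ⟨k, hk⟩ : ∃ k, Nat.card (T : Subgroup G) = k + 1 := ⟨Nat.card (T : Subgroup G) - 1, by omega⟩
    rw [hk]
    have e1 : (k + 1) ^ 2 - 1 = k * (k + 2) := by
      have : (k + 1) ^ 2 = k * (k + 2) + 1 := by ring
      omega
    rw [e1, Nat.add_sub_cancel]
    ring
  have hbij : Function.Bijective ψ := hinj.bijective_of_nat_card_le hcardG.ge
  exact ⟨MulEquiv.ofBijective ψ hbij⟩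


end

end Cfsg.Agent.Lib.Helper9
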