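import Mathlib
import Cfsg.Agent.Lib.helper15.PSL.Defs
import Cfsg.Agent.Lib.Helper29.LeoConcrete

/-!
# Project PSL (S4504), piece CENPROD : `C_G(P) = P × Z(G)` and `Z(G)` is a `p'`-group
-/

set_option autoImplicit false
set_option linter.unusedVariables false
set_option linter.unusedSectionVars false
open scoped ComplexConjugate
open Classical

namespace Cfsg.Agent.Lib.helper15.PSL

open Cfsg.Agent.Lib.helper7 Cfsg.Agent.Lib.helper7.BR Cfsg.Agent.Lib.helper2 Cfsg.Agent.Lib.Helper25
  Cfsg.Agent.Lib.Helper29 Cfsg.Agent.Lib.helper15.BH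

universe u

variable {G : Type u} [Group G] [Fintype G] {p : ℕ} [Fact p.Prime]

/-- a nontrivial element of a Sylow subgroup of prime order generates it -/
theorem pslcenprod_zpowers {P : Sylow p G} (hP : Nat.card ↥(P : Subgroup G) = p) {x : G}
    (hx : x ∈ (P : Subgroup G)) (hx1 : x ≠ 1) : Subgroup.zpowers x = (P : Subgroup G) := by
  have hp : p.Prime := Fact.out
  have hle : Subgroup.zpowers x ≤ (P : Subgroup G) := by
    rw [Subgroup.zpowers_le]; exact hx
  apply Subgroup.eq_of_le_of_card_ge hle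
  have hdvd : Nat.card ↥(Subgroup.zpowers x) ∣ p := by
    rw [← hP]; exact Subgroup.card_dvd_of_le hle
  rw [Nat.card_zpowers] at hdvd ⊢
  rcases (Nat.dvd_prime hp).mp hdvd with h1 | h1
  · exact absurd (orderOf_eq_one_iff.mp h1) hx1
  · rw [h1, hP]

/-- `P ∩ Z(G) = 1` when `P` of prime order is not normal -/
theorem pslcenprod_inf {P : Sylow p G} (hP : Nat.card ↥(P : Subgroup G) = p)
    (hn : ¬ (P : Subgroup G).Normal) {x : G} (hx : x ∈ (P : Subgroup G))
    (hxZ : x ∈ Subgroup.center G) : x = 1 := by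
  by_contra hx1
  apply hn
  have hgen := pslcenprod_zpowers hP hx hx1
  refine ⟨fun n hn g => ?_⟩
  have hnZ : n ∈ Subgroup.center G := by
    rw [← hgen] at hn
    obtain ⟨k, rfl⟩ := Subgroup.mem_zpowers_iff.mp hn
    exact Subgroup.zpow_mem _ hxZ k
  have : g * n * g⁻¹ = n := by
    rw [Subgroup.mem_center_iff] at hnZ
    rw [hnZ g, mul_inv_cancel_right]
  rw [this]; exact hn

theorem cen_prod {f : ℕ} {P : Sylow p G} (hL : Loc p f P) :
    ¬ p ∣ Nat.card ↥(Subgroup.center G) ∧
      ∀ c ∈ cen P, ∃ x ∈ (P : Subgroup G), ∃ ζ ∈ Subgroup.center G, c = x * ζ := by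
  have hp : p.Prime := Fact.out
  have hZC : Subgroup.center G ≤ cen P := Subgroup.center_le_centralizer _
  constructor
  · intro hdvd
    rw [Nat.card_eq_fintype_card] at hdvd
    obtain ⟨ζ, hζ⟩ := exists_prime_orderOf_dvd_card p hdvd
    have hζG : orderOf (ζ : G) = p := by rw [Subgroup.orderOf_coe]; exact hζ
    have hpg : IsPGroup p (Subgroup.zpowers (ζ : G)) :=
      IsPGroup.of_card (n := 1) (by rw [Nat.card_zpowers, hζG, pow_one])
    have hmem : (ζ : G) ∈ (P : Subgroup G) := leoc_pel (hZC ζ.2) hpg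
    have h1 := pslcenprod_inf hL.cardP hL.not_normal hmem ζ.2
    rw [h1, orderOf_one] at hζG
    exact hp.one_lt.ne hζG
  · -- the product map `P × Z → C` is injective, hence bijective
    have hPC : (P : Subgroup G) ≤ cen P := by
      intro a ha
      by_cases ha1 : a = 1
      · rw [ha1]; exact Subgroup.one_mem _
      · have hgen := pslcenprod_zpowers hL.cardP ha ha1
        rw [Subgroup.mem_centralizer_iff]
        intro b hb
        rw [← hgen] at hb
        obtain ⟨k, rfl⟩ := Subgroup.mem_zpowers_iff.mp hb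
        exact (Commute.zpow_left (Commute.refl a) k).eq
    let φ : ↥(P : Subgroup G) × ↥(Subgroup.center G) → ↥(cen P) :=
      fun xz => ⟨(xz.1 : G) * (xz.2 : G), Subgroup.mul_mem _ (hPC xz.1.2) (hZC xz.2.2)⟩
    have hinj : Function.Injective φ := by
      rintro ⟨x, z⟩ ⟨x', z'⟩ h
      have h' : (x : G) * (z : G) = (x' : G) * (z' : G) := congrArg Subtype.val h
      have hz : (z : G) ∈ Subgroup.center G := z.2
      have hz' : (z' : G) ∈ Subgroup.center G := z'.2
      have hkey : (x' : G)⁻¹ * (x : G) = (z' : G) * (z : G)⁻¹ := by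
        have : (x : G) = (x' : G) * (z' : G) * (z : G)⁻¹ := by rw [← h', mul_inv_cancel_right]
        rw [this]; group
      have hmemP : (x' : G)⁻¹ * (x : G) ∈ (P : Subgroup G) :=
        Subgroup.mul_mem _ (Subgroup.inv_mem _ x'.2) x.2
      have hmemZ : (x' : G)⁻¹ * (x : G) ∈ Subgroup.center G := by
        rw [hkey]; exact Subgroup.mul_mem _ hz' (Subgroup.inv_mem _ hz)
      have h1 := pslcenprod_inf hL.cardP hL.not_normal hmemP hmemZ
      have hxx : (x : G) = (x' : G) := by
        have := inv_mul_eq_one.mp h1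
        exact this.symm
      have hzz : (z : G) = (z' : G) := by
        rw [hxx] at h'
        exact mul_left_cancel h'
      exact Prod.ext (Subtype.ext hxx) (Subtype.ext hzz)
    have hcard : Fintype.card (↥(P : Subgroup G) × ↥(Subgroup.center G)) = Fintype.card ↥(cen P) := by
      rw [Fintype.card_prod, ← Nat.card_eq_fintype_card, ← Nat.card_eq_fintype_card,
        ← Nat.card_eq_fintype_card, hL.cardP, hL.cardC]
    have hbij := (Fintype.bijective_iff_injective_and_card φ).mpr ⟨hinj, hcard⟩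
    intro c hc
    obtain ⟨⟨x, z⟩, hxz⟩ := hbij.2 ⟨c, hc⟩
    exact ⟨x, x.2, z, z.2, (congrArg Subtype.val hxz).symm⟩

end Cfsg.Agent.Lib.helper15.PSL
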