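import Mathlib
import Cfsg.Agent.Lib.helper15.PSL.Defs
import Cfsg.Agent.Lib.Helper29.LeoConcrete
import Cfsg.Agent.Lib.Helper9.PSLCENPROD

/-!
# Project PSL (S4504), piece SINGSUM : the sum of a class function over the `p`-singular elements
-/

set_option autoImplicit false
set_option linter.unusedVariables false
set_option linter.unusedSectionVars false
open scoped ComplexConjugate
open Classical

namespace Cfsg.Agent.Lib.helper15.PSL

open Cfsg.Agent.Lib.helper7 Cfsg.Agent.Lib.helper7.BR Cfsg.Agent.Lib.helper2 Cfsg.Agent.Lib.Helper25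
  Cfsg.Agent.Lib.Helper29 Cfsg.Agent.Lib.helper15.BH

universe u

variable {G : Type u} [Group G] [Fintype G] {p : ℕ} [Fact p.Prime]

/-- the exponent killing the `p'`-part -/
theorem pslsingsum_pow (n : ℕ) (hn : p ∣ n) (hn0 : n ≠ 0) :
    ∃ m' e : ℕ, 0 < e ∧ ∀ h : G, orderOf h = n → orderOf (h ^ m') = p ^ e := by
  have hp : p.Prime := Fact.out
  obtain ⟨e, m', hnd, hm⟩ := Nat.exists_eq_pow_mul_and_not_dvd hn0 p hp.ne_one
  have hm'0 : m' ≠ 0 := by
    rintro rfl
    exact hnd (dvd_zero p)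
  refine ⟨m', e, ?_, ?_⟩
  · rcases Nat.eq_zero_or_pos e with h0 | h0
    · exfalso
      rw [h0, pow_zero, one_mul] at hm
      rw [hm] at hn
      exact hnd hn
    · exact h0
  · intro h hh
    rw [orderOf_pow, hh, hm, Nat.gcd_mul_left_left, Nat.mul_div_cancel _ (Nat.pos_of_ne_zero hm'0)]

theorem pslsingsum_orderOf_conj (k g : G) : orderOf (k * g * k⁻¹) = orderOf g := by
  have : k * g * k⁻¹ = MulAut.conj k g := by rw [MulAut.conj_apply]
  rw [this, MulEquiv.orderOf_eq]

/-- the `p`-singular elements of `C_G(P)` -/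
def pslsingsum_S (P : Sylow p G) (g : G) : Prop := g ∈ cen P ∧ p ∣ orderOf g

/-- every `p`-singular element is conjugate into `S` -/
theorem pslsingsum_A (P : Sylow p G) (hP : Nat.card ↥(P : Subgroup G) = p) (g : G)
    (hg : p ∣ orderOf g) : ∃ k : G, pslsingsum_S P (k * g * k⁻¹) := by
  have hp : p.Prime := Fact.out
  obtain ⟨m', e, he, hpow⟩ := pslsingsum_pow (G := G) (orderOf g) hg (orderOf_pos g).ne'
  have hx : orderOf (g ^ m') = p ^ e := hpow g rfl
  have hpg : IsPGroup p (Subgroup.zpowers (g ^ m')) :=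
    IsPGroup.of_card (n := e) (by rw [Nat.card_zpowers, hx])
  obtain ⟨Q, hQ⟩ := hpg.exists_le_sylow
  obtain ⟨k, hk⟩ := MulAction.exists_smul_eq G Q P
  have hxQ : g ^ m' ∈ (Q : Subgroup G) := hQ (Subgroup.mem_zpowers _)
  have hxP : k * g ^ m' * k⁻¹ ∈ (P : Subgroup G) := by
    rw [← hk, Sylow.coe_subgroup_smul, Subgroup.mem_pointwise_smul_iff_inv_smul_mem]
    simp only [MulAut.smul_def, MulAut.inv_apply, MulAut.conj_symm_apply]
    have : k⁻¹ * (k * g ^ m' * k⁻¹) * k = g ^ m' := by group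
    rw [this]; exact hxQ
  have hx1 : k * g ^ m' * k⁻¹ ≠ 1 := by
    intro h1
    have h2 : orderOf (k * g ^ m' * k⁻¹) = p ^ e := by rw [pslsingsum_orderOf_conj, hx]
    rw [h1, orderOf_one] at h2
    exact (Nat.one_lt_pow he.ne' hp.one_lt).ne h2
  have hgen := pslcenprod_zpowers hP hxP hx1
  refine ⟨k, ?_, ?_⟩
  · rw [Subgroup.mem_centralizer_iff]
    intro b hb
    rw [← hgen] at hb
    obtain ⟨j, rfl⟩ := Subgroup.mem_zpowers_iff.mp hb
    have hc : Commute (k * g * k⁻¹) (k * g ^ m' * k⁻¹) := by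
      rw [← conj_pow]
      exact Commute.pow_right (Commute.refl _) m'
    exact (Commute.zpow_right hc j).eq.symm
  · rw [pslsingsum_orderOf_conj]; exact hg

/-- `S` is a TI set with normalizer `N_G(P)` -/
theorem pslsingsum_B (P : Sylow p G) (hP : Nat.card ↥(P : Subgroup G) = p) {c k : G}
    (hc : pslsingsum_S P c) (hkc : pslsingsum_S P (k * c * k⁻¹)) : k ∈ nrm P := by
  have hp : p.Prime := Fact.out
  obtain ⟨m', e, he, hpow⟩ := pslsingsum_pow (G := G) (orderOf c) hc.2 (orderOf_pos c).ne'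
  have hx : orderOf (c ^ m') = p ^ e := hpow c rfl
  have hx' : orderOf ((k * c * k⁻¹) ^ m') = p ^ e := hpow _ (pslsingsum_orderOf_conj k c)
  have hxP : c ^ m' ∈ (P : Subgroup G) :=
    leoc_pel (Subgroup.pow_mem _ hc.1 m')
      (IsPGroup.of_card (n := e) (by rw [Nat.card_zpowers, hx]))
  have hxP' : (k * c * k⁻¹) ^ m' ∈ (P : Subgroup G) :=
    leoc_pel (Subgroup.pow_mem _ hkc.1 m')
      (IsPGroup.of_card (n := e) (by rw [Nat.card_zpowers, hx']))
  rw [conj_pow] at hxP'
  have hx1 : c ^ m' ≠ 1 := by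
    intro h1
    rw [h1, orderOf_one] at hx
    exact (Nat.one_lt_pow he.ne' hp.one_lt).ne hx
  have hgen := pslcenprod_zpowers hP hxP hx1
  apply Subgroup.mem_normalizer_fintype
  intro n hn
  have hn' : n ∈ (P : Subgroup G) := hn
  rw [← hgen] at hn'
  obtain ⟨j, rfl⟩ := Subgroup.mem_zpowers_iff.mp hn'
  have : k * (c ^ m') ^ j * k⁻¹ = (k * c ^ m' * k⁻¹) ^ j := by rw [conj_zpow]
  rw [this]
  exact Subgroup.zpow_mem _ hxP' j

/-- `N_G(P)` normalizes `S` -/
theorem pslsingsum_C (P : Sylow p G) {c n : G} (hn : n ∈ nrm P) (hc : pslsingsum_S P c) :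
    pslsingsum_S P (n * c * n⁻¹) := by
  refine ⟨?_, by rw [pslsingsum_orderOf_conj]; exact hc.2⟩
  have hc1 := hc.1
  rw [Subgroup.mem_centralizer_iff] at hc1 ⊢
  intro y hy
  have hy' : n⁻¹ * y * n ∈ (P : Subgroup G) := by
    have := (Subgroup.mem_normalizer_iff.mp (Subgroup.inv_mem _ hn) y).mp hy
    rwa [inv_inv] at this
  have h1 := hc1 _ hy'
  have e1 : y * (n * c * n⁻¹) = n * ((n⁻¹ * y * n) * c) * n⁻¹ := by group
  have e2 : n * c * n⁻¹ * y = n * (c * (n⁻¹ * y * n)) * n⁻¹ := by group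
  rw [e1, e2, h1]

/-- the number of conjugators of a `p`-singular element into `S` -/
theorem pslsingsum_K (P : Sylow p G) (hP : Nat.card ↥(P : Subgroup G) = p) (g : G)
    (hg : p ∣ orderOf g) :
    (Finset.univ.filter (fun k : G => pslsingsum_S P (k * g * k⁻¹))).card = Nat.card ↥(nrm P) := by
  obtain ⟨k0, hk0⟩ := pslsingsum_A P hP g hg
  have hset : Finset.univ.filter (fun k : G => pslsingsum_S P (k * g * k⁻¹)) =
      (Finset.univ.filter (fun n : G => n ∈ nrm P)).image (fun n => n * k0) := by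
    ext k
    simp only [Finset.mem_filter, Finset.mem_univ, true_and, Finset.mem_image]
    constructor
    · intro hk
      refine ⟨k * k0⁻¹, ?_, by group⟩
      apply pslsingsum_B P hP hk0
      have : k * k0⁻¹ * (k0 * g * k0⁻¹) * (k * k0⁻¹)⁻¹ = k * g * k⁻¹ := by group
      rw [this]; exact hk
    · rintro ⟨n, hn, rfl⟩
      have : n * k0 * g * (n * k0)⁻¹ = n * (k0 * g * k0⁻¹) * n⁻¹ := by group
      rw [this]
      exact pslsingsum_C P hn hk0
  rw [hset, Finset.card_image_of_injective _ (mul_left_injective k0), Nat.card_eq_fintype_card,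
    Fintype.card_subtype]

theorem sing_sum (P : Sylow p G) (hP : Nat.card ↥(P : Subgroup G) = p) (F : G → ℂ)
    (hF : Cfsg.IsClassFunction G F) :
    ∑ g : G, (if p ∣ orderOf g then F g else 0) =
      ((nrm P).index : ℂ) * ∑ c : ↥(cen P), (if p ∣ orderOf (c : G) then F (c : G) else 0) := by
  -- the sum over `S` as a sum over `G`
  have hT : ∑ c : ↥(cen P), (if p ∣ orderOf (c : G) then F (c : G) else 0) =
      ∑ g : G, (if pslsingsum_S P g then F g else 0) := by
    rw [← Finset.sum_subtype (Finset.univ.filter (fun g : G => g ∈ cen P))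
      (fun x => by simp) (fun g => if p ∣ orderOf g then F g else 0)]
    rw [Finset.sum_filter]
    apply Finset.sum_congr rfl
    intro g _
    unfold pslsingsum_S
    by_cases h1 : g ∈ cen P <;> by_cases h2 : p ∣ orderOf g <;> simp [h1, h2]
  -- double counting
  have hdc : (Nat.card ↥(nrm P) : ℂ) * ∑ g : G, (if p ∣ orderOf g then F g else 0) =
      (Fintype.card G : ℂ) * ∑ g : G, (if pslsingsum_S P g then F g else 0) := by
    have h1 : (Nat.card ↥(nrm P) : ℂ) * ∑ g : G, (if p ∣ orderOf g then F g else 0) =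
        ∑ g : G, ∑ k : G, (if pslsingsum_S P (k * g * k⁻¹) then F g else 0) := by
      rw [Finset.mul_sum]
      apply Finset.sum_congr rfl
      intro g _
      by_cases hg : p ∣ orderOf g
      · rw [if_pos hg, ← Finset.sum_filter, Finset.sum_const, pslsingsum_K P hP g hg, nsmul_eq_mul]
      · rw [if_neg hg, mul_zero]
        symm
        apply Finset.sum_eq_zero
        intro k _
        rw [if_neg]
        intro h
        apply hg
        have := h.2
        rwa [pslsingsum_orderOf_conj] at this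
    rw [h1, Finset.sum_comm]
    have h2 : ∀ k : G, ∑ g : G, (if pslsingsum_S P (k * g * k⁻¹) then F g else 0) =
        ∑ g : G, (if pslsingsum_S P g then F g else 0) := by
      intro k
      apply Fintype.sum_equiv (MulAut.conj k).toEquiv
      intro g
      have e : (MulAut.conj k).toEquiv g = k * g * k⁻¹ := rfl
      by_cases h : pslsingsum_S P (k * g * k⁻¹)
      · have h' : pslsingsum_S P ((MulAut.conj k).toEquiv g) := h
        rw [if_pos h, if_pos h', e, hF g k]
      · have h' : ¬ pslsingsum_S P ((MulAut.conj k).toEquiv g) := h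
        rw [if_neg h, if_neg h']
    rw [Finset.sum_congr rfl (fun k _ => h2 k), Finset.sum_const, Finset.card_univ, nsmul_eq_mul]
  have hN0 : (Nat.card ↥(nrm P) : ℂ) ≠ 0 := by
    have : 0 < Nat.card ↥(nrm P) := Nat.card_pos
    exact_mod_cast this.ne'
  have hidx : (Fintype.card G : ℂ) = (Nat.card ↥(nrm P) : ℂ) * ((nrm P).index : ℂ) := by
    have := Subgroup.card_mul_index (nrm P)
    rw [Nat.card_eq_fintype_card (α := G)] at this
    rw [← this]; push_cast; ring
  rw [hT]
  apply mul_left_cancel₀ hN0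
  rw [hdc, hidx]; ring

end Cfsg.Agent.Lib.helper15.PSL
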