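import Mathlib
import Cfsg.Prelude.Def_GeometricClasses
import Cfsg.Agent.Lib.Helper27.ASC.Defs
import Cfsg.Agent.Lib.Helper19.ASG.Defs
import Cfsg.Agent.Lib.Helper18.ASP.Defs
import Cfsg.Agent.Lib.Helper18.ASPADJ
import Cfsg.Agent.Lib.Helper9.ASGD2T.Defs
import Cfsg.Agent.Lib.Helper9.ASGD2TF.Defs
import Cfsg.Agent.Lib.Helper22.ASPCFG

set_option autoImplicit false
set_option linter.unusedVariables false
set_option linter.unusedSectionVars false

/-!
# Project ASP (S5662), block D2T, piece D2T-SPF1 (backup copy under a private name: the row belongs to helper21)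
`aspd2tspf1b_gram_symplectic` = the statement of `gram_symplectic`, from helper22's `spc_formOfGram_symplectic`.
-/

namespace Cfsg.Agent.Lib.Helper18.ASP

open Cfsg Cfsg.Geo Cfsg.Agent.Lib.Helper27.ASC Cfsg.Agent.Lib.Helper19.ASG
open scoped MatrixGroups Matrix

variable {n : ℕ} {F : Type*} [Field F] [Fintype F]

/-- D2T-SPF1 (backup) -/
theorem aspd2tspf1b_gram_symplectic {k : ℕ} (A : Matrix (Fin k) (Fin k) F) (hA : IsUnit A.det) (hskew : Aᵀ = -A)
    (hdiag : ∀ p, A p p = 0) : IsSymplecticForm (fun u v : Fin k → F => u ⬝ᵥ (A *ᵥ v)) := by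
  have h : (fun u v : Fin k → F => u ⬝ᵥ (A *ᵥ v)) = formOfGram id A := by
    funext u v
    exact (spc_formOfGram_eq_dot A u v).symm
  rw [h]
  exact spc_formOfGram_symplectic A hA.ne_zero hskew hdiag

end Cfsg.Agent.Lib.Helper18.ASP
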