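import Mathlib
import Cfsg.Prelude.Def_Classical

set_option autoImplicit false

namespace Cfsg.Agent.Lib.Helper1.MEO

open Matrix

/-- the hyperbolic Gram matrix -/
def helper9_P (m : ℕ) (F : Type*) [Field F] : Matrix (Fin m ⊕ Fin m) (Fin m ⊕ Fin m) F :=
  Matrix.fromBlocks 0 1 1 0

theorem helper9_P_mul_self (m : ℕ) (F : Type*) [Field F] : helper9_P m F * helper9_P m F = 1 := by
  unfold helper9_P
  rw [Matrix.fromBlocks_multiply]
  simp [Matrix.fromBlocks_one]

theorem helper9_P_det_ne (m : ℕ) (F : Type*) [Field F] : (helper9_P m F).det ≠ 0 := by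
  intro h
  have := congrArg Matrix.det (helper9_P_mul_self m F)
  rw [Matrix.det_mul, h, Matrix.det_one] at this
  simp at this

theorem helper9_P_mulVec (m : ℕ) (F : Type*) [Field F] (v : Fin m ⊕ Fin m → F) :
    helper9_P m F *ᵥ v = Sum.elim (v ∘ Sum.inr) (v ∘ Sum.inl) := by
  unfold helper9_P
  rw [Matrix.fromBlocks_mulVec]
  simp

theorem helper9_P_dot (m : ℕ) (F : Type*) [Field F] (u v : Fin m ⊕ Fin m → F) :
    u ⬝ᵥ (helper9_P m F *ᵥ v) =
      ∑ i : Fin m, (u (.inl i) * v (.inr i) + u (.inr i) * v (.inl i)) := by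
  rw [helper9_P_mulVec]
  simp only [dotProduct, Fintype.sum_sum_type, Sum.elim_inl, Sum.elim_inr, Function.comp_apply,
    Finset.sum_add_distrib]

/-- MEO-O4 -/
theorem polar_plus (m : ℕ) (F : Type*) [Field F] :
    ∃ B : Matrix (Fin m ⊕ Fin m) (Fin m ⊕ Fin m) F, B.det ≠ 0 ∧
      ∀ u v : Fin m ⊕ Fin m → F, Cfsg.quadFormPlus m F (u + v) - Cfsg.quadFormPlus m F u -
        Cfsg.quadFormPlus m F v = u ⬝ᵥ (B *ᵥ v) := by
  refine ⟨helper9_P m F, helper9_P_det_ne m F, ?_⟩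
  intro u v
  rw [helper9_P_dot]
  unfold Cfsg.quadFormPlus
  simp only [← Finset.sum_sub_distrib]
  apply Finset.sum_congr rfl
  intro i _
  simp only [Pi.add_apply]
  ring

end Cfsg.Agent.Lib.Helper1.MEO
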