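import Mathlib
import Cfsg.Prelude.Def_Classical
import Cfsg.Agent.Lib.Helper9.MEOO4

set_option autoImplicit false

namespace Cfsg.Agent.Lib.Helper1.MEO

open Matrix

theorem helper9_disc_ne {F : Type*} [Field F] [Fintype F] (a b : F)
    (hab : ∀ z₁ z₂ : F, z₁ ^ 2 + a * z₁ * z₂ + b * z₂ ^ 2 = 0 → z₁ = 0 ∧ z₂ = 0) :
    2 * (2 * b) - a * a ≠ 0 := by
  intro h
  by_cases h2 : (2 : F) = 0
  · -- characteristic two
    have ha : a = 0 := by
      have : a * a = 0 := by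
        have h4 : 2 * (2 * b) = 0 := by rw [h2]; ring
        rw [h4] at h
        have : a * a = 0 - (0 - a * a) := by ring
        rw [this, h]; ring
      exact mul_self_eq_zero.mp this
    haveI : CharP F 2 := CharTwo.of_one_ne_zero_of_two_eq_zero one_ne_zero h2
    obtain ⟨c, hc⟩ := FiniteField.isSquare_of_char_two (ringChar.eq F 2) b
    have := hab c 1 (by
      rw [ha, hc]
      have : c ^ 2 + 0 * c * 1 + c * c * 1 ^ 2 = 2 * (c * c) := by ring
      rw [this, h2]; ring)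
    exact one_ne_zero this.2
  · have := hab (-a / 2) 1 (by
      field_simp
      linear_combination h)
    exact one_ne_zero this.2

/-- MEO-O5 -/
theorem polar_minus (m : ℕ) (F : Type*) [Field F] [Fintype F] (a b : F)
    (hab : ∀ z₁ z₂ : F, z₁ ^ 2 + a * z₁ * z₂ + b * z₂ ^ 2 = 0 → z₁ = 0 ∧ z₂ = 0) :
    ∃ B : Matrix ((Fin m ⊕ Fin m) ⊕ Fin 2) ((Fin m ⊕ Fin m) ⊕ Fin 2) F, B.det ≠ 0 ∧
      ∀ u v : (Fin m ⊕ Fin m) ⊕ Fin 2 → F, Cfsg.quadFormMinus m F a b (u + v) -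
        Cfsg.quadFormMinus m F a b u - Cfsg.quadFormMinus m F a b v = u ⬝ᵥ (B *ᵥ v) := by
  refine ⟨Matrix.fromBlocks (helper9_P m F) 0 0 !![2, a; a, 2 * b], ?_, ?_⟩
  · rw [Matrix.det_fromBlocks_zero₂₁, Matrix.det_fin_two_of]
    exact mul_ne_zero (helper9_P_det_ne m F) (helper9_disc_ne a b hab)
  · intro u v
    rw [Matrix.fromBlocks_mulVec]
    simp only [Matrix.zero_mulVec, add_zero, zero_add]
    rw [dotProduct, Fintype.sum_sum_type]
    simp only [Sum.elim_inl, Sum.elim_inr]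
    have h1 : ∑ x : Fin m ⊕ Fin m, u (Sum.inl x) * (helper9_P m F *ᵥ (v ∘ Sum.inl)) x =
        (u ∘ Sum.inl) ⬝ᵥ (helper9_P m F *ᵥ (v ∘ Sum.inl)) := rfl
    rw [h1, helper9_P_dot]
    unfold Cfsg.quadFormMinus
    simp only [Fin.sum_univ_two, Matrix.mulVec, dotProduct,
      Matrix.of_apply, Function.comp_apply, Pi.add_apply, Matrix.cons_val_zero,
      Matrix.cons_val_one, Matrix.cons_val', Matrix.cons_val_fin_one]
    have h3 : ∀ (s1 s2 s3 s4 t1 t2 t3 t4 : F), s1 - s2 - s3 = s4 → t1 - t2 - t3 = t4 →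
        s1 + t1 - (s2 + t2) - (s3 + t3) = s4 + t4 := by
      intro s1 s2 s3 s4 t1 t2 t3 t4 h h'; rw [← h, ← h']; ring
    apply h3
    · simp only [← Finset.sum_sub_distrib]
      apply Finset.sum_congr rfl
      intro i _
      ring
    · ring

end Cfsg.Agent.Lib.Helper1.MEO
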