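import Mathlib
import Cfsg.Prelude.Def_Classical
import Cfsg.Agent.Lib.Helper9.MEOO4

set_option autoImplicit false

namespace Cfsg.Agent.Lib.Helper1.MEO

open Matrix

/-- MEO-O6 -/
theorem polar_odd (m : ℕ) (F : Type*) [Field F] (h2 : (2 : F) ≠ 0) :
    ∃ B : Matrix (Unit ⊕ (Fin m ⊕ Fin m)) (Unit ⊕ (Fin m ⊕ Fin m)) F, B.det ≠ 0 ∧
      ∀ u v : Unit ⊕ (Fin m ⊕ Fin m) → F, Cfsg.quadFormOdd m F (u + v) - Cfsg.quadFormOdd m F u -
        Cfsg.quadFormOdd m F v = u ⬝ᵥ (B *ᵥ v) := by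
  refine ⟨Matrix.fromBlocks (Matrix.of fun _ _ => (2 : F)) 0 0 (helper9_P m F), ?_, ?_⟩
  · rw [Matrix.det_fromBlocks_zero₂₁, Matrix.det_unique]
    simp only [Matrix.of_apply]
    exact mul_ne_zero h2 (helper9_P_det_ne m F)
  · intro u v
    rw [Matrix.fromBlocks_mulVec]
    simp only [Matrix.zero_mulVec, add_zero, zero_add]
    rw [dotProduct, Fintype.sum_sum_type]
    simp only [Sum.elim_inl, Sum.elim_inr]
    have h1 : ∑ x : Fin m ⊕ Fin m, u (Sum.inr x) * (helper9_P m F *ᵥ (v ∘ Sum.inr)) x =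
        (u ∘ Sum.inr) ⬝ᵥ (helper9_P m F *ᵥ (v ∘ Sum.inr)) := rfl
    rw [h1, helper9_P_dot]
    unfold Cfsg.quadFormOdd
    simp only [Finset.univ_unique, Finset.sum_singleton, Matrix.mulVec, dotProduct,
      Matrix.of_apply, Function.comp_apply, Pi.add_apply]
    have h3 : ∀ (a b c : F) (s1 s2 s3 s4 : F), s1 - s2 - s3 = s4 →
        (a + b) ^ 2 + s1 - (a ^ 2 + s2) - (b ^ 2 + s3) = a * (2 * b) + s4 := by
      intro a b c s1 s2 s3 s4 h; rw [← h]; ring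
    apply h3 _ _ 0
    simp only [← Finset.sum_sub_distrib]
    apply Finset.sum_congr rfl
    intro i _
    ring

end Cfsg.Agent.Lib.Helper1.MEO
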