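import Mathlib
import Cfsg.Agent.Lib.Helper24.MNP.Defs

/-!
# MNP row F4 (helper9): `zeta_pow_half`.
-/

set_option autoImplicit false

namespace Cfsg.Agent.Lib.Helper24.MNP

universe u

section F

variable {K : Type u} [Field K] [Finite K] {p q : ℕ} [Fact p.Prime] [Fact q.Prime] [CharP K p]

/-- `q ∣ p ^ m + 1` when `2 m = ord_q(p)` -/
theorem mnpf4_dvd (hpq : p ≠ q) {m : ℕ} (ha : 2 * m = orderOf (p : ZMod q)) : q ∣ p ^ m + 1 := by
  have hp : p.Prime := Fact.out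
  have hq : q.Prime := Fact.out
  have hp0 : (p : ZMod q) ≠ 0 := by
    intro h
    rw [ZMod.natCast_eq_zero_iff] at h
    exact hpq ((Nat.prime_dvd_prime_iff_eq hq hp).mp h).symm
  have hfermat : (p : ZMod q) ^ (q - 1) = 1 := ZMod.pow_card_sub_one_eq_one hp0
  have hordpos : 0 < orderOf (p : ZMod q) := by
    apply orderOf_pos_iff.mpr
    rw [isOfFinOrder_iff_pow_eq_one]
    exact ⟨q - 1, by have := hq.two_le; omega, hfermat⟩
  have hm : 0 < m := by omega
  set x : ZMod q := (p : ZMod q) ^ m with hx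
  have hx2 : x * x = 1 := by
    rw [hx, ← pow_add, ← two_mul, ha, pow_orderOf_eq_one]
  have hx1 : x ≠ 1 := by
    intro h
    have hdvd : orderOf (p : ZMod q) ∣ m := orderOf_dvd_of_pow_eq_one h
    rw [← ha] at hdvd
    have := Nat.le_of_dvd hm hdvd
    omega
  have hxm1 : x = -1 := by
    have h : (x - 1) * (x + 1) = 0 := by linear_combination hx2
    rcases mul_eq_zero.mp h with h1 | h1
    · exact absurd (sub_eq_zero.mp h1) hx1
    · exact eq_neg_of_add_eq_zero_left h1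
  rw [← ZMod.natCast_eq_zero_iff]
  push_cast
  rw [← hx, hxm1]
  ring

/-- F4 [S-M]. `(p ^ m) ^ 2 = 1` in `ZMod q` and `p ^ m ≠ 1` (`0 < m < 2 m = ord`), so `p ^ m = -1` in the field
`ZMod q`, `q ∣ p ^ m + 1`, `ζ ^ (p ^ m + 1) = 1`. -/
theorem zeta_pow_half (hpq : p ≠ q) {m : ℕ} (ha : 2 * m = orderOf (p : ZMod q))
    (ζ : K) (hζ : orderOf ζ = q) : ζ ^ (p ^ m) * ζ = 1 := by
  have hdvd := mnpf4_dvd hpq ha
  rw [← pow_succ]
  apply orderOf_dvd_iff_pow_eq_one.mp
  rw [hζ]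
  exact hdvd

end F

end Cfsg.Agent.Lib.Helper24.MNP
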