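import Mathlib
import Cfsg.Prelude.Def_GeometricClasses

set_option autoImplicit false
set_option linter.unusedVariables false
set_option linter.unusedSectionVars false

/-!
# Block NP, piece NP0 : the elementary "not plus" lemma (helper27's lemma)
-/

namespace Cfsg.Agent.Lib.Helper9.NotPlus

open Cfsg Cfsg.Geo
open scoped MatrixGroups Matrix

variable {n : ℕ} {F : Type*} [Field F]

/-- the polar form vanishes on a totally singular subspace -/
theorem npnp0_polar_zero (Q : QuadraticForm F (Fin n → F)) (U : Submodule F (Fin n → F))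
    (hU : IsTotallySingularQuad (⇑Q) U) {x y : Fin n → F} (hx : x ∈ U) (hy : y ∈ U) :
    QuadraticMap.polar (⇑Q) x y = 0 := by
  unfold QuadraticMap.polar
  rw [hU _ (U.add_mem hx hy), hU _ hx, hU _ hy]
  simp

/-- NP0 -/
theorem ts_finrank_le_of_aniso (Q : QuadraticForm F (Fin n → F)) (U₀ P : Submodule F (Fin n → F))
    (hU₀ : IsTotallySingularQuad (⇑Q) U₀) (hP : ∀ p ∈ P, p ≠ 0 → Q p ≠ 0)
    (hperp : ∀ x : Fin n → F, (∀ u ∈ U₀, QuadraticMap.polar (⇑Q) u x = 0) → x ∈ U₀ ⊔ P)
    (U : Submodule F (Fin n → F)) (hU : IsTotallySingularQuad (⇑Q) U) :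
    Module.finrank F U ≤ Module.finrank F U₀ := by
  classical
  -- step 2 : an element of `U` orthogonal to `U₀` lies in `U₀`
  have hkey : ∀ x ∈ U, (∀ u ∈ U₀, QuadraticMap.polar (⇑Q) u x = 0) → x ∈ U₀ := by
    intro x hx hxo
    obtain ⟨a, ha, p, hp, hap⟩ := Submodule.mem_sup.mp (hperp x hxo)
    have hpx : p = x - a := by rw [← hap]; abel
    have hQp : Q p = 0 := by
      rw [hpx, sub_eq_add_neg]
      have h1 : Q (x + -a) = Q x + Q (-a) + QuadraticMap.polar (⇑Q) x (-a) := by
        unfold QuadraticMap.polar; ring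
      rw [h1, hU x hx, QuadraticMap.map_neg, hU₀ a ha, QuadraticMap.polar_neg_right,
        QuadraticMap.polar_comm, hxo a ha]
      simp
    have hp0 : p = 0 := by
      by_contra hne
      exact hP p hp hne hQp
    rw [← hap, hp0, add_zero]
    exact ha
  -- the pairing `U → Dual U₀`
  let B := QuadraticMap.polarBilin Q
  let φ : U →ₗ[F] U₀ →ₗ[F] F := B.domRestrict₁₂ U U₀
  have hφ : ∀ (u : U) (u₀ : U₀), φ u u₀ = QuadraticMap.polar (⇑Q) (u : Fin n → F) (u₀ : Fin n → F) := by
    intro u u₀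
    rfl
  let X : Submodule F U₀ := Submodule.comap U₀.subtype U
  -- the range kills `X`
  have hrange : LinearMap.range φ ≤ X.dualAnnihilator := by
    rintro _ ⟨u, rfl⟩
    rw [Submodule.mem_dualAnnihilator]
    intro w hw
    rw [hφ]
    exact npnp0_polar_zero Q U hU u.2 hw
  -- the kernel lies in `X`
  have hker : (LinearMap.ker φ).map U.subtype ≤ X.map U₀.subtype := by
    rintro _ ⟨u, hu, rfl⟩
    rw [SetLike.mem_coe, LinearMap.mem_ker] at hu
    have hu0 : (u : Fin n → F) ∈ U₀ := by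
      apply hkey _ u.2
      intro a ha
      have := congrArg (fun g : U₀ →ₗ[F] F => g ⟨a, ha⟩) hu
      simp only [LinearMap.zero_apply] at this
      rw [hφ] at this
      rw [QuadraticMap.polar_comm]
      exact this
    exact ⟨⟨u, hu0⟩, u.2, rfl⟩
  have h1 := LinearMap.finrank_range_add_finrank_ker φ
  have h2 : Module.finrank F (LinearMap.range φ) ≤ Module.finrank F X.dualAnnihilator :=
    Submodule.finrank_mono hrange
  have h3 : Module.finrank F X + Module.finrank F X.dualAnnihilator = Module.finrank F U₀ :=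
    Subspace.finrank_add_finrank_dualAnnihilator_eq X
  have h4 := Submodule.finrank_mono hker
  rw [Submodule.finrank_map_subtype_eq, Submodule.finrank_map_subtype_eq] at h4
  omega

/-- NP0' -/
theorem not_plus_of_aniso (Q : QuadraticForm F (Fin n → F)) (U₀ P : Submodule F (Fin n → F))
    (hU₀ : IsTotallySingularQuad (⇑Q) U₀) (hP : ∀ p ∈ P, p ≠ 0 → Q p ≠ 0)
    (hperp : ∀ x : Fin n → F, (∀ u ∈ U₀, QuadraticMap.polar (⇑Q) u x = 0) → x ∈ U₀ ⊔ P)
    (hdim : 2 * Module.finrank F U₀ < n) : ¬ IsPlusTypeOn (⇑Q) ⊤ := by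
  rintro ⟨U, -, hU, h2⟩
  have h := ts_finrank_le_of_aniso Q U₀ P hU₀ hP hperp U hU
  rw [finrank_top, Module.finrank_fintype_fun_eq_card, Fintype.card_fin] at h2
  omega

end Cfsg.Agent.Lib.Helper9.NotPlus
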