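import Mathlib
import Cfsg.Prelude.Def_GeometricClasses
import Cfsg.Agent.Lib.Helper9.NPNP0
import Cfsg.Agent.Lib.Helper11.ASESIMIL
import Cfsg.Agent.Lib.Helper28.Ld.Trans

set_option autoImplicit false
set_option linter.unusedVariables false
set_option linter.unusedSectionVars false

/-!
# Block NP, piece NP1 : an odd number of pairwise orthogonal, pairwise similar anisotropic planes: not of plus type
-/

namespace Cfsg.Agent.Lib.Helper9.NotPlus

open Cfsg Cfsg.Geo
open scoped MatrixGroups Matrix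

variable {n : ℕ} {F : Type*} [Field F]

/-- the polar form and finite sums on the right -/
theorem npnp1_polar_sum_right {ι : Type*} (Q : QuadraticForm F (Fin n → F)) (s : Finset ι) (u : Fin n → F)
    (x : ι → (Fin n → F)) :
    QuadraticMap.polar (⇑Q) u (∑ i ∈ s, x i) = ∑ i ∈ s, QuadraticMap.polar (⇑Q) u (x i) := by
  have := map_sum (QuadraticMap.polarBilin Q u) x s
  exact this

/-- a quadratic form is additive on pairwise orthogonal vectors -/
theorem npnp1_map_sum {ι : Type*} (Q : QuadraticForm F (Fin n → F)) (s : Finset ι) (x : ι → (Fin n → F))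
    (h : ∀ i ∈ s, ∀ j ∈ s, i ≠ j → QuadraticMap.polar (⇑Q) (x i) (x j) = 0) :
    Q (∑ i ∈ s, x i) = ∑ i ∈ s, Q (x i) := by
  classical
  induction s using Finset.induction_on with
  | empty => simp
  | insert a s ha ih =>
    rw [Finset.sum_insert ha, Finset.sum_insert ha, QuadraticMap.map_add Q, ih]
    · have hp : QuadraticMap.polar (⇑Q) (x a) (∑ i ∈ s, x i) = 0 := by
        rw [npnp1_polar_sum_right]
        apply Finset.sum_eq_zero
        intro j hj
        apply h a (Finset.mem_insert_self a s) j (Finset.mem_insert_of_mem hj)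
        rintro rfl
        exact ha hj
      rw [hp, add_zero]
    · intro i hi j hj hij
      exact h i (Finset.mem_insert_of_mem hi) j (Finset.mem_insert_of_mem hj) hij

/-- NP1 -/
theorem not_plus_of_odd_aniso_planes [Fintype F] (Q : QuadraticForm F (Fin n → F)) {t : ℕ} (ht : Odd t)
    (D : Fin t → Submodule F (Fin n → F))
    (hD : IsNondegenerateMDecomposition (QuadraticMap.polar (⇑Q)) 2 D)
    (haniso : ∀ i, ∀ v ∈ D i, v ≠ 0 → Q v ≠ 0)
    (hsim : ∀ i j, ∃ (σ : D i ≃ₗ[F] D j) (c : F), c ≠ 0 ∧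
      ∀ w : D i, Q ((σ w : D j) : Fin n → F) = c * Q (w : Fin n → F)) :
    ¬ IsPlusTypeOn (⇑Q) ⊤ := by
  classical
  obtain ⟨s, hs⟩ := ht
  have hn : t * 2 = n := Cfsg.Agent.Lib.Helper28.Ld.card_eq D hD.decomp
  have hcard : Fintype.card (Fin t) = Fintype.card (Option (Fin s × Fin 2)) := by
    rw [Fintype.card_fin, Fintype.card_option, Fintype.card_prod, Fintype.card_fin, Fintype.card_fin]
    omega
  let e : Fin t ≃ Option (Fin s × Fin 2) := Fintype.equivOfCardEq hcard
  let a : Fin s → Fin t := fun j => e.symm (some (j, 0))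
  let b : Fin s → Fin t := fun j => e.symm (some (j, 1))
  let z : Fin t := e.symm none
  have hab : ∀ j j', a j ≠ b j' := by
    intro j j' h
    have := e.symm.injective h
    simp at this
  have haa : ∀ j j', j ≠ j' → a j ≠ a j' := by
    intro j j' hjj h
    have := e.symm.injective h
    simp at this
    exact hjj this
  have hbb : ∀ j j', j ≠ j' → b j ≠ b j' := by
    intro j j' hjj h
    have := e.symm.injective h
    simp at this
    exact hjj this
  have haz : ∀ j, a j ≠ z := by
    intro j h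
    have := e.symm.injective h
    simp at this
  have hbz : ∀ j, b j ≠ z := by
    intro j h
    have := e.symm.injective h
    simp at this
  have horth : ∀ i i', i ≠ i' → ∀ u ∈ D i, ∀ v ∈ D i', QuadraticMap.polar (⇑Q) u v = 0 :=
    fun i i' h => hD.orthogonal i i' h
  -- the anti-isometries `τ j : D (a j) ≃ D (b j)`
  have hτ : ∀ j, ∃ τ : D (a j) ≃ₗ[F] D (b j), ∀ w : D (a j),
      Q ((τ w : D (b j)) : Fin n → F) = - Q (w : Fin n → F) := by
    intro j
    obtain ⟨σ, c, hc, hσ⟩ := hsim (a j) (b j)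
    obtain ⟨g, hg⟩ := Cfsg.Agent.Lib.helper23.ASE.plane_similitude Q (D (b j)) (hD.nondegenerate _)
      (hD.decomp.finrank_eq _) (-c⁻¹) (neg_ne_zero.mpr (inv_ne_zero hc))
    refine ⟨σ.trans g, fun w => ?_⟩
    rw [LinearEquiv.trans_apply, hg, hσ]
    field_simp
  choose τ hτ using hτ
  -- the vectors `y j w = w + τ j w`
  let y : ∀ j : Fin s, D (a j) → (Fin n → F) := fun j w => (w : Fin n → F) + ((τ j w : D (b j)) : Fin n → F)
  have hyQ : ∀ j (w : D (a j)), Q (y j w) = 0 := by
    intro j w
    show Q ((w : Fin n → F) + ((τ j w : D (b j)) : Fin n → F)) = 0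
    rw [QuadraticMap.map_add Q, hτ, horth (a j) (b j) (hab j j) _ w.2 _ (τ j w).2]
    ring
  have hyy : ∀ j j' (w : D (a j)) (w' : D (a j')), j ≠ j' → QuadraticMap.polar (⇑Q) (y j w) (y j' w') = 0 := by
    intro j j' w w' hjj
    show QuadraticMap.polar (⇑Q) ((w : Fin n → F) + ((τ j w : D (b j)) : Fin n → F))
      ((w' : Fin n → F) + ((τ j' w' : D (b j')) : Fin n → F)) = 0
    rw [QuadraticMap.polar_add_left, QuadraticMap.polar_add_right, QuadraticMap.polar_add_right,
      horth _ _ (haa j j' hjj) _ w.2 _ w'.2, horth _ _ (hab j j') _ w.2 _ (τ j' w').2,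
      horth _ _ (hab j' j).symm _ (τ j w).2 _ w'.2, horth _ _ (hbb j j' hjj) _ (τ j w).2 _ (τ j' w').2]
    ring
  -- the totally singular subspace
  let Φ : (∀ j : Fin s, D (a j)) →ₗ[F] (Fin n → F) :=
    ∑ j, ((D (a j)).subtype + (D (b j)).subtype ∘ₗ (τ j).toLinearMap) ∘ₗ LinearMap.proj j
  have hΦ : ∀ x, Φ x = ∑ j, y j (x j) := by
    intro x
    simp only [Φ, y, LinearMap.sum_apply, LinearMap.comp_apply, LinearMap.add_apply, Submodule.subtype_apply,
      LinearEquiv.coe_coe, LinearMap.proj_apply]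
  let U₀ : Submodule F (Fin n → F) := LinearMap.range Φ
  have hU₀ : IsTotallySingularQuad (⇑Q) U₀ := by
    rintro _ ⟨x, rfl⟩
    rw [hΦ, npnp1_map_sum Q]
    · exact Finset.sum_eq_zero (fun j _ => hyQ j (x j))
    · intro j _ j' _ hjj
      exact hyy j j' _ _ hjj
  have hyU : ∀ j (w : D (a j)), y j w ∈ U₀ := by
    intro j w
    refine ⟨Pi.single j w, ?_⟩
    rw [hΦ]
    rw [Finset.sum_eq_single j]
    · simp
    · intro j' _ hj'
      simp only [y]
      rw [Pi.single_eq_of_ne hj']
      simp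
    · intro h
      exact absurd (Finset.mem_univ j) h
  -- the orthogonal of `U₀`
  have hperp : ∀ x : Fin n → F, (∀ u ∈ U₀, QuadraticMap.polar (⇑Q) u x = 0) → x ∈ U₀ ⊔ D z := by
    intro x hx
    have hxtop : x ∈ ⨆ i ∈ (Finset.univ : Finset (Fin t)), D i := by
      have h1 : (⨆ i ∈ (Finset.univ : Finset (Fin t)), D i) = ⨆ i, D i := by simp
      rw [h1, hD.decomp.iSup_eq_top]
      exact Submodule.mem_top
    obtain ⟨μ, hμ⟩ := (Submodule.mem_iSup_finset_iff_exists_sum D x).mp hxtop
    -- the components in `D (b j)` are the images of those in `D (a j)`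
    have hcomp : ∀ j, ((μ (b j) : D (b j)) : Fin n → F) = ((τ j (μ (a j)) : D (b j)) : Fin n → F) := by
      intro j
      by_contra hne
      set y' : Fin n → F := ((μ (b j) : D (b j)) : Fin n → F) - ((τ j (μ (a j)) : D (b j)) : Fin n → F) with hy'
      have hy'mem : y' ∈ D (b j) := Submodule.sub_mem _ (μ (b j)).2 (τ j (μ (a j))).2
      have hy'0 : y' ≠ 0 := sub_ne_zero.mpr hne
      obtain ⟨⟨w', hw', hw'y⟩, -⟩ := hD.nondegenerate (b j) y' hy'mem hy'0
      let w : D (a j) := (τ j).symm ⟨w', hw'⟩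
      have hτw : ((τ j w : D (b j)) : Fin n → F) = w' := by
        simp [w]
      have h1 := hx (y j w) (hyU j w)
      rw [← hμ, npnp1_polar_sum_right,
        Finset.sum_eq_add (a j) (b j) (hab j j)] at h1
      · -- the two surviving terms
        have h2 : QuadraticMap.polar (⇑Q) (y j w) ((μ (a j) : D (a j)) : Fin n → F) =
            QuadraticMap.polar (⇑Q) (w : Fin n → F) ((μ (a j) : D (a j)) : Fin n → F) := by
          show QuadraticMap.polar (⇑Q) ((w : Fin n → F) + ((τ j w : D (b j)) : Fin n → F)) _ = _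
          rw [QuadraticMap.polar_add_left, horth _ _ (hab j j).symm _ (τ j w).2 _ (μ (a j)).2, add_zero]
        have h3 : QuadraticMap.polar (⇑Q) (y j w) ((μ (b j) : D (b j)) : Fin n → F) =
            QuadraticMap.polar (⇑Q) w' ((μ (b j) : D (b j)) : Fin n → F) := by
          show QuadraticMap.polar (⇑Q) ((w : Fin n → F) + ((τ j w : D (b j)) : Fin n → F)) _ = _
          rw [QuadraticMap.polar_add_left, horth _ _ (hab j j) _ w.2 _ (μ (b j)).2, zero_add, hτw]
        -- `y j w ⊥ y j (μ (a j))`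
        have h4 := npnp0_polar_zero Q U₀ hU₀ (hyU j w) (hyU j (μ (a j)))
        have h5 : QuadraticMap.polar (⇑Q) (y j w) (y j (μ (a j))) =
            QuadraticMap.polar (⇑Q) (w : Fin n → F) ((μ (a j) : D (a j)) : Fin n → F) +
            QuadraticMap.polar (⇑Q) w' ((τ j (μ (a j)) : D (b j)) : Fin n → F) := by
          show QuadraticMap.polar (⇑Q) ((w : Fin n → F) + ((τ j w : D (b j)) : Fin n → F))
            (((μ (a j) : D (a j)) : Fin n → F) + ((τ j (μ (a j)) : D (b j)) : Fin n → F)) = _
          rw [QuadraticMap.polar_add_left, QuadraticMap.polar_add_right, QuadraticMap.polar_add_right,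
            horth _ _ (hab j j) _ w.2 _ (τ j (μ (a j))).2, horth _ _ (hab j j).symm _ (τ j w).2 _ (μ (a j)).2,
            hτw]
          ring
        apply hw'y
        rw [hy', QuadraticMap.polar_sub_right]
        rw [h2, h3] at h1
        rw [h5] at h4
        linear_combination h1 - h4
      · intro c _ hc
        show QuadraticMap.polar (⇑Q) ((w : Fin n → F) + ((τ j w : D (b j)) : Fin n → F)) _ = 0
        rw [QuadraticMap.polar_add_left, horth _ _ (Ne.symm hc.1) _ w.2 _ (μ c).2,
          horth _ _ (Ne.symm hc.2) _ (τ j w).2 _ (μ c).2, add_zero]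
      · intro h
        exact absurd (Finset.mem_univ _) h
      · intro h
        exact absurd (Finset.mem_univ _) h
    -- reassemble
    have hsum : x = Φ (fun j => μ (a j)) + ((μ z : D z) : Fin n → F) := by
      rw [hΦ, ← hμ]
      rw [← Equiv.sum_comp e.symm (fun i => ((μ i : D i) : Fin n → F)), Fintype.sum_option,
        Fintype.sum_prod_type]
      simp only [Fin.sum_univ_two]
      rw [add_comm]
      congr 1
      apply Finset.sum_congr rfl
      intro j _
      show ((μ (a j) : D (a j)) : Fin n → F) + ((μ (b j) : D (b j)) : Fin n → F) = y j (μ (a j))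
      rw [hcomp j]
    rw [hsum]
    exact Submodule.add_mem_sup ⟨_, rfl⟩ (μ z).2
  apply not_plus_of_aniso Q U₀ (D z) hU₀ (haniso z) hperp
  -- dimension
  have h1 : Module.finrank F U₀ ≤ Module.finrank F (∀ j : Fin s, D (a j)) := LinearMap.finrank_range_le Φ
  rw [Module.finrank_pi_fintype] at h1
  simp only [hD.decomp.finrank_eq, Finset.sum_const, Finset.card_univ, Fintype.card_fin, smul_eq_mul] at h1
  omega

/-- a plane which is not of plus type is anisotropic -/
theorem npnp1_aniso_of_not_plus (Q : QuadraticForm F (Fin n → F)) (W : Submodule F (Fin n → F))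
    (hd : Module.finrank F W = 2) (hm : ¬ IsPlusTypeOn (⇑Q) W) : ∀ v ∈ W, v ≠ 0 → Q v ≠ 0 := by
  intro v hv hv0 hQv
  apply hm
  refine ⟨Submodule.span F {v}, ?_, ?_, ?_⟩
  · rw [Submodule.span_singleton_le_iff_mem]
    exact hv
  · intro w hw
    obtain ⟨c, rfl⟩ := Submodule.mem_span_singleton.mp hw
    rw [QuadraticMap.map_smul, hQv, smul_zero]
  · rw [finrank_span_singleton hv0, hd]

/-- NP1' -/
theorem not_plus_of_odd_minus_planes [Fintype F] (Q : QuadraticForm F (Fin n → F)) {t : ℕ} (ht : Odd t)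
    (D : Fin t → Submodule F (Fin n → F)) (hD : IsOrthogonalMDecomposition (⇑Q) 2 D)
    (hm : ∀ i, ¬ IsPlusTypeOn (⇑Q) (D i)) : ¬ IsPlusTypeOn (⇑Q) ⊤ := by
  apply not_plus_of_odd_aniso_planes Q ht D hD.decomp
  · intro i
    exact npnp1_aniso_of_not_plus Q (D i) (hD.decomp.decomp.finrank_eq i) (hm i)
  · intro i j
    obtain ⟨σ, hσ⟩ := hD.isometric i j
    exact ⟨σ, 1, one_ne_zero, fun w => by rw [hσ, one_mul]⟩

end Cfsg.Agent.Lib.Helper9.NotPlus
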