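import Mathlib
import Cfsg.Prelude.Def_GeometricClasses
import Cfsg.Agent.Lib.Helper9.NPNP1

set_option autoImplicit false
set_option linter.unusedVariables false
set_option linter.unusedSectionVars false

/-!
# Block NP, piece NP3B (core) : two non-degenerate subspaces of the same odd dimension are similar
(the normal form NP3A is a hypothesis here; `Helper9.NPNP3B` is the verbatim wrapper)
-/

namespace Cfsg.Agent.Lib.Helper9.NotPlus

open Cfsg Cfsg.Geo
open scoped MatrixGroups Matrix

variable {n : ℕ} {F : Type*} [Field F]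

/-- `Q` on a linear combination of pairwise orthogonal vectors -/
theorem npnp3b_Q_comb {ι : Type*} [Fintype ι] (Q : QuadraticForm F (Fin n → F)) (b : ι → (Fin n → F))
    (horth : ∀ i j, i ≠ j → QuadraticMap.polar (⇑Q) (b i) (b j) = 0) (x : ι → F) :
    Q (∑ i, x i • b i) = ∑ i, x i ^ 2 * Q (b i) := by
  rw [npnp1_map_sum Q]
  · apply Finset.sum_congr rfl
    intro i _
    rw [QuadraticMap.map_smul, smul_eq_mul]
    ring
  · intro i _ j _ hij
    rw [QuadraticMap.polar_smul_left, QuadraticMap.polar_smul_right, horth i j hij]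
    simp

/-- pairwise orthogonal vectors with non-zero values of `Q` are linearly independent (`2 ≠ 0`) -/
theorem npnp3b_linindep {ι : Type*} [Fintype ι] [DecidableEq ι] (h2 : (2 : F) ≠ 0) (Q : QuadraticForm F (Fin n → F))
    (b : ι → (Fin n → F)) (horth : ∀ i j, i ≠ j → QuadraticMap.polar (⇑Q) (b i) (b j) = 0)
    (hne : ∀ i, Q (b i) ≠ 0) : LinearIndependent F b := by
  rw [Fintype.linearIndependent_iff]
  intro x hx i
  have h1 : QuadraticMap.polar (⇑Q) (b i) (∑ j, x j • b j) = 0 := by
    rw [hx]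
    simp
  rw [npnp1_polar_sum_right, Finset.sum_eq_single i] at h1
  · rw [QuadraticMap.polar_smul_right, QuadraticMap.polar_self, smul_eq_mul] at h1
    rcases mul_eq_zero.mp h1 with h | h
    · exact h
    · rw [two_nsmul, ← two_mul] at h
      exact absurd h (mul_ne_zero h2 (hne i))
  · intro j _ hji
    rw [QuadraticMap.polar_smul_right, horth i j (Ne.symm hji)]
    simp
  · intro h
    exact absurd (Finset.mem_univ i) h

/-- two subspaces with orthogonal bases whose `Q`-values differ by the factor `c` are `c`-similar -/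
theorem npnp3b_similar_of_bases {ι : Type*} [Fintype ι] [DecidableEq ι] [Nonempty ι] (h2 : (2 : F) ≠ 0)
    (Q : QuadraticForm F (Fin n → F)) (W W' : Submodule F (Fin n → F))
    (b b' : ι → (Fin n → F)) (hb : ∀ i, b i ∈ W) (hb' : ∀ i, b' i ∈ W')
    (hcard : Fintype.card ι = Module.finrank F W) (hcard' : Fintype.card ι = Module.finrank F W')
    (horth : ∀ i j, i ≠ j → QuadraticMap.polar (⇑Q) (b i) (b j) = 0)
    (horth' : ∀ i j, i ≠ j → QuadraticMap.polar (⇑Q) (b' i) (b' j) = 0)
    (hne : ∀ i, Q (b i) ≠ 0) (c : F) (hc : c ≠ 0) (hval : ∀ i, Q (b' i) = c * Q (b i)) :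
    ∃ σ : W ≃ₗ[F] W', ∀ w : W, Q ((σ w : W') : Fin n → F) = c * Q (w : Fin n → F) := by
  have hne' : ∀ i, Q (b' i) ≠ 0 := fun i => by rw [hval]; exact mul_ne_zero hc (hne i)
  let bW : ι → W := fun i => ⟨b i, hb i⟩
  let bW' : ι → W' := fun i => ⟨b' i, hb' i⟩
  have hli : LinearIndependent F bW := by
    have := npnp3b_linindep h2 Q b horth hne
    exact LinearIndependent.of_comp W.subtype this
  have hli' : LinearIndependent F bW' := by
    have := npnp3b_linindep h2 Q b' horth' hne'
    exact LinearIndependent.of_comp W'.subtype this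
  let B : Module.Basis ι F W := basisOfLinearIndependentOfCardEqFinrank hli hcard
  let B' : Module.Basis ι F W' := basisOfLinearIndependentOfCardEqFinrank hli' hcard'
  have hB : ∀ i, ((B i : W) : Fin n → F) = b i := by
    intro i
    simp [B, bW]
  have hB' : ∀ i, ((B' i : W') : Fin n → F) = b' i := by
    intro i
    simp [B', bW']
  refine ⟨B.equiv B' (Equiv.refl ι), fun w => ?_⟩
  have hw : (w : Fin n → F) = ∑ i, B.repr w i • b i := by
    conv_lhs => rw [← B.sum_repr w]
    rw [Submodule.coe_sum]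
    apply Finset.sum_congr rfl
    intro i _
    rw [Submodule.coe_smul, hB]
  have hσw : ((B.equiv B' (Equiv.refl ι) w : W') : Fin n → F) = ∑ i, B.repr w i • b' i := by
    conv_lhs => rw [← B.sum_repr w]
    rw [map_sum, Submodule.coe_sum]
    apply Finset.sum_congr rfl
    intro i _
    rw [map_smul, Module.Basis.equiv_apply, Submodule.coe_smul, Equiv.refl_apply, hB']
  rw [hσw, hw, npnp3b_Q_comb Q b' horth', npnp3b_Q_comb Q b horth, Finset.mul_sum]
  apply Finset.sum_congr rfl
  intro i _
  rw [hval]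
  ring

/-- the product of two non-squares of a finite field of odd order is a square -/
theorem npnp3b_nonsq_mul [Fintype F] [DecidableEq F] {x y : F} (hx : ¬ IsSquare x) (hy : ¬ IsSquare y) :
    IsSquare (x * y) := by
  have hx0 : x ≠ 0 := fun h => hx (by rw [h]; exact IsSquare.zero)
  have hy0 : y ≠ 0 := fun h => hy (by rw [h]; exact IsSquare.zero)
  rw [← quadraticChar_one_iff_isSquare (mul_ne_zero hx0 hy0), map_mul,
    quadraticChar_neg_one_iff_not_isSquare.mpr hx, quadraticChar_neg_one_iff_not_isSquare.mpr hy]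
  norm_num

/-- every element of a finite field of odd order is a sum of two squares -/
theorem npnp3b_sum_two_squares [Fintype F] (h2 : (2 : F) ≠ 0) (c : F) : ∃ a₁ a₂ : F, a₁ ^ 2 + a₂ ^ 2 = c := by
  have hodd : Fintype.card F % 2 = 1 := by
    apply FiniteField.odd_card_of_char_ne_two
    intro h
    apply h2
    have := ringChar.Nat.cast_ringChar (R := F)
    rw [h] at this
    exact_mod_cast this
  obtain ⟨a, b, hab⟩ := FiniteField.exists_root_sum_quadratic (R := F)
    (f := Polynomial.X ^ 2) (g := Polynomial.X ^ 2 - Polynomial.C c)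
    (Polynomial.degree_X_pow 2) (by
      rw [Polynomial.degree_sub_C]
      · exact Polynomial.degree_X_pow 2
      · rw [Polynomial.degree_X_pow]; norm_num) hodd
  refine ⟨a, b, ?_⟩
  simp only [Polynomial.eval_pow, Polynomial.eval_X, Polynomial.eval_sub, Polynomial.eval_C] at hab
  linear_combination hab

/-- NP3B (core) : the normal form NP3A as a hypothesis -/
theorem npnp3b_core [Fintype F] (h2 : (2 : F) ≠ 0) (Q : QuadraticForm F (Fin n → F))
    (hNF : ∀ (m : ℕ) (W : Submodule F (Fin n → F)), IsNondegenerateOn (QuadraticMap.polar (⇑Q)) W →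
      Module.finrank F W = m + 1 →
      ∃ b : Fin (m + 1) → (Fin n → F), (∀ j, b j ∈ W) ∧ LinearIndependent F b ∧
        (∀ i j, i ≠ j → QuadraticMap.polar (⇑Q) (b i) (b j) = 0) ∧
        (∀ j : Fin m, Q (b j.castSucc) = 1) ∧ Q (b (Fin.last m)) ≠ 0)
    (W W' : Submodule F (Fin n → F)) (hW : IsNondegenerateOn (QuadraticMap.polar (⇑Q)) W)
    (hW' : IsNondegenerateOn (QuadraticMap.polar (⇑Q)) W') (hd : Module.finrank F W = Module.finrank F W')
    (hodd : Odd (Module.finrank F W)) (δ : F) (hδ : ¬ IsSquare δ) :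
    AreIsometricFor (⇑Q) W W' ∨
      ∃ σ : W ≃ₗ[F] W', ∀ w : W, Q ((σ w : W') : Fin n → F) = δ * Q (w : Fin n → F) := by
  classical
  obtain ⟨k, hk⟩ := hodd
  have hfr : Module.finrank F W = k * 2 + 1 := by omega
  have hfr' : Module.finrank F W' = k * 2 + 1 := by omega
  obtain ⟨b, hbW, -, hborth, hb1, hblast⟩ := hNF (k * 2) W hW hfr
  obtain ⟨b', hbW', -, hborth', hb1', hblast'⟩ := hNF (k * 2) W' hW' hfr'
  -- reindexing by `Option (Fin k × Fin 2)`
  let idx : Option (Fin k × Fin 2) → Fin (k * 2 + 1) := fun o =>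
    match o with
    | none => Fin.last (k * 2)
    | some p => Fin.castSucc (finProdFinEquiv p)
  have hidx : Function.Injective idx := by
    intro o o' h
    match o, o' with
    | none, none => rfl
    | none, some p =>
      exact absurd h.symm (Fin.castSucc_lt_last _).ne
    | some p, none =>
      exact absurd h (Fin.castSucc_lt_last _).ne
    | some p, some p' =>
      have : finProdFinEquiv p = finProdFinEquiv p' := Fin.castSucc_injective _ h
      rw [finProdFinEquiv.injective this]
  obtain ⟨β, hβ⟩ : ∃ β : Option (Fin k × Fin 2) → (Fin n → F), ∀ o, β o = b (idx o) :=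
    ⟨fun o => b (idx o), fun o => rfl⟩
  obtain ⟨β', hβ'⟩ : ∃ β' : Option (Fin k × Fin 2) → (Fin n → F), ∀ o, β' o = b' (idx o) :=
    ⟨fun o => b' (idx o), fun o => rfl⟩
  have hβorth : ∀ o o', o ≠ o' → QuadraticMap.polar (⇑Q) (β o) (β o') = 0 :=
    fun o o' h => by rw [hβ, hβ]; exact hborth _ _ (fun h' => h (hidx h'))
  have hβ'orth : ∀ o o', o ≠ o' → QuadraticMap.polar (⇑Q) (β' o) (β' o') = 0 :=
    fun o o' h => by rw [hβ', hβ']; exact hborth' _ _ (fun h' => h (hidx h'))
  have hβ1 : ∀ p, Q (β (some p)) = 1 := fun p => by rw [hβ]; exact hb1 _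
  have hβ'1 : ∀ p, Q (β' (some p)) = 1 := fun p => by rw [hβ']; exact hb1' _
  have hβW : ∀ o, β o ∈ W := fun o => by rw [hβ]; exact hbW _
  have hβ'W' : ∀ o, β' o ∈ W' := fun o => by rw [hβ']; exact hbW' _
  obtain ⟨d, hd_def⟩ : ∃ d : F, d = Q (β none) := ⟨_, rfl⟩
  obtain ⟨d', hd'_def⟩ : ∃ d' : F, d' = Q (β' none) := ⟨_, rfl⟩
  have hd0 : d ≠ 0 := by rw [hd_def, hβ]; exact hblast
  have hd'0 : d' ≠ 0 := by rw [hd'_def, hβ']; exact hblast'
  have hcardι : Fintype.card (Option (Fin k × Fin 2)) = k * 2 + 1 := by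
    rw [Fintype.card_option, Fintype.card_prod, Fintype.card_fin, Fintype.card_fin]
  -- the general construction
  have hgen : ∀ (c a₁ a₂ s : F), c ≠ 0 → a₁ ^ 2 + a₂ ^ 2 = c → s ^ 2 * d' = c * d →
      ∃ σ : W ≃ₗ[F] W', ∀ w : W, Q ((σ w : W') : Fin n → F) = c * Q (w : Fin n → F) := by
    intro c a₁ a₂ s hc hsum hs
    let γ : Option (Fin k × Fin 2) → (Fin n → F) := fun o =>
      match o with
      | none => s • β' none
      | some (i, r) => if r = 0 then a₁ • β' (some (i, 0)) + a₂ • β' (some (i, 1))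
          else (-a₂) • β' (some (i, 0)) + a₁ • β' (some (i, 1))
    have hγ0 : ∀ i, γ (some (i, 0)) = a₁ • β' (some (i, 0)) + a₂ • β' (some (i, 1)) := fun i => by
      simp [γ]
    have hγ1 : ∀ i, γ (some (i, 1)) = (-a₂) • β' (some (i, 0)) + a₁ • β' (some (i, 1)) := fun i => by
      simp [γ]
    have hγn : γ none = s • β' none := rfl
    have hself : ∀ o, QuadraticMap.polar (⇑Q) (β' o) (β' o) = 2 * Q (β' o) := by
      intro o
      rw [QuadraticMap.polar_self, two_nsmul, two_mul]
    have h01 : ∀ i : Fin k, (some (i, (0 : Fin 2)) : Option (Fin k × Fin 2)) ≠ some (i, 1) := by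
      intro i h
      simp at h
    -- a general expansion
    have hexp : ∀ (o₁ o₂ o₃ o₄ : Option (Fin k × Fin 2)) (x₁ x₂ x₃ x₄ : F),
        QuadraticMap.polar (⇑Q) (x₁ • β' o₁ + x₂ • β' o₂) (x₃ • β' o₃ + x₄ • β' o₄) =
          x₁ * x₃ * QuadraticMap.polar (⇑Q) (β' o₁) (β' o₃) + x₁ * x₄ * QuadraticMap.polar (⇑Q) (β' o₁) (β' o₄) +
          x₂ * x₃ * QuadraticMap.polar (⇑Q) (β' o₂) (β' o₃) + x₂ * x₄ * QuadraticMap.polar (⇑Q) (β' o₂) (β' o₄) := by
      intro o₁ o₂ o₃ o₄ x₁ x₂ x₃ x₄
      simp only [QuadraticMap.polar_add_left, QuadraticMap.polar_add_right, QuadraticMap.polar_smul_left,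
        QuadraticMap.polar_smul_right, smul_eq_mul]
      ring
    have hr2 : ∀ r : Fin 2, r = 0 ∨ r = 1 := by decide
    have hγform : ∀ (i : Fin k) (r : Fin 2), ∃ x₁ x₂ : F, γ (some (i, r)) = x₁ • β' (some (i, 0)) + x₂ • β' (some (i, 1)) := by
      intro i r
      rcases hr2 r with rfl | rfl
      · exact ⟨a₁, a₂, hγ0 i⟩
      · exact ⟨-a₂, a₁, hγ1 i⟩
    have hγorth : ∀ o o', o ≠ o' → QuadraticMap.polar (⇑Q) (γ o) (γ o') = 0 := by
      intro o o' hoo
      match o, o' with
      | none, none => exact absurd rfl hoo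
      | none, some (i, r) =>
        obtain ⟨x₁, x₂, hx⟩ := hγform i r
        rw [hx, hγn, QuadraticMap.polar_smul_left, QuadraticMap.polar_add_right, QuadraticMap.polar_smul_right,
          QuadraticMap.polar_smul_right, hβ'orth none (some (i, 0)) (by simp), hβ'orth none (some (i, 1)) (by simp)]
        simp
      | some (i, r), none =>
        obtain ⟨x₁, x₂, hx⟩ := hγform i r
        rw [hx, hγn, QuadraticMap.polar_smul_right, QuadraticMap.polar_add_left, QuadraticMap.polar_smul_left,
          QuadraticMap.polar_smul_left, hβ'orth (some (i, 0)) none (by simp), hβ'orth (some (i, 1)) none (by simp)]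
        simp
      | some (i, r), some (i', r') =>
        by_cases hii : i = i'
        · subst hii
          have hrr : r ≠ r' := fun h => hoo (by rw [h])
          have hcase : (r = 0 ∧ r' = 1) ∨ (r = 1 ∧ r' = 0) := by
            rcases hr2 r with h | h <;> rcases hr2 r' with h' | h'
            · exact absurd (h.trans h'.symm) hrr
            · exact Or.inl ⟨h, h'⟩
            · exact Or.inr ⟨h, h'⟩
            · exact absurd (h.trans h'.symm) hrr
          rcases hcase with ⟨rfl, rfl⟩ | ⟨rfl, rfl⟩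
          · have h := hexp (some (i, 0)) (some (i, 1)) (some (i, 0)) (some (i, 1)) a₁ a₂ (-a₂) a₁
            rw [hγ0, hγ1, h, hself (some (i, 0)), hself (some (i, 1)), hβ'orth _ _ (h01 i),
              hβ'orth _ _ (h01 i).symm, hβ'1, hβ'1]
            ring
          · have h := hexp (some (i, 0)) (some (i, 1)) (some (i, 0)) (some (i, 1)) (-a₂) a₁ a₁ a₂
            rw [hγ0, hγ1, h, hself (some (i, 0)), hself (some (i, 1)), hβ'orth _ _ (h01 i),
              hβ'orth _ _ (h01 i).symm, hβ'1, hβ'1]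
            ring
        · obtain ⟨x₁, x₂, hx⟩ := hγform i r
          obtain ⟨x₃, x₄, hx'⟩ := hγform i' r'
          have hne : ∀ (r₁ r₂ : Fin 2), (some (i, r₁) : Option (Fin k × Fin 2)) ≠ some (i', r₂) := by
            intro r₁ r₂ h
            simp at h
            exact hii h.1
          rw [hx, hx', hexp, hβ'orth _ _ (hne 0 0), hβ'orth _ _ (hne 0 1), hβ'orth _ _ (hne 1 0),
            hβ'orth _ _ (hne 1 1)]
          ring
    have hQpair : ∀ (i : Fin k) (x₁ x₂ : F), Q (x₁ • β' (some (i, 0)) + x₂ • β' (some (i, 1))) = x₁ ^ 2 + x₂ ^ 2 := by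
      intro i x₁ x₂
      rw [QuadraticMap.map_add Q, QuadraticMap.map_smul, QuadraticMap.map_smul, QuadraticMap.polar_smul_left,
        QuadraticMap.polar_smul_right, hβ'orth _ _ (h01 i), hβ'1, hβ'1]
      simp only [smul_eq_mul]
      ring
    have hγval : ∀ o, Q (γ o) = c * Q (β o) := by
      intro o
      match o with
      | none =>
        rw [hγn, QuadraticMap.map_smul, smul_eq_mul]
        rw [← hd'_def, ← hd_def, ← hs]; ring
      | some (i, r) =>
        rw [hβ1, mul_one]
        rcases hr2 r with rfl | rfl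
        · rw [hγ0, hQpair, hsum]
        · rw [hγ1, hQpair, ← hsum]
          ring
    have hγW' : ∀ o, γ o ∈ W' := by
      intro o
      match o with
      | none => exact W'.smul_mem _ (hβ'W' _)
      | some (i, r) =>
        obtain ⟨x₁, x₂, hx⟩ := hγform i r
        rw [hx]
        exact W'.add_mem (W'.smul_mem _ (hβ'W' _)) (W'.smul_mem _ (hβ'W' _))
    have hβne : ∀ o, Q (β o) ≠ 0 := by
      intro o
      match o with
      | none => rw [← hd_def]; exact hd0
      | some p => rw [hβ1]; exact one_ne_zero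
    exact npnp3b_similar_of_bases h2 Q W W' β γ hβW hγW' (by rw [hcardι, hfr]) (by rw [hcardι, hfr'])
      hβorth hγorth hβne c hc hγval
  by_cases hsq : IsSquare (d * d'⁻¹)
  · left
    obtain ⟨s, hs⟩ := hsq
    obtain ⟨σ, hσ⟩ := hgen 1 1 0 s one_ne_zero (by ring) (by
      have : s ^ 2 = d * d'⁻¹ := by rw [hs]; ring
      rw [this, one_mul]
      field_simp)
    exact ⟨σ, fun w => by rw [hσ, one_mul]⟩
  · right
    have hδ0 : δ ≠ 0 := fun h => hδ (by rw [h]; exact IsSquare.zero)
    obtain ⟨s, hs⟩ := npnp3b_nonsq_mul hδ hsq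
    obtain ⟨a₁, a₂, ha⟩ := npnp3b_sum_two_squares h2 δ
    exact hgen δ a₁ a₂ s hδ0 ha (by
      have : s ^ 2 = δ * (d * d'⁻¹) := by rw [hs]; ring
      rw [this]
      field_simp)

end Cfsg.Agent.Lib.Helper9.NotPlus
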