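import Mathlib
import Cfsg.Prelude.Def_GeometricClasses
import Cfsg.Agent.Lib.Helper9.NPNP3Bcore
import Cfsg.Agent.Lib.helper15.NPNP3A

set_option autoImplicit false
set_option linter.unusedVariables false
set_option linter.unusedSectionVars false

/-!
# Block NP, piece NP3B : two non-degenerate subspaces of the same odd dimension are similar (verbatim wrapper)
-/

namespace Cfsg.Agent.Lib.Helper9.NotPlus

open Cfsg Cfsg.Geo
open scoped MatrixGroups Matrix

variable {n : ℕ} {F : Type*} [Field F]

/-- NP3B -/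
theorem odd_similar [Fintype F] (h2 : (2 : F) ≠ 0) (Q : QuadraticForm F (Fin n → F))
    (W W' : Submodule F (Fin n → F)) (hW : IsNondegenerateOn (QuadraticMap.polar (⇑Q)) W)
    (hW' : IsNondegenerateOn (QuadraticMap.polar (⇑Q)) W') (hd : Module.finrank F W = Module.finrank F W')
    (hodd : Odd (Module.finrank F W)) (δ : F) (hδ : ¬ IsSquare δ) :
    AreIsometricFor (⇑Q) W W' ∨
      ∃ σ : W ≃ₗ[F] W', ∀ w : W, Q ((σ w : W') : Fin n → F) = δ * Q (w : Fin n → F) :=
  npnp3b_core h2 Q (fun m W hW hd => odd_normal_form h2 Q m W hW hd) W W' hW hW' hd hodd δ hδ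

end Cfsg.Agent.Lib.Helper9.NotPlus
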