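import Mathlib
import Cfsg.Agent.Lib.Helper9.OPH.Defs
import Cfsg.Agent.Lib.helper14.JTc

set_option autoImplicit false
set_option linter.unusedVariables false
set_option linter.unusedSectionVars false

/-!
# Project OPH, row SUBTYPE (helper9): `Cfsg.Agent.Lib.helper14.JTc.exists_sub_type` with the counts exposed
-/

namespace Cfsg.Agent.Lib.Helper9.OPH

open Module Cfsg.Agent.Lib.helper14.JTa Cfsg.Agent.Lib.helper14.JTc

/-- `comb` of helper14 with the counts of `ν` -/
theorem ophsubtype_comb (μ : Multiset ℕ) (eA eB : ℕ → ℕ) (hA : ∀ k, eA (k + 1) ≤ eA k)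
    (hB : ∀ k, eB (k + 1) ≤ eB k)
    (h : ∀ k, (μ.filter (fun b => k < b)).card = eA k + eB k) (K : ℕ) (hK : eA K = 0) :
    ∃ ν : Multiset ℕ, ν ≤ μ ∧ ν.sum = ∑ k ∈ Finset.range K, eA k ∧ ∀ i, ν.count (i + 1) = eA i - eA (i + 1) := by
  have hzero : ∀ i, K ≤ i → eA i = 0 := by
    intro i hi
    induction i, hi using Nat.le_induction with
    | base => exact hK
    | succ i _ ih =>
      have := hA i
      omega
  have hc : ∀ i k, Multiset.count (i + 1) (Multiset.replicate (eA k - eA (k + 1)) (k + 1)) =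
      if i = k then eA k - eA (k + 1) else 0 := by
    intro i k
    rw [Multiset.count_replicate]
    by_cases hik : i = k
    · rw [if_pos hik, if_pos (by omega)]
    · rw [if_neg hik, if_neg (by omega)]
  refine ⟨∑ k ∈ Finset.range K, Multiset.replicate (eA k - eA (k + 1)) (k + 1), ?_, ?_, ?_⟩
  · rw [Multiset.le_iff_count]
    intro j
    rw [Multiset.count_sum']
    rcases j with _ | i
    · have : ∀ k ∈ Finset.range K, Multiset.count 0 (Multiset.replicate (eA k - eA (k + 1)) (k + 1)) = 0 := by
        intro k _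
        rw [Multiset.count_replicate, if_neg (by omega)]
      rw [Finset.sum_eq_zero this]
      exact Nat.zero_le _
    · simp only [hc]
      rw [Finset.sum_ite_eq]
      have h1 := count_add_card μ i
      have h2 := h i
      have h3 := h (i + 1)
      have h4 := hA i
      have h5 := hB i
      split_ifs
      · omega
      · exact Nat.zero_le _
  · have h1 : (∑ k ∈ Finset.range K, Multiset.replicate (eA k - eA (k + 1)) (k + 1)).sum =
        ∑ k ∈ Finset.range K, (eA k - eA (k + 1)) * (k + 1) := by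
      have h0 := map_sum (Multiset.sumAddMonoidHom (M := ℕ))
        (fun k => Multiset.replicate (eA k - eA (k + 1)) (k + 1)) (Finset.range K)
      rw [Multiset.coe_sumAddMonoidHom] at h0
      rw [h0]
      apply Finset.sum_congr rfl
      intro k _
      rw [Multiset.sum_replicate, smul_eq_mul]
    rw [h1, ← abel eA hA K, hK, Nat.mul_zero, Nat.add_zero]
  · intro i
    rw [Multiset.count_sum']
    simp only [hc]
    rw [Finset.sum_ite_eq]
    split_ifs with hi
    · rfl
    · rw [Finset.mem_range, not_lt] at hi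
      rw [hzero i hi, Nat.zero_sub]

variable {F : Type*} [Field F]

/-- SUBTYPE [S] -/
theorem oph_sub_type {V : Type*} [AddCommGroup V] [Module F V] [FiniteDimensional F V] (M : Module.End F V) (μ : Multiset ℕ)
    (hμ : ∀ k, dk M k = ty μ k)
    (A B : Submodule F V) (hAB : IsCompl A B) (hA : ∀ v ∈ A, M v ∈ A) (hB : ∀ v ∈ B, M v ∈ B)
    (K : ℕ) (hK : M ^ K = 0) :
    ∃ ν : Multiset ℕ, ν ≤ μ ∧ ν.sum = finrank F A ∧
      ∀ k, ν.count (k + 1) + dk (M.restrict hA) k + dk (M.restrict hA) (k + 2) = 2 * dk (M.restrict hA) (k + 1) := by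
  have hAK : (M.restrict hA) ^ K = 0 := by
    rw [Module.End.pow_restrict K hA]
    apply LinearMap.ext
    intro a
    apply Subtype.ext
    rw [LinearMap.coe_restrict_apply, hK]
    rfl
  have hcard : ∀ k, (μ.filter (fun b => k < b)).card = ek (M.restrict hA) k + ek (M.restrict hB) k := by
    intro k
    have h1 := hμ (k + 1)
    have h2 := hμ k
    unfold ty at h1 h2
    rw [sum_min_succ, ← h2, dk_add M A B hAB hA hB (k + 1), dk_add M A B hAB hA hB k, dk_succ,
      dk_succ] at h1
    omega
  obtain ⟨ν, hν1, hν2, hν3⟩ := ophsubtype_comb μ (ek (M.restrict hA)) (ek (M.restrict hB))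
    (ek_succ_le _) (ek_succ_le _) hcard K (ek_of_pow_eq_zero _ K hAK)
  refine ⟨ν, hν1, ?_, ?_⟩
  · rw [hν2, ← dk_eq_sum, dk_of_pow_eq_zero _ K hAK]
  · intro k
    rw [hν3 k]
    have h1 := dk_succ (M.restrict hA) k
    have h2 := dk_succ (M.restrict hA) (k + 1)
    have h3 := ek_succ_le (M.restrict hA) k
    rw [show k + 1 + 1 = k + 2 by omega] at h2
    omega

end Cfsg.Agent.Lib.Helper9.OPH
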