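import Mathlib
import Cfsg.Agent.Lib.Helper9.OPH.Defs

set_option autoImplicit false
set_option linter.unusedVariables false
set_option linter.unusedSectionVars false

/-!
# Project OPH, row REALALL (helper9), core: the induction, with REALPAIR / REALODD / REALSUM as hypotheses
(usable for any predicate `R s μ`, e.g. for the siblings S5994 / S5995)
-/

namespace Cfsg.Agent.Lib.Helper9.OPH

open Module

/-- the multiset induction behind REALALL, for an arbitrary predicate `R` -/
theorem ophrealall_core (R : ℕ → Multiset ℕ → Prop) (hzero : R 0 0)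
    (hpair : ∀ e : ℕ, R e {e, e})
    (hodd : ∀ a b s : ℕ, Odd a → Odd b → a + b = 2 * s → R s {a, b})
    (hsum : ∀ (s₁ s₂ : ℕ) (μ₁ μ₂ : Multiset ℕ), R s₁ μ₁ → R s₂ μ₂ → R (s₁ + s₂) (μ₁ + μ₂)) :
    ∀ (n : ℕ) (μ : Multiset ℕ) (d : ℕ), Multiset.card μ = n → (∀ e : ℕ, Even e → Even (μ.count e)) → μ.sum = 2 * d → R d μ := by
  intro n
  induction n using Nat.strong_induction_on with
  | _ n ih =>
    intro μ d hcard hμe hμs
    by_cases h0 : μ = 0
    · subst h0
      have : d = 0 := by
        rw [Multiset.sum_zero] at hμs
        omega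
      subst this
      exact hzero
    by_cases hA : ∃ e, 2 ≤ μ.count e
    · -- a repeated part
      obtain ⟨e, he⟩ := hA
      have hemem : e ∈ μ := Multiset.count_pos.mp (by omega)
      have h1 : e ::ₘ μ.erase e = μ := Multiset.cons_erase hemem
      have hemem2 : e ∈ μ.erase e := by
        apply Multiset.count_pos.mp
        rw [Multiset.count_erase_self]
        omega
      have h2 : e ::ₘ (μ.erase e).erase e = μ.erase e := Multiset.cons_erase hemem2
      set μ' := (μ.erase e).erase e with hμ'
      have h3 : μ = e ::ₘ e ::ₘ μ' := by rw [h2, h1]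
      have hsum' : e + (e + μ'.sum) = 2 * d := by
        rw [← hμs, h3, Multiset.sum_cons, Multiset.sum_cons]
      have hcard' : Multiset.card μ' + 2 = n := by
        rw [← hcard, h3, Multiset.card_cons, Multiset.card_cons]
      have hpar : ∀ x : ℕ, Even x → Even (μ'.count x) := by
        intro x hx
        have h4 := hμe x hx
        rw [h3, Multiset.count_cons, Multiset.count_cons] at h4
        by_cases hxe : x = e
        · rw [if_pos hxe] at h4
          obtain ⟨t, ht⟩ := h4
          exact ⟨t - 1, by omega⟩
        · rw [if_neg hxe] at h4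
          exact h4
      have hR' : R (d - e) μ' := ih (Multiset.card μ') (by omega) μ' (d - e) rfl hpar (by omega)
      have hR := hsum e (d - e) {e, e} μ' (hpair e) hR'
      have h5 : e + (d - e) = d := by omega
      have h6 : ({e, e} : Multiset ℕ) + μ' = μ := by
        rw [h3, Multiset.insert_eq_cons, Multiset.cons_add, Multiset.singleton_add]
      rw [h5, h6] at hR
      exact hR
    · -- all parts are distinct, hence odd
      have hB : ∀ e, μ.count e < 2 := by
        intro e
        by_contra h
        exact hA ⟨e, by omega⟩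
      have hoddpart : ∀ a ∈ μ, Odd a := by
        intro a ha
        by_contra hna
        have hev : Even a := Nat.not_odd_iff_even.mp hna
        have h1 := hμe a hev
        have h2 : 0 < μ.count a := Multiset.count_pos.mpr ha
        have h3 := hB a
        obtain ⟨t, ht⟩ := h1
        omega
      obtain ⟨a, ha⟩ := Multiset.exists_mem_of_ne_zero h0
      have h1 : a ::ₘ μ.erase a = μ := Multiset.cons_erase ha
      have haodd := hoddpart a ha
      have hs1 : a + (μ.erase a).sum = 2 * d := by
        rw [← hμs, ← h1, Multiset.sum_cons, h1]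
      have h10 : μ.erase a ≠ 0 := by
        intro h
        rw [h, Multiset.sum_zero] at hs1
        obtain ⟨t, ht⟩ := haodd
        omega
      obtain ⟨b, hb⟩ := Multiset.exists_mem_of_ne_zero h10
      have h2 : b ::ₘ (μ.erase a).erase b = μ.erase a := Multiset.cons_erase hb
      have hbodd := hoddpart b (Multiset.mem_of_mem_erase hb)
      set μ₂ := (μ.erase a).erase b with hμ₂
      have h3 : μ = a ::ₘ b ::ₘ μ₂ := by rw [h2, h1]
      have hs2 : a + (b + μ₂.sum) = 2 * d := by
        rw [← hμs, h3, Multiset.sum_cons, Multiset.sum_cons]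
      have hcard' : Multiset.card μ₂ + 2 = n := by
        rw [← hcard, h3, Multiset.card_cons, Multiset.card_cons]
      obtain ⟨ka, hka⟩ := haodd
      obtain ⟨kb, hkb⟩ := hbodd
      have hpar : ∀ x : ℕ, Even x → Even (μ₂.count x) := by
        intro x hx
        have h4 := hμe x hx
        have h5 := hB x
        have h6 : μ₂.count x ≤ μ.count x := by
          rw [h3, Multiset.count_cons, Multiset.count_cons]
          omega
        obtain ⟨t, ht⟩ := h4
        exact ⟨0, by omega⟩
      have hR' : R (d - (ka + kb + 1)) μ₂ := ih (Multiset.card μ₂) (by omega) μ₂ (d - (ka + kb + 1)) rfl hpar (by omega)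
      have hR := hsum (ka + kb + 1) (d - (ka + kb + 1)) {a, b} μ₂
        (hodd a b (ka + kb + 1) ⟨ka, hka⟩ ⟨kb, hkb⟩ (by omega)) hR'
      have h5 : (ka + kb + 1) + (d - (ka + kb + 1)) = d := by omega
      have h6 : ({a, b} : Multiset ℕ) + μ₂ = μ := by
        rw [h3, Multiset.insert_eq_cons, Multiset.cons_add, Multiset.singleton_add]
      rw [h5, h6] at hR
      exact hR

end Cfsg.Agent.Lib.Helper9.OPH
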