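import Mathlib
import Cfsg.Agent.Lib.Helper9.OPH.Defs
import Cfsg.Agent.Lib.helper14.JTb

set_option autoImplicit false
set_option linter.unusedVariables false
set_option linter.unusedSectionVars false

/-!
# Project OPH, row REALODD (helper9), core: two odd blocks
-/

namespace Cfsg.Agent.Lib.Helper9.OPH

open Module Cfsg.Agent.Lib.helper14.JTa Cfsg.Agent.Lib.helper14.JTb

variable {F : Type*} [Field F]

/-- the anti-diagonal form with alternating signs on `F^(n+1)` -/
def ophrealodd_blk (n : ℕ) (c : F) (v w : Fin (n + 1) → F) : F :=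
  ∑ i : Fin (n + 1), c * (-1) ^ i.val * v i * w (Fin.rev i)

theorem ophrealodd_shift_castSucc (n : ℕ) (v : Fin (n + 1) → F) (i : Fin n) :
    shift F (n + 1) v i.castSucc = v i.succ := by
  rw [shift_apply]
  have h : (i.castSucc : Fin (n + 1)).val + 1 < n + 1 := by simp
  rw [dif_pos h]
  rfl

theorem ophrealodd_shift_last (n : ℕ) (v : Fin (n + 1) → F) :
    shift F (n + 1) v (Fin.last n) = 0 := by
  rw [shift_apply]
  have h : ¬ ((Fin.last n : Fin (n + 1)).val + 1 < n + 1) := by simp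
  rw [dif_neg h]

theorem ophrealodd_blk_skew (n : ℕ) (c : F) (v w : Fin (n + 1) → F) :
    ophrealodd_blk n c (shift F (n + 1) v) w = - ophrealodd_blk n c v (shift F (n + 1) w) := by
  unfold ophrealodd_blk
  rw [Fin.sum_univ_castSucc, Fin.sum_univ_succ (fun i : Fin (n + 1) => c * (-1) ^ i.val * v i * shift F (n + 1) w (Fin.rev i))]
  rw [ophrealodd_shift_last, Fin.rev_zero, ophrealodd_shift_last, mul_zero, zero_mul, add_zero, mul_zero, zero_add,
    ← Finset.sum_neg_distrib]
  apply Finset.sum_congr rfl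
  intro i _
  rw [ophrealodd_shift_castSucc, Fin.rev_succ, ophrealodd_shift_castSucc, Fin.rev_castSucc, Fin.val_succ, Fin.val_castSucc, pow_succ]
  ring

theorem ophrealodd_blk_symm (k : ℕ) (c : F) (v w : Fin (2 * k + 1) → F) :
    ophrealodd_blk (2 * k) c v w = ophrealodd_blk (2 * k) c w v := by
  unfold ophrealodd_blk
  rw [← Equiv.sum_comp Fin.revPerm]
  apply Finset.sum_congr rfl
  intro i _
  rw [Fin.revPerm_apply, Fin.rev_rev, Fin.val_rev]
  have hi : i.val < 2 * k + 1 := i.2
  have h1 : ((-1 : F)) ^ (2 * k + 1 - (i.val + 1)) = (-1) ^ i.val := by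
    have h2 : (2 * k + 1 - (i.val + 1)) + 2 * i.val = 2 * k + i.val := by omega
    have h3 : ((-1 : F)) ^ (2 * k + 1 - (i.val + 1)) * ((-1) ^ i.val) ^ 2 = (-1) ^ i.val * ((-1) ^ k) ^ 2 := by
      rw [← pow_mul, ← pow_mul, ← pow_add, ← pow_add]
      congr 1
      omega
    rw [← pow_mul, ← pow_mul, mul_comm i.val 2, mul_comm k 2, pow_mul, pow_mul, neg_one_sq, one_pow, one_pow, mul_one,
      mul_one] at h3
    exact h3
  rw [h1]
  ring

theorem ophrealodd_blk_add_left (n : ℕ) (c : F) (v v' w : Fin (n + 1) → F) :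
    ophrealodd_blk n c (v + v') w = ophrealodd_blk n c v w + ophrealodd_blk n c v' w := by
  unfold ophrealodd_blk
  rw [← Finset.sum_add_distrib]
  apply Finset.sum_congr rfl
  intro i _
  rw [Pi.add_apply]
  ring

theorem ophrealodd_blk_smul_left (n : ℕ) (c t : F) (v w : Fin (n + 1) → F) :
    ophrealodd_blk n c (t • v) w = t * ophrealodd_blk n c v w := by
  unfold ophrealodd_blk
  rw [Finset.mul_sum]
  apply Finset.sum_congr rfl
  intro i _
  rw [Pi.smul_apply, smul_eq_mul]
  ring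

theorem ophrealodd_blk_add_right (n : ℕ) (c : F) (v w w' : Fin (n + 1) → F) :
    ophrealodd_blk n c v (w + w') = ophrealodd_blk n c v w + ophrealodd_blk n c v w' := by
  unfold ophrealodd_blk
  rw [← Finset.sum_add_distrib]
  apply Finset.sum_congr rfl
  intro i _
  rw [Pi.add_apply]
  ring

theorem ophrealodd_blk_smul_right (n : ℕ) (c t : F) (v w : Fin (n + 1) → F) :
    ophrealodd_blk n c v (t • w) = t * ophrealodd_blk n c v w := by
  unfold ophrealodd_blk
  rw [Finset.mul_sum]
  apply Finset.sum_congr rfl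
  intro i _
  rw [Pi.smul_apply, smul_eq_mul]
  ring

/-- pairing with a basis vector -/
theorem ophrealodd_blk_single (n : ℕ) (c : F) (v : Fin (n + 1) → F) (i : Fin (n + 1)) :
    ophrealodd_blk n c v (Pi.single (Fin.rev i) 1) = c * (-1) ^ i.val * v i := by
  unfold ophrealodd_blk
  rw [Finset.sum_eq_single i]
  · rw [Pi.single_eq_same, mul_one]
  · intro j _ hji
    have : Fin.rev j ≠ Fin.rev i := fun h => hji (Fin.rev_injective h)
    rw [Pi.single_eq_of_ne this, mul_zero]
  · intro h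
    exact absurd (Finset.mem_univ i) h

/-- the value on the "upper half" -/
theorem ophrealodd_blk_self (k : ℕ) (c : F) (v : Fin (2 * k + 1) → F) (hv : ∀ i : Fin (2 * k + 1), i.val < k → v i = 0) :
    ophrealodd_blk (2 * k) c v v = c * (-1) ^ k * v ⟨k, by omega⟩ ^ 2 := by
  unfold ophrealodd_blk
  rw [Finset.sum_eq_single (⟨k, by omega⟩ : Fin (2 * k + 1))]
  · have h1 : Fin.rev (⟨k, by omega⟩ : Fin (2 * k + 1)) = ⟨k, by omega⟩ := by
      apply Fin.ext
      rw [Fin.val_rev]
      simp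
      omega
    rw [h1]
    show c * (-1) ^ k * v ⟨k, _⟩ * v ⟨k, _⟩ = _
    ring
  · intro j _ hjk
    rcases Nat.lt_or_ge j.val k with h | h
    · rw [hv j h]
      ring
    · have h3 : (Fin.rev j).val < k := by
        rw [Fin.val_rev]
        have : j.val ≠ k := fun h' => hjk (Fin.ext h')
        have := j.2
        omega
      rw [hv _ h3]
      ring
  · intro h
    exact absurd (Finset.mem_univ _) h

/-- the bilinear form on the product of the two blocks -/
def ophrealodd_B (F : Type*) [Field F] (k l : ℕ) :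
    LinearMap.BilinForm F ((Fin (2 * k + 1) → F) × (Fin (2 * l + 1) → F)) :=
  LinearMap.mk₂ F (fun x y => ophrealodd_blk (2 * k) ((-1) ^ k) x.1 y.1 + ophrealodd_blk (2 * l) (-(-1) ^ l) x.2 y.2)
    (by
      intro x x' y
      simp only [Prod.fst_add, Prod.snd_add, ophrealodd_blk_add_left]
      ring)
    (by
      intro t x y
      simp only [Prod.smul_fst, Prod.smul_snd, ophrealodd_blk_smul_left, smul_eq_mul]
      ring)
    (by
      intro x y y'
      simp only [Prod.fst_add, Prod.snd_add, ophrealodd_blk_add_right]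
      ring)
    (by
      intro t x y
      simp only [Prod.smul_fst, Prod.smul_snd, ophrealodd_blk_smul_right, smul_eq_mul]
      ring)

theorem ophrealodd_B_apply (k l : ℕ) (x y : (Fin (2 * k + 1) → F) × (Fin (2 * l + 1) → F)) :
    ophrealodd_B F k l x y =
      ophrealodd_blk (2 * k) ((-1) ^ k) x.1 y.1 + ophrealodd_blk (2 * l) (-(-1) ^ l) x.2 y.2 := rfl

theorem ophrealodd_B_symm (k l : ℕ) (x y : (Fin (2 * k + 1) → F) × (Fin (2 * l + 1) → F)) :
    ophrealodd_B F k l x y = ophrealodd_B F k l y x := by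
  rw [ophrealodd_B_apply, ophrealodd_B_apply, ophrealodd_blk_symm, ophrealodd_blk_symm l]

/-- the quadratic form -/
noncomputable def ophrealodd_Q (F : Type*) [Field F] (k l : ℕ) :
    QuadraticForm F ((Fin (2 * k + 1) → F) × (Fin (2 * l + 1) → F)) :=
  LinearMap.BilinMap.toQuadraticMap ((2⁻¹ : F) • ophrealodd_B F k l)

theorem ophrealodd_Q_apply (k l : ℕ) (x : (Fin (2 * k + 1) → F) × (Fin (2 * l + 1) → F)) :
    ophrealodd_Q F k l x = 2⁻¹ * ophrealodd_B F k l x x := by
  unfold ophrealodd_Q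
  rw [LinearMap.BilinMap.toQuadraticMap_apply, LinearMap.smul_apply, LinearMap.smul_apply, smul_eq_mul]

theorem ophrealodd_polar (h2 : (2 : F) ≠ 0) (k l : ℕ) (x y : (Fin (2 * k + 1) → F) × (Fin (2 * l + 1) → F)) :
    QuadraticMap.polar (ophrealodd_Q F k l) x y = ophrealodd_B F k l x y := by
  unfold ophrealodd_Q
  rw [LinearMap.BilinMap.polar_toQuadraticMap, LinearMap.smul_apply, LinearMap.smul_apply, LinearMap.smul_apply,
    LinearMap.smul_apply, smul_eq_mul, smul_eq_mul, ophrealodd_B_symm k l y x]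
  field_simp
  ring

theorem ophrealodd_nondeg (h2 : (2 : F) ≠ 0) (k l : ℕ) :
    (QuadraticMap.polarBilin (ophrealodd_Q F k l)).Nondegenerate := by
  have hleft : ∀ x : (Fin (2 * k + 1) → F) × (Fin (2 * l + 1) → F),
      (∀ y, ophrealodd_B F k l x y = 0) → x = 0 := by
    intro x hx
    have hu : ∀ n : ℕ, ((-1 : F)) ^ n ≠ 0 := fun n => pow_ne_zero n (neg_ne_zero.mpr one_ne_zero)
    apply Prod.ext
    · funext i
      have h := hx (Pi.single (Fin.rev i) 1, 0)
      rw [ophrealodd_B_apply] at h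
      have h0 : ophrealodd_blk (2 * l) (-(-1) ^ l) x.2 (0 : Fin (2 * l + 1) → F) = 0 := by
        unfold ophrealodd_blk
        simp
      rw [h0, add_zero, ophrealodd_blk_single] at h
      rcases mul_eq_zero.mp h with h | h
      · exact absurd h (mul_ne_zero (hu k) (hu _))
      · exact h
    · funext j
      have h := hx (0, Pi.single (Fin.rev j) 1)
      rw [ophrealodd_B_apply] at h
      have h0 : ophrealodd_blk (2 * k) ((-1) ^ k) x.1 (0 : Fin (2 * k + 1) → F) = 0 := by
        unfold ophrealodd_blk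
        simp
      rw [h0, zero_add, ophrealodd_blk_single] at h
      rcases mul_eq_zero.mp h with h | h
      · exact absurd h (mul_ne_zero (neg_ne_zero.mpr (hu l)) (hu _))
      · exact h
  constructor
  · intro x hx
    apply hleft x
    intro y
    have := hx y
    rw [QuadraticMap.polarBilin_apply_apply, ophrealodd_polar h2] at this
    exact this
  · intro y hy
    apply hleft y
    intro x
    have := hy x
    rw [QuadraticMap.polarBilin_apply_apply, ophrealodd_polar h2, ophrealodd_B_symm] at this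
    exact this

/-- the nilpotent endomorphism -/
noncomputable def ophrealodd_T (F : Type*) [Field F] (k l : ℕ) :
    Module.End F ((Fin (2 * k + 1) → F) × (Fin (2 * l + 1) → F)) :=
  LinearMap.prodMap (shift F (2 * k + 1)) (shift F (2 * l + 1))

theorem ophrealodd_T_skew (h2 : (2 : F) ≠ 0) (k l : ℕ) (x y : (Fin (2 * k + 1) → F) × (Fin (2 * l + 1) → F)) :
    QuadraticMap.polar (ophrealodd_Q F k l) (ophrealodd_T F k l x) y =
      - QuadraticMap.polar (ophrealodd_Q F k l) x (ophrealodd_T F k l y) := by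
  rw [ophrealodd_polar h2, ophrealodd_polar h2, ophrealodd_B_apply, ophrealodd_B_apply]
  unfold ophrealodd_T
  rw [LinearMap.prodMap_apply, LinearMap.prodMap_apply]
  show ophrealodd_blk (2 * k) ((-1) ^ k) (shift F (2 * k + 1) x.1) y.1 +
      ophrealodd_blk (2 * l) (-(-1) ^ l) (shift F (2 * l + 1) x.2) y.2 = _
  rw [ophrealodd_blk_skew, ophrealodd_blk_skew]
  show _ = -(ophrealodd_blk (2 * k) ((-1) ^ k) x.1 (shift F (2 * k + 1) y.1) +
      ophrealodd_blk (2 * l) (-(-1) ^ l) x.2 (shift F (2 * l + 1) y.2))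
  ring

theorem ophrealodd_T_dk (k l n : ℕ) :
    dk (ophrealodd_T F k l) n = ty {2 * k + 1, 2 * l + 1} n := by
  unfold ophrealodd_T
  rw [dk_prodMap, dk_shift, dk_shift]
  unfold ty
  simp

/-- the linear conditions cutting out the totally singular subspace -/
def ophrealodd_Psi (F : Type*) [Field F] (k l : ℕ) :
    ((Fin (2 * k + 1) → F) × (Fin (2 * l + 1) → F)) →ₗ[F] ((Fin k → F) × (Fin l → F) × F) where
  toFun x := (fun i => x.1 ⟨i.val, by have := i.2; omega⟩, fun j => x.2 ⟨j.val, by have := j.2; omega⟩,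
    x.1 ⟨k, by omega⟩ - x.2 ⟨l, by omega⟩)
  map_add' x y := by
    refine Prod.ext ?_ (Prod.ext ?_ ?_)
    · funext i
      rfl
    · funext j
      rfl
    · show (x + y).1 ⟨k, _⟩ - (x + y).2 ⟨l, _⟩ = (x.1 ⟨k, _⟩ - x.2 ⟨l, _⟩) + (y.1 ⟨k, _⟩ - y.2 ⟨l, _⟩)
      rw [Prod.fst_add, Prod.snd_add, Pi.add_apply, Pi.add_apply]
      ring
  map_smul' t x := by
    refine Prod.ext ?_ (Prod.ext ?_ ?_)
    · funext i
      rfl
    · funext j
      rfl
    · show (t • x).1 ⟨k, _⟩ - (t • x).2 ⟨l, _⟩ = t • (x.1 ⟨k, _⟩ - x.2 ⟨l, _⟩)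
      rw [Prod.smul_fst, Prod.smul_snd, Pi.smul_apply, Pi.smul_apply, smul_eq_mul, smul_eq_mul, smul_eq_mul]
      ring

theorem ophrealodd_Psi_surj (k l : ℕ) : Function.Surjective (ophrealodd_Psi F k l) := by
  rintro ⟨f, g, t⟩
  refine ⟨(fun i => if h : i.val < k then f ⟨i.val, h⟩ else if i.val = k then t else 0,
    fun j => if h : j.val < l then g ⟨j.val, h⟩ else 0), ?_⟩
  refine Prod.ext ?_ (Prod.ext ?_ ?_)
  · funext i
    show (if h : (⟨i.val, _⟩ : Fin (2 * k + 1)).val < k then f ⟨_, h⟩ else _) = f i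
    rw [dif_pos i.2]
  · funext j
    show (if h : (⟨j.val, _⟩ : Fin (2 * l + 1)).val < l then g ⟨_, h⟩ else _) = g j
    rw [dif_pos j.2]
  · show (if h : (⟨k, _⟩ : Fin (2 * k + 1)).val < k then f ⟨_, h⟩ else if (⟨k, _⟩ : Fin (2 * k + 1)).val = k then t else 0)
        - (if h : (⟨l, _⟩ : Fin (2 * l + 1)).val < l then g ⟨_, h⟩ else 0) = t
    rw [dif_neg (lt_irrefl k), if_pos rfl, dif_neg (lt_irrefl l), sub_zero]

theorem ophrealodd_finrank_U (k l : ℕ) :
    finrank F (LinearMap.ker (ophrealodd_Psi F k l)) = k + l + 1 := by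
  have h1 := LinearMap.finrank_range_add_finrank_ker (ophrealodd_Psi F k l)
  rw [LinearMap.range_eq_top.mpr (ophrealodd_Psi_surj k l), finrank_top, Module.finrank_prod, Module.finrank_prod,
    Module.finrank_prod, Module.finrank_fin_fun, Module.finrank_fin_fun, Module.finrank_fin_fun, Module.finrank_fin_fun,
    Module.finrank_self] at h1
  omega

theorem ophrealodd_Q_U (k l : ℕ) (x : (Fin (2 * k + 1) → F) × (Fin (2 * l + 1) → F))
    (hx : x ∈ LinearMap.ker (ophrealodd_Psi F k l)) : ophrealodd_Q F k l x = 0 := by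
  rw [LinearMap.mem_ker] at hx
  have h1 : ∀ i : Fin (2 * k + 1), i.val < k → x.1 i = 0 := by
    intro i hi
    have := congrFun (congrArg Prod.fst hx) ⟨i.val, hi⟩
    exact this
  have h2 : ∀ j : Fin (2 * l + 1), j.val < l → x.2 j = 0 := by
    intro j hj
    have := congrFun (congrArg (fun y => y.2.1) hx) ⟨j.val, hj⟩
    exact this
  have h3 : x.1 ⟨k, by omega⟩ - x.2 ⟨l, by omega⟩ = 0 := congrArg (fun y => y.2.2) hx
  rw [ophrealodd_Q_apply, ophrealodd_B_apply, ophrealodd_blk_self k _ x.1 h1, ophrealodd_blk_self l _ x.2 h2,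
    sub_eq_zero.mp h3]
  have h4 : ((-1 : F)) ^ k * (-1) ^ k = 1 := by
    rw [← mul_pow]
    simp
  have h5 : ((-1 : F)) ^ l * (-1) ^ l = 1 := by
    rw [← mul_pow]
    simp
  linear_combination (2⁻¹ * x.2 ⟨l, by omega⟩ ^ 2) * h4 - (2⁻¹ * x.2 ⟨l, by omega⟩ ^ 2) * h5

/-- REALODD with the instance of TRANSPORT as a hypothesis -/
theorem ophrealodd_core (h2 : (2 : F) ≠ 0) (k l : ℕ)
    (htr : ∀ (Q : QuadraticForm F ((Fin (2 * k + 1) → F) × (Fin (2 * l + 1) → F)))
      (hQ : (QuadraticMap.polarBilin Q).Nondegenerate)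
      (U : Submodule F ((Fin (2 * k + 1) → F) × (Fin (2 * l + 1) → F))) (hU : ∀ u ∈ U, Q u = 0) (s : ℕ)
      (hdim : finrank F U = s) (hV : finrank F ((Fin (2 * k + 1) → F) × (Fin (2 * l + 1) → F)) = 2 * s)
      (T : Module.End F ((Fin (2 * k + 1) → F) × (Fin (2 * l + 1) → F)))
      (hT : ∀ u v, QuadraticMap.polar Q (T u) v = - QuadraticMap.polar Q u (T v)) (μ : Multiset ℕ)
      (hμ : ∀ k, dk T k = ty μ k), Real F s μ) :
    Real F (k + l + 1) {2 * k + 1, 2 * l + 1} := by
  refine htr (ophrealodd_Q F k l) (ophrealodd_nondeg h2 k l) (LinearMap.ker (ophrealodd_Psi F k l))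
    (ophrealodd_Q_U k l) (k + l + 1) (ophrealodd_finrank_U k l) ?_ (ophrealodd_T F k l)
    (ophrealodd_T_skew h2 k l) _ (ophrealodd_T_dk k l)
  rw [Module.finrank_prod, Module.finrank_fin_fun, Module.finrank_fin_fun]
  omega

end Cfsg.Agent.Lib.Helper9.OPH
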