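import Mathlib
import Cfsg.Agent.Lib.Helper9.OPH.Defs
import Cfsg.Agent.Lib.helper6.PlusCoords

set_option autoImplicit false
set_option linter.unusedVariables false
set_option linter.unusedSectionVars false

/-!
# Project OPH, row TRANSPORT (helper9): abstract hyperbolic data to the standard coordinates
-/

namespace Cfsg.Agent.Lib.Helper9.OPH

open Module Cfsg.Agent.Lib.helper14.JTa

variable {F : Type*} [Field F]

/-- TRANSPORT [M] : abstract data to standard coordinates. -/
theorem oph_transport {V : Type*} [AddCommGroup V] [Module F V] [FiniteDimensional F V] (Q : QuadraticForm F V)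
    (hQ : (QuadraticMap.polarBilin Q).Nondegenerate) (U : Submodule F V) (hU : ∀ u ∈ U, Q u = 0) (s : ℕ)
    (hdim : finrank F U = s) (hV : finrank F V = 2 * s) (T : Module.End F V)
    (hT : ∀ u v, QuadraticMap.polar Q (T u) v = - QuadraticMap.polar Q u (T v)) (μ : Multiset ℕ)
    (hμ : ∀ k, dk T k = ty μ k) : Real F s μ := by
  obtain ⟨Φ, hΦ⟩ := Cfsg.Agent.Lib.helper6.Plus.exists_hyp_coords Q hQ U hU s hdim hV
  have hpol : ∀ a b : V, QuadraticMap.polar (Cfsg.quadFormPlus s F) (Φ a) (Φ b) = QuadraticMap.polar Q a b := by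
    intro a b
    unfold QuadraticMap.polar
    rw [← map_add, hΦ, hΦ, hΦ]
  refine ⟨LinearMap.toMatrix' (Φ.conjAlgEquiv F T), ?_, ?_⟩
  · intro u v
    have h1 : ∀ w : Fin s ⊕ Fin s → F, (LinearMap.toMatrix' (Φ.conjAlgEquiv F T)).mulVec w = Φ (T (Φ.symm w)) := by
      intro w
      rw [← Matrix.toLin'_apply, Matrix.toLin'_toMatrix', LinearEquiv.conjAlgEquiv_apply]
      rfl
    rw [h1, h1]
    have hu : u = Φ (Φ.symm u) := (Φ.apply_symm_apply u).symm
    have hv : v = Φ (Φ.symm v) := (Φ.apply_symm_apply v).symm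
    conv_lhs => rw [hv]
    conv_rhs => rw [hu]
    rw [hpol, hpol, hT]
  · intro k
    rw [Matrix.toLin'_toMatrix', dk_conj, hμ]

end Cfsg.Agent.Lib.Helper9.OPH
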