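import Mathlib
import Cfsg.Agent.Lib.Helper9.OPH.Defs
import Cfsg.Agent.Lib.Helper9.OPHREALODDcore
import Cfsg.Agent.Lib.Helper9.OPHTRANSPORT

set_option autoImplicit false
set_option linter.unusedVariables false
set_option linter.unusedSectionVars false

/-!
# Project OPH, row REALODD (helper9)
-/

namespace Cfsg.Agent.Lib.Helper9.OPH

open Module Cfsg.Agent.Lib.helper14.JTa

variable {F : Type*} [Field F]

/-- REALODD [L] -/
theorem oph_real_odd (h2 : (2 : F) ≠ 0) (a b s : ℕ) (ha : Odd a) (hb : Odd b) (hs : a + b = 2 * s) : Real F s {a, b} := by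
  obtain ⟨k, rfl⟩ := ha
  obtain ⟨l, rfl⟩ := hb
  have hs' : s = k + l + 1 := by omega
  subst hs'
  exact ophrealodd_core h2 k l (fun Q hQ U hU s hdim hV T hT μ hμ => oph_transport Q hQ U hU s hdim hV T hT μ hμ)

end Cfsg.Agent.Lib.Helper9.OPH
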