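import Mathlib
import Cfsg.Agent.Lib.Helper9.OPH.Defs
import Cfsg.Agent.Lib.Helper9.OPHREALODDcore
import Cfsg.Agent.Lib.Helper9.OPHTRANSPORT

set_option autoImplicit false
set_option linter.unusedVariables false
set_option linter.unusedSectionVars false

/-!
# Project OPH, row REALPAIR (helper9): the type `{e, e}` on `U ⊕ U*`

`V = F^e × F^e`, `Q (u, w) = Σ_i (-1)^i u_i w_(rev i)`; the shift is skew-adjoint for this pairing, so `T = shift × shift`.
-/

namespace Cfsg.Agent.Lib.Helper9.OPH

open Module Cfsg.Agent.Lib.helper14.JTa Cfsg.Agent.Lib.helper14.JTb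

variable {F : Type*} [Field F]

/-- pairing with a basis vector on the left -/
theorem ophrealpair_blk_single_left (n : ℕ) (c : F) (w : Fin (n + 1) → F) (i : Fin (n + 1)) :
    ophrealodd_blk n c (Pi.single i 1) w = c * (-1) ^ i.val * w (Fin.rev i) := by
  unfold ophrealodd_blk
  rw [Finset.sum_eq_single i]
  · rw [Pi.single_eq_same, mul_one]
  · intro j _ hji
    rw [Pi.single_eq_of_ne hji, mul_zero, zero_mul]
  · intro h
    exact absurd (Finset.mem_univ i) h

theorem ophrealpair_blk_zero_right (n : ℕ) (c : F) (v : Fin (n + 1) → F) : ophrealodd_blk n c v 0 = 0 := by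
  unfold ophrealodd_blk
  simp

theorem ophrealpair_blk_zero_left (n : ℕ) (c : F) (w : Fin (n + 1) → F) : ophrealodd_blk n c 0 w = 0 := by
  unfold ophrealodd_blk
  simp

/-- the bilinear map `((u, w), (u', w')) ↦ ⟨u, w'⟩` -/
def ophrealpair_B (F : Type*) [Field F] (n : ℕ) :
    LinearMap.BilinForm F ((Fin (n + 1) → F) × (Fin (n + 1) → F)) :=
  LinearMap.mk₂ F (fun x y => ophrealodd_blk n 1 x.1 y.2)
    (by
      intro x x' y
      simp only [Prod.fst_add, ophrealodd_blk_add_left])
    (by
      intro t x y
      simp only [Prod.smul_fst, ophrealodd_blk_smul_left, smul_eq_mul])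
    (by
      intro x y y'
      simp only [Prod.snd_add, ophrealodd_blk_add_right])
    (by
      intro t x y
      simp only [Prod.smul_snd, ophrealodd_blk_smul_right, smul_eq_mul])

theorem ophrealpair_B_apply (n : ℕ) (x y : (Fin (n + 1) → F) × (Fin (n + 1) → F)) :
    ophrealpair_B F n x y = ophrealodd_blk n 1 x.1 y.2 := rfl

/-- the quadratic form `Q (u, w) = ⟨u, w⟩` -/
noncomputable def ophrealpair_Q (F : Type*) [Field F] (n : ℕ) :
    QuadraticForm F ((Fin (n + 1) → F) × (Fin (n + 1) → F)) :=
  LinearMap.BilinMap.toQuadraticMap (ophrealpair_B F n)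

theorem ophrealpair_polar (n : ℕ) (x y : (Fin (n + 1) → F) × (Fin (n + 1) → F)) :
    QuadraticMap.polar (ophrealpair_Q F n) x y = ophrealodd_blk n 1 x.1 y.2 + ophrealodd_blk n 1 y.1 x.2 := by
  unfold ophrealpair_Q
  rw [LinearMap.BilinMap.polar_toQuadraticMap, ophrealpair_B_apply, ophrealpair_B_apply]

theorem ophrealpair_nondeg (n : ℕ) : (QuadraticMap.polarBilin (ophrealpair_Q F n)).Nondegenerate := by
  have hu : ∀ m : ℕ, (1 : F) * ((-1 : F)) ^ m ≠ 0 := fun m =>
    mul_ne_zero one_ne_zero (pow_ne_zero m (neg_ne_zero.mpr one_ne_zero))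
  have hleft : ∀ x : (Fin (n + 1) → F) × (Fin (n + 1) → F),
      (∀ y, QuadraticMap.polar (ophrealpair_Q F n) x y = 0) → x = 0 := by
    intro x hx
    apply Prod.ext
    · funext i
      have h := hx (0, Pi.single (Fin.rev i) 1)
      rw [ophrealpair_polar, ophrealpair_blk_zero_left, add_zero, ophrealodd_blk_single] at h
      rcases mul_eq_zero.mp h with h | h
      · exact absurd h (hu _)
      · exact h
    · funext i
      have h := hx (Pi.single (Fin.rev i) 1, 0)
      rw [ophrealpair_polar, ophrealpair_blk_zero_right, zero_add, ophrealpair_blk_single_left, Fin.rev_rev] at h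
      rcases mul_eq_zero.mp h with h | h
      · exact absurd h (hu _)
      · exact h
  constructor
  · intro x hx
    apply hleft x
    intro y
    have := hx y
    rw [QuadraticMap.polarBilin_apply_apply] at this
    exact this
  · intro y hy
    apply hleft y
    intro x
    have := hy x
    rw [QuadraticMap.polarBilin_apply_apply, QuadraticMap.polar_comm] at this
    exact this

/-- REALPAIR [M] -/
theorem oph_real_pair (e : ℕ) : Real F e {e, e} := by
  rcases e with _ | n
  · refine ⟨0, ?_, ?_⟩
    · intro u v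
      have hu : u = 0 := Subsingleton.elim _ _
      have hv : v = 0 := Subsingleton.elim _ _
      rw [hu, hv]
      simp [QuadraticMap.polar, Cfsg.quadFormPlus]
    · intro k
      have h1 : ∀ M : Module.End F (Fin 0 ⊕ Fin 0 → F), dk M k = 0 := by
        intro M
        unfold dk
        apply Nat.le_zero.mp
        refine le_trans (Submodule.finrank_le _) ?_
        rw [Module.finrank_fintype_fun_eq_card]
        simp
      rw [h1]
      unfold ty
      simp
  · refine oph_transport (ophrealpair_Q F n) (ophrealpair_nondeg n)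
      (LinearMap.range (LinearMap.inl F (Fin (n + 1) → F) (Fin (n + 1) → F))) ?_ (n + 1) ?_ ?_
      (LinearMap.prodMap (shift F (n + 1)) (shift F (n + 1))) ?_ _ ?_
    · rintro _ ⟨u, rfl⟩
      unfold ophrealpair_Q
      rw [LinearMap.BilinMap.toQuadraticMap_apply, ophrealpair_B_apply]
      exact ophrealpair_blk_zero_right n 1 _
    · rw [LinearMap.finrank_range_of_inj LinearMap.inl_injective, Module.finrank_fin_fun]
    · rw [Module.finrank_prod, Module.finrank_fin_fun]
      omega
    · intro x y
      rw [ophrealpair_polar, ophrealpair_polar, LinearMap.prodMap_apply, LinearMap.prodMap_apply]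
      show ophrealodd_blk n 1 (shift F (n + 1) x.1) y.2 + ophrealodd_blk n 1 y.1 (shift F (n + 1) x.2) =
        -(ophrealodd_blk n 1 x.1 (shift F (n + 1) y.2) + ophrealodd_blk n 1 (shift F (n + 1) y.1) x.2)
      rw [ophrealodd_blk_skew n 1 x.1, ophrealodd_blk_skew n 1 y.1]
      ring
    · intro k
      rw [dk_prodMap, dk_shift]
      unfold ty
      simp

end Cfsg.Agent.Lib.Helper9.OPH
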