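import Mathlib
import Cfsg.Agent.Lib.Helper9.OPH.Defs
import Cfsg.Agent.Lib.Helper9.OPHTRANSPORT
import Cfsg.Agent.Lib.helper14.JTb
import Cfsg.Agent.Lib.Helper16.PlusFam

set_option autoImplicit false
set_option linter.unusedVariables false
set_option linter.unusedSectionVars false

/-!
# Project OPH, row REALSUM (helper9): orthogonal sums
-/

namespace Cfsg.Agent.Lib.Helper9.OPH

open Module Cfsg.Agent.Lib.helper14.JTa Cfsg.Agent.Lib.helper14.JTb Cfsg.Agent.Lib.Helper16

variable {F : Type*} [Field F]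

theorem ophrealsum_ty_add (μ₁ μ₂ : Multiset ℕ) (k : ℕ) : ty (μ₁ + μ₂) k = ty μ₁ k + ty μ₂ k := by
  unfold ty
  rw [Multiset.map_add, Multiset.sum_add]

/-- the standard totally singular subspace `{v | v ∘ inr = 0}` -/
def ophrealsum_U (F : Type*) [Field F] (s : ℕ) : Submodule F (Fin s ⊕ Fin s → F) :=
  LinearMap.ker (LinearMap.funLeft F F (Sum.inr : Fin s → Fin s ⊕ Fin s))

theorem ophrealsum_mem_U (s : ℕ) (v : Fin s ⊕ Fin s → F) :
    v ∈ ophrealsum_U F s ↔ ∀ j, v (Sum.inr j) = 0 := by
  unfold ophrealsum_U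
  rw [LinearMap.mem_ker]
  constructor
  · intro h j
    exact congrFun h j
  · intro h
    funext j
    exact h j

theorem ophrealsum_finrank_U (s : ℕ) : finrank F (ophrealsum_U F s) = s := by
  have hsurj : Function.Surjective (LinearMap.funLeft F F (Sum.inr : Fin s → Fin s ⊕ Fin s)) := by
    intro f
    refine ⟨Sum.elim 0 f, ?_⟩
    funext j
    rfl
  have h1 := LinearMap.finrank_range_add_finrank_ker (LinearMap.funLeft F F (Sum.inr : Fin s → Fin s ⊕ Fin s))
  rw [LinearMap.range_eq_top.mpr hsurj, finrank_top, Module.finrank_fintype_fun_eq_card,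
    Module.finrank_fintype_fun_eq_card, Fintype.card_sum, Fintype.card_fin] at h1
  unfold ophrealsum_U
  omega

theorem ophrealsum_Q_U (s : ℕ) (v : Fin s ⊕ Fin s → F) (hv : v ∈ ophrealsum_U F s) : qfPlus s F v = 0 := by
  rw [ophrealsum_mem_U] at hv
  rw [qfPlus_coe]
  unfold Cfsg.quadFormPlus
  apply Finset.sum_eq_zero
  intro i _
  rw [hv i, mul_zero]

/-- REALSUM [M-L] -/
theorem oph_real_sum (s₁ s₂ : ℕ) (μ₁ μ₂ : Multiset ℕ) (h₁ : Real F s₁ μ₁) (h₂ : Real F s₂ μ₂) :
    Real F (s₁ + s₂) (μ₁ + μ₂) := by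
  obtain ⟨T₁, hT₁, hd₁⟩ := h₁
  obtain ⟨T₂, hT₂, hd₂⟩ := h₂
  have hnd₁ := qfPlus_nondeg s₁ F
  have hnd₂ := qfPlus_nondeg s₂ F
  refine oph_transport ((qfPlus s₁ F).prod (qfPlus s₂ F)) ?_ ((ophrealsum_U F s₁).prod (ophrealsum_U F s₂)) ?_
    (s₁ + s₂) ?_ ?_ (LinearMap.prodMap (Matrix.toLin' T₁) (Matrix.toLin' T₂)) ?_ _ ?_
  · -- non-degenerate
    constructor
    · intro x hx
      apply Prod.ext
      · apply hnd₁.1
        intro y
        have := hx (y, 0)
        rw [QuadraticMap.polarBilin_apply_apply, QuadraticMap.polar_prod] at this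
        rw [QuadraticMap.polarBilin_apply_apply]
        simpa using this
      · apply hnd₂.1
        intro y
        have := hx (0, y)
        rw [QuadraticMap.polarBilin_apply_apply, QuadraticMap.polar_prod] at this
        rw [QuadraticMap.polarBilin_apply_apply]
        simpa using this
    · intro y hy
      apply Prod.ext
      · apply hnd₁.2
        intro x
        have := hy (x, 0)
        rw [QuadraticMap.polarBilin_apply_apply, QuadraticMap.polar_prod] at this
        rw [QuadraticMap.polarBilin_apply_apply]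
        simpa using this
      · apply hnd₂.2
        intro x
        have := hy (0, x)
        rw [QuadraticMap.polarBilin_apply_apply, QuadraticMap.polar_prod] at this
        rw [QuadraticMap.polarBilin_apply_apply]
        simpa using this
  · -- totally singular
    intro u hu
    rw [Submodule.mem_prod] at hu
    rw [QuadraticMap.prod_apply, ophrealsum_Q_U s₁ u.1 hu.1, ophrealsum_Q_U s₂ u.2 hu.2, add_zero]
  · rw [(prodLE (ophrealsum_U F s₁) (ophrealsum_U F s₂)).finrank_eq, Module.finrank_prod, ophrealsum_finrank_U,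
      ophrealsum_finrank_U]
  · rw [Module.finrank_prod, Module.finrank_fintype_fun_eq_card, Module.finrank_fintype_fun_eq_card, Fintype.card_sum,
      Fintype.card_sum, Fintype.card_fin, Fintype.card_fin]
    omega
  · intro x y
    rw [QuadraticMap.polar_prod, QuadraticMap.polar_prod, LinearMap.prodMap_apply, LinearMap.prodMap_apply]
    show QuadraticMap.polar (⇑(qfPlus s₁ F)) (Matrix.toLin' T₁ x.1) y.1 + QuadraticMap.polar (⇑(qfPlus s₂ F)) (Matrix.toLin' T₂ x.2) y.2 =
      -(QuadraticMap.polar (⇑(qfPlus s₁ F)) x.1 (Matrix.toLin' T₁ y.1) + QuadraticMap.polar (⇑(qfPlus s₂ F)) x.2 (Matrix.toLin' T₂ y.2))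
    rw [qfPlus_coe, qfPlus_coe, Matrix.toLin'_apply, Matrix.toLin'_apply, Matrix.toLin'_apply, Matrix.toLin'_apply, hT₁, hT₂]
    ring
  · intro k
    rw [dk_prodMap, hd₁, hd₂, ophrealsum_ty_add]

end Cfsg.Agent.Lib.Helper9.OPH
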