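import Mathlib
import Cfsg.Agent.Lib.Helper9.OPH.Defs
import Cfsg.Agent.Lib.Helper9.OPHREALALLcore
import Cfsg.Agent.Lib.Helper9.OPHREALPAIR
import Cfsg.Agent.Lib.Helper9.OPHREALODD
import Cfsg.Agent.Lib.Helper9.OPHREALSUM

set_option autoImplicit false
set_option linter.unusedVariables false
set_option linter.unusedSectionVars false

/-!
# Project OPH, row REALALL (helper9)
-/

namespace Cfsg.Agent.Lib.Helper9.OPH

open Module Cfsg.Agent.Lib.helper14.JTa

variable {F : Type*} [Field F]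

theorem ophrealall_zero : Real F 0 0 := by
  refine ⟨0, ?_, ?_⟩
  · intro u v
    have hu : u = 0 := Subsingleton.elim _ _
    have hv : v = 0 := Subsingleton.elim _ _
    rw [hu, hv]
    simp [QuadraticMap.polar, Cfsg.quadFormPlus]
  · intro k
    have h1 : ∀ M : Module.End F (Fin 0 ⊕ Fin 0 → F), dk M k = 0 := by
      intro M
      unfold dk
      apply Nat.le_zero.mp
      refine le_trans (Submodule.finrank_le _) ?_
      rw [Module.finrank_fintype_fun_eq_card]
      simp
    rw [h1]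
    unfold ty
    simp

/-- REALALL [M] -/
theorem oph_real_all (h2 : (2 : F) ≠ 0) (d : ℕ) (μ : Multiset ℕ) (hμ0 : ∀ e ∈ μ, 0 < e)
    (hμe : ∀ e : ℕ, Even e → Even (μ.count e)) (hμs : μ.sum = 2 * d) : Real F d μ :=
  ophrealall_core (Real F) ophrealall_zero (fun e => oph_real_pair e) (fun a b s ha hb hs => oph_real_odd h2 a b s ha hb hs)
    (fun s₁ s₂ μ₁ μ₂ h₁ h₂ => oph_real_sum s₁ s₂ μ₁ μ₂ h₁ h₂) (Multiset.card μ) μ d rfl hμe hμs

end Cfsg.Agent.Lib.Helper9.OPH
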