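import Mathlib
import Cfsg.Agent.Lib.Helper1.SLN.Defs
import Cfsg.Agent.Lib.Helper1.SLN.Defs2

/-!
Project SL7 (designer helper1; S2288), row H1: four 3x3 matrix identities for the torus words.
-/

set_option autoImplicit false

namespace Cfsg.Agent.Lib.Helper1.SLN

open Matrix Equiv
open Cfsg.Agent.Lib.helper17.SLP

universe u v w

section H

variable {F : Type u} [Field F] {G : Type v} [Group G]

/-- the diagonal matrix of `hh a b h s` as an element of `SL₃(F)` -/
def sl7h1_D (a b : Fin 3) (h : a ≠ b) (s : Fˣ) : Matrix.SpecialLinearGroup (Fin 3) F :=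
  ⟨Matrix.diagonal (fun i => ((dg a b s i : Fˣ) : F)), by
    rw [Matrix.det_diagonal, Fin.prod_univ_three]
    fin_cases a <;> fin_cases b <;> simp [dg] at h ⊢⟩

theorem sl7h1_D_coe (a b : Fin 3) (h : a ≠ b) (s : Fˣ) :
    ((sl7h1_D a b h s : Matrix.SpecialLinearGroup (Fin 3) F) : Matrix (Fin 3) (Fin 3) F) =
      Matrix.diagonal (fun i => ((dg a b s i : Fˣ) : F)) := rfl

theorem sl7h1_wW (a b : Fin 3) (h : a ≠ b) (s : Fˣ) :
    (wW a b h s : Matrix.SpecialLinearGroup (Fin 3) F) = sl7h1_D a b h s * wW a b h 1 := by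
  apply Subtype.ext
  have hs : (s : F) * ((s⁻¹ : Fˣ) : F) = 1 := by simp
  have hs' : ((s⁻¹ : Fˣ) : F) * (s : F) = 1 := by simp
  unfold wW
  simp only [Matrix.SpecialLinearGroup.coe_mul, sl7h1_D_coe,
    Matrix.SpecialLinearGroup.transvection_coe]
  fin_cases a <;> fin_cases b <;> first | exact absurd rfl h | skip
  all_goals
    ext i j
    fin_cases i <;> fin_cases j <;>
      simp [Matrix.mul_apply, Fin.sum_univ_three, Matrix.single_apply, Matrix.one_apply,
        Matrix.diagonal_apply, dg, Matrix.add_apply]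

/-- H1 [S-M] (four statements, one file; `Subtype.ext`, entries; `fin_cases a <;> fin_cases b`, `Matrix.SpecialLinearGroup.transvection_coe`; `hM` of `helper17.SLP.Defs`). -/
theorem hh_coe (a b : Fin 3) (h : a ≠ b) (s : Fˣ) :
    ((hh a b h s : Matrix.SpecialLinearGroup (Fin 3) F) : Matrix (Fin 3) (Fin 3) F) =
      Matrix.diagonal (fun i => ((dg a b s i : Fˣ) : F)) := by
  have : hh a b h s = sl7h1_D a b h s := by
    unfold hh
    rw [sl7h1_wW a b h s, mul_inv_cancel_right]
  rw [this, sl7h1_D_coe]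

theorem emb23_hM (s : Fˣ) :
    (emb23 (hM s) : Matrix.SpecialLinearGroup (Fin 3) F) = hh 0 1 (by decide) s := by
  apply Subtype.ext
  rw [hh_coe]
  show ((emb23F (hM s) : Matrix.SpecialLinearGroup (Fin 3) F) : Matrix (Fin 3) (Fin 3) F) = _
  rw [emb23F_coe]
  ext i j
  fin_cases i <;> fin_cases j <;> simp [hM, dg]

theorem hh_split (s : Fˣ) :
    (hh 0 1 (by decide) s : Matrix.SpecialLinearGroup (Fin 3) F) = hh 0 2 (by decide) s * hh 2 1 (by decide) s := by
  apply Subtype.ext
  rw [Matrix.SpecialLinearGroup.coe_mul, hh_coe, hh_coe, hh_coe, Matrix.diagonal_mul_diagonal]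
  congr 1
  funext i
  fin_cases i <;> simp [dg]

theorem hh_conj_tv (a b : Fin 3) (h : a ≠ b) (s : Fˣ) (c d : Fin 3) (hcd : c ≠ d) (t : F) :
    (hh a b h s : Matrix.SpecialLinearGroup (Fin 3) F) * Matrix.SpecialLinearGroup.transvection hcd t * (hh a b h s)⁻¹ =
      Matrix.SpecialLinearGroup.transvection hcd (((dg a b s c * (dg a b s d)⁻¹ : Fˣ) : F) * t) := by
  rw [mul_inv_eq_iff_eq_mul]
  apply Subtype.ext
  rw [Matrix.SpecialLinearGroup.coe_mul, Matrix.SpecialLinearGroup.coe_mul, hh_coe,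
    Matrix.SpecialLinearGroup.transvection_coe, Matrix.SpecialLinearGroup.transvection_coe]
  have hd : ((dg a b s d : Fˣ) : F) ≠ 0 := (dg a b s d).ne_zero
  ext i j
  simp only [Matrix.diagonal_mul, Matrix.mul_diagonal, Matrix.add_apply, Matrix.one_apply,
    Matrix.single_apply]
  by_cases hij : i = j
  · subst hij
    have hne : ¬ (c = i ∧ d = i) := fun hh' => hcd (hh'.1.trans hh'.2.symm)
    simp only [if_true, if_neg hne]
    ring
  · by_cases hc : c = i ∧ d = j
    · obtain ⟨rfl, rfl⟩ := hc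
      simp only [if_neg hij, and_self, if_true]
      push_cast
      field_simp
      ring
    · simp only [if_neg hij, if_neg hc]
      ring

end H

end Cfsg.Agent.Lib.Helper1.SLN
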