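import Cfsg.Agent.Lib.helper17.SL3.Defs2

/-!
# SL3 rows E6 (`rank1_B2`) and E7 (`cell_1`) : Bruhat cells from the root datum `RD`
-/

set_option autoImplicit false

namespace Cfsg.Agent.Lib.helper17.SL3

open Cfsg.Agent.Lib.helper17.SLP
open Polynomial

universe u v

section E

variable {G : Type u} [Group G]

variable (q : ℕ) (T X01 X02 X12 X10 X21 : Subgroup G) (n1 n2 : G)

/-- E6 [M]  same for `n2`: `g = b * τ * a * z`, `n2 b n2⁻¹ ∈ X21` (`n2a`), `n2T n2b n2c n2sq`, `r2`. -/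
theorem rank1_B2 (D : RD q T X01 X02 X12 X10 X21 n1 n2) (B : Subgroup G)
    (hT : T ≤ B) (h01 : X01 ≤ B) (h02 : X02 ≤ B) (h12 : X12 ≤ B)
    (hB : ∀ g, g ∈ B ↔ ∃ b ∈ X12, ∃ τ ∈ T, ∃ a ∈ X01, ∃ z ∈ X02, g = b * τ * a * z) :
    ∀ g ∈ B, n2 * g * n2 ∈ B ∨ ∃ b₁ ∈ B, ∃ b₂ ∈ B, n2 * g * n2 = b₁ * n2 * b₂ := by
  intro g hg
  obtain ⟨b, hb, τ, hτ, a, ha, z, hz, rfl⟩ := (hB g).mp hg
  have hy := D.n2a b hb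
  have hβ : (n2 * τ * n2⁻¹) * (n2 * a * n2⁻¹) * (n2 * z * n2⁻¹) * n2 ^ 2 ∈ B :=
    B.mul_mem (B.mul_mem (B.mul_mem (hT (D.n2T τ hτ)) (h02 (D.n2b a ha))) (h01 (D.n2c z hz)))
      (hT D.n2sq)
  have heq : n2 * (b * τ * a * z) * n2 = (n2 * b * n2⁻¹) *
      ((n2 * τ * n2⁻¹) * (n2 * a * n2⁻¹) * (n2 * z * n2⁻¹) * n2 ^ 2) := by group
  rcases D.r2 _ hy with h1 | ⟨b', hb', τ', hτ', b'', hb'', h2⟩
  · left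
    rw [heq, h1, one_mul]
    exact hβ
  · right
    refine ⟨b' * τ', B.mul_mem (h12 hb') (hT hτ'), b'' *
      ((n2 * τ * n2⁻¹) * (n2 * a * n2⁻¹) * (n2 * z * n2⁻¹) * n2 ^ 2),
      B.mul_mem (h12 hb'') hβ, ?_⟩
    rw [heq, h2]
    simp only [mul_assoc]

/-- the key step of E7: `n1 * g = β * y' * n1` with `β ∈ B`, `y' ∈ X10`. -/
theorem sl3e7_step (D : RD q T X01 X02 X12 X10 X21 n1 n2) (B : Subgroup G)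
    (hT : T ≤ B) (h02 : X02 ≤ B) (h12 : X12 ≤ B)
    (hB : ∀ g, g ∈ B ↔ ∃ a ∈ X01, ∃ τ ∈ T, ∃ z ∈ X02, ∃ b ∈ X12, g = a * τ * z * b) :
    ∀ g ∈ B, ∃ β ∈ B, ∃ y ∈ X10, n1 * g = β * y * n1 := by
  intro g hg
  obtain ⟨a, ha, τ, hτ, z, hz, b, hb, rfl⟩ := (hB g).mp hg
  -- y = n1 a n1⁻¹, τ' = n1 τ n1⁻¹, z' = n1 z n1⁻¹ ∈ X12, b' = n1 b n1⁻¹ ∈ X02
  have hy : n1 * a * n1⁻¹ ∈ X10 := D.n1a a ha
  have hτ' : n1 * τ * n1⁻¹ ∈ T := D.n1T τ hτ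
  have hz' : n1 * z * n1⁻¹ ∈ X12 := D.n1b z hz
  have hb' : n1 * b * n1⁻¹ ∈ X02 := D.n1c b hb
  -- y' = τ'⁻¹ y τ'
  have hy' : (n1 * τ * n1⁻¹)⁻¹ * (n1 * a * n1⁻¹) * (n1 * τ * n1⁻¹)⁻¹⁻¹ ∈ X10 :=
    D.t10 _ (T.inv_mem hτ') _ hy
  set y := n1 * a * n1⁻¹ with hydef
  set τ' := n1 * τ * n1⁻¹ with hτdef
  set z' := n1 * z * n1⁻¹ with hzdef
  set b' := n1 * b * n1⁻¹ with hbdef
  set y' := τ'⁻¹ * y * τ'⁻¹⁻¹ with hy'def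
  have hc1 : Commute y' z' := D.m1 y' hy' z' hz'
  have hc2 : y' * b' * y'⁻¹ * b'⁻¹ ∈ X12 := D.m2 y' hy' b' hb'
  refine ⟨τ' * z' * (y' * b' * y'⁻¹ * b'⁻¹) * b',
    B.mul_mem (B.mul_mem (B.mul_mem (hT hτ') (h12 hz')) (h12 hc2)) (h02 hb'), y', hy', ?_⟩
  have e1 : n1 * (a * τ * z * b) = y * τ' * z' * b' * n1 := by
    rw [hydef, hτdef, hzdef, hbdef]; group
  have e2 : y * τ' = τ' * y' := by rw [hy'def]; group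
  have e3 : y' * z' = z' * y' := hc1.eq
  calc n1 * (a * τ * z * b) = y * τ' * z' * b' * n1 := e1
    _ = τ' * y' * z' * b' * n1 := by rw [e2]
    _ = τ' * (y' * z') * b' * n1 := by simp only [mul_assoc]
    _ = τ' * (z' * y') * b' * n1 := by rw [e3]
    _ = τ' * z' * (y' * b' * y'⁻¹ * b'⁻¹) * b' * y' * n1 := by group

/-- E7 [M]  `g = a * τ * z * b`, `y := n1 a n1⁻¹ ∈ X10`: `n1 * g = y * τ' * z' * b' * n1` with `τ' ∈ T`, `z' ∈ X12`, `b' ∈ X02` (`n1T n1b n1c`).  Move `y` to the right: `y τ' = τ' y'` (`t10`), `y' z' = z' y'` (`m1`),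
`y' b' = (y' b' y'⁻¹ b'⁻¹) b' y'` (`m2`): `n1 * g = β * y' * n1`, `β ∈ B`.  Then `y' * n1 * m = n1 * m * ((n1 m)⁻¹ y' (n1 m))` and the last factor is in `X02` for `m = n2` (`n1a'`, `n2b'`), in `X12` for
`m = n2 * n1` (`n1a'`, `n2b'`, `n1c'`). -/
theorem cell_1 (D : RD q T X01 X02 X12 X10 X21 n1 n2) (B : Subgroup G)
    (hT : T ≤ B) (h01 : X01 ≤ B) (h02 : X02 ≤ B) (h12 : X12 ≤ B)
    (hB : ∀ g, g ∈ B ↔ ∃ a ∈ X01, ∃ τ ∈ T, ∃ z ∈ X02, ∃ b ∈ X12, g = a * τ * z * b) :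
    (∀ g ∈ B, ∃ b₁ ∈ B, ∃ b₂ ∈ B, n1 * g * n2 = b₁ * (n1 * n2) * b₂) ∧
      ∀ g ∈ B, ∃ b₁ ∈ B, ∃ b₂ ∈ B, n1 * g * (n2 * n1) = b₁ * (n1 * n2 * n1) * b₂ := by
  have step := sl3e7_step q T X01 X02 X12 X10 X21 n1 n2 D B hT h02 h12 hB
  constructor
  · intro g hg
    obtain ⟨β, hβ, y, hy, e⟩ := step g hg
    have h1 : n1⁻¹ * y * n1 ∈ X01 := D.n1a' y hy
    have h2 : n2⁻¹ * (n1⁻¹ * y * n1) * n2 ∈ X02 := D.n2b' _ h1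
    refine ⟨β, hβ, n2⁻¹ * (n1⁻¹ * y * n1) * n2, h02 h2, ?_⟩
    rw [e]
    group
  · intro g hg
    obtain ⟨β, hβ, y, hy, e⟩ := step g hg
    have h1 : n1⁻¹ * y * n1 ∈ X01 := D.n1a' y hy
    have h2 : n2⁻¹ * (n1⁻¹ * y * n1) * n2 ∈ X02 := D.n2b' _ h1
    have h3 : n1⁻¹ * (n2⁻¹ * (n1⁻¹ * y * n1) * n2) * n1 ∈ X12 := D.n1c' _ h2
    refine ⟨β, hβ, n1⁻¹ * (n2⁻¹ * (n1⁻¹ * y * n1) * n2) * n1, h12 h3, ?_⟩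
    rw [e]
    group

end E

end Cfsg.Agent.Lib.helper17.SL3
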