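import Cfsg.Agent.Lib.helper17.SL3.Defs

/-!
# SL3 row M3a : `relK1`, `c^3 = 1`, `relE2` hold for the matrices
-/

set_option autoImplicit false

namespace Cfsg.Agent.Lib.helper17.SL3

open Cfsg.Agent.Lib.helper17.SLP
open Polynomial

universe u v

section M

variable {F : Type u} [Field F]

/-- the inverse of `wM3` -/
def sl3m3a_wInv : Matrix.SpecialLinearGroup (Fin 3) F :=
  ⟨!![0, -1, 0; 1, 0, 0; 0, 0, 1], by simp [Matrix.det_fin_three]⟩

/-- the inverse of `cM3` -/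
def sl3m3a_cInv : Matrix.SpecialLinearGroup (Fin 3) F :=
  ⟨!![0, 1, 0; 0, 0, 1; 1, 0, 0], by simp [Matrix.det_fin_three]⟩

theorem sl3m3a_coe_xM3 (t : F) :
    (xM3 t : Matrix (Fin 3) (Fin 3) F) = !![1, t, 0; 0, 1, 0; 0, 0, 1] := rfl

theorem sl3m3a_coe_wM3 : ((wM3 : Matrix.SpecialLinearGroup (Fin 3) F) : Matrix (Fin 3) (Fin 3) F) =
    !![0, 1, 0; -1, 0, 0; 0, 0, 1] := rfl

theorem sl3m3a_coe_cM3 : ((cM3 : Matrix.SpecialLinearGroup (Fin 3) F) : Matrix (Fin 3) (Fin 3) F) =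
    !![0, 0, 1; 1, 0, 0; 0, 1, 0] := rfl

theorem sl3m3a_coe_wInv :
    ((sl3m3a_wInv : Matrix.SpecialLinearGroup (Fin 3) F) : Matrix (Fin 3) (Fin 3) F) =
    !![0, -1, 0; 1, 0, 0; 0, 0, 1] := rfl

theorem sl3m3a_coe_cInv :
    ((sl3m3a_cInv : Matrix.SpecialLinearGroup (Fin 3) F) : Matrix (Fin 3) (Fin 3) F) =
    !![0, 1, 0; 0, 0, 1; 1, 0, 0] := rfl

theorem sl3m3a_wM3_inv : (wM3 : Matrix.SpecialLinearGroup (Fin 3) F)⁻¹ = sl3m3a_wInv := by
  apply inv_eq_of_mul_eq_one_right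
  apply Subtype.ext
  rw [Matrix.SpecialLinearGroup.coe_mul, sl3m3a_coe_wM3, sl3m3a_coe_wInv,
    Matrix.SpecialLinearGroup.coe_one, Matrix.mul_fin_three, Matrix.one_fin_three]
  simp

theorem sl3m3a_cM3_inv : (cM3 : Matrix.SpecialLinearGroup (Fin 3) F)⁻¹ = sl3m3a_cInv := by
  apply inv_eq_of_mul_eq_one_right
  apply Subtype.ext
  rw [Matrix.SpecialLinearGroup.coe_mul, sl3m3a_coe_cM3, sl3m3a_coe_cInv,
    Matrix.SpecialLinearGroup.coe_one, Matrix.mul_fin_three, Matrix.one_fin_three]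
  simp

/-- M3a [S-M]  explicit inverses `wM3⁻¹ = !![0,-1,0;1,0,0;0,0,1]`, `cM3⁻¹ = !![0,1,0;0,0,1;1,0,0]` (`inv_eq_of_mul_eq_one_right`). -/
theorem relK1_M3 : relK1 (xM3 (1 : F)) wM3 = 1 := by
  unfold relK1
  rw [sl3m3a_wM3_inv]
  apply Subtype.ext
  simp only [Matrix.SpecialLinearGroup.coe_mul, sl3m3a_coe_xM3, sl3m3a_coe_wM3, sl3m3a_coe_wInv,
    Matrix.SpecialLinearGroup.coe_one, Matrix.mul_fin_three, Matrix.one_fin_three]
  simp

theorem cM3_pow_three : (cM3 : Matrix.SpecialLinearGroup (Fin 3) F) ^ 3 = 1 := by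
  rw [pow_succ, pow_two]
  apply Subtype.ext
  simp only [Matrix.SpecialLinearGroup.coe_mul, sl3m3a_coe_cM3,
    Matrix.SpecialLinearGroup.coe_one, Matrix.mul_fin_three, Matrix.one_fin_three]
  simp

theorem relE2_M3 : relE2 (wM3 : Matrix.SpecialLinearGroup (Fin 3) F) cM3 = 1 := by
  unfold relE2
  rw [sl3m3a_cM3_inv, pow_two]
  apply Subtype.ext
  simp only [Matrix.SpecialLinearGroup.coe_mul, sl3m3a_coe_cInv, sl3m3a_coe_wM3,
    Matrix.SpecialLinearGroup.coe_one, Matrix.mul_fin_three, Matrix.one_fin_three]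
  simp

end M

end Cfsg.Agent.Lib.helper17.SL3
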