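import Cfsg.Agent.Lib.helper17.SL3.Defs2

/-!
# SL3 rows T8 (`Act` calculus) and T11 (`c_shift`)
-/

set_option autoImplicit false

namespace Cfsg.Agent.Lib.helper17.SL3

open Cfsg.Agent.Lib.helper17.SLP
open Polynomial

universe u v

section T

variable {F : Type u} [Field F] {G : Type v} [Group G]

/-- T8 [S]  `Act` calculus (`zpow_add`, `Units.val_mul`, `mul_assoc`). -/
theorem act_mul (ζ : Fˣ) (g g' : G) (X : F → G) (e e' : ℤ) (h : Act ζ g X e) (h' : Act ζ g' X e') :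
    Act ζ (g * g') X (e + e') := by
  intro t
  have h1 : g * g' * X t * (g * g')⁻¹ = g * (g' * X t * g'⁻¹) * g⁻¹ := by group
  rw [h1, h' t, h _, zpow_add, Units.val_mul, mul_assoc]

theorem act_inv (ζ : Fˣ) (g : G) (X : F → G) (e : ℤ) (h : Act ζ g X e) : Act ζ g⁻¹ X (-e) := by
  intro t
  have h1 := h (((ζ ^ (-e) : Fˣ) : F) * t)
  rw [← mul_assoc, ← Units.val_mul, ← zpow_add, add_neg_cancel, zpow_zero, Units.val_one,
    one_mul] at h1
  rw [← h1]
  group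

theorem sl3t8_act_one (ζ : Fˣ) (X : F → G) : Act ζ (1 : G) X 0 := by
  intro t
  simp

theorem act_zpow (ζ : Fˣ) (g : G) (X : F → G) (e : ℤ) (h : Act ζ g X e) (n : ℤ) :
    Act ζ (g ^ n) X (n * e) := by
  induction n using Int.induction_on with
  | zero =>
    rw [zpow_zero, zero_mul]
    exact sl3t8_act_one ζ X
  | succ i ih =>
    rw [zpow_add_one, add_mul, one_mul]
    exact act_mul ζ _ _ X _ _ ih h
  | pred i ih =>
    rw [zpow_sub_one, sub_mul, one_mul, sub_eq_add_neg]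
    exact act_mul ζ _ _ X _ _ ih (act_inv ζ g X e h)

/-- T11 [S]  `c³ = 1`: `c * (c * g * c⁻¹) * c⁻¹ = c⁻¹ * g * c` and `c * (c⁻¹ * g * c) * c⁻¹ = g`.  (By definition `c * x t * c⁻¹ = x12 x c t` and `c * x10 x w t * c⁻¹ = x21 x w c t`.) -/
theorem c_shift (ζ : Fˣ) (x : F → G) (d w c : G) (H : Hyp ζ x d w c) :
    (∀ t, c * x12 x c t * c⁻¹ = x20 x c t) ∧ (∀ t, c * x20 x c t * c⁻¹ = x t) ∧
      (∀ t, c * x21 x w c t * c⁻¹ = x02 x w c t) ∧ (∀ t, c * x02 x w c t * c⁻¹ = x10 x w t) := by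
  have hc3 : c ^ 3 = 1 := H.c3
  have hcc : c * c = c⁻¹ := by
    rw [eq_inv_iff_mul_eq_one]
    rw [← hc3, pow_succ, pow_two]
  have hcc' : c⁻¹ * c⁻¹ = c := by
    rw [← mul_inv_rev, hcc, inv_inv]
  have key : ∀ g : G, c * (c * g * c⁻¹) * c⁻¹ = c⁻¹ * g * c := by
    intro g
    calc c * (c * g * c⁻¹) * c⁻¹ = (c * c) * g * (c⁻¹ * c⁻¹) := by group
      _ = c⁻¹ * g * c := by rw [hcc, hcc']
  refine ⟨?_, ?_, ?_, ?_⟩
  · intro t
    unfold x12 x20
    exact key _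
  · intro t
    unfold x20
    group
  · intro t
    unfold x21 x02
    exact key _
  · intro t
    unfold x02
    group

end T

end Cfsg.Agent.Lib.helper17.SL3
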