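import Cfsg.Agent.Lib.helper17.SL3.Defs

/-!
# SL3 row M1 : 3×3 matrix identities for `xM3`, `dM3`
-/

set_option autoImplicit false

namespace Cfsg.Agent.Lib.helper17.SL3

open Cfsg.Agent.Lib.helper17.SLP
open Polynomial

universe u v

section M

variable {F : Type u} [Field F]

theorem sl3m1_coe_xM3 (t : F) :
    (xM3 t : Matrix (Fin 3) (Fin 3) F) = !![1, t, 0; 0, 1, 0; 0, 0, 1] := rfl

theorem sl3m1_coe_dM3 (s : Fˣ) :
    (dM3 s : Matrix (Fin 3) (Fin 3) F) = !![(s : F), 0, 0; 0, 1, 0; 0, 0, ((s⁻¹ : Fˣ) : F)] := rfl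

theorem sl3m1_coe_wM3 : ((wM3 : Matrix.SpecialLinearGroup (Fin 3) F) : Matrix (Fin 3) (Fin 3) F) =
    !![0, 1, 0; -1, 0, 0; 0, 0, 1] := rfl

theorem sl3m1_coe_cM3 : ((cM3 : Matrix.SpecialLinearGroup (Fin 3) F) : Matrix (Fin 3) (Fin 3) F) =
    !![0, 0, 1; 1, 0, 0; 0, 1, 0] := rfl

/-- M1 [S-M]  3×3 matrix identities (`Subtype.ext`, `Matrix.ext`, `fin_cases`, `Matrix.mul_apply`, `Fin.sum_univ_three`). -/
theorem xM3_mul (s t : F) : xM3 s * xM3 t = xM3 (s + t) := by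
  apply Subtype.ext
  rw [Matrix.SpecialLinearGroup.coe_mul, sl3m1_coe_xM3, sl3m1_coe_xM3, sl3m1_coe_xM3,
    Matrix.mul_fin_three]
  simp [add_comm]

theorem xM3_zero : xM3 (0 : F) = 1 := by
  apply Subtype.ext
  rw [sl3m1_coe_xM3, Matrix.SpecialLinearGroup.coe_one]
  exact Matrix.one_fin_three.symm

theorem xM3_pow (t : F) (n : ℕ) : xM3 t ^ n = xM3 ((n : F) * t) := by
  induction n with
  | zero => simp [xM3_zero]
  | succ n ih =>
    rw [pow_succ, ih, xM3_mul]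
    congr 1
    push_cast
    ring

theorem dM3_mul (s t : Fˣ) : dM3 s * dM3 t = dM3 (s * t) := by
  apply Subtype.ext
  rw [Matrix.SpecialLinearGroup.coe_mul, sl3m1_coe_dM3, sl3m1_coe_dM3, sl3m1_coe_dM3,
    Matrix.mul_fin_three]
  simp [mul_comm]

theorem sl3m1_dM3_one : dM3 (1 : Fˣ) = 1 := by
  apply Subtype.ext
  rw [sl3m1_coe_dM3, Matrix.SpecialLinearGroup.coe_one]
  simp [Matrix.one_fin_three]

theorem sl3m1_dM3_inv (s : Fˣ) : (dM3 s)⁻¹ = dM3 s⁻¹ := by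
  apply inv_eq_of_mul_eq_one_right
  rw [dM3_mul, mul_inv_cancel, sl3m1_dM3_one]

theorem sl3m1_dM3_zpow (s : Fˣ) (i : ℤ) : dM3 s ^ i = dM3 (s ^ i) := by
  induction i using Int.induction_on with
  | zero => simp [sl3m1_dM3_one]
  | succ i ih =>
    rw [zpow_add_one, ih, dM3_mul, zpow_add_one]
  | pred i ih =>
    rw [zpow_sub_one, ih, sl3m1_dM3_inv, dM3_mul, zpow_sub_one]

theorem dM3_conj (s : Fˣ) (t : F) : dM3 s * xM3 t * (dM3 s)⁻¹ = xM3 ((s : F) * t) := by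
  rw [mul_inv_eq_iff_eq_mul]
  apply Subtype.ext
  rw [Matrix.SpecialLinearGroup.coe_mul, Matrix.SpecialLinearGroup.coe_mul, sl3m1_coe_dM3,
    sl3m1_coe_xM3, sl3m1_coe_xM3, Matrix.mul_fin_three, Matrix.mul_fin_three]
  simp

theorem cj_M3 (s : Fˣ) (t : F) (i : ℤ) : cj (dM3 s) (xM3 t) i = xM3 (((s ^ i : Fˣ) : F) * t) := by
  unfold cj
  rw [zpow_neg, sl3m1_dM3_zpow, dM3_conj]

end M

end Cfsg.Agent.Lib.helper17.SL3
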