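import Cfsg.Agent.Lib.Helper9.SL3T8

/-!
# SL3 row C18 (`stein`) : the twelve Steinberg relations from `Comm3` + `Wact` + `c_shift`
-/

set_option autoImplicit false

namespace Cfsg.Agent.Lib.helper17.SL3

open Cfsg.Agent.Lib.helper17.SLP
open Polynomial

universe u v

section Caux

variable {F : Type u} [Field F] {G : Type v} [Group G]

theorem sl3c18_conj_cm (g a b : G) : g * cm a b * g⁻¹ = cm (g * a * g⁻¹) (g * b * g⁻¹) := by
  unfold cm
  group

theorem sl3c18_conj_commute (g a b : G) (h : Commute a b) :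
    Commute (g * a * g⁻¹) (g * b * g⁻¹) := (Commute.conj_iff g).mpr h

/-- conjugating a commutator identity `cm (A s) (B t) = C (s * t)` -/
theorem sl3c18_cm_conj (g : G) (A B C A' B' C' : F → G)
    (hA : ∀ t, g * A t * g⁻¹ = A' t) (hB : ∀ t, g * B t * g⁻¹ = B' t)
    (hC : ∀ t, g * C t * g⁻¹ = C' t) (h : ∀ s t, cm (A s) (B t) = C (s * t)) :
    ∀ s t, cm (A' s) (B' t) = C' (s * t) := by
  intro s t
  rw [← hA, ← hB, ← sl3c18_conj_cm, h, hC]

omit [Field F] in
theorem sl3c18_commute_conj (g : G) (A B A' B' : F → G)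
    (hA : ∀ t, g * A t * g⁻¹ = A' t) (hB : ∀ t, g * B t * g⁻¹ = B' t)
    (h : ∀ s t, Commute (A s) (B t)) : ∀ s t, Commute (A' s) (B' t) := by
  intro s t
  rw [← hA, ← hB]
  exact sl3c18_conj_commute g _ _ (h s t)

end Caux

section C

variable {F : Type u} [Field F] [Fintype F] {G : Type v} [Group G]

/-- C18 [M]  deps C17 T11.  `c`-conjugates of `K` (`c : 01 → 12 → 20 → 01`, `10 → 21 → 02 → 10`) give `c12_20 c20_01 r12_10 r20_21 k12_02 k20_10`; `w`-conjugate of `K.cmm s t` is `c10_02 (-s) t`; its `c`-conjugates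
are `c21_10`, `c02_21`. -/
theorem stein (ζ : Fˣ) (x : F → G) (d w c : G) (H : Hyp ζ x d w c) (K : Comm3 x w c)
    (W : Wact x w c) : Stein x w c := by
  obtain ⟨s12, s20, s21, s02⟩ := c_shift ζ x d w c H
  have s01 : ∀ t, c * x t * c⁻¹ = x12 x c t := fun t => rfl
  have s10 : ∀ t, c * x10 x w t * c⁻¹ = x21 x w c t := fun t => rfl
  have c01_12 := K.cmm
  have c12_20 : ∀ s t, cm (x12 x c s) (x20 x c t) = x10 x w (s * t) :=
    sl3c18_cm_conj c _ _ _ _ _ _ s01 s12 s02 c01_12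
  have c20_01 : ∀ s t, cm (x20 x c s) (x t) = x21 x w c (s * t) :=
    sl3c18_cm_conj c _ _ _ _ _ _ s12 s20 s10 c12_20
  have c10_02 : ∀ s t, cm (x10 x w s) (x02 x w c t) = x12 x c (s * t) := by
    intro s t
    have h := K.cmm (-s) t
    have h2 : w * cm (x (-s)) (x12 x c t) * w⁻¹ = w * x02 x w c (-s * t) * w⁻¹ := by rw [h]
    rw [sl3c18_conj_cm, W.w01, W.w12, W.w02, neg_neg, neg_mul, neg_neg] at h2
    exact h2
  have c21_10 : ∀ s t, cm (x21 x w c s) (x10 x w t) = x20 x c (s * t) :=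
    sl3c18_cm_conj c _ _ _ _ _ _ s10 s02 s12 c10_02
  have c02_21 : ∀ s t, cm (x02 x w c s) (x21 x w c t) = x (s * t) :=
    sl3c18_cm_conj c _ _ _ _ _ _ s21 s10 s20 c21_10
  have r01_02 := K.row
  have r12_10 : ∀ s t, Commute (x12 x c s) (x10 x w t) :=
    sl3c18_commute_conj c _ _ _ _ s01 s02 r01_02
  have r20_21 : ∀ s t, Commute (x20 x c s) (x21 x w c t) :=
    sl3c18_commute_conj c _ _ _ _ s12 s10 r12_10
  have k01_21 := K.col
  have k12_02 : ∀ s t, Commute (x12 x c s) (x02 x w c t) :=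
    sl3c18_commute_conj c _ _ _ _ s01 s21 k01_21
  have k20_10 : ∀ s t, Commute (x20 x c s) (x10 x w t) :=
    sl3c18_commute_conj c _ _ _ _ s12 s02 k12_02
  exact ⟨c01_12, c12_20, c20_01, c10_02, c21_10, c02_21, r01_02, r12_10, r20_21, k01_21, k12_02,
    k20_10⟩

end C

end Cfsg.Agent.Lib.helper17.SL3
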