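import Mathlib
import Cfsg.Agent.Lib.helper17.SLP.Defs

/-!
# SLP row B3 (helper9): `commute_of_deg_le_two`
-/

set_option autoImplicit false

namespace Cfsg.Agent.Lib.helper17.SLP

open Polynomial

universe u v

/-- generic: a subgroup `V`, commutative, contained in a finite set, with `h V h⁻¹ ≤ V`, contains
all `cj h u j` for `u ∈ V`. -/
theorem slpb3_mem_of_conj_le {G : Type*} [Group G] (h u : G) (V : Subgroup G) (hfin : (V : Set G).Finite)
    (hu : u ∈ V) (hconj : ∀ x ∈ V, h * x * h⁻¹ ∈ V) : ∀ j : ℤ, cj h u j ∈ V := by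
  have hF : Finite V := hfin.to_subtype
  -- conjugation by `h` as a self-map of `V`
  let φ : V → V := fun x => ⟨h * x.1 * h⁻¹, hconj x.1 x.2⟩
  have hinj : Function.Injective φ := by
    intro x y hxy
    have : h * x.1 * h⁻¹ = h * y.1 * h⁻¹ := congrArg Subtype.val hxy
    apply Subtype.ext
    simpa using this
  have hsurj : Function.Surjective φ := Finite.surjective_of_injective hinj
  have hconj' : ∀ x ∈ V, h⁻¹ * x * h ∈ V := by
    intro x hx
    obtain ⟨y, hy⟩ := hsurj ⟨x, hx⟩
    have hy' : h * y.1 * h⁻¹ = x := congrArg Subtype.val hy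
    have : h⁻¹ * x * h = y.1 := by
      rw [← hy']; group
    rw [this]; exact y.2
  intro j
  induction j using Int.induction_on with
  | zero => rw [cj_zero]; exact hu
  | succ i ih =>
    have : cj h u ((i : ℤ) + 1) = h * cj h u i * h⁻¹ := by
      have := conj_cj h u (i : ℤ) 1
      rw [zpow_one, zpow_neg, zpow_one] at this
      rw [this, add_comm]
    rw [this]; exact hconj _ ih
  | pred i ih =>
    have : cj h u (-(i : ℤ) - 1) = h⁻¹ * cj h u (-(i : ℤ)) * h := by
      have := conj_cj h u (-(i : ℤ)) (-1)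
      rw [zpow_neg, zpow_one, neg_neg, zpow_one] at this
      rw [this]; congr 1; ring
    rw [this]; exact hconj' _ ih

/-- the closure of two commuting elements of order dividing `p` is contained in a finite set. -/
theorem slpb3_finite {G : Type*} [Group G] (p : ℕ) (hp : 0 < p) (a b : G) (hab : Commute a b)
    (ha : a ^ p = 1) (hb : b ^ p = 1) : ((Subgroup.closure {a, b} : Subgroup G) : Set G).Finite := by
  have hsub : ((Subgroup.closure {a, b} : Subgroup G) : Set G) ⊆
      Set.range (fun ij : Fin p × Fin p => a ^ (ij.1 : ℕ) * b ^ (ij.2 : ℕ)) := by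
    -- every element is `a ^ i * b ^ j` with integers `i j`
    have key : ∀ x ∈ Subgroup.closure ({a, b} : Set G), ∃ i j : ℤ, x = a ^ i * b ^ j := by
      intro x hx
      induction hx using Subgroup.closure_induction with
      | mem y hy =>
        rcases hy with rfl | rfl
        · exact ⟨1, 0, by simp⟩
        · exact ⟨0, 1, by simp⟩
      | one => exact ⟨0, 0, by simp⟩
      | mul x y _ _ ihx ihy =>
        obtain ⟨i, j, rfl⟩ := ihx
        obtain ⟨k, l, rfl⟩ := ihy
        refine ⟨i + k, j + l, ?_⟩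
        have h1 : Commute (b ^ j) (a ^ k) := (hab.zpow_zpow k j).symm
        calc a ^ i * b ^ j * (a ^ k * b ^ l) = a ^ i * (b ^ j * a ^ k) * b ^ l := by group
          _ = a ^ i * (a ^ k * b ^ j) * b ^ l := by rw [h1.eq]
          _ = a ^ (i + k) * b ^ (j + l) := by rw [zpow_add, zpow_add]; group
      | inv x _ ihx =>
        obtain ⟨i, j, rfl⟩ := ihx
        refine ⟨-i, -j, ?_⟩
        have h1 : Commute (a ^ i) (b ^ j) := hab.zpow_zpow i j
        rw [mul_inv_rev, ← zpow_neg, ← zpow_neg]
        exact ((hab.zpow_zpow (-i) (-j)).eq).symm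
    intro x hx
    obtain ⟨i, j, rfl⟩ := key x hx
    have hpz : (p : ℤ) ≠ 0 := by exact_mod_cast hp.ne'
    have hpos : (0 : ℤ) < p := by exact_mod_cast hp
    have hred : ∀ (c : G) (_ : c ^ p = 1) (k : ℤ), c ^ k = c ^ (k % (p : ℤ)).toNat := by
      intro c hc k
      have h0 : 0 ≤ k % (p : ℤ) := Int.emod_nonneg k hpz
      have h1 : c ^ k = c ^ (k % (p : ℤ)) := by
        conv_lhs => rw [← Int.emod_add_mul_ediv k p]
        rw [zpow_add, zpow_mul, zpow_natCast, hc, one_zpow, mul_one]
      rw [h1]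
      conv_lhs => rw [← Int.toNat_of_nonneg h0]
      rw [zpow_natCast]
    have hlt : ∀ k : ℤ, (k % (p : ℤ)).toNat < p := by
      intro k
      have h0 : 0 ≤ k % (p : ℤ) := Int.emod_nonneg k hpz
      have h1 : k % (p : ℤ) < p := Int.emod_lt_of_pos k hpos
      omega
    refine ⟨(⟨(i % (p : ℤ)).toNat, hlt i⟩, ⟨(j % (p : ℤ)).toNat, hlt j⟩), ?_⟩
    simp only
    rw [← hred a ha i, ← hred b hb j]
  exact (Set.finite_range _).subset hsub

/-- B3 -/
theorem commute_of_deg_le_two {G : Type*} [Group G] (p : ℕ) [Fact p.Prime] (u h : G) (m : (ZMod p)[X])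
    (hm : m.Monic) (hdeg1 : 1 ≤ m.natDegree) (hdeg2 : m.natDegree ≤ 2)
    (a1 : u ^ p = 1) (a2 : Commute u (cj h u 1)) (a3 : pw p h u 1 m = 1) :
    ∀ j : ℤ, Commute u (cj h u j) := by
  have hp : p.Prime := Fact.out
  have : Fact (1 < p) := ⟨hp.one_lt⟩
  set v1 := cj h u 1 with hv1
  have hv1p : v1 ^ p = 1 := by
    rw [hv1, ← cj_pow, a1]; simp [cj]
  set V : Subgroup G := Subgroup.closure {u, v1} with hV
  have huV : u ∈ V := Subgroup.subset_closure (by simp)
  have hv1V : v1 ∈ V := Subgroup.subset_closure (by simp)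
  have hfin : (V : Set G).Finite := slpb3_finite p hp.pos u v1 a2 a1 hv1p
  -- V is commutative
  have hcommV : ∀ x ∈ V, ∀ y ∈ V, Commute x y := by
    have hS : ∀ x ∈ ({u, v1} : Set G), ∀ y ∈ ({u, v1} : Set G), x * y = y * x := by
      intro x hx y hy
      rcases hx with rfl | rfl <;> rcases hy with rfl | rfl
      · rfl
      · exact a2.eq
      · exact a2.eq.symm
      · rfl
    intro x hx y hy
    have hc := Subgroup.isMulCommutative_closure hS
    have := hc.is_comm.comm (⟨x, hx⟩ : Subgroup.closure ({u, v1} : Set G)) ⟨y, hy⟩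
    exact congrArg Subtype.val this
  -- `cj h u 2 ∈ V`
  have hcj1 : h * u * h⁻¹ = v1 := by rw [hv1, cj_one]
  have hcj2 : h * v1 * h⁻¹ = cj h u 2 := by
    have := conj_cj h u 1 1
    rw [zpow_one, zpow_neg, zpow_one] at this
    rw [hv1, this]; norm_num
  have hv2V : cj h u 2 ∈ V := by
    rcases Nat.lt_or_ge m.natDegree 2 with hlt | hge
    · -- degree 1
      have hd : m.natDegree = 1 := by omega
      have hc1 : m.coeff 1 = 1 := by
        have := hm.coeff_natDegree; rwa [hd] at this
      have e : pw p h u 1 m = u ^ (m.coeff 0).val * v1 := by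
        simp only [pw, hd, List.range_succ, List.range_zero, List.nil_append,
          List.map_cons, List.map_nil, List.prod_cons, List.prod_nil,
          List.cons_append]
        simp [cj_zero, hc1, ZMod.val_one, hv1]
      rw [e] at a3
      have hv1eq : v1 = (u ^ (m.coeff 0).val)⁻¹ := eq_inv_of_mul_eq_one_right a3
      -- h v1 h⁻¹ = (v1 ^ c)⁻¹
      rw [← hcj2]
      have : h * v1 * h⁻¹ = (v1 ^ (m.coeff 0).val)⁻¹ := by
        conv_lhs => rw [hv1eq]
        rw [← hcj1]
        rw [conj_pow]
        group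
      rw [this]
      exact V.inv_mem (V.pow_mem hv1V _)
    · -- degree 2
      have hd : m.natDegree = 2 := by omega
      have hc2 : m.coeff 2 = 1 := by
        have := hm.coeff_natDegree; rwa [hd] at this
      have e : pw p h u 1 m = u ^ (m.coeff 0).val * (v1 ^ (m.coeff 1).val * cj h u 2) := by
        simp only [pw, hd, List.range_succ, List.range_zero, List.nil_append,
          List.map_cons, List.map_nil, List.prod_cons, List.prod_nil,
          List.cons_append]
        simp [cj_zero, hc2, ZMod.val_one, hv1]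
      rw [e] at a3
      have h2 : cj h u 2 = (u ^ (m.coeff 0).val * v1 ^ (m.coeff 1).val)⁻¹ := by
        apply eq_inv_of_mul_eq_one_right
        rw [mul_assoc]; exact a3
      rw [h2]
      exact V.inv_mem (V.mul_mem (V.pow_mem huV _) (V.pow_mem hv1V _))
  -- h V h⁻¹ ≤ V
  have hconj : ∀ x ∈ V, h * x * h⁻¹ ∈ V := by
    intro x hx
    have hmap : V.map (MulAut.conj h).toMonoidHom ≤ V := by
      rw [hV, MonoidHom.map_closure, Subgroup.closure_le]
      rintro _ ⟨y, hy, rfl⟩
      rcases hy with h1 | h1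
      · show h * y * h⁻¹ ∈ V
        rw [h1, hcj1]; exact hv1V
      · show h * y * h⁻¹ ∈ V
        rw [Set.mem_singleton_iff] at h1
        rw [h1, hcj2]; exact hv2V
    exact hmap ⟨x, hx, rfl⟩
  intro j
  exact hcommV u huV _ (slpb3_mem_of_conj_le h u V hfin huV hconj j)

end Cfsg.Agent.Lib.helper17.SLP
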