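import Mathlib
import Cfsg.Agent.Lib.helper17.SLP.Defs
import Cfsg.Agent.Lib.Helper9.SLPB3

/-!
# SLP row B4 (helper9): core of `exists_x_Q`, with the instance of B2 (`exists_x_of_commute`) as a hypothesis
-/

set_option autoImplicit false

namespace Cfsg.Agent.Lib.helper17.SLP

open Polynomial

universe u v

/-- `pw` of the constant polynomial `1` is `u`. -/
theorem slpb4_pw_one {G : Type*} [Group G] (p : ℕ) [Fact p.Prime] (h u : G) (l : ℤ) :
    pw p h u l (1 : (ZMod p)[X]) = u := by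
  have hp : p.Prime := Fact.out
  have : Fact (1 < p) := ⟨hp.one_lt⟩
  simp [pw, cj_zero, ZMod.val_one]

/-- B4 core: `hB2` is the conclusion of B2 at `T = h`, `mu = lam` (under its hypothesis `hcomm`). -/
theorem slpb4_core {G : Type*} [Group G] {F : Type*} [Field F] [Finite F] (p : ℕ) [Fact p.Prime]
    [Algebra (ZMod p) F] (u h : G) (lam : F)
    (hB2 : (∀ j : ℤ, Commute u (cj h u j)) →
      ∃ x : F → G, (∀ s t, x (s + t) = x s * x t) ∧ (∀ t, h * x t * h⁻¹ = x (lam * t)) ∧
        ∀ f : (ZMod p)[X], x (aeval lam f) = pw p h u 1 f)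
    (hdeg : (minpoly (ZMod p) lam).natDegree ≤ 2)
    (a1 : u ^ p = 1) (a2 : Commute u (cj h u 1)) (a3 : pw p h u 1 (minpoly (ZMod p) lam) = 1) :
    ∃ x : F → G, (∀ s t, x (s + t) = x s * x t) ∧ (∀ t, h * x t * h⁻¹ = x (lam * t)) ∧ x 1 = u ∧
      ∀ f : (ZMod p)[X], x (aeval lam f) = pw p h u 1 f := by
  have hint : IsIntegral (ZMod p) lam := by
    have : Module.Finite (ZMod p) F := Module.Finite.of_finite
    exact IsIntegral.of_finite (ZMod p) lam
  have hcomm : ∀ j : ℤ, Commute u (cj h u j) :=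
    commute_of_deg_le_two p u h (minpoly (ZMod p) lam) (minpoly.monic hint)
      (minpoly.natDegree_pos hint) hdeg a1 a2 a3
  obtain ⟨x, hadd, hconj, hx⟩ := hB2 hcomm
  refine ⟨x, hadd, hconj, ?_, hx⟩
  have := hx 1
  rw [map_one, slpb4_pw_one] at this
  exact this

end Cfsg.Agent.Lib.helper17.SLP
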