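import Mathlib
import Cfsg.Agent.Lib.helper17.SLP.Defs
import Cfsg.Agent.Lib.Helper9.SLPB4core
import Cfsg.Agent.Lib.helper8.SLPB2

/-!
# SLP row B4 (helper9): `exists_x_Q`, verbatim vs the SLP skeleton (core + verbatim B2 of helper8)
-/

set_option autoImplicit false

namespace Cfsg.Agent.Lib.helper17.SLP

open Polynomial

universe u v

/-- B4. -/
theorem exists_x_Q {G : Type*} [Group G] {F : Type*} [Field F] [Finite F] (p : ℕ) [Fact p.Prime]
    [Algebra (ZMod p) F] (u h : G) (lam : F)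
    (hsurj : Function.Surjective (fun f : (ZMod p)[X] => aeval lam f))
    (hdeg : (minpoly (ZMod p) lam).natDegree ≤ 2)
    (a1 : u ^ p = 1) (a2 : Commute u (cj h u 1)) (a3 : pw p h u 1 (minpoly (ZMod p) lam) = 1) :
    ∃ x : F → G, (∀ s t, x (s + t) = x s * x t) ∧ (∀ t, h * x t * h⁻¹ = x (lam * t)) ∧ x 1 = u ∧
      ∀ f : (ZMod p)[X], x (aeval lam f) = pw p h u 1 f :=
  slpb4_core p u h lam (fun hcomm => exists_x_of_commute p h u lam hsurj a1 hcomm a3) hdeg a1 a2 a3

end Cfsg.Agent.Lib.helper17.SLP
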