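import Mathlib
import Cfsg.Agent.Lib.Helper1.SLN.Defs
import Cfsg.Agent.Lib.Helper1.SLN.Defs2
import Cfsg.Agent.Lib.helper4.SL7P0

/-!
Project SL7 (designer helper1; S2288), row G6p (`gX_conj'`) = G6 under `Glue3`, on the landed P1 (`exists_sig2`) and an
own-name copy `sl7g6p_gX_eq` of the G1p statement (proof of helper16's G1: only `g4` is used).
-/

set_option autoImplicit false

namespace Cfsg.Agent.Lib.Helper1.SLN

open Matrix Equiv
open Cfsg.Agent.Lib.helper17.SLP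

universe u v w

section Gp

variable {F : Type u} [Field F] {G : Type v} [Group G]

/-- own-name copy of G1p `gX_eq'` -/
theorem sl7g6p_gX_eq (M : ℕ) (α : alternatingGroup (Fin (M + 4)) →* G)
    (β : Matrix.SpecialLinearGroup (Fin 3) F →* G) (H : Glue3 M α β)
    (σ : alternatingGroup (Fin (M + 4))) (i j : Fin (M + 4))
    (h0 : (σ : Equiv.Perm (Fin (M + 4))) (i0 M) = i) (h1 : (σ : Equiv.Perm (Fin (M + 4))) (i1 M) = j)
    (t : F) : gX M α β i j t = α σ * β (emb23 (xU t)) * (α σ)⁻¹ := by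
  have hex : ∃ σ : alternatingGroup (Fin (M + 4)),
      (σ : Equiv.Perm (Fin (M + 4))) (i0 M) = i ∧ (σ : Equiv.Perm (Fin (M + 4))) (i1 M) = j := ⟨σ, h0, h1⟩
  unfold gX
  rw [dif_pos hex]
  obtain ⟨c0, c1⟩ := hex.choose_spec
  set σ' := hex.choose with hσ'
  have hτ : σ'⁻¹ * σ ∈ stab01 M := by
    rw [mem_stab01]
    constructor
    · rw [Subgroup.coe_mul, Subgroup.coe_inv, Equiv.Perm.mul_apply, h0, Equiv.Perm.inv_eq_iff_eq, c0]
    · rw [Subgroup.coe_mul, Subgroup.coe_inv, Equiv.Perm.mul_apply, h1, Equiv.Perm.inv_eq_iff_eq, c1]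
  have h4 := H.g4 _ hτ (xU t)
  have e : α σ = α σ' * α (σ'⁻¹ * σ) := by
    rw [← map_mul, mul_inv_cancel_left]
  rw [e, _root_.mul_inv_rev]
  have : α σ' * α (σ'⁻¹ * σ) * β (emb23 (xU t)) * ((α (σ'⁻¹ * σ))⁻¹ * (α σ')⁻¹) =
      α σ' * (α (σ'⁻¹ * σ) * β (emb23 (xU t)) * (α (σ'⁻¹ * σ))⁻¹) * (α σ')⁻¹ := by
    simp only [mul_assoc]
  rw [this, h4]

/-- G6p [S]  = G6 with `Glue3` (P1, G1p). -/
theorem gX_conj' (M : ℕ) (α : alternatingGroup (Fin (M + 4)) →* G)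
    (β : Matrix.SpecialLinearGroup (Fin 3) F →* G) (H : Glue3 M α β)
    (π : alternatingGroup (Fin (M + 4))) (i j : Fin (M + 4)) (hij : i ≠ j) (t : F) :
    α π * gX M α β i j t * (α π)⁻¹ =
      gX M α β ((π : Equiv.Perm (Fin (M + 4))) i) ((π : Equiv.Perm (Fin (M + 4))) j) t := by
  obtain ⟨σ, h0, h1⟩ := exists_sig2 M i j hij
  have h0' : ((π * σ : alternatingGroup (Fin (M + 4))) : Equiv.Perm (Fin (M + 4))) (i0 M) =
      (π : Equiv.Perm (Fin (M + 4))) i := by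
    rw [Subgroup.coe_mul, Equiv.Perm.mul_apply, h0]
  have h1' : ((π * σ : alternatingGroup (Fin (M + 4))) : Equiv.Perm (Fin (M + 4))) (i1 M) =
      (π : Equiv.Perm (Fin (M + 4))) j := by
    rw [Subgroup.coe_mul, Equiv.Perm.mul_apply, h1]
  rw [sl7g6p_gX_eq M α β H σ i j h0 h1 t, sl7g6p_gX_eq M α β H (π * σ) _ _ h0' h1' t, map_mul,
    _root_.mul_inv_rev]
  simp only [mul_assoc]

end Gp

end Cfsg.Agent.Lib.Helper1.SLN
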