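import Mathlib
import Cfsg.Prelude.Def_Characters
import Cfsg.Agent.Lib.helper7.PM2.Defs
import Cfsg.Agent.Lib.helper2.CharNat

/-!
# Project PM2 (S4705), pieces SI1 + SI2 : cores (the lower pieces TI3, SINGVAL, ROOTS, NUSUM as hypotheses)
-/

set_option autoImplicit false
set_option linter.unusedVariables false
set_option linter.unusedSectionVars false

namespace Cfsg.Agent.Lib.helper7.PM2

open scoped ComplexConjugate

universe u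

section setting

variable {G : Type u} [Group G] [Fintype G] {p : ℕ} {ζ : G → ℂ} {x : G} {ω : ℂ}

theorem pm2si12_classFunction (S : Setting p ζ x ω) : Cfsg.IsClassFunction G ζ :=
  Cfsg.Agent.Lib.helper2.isCharacter_isClassFunction
    (Cfsg.Agent.Lib.helper2.isCharacter_of_irr ⟨ζ, S.irr⟩)

theorem pm2si12_pw_cf (hζ : Cfsg.IsClassFunction G ζ) (k : ℕ) : Cfsg.IsClassFunction G (pw ζ k) := by
  intro g h
  rw [pw_apply, pw_apply, conj_pow, hζ]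

theorem pm2si12_alt_cf (hζ : Cfsg.IsClassFunction G ζ) : Cfsg.IsClassFunction G (altSq ζ) := by
  intro g h
  rw [altSq_apply, altSq_apply, conj_pow, hζ, hζ]

theorem pm2si12_not_dvd {p m : ℕ} (hm : m ∈ Finset.Ico 1 p) : ¬ p ∣ m := by
  rw [Finset.mem_Ico] at hm
  exact Nat.not_dvd_of_pos_of_lt hm.1 hm.2

/-- SI1, core -/
theorem pm2si1_core (S : Setting p ζ x ω)
    (hTI3 : ∀ F : G → ℂ, Cfsg.IsClassFunction G F →
      (2 * (p : ℂ) * (Nat.card (Subgroup.center G) : ℂ)) * ∑ g ∈ sing p G, F g =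
        (Nat.card G : ℂ) * ∑ m ∈ Finset.Ico 1 p, ∑ c ∈ cen G, F (x ^ m * c))
    (hPW : ∀ k : ℕ, ¬ p ∣ k → ∀ m : ℕ, ¬ p ∣ m → ∀ c : G, c ∈ Subgroup.center G →
      pw ζ k (x ^ m * c) = -(ω ^ (k * m) + ω⁻¹ ^ (k * m)) * nu ζ c ^ k)
    (hRP : ∀ a b : ℕ, ¬ p ∣ a → ¬ p ∣ b →
      ∑ m ∈ Finset.Ico 1 p, (ω ^ (a * m) + ω⁻¹ ^ (a * m)) * conj (ω ^ (b * m) + ω⁻¹ ^ (b * m)) =
        2 * (p : ℂ) * (if a ≡ b [MOD p] ∨ a + b ≡ 0 [MOD p] then 1 else 0) - 4)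
    (hNU : ∀ k k' : ℕ, ∑ c ∈ cen G, nu ζ c ^ k * conj (nu ζ c ^ k') =
      if k ≡ k' [MOD Nat.card (Subgroup.center G)] then (Nat.card (Subgroup.center G) : ℂ) else 0)
    (k k' : ℕ) (hk : ¬ p ∣ k) (hk' : ¬ p ∣ k')
    (hcong : k ≡ k' [MOD Nat.card (Subgroup.center G)]) :
    ∑ g ∈ sing p G, pw ζ k g * conj (pw ζ k' g) =
      (Nat.card G : ℂ) * ((if k ≡ k' [MOD p] ∨ k + k' ≡ 0 [MOD p] then 1 else 0) - 2 / (p : ℂ)) := by
  have hζ := pm2si12_classFunction S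
  have hF : Cfsg.IsClassFunction G (fun g => pw ζ k g * conj (pw ζ k' g)) := by
    intro g h
    show pw ζ k (h * g * h⁻¹) * conj (pw ζ k' (h * g * h⁻¹)) = pw ζ k g * conj (pw ζ k' g)
    rw [pm2si12_pw_cf hζ k g h, pm2si12_pw_cf hζ k' g h]
  have h1 := hTI3 _ hF
  have hinner : ∀ m ∈ Finset.Ico 1 p, ∑ c ∈ cen G, pw ζ k (x ^ m * c) * conj (pw ζ k' (x ^ m * c)) =
      (ω ^ (k * m) + ω⁻¹ ^ (k * m)) * conj (ω ^ (k' * m) + ω⁻¹ ^ (k' * m)) *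
        (Nat.card (Subgroup.center G) : ℂ) := by
    intro m hm
    have hpm := pm2si12_not_dvd hm
    have : ∀ c ∈ cen G, pw ζ k (x ^ m * c) * conj (pw ζ k' (x ^ m * c)) =
        (ω ^ (k * m) + ω⁻¹ ^ (k * m)) * conj (ω ^ (k' * m) + ω⁻¹ ^ (k' * m)) *
          (nu ζ c ^ k * conj (nu ζ c ^ k')) := by
      intro c hc
      rw [mem_cen] at hc
      rw [hPW k hk m hpm c hc, hPW k' hk' m hpm c hc, map_mul, map_neg]
      ring
    rw [Finset.sum_congr rfl this, ← Finset.mul_sum, hNU k k', if_pos hcong]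
  have h2 : ∑ m ∈ Finset.Ico 1 p, ∑ c ∈ cen G, pw ζ k (x ^ m * c) * conj (pw ζ k' (x ^ m * c)) =
      (2 * (p : ℂ) * (if k ≡ k' [MOD p] ∨ k + k' ≡ 0 [MOD p] then 1 else 0) - 4) *
        (Nat.card (Subgroup.center G) : ℂ) := by
    rw [Finset.sum_congr rfl hinner, ← Finset.sum_mul, hRP k k' hk hk']
  have hp0 : (p : ℂ) ≠ 0 := by
    have := S.hp.pos
    exact_mod_cast this.ne'
  have ho0 : (Nat.card (Subgroup.center G) : ℂ) ≠ 0 := by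
    have : 0 < Nat.card (Subgroup.center G) := Nat.card_pos
    exact_mod_cast this.ne'
  have h3 : (2 * (p : ℂ) * (Nat.card (Subgroup.center G) : ℂ)) ≠ 0 :=
    mul_ne_zero (mul_ne_zero two_ne_zero hp0) ho0
  apply mul_left_cancel₀ h3
  rw [h1, h2]
  field_simp
  ring

/-- SI2, core -/
theorem pm2si2_core (S : Setting p ζ x ω)
    (hTI3 : ∀ F : G → ℂ, Cfsg.IsClassFunction G F →
      (2 * (p : ℂ) * (Nat.card (Subgroup.center G) : ℂ)) * ∑ g ∈ sing p G, F g =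
        (Nat.card G : ℂ) * ∑ m ∈ Finset.Ico 1 p, ∑ c ∈ cen G, F (x ^ m * c))
    (hPW : ∀ k : ℕ, ¬ p ∣ k → ∀ m : ℕ, ¬ p ∣ m → ∀ c : G, c ∈ Subgroup.center G →
      pw ζ k (x ^ m * c) = -(ω ^ (k * m) + ω⁻¹ ^ (k * m)) * nu ζ c ^ k)
    (hALT : ∀ m : ℕ, ¬ p ∣ m → ∀ c : G, c ∈ Subgroup.center G →
      altSq ζ (x ^ m * c) = (1 + (ω ^ (2 * m) + ω⁻¹ ^ (2 * m))) * nu ζ c ^ 2)
    (hR1 : ∀ a : ℕ, ¬ p ∣ a → ∑ m ∈ Finset.Ico 1 p, (ω ^ (a * m) + ω⁻¹ ^ (a * m)) = -2)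
    (hRP : ∀ a b : ℕ, ¬ p ∣ a → ¬ p ∣ b →
      ∑ m ∈ Finset.Ico 1 p, (ω ^ (a * m) + ω⁻¹ ^ (a * m)) * conj (ω ^ (b * m) + ω⁻¹ ^ (b * m)) =
        2 * (p : ℂ) * (if a ≡ b [MOD p] ∨ a + b ≡ 0 [MOD p] then 1 else 0) - 4)
    (hNU : ∀ k k' : ℕ, ∑ c ∈ cen G, nu ζ c ^ k * conj (nu ζ c ^ k') =
      if k ≡ k' [MOD Nat.card (Subgroup.center G)] then (Nat.card (Subgroup.center G) : ℂ) else 0)
    (k : ℕ) (hk : ¬ p ∣ k) (hk2 : k ≡ 2 [MOD Nat.card (Subgroup.center G)]) :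
    ∑ g ∈ sing p G, altSq ζ g * conj (pw ζ k g) =
      (Nat.card G : ℂ) * (3 / (p : ℂ) - (if k ≡ 2 [MOD p] ∨ k + 2 ≡ 0 [MOD p] then 1 else 0)) := by
  have hζ := pm2si12_classFunction S
  have hp2 : ¬ p ∣ 2 := by
    intro h
    have := Nat.le_of_dvd (by norm_num) h
    have := S.hp5
    omega
  have hF : Cfsg.IsClassFunction G (fun g => altSq ζ g * conj (pw ζ k g)) := by
    intro g h
    show altSq ζ (h * g * h⁻¹) * conj (pw ζ k (h * g * h⁻¹)) = altSq ζ g * conj (pw ζ k g)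
    rw [pm2si12_alt_cf hζ g h, pm2si12_pw_cf hζ k g h]
  have h1 := hTI3 _ hF
  have hinner : ∀ m ∈ Finset.Ico 1 p, ∑ c ∈ cen G, altSq ζ (x ^ m * c) * conj (pw ζ k (x ^ m * c)) =
      -(conj (ω ^ (k * m) + ω⁻¹ ^ (k * m)) +
          (ω ^ (2 * m) + ω⁻¹ ^ (2 * m)) * conj (ω ^ (k * m) + ω⁻¹ ^ (k * m))) *
        (Nat.card (Subgroup.center G) : ℂ) := by
    intro m hm
    have hpm := pm2si12_not_dvd hm
    have : ∀ c ∈ cen G, altSq ζ (x ^ m * c) * conj (pw ζ k (x ^ m * c)) =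
        -(conj (ω ^ (k * m) + ω⁻¹ ^ (k * m)) +
            (ω ^ (2 * m) + ω⁻¹ ^ (2 * m)) * conj (ω ^ (k * m) + ω⁻¹ ^ (k * m))) *
          (nu ζ c ^ 2 * conj (nu ζ c ^ k)) := by
      intro c hc
      rw [mem_cen] at hc
      rw [hALT m hpm c hc, hPW k hk m hpm c hc, map_mul, map_neg]
      ring
    rw [Finset.sum_congr rfl this, ← Finset.mul_sum, hNU 2 k, if_pos hk2.symm]
  have hdelta : (if 2 ≡ k [MOD p] ∨ 2 + k ≡ 0 [MOD p] then (1 : ℂ) else 0) =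
      (if k ≡ 2 [MOD p] ∨ k + 2 ≡ 0 [MOD p] then (1 : ℂ) else 0) := by
    have hiff : (2 ≡ k [MOD p] ∨ 2 + k ≡ 0 [MOD p]) ↔ (k ≡ 2 [MOD p] ∨ k + 2 ≡ 0 [MOD p]) := by
      rw [add_comm 2 k]
      exact or_congr Nat.ModEq.comm Iff.rfl
    by_cases h : k ≡ 2 [MOD p] ∨ k + 2 ≡ 0 [MOD p]
    · rw [if_pos h, if_pos (hiff.mpr h)]
    · rw [if_neg h, if_neg (fun h' => h (hiff.mp h'))]
  have h2 : ∑ m ∈ Finset.Ico 1 p, ∑ c ∈ cen G, altSq ζ (x ^ m * c) * conj (pw ζ k (x ^ m * c)) =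
      (6 - 2 * (p : ℂ) * (if k ≡ 2 [MOD p] ∨ k + 2 ≡ 0 [MOD p] then 1 else 0)) *
        (Nat.card (Subgroup.center G) : ℂ) := by
    rw [Finset.sum_congr rfl hinner, ← Finset.sum_mul, Finset.sum_neg_distrib, Finset.sum_add_distrib,
      hRP 2 k hp2 hk, ← map_sum, hR1 k hk, hdelta]
    have : conj (-2 : ℂ) = -2 := by
      rw [map_neg]
      congr 1
      exact map_ofNat (starRingEnd ℂ) 2
    rw [this]
    ring
  have hp0 : (p : ℂ) ≠ 0 := by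
    have := S.hp.pos
    exact_mod_cast this.ne'
  have ho0 : (Nat.card (Subgroup.center G) : ℂ) ≠ 0 := by
    have : 0 < Nat.card (Subgroup.center G) := Nat.card_pos
    exact_mod_cast this.ne'
  have h3 : (2 * (p : ℂ) * (Nat.card (Subgroup.center G) : ℂ)) ≠ 0 :=
    mul_ne_zero (mul_ne_zero two_ne_zero hp0) ho0
  apply mul_left_cancel₀ h3
  rw [h1, h2]
  field_simp
  ring

end setting

end Cfsg.Agent.Lib.helper7.PM2
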