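import Mathlib
import Cfsg.Prelude.Def_Characters
import Cfsg.Agent.Lib.helper7.PM2.Defs
import Cfsg.Agent.Lib.Helper9.PM2SIcore
import Cfsg.Agent.Lib.Helper25.PM2NUSUM
import Cfsg.Agent.Lib.Helper25.PM2ROOTS1
import Cfsg.Agent.Lib.Helper25.PM2ROOTS2
import Cfsg.Agent.Lib.helper23.PM2SINGVAL
import Cfsg.Agent.Lib.Helper27.PM2TI3

/-!
# Project PM2 (S4705), piece SI2 : `sing_alt_pw`
-/

set_option autoImplicit false
set_option linter.unusedVariables false
set_option linter.unusedSectionVars false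

namespace Cfsg.Agent.Lib.helper7.PM2

open scoped ComplexConjugate

universe u

section setting

variable {G : Type u} [Group G] [Fintype G] {p : ℕ} {ζ : G → ℂ} {x : G} {ω : ℂ}

/-- SI2 -/
theorem sing_alt_pw (S : Setting p ζ x ω) (k : ℕ) (hk : ¬ p ∣ k)
    (hk2 : k ≡ 2 [MOD Nat.card (Subgroup.center G)]) :
    ∑ g ∈ sing p G, altSq ζ g * conj (pw ζ k g) =
      (Nat.card G : ℂ) * (3 / (p : ℂ) - (if k ≡ 2 [MOD p] ∨ k + 2 ≡ 0 [MOD p] then 1 else 0)) := by
  have hp2 : 2 < p := by have := S.hp5; omega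
  exact pm2si2_core S (fun F hF => sum_sing S F hF)
    (fun k hk m hm c hc => pw_val S k hk m hm hc)
    (fun m hm c hc => altSq_val S m hm hc)
    (fun a ha => root_sum_one S.hp S.prim a ha)
    (fun a b ha hb => root_sum_prod S.hp hp2 S.prim a b ha hb)
    (fun k k' => nu_sum S k k') k hk hk2

end setting

end Cfsg.Agent.Lib.helper7.PM2
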