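import Mathlib
import Cfsg.Agent.Lib.Helper29.BSQ8Assemble
import Cfsg.Agent.Lib.Helper24.BSQC10
import Cfsg.Agent.Lib.Helper18.ZStarMain

set_option autoImplicit false

namespace Cfsg.Agent.Lib.Helper9

/-- The Brauer–Suzuki hypothesis, now a theorem (helper29 + helper24 + helper7 + helper18). -/
theorem zc_bsHyp.{u} : Cfsg.Agent.Lib.Helper18.ZStar.BSHyp.{u} :=
  Cfsg.Agent.Lib.Helper29.BSQ8.bsHyp_of_cside
    (fun C _ _ M hM z hz hzc P e h4 => Cfsg.Agent.Lib.Helper24.bsq_cdata M hM z hz hzc P e h4)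

end Cfsg.Agent.Lib.Helper9
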