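import Mathlib
import Cfsg.Agent.Lib.helper7.REE.Defs
import Cfsg.Agent.Lib.Helper29.REEARA
import Cfsg.Agent.Lib.Helper29.REEARB

/-!
# Project REE (designer helper7), row G6B (helper9): the core of `classify`, on the statements of G3B, G4D, G6A, G1E, G5F.
-/

set_option autoImplicit false

namespace Cfsg.Agent.Lib.helper7.REE

open Matrix Cfsg.Agent.Lib.helper8

universe u v

namespace ReeAx

variable {G : Type u} [Group G] [Finite G] {K : Type v} [Field K] [Fintype K] {m : ℕ}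

/-- `H ≤ B` -/
theorem reeg6b_H_le_B (R : ReeAx G K m) : R.H ≤ R.B := by
  intro h hh
  rw [R.B_iff]
  exact ⟨1, R.U.one_mem, h, hh, (one_mul h).symm⟩

/-- `A₁ ≤ E` -/
theorem reeg6b_A1_le_E (R : ReeAx G K m) : R.A1 ≤ R.E := by
  unfold ReeAx.A1 ReeAx.E
  rw [Subgroup.closure_le]
  intro d hd
  exact Subgroup.mem_sup_right hd.1

/-- `orderOf t = 2` -/
theorem reeg6b_order_t (R : ReeAx G K m) : orderOf R.t = 2 := by
  haveI : Fact (Nat.Prime 2) := ⟨Nat.prime_two⟩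
  apply orderOf_eq_prime
  · rw [pow_two]; exact R.t_sq
  · exact R.t_ne

/-- an element commuting with `y` lies in the centraliser of `{y}` -/
theorem reeg6b_mem_cent (g y : G) (h : g * y = y * g) : g ∈ Subgroup.centralizer ({y} : Set G) := by
  rw [Subgroup.mem_centralizer_iff]
  intro z hz
  rw [Set.mem_singleton_iff] at hz
  rw [hz, h]

/-- conjugation preserves the order -/
theorem reeg6b_orderOf_conj (x y : G) : orderOf (x * y * x⁻¹) = orderOf y := by
  have := MulEquiv.orderOf_eq (MulAut.conj x) y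
  rwa [MulAut.conj_apply] at this

/-- the odd part: an element `g` of order prime to 6 with a power `y` of prime order `p` -/
theorem reeg6b_pow_prime (g : G) (p : ℕ) (hp : p.Prime) (hpo : p ∣ orderOf g) :
    orderOf (g ^ (orderOf g / p)) = p ∧ g * g ^ (orderOf g / p) = g ^ (orderOf g / p) * g := by
  have h0 : orderOf g ≠ 0 := (orderOf_pos g).ne'
  exact ⟨orderOf_pow_orderOf_div h0 hpo, (Commute.self_pow g _).eq⟩

/-- G6B on the statements of the cited rows -/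
theorem reeg6b_core (R : ReeAx G K m)
    (h3B : ∀ g : G, 3 ∣ orderOf g → ∃ x : G, x * g * x⁻¹ ∈ R.B)
    (h4D : ∀ g : G, 2 ∣ orderOf g → (∃ x : G, x * g * x⁻¹ ∈ R.B) ∨ (∃ x : G, x * g * x⁻¹ ∈ R.E))
    (h6A : ∀ (p : ℕ), p.Prime → ∀ y : G, orderOf y = p →
      (p ∣ (qq m - 1) / 2 → ∃ g : G, g * y * g⁻¹ ∈ R.H) ∧
      (p ∣ (qq m + 1) / 4 → ∃ g : G, g * y * g⁻¹ ∈ R.A1))
    (h1E : ∀ h : G, h ∈ R.H → h ≠ 1 → h ≠ R.t → Subgroup.centralizer {h} = R.H)
    (h5F : ∀ c : G, c ∈ R.A1 → c ≠ 1 → Subgroup.centralizer {c} = R.E)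
    (g : G) :
    (∃ x : G, x * g * x⁻¹ ∈ R.B) ∨ (∃ x : G, x * g * x⁻¹ ∈ R.E) ∨ g ^ nn m = 1 := by
  by_cases h3 : 3 ∣ orderOf g
  · exact Or.inl (h3B g h3)
  by_cases h2 : 2 ∣ orderOf g
  · rcases h4D g h2 with h | h
    · exact Or.inl h
    · exact Or.inr (Or.inl h)
  obtain ⟨-, -, hq3, -, -, -, hcube, hgg, -, hhalf, -, hquart, -⟩ := ar_basic m
  -- a prime divisor of `(q - 1) / 2`
  by_cases hH : ∃ p : ℕ, p.Prime ∧ p ∣ orderOf g ∧ p ∣ (qq m - 1) / 2
  · obtain ⟨p, hp, hpo, hpq⟩ := hH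
    obtain ⟨hy, hcomm⟩ := reeg6b_pow_prime g p hp hpo
    obtain ⟨x, hx⟩ := (h6A p hp _ hy).1 hpq
    left
    refine ⟨x, ?_⟩
    apply reeg6b_H_le_B R
    have hy' : orderOf (x * g ^ (orderOf g / p) * x⁻¹) = p := by
      rw [reeg6b_orderOf_conj, hy]
    have hne1 : x * g ^ (orderOf g / p) * x⁻¹ ≠ 1 := by
      intro h1
      rw [h1, orderOf_one] at hy'
      exact hp.one_lt.ne hy'
    have hnet : x * g ^ (orderOf g / p) * x⁻¹ ≠ R.t := by
      intro h1
      rw [h1, reeg6b_order_t R] at hy'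
      apply h2
      rw [hy']
      exact hpo
    rw [← h1E _ hx hne1 hnet]
    apply reeg6b_mem_cent
    calc x * g * x⁻¹ * (x * g ^ (orderOf g / p) * x⁻¹) = x * (g * g ^ (orderOf g / p)) * x⁻¹ := by group
      _ = x * (g ^ (orderOf g / p) * g) * x⁻¹ := by rw [hcomm]
      _ = x * g ^ (orderOf g / p) * x⁻¹ * (x * g * x⁻¹) := by group
  by_cases hE : ∃ p : ℕ, p.Prime ∧ p ∣ orderOf g ∧ p ∣ (qq m + 1) / 4
  · obtain ⟨p, hp, hpo, hpq⟩ := hE
    obtain ⟨hy, hcomm⟩ := reeg6b_pow_prime g p hp hpo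
    obtain ⟨x, hx⟩ := (h6A p hp _ hy).2 hpq
    right; left
    refine ⟨x, ?_⟩
    have hy' : orderOf (x * g ^ (orderOf g / p) * x⁻¹) = p := by
      rw [reeg6b_orderOf_conj, hy]
    have hne1 : x * g ^ (orderOf g / p) * x⁻¹ ≠ 1 := by
      intro h1
      rw [h1, orderOf_one] at hy'
      exact hp.one_lt.ne hy'
    rw [← h5F _ hx hne1]
    apply reeg6b_mem_cent
    calc x * g * x⁻¹ * (x * g ^ (orderOf g / p) * x⁻¹) = x * (g * g ^ (orderOf g / p)) * x⁻¹ := by group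
      _ = x * (g ^ (orderOf g / p) * g) * x⁻¹ := by rw [hcomm]
      _ = x * g ^ (orderOf g / p) * x⁻¹ * (x * g * x⁻¹) := by group
  -- the order is prime to `q³ (q - 1) (q + 1)`
  right; right
  push Not at hH hE
  have hdvd : orderOf g ∣ qq m ^ 3 * (qq m - 1) * (qq m + 1) * nn m := by
    rw [← hgg, ← R.card]
    exact orderOf_dvd_natCard g
  have hcop : (orderOf g).Coprime (qq m ^ 3 * (qq m - 1) * (qq m + 1)) := by
    apply Nat.Coprime.symm
    rw [Nat.coprime_comm]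
    apply Nat.coprime_of_dvd
    intro p hp hpo hpM
    have hp2 : p ≠ 2 := fun h => h2 (h ▸ hpo)
    have hp3 : p ≠ 3 := fun h => h3 (h ▸ hpo)
    rcases (Nat.Prime.dvd_mul hp).1 hpM with hpM | hpM
    · rcases (Nat.Prime.dvd_mul hp).1 hpM with hpM | hpM
      · -- p ∣ q ^ 3
        have := hp.dvd_of_dvd_pow hpM
        unfold qq at this
        have := hp.dvd_of_dvd_pow this
        exact hp3 ((Nat.prime_dvd_prime_iff_eq hp Nat.prime_three).1 this)
      · -- p ∣ q - 1 = 2 * ((q - 1) / 2)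
        rw [← hhalf] at hpM
        rcases (Nat.Prime.dvd_mul hp).1 hpM with h | h
        · exact hp2 ((Nat.prime_dvd_prime_iff_eq hp Nat.prime_two).1 h)
        · exact hH p hp hpo h
    · -- p ∣ q + 1 = 4 * ((q + 1) / 4)
      rw [← hquart] at hpM
      rcases (Nat.Prime.dvd_mul hp).1 hpM with h | h
      · have h4 : p ∣ 2 * 2 := h
        rcases (Nat.Prime.dvd_mul hp).1 h4 with h | h <;>
          exact hp2 ((Nat.prime_dvd_prime_iff_eq hp Nat.prime_two).1 h)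
      · exact hE p hp hpo h
  have := hcop.dvd_of_dvd_mul_left hdvd
  exact orderOf_dvd_iff_pow_eq_one.1 this

end ReeAx

end Cfsg.Agent.Lib.helper7.REE
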