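import Mathlib
import Cfsg.Agent.Lib.helper7.REE.Defs
import Cfsg.Agent.Lib.Helper29.REEARA
import Cfsg.Agent.Lib.Helper29.REEARB

/-!
# Project REE (designer helper7), row G6G (helper9): the core of `pi_count`, on the statements of G6C, G3D, G4B, G6F, ARD.
-/

set_option autoImplicit false

namespace Cfsg.Agent.Lib.helper7.REE

open Matrix Cfsg.Agent.Lib.helper8

universe u v

/-- the six classes of element orders are a partition -/
theorem reeg6g_point (m o : ℕ) (ho : 0 < o)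
    (hC : o ∣ 9 ∨ o ∣ 6 ∨ o ∣ qq m - 1 ∨ o ∣ (qq m + 1) / 2 ∨ o ∣ nn m) :
    (if o = 1 then 1 else 0) + (if 3 ∣ o then 1 else 0) + (if o = 2 then 1 else 0) +
    (if 2 < o ∧ o ∣ qq m - 1 then 1 else 0) + (if ¬ o ∣ 2 ∧ o ∣ (qq m + 1) / 2 then 1 else 0) +
    (if o ≠ 1 ∧ o ∣ nn m then 1 else 0) = 1 := by
  obtain ⟨hn6, -, hnq1, hnq2, -, hq46, -, -, -, -, -, hgcd, -, hq13⟩ := ar_coprime m
  obtain ⟨-, -, -, -, -, -, -, -, -, -, -, hquart, -⟩ := ar_basic m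
  -- `(q + 1) / 2 = 2 * ((q + 1) / 4)`
  have hhalf : (qq m + 1) / 2 = 2 * ((qq m + 1) / 4) := by omega
  have h3q1 : ¬ 3 ∣ qq m - 1 := by
    intro h
    have := Nat.Coprime.eq_one_of_dvd hq13.symm h
    omega
  have h3half : ¬ 3 ∣ (qq m + 1) / 2 := by
    intro h
    rw [hhalf] at h
    rcases (Nat.Prime.dvd_mul Nat.prime_three).1 h with h | h
    · omega
    · have h6 : 3 ∣ 6 := by norm_num
      have := Nat.Coprime.eq_one_of_dvd (Nat.Coprime.coprime_dvd_right h6 hq46).symm h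
      omega
  have h3nn : ¬ 3 ∣ nn m := by
    intro h
    have h6 : 3 ∣ 6 := by norm_num
    have := Nat.Coprime.eq_one_of_dvd (Nat.Coprime.coprime_dvd_right h6 hn6).symm h
    omega
  have h2nn : ¬ 2 ∣ nn m := by
    intro h
    have h6 : 2 ∣ 6 := by norm_num
    have := Nat.Coprime.eq_one_of_dvd (Nat.Coprime.coprime_dvd_right h6 hn6).symm h
    omega
  by_cases h3 : 3 ∣ o
  · have e0 : ¬ o = 1 := by rintro rfl; omega
    have e2 : ¬ o = 2 := by rintro rfl; omega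
    have e3 : ¬ (2 < o ∧ o ∣ qq m - 1) := fun h => h3q1 (dvd_trans h3 h.2)
    have e4 : ¬ (¬ o ∣ 2 ∧ o ∣ (qq m + 1) / 2) := fun h => h3half (dvd_trans h3 h.2)
    have e5 : ¬ (o ≠ 1 ∧ o ∣ nn m) := fun h => h3nn (dvd_trans h3 h.2)
    rw [if_neg e0, if_pos h3, if_neg e2, if_neg e3, if_neg e4, if_neg e5]
  by_cases h1 : o = 1
  · subst h1
    have e2 : ¬ (1 = 2) := by omega
    have e3 : ¬ (2 < 1 ∧ 1 ∣ qq m - 1) := fun h => by omega
    have e4 : ¬ (¬ 1 ∣ 2 ∧ 1 ∣ (qq m + 1) / 2) := fun h => h.1 (one_dvd 2)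
    have e5 : ¬ ((1 : ℕ) ≠ 1 ∧ 1 ∣ nn m) := fun h => h.1 rfl
    rw [if_pos rfl, if_neg h3, if_neg e2, if_neg e3, if_neg e4, if_neg e5]
  by_cases h2 : o = 2
  · subst h2
    have e3 : ¬ (2 < 2 ∧ 2 ∣ qq m - 1) := fun h => by omega
    have e4 : ¬ (¬ 2 ∣ 2 ∧ 2 ∣ (qq m + 1) / 2) := fun h => h.1 (dvd_refl 2)
    have e5 : ¬ ((2 : ℕ) ≠ 1 ∧ 2 ∣ nn m) := fun h => h2nn h.2
    rw [if_neg h1, if_neg h3, if_pos rfl, if_neg e3, if_neg e4, if_neg e5]
  have hgt : 2 < o := by omega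
  have hn2 : ¬ o ∣ 2 := fun h => by
    have := Nat.le_of_dvd (by norm_num) h
    omega
  -- `o` does not divide 9 or 6
  have h9 : ¬ o ∣ 9 := by
    intro h
    have hle := Nat.le_of_dvd (by norm_num) h
    interval_cases o <;> omega
  have h6 : ¬ o ∣ 6 := by
    intro h
    have hle := Nat.le_of_dvd (by norm_num) h
    interval_cases o <;> omega
  have hAB : ¬ (o ∣ qq m - 1 ∧ o ∣ (qq m + 1) / 2) := by
    rintro ⟨ha, hb⟩
    have := Nat.dvd_gcd ha hb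
    rw [hgcd] at this
    exact hn2 this
  have hAC : ¬ (o ∣ qq m - 1 ∧ o ∣ nn m) := by
    rintro ⟨ha, hc⟩
    have := Nat.Coprime.eq_one_of_dvd (Nat.Coprime.coprime_dvd_left hc hnq1) ha
    omega
  have hBC : ¬ (o ∣ (qq m + 1) / 2 ∧ o ∣ nn m) := by
    rintro ⟨hb, hc⟩
    have hb' : o ∣ qq m + 1 := by
      rw [← hquart]
      rw [hhalf] at hb
      exact dvd_trans hb ⟨2, by ring⟩
    have := Nat.Coprime.eq_one_of_dvd (Nat.Coprime.coprime_dvd_left hc hnq2) hb'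
    omega
  rcases hC with h | h | h | h | h
  · exact absurd h h9
  · exact absurd h h6
  · have e3 : 2 < o ∧ o ∣ qq m - 1 := ⟨hgt, h⟩
    have e4 : ¬ (¬ o ∣ 2 ∧ o ∣ (qq m + 1) / 2) := fun h' => hAB ⟨h, h'.2⟩
    have e5 : ¬ (o ≠ 1 ∧ o ∣ nn m) := fun h' => hAC ⟨h, h'.2⟩
    rw [if_neg h1, if_neg h3, if_neg h2, if_pos e3, if_neg e4, if_neg e5]
  · have e3 : ¬ (2 < o ∧ o ∣ qq m - 1) := fun h' => hAB ⟨h'.2, h⟩
    have e4 : ¬ o ∣ 2 ∧ o ∣ (qq m + 1) / 2 := ⟨hn2, h⟩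
    have e5 : ¬ (o ≠ 1 ∧ o ∣ nn m) := fun h' => hBC ⟨h, h'.2⟩
    rw [if_neg h1, if_neg h3, if_neg h2, if_neg e3, if_pos e4, if_neg e5]
  · have e3 : ¬ (2 < o ∧ o ∣ qq m - 1) := fun h' => hAC ⟨h'.2, h⟩
    have e4 : ¬ (¬ o ∣ 2 ∧ o ∣ (qq m + 1) / 2) := fun h' => hBC ⟨h'.2, h⟩
    have e5 : o ≠ 1 ∧ o ∣ nn m := ⟨h1, h⟩
    rw [if_neg h1, if_neg h3, if_neg h2, if_neg e3, if_neg e4, if_pos e5]

namespace ReeAx

variable {G : Type u} [Group G] [Finite G] {K : Type v} [Field K] [Fintype K] {m : ℕ}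

/-- counting a decidable predicate by a sum of indicators -/
theorem reeg6g_card_sum [Fintype G] (P : G → Prop) [DecidablePred P] :
    Nat.card {g : G // P g} = ∑ g : G, (if P g then 1 else 0) := by
  rw [Nat.card_eq_fintype_card, Fintype.card_subtype, Finset.sum_boole]
  simp

/-- G6G on the statements of the cited rows -/
theorem reeg6g_core (R : ReeAx G K m)
    (h6C : ∀ g : G, orderOf g ∣ 9 ∨ orderOf g ∣ 6 ∨ orderOf g ∣ qq m - 1 ∨
      orderOf g ∣ (qq m + 1) / 2 ∨ orderOf g ∣ nn m)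
    (h3D : Nat.card {g : G // 3 ∣ orderOf g} = (qq m ^ 3 + 1) * (2 * qq m ^ 3 - qq m ^ 2 - 1))
    (h4B : Nat.card {g : G // orderOf g = 2} = qq m ^ 2 * nn m)
    (h6F : Nat.card {g : G // 2 < orderOf g ∧ orderOf g ∣ qq m - 1} =
        gg m / (2 * (qq m - 1)) * (qq m - 3) ∧
      Nat.card {g : G // ¬ orderOf g ∣ 2 ∧ orderOf g ∣ (qq m + 1) / 2} =
        gg m / (6 * (qq m + 1)) * (qq m - 3))
    (hARD : gg m = 1 + (qq m ^ 3 + 1) * (2 * qq m ^ 3 - qq m ^ 2 - 1) + qq m ^ 2 * nn m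
      + (gg m / (2 * (qq m - 1))) * (qq m - 3)
      + (gg m / (6 * (qq m + 1))) * (qq m - 3)
      + qq m ^ 3 * (qq m / 3) * (qq m ^ 2 - 1) * (qq m - 2)) :
    Nat.card {x : G // R.IsPi x} = qq m ^ 3 * (qq m / 3) * (qq m ^ 2 - 1) * (qq m - 2) := by
  classical
  haveI : Fintype G := Fintype.ofFinite G
  have hpi : Nat.card {x : G // R.IsPi x} =
      Nat.card {g : G // orderOf g ≠ 1 ∧ orderOf g ∣ nn m} := by
    apply Nat.card_congr
    apply Equiv.subtypeEquivRight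
    intro g
    unfold ReeAx.IsPi
    rw [Ne, Ne, orderOf_eq_one_iff, orderOf_dvd_iff_pow_eq_one]
  have hone : Nat.card {g : G // orderOf g = 1} = 1 := by
    rw [Nat.card_eq_one_iff_unique]
    refine ⟨⟨fun a b => ?_⟩, ⟨⟨1, orderOf_one⟩⟩⟩
    apply Subtype.ext
    rw [orderOf_eq_one_iff.1 a.2, orderOf_eq_one_iff.1 b.2]
  have htotal : Nat.card G = Nat.card {g : G // orderOf g = 1} + Nat.card {g : G // 3 ∣ orderOf g} +
      Nat.card {g : G // orderOf g = 2} + Nat.card {g : G // 2 < orderOf g ∧ orderOf g ∣ qq m - 1} +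
      Nat.card {g : G // ¬ orderOf g ∣ 2 ∧ orderOf g ∣ (qq m + 1) / 2} +
      Nat.card {g : G // orderOf g ≠ 1 ∧ orderOf g ∣ nn m} := by
    rw [reeg6g_card_sum, reeg6g_card_sum, reeg6g_card_sum, reeg6g_card_sum, reeg6g_card_sum,
      reeg6g_card_sum, ← Finset.sum_add_distrib, ← Finset.sum_add_distrib, ← Finset.sum_add_distrib,
      ← Finset.sum_add_distrib, ← Finset.sum_add_distrib, Nat.card_eq_fintype_card,
      ← Finset.card_univ, Finset.card_eq_sum_ones]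
    apply Finset.sum_congr rfl
    intro g _
    exact (reeg6g_point m (orderOf g) (orderOf_pos g) (h6C g)).symm
  rw [hpi]
  rw [R.card, hone, h3D, h4B, h6F.1, h6F.2] at htotal
  omega

end ReeAx

end Cfsg.Agent.Lib.helper7.REE
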