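import Mathlib
import Cfsg.Agent.Lib.helper7.REE.Defs
import Cfsg.Agent.Lib.Helper9.REEG6Gcore
import Cfsg.Agent.Lib.Helper22.REEARD
import Cfsg.Agent.Lib.Helper1.REEG6
import Cfsg.Agent.Lib.Helper22.REEG3D
import Cfsg.Agent.Lib.Helper26.REEG4B
import Cfsg.Agent.Lib.helper17.REEG8D

set_option autoImplicit false

/-!
# Project REE (designer helper7), row G6G (helper9): the verbatim statement `pi_count`.
-/

namespace Cfsg.Agent.Lib.helper7.REE

open Matrix Cfsg.Agent.Lib.helper8

universe u v

namespace ReeAx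

variable {G : Type u} [Group G] [Finite G] {K : Type v} [Field K] [Fintype K] {m : ℕ}

/-- G6G. The number of π-elements (`ar_count`). -/
theorem pi_count (R : ReeAx G K m) :
    Nat.card {x : G // R.IsPi x} = qq m ^ 3 * (qq m / 3) * (qq m ^ 2 - 1) * (qq m - 2) :=
  reeg6g_core R (fun g => classify_order R g) (three_counts R).2.2.2 (invol_count R)
    (HE_count R) (ar_count m R.hm).2.2

end ReeAx

end Cfsg.Agent.Lib.helper7.REE
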