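import Mathlib
import Cfsg.Agent.Lib.Helper24.SCH.Defs

set_option autoImplicit false

/-!
# Project SCH (designer helper24), rows A1 `act_gen`, A2 `comm_fixed`, A3 `fixed_central`
(helper9), verbatim.
-/

namespace Cfsg.Agent.Lib.Helper24.SCH

open scoped commutatorElement

universe u v

section A

variable {T : Type u} [Group T] [Finite T] {p q : ℕ} [Fact p.Prime] {α : MulAut T}

omit [Finite T] [Fact p.Prime] in
/-- iterating an automorphism that fixes `s = α t * t⁻¹` -/
theorem scha1_iter (α : MulAut T) (t : T) (hs : α (α t * t⁻¹) = α t * t⁻¹) (k : ℕ) :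
    (α ^ k) t = (α t * t⁻¹) ^ k * t := by
  induction k with
  | zero => simp
  | succ n ih =>
    rw [pow_succ', MulAut.mul_apply, ih, map_mul, map_pow, hs]
    rw [pow_succ, mul_assoc, mul_assoc, inv_mul_cancel, mul_one]

/-- A1 [S-M]. `[T, α] = T`. -/
theorem act_gen (h : SchAct p q T α) :
    Subgroup.closure {t : T | ∃ s : T, t = α s * s⁻¹} = ⊤ := by
  by_contra hne
  set S : Subgroup T := Subgroup.closure {t : T | ∃ s : T, t = α s * s⁻¹} with hS
  have hinv : ∀ s ∈ S, α s ∈ S := by
    intro s hs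
    have hle : S ≤ S.comap α.toMonoidHom := by
      rw [hS, Subgroup.closure_le]
      rintro t ⟨r, rfl⟩
      show α (α r * r⁻¹) ∈ S
      apply Subgroup.subset_closure
      exact ⟨α r, by rw [map_mul, map_inv]⟩
    exact hle hs
  have hfix := h.min S hinv hne
  apply h.ne_one
  ext t
  have hsS : α t * t⁻¹ ∈ S := Subgroup.subset_closure ⟨t, rfl⟩
  have hs := hfix _ hsS
  have hk := scha1_iter α t hs q
  rw [h.powq, MulAut.one_apply] at hk
  have hsq : (α t * t⁻¹) ^ q = 1 := by
    have : (α t * t⁻¹) ^ q * t = 1 * t := by rw [one_mul]; exact hk.symm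
    exact mul_right_cancel this
  obtain ⟨k, hk'⟩ := h.pgroup (α t * t⁻¹)
  have hp : p.Prime := Fact.out
  have hd1 : orderOf (α t * t⁻¹) ∣ q := orderOf_dvd_of_pow_eq_one hsq
  have hd2 : orderOf (α t * t⁻¹) ∣ p ^ k := orderOf_dvd_of_pow_eq_one hk'
  have hcop : Nat.Coprime q (p ^ k) :=
    Nat.Coprime.pow_right k ((Nat.coprime_primes h.qprime hp).2 h.qne)
  have h1 : orderOf (α t * t⁻¹) = 1 := Nat.eq_one_of_dvd_coprimes hcop hd1 hd2
  rw [orderOf_eq_one_iff] at h1
  rw [MulAut.one_apply]
  exact mul_inv_eq_one.1 h1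

/-- A2 [S]. `commutator T` is `α`-invariant and `≠ ⊤`. -/
theorem comm_fixed (h : SchAct p q T α) (x y : T) : α ⁅x, y⁆ = ⁅x, y⁆ := by
  haveI : Group.IsNilpotent T := h.pgroup.isNilpotent
  haveI : Nontrivial T := by
    by_contra hnt
    rw [not_nontrivial_iff_subsingleton] at hnt
    apply h.ne_one
    ext t
    exact Subsingleton.elim _ _
  have hne : commutator T ≠ ⊤ := (Group.IsSolvable.commutator_lt_top_of_nontrivial T).ne
  have hinv : ∀ s ∈ commutator T, α s ∈ commutator T := by
    intro s hs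
    have hchar : (commutator T).Characteristic := inferInstance
    have := (Subgroup.characteristic_iff_map_le.1 hchar) α
    exact this ⟨s, hs, rfl⟩
  apply h.min (commutator T) hinv hne
  rw [commutator_def]
  exact Subgroup.commutator_mem_commutator (Subgroup.mem_top x) (Subgroup.mem_top y)

/-- A3 [M]. Fixed points are central. -/
theorem fixed_central (h : SchAct p q T α) (x : T) (hx : α x = x) : x ∈ Subgroup.center T := by
  have hcomm : ∀ t : T, x * (α t * t⁻¹) = (α t * t⁻¹) * x := by
    intro t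
    -- `⁅x, t⁻¹⁆ = ⁅x, α t⁻¹⁆`
    have h1 : ⁅x, α t⁻¹⁆ = ⁅x, t⁻¹⁆ := by
      have := comm_fixed h x t⁻¹
      rw [commutatorElement_def, commutatorElement_def] at *
      simpa only [map_mul, map_inv, hx] using this
    rw [commutatorElement_def, commutatorElement_def, map_inv] at h1
    -- `x (αt)⁻¹ x⁻¹ (αt) = x t⁻¹ x⁻¹ t`
    have h2 : (α t)⁻¹ * x⁻¹ * α t = t⁻¹ * x⁻¹ * t := by
      have := congrArg (fun z => x⁻¹ * z) h1
      simpa [mul_assoc] using this
    have h3 : x⁻¹ * (α t * t⁻¹) = (α t * t⁻¹) * x⁻¹ := by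
      have := congrArg (fun z => α t * z * t⁻¹) h2
      simp only [mul_assoc, mul_inv_cancel_left, mul_inv_cancel, mul_one] at this
      rw [this, mul_assoc]
    have := congrArg (fun z => x * z * x) h3
    simp only [mul_assoc, mul_inv_cancel_left, inv_mul_cancel, mul_one] at this
    simpa [mul_assoc] using this.symm
  have hle : Subgroup.closure {t : T | ∃ s : T, t = α s * s⁻¹} ≤ Subgroup.centralizer {x} := by
    rw [Subgroup.closure_le]
    rintro t ⟨s, rfl⟩
    rw [SetLike.mem_coe, Subgroup.mem_centralizer_iff]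
    intro y hy
    rw [Set.mem_singleton_iff] at hy
    rw [hy]
    exact hcomm s
  rw [act_gen h] at hle
  rw [Subgroup.mem_center_iff]
  intro g
  have hg : g ∈ Subgroup.centralizer {x} := hle (Subgroup.mem_top g)
  rw [Subgroup.mem_centralizer_iff] at hg
  exact (hg x rfl).symm

end A

end Cfsg.Agent.Lib.Helper24.SCH
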