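import Mathlib
import Cfsg.Agent.Lib.Helper24.SCH.Defs
import Cfsg.Agent.Lib.Helper9.SCHA1

set_option autoImplicit false

/-!
# Project SCH (designer helper24), row A4 (helper9): `frattini_fixed`, verbatim.
-/

namespace Cfsg.Agent.Lib.Helper24.SCH

open scoped commutatorElement

universe u v

section A

variable {T : Type u} [Group T] [Finite T] {p q : ℕ} [Fact p.Prime] {α : MulAut T}

/-- A4 [S]. `frattini T` is characteristic and `≠ ⊤` (finite nontrivial group). -/
theorem frattini_fixed (h : SchAct p q T α) (x : T) (hx : x ∈ frattini T) : α x = x := by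
  haveI : Nontrivial T := by
    by_contra hnt
    rw [not_nontrivial_iff_subsingleton] at hnt
    apply h.ne_one
    ext t
    exact Subsingleton.elim _ _
  have hne : frattini T ≠ ⊤ := by
    rcases IsCoatomic.eq_top_or_exists_le_coatom (⊥ : Subgroup T) with h1 | ⟨M, hM, -⟩
    · exact absurd h1 bot_ne_top
    · intro htop
      have := frattini_le_coatom hM
      rw [htop, top_le_iff] at this
      exact hM.1 this
  have hinv : ∀ s ∈ frattini T, α s ∈ frattini T := by
    intro s hs
    have hchar : (frattini T).Characteristic := inferInstance
    have := (Subgroup.characteristic_iff_map_le.1 hchar) α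
    exact this ⟨s, hs, rfl⟩
  exact h.min (frattini T) hinv hne x hx

end A

end Cfsg.Agent.Lib.Helper24.SCH
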