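import Mathlib
import Cfsg.Agent.Lib.Helper24.SCH.Defs

set_option autoImplicit false

/-!
# Project SCH (designer helper24), row A5 (helper9): `center_le_comm`, core on the statement of
A1 `act_gen`.
-/

namespace Cfsg.Agent.Lib.Helper24.SCH

open scoped commutatorElement

universe u

section A

variable {T : Type u} [Group T] [Finite T] {p q : ℕ} [Fact p.Prime] {α : MulAut T}

/-- the norm map `t ↦ ∏ i < q, α ^ i t` into the abelianization -/
noncomputable def scha5_norm (q : ℕ) (α : MulAut T) : T →* Abelianization T :=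
  ∏ i ∈ Finset.range q, (Abelianization.of).comp ((α ^ i : MulAut T).toMonoidHom)

omit [Finite T] in
theorem scha5_norm_apply (q : ℕ) (α : MulAut T) (t : T) :
    scha5_norm q α t = ∏ i ∈ Finset.range q, Abelianization.of ((α ^ i) t) := by
  unfold scha5_norm
  rw [MonoidHom.finsetProd_apply]
  rfl

omit [Finite T] in
theorem scha5_norm_shift (q : ℕ) (α : MulAut T) (hq : α ^ q = 1) (s : T) :
    scha5_norm q α (α s) = scha5_norm q α s := by
  rw [scha5_norm_apply, scha5_norm_apply]
  have h1 : ∀ i : ℕ, (α ^ i) (α s) = (α ^ (i + 1)) s := by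
    intro i
    rw [pow_succ, MulAut.mul_apply]
  simp_rw [h1]
  have e1 := Finset.prod_range_succ (fun i => Abelianization.of ((α ^ i) s)) q
  have e2 := Finset.prod_range_succ' (fun i => Abelianization.of ((α ^ i) s)) q
  rw [e1] at e2
  simp only [hq, pow_zero] at e2
  exact (mul_right_cancel e2).symm

omit [Finite T] in
theorem scha5_norm_fixed (q : ℕ) (α : MulAut T) (z : T) (hz : α z = z) :
    scha5_norm q α z = Abelianization.of (z ^ q) := by
  rw [scha5_norm_apply]
  have h1 : ∀ i : ℕ, (α ^ i) z = z := by
    intro i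
    induction i with
    | zero => simp
    | succ n ih => rw [pow_succ, MulAut.mul_apply, hz, ih]
  simp_rw [h1]
  rw [Finset.prod_const, Finset.card_range, map_pow]

/-- A5 on the statement of A1 -/
theorem scha5_core (h : SchAct p q T α)
    (hA1 : Subgroup.closure {t : T | ∃ s : T, t = α s * s⁻¹} = ⊤)
    (hnab : ¬ ∀ x y : T, x * y = y * x) :
    Subgroup.center T ≤ commutator T := by
  -- the centre is fixed pointwise
  have hZinv : ∀ s ∈ Subgroup.center T, α s ∈ Subgroup.center T := by
    intro s hs
    rw [Subgroup.mem_center_iff] at hs ⊢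
    intro g
    have := congrArg α (hs (α⁻¹ g))
    simpa only [map_mul, MulAut.apply_inv_self] using this
  have hZne : Subgroup.center T ≠ ⊤ := by
    intro htop
    apply hnab
    intro x y
    have hx : x ∈ Subgroup.center T := by rw [htop]; exact Subgroup.mem_top x
    rw [Subgroup.mem_center_iff] at hx
    exact (hx y).symm
  have hZfix := h.min (Subgroup.center T) hZinv hZne
  -- the norm is trivial
  have hker : (scha5_norm q α).ker = ⊤ := by
    rw [eq_top_iff, ← hA1, Subgroup.closure_le]
    rintro t ⟨s, rfl⟩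
    show α s * s⁻¹ ∈ (scha5_norm q α).ker
    rw [MonoidHom.mem_ker, map_mul, map_inv, scha5_norm_shift q α h.powq, mul_inv_cancel]
  intro z hz
  have hzq : z ^ q ∈ commutator T := by
    have h1 : scha5_norm q α z = 1 := by
      rw [← MonoidHom.mem_ker, hker]; exact Subgroup.mem_top z
    rw [scha5_norm_fixed q α z (hZfix z hz)] at h1
    rw [← Abelianization.ker_of T]
    exact h1
  -- `q` is prime to the order of `z`
  obtain ⟨k, hk⟩ := h.pgroup z
  have hp : p.Prime := Fact.out
  obtain ⟨j, -, hj⟩ := (Nat.dvd_prime_pow hp).1 (orderOf_dvd_of_pow_eq_one hk)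
  have hcop : Nat.Coprime q (orderOf z) := by
    rw [hj]
    exact Nat.Coprime.pow_right j ((Nat.coprime_primes h.qprime hp).2 h.qne)
  obtain ⟨m, hm⟩ := exists_pow_eq_self_of_coprime hcop
  rw [← hm]
  exact (commutator T).pow_mem hzq m

end A

end Cfsg.Agent.Lib.Helper24.SCH
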