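import Mathlib
import Cfsg.Agent.Lib.Helper24.SCH.Defs
import Cfsg.Agent.Lib.Helper9.SCHA1
import Cfsg.Agent.Lib.Helper9.SCHA5core

set_option autoImplicit false

/-!
# Project SCH (designer helper24), row A5 (helper9): `center_le_comm`, verbatim.
-/

namespace Cfsg.Agent.Lib.Helper24.SCH

open scoped commutatorElement

universe u v

section A

variable {T : Type u} [Group T] [Finite T] {p q : ℕ} [Fact p.Prime] {α : MulAut T}

/-- A5 [M]. `Z(T) ≤ T'` for non-abelian `T`. -/
theorem center_le_comm (h : SchAct p q T α) (hnab : ¬ ∀ x y : T, x * y = y * x) :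
    Subgroup.center T ≤ commutator T :=
  scha5_core h (act_gen h) hnab

end A

end Cfsg.Agent.Lib.Helper24.SCH
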