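import Mathlib
import Cfsg.Agent.Lib.Helper24.SCH.Defs

set_option autoImplicit false

/-!
# Project SCH (designer helper24), row A6 (helper9): `semi`, core on the statements of
A2 `comm_fixed` and A3 `fixed_central`.
-/

namespace Cfsg.Agent.Lib.Helper24.SCH

open scoped commutatorElement

universe u

section A

variable {T : Type u} [Group T] [Finite T] {p q : ℕ} [Fact p.Prime] {α : MulAut T}

/-- A6 on the statements of the cited rows -/
theorem scha6_core (h : SchAct p q T α)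
    (hA2 : ∀ x y : T, α ⁅x, y⁆ = ⁅x, y⁆)
    (hA3 : ∀ x : T, α x = x → x ∈ Subgroup.center T)
    (x : T) (hx : x ∉ Subgroup.center T) (u v : T) :
    ∃ y : T, ⁅x, y⁆ = ⁅u, v⁆ := by
  -- commutators are central
  have hc : ∀ a b z : T, ⁅a, b⁆ * z = z * ⁅a, b⁆ := by
    intro a b z
    have := hA3 _ (hA2 a b)
    rw [Subgroup.mem_center_iff] at this
    exact (this z).symm
  have hmulR : ∀ a b c : T, ⁅a, b * c⁆ = ⁅a, b⁆ * ⁅a, c⁆ := by
    intro a b c
    have e : ⁅a, b * c⁆ = ⁅a, b⁆ * (b * ⁅a, c⁆ * b⁻¹) := by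
      simp only [commutatorElement_def]; group
    rw [e, ← hc a c b, mul_inv_cancel_right]
  have hmulL : ∀ a b c : T, ⁅a * b, c⁆ = ⁅a, c⁆ * ⁅b, c⁆ := by
    intro a b c
    have e : ⁅a * b, c⁆ = (a * ⁅b, c⁆ * a⁻¹) * ⁅a, c⁆ := by
      simp only [commutatorElement_def]; group
    rw [e, ← hc b c a, mul_inv_cancel_right, hc]
  have honeR : ∀ a : T, ⁅a, (1 : T)⁆ = 1 := by
    intro a; simp [commutatorElement_def]
  have honeL : ∀ a : T, ⁅(1 : T), a⁆ = 1 := by
    intro a; simp [commutatorElement_def]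
  have hinvR : ∀ a b : T, ⁅a, b⁻¹⁆ = ⁅a, b⁆⁻¹ := by
    intro a b
    have := hmulR a b b⁻¹
    rw [mul_inv_cancel, honeR] at this
    exact (inv_eq_of_mul_eq_one_right this.symm).symm
  have hinvL : ∀ a b : T, ⁅a⁻¹, b⁆ = ⁅a, b⁆⁻¹ := by
    intro a b
    have := hmulL a a⁻¹ b
    rw [mul_inv_cancel, honeL] at this
    exact (inv_eq_of_mul_eq_one_right this.symm).symm
  -- the subgroup `M = {⁅x, y⁆}`
  let M : Subgroup T :=
    { carrier := {m | ∃ y : T, ⁅x, y⁆ = m}
      one_mem' := ⟨1, honeR x⟩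
      mul_mem' := by
        rintro a b ⟨y, rfl⟩ ⟨z, rfl⟩
        exact ⟨y * z, hmulR x y z⟩
      inv_mem' := by
        rintro a ⟨y, rfl⟩
        exact ⟨y⁻¹, hinvR x y⟩ }
  have hM : ∀ m : T, m ∈ M ↔ ∃ y : T, ⁅x, y⁆ = m := fun m => Iff.rfl
  -- the subgroup `R = {r | ⁅r, T⁆ ⊆ M}`
  let R : Subgroup T :=
    { carrier := {r | ∀ y : T, ⁅r, y⁆ ∈ M}
      one_mem' := by
        intro y
        rw [honeL]; exact M.one_mem
      mul_mem' := by
        intro a b ha hb y
        rw [hmulL]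
        exact M.mul_mem (ha y) (hb y)
      inv_mem' := by
        intro a ha y
        rw [hinvL]
        exact M.inv_mem (ha y) }
  have hR : ∀ r : T, r ∈ R ↔ ∀ y : T, ⁅r, y⁆ ∈ M := fun r => Iff.rfl
  have hxR : x ∈ R := by
    rw [hR]; intro y; exact ⟨y, rfl⟩
  have hRinv : ∀ s ∈ R, α s ∈ R := by
    intro s hs
    rw [hR] at hs ⊢
    intro y
    have e : ⁅α s, y⁆ = ⁅s, α⁻¹ y⁆ := by
      have h1 : α ⁅s, α⁻¹ y⁆ = ⁅α s, y⁆ := by
        rw [commutatorElement_def, commutatorElement_def]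
        simp only [map_mul, map_inv, MulAut.apply_inv_self]
      rw [← h1, hA2]
    rw [e]
    exact hs _
  have hRtop : R = ⊤ := by
    by_contra hne
    exact hx (hA3 x (h.min R hRinv hne x hxR))
  have huR : u ∈ R := by rw [hRtop]; exact Subgroup.mem_top u
  exact (hM _).1 ((hR u).1 huR v)

end A

end Cfsg.Agent.Lib.Helper24.SCH
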