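import Mathlib
import Cfsg.Agent.Lib.Helper24.SCH.Defs
import Cfsg.Agent.Lib.Helper9.SCHA1
import Cfsg.Agent.Lib.Helper9.SCHA6core

set_option autoImplicit false

/-!
# Project SCH (designer helper24), row A6 (helper9): `semi`, verbatim.
-/

namespace Cfsg.Agent.Lib.Helper24.SCH

open scoped commutatorElement

universe u v

section A

variable {T : Type u} [Group T] [Finite T] {p q : ℕ} [Fact p.Prime] {α : MulAut T}

/-- A6 [M]. Semi-extraspecial. -/
theorem semi (h : SchAct p q T α) (x : T) (hx : x ∉ Subgroup.center T) (u v : T) :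
    ∃ y : T, ⁅x, y⁆ = ⁅u, v⁆ :=
  scha6_core h (comm_fixed h) (fixed_central h) x hx u v

end A

end Cfsg.Agent.Lib.Helper24.SCH
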