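import Mathlib
import Cfsg.Agent.Lib.Helper24.SCH.Defs
import Cfsg.Agent.Lib.Helper9.SCHA1

set_option autoImplicit false

/-!
# Project SCH (designer helper24): shared lemmas for rows A4, A7, A8, A9 (helper9).
-/

namespace Cfsg.Agent.Lib.Helper24.SCH

open scoped commutatorElement

universe u v

section A

variable {T : Type u} [Group T] [Finite T] {p q : ℕ} [Fact p.Prime] {α : MulAut T}

/-- the centre is fixed pointwise (non-abelian case) -/
theorem schalib_center_fixed (h : SchAct p q T α) (hnab : ¬ ∀ x y : T, x * y = y * x) :
    ∀ z ∈ Subgroup.center T, α z = z := by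
  have hZinv : ∀ s ∈ Subgroup.center T, α s ∈ Subgroup.center T := by
    intro s hs
    rw [Subgroup.mem_center_iff] at hs ⊢
    intro g
    have := congrArg α (hs (α⁻¹ g))
    simpa only [map_mul, MulAut.apply_inv_self] using this
  have hZne : Subgroup.center T ≠ ⊤ := by
    intro htop
    apply hnab
    intro x y
    have hx : x ∈ Subgroup.center T := by rw [htop]; exact Subgroup.mem_top x
    rw [Subgroup.mem_center_iff] at hx
    exact (hx y).symm
  exact h.min (Subgroup.center T) hZinv hZne

/-- if `α` maps the centraliser of `t` into itself then `t` is central -/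
theorem schalib_cent_trick (h : SchAct p q T α) (t : T)
    (hinv : ∀ s : T, s * t = t * s → α s * t = t * α s) : t ∈ Subgroup.center T := by
  by_contra ht
  have hne : Subgroup.centralizer {t} ≠ ⊤ := by
    intro htop
    apply ht
    rw [Subgroup.mem_center_iff]
    intro g
    have hg : g ∈ Subgroup.centralizer {t} := by rw [htop]; exact Subgroup.mem_top g
    rw [Subgroup.mem_centralizer_iff] at hg
    exact (hg t rfl).symm
  have hfix := h.min (Subgroup.centralizer {t}) (by
    intro s hs
    rw [Subgroup.mem_centralizer_iff] at hs ⊢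
    intro y hy
    rw [Set.mem_singleton_iff] at hy
    rw [hy]
    exact (hinv s (hs t rfl).symm).symm) hne
  have htt : t ∈ Subgroup.centralizer {t} := by
    rw [Subgroup.mem_centralizer_iff]
    intro y hy
    rw [Set.mem_singleton_iff] at hy
    rw [hy]
  exact ht (fixed_central h t (hfix t htt))

/-- if `α t = t ^ k * z` (any integer power, `z` central) then `t` is central -/
theorem schalib_coset_trick (h : SchAct p q T α) (t z : T) (hz : z ∈ Subgroup.center T)
    (k : ℤ) (ht : α t = t ^ k * z) (hk : ∀ s : T, s * t ^ k = t ^ k * s → s * t = t * s) :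
    t ∈ Subgroup.center T := by
  apply schalib_cent_trick h t
  intro s hs
  -- `α s` commutes with `α t = t ^ k * z`, hence with `t ^ k`, hence with `t`
  have h1 : α s * α t = α t * α s := by rw [← map_mul, ← map_mul, hs]
  rw [ht] at h1
  rw [Subgroup.mem_center_iff] at hz
  have h2 : α s * t ^ k = t ^ k * α s := by
    have e1 : α s * (t ^ k * z) = (α s * t ^ k) * z := by rw [mul_assoc]
    have e2 : t ^ k * z * α s = (t ^ k * α s) * z := by
      rw [mul_assoc, ← hz (α s), ← mul_assoc]
    rw [e1, e2] at h1
    exact mul_right_cancel h1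
  exact hk _ h2

/-- the centre of a non-abelian group of order `p ^ 3` has order `p` -/
theorem schalib_center_card (hT : IsPGroup p T) (hc : Nat.card T = p ^ 3)
    (hnab : ¬ ∀ x y : T, x * y = y * x) : Nat.card (Subgroup.center T) = p := by
  have hp : p.Prime := Fact.out
  haveI : Nontrivial T := by
    by_contra hnt
    rw [not_nontrivial_iff_subsingleton] at hnt
    apply hnab
    intro x y
    exact Subsingleton.elim _ _
  haveI := hT.center_nontrivial
  have hdvd : Nat.card (Subgroup.center T) ∣ p ^ 3 := by
    rw [← hc]; exact Subgroup.card_subgroup_dvd_card _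
  obtain ⟨j, hj3, hj⟩ := (Nat.dvd_prime_pow hp).1 hdvd
  have hidx := Subgroup.card_mul_index (Subgroup.center T)
  rw [hc, hj] at hidx
  have hj0 : j ≠ 0 := by
    intro h0
    rw [h0, pow_zero] at hj
    have := (Subgroup.card_eq_one.1 hj)
    exact (Subgroup.nontrivial_iff_ne_bot _).1 inferInstance this
  have hj3' : j ≠ 3 := by
    intro h3
    rw [h3] at hj
    have htop : Subgroup.center T = ⊤ := Subgroup.eq_top_of_card_eq _ (by rw [hj, hc])
    apply hnab
    intro x y
    have hx : x ∈ Subgroup.center T := by rw [htop]; exact Subgroup.mem_top x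
    rw [Subgroup.mem_center_iff] at hx
    exact (hx y).symm
  have hj2 : j ≠ 2 := by
    intro h2
    rw [h2] at hidx
    have hi : (Subgroup.center T).index = p := by
      have hpos : 0 < p ^ 2 := pow_pos hp.pos 2
      have : p ^ 2 * (Subgroup.center T).index = p ^ 2 * p := by rw [hidx]; ring
      exact Nat.eq_of_mul_eq_mul_left hpos this
    rw [Subgroup.index_eq_card] at hi
    haveI : IsCyclic (T ⧸ Subgroup.center T) := isCyclic_of_prime_card hi
    apply hnab
    intro x y
    exact commutative_of_cyclic_center_quotient (QuotientGroup.mk' (Subgroup.center T))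
      (by rw [QuotientGroup.ker_mk']) x y
  have hj1 : j = 1 := by omega
  rw [hj, hj1, pow_one]

end A

end Cfsg.Agent.Lib.Helper24.SCH
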