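import Mathlib
import Cfsg.Agent.Lib.Helper24.SCH.Defs
import Cfsg.Agent.Lib.Helper9.SCHA1
import Cfsg.Agent.Lib.Helper9.SCHAlib

set_option autoImplicit false

/-!
# Project SCH (designer helper24), row A7 (helper9): `small2`, verbatim.
-/

namespace Cfsg.Agent.Lib.Helper24.SCH

open scoped commutatorElement

universe u v

section A

variable {T : Type u} [Group T] [Finite T] {p q : ℕ} [Fact p.Prime] {α : MulAut T}

/-- a group of order 4 is `{1, x, y, x * y}` for `x ≠ y` non-trivial with `x * y ≠ 1` -/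
theorem scha7_four {Q : Type*} [Group Q] [Finite Q] (hQ : Nat.card Q = 4) (x y : Q)
    (hx : x ≠ 1) (hy : y ≠ 1) (hxy : x ≠ y) (hxy1 : x * y ≠ 1) (w : Q) :
    w = 1 ∨ w = x ∨ w = y ∨ w = x * y := by
  classical
  haveI : Fintype Q := Fintype.ofFinite Q
  have hcard : ({1, x, y, x * y} : Finset Q).card = 4 := by
    rw [Finset.card_insert_of_notMem, Finset.card_insert_of_notMem,
      Finset.card_insert_of_notMem, Finset.card_singleton]
    · rw [Finset.mem_singleton]
      intro h
      apply hx
      have : 1 * y = x * y := by rw [one_mul]; exact h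
      exact (mul_right_cancel this).symm
    · rw [Finset.mem_insert, Finset.mem_singleton]
      rintro (h | h)
      · exact hxy h
      · apply hy
        have : x * 1 = x * y := by rw [mul_one]; exact h
        exact (mul_left_cancel this).symm
    · rw [Finset.mem_insert, Finset.mem_insert, Finset.mem_singleton]
      rintro (h | h | h)
      · exact hx h.symm
      · exact hy h.symm
      · exact hxy1 h.symm
  have huniv : ({1, x, y, x * y} : Finset Q) = Finset.univ := by
    apply Finset.eq_univ_of_card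
    rw [hcard, ← Nat.card_eq_fintype_card, hQ]
  have hw : w ∈ ({1, x, y, x * y} : Finset Q) := by rw [huniv]; exact Finset.mem_univ w
  rw [Finset.mem_insert, Finset.mem_insert, Finset.mem_insert, Finset.mem_singleton] at hw
  exact hw

/-- A7 [M]. `|T| = 8` non-abelian: non-central elements are not involutions. -/
theorem small2 (h : SchAct 2 q T α) (hnab : ¬ ∀ x y : T, x * y = y * x) (hc : Nat.card T = 8)
    (a : T) (ha : a ^ 2 = 1) : a ∈ Subgroup.center T := by
  by_contra haZ
  have hZ2 : Nat.card (Subgroup.center T) = 2 :=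
    schalib_center_card h.pgroup (by rw [hc]; norm_num) hnab
  have hcc : ∀ x y : T, ⁅x, y⁆ ∈ Subgroup.center T := fun x y =>
    fixed_central h _ (comm_fixed h x y)
  have hZfix := schalib_center_fixed h hnab
  -- `α t ∉ t Z` for non-central `t`
  have hF3 : ∀ t : T, t⁻¹ * α t ∈ Subgroup.center T → t ∈ Subgroup.center T := by
    intro t ht
    apply schalib_coset_trick h t (t⁻¹ * α t) ht 1
    · rw [zpow_one, mul_inv_cancel_left]
    · intro s hs
      rw [zpow_one] at hs
      exact hs
  have hinvol : ∀ t : T, t ^ 2 = 1 → (α t) ^ 2 = 1 := by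
    intro t ht
    rw [← map_pow, ht, map_one]
  have hnotZ : ∀ t : T, t ∉ Subgroup.center T → α t ∉ Subgroup.center T := by
    intro t ht hαt
    apply ht
    have h1 := hZfix _ hαt
    have h2 : α t = t := α.injective h1
    rw [← h2]; exact hαt
  set b : T := α a with hb
  set c : T := α b with hc'
  have hb2 : b ^ 2 = 1 := hinvol a ha
  have hc2 : c ^ 2 = 1 := hinvol b hb2
  have hbZ : b ∉ Subgroup.center T := hnotZ a haZ
  have hcZ : c ∉ Subgroup.center T := hnotZ b hbZ
  have hainv : a⁻¹ = a := by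
    rw [inv_eq_iff_mul_eq_one, ← pow_two]; exact ha
  have hbinv : b⁻¹ = b := by
    rw [inv_eq_iff_mul_eq_one, ← pow_two]; exact hb2
  -- the quotient
  have hQ4 : Nat.card (T ⧸ Subgroup.center T) = 4 := by
    have := Subgroup.card_mul_index (Subgroup.center T)
    rw [hc, hZ2, Subgroup.index_eq_card] at this
    omega
  have hπ1 : ∀ t : T, (QuotientGroup.mk t : T ⧸ Subgroup.center T) = 1 ↔ t ∈ Subgroup.center T :=
    fun t => QuotientGroup.eq_one_iff t
  have hπeq : ∀ s t : T, (QuotientGroup.mk s : T ⧸ Subgroup.center T) = QuotientGroup.mk t ↔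
      s⁻¹ * t ∈ Subgroup.center T := fun s t => QuotientGroup.eq
  have hx1 : (QuotientGroup.mk a : T ⧸ Subgroup.center T) ≠ 1 := fun e => haZ ((hπ1 a).1 e)
  have hy1 : (QuotientGroup.mk b : T ⧸ Subgroup.center T) ≠ 1 := fun e => hbZ ((hπ1 b).1 e)
  have hxy : (QuotientGroup.mk a : T ⧸ Subgroup.center T) ≠ QuotientGroup.mk b := by
    intro e
    exact haZ (hF3 a ((hπeq a b).1 e))
  have hxy1 : (QuotientGroup.mk a : T ⧸ Subgroup.center T) * QuotientGroup.mk b ≠ 1 := by
    intro e
    apply hxy
    have e2 : (QuotientGroup.mk b : T ⧸ Subgroup.center T) = (QuotientGroup.mk a)⁻¹ :=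
      (inv_eq_of_mul_eq_one_right e).symm
    rw [e2, ← QuotientGroup.mk_inv, hainv]
  have hfour := scha7_four hQ4 _ _ hx1 hy1 hxy hxy1
  -- cosets of arbitrary elements
  have hcover : ∀ t : T, ∃ w z : T, z ∈ Subgroup.center T ∧ t = w * z ∧
      (w = 1 ∨ w = a ∨ w = b ∨ w = a * b) := by
    intro t
    rcases hfour (QuotientGroup.mk t) with e | e | e | e
    · exact ⟨1, t, (hπ1 t).1 e, by rw [one_mul], Or.inl rfl⟩
    · refine ⟨a, a⁻¹ * t, (hπeq a t).1 e.symm, by rw [mul_inv_cancel_left], Or.inr (Or.inl rfl)⟩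
    · refine ⟨b, b⁻¹ * t, (hπeq b t).1 e.symm, by rw [mul_inv_cancel_left],
        Or.inr (Or.inr (Or.inl rfl))⟩
    · rw [← QuotientGroup.mk_mul] at e
      refine ⟨a * b, (a * b)⁻¹ * t, (hπeq (a * b) t).1 e.symm, by rw [mul_inv_cancel_left],
        Or.inr (Or.inr (Or.inr rfl))⟩
  -- where is `c`?
  have hcb : (QuotientGroup.mk c : T ⧸ Subgroup.center T) ≠ QuotientGroup.mk b := by
    intro e
    exact hbZ (hF3 b ((hπeq b c).1 e.symm))
  have hcomm : a * b = b * a := by
    rcases hfour (QuotientGroup.mk c) with e | e | e | e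
    · exact absurd ((hπ1 c).1 e) hcZ
    · -- `c ∈ a Z`: then `α (a b) ∈ a b Z`
      exfalso
      have hab : a * b ∈ Subgroup.center T := by
        apply hF3
        rw [← hπeq, map_mul, ← hb, ← hc', QuotientGroup.mk_mul, QuotientGroup.mk_mul, e]
        -- the quotient is commutative
        rw [← QuotientGroup.mk_mul, ← QuotientGroup.mk_mul, hπeq]
        have : (a * b)⁻¹ * (b * a) = ⁅b⁻¹, a⁻¹⁆ := by
          rw [commutatorElement_def]; group
        rw [this]
        exact hcc _ _
      apply hxy1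
      rw [← QuotientGroup.mk_mul]
      exact (hπ1 _).2 hab
    · exact absurd e hcb
    · -- `c ∈ a b Z`
      rw [← QuotientGroup.mk_mul] at e
      have hz := (hπeq (a * b) c).1 e.symm
      set z₁ : T := (a * b)⁻¹ * c with hz₁
      have hcz : c = a * b * z₁ := by rw [hz₁, mul_inv_cancel_left]
      have hz2 : z₁ ^ 2 = 1 := by
        have := pow_card_eq_one' (G := Subgroup.center T) (x := ⟨z₁, hz⟩)
        rw [hZ2] at this
        exact congrArg Subtype.val this
      have hzc := (Subgroup.mem_center_iff.1 hz)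
      have h1 : (a * b) ^ 2 = 1 := by
        have e1 : c ^ 2 = (a * b) ^ 2 * z₁ ^ 2 := by
          rw [hcz, pow_two, pow_two, pow_two]
          calc a * b * z₁ * (a * b * z₁) = a * b * (z₁ * (a * b)) * z₁ := by group
            _ = a * b * ((a * b) * z₁) * z₁ := by rw [hzc (a * b)]
            _ = a * b * (a * b) * (z₁ * z₁) := by group
        rw [hc2, hz2, mul_one] at e1
        exact e1.symm
      -- `abab = 1`, `a⁻¹ = a`, `b⁻¹ = b`
      have h2 : a * b * (a * b) = 1 := by rw [← pow_two]; exact h1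
      have h3 : b * a = (a * b)⁻¹ := by
        rw [mul_inv_rev, hainv, hbinv]
      rw [h3]
      exact (inv_eq_of_mul_eq_one_right h2).symm ▸ rfl
  -- `a` is central
  apply haZ
  rw [Subgroup.mem_center_iff]
  intro t
  obtain ⟨w, z, hz, rfl, hw⟩ := hcover t
  have hzc := (Subgroup.mem_center_iff.1 hz)
  have hwa : w * a = a * w := by
    rcases hw with rfl | rfl | rfl | rfl
    · rw [one_mul, mul_one]
    · rfl
    · exact hcomm.symm
    · rw [mul_assoc, ← hcomm, ← mul_assoc]
  calc w * z * a = w * (z * a) := by rw [mul_assoc]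
    _ = w * (a * z) := by rw [← hzc a]
    _ = (w * a) * z := by rw [mul_assoc]
    _ = a * w * z := by rw [hwa]
    _ = a * (w * z) := by rw [mul_assoc]

end A

end Cfsg.Agent.Lib.Helper24.SCH
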