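import Mathlib
import Cfsg.Agent.Lib.Helper24.SCH.Defs
import Cfsg.Agent.Lib.Helper9.SCHA1
import Cfsg.Agent.Lib.Helper9.SCHAlib

set_option autoImplicit false

/-!
# Project SCH (designer helper24), row A8 (helper9): `small3`, verbatim.
-/

namespace Cfsg.Agent.Lib.Helper24.SCH

open scoped commutatorElement

universe u v

section A

variable {T : Type u} [Group T] [Finite T] {p q : ℕ} [Fact p.Prime] {α : MulAut T}

/-- the fixed points of `⟨α⟩` on `T` are the centre (non-abelian case); so `|T| ≡ |Z(T)| mod q` -/
theorem scha8_card_modEq (h : SchAct p q T α) (hnab : ¬ ∀ x y : T, x * y = y * x) :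
    Nat.card T ≡ Nat.card (Subgroup.center T) [MOD q] := by
  haveI : Fact q.Prime := ⟨h.qprime⟩
  have hpg : IsPGroup q (Subgroup.zpowers α) := by
    rintro ⟨β, hβ⟩
    refine ⟨1, ?_⟩
    obtain ⟨k, rfl⟩ := Subgroup.mem_zpowers_iff.1 hβ
    apply Subtype.ext
    rw [pow_one]
    show (α ^ k) ^ q = 1
    rw [← zpow_natCast, ← zpow_mul, mul_comm, zpow_mul, zpow_natCast, h.powq, one_zpow]
  have hmod := hpg.card_modEq_card_fixedPoints T
  have hfix : Nat.card (MulAction.fixedPoints (Subgroup.zpowers α) T) =
      Nat.card (Subgroup.center T) := by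
    apply Nat.card_congr
    apply Equiv.subtypeEquivRight
    intro t
    constructor
    · intro ht
      have := ht ⟨α, Subgroup.mem_zpowers α⟩
      exact fixed_central h t this
    · intro ht β
      have hα : α ∈ MulAction.stabilizer (MulAut T) t := by
        rw [MulAction.mem_stabilizer_iff]
        exact schalib_center_fixed h hnab t ht
      have hle : Subgroup.zpowers α ≤ MulAction.stabilizer (MulAut T) t :=
        (Subgroup.zpowers_le).2 hα
      have := hle β.2
      rw [MulAction.mem_stabilizer_iff] at this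
      exact this
  rw [hfix] at hmod
  exact hmod

/-- `q = 2` is impossible for a non-abelian `T` -/
theorem scha8_q_ne_two (h : SchAct p q T α) (hnab : ¬ ∀ x y : T, x * y = y * x) : q ≠ 2 := by
  intro hq2
  have hsq : ∀ t : T, α (α t) = t := by
    intro t
    have := h.powq
    rw [hq2] at this
    have h2 : (α ^ 2) t = t := by rw [this]; rfl
    rw [pow_two, MulAut.mul_apply] at h2
    exact h2
  have hcc : ∀ a b : T, ⁅a, b⁆ ∈ Subgroup.center T := fun a b =>
    fixed_central h _ (comm_fixed h a b)
  -- `t * α t` is central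
  have hu : ∀ t : T, t * α t ∈ Subgroup.center T := by
    intro t
    apply schalib_coset_trick h (t * α t) (⁅(t * α t)⁻¹, t⁻¹⁆) (hcc _ _) 1
    · rw [map_mul, hsq, zpow_one, commutatorElement_def]
      group
    · intro s hs
      rw [zpow_one] at hs
      exact hs
  apply hnab
  have hall : ∀ t : T, t ∈ Subgroup.center T := by
    intro t
    apply schalib_coset_trick h t (t * α t) (hu t) (-1)
    · rw [zpow_neg, zpow_one, inv_mul_cancel_left]
    · intro s hs
      rw [zpow_neg, zpow_one] at hs
      have := congrArg (fun z => t * z * t) hs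
      simp only [mul_assoc, inv_mul_cancel, mul_one, mul_inv_cancel_left] at this
      simpa [mul_assoc] using this.symm
  intro x y
  have hx := hall x
  rw [Subgroup.mem_center_iff] at hx
  exact (hx y).symm

/-- A8 [M]. `|T| = 27` non-abelian is impossible. -/
theorem small3 (h : SchAct 3 q T α) (hnab : ¬ ∀ x y : T, x * y = y * x) : Nat.card T ≠ 27 := by
  intro hc
  have hZ : Nat.card (Subgroup.center T) = 3 :=
    schalib_center_card h.pgroup (by rw [hc]; norm_num) hnab
  have hmod := scha8_card_modEq h hnab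
  rw [hc, hZ] at hmod
  have hdvd : q ∣ 24 := by
    have := (Nat.modEq_iff_dvd' (by norm_num : 3 ≤ 27)).1 hmod.symm
    simpa using this
  have hq : q.Prime := h.qprime
  have hq3 : q ≠ 3 := h.qne
  have hq2 : q ≠ 2 := scha8_q_ne_two h hnab
  have h24 : (24 : ℕ) = 2 ^ 3 * 3 := by norm_num
  rw [h24] at hdvd
  rcases (Nat.Prime.dvd_mul hq).1 hdvd with h2 | h3
  · exact hq2 ((Nat.prime_dvd_prime_iff_eq hq Nat.prime_two).1 (hq.dvd_of_dvd_pow h2))
  · exact hq3 ((Nat.prime_dvd_prime_iff_eq hq Nat.prime_three).1 h3)

end A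

end Cfsg.Agent.Lib.Helper24.SCH
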