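import Mathlib
import Cfsg.Agent.Lib.Helper24.SCH.Defs
import Cfsg.Agent.Lib.Helper1.Frat
import Cfsg.Agent.Lib.Helper9.SCHA1
import Cfsg.Agent.Lib.Helper9.SCHA4
import Cfsg.Agent.Lib.Helper9.SCHA5
import Cfsg.Agent.Lib.Helper9.SCHA6
import Cfsg.Agent.Lib.Helper9.SCHA7
import Cfsg.Agent.Lib.Helper9.SCHA8

set_option autoImplicit false

/-!
# Project SCH (designer helper24), row A9 (helper9): `schP_of_schAct`, verbatim.
-/

namespace Cfsg.Agent.Lib.Helper24.SCH

open scoped commutatorElement

universe u v

section A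

variable {T : Type u} [Group T] [Finite T] {p q : ℕ} [Fact p.Prime] {α : MulAut T}

/-- A9 [S] assembly. -/
theorem schP_of_schAct (h : SchAct p q T α) (hnab : ¬ ∀ x y : T, x * y = y * x) : SchP p T := by
  have hp : p.Prime := Fact.out
  refine ⟨?_, ?_, ?_, ?_, ?_⟩
  · intro x y z
    have := fixed_central h _ (comm_fixed h x y)
    rw [Subgroup.mem_center_iff] at this
    exact (this z).symm
  · intro x hx u v
    exact semi h x hx u v
  · intro x y
    have h1 : x ^ p ∈ frattini T := Cfsg.Agent.Lib.Helper1.pgroup_pow_mem_frattini h.pgroup x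
    have h2 := fixed_central h _ (frattini_fixed h _ h1)
    rw [Subgroup.mem_center_iff] at h2
    exact (h2 y).symm
  · exact center_le_comm h hnab
  · intro hp3 hc a ha
    have hp2 : 2 ≤ p := hp.two_le
    have h23 : p = 2 ∨ p = 3 := by omega
    rcases h23 with rfl | rfl
    · exact small2 h hnab (by rw [hc]; norm_num) a ha
    · exact absurd (by rw [hc]; norm_num) (small3 h hnab)

end A

end Cfsg.Agent.Lib.Helper24.SCH
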