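import Mathlib
import Cfsg.Agent.Lib.Helper24.SCH.Defs
import Cfsg.Agent.Lib.Helper1.Cores

set_option autoImplicit false

/-!
# Project SCH (designer helper24), rows B6 `kl3`, B7 `kl4` (helper9), verbatim.
-/

namespace Cfsg.Agent.Lib.Helper24.SCH

open scoped commutatorElement

universe u v

section B

variable {A : Type u} [CommGroup A] [Finite A] {Γ : Type v} [Group Γ] [Finite Γ] {p : ℕ} [Fact p.Prime]

omit [Finite A] in
/-- automorphisms of a cyclic group commute -/
theorem schb6_mulAut_comm [IsCyclic A] (f g : MulAut A) : f * g = g * f := by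
  obtain ⟨m, hm⟩ := MonoidHom.map_cyclic (f : A →* A)
  obtain ⟨n, hn⟩ := MonoidHom.map_cyclic (g : A →* A)
  ext a
  have hf : ∀ b : A, f b = b ^ m := hm
  have hg : ∀ b : A, g b = b ^ n := hn
  rw [MulAut.mul_apply, MulAut.mul_apply, hf, hg, hg, hf, ← zpow_mul, ← zpow_mul, mul_comm]

/-- B6 [S-M]. -/
theorem kl3 (hcard : Nat.card A = p ^ 2) (ρ : Γ →* MulAut A) (hρ : Function.Injective ρ)
    (hO : Cfsg.pCore p Γ = ⊥) (x : Γ) (hxp : x ^ p = 1) (hx1 : x ≠ 1) : ∀ a : A, a ^ p = 1 := by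
  by_contra hcon
  push Not at hcon
  obtain ⟨a, ha⟩ := hcon
  have hp : p.Prime := Fact.out
  have hdvd : orderOf a ∣ p ^ 2 := by rw [← hcard]; exact orderOf_dvd_natCard a
  obtain ⟨j, hj2, hj⟩ := (Nat.dvd_prime_pow hp).1 hdvd
  have hj' : j = 2 := by
    by_contra hne
    have hj1 : j ≤ 1 := by omega
    apply ha
    have : orderOf a ∣ p := by
      rw [hj]
      calc p ^ j ∣ p ^ 1 := pow_dvd_pow p hj1
        _ = p := pow_one p
    exact orderOf_dvd_iff_pow_eq_one.1 this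
  haveI : IsCyclic A := isCyclic_of_orderOf_eq_card a (by rw [hj, hj', hcard])
  have hcomm : ∀ g₁ g₂ : Γ, g₁ * g₂ = g₂ * g₁ := by
    intro g₁ g₂
    apply hρ
    rw [map_mul, map_mul]
    exact schb6_mulAut_comm _ _
  have hN : (Subgroup.zpowers x).Normal := by
    constructor
    intro n hn g
    rw [hcomm g n, mul_inv_cancel_right]
    exact hn
  have hP : IsPGroup p (Subgroup.zpowers x) := by
    rintro ⟨y, hy⟩
    refine ⟨1, ?_⟩
    obtain ⟨k, rfl⟩ := Subgroup.mem_zpowers_iff.1 hy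
    apply Subtype.ext
    rw [pow_one]
    show (x ^ k) ^ p = 1
    rw [← zpow_natCast, ← zpow_mul, mul_comm, zpow_mul, zpow_natCast, hxp, one_zpow]
  have hle := Cfsg.Agent.Lib.Helper1.le_pCore hN hP
  rw [hO] at hle
  exact hx1 ((Subgroup.mem_bot).1 (hle (Subgroup.mem_zpowers x)))

omit [Finite A] in
/-- iterating a stability automorphism -/
theorem schb7_iter (f : MulAut A) (D : Subgroup A) (h1 : ∀ a : A, f a / a ∈ D)
    (h2 : ∀ d ∈ D, f d = d) (a : A) (n : ℕ) : (f ^ n) a = a * (f a / a) ^ n := by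
  induction n with
  | zero => simp
  | succ n ih =>
    rw [pow_succ', MulAut.mul_apply, ih, map_mul, map_pow, h2 _ (h1 a), pow_succ]
    have : f a = a * (f a / a) := by rw [mul_div_cancel]
    rw [this, mul_div_cancel_left, mul_assoc, mul_comm (f a / a)]

/-- a stability automorphism has order dividing `|A|` -/
theorem schb7_pow_card (f : MulAut A) (D : Subgroup A) (h1 : ∀ a : A, f a / a ∈ D)
    (h2 : ∀ d ∈ D, f d = d) : f ^ Nat.card A = 1 := by
  ext a
  rw [schb7_iter f D h1 h2, pow_card_eq_one', mul_one, MulAut.one_apply]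

/-- B7 [S-M]. -/
theorem kl4 (hA : IsPGroup p A) (ρ : Γ →* MulAut A) (hρ : Function.Injective ρ)
    (hO : Cfsg.pCore p Γ = ⊥) (D : Subgroup A) (hD : ∀ γ : Γ, ∀ d ∈ D, ρ γ d ∈ D) (γ : Γ)
    (h1 : ∀ a : A, ρ γ a / a ∈ D) (h2 : ∀ d ∈ D, ρ γ d = d) : γ = 1 := by
  let U : Subgroup Γ :=
    { carrier := {g | (∀ a : A, ρ g a / a ∈ D) ∧ ∀ d ∈ D, ρ g d = d}
      one_mem' := by
        refine ⟨fun a => ?_, fun d _ => ?_⟩
        · rw [map_one, MulAut.one_apply, div_self']; exact D.one_mem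
        · rw [map_one, MulAut.one_apply]
      mul_mem' := by
        rintro g₁ g₂ ⟨ha1, hd1⟩ ⟨ha2, hd2⟩
        refine ⟨fun a => ?_, fun d hd => ?_⟩
        · rw [map_mul, MulAut.mul_apply]
          have e : ρ g₁ (ρ g₂ a) / a = (ρ g₁ (ρ g₂ a) / ρ g₂ a) * (ρ g₂ a / a) := by
            rw [div_mul_div_cancel]
          rw [e]
          exact D.mul_mem (ha1 _) (ha2 a)
        · rw [map_mul, MulAut.mul_apply, hd2 d hd, hd1 d hd]
      inv_mem' := by
        rintro g ⟨ha, hd⟩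
        refine ⟨fun a => ?_, fun d hdd => ?_⟩
        · have h3 := ha (ρ g⁻¹ a)
          have e : ρ g (ρ g⁻¹ a) = a := by
            rw [← MulAut.mul_apply, ← map_mul, mul_inv_cancel, map_one, MulAut.one_apply]
          rw [e] at h3
          have := D.inv_mem h3
          rwa [inv_div] at this
        · have := hd d hdd
          calc ρ g⁻¹ d = ρ g⁻¹ (ρ g d) := by rw [this]
            _ = d := by
              rw [← MulAut.mul_apply, ← map_mul, inv_mul_cancel, map_one, MulAut.one_apply] }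
  have hUmem : ∀ g : Γ, g ∈ U ↔ (∀ a : A, ρ g a / a ∈ D) ∧ ∀ d ∈ D, ρ g d = d := fun g => Iff.rfl
  have hUN : U.Normal := by
    constructor
    rintro n ⟨ha, hd⟩ g
    rw [hUmem]
    refine ⟨fun a => ?_, fun d hdd => ?_⟩
    · rw [map_mul, map_mul, MulAut.mul_apply, MulAut.mul_apply]
      have h3 := ha (ρ g⁻¹ a)
      have e : ρ g (ρ g⁻¹ a) = a := by
        rw [← MulAut.mul_apply, ← map_mul, mul_inv_cancel, map_one, MulAut.one_apply]
      have h4 := hD g _ h3
      rw [map_div, e] at h4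
      exact h4
    · rw [map_mul, map_mul, MulAut.mul_apply, MulAut.mul_apply, hd _ (hD g⁻¹ d hdd)]
      rw [← MulAut.mul_apply, ← map_mul, mul_inv_cancel, map_one, MulAut.one_apply]
  obtain ⟨m, hm⟩ := IsPGroup.iff_card.1 hA
  have hUP : IsPGroup p U := by
    rintro ⟨g, ha, hd⟩
    refine ⟨m, ?_⟩
    apply Subtype.ext
    show g ^ p ^ m = 1
    apply hρ
    rw [map_pow, map_one, ← hm]
    exact schb7_pow_card (ρ g) D ha hd
  have hle := Cfsg.Agent.Lib.Helper1.le_pCore hUN hUP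
  rw [hO] at hle
  have hγ : γ ∈ U := (hUmem γ).2 ⟨h1, h2⟩
  exact (Subgroup.mem_bot).1 (hle hγ)

end B

end Cfsg.Agent.Lib.Helper24.SCH
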