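import Mathlib
import Cfsg.Agent.Lib.Helper24.SCH.Defs
import Cfsg.Agent.Lib.Helper1.Cores
import Cfsg.Agent.Lib.Helper5.PConstr
import Cfsg.Agent.Lib.Helper25.SCHC1
import Cfsg.Agent.Lib.Helper25.SCHC3
import Cfsg.Agent.Lib.Helper25.SCHC7
import Cfsg.Agent.Lib.Helper20.SCHC5
import Cfsg.Agent.Lib.Helper20.SCHC9
import Cfsg.Agent.Lib.Helper20.SCHC10
import Cfsg.Agent.Lib.Helper20.SCHB5
import Cfsg.Agent.Lib.Helper9.SCHB6

set_option autoImplicit false

/-!
# Project SCH (designer helper24), row C17 (helper9): `idx_ne`, core on the statements of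
C6 `gam_core`, C15 `card_sA`, C16 `pCore_abelian` (the other cited rows are on main).
-/

namespace Cfsg.Agent.Lib.Helper24.SCH

open scoped commutatorElement

universe u v

section C

variable {G : Type u} [Group G] [Finite G] {p : ℕ} [Fact p.Prime]

/-- C17 on the statements of the rows not yet on main -/
theorem schc17_core (hsolv : Cfsg.IsPSolvable p G) (hO : Cfsg.pPrimeCore p G = ⊥) (Q : Sylow p G)
    (hS : SchP p ↥(Q : Subgroup G))
    (h6 : sA p G ≤ Cfsg.pCore p G → Cfsg.pCore p ↥(sGam p G) = ⊥)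
    (h15 : sA p G ≤ Cfsg.pCore p G → (Cfsg.pCore p G).relIndex (Q : Subgroup G) = p →
      Nat.card ↥(sA p G) = p ^ 2)
    (h16 : sA p G ≤ Cfsg.pCore p G → (Cfsg.pCore p G).relIndex (Q : Subgroup G) = p →
      Cfsg.pCore p G ≤ sA p G) :
    (Cfsg.pCore p G).relIndex (Q : Subgroup G) ≠ p := by
  intro hidx
  have hp : p.Prime := Fact.out
  have hC : sA p G ≤ Cfsg.pCore p G :=
    Cfsg.Agent.Lib.Helper5.h5_centralizer_pCore_le hsolv hO
  have hFQ : Cfsg.pCore p G ≤ (Q : Subgroup G) := Cfsg.Agent.Lib.Helper1.pCore_le_sylow p Q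
  have hFA := h16 hC hidx
  have hAc := h15 hC hidx
  have hO' := h6 hC
  -- `x ∈ Q ∖ F`
  have hnle : ¬ (Q : Subgroup G) ≤ Cfsg.pCore p G := by
    intro hle
    have := Subgroup.relIndex_eq_one.2 hle
    rw [hidx] at this
    exact hp.one_lt.ne' this
  obtain ⟨x, hxQ, hxF⟩ := SetLike.not_le_iff_exists.1 hnle
  have hxN : x ∈ sN p G := sylow_le_sN Q hS hxQ
  have hxC : x ∉ Subgroup.centralizer (sA p G : Set G) := fun hc =>
    hxF (sN_inf_cent hC ⟨hxN, hc⟩)
  -- the element `e = ρ x` of `Γ`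
  have hxG : sRho p G x ∈ sGam p G := Subgroup.mem_map_of_mem _ hxN
  set e : ↥(sGam p G) := ⟨sRho p G x, hxG⟩ with he
  have heE : e ∈ sE (p := p) (Q : Subgroup G) := (schc7_mem_sE _ e).2 ⟨x, hxQ, rfl⟩
  have he1 : e ≠ 1 := by
    intro h1
    apply hxC
    rw [← schc7_rho_eq_one_iff]
    exact congrArg Subtype.val h1
  have hep : e ^ p = 1 := (sE_elem hC Q hS).2 e heE
  -- `A` is abelian
  letI instA : CommGroup ↥(sA p G) :=
    { (inferInstance : Group ↥(sA p G)) with
      mul_comm := by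
        intro a b
        apply Subtype.ext
        have ha : (a : G) ∈ Subgroup.centralizer (Cfsg.pCore p G : Set G) := a.2
        rw [Subgroup.mem_centralizer_iff] at ha
        exact (ha b (hC b.2)).symm }
  have hρ : Function.Injective ((sGam p G).subtype) := Subgroup.subtype_injective _
  have hexp : ∀ a : ↥(sA p G), a ^ p = 1 :=
    kl3 hAc (sGam p G).subtype hρ hO' e hep he1
  have hquad : ∀ a : ↥(sA p G),
      (sGam p G).subtype e ((sGam p G).subtype e a / a) = (sGam p G).subtype e a / a := by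
    intro a
    exact hyp_b Q e heE _ (sD_le_sZ Q hS (hyp_a hC Q e heE a))
  have hp3 : p ≤ 3 :=
    kl2 hexp (sGam p G).subtype hρ (gam_psolv hsolv) hO' e hep he1 hquad
  -- `|Q| = p ^ 3`
  have hQc : Nat.card ↥(Q : Subgroup G) = p ^ 3 := by
    have h1 := Subgroup.relIndex_mul_relIndex (⊥ : Subgroup G) (Cfsg.pCore p G) (Q : Subgroup G) bot_le hFQ
    rw [Subgroup.relIndex_bot_left, Subgroup.relIndex_bot_left, hidx] at h1
    have hFeq : Cfsg.pCore p G = sA p G := le_antisymm hFA hC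
    rw [hFeq, hAc] at h1
    rw [← h1]; ring
  -- `small`
  apply hxC
  rw [Subgroup.mem_centralizer_iff]
  intro a ha
  have haQ : a ∈ (Q : Subgroup G) := hFQ (hC ha)
  have hap : (⟨a, haQ⟩ : ↥(Q : Subgroup G)) ^ p = 1 := by
    have := hexp ⟨a, ha⟩
    apply Subtype.ext
    have h2 := congrArg Subtype.val this
    simpa using h2
  have hcen := hS.small hp3 hQc ⟨a, haQ⟩ hap
  rw [Subgroup.mem_center_iff] at hcen
  have := hcen ⟨x, hxQ⟩
  exact (congrArg Subtype.val this).symm

end C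

end Cfsg.Agent.Lib.Helper24.SCH
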