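import Mathlib
import Cfsg.Agent.Lib.Helper24.SCH.Defs
import Cfsg.Agent.Lib.Helper1.Cores
import Cfsg.Agent.Lib.Helper5.PConstr

set_option autoImplicit false

/-!
# Project SCH (designer helper24), row C18 (helper9): `core_free`, core on the statements of
C13 `idx_le` and C17 `idx_ne`.
-/

namespace Cfsg.Agent.Lib.Helper24.SCH

open scoped commutatorElement

universe u v

section C

variable {G : Type u} [Group G] [Finite G] {p : ℕ} [Fact p.Prime]

/-- C18 on the statements of the cited rows -/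
theorem schc18_core (hsolv : Cfsg.IsPSolvable p G) (hO : Cfsg.pPrimeCore p G = ⊥) (Q : Sylow p G)
    (hS : (∀ x y : ↥(Q : Subgroup G), x * y = y * x) ∨ SchP p ↥(Q : Subgroup G))
    (h13 : SchP p ↥(Q : Subgroup G) → (Cfsg.pCore p G).relIndex (Q : Subgroup G) ≤ p)
    (h17 : SchP p ↥(Q : Subgroup G) → (Cfsg.pCore p G).relIndex (Q : Subgroup G) ≠ p) :
    (Q : Subgroup G) = Cfsg.pCore p G := by
  have hp : p.Prime := Fact.out
  have hFQ : Cfsg.pCore p G ≤ (Q : Subgroup G) := Cfsg.Agent.Lib.Helper1.pCore_le_sylow p Q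
  apply le_antisymm _ hFQ
  rcases hS with hab | hS
  · intro x hx
    apply Cfsg.Agent.Lib.Helper5.h5_centralizer_pCore_le hsolv hO
    rw [Subgroup.mem_centralizer_iff]
    intro f hf
    have := hab ⟨f, hFQ hf⟩ ⟨x, hx⟩
    exact congrArg Subtype.val this
  · have h1 := h13 hS
    have h2 := h17 hS
    have hdvd : (Cfsg.pCore p G).relIndex (Q : Subgroup G) ∣ Nat.card (Q : Subgroup G) :=
      Subgroup.relIndex_dvd_card _ _
    obtain ⟨k, hk⟩ := IsPGroup.iff_card.1 Q.isPGroup'
    rw [hk] at hdvd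
    obtain ⟨j, -, hj⟩ := (Nat.dvd_prime_pow hp).1 hdvd
    have hj0 : j = 0 := by
      by_contra hne
      rcases Nat.lt_or_ge j 2 with hlt | hge
      · have hj1 : j = 1 := by omega
        rw [hj1, pow_one] at hj
        exact h2 hj
      · have : p ^ 2 ≤ p ^ j := Nat.pow_le_pow_right hp.pos hge
        rw [← hj] at this
        have h3 : p ^ 2 ≤ p := this.trans h1
        have h4 : p * 2 ≤ p ^ 2 := by
          rw [pow_two]; exact Nat.mul_le_mul_left p hp.two_le
        have := hp.pos
        omega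
    rw [hj0, pow_zero] at hj
    exact Subgroup.relIndex_eq_one.1 hj

end C

end Cfsg.Agent.Lib.Helper24.SCH
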