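import Mathlib
import Cfsg.Prelude.Def_Classical
import Cfsg.Prelude.Def_KGroupFacts
import Cfsg.Agent.Lib.Lead.SPN.Defs
import Cfsg.Agent.Lib.Lead.SPN.Defs2
import Cfsg.Agent.Lib.Helper24.STCI1

/-!
# Project SPN (designer lead; S2096 + S2097), block C, rows C1 C2 C3 C4 C5 C11 C12 C13 C17 C20 (helper9), VERBATIM:
`gam_pair_gam`, `EE_sym`, `XC_diag`, `XC_opp`, `XC_sym`, `XC_add`, `EE_sso`, `XC_sso`, `EE_EFE`, `pp_idem`, `pp_add`, `pp_comm`, `EE_mul_swap`,
`neg_one_ne_one_Cl`.
-/

set_option autoImplicit false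

namespace Cfsg.Agent.Lib.Lead.SPN

open Cfsg.Agent.Lib.helper15.St2 Cfsg.Agent.Lib.helper3.STC Cfsg.Agent.Lib.Lead.STD Cfsg.Agent.Lib.Helper16
  Cfsg.Agent.Lib.Helper1.OMP

universe u v w

section C

variable {l : ℕ} {F : Type u} [Field F]

/-- `γ_{-a} γ_a = 1 - γ_a γ_{-a}` -/
theorem spnc1_swap (a : Fin l ⊕ Fin l) : gam (F := F) (ng a) * gam a = 1 - gam a * gam (ng a) := by
  have h := gam_car (F := F) (ng a) a
  rw [if_pos rfl] at h
  exact eq_sub_of_add_eq h

/-- `γ_a γ_b = -γ_b γ_a` in the form with `ng` on the hypothesis side -/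
theorem spnc1_anti {a b : Fin l ⊕ Fin l} (h : ng a ≠ b) : gam (F := F) a * gam b = -(gam b * gam a) := by
  apply gam_anti
  intro h'
  apply h
  rw [h', ng_ng]

/-- C1 [S]  `γ_a γ_{-a} γ_a = γ_a`. -/
theorem gam_pair_gam (a : Fin l ⊕ Fin l) : gam (F := F) a * gam (ng a) * gam a = gam a := by
  rw [mul_assoc, spnc1_swap, mul_sub, mul_one, ← mul_assoc, gam_sq, zero_mul, sub_zero]

/-- C2 [S]  `E_{-b,-a} = -E_{ab}`. -/
theorem EE_sym {a b : Fin l ⊕ Fin l} (hab : a ≠ b) : EE (F := F) (ng b) (ng a) = -EE a b := by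
  unfold EE
  rw [ng_ng]
  apply gam_anti
  intro h
  exact hab (ng_inj.mp h).symm

/-- C3 [S]  `dif_pos`. -/
theorem XC_diag (a : Fin l ⊕ Fin l) (t : F) : XC (F := F) a a t = 1 := by
  unfold XC
  rw [dif_pos (Or.inl rfl)]

/-- C3 [S]  `dif_pos`. -/
theorem XC_opp (a : Fin l ⊕ Fin l) (t : F) : XC (F := F) a (ng a) t = 1 := by
  unfold XC
  rw [dif_pos (Or.inr (ng_ng a).symm)]

/-- C4 [S]  `Units.ext`, `XC_val` twice, C2. -/
theorem XC_sym (a b : Fin l ⊕ Fin l) (hab : a ≠ b) (hab' : a ≠ ng b) (t : F) : XC (F := F) a b t = XC (ng b) (ng a) (-t) := by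
  have h1 : ng b ≠ ng a := fun h => hab (ng_inj.mp h).symm
  have h2 : ng b ≠ ng (ng a) := by
    rw [ng_ng]
    intro h
    apply hab'
    rw [← h]
  apply Units.ext
  rw [XC_val hab hab', XC_val h1 h2, EE_sym hab, neg_smul, smul_neg, neg_neg]

/-- C5 [S]  `Units.ext`, `XC_val`, `EE_sq`. -/
theorem XC_add (a b : Fin l ⊕ Fin l) (hab : a ≠ b) (hab' : a ≠ ng b) (t u : F) :
    XC (F := F) a b t * XC a b u = XC a b (t + u) := by
  apply Units.ext
  rw [Units.val_mul, XC_val hab hab', XC_val hab hab', XC_val hab hab']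
  have h0 : (t • EE (F := F) a b) * (u • EE a b) = 0 := by
    rw [smul_mul_smul_comm, EE_sq hab, smul_zero]
  have key : ∀ x y : Cl l F, (1 + x) * (1 + y) = 1 + x + y + x * y := fun x y => by noncomm_ring
  rw [key, h0, add_zero, add_smul, add_assoc]

/-- C11 [S]  `E_ab E_{b,-a} = 0` and `E_{b,-a} E_ab = 0`. -/
theorem EE_sso {a b : Fin l ⊕ Fin l} (hab : a ≠ b) (hab' : a ≠ ng b) :
    EE (F := F) a b * EE b (ng a) = 0 ∧ EE (F := F) b (ng a) * EE a b = 0 := by
  unfold EE
  rw [ng_ng]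
  constructor
  · -- γ_a γ_{-b} γ_b γ_a
    have h1 : gam (F := F) b * gam a = -(gam a * gam b) := by
      apply gam_anti
      intro h
      apply hab'
      rw [h, ng_ng]
    have h2 : gam (F := F) (ng b) * gam a = -(gam a * gam (ng b)) := by
      apply gam_anti
      intro h
      exact hab (ng_inj.mp h).symm
    calc gam (F := F) a * gam (ng b) * (gam b * gam a)
        = gam a * gam (ng b) * (-(gam a * gam b)) := by rw [h1]
      _ = -(gam a * (gam (ng b) * gam a) * gam b) := by noncomm_ring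
      _ = -(gam a * (-(gam a * gam (ng b))) * gam b) := by rw [h2]
      _ = gam a * gam a * gam (ng b) * gam b := by noncomm_ring
      _ = 0 := by rw [gam_sq, zero_mul, zero_mul]
  · calc gam (F := F) b * gam a * (gam a * gam (ng b))
        = gam b * (gam a * gam a) * gam (ng b) := by noncomm_ring
      _ = 0 := by rw [gam_sq, mul_zero, zero_mul]

/-- C12 [S]  the signature of `SysD.sso`. -/
theorem XC_sso (a b : Fin l ⊕ Fin l) (hab : a ≠ b) (hab' : a ≠ ng b) (t u : F) :
    XC (F := F) a b t * XC b (ng a) u = XC b (ng a) u * XC a b t := by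
  have h1 : b ≠ ng a := by
    intro h
    apply hab'
    rw [h, ng_ng]
  have h2 : b ≠ ng (ng a) := by
    rw [ng_ng]
    exact hab.symm
  obtain ⟨e1, e2⟩ := EE_sso (F := F) hab hab'
  apply Units.ext
  rw [Units.val_mul, Units.val_mul, XC_val hab hab', XC_val h1 h2]
  have k1 : (t • EE (F := F) a b) * (u • EE b (ng a)) = 0 := by
    rw [smul_mul_smul_comm, e1, smul_zero]
  have k2 : (u • EE (F := F) b (ng a)) * (t • EE a b) = 0 := by
    rw [smul_mul_smul_comm, e2, smul_zero]
  have key : ∀ x y : Cl l F, (1 + x) * (1 + y) = 1 + x + y + x * y := fun x y => by noncomm_ring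
  rw [key, key, k1, k2, add_zero, add_zero, add_assoc, add_assoc, add_comm (t • EE (F := F) a b)]

/-- C13 [S-M]  `E F E = E` for `E = E_ab`, `F = E_ba`. -/
theorem EE_EFE {a b : Fin l ⊕ Fin l} (hab : a ≠ b) (hab' : a ≠ ng b) : EE (F := F) a b * EE b a * EE a b = EE a b := by
  unfold EE
  -- `γ_a` anticommutes with `γ_{-b}` and `γ_b`
  have h1 : gam (F := F) (ng b) * gam a = -(gam a * gam (ng b)) := by
    apply gam_anti
    intro h
    exact hab (ng_inj.mp h).symm
  have h2 : gam (F := F) b * gam a = -(gam a * gam b) := by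
    apply gam_anti
    intro h
    apply hab'
    rw [h, ng_ng]
  have h3 : gam (F := F) a * gam (ng a) * gam a = gam a := gam_pair_gam a
  have h4 : gam (F := F) (ng b) * gam b * gam (ng b) = gam (ng b) := by
    have := gam_pair_gam (F := F) (ng b)
    rwa [ng_ng] at this
  calc gam (F := F) a * gam (ng b) * (gam b * gam (ng a)) * (gam a * gam (ng b))
      = gam a * gam (ng b) * gam b * (gam (ng a) * gam a) * gam (ng b) := by noncomm_ring
    _ = gam a * gam (ng b) * gam b * (1 - gam a * gam (ng a)) * gam (ng b) := by rw [spnc1_swap]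
    _ = gam a * (gam (ng b) * gam b * gam (ng b)) -
          gam a * gam (ng b) * (gam b * gam a) * gam (ng a) * gam (ng b) := by noncomm_ring
    _ = gam a * gam (ng b) - gam a * gam (ng b) * (-(gam a * gam b)) * gam (ng a) * gam (ng b) := by rw [h4, h2]
    _ = gam a * gam (ng b) + gam a * (gam (ng b) * gam a) * gam b * gam (ng a) * gam (ng b) := by noncomm_ring
    _ = gam a * gam (ng b) + gam a * (-(gam a * gam (ng b))) * gam b * gam (ng a) * gam (ng b) := by rw [h1]
    _ = gam a * gam (ng b) - gam a * gam a * gam (ng b) * gam b * gam (ng a) * gam (ng b) := by noncomm_ring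
    _ = gam a * gam (ng b) := by rw [gam_sq]; noncomm_ring

/-- C17 [S]  `p_a² = p_a`. -/
theorem pp_idem (a : Fin l ⊕ Fin l) : pp (F := F) a * pp a = pp a := by
  unfold pp
  rw [← mul_assoc, gam_pair_gam]

/-- C17 [S]  `p_a + p_{-a} = 1`. -/
theorem pp_add (a : Fin l ⊕ Fin l) : pp (F := F) a + pp (ng a) = 1 := by
  unfold pp
  rw [ng_ng]
  have h := gam_car (F := F) a (ng a)
  rw [if_pos (ng_ng a).symm] at h
  exact h

/-- C17 [S]  `p_a p_b = p_b p_a` for `a ≠ b`, `a ≠ ng b`. -/
theorem pp_comm {a b : Fin l ⊕ Fin l} (hab : a ≠ b) (hab' : a ≠ ng b) : pp (F := F) a * pp b = pp b * pp a := by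
  unfold pp
  -- the four anticommutations
  have h1 : gam (F := F) (ng a) * gam b = -(gam b * gam (ng a)) := by
    apply gam_anti
    intro h
    exact hab (ng_inj.mp h)
  have h2 : gam (F := F) (ng a) * gam (ng b) = -(gam (ng b) * gam (ng a)) := by
    apply gam_anti
    rw [ng_ng]
    intro h
    apply hab'
    rw [← h, ng_ng]
  have h3 : gam (F := F) a * gam b = -(gam b * gam a) := gam_anti hab'
  have h4 : gam (F := F) a * gam (ng b) = -(gam (ng b) * gam a) := by
    apply gam_anti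
    rw [ng_ng]
    exact hab
  calc gam (F := F) a * gam (ng a) * (gam b * gam (ng b))
      = gam a * (gam (ng a) * gam b) * gam (ng b) := by noncomm_ring
    _ = gam a * (-(gam b * gam (ng a))) * gam (ng b) := by rw [h1]
    _ = -((gam a * gam b) * (gam (ng a) * gam (ng b))) := by noncomm_ring
    _ = -((-(gam b * gam a)) * (-(gam (ng b) * gam (ng a)))) := by rw [h3, h2]
    _ = -(gam b * (gam a * gam (ng b)) * gam (ng a)) := by noncomm_ring
    _ = -(gam b * (-(gam (ng b) * gam a)) * gam (ng a)) := by rw [h4]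
    _ = gam b * gam (ng b) * (gam a * gam (ng a)) := by noncomm_ring

/-- C17 [S-M]  `E_ab E_ba = p_{-b} p_a`. -/
theorem EE_mul_swap {a b : Fin l ⊕ Fin l} (hab : a ≠ b) (hab' : a ≠ ng b) : EE (F := F) a b * EE b a = pp (ng b) * pp a := by
  unfold EE pp
  rw [ng_ng]
  have h3 : gam (F := F) a * gam b = -(gam b * gam a) := gam_anti hab'
  have h4 : gam (F := F) a * gam (ng b) = -(gam (ng b) * gam a) := by
    apply gam_anti
    rw [ng_ng]
    exact hab
  calc gam (F := F) a * gam (ng b) * (gam b * gam (ng a))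
      = (gam a * gam (ng b)) * gam b * gam (ng a) := by noncomm_ring
    _ = (-(gam (ng b) * gam a)) * gam b * gam (ng a) := by rw [h4]
    _ = -(gam (ng b) * (gam a * gam b) * gam (ng a)) := by noncomm_ring
    _ = -(gam (ng b) * (-(gam b * gam a)) * gam (ng a)) := by rw [h3]
    _ = gam (ng b) * gam b * (gam a * gam (ng a)) := by noncomm_ring

/-- C20 [S]  `-1 ≠ 1` in `(Cl l F)ˣ` in odd characteristic. -/
theorem neg_one_ne_one_Cl (l : ℕ) {F : Type u} [Field F] (h2 : (2 : F) ≠ 0) : (-1 : (Cl l F)ˣ) ≠ 1 := by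
  have : Invertible (2 : F) := invertibleOfNonzero h2
  have : Nontrivial (Cl l F) := inferInstance
  intro h
  have h1 : (-1 : Cl l F) = 1 := by
    have := congrArg (fun x : (Cl l F)ˣ => (x : Cl l F)) h
    simpa using this
  have h3 : (2 : Cl l F) = 0 := by
    have : (1 : Cl l F) + 1 = 0 := by
      nth_rewrite 1 [← h1]
      exact neg_add_cancel 1
    rw [← this]; norm_num
  have h4 : algebraMap F (Cl l F) 2 = 0 := by
    rw [map_ofNat]; exact h3
  have := (algebraMap F (Cl l F)).injective (a₁ := 2) (a₂ := 0) (by rw [h4, map_zero])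
  exact h2 this

end C

end Cfsg.Agent.Lib.Lead.SPN
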