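import Mathlib
import Cfsg.Agent.Lib.Lead.STB.Defs
import Cfsg.Agent.Lib.Lead.STB.Defs4
import Cfsg.Agent.Lib.Helper24.STCI1

/-!
# Project STB (designer lead), rows R0b and R2 (helper9), verbatim: `TbL_form TbS_form` and `eq_one_of_Yshape`
(extras prefixed `stbr0b_`, `stbr2_`)
-/

set_option autoImplicit false
set_option linter.unusedSimpArgs false

namespace Cfsg.Agent.Lib.Lead.STB

open Matrix Cfsg.Agent.Lib.helper15.St2 Cfsg.Agent.Lib.helper3.STC Cfsg.Agent.Lib.Lead.STD

universe v w

section R0
variable {l : Type*} [Fintype l] [DecidableEq l] {K : Type*} [Field K]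

theorem stbr0b_mul_single (M : Matrix (Ix l) (Ix l) K) (i j : Ix l) (c : K) (x y : Ix l) :
    (M * Matrix.single i j c) x y = if j = y then M x i * c else 0 := by
  by_cases h : j = y
  · subst h
    rw [if_pos rfl, Matrix.mul_single_apply_same]
  · rw [if_neg h, Matrix.mul_single_apply_of_ne _ _ _ _ _ (Ne.symm h)]

theorem stbr0b_single_mul (M : Matrix (Ix l) (Ix l) K) (i j : Ix l) (c : K) (x y : Ix l) :
    (Matrix.single i j c * M) x y = if i = x then c * M j y else 0 := by
  by_cases h : i = x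
  · subst h
    rw [if_pos rfl, Matrix.single_mul_apply_same]
  · rw [if_neg h, Matrix.single_mul_apply_of_ne _ _ _ _ _ (Ne.symm h)]

theorem stbr0b_JB_mul_single_inr (a : l ⊕ l) (j : Ix l) (t : K) :
    (JB : Matrix (Ix l) (Ix l) K) * Matrix.single (Sum.inr a) j t = Matrix.single (Sum.inr (ng a)) j t := by
  ext x y
  rw [stbr0b_mul_single, Matrix.single_apply]
  by_cases h : j = y
  · subst h
    rcases x with x | x
    · simp [JB]
    · simp only [JB, if_true, and_true, Sum.inr.injEq]
      by_cases h2 : a = ng x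
      · subst h2
        simp [ng_ng]
      · have : ¬ ng a = x := fun h3 => h2 (by rw [← h3, ng_ng])
        simp [h2, this]
  · simp [h]

theorem stbr0b_JB_mul_single_i0 (j : Ix l) (t : K) :
    (JB : Matrix (Ix l) (Ix l) K) * Matrix.single i0 j t = Matrix.single i0 j (2 * t) := by
  ext x y
  rw [stbr0b_mul_single, Matrix.single_apply]
  by_cases h : j = y
  · subst h
    rcases x with x | x
    · simp [JB, i0]
    · simp [JB, i0]
  · simp [h]

theorem stbr0b_single_mul_JB_inr (i : Ix l) (b : l ⊕ l) (t : K) :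
    Matrix.single i (Sum.inr b) t * (JB : Matrix (Ix l) (Ix l) K) = Matrix.single i (Sum.inr (ng b)) t := by
  ext x y
  rw [stbr0b_single_mul, Matrix.single_apply]
  by_cases h : i = x
  · subst h
    rcases y with y | y
    · simp [JB]
    · simp only [JB, if_true, true_and, Sum.inr.injEq]
      by_cases h2 : y = ng b
      · subst h2
        simp
      · have : ¬ ng b = y := fun h3 => h2 h3.symm
        simp [h2, this]
  · simp [h]

theorem stbr0b_single_mul_JB_i0 (i : Ix l) (t : K) :
    Matrix.single i i0 t * (JB : Matrix (Ix l) (Ix l) K) = Matrix.single i i0 (2 * t) := by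
  ext x y
  rw [stbr0b_single_mul, Matrix.single_apply]
  by_cases h : i = x
  · subst h
    rcases y with y | y
    · simp [JB, i0, mul_comm]
    · simp [JB, i0]
  · simp [h]

theorem stbr0b_single_mul_single (i j k m : Ix l) (c d : K) :
    Matrix.single i j c * Matrix.single k m d = if j = k then Matrix.single i m (c * d) else 0 := by
  by_cases h : j = k
  · subst h
    rw [if_pos rfl, Matrix.single_mul_single_same]
  · rw [if_neg h, Matrix.single_mul_single_of_ne _ _ _ _ h]

theorem TbS_form (a : l ⊕ l) (t : K) : (TbS a t)ᵀ * JB * TbS a t = (JB : Matrix (Ix l) (Ix l) K) := by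
  unfold TbS
  rw [Matrix.transpose_sub, Matrix.transpose_sub, Matrix.transpose_add, Matrix.transpose_one, Matrix.transpose_single,
    Matrix.transpose_single, Matrix.transpose_single]
  have h1 : ng a ≠ a := ng_ne a
  have h2 : a ≠ ng a := ne_ng a
  simp only [Matrix.add_mul, Matrix.sub_mul, Matrix.mul_add, Matrix.mul_sub, Matrix.one_mul,
    Matrix.mul_one, stbr0b_single_mul_JB_inr, stbr0b_single_mul_JB_i0, stbr0b_JB_mul_single_inr, stbr0b_JB_mul_single_i0,
    stbr0b_single_mul_single, i0, Sum.inr.injEq, reduceCtorEq, if_false, if_true, h1]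
  rw [show (2 * t * t : K) = t * t + t * t by ring, Matrix.single_add]
  abel

theorem TbL_form {a b : l ⊕ l} (hab : a ≠ b) (hab' : a ≠ ng b) (t : K) : (TbL a b t)ᵀ * JB * TbL a b t = (JB : Matrix (Ix l) (Ix l) K) := by
  have _ := hab'
  unfold TbL
  rw [Matrix.transpose_sub, Matrix.transpose_add, Matrix.transpose_one, Matrix.transpose_single,
    Matrix.transpose_single]
  have h1 : ng a ≠ a := ng_ne a
  have h2 : b ≠ a := hab.symm
  have h3 : ng a ≠ ng b := fun e => hab (ng_inj.1 e)
  have h4 : b ≠ ng b := ne_ng b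
  simp only [Matrix.add_mul, Matrix.sub_mul, Matrix.mul_add, Matrix.mul_sub, Matrix.one_mul,
    Matrix.mul_one, stbr0b_single_mul_JB_inr, stbr0b_single_mul_JB_i0, stbr0b_JB_mul_single_inr, stbr0b_JB_mul_single_i0,
    stbr0b_single_mul_single, ng_ng, i0, Sum.inr.injEq, reduceCtorEq, if_false, if_true, h1, h2, h3, h4]
  abel

/-- the entries of `Aᵀ * J * A` as values of the bilinear form on the columns -/
theorem stbr2_entry (A J : Matrix (Ix l) (Ix l) K) (a b : Ix l) :
    (Aᵀ * J * A) a b = (A *ᵥ evb a) ⬝ᵥ (J *ᵥ (A *ᵥ evb b)) := by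
  unfold evb
  rw [Matrix.mulVec_single_one, Matrix.mulVec_single_one, Matrix.mul_assoc, Matrix.mul_apply]
  rfl

/-- the value of the polar form on two basis vectors -/
theorem stbr2_form_ev (a b : Ix l) :
    (evb a : Ix l → K) ⬝ᵥ ((JB : Matrix (Ix l) (Ix l) K) *ᵥ evb b) = JB a b := by
  unfold evb
  rw [Matrix.mulVec_single_one, single_one_dotProduct]
  rfl

/-- a matrix fixing all the basis vectors is the identity -/
theorem stbr2_eq_one_of_cols {M : Matrix (Ix l) (Ix l) K} (h : ∀ c, M *ᵥ evb c = evb c) : M = 1 := by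
  ext i c
  have h1 := congrFun (h c) i
  unfold evb at h1
  rw [Matrix.mulVec_single_one] at h1
  rw [Matrix.one_apply, ← Pi.single_apply]
  exact h1

/-- R2 [M] -/
theorem eq_one_of_Yshape {M : Matrix (Ix l) (Ix l) K} {o : l ⊕ l} (hM : Mᵀ * JB * M = JB) (h0 : M *ᵥ evb (Sum.inr o) = evb (Sum.inr o))
    (h : ∀ c : Ix l, c ≠ Sum.inr o → ∃ r : K, M *ᵥ evb c = evb c + r • evb (Sum.inr (ng o))) : M = 1 := by
  apply stbr2_eq_one_of_cols
  intro c
  by_cases hc : c = Sum.inr o
  · subst hc; exact h0
  · obtain ⟨r, hr⟩ := h c hc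
    have hf := stbr2_entry M JB (Sum.inr o) c
    rw [hM, h0, hr, Matrix.mulVec_add, Matrix.mulVec_smul, dotProduct_add, dotProduct_smul,
      stbr2_form_ev, stbr2_form_ev] at hf
    have hJ : (JB : Matrix (Ix l) (Ix l) K) (Sum.inr o) (Sum.inr (ng o)) = 1 := by
      show (if ng o = ng o then (1 : K) else 0) = 1
      rw [if_pos rfl]
    rw [hJ, smul_eq_mul, mul_one] at hf
    have hr0 : r = 0 := by
      have := add_left_cancel (a := (JB : Matrix (Ix l) (Ix l) K) (Sum.inr o) c) (b := r) (c := 0)
        (by rw [add_zero]; exact hf.symm)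
      exact this
    rw [hr, hr0, zero_smul, add_zero]

end R0

end Cfsg.Agent.Lib.Lead.STB
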