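import Mathlib
import Cfsg.Agent.Lib.Lead.STB.Defs
import Cfsg.Agent.Lib.Lead.STB.Defs2
import Cfsg.Agent.Lib.Lead.STB.Defs3
import Cfsg.Agent.Lib.Lead.STB.Defs4
import Cfsg.Agent.Lib.Lead.STB.Sub
import Cfsg.Agent.Lib.Helper24.STCI1
import Cfsg.Agent.Lib.Helper20.STBR0

/-!
# Project STB (designer lead), row R7 (helper9), verbatim: `SysB.Rep.Yg_col`
(extras prefixed `stbr7_`: own-name copies of the R3 facts, `stbr7_Yg_fix_ng`)
-/

set_option autoImplicit false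

namespace Cfsg.Agent.Lib.Lead.STB

open Matrix Cfsg.Agent.Lib.helper15.St2 Cfsg.Agent.Lib.helper3.STC Cfsg.Agent.Lib.Lead.STD

universe v w

theorem stbr7_Em_ng {ι l : Type*} (e : ι ↪ l) (a : ι ⊕ ι) : Em e (ng a) = ng (Em e a) := by
  cases a <;> rfl

theorem stbr7_Em_injective {ι l : Type*} (e : ι ↪ l) : Function.Injective (Em e) := by
  intro a b h
  cases a <;> cases b <;> simp [Em] at h <;> simp [h]

namespace SysB

namespace Rep

variable {K : Type*} [Field K] {ι : Type*} {G : Type*} [Group G] {S : SysB K ι G} {l : Type*} [Fintype l] [DecidableEq l] (R : S.Rep l)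

theorem stbr7_M_one : R.M 1 = 1 := by
  unfold Rep.M
  rw [map_one]
  rfl

theorem stbr7_M_mul (g g' : G) : R.M (g * g') = R.M g * R.M g' := by
  unfold Rep.M
  rw [map_mul]
  rfl

theorem stbr7_M_x {a b : ι ⊕ ι} (hab : a ≠ b) (hab' : a ≠ ng b) (t : K) : R.M (S.x a b t) = TbL (Em R.e a) (Em R.e b) t :=
  R.hφ a b hab hab' t

theorem stbr7_M_xs (a : ι ⊕ ι) (t : K) : R.M (S.xs a t) = TbS (Em R.e a) t :=
  R.hφs a t

theorem stbr7_M_inv_mul (g : G) : R.M g⁻¹ * R.M g = 1 := by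
  rw [← stbr7_M_mul, inv_mul_cancel, stbr7_M_one]

theorem stbr7_M_mul_inv (g : G) : R.M g * R.M g⁻¹ = 1 := by
  rw [← stbr7_M_mul, mul_inv_cancel, stbr7_M_one]

theorem stbr7_M_inv_mulVec {g : G} {v v' : Ix l → K} (h : R.M g *ᵥ v = v') : R.M g⁻¹ *ᵥ v' = v := by
  rw [← h, Matrix.mulVec_mulVec, stbr7_M_inv_mul, Matrix.one_mulVec]

variable (o : ι ⊕ ι)

/-- the vector `e_{-o}` is fixed by `Yg o`, and the columns `c ≠ o` have the shape `e_c + r e_{-o}` -/
theorem stbr7_Yg_col_aux : ∀ y ∈ S.Yg o,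
    R.M y *ᵥ evb (Eb R.e (ng o)) = evb (Eb R.e (ng o)) ∧
      ∀ c : Ix l, c ≠ Eb R.e o → ∃ r : K, R.M y *ᵥ evb c = evb c + r • evb (Eb R.e (ng o)) := by
  intro y hy
  unfold Yg XQ at hy
  induction hy using Subgroup.closure_induction with
  | mem g hg =>
    rcases hg with ⟨a, b, t, hab, hab2, rfl, rfl⟩ | ⟨a, t, rfl, rfl⟩
    · have hab' : Em R.e a ≠ Em R.e b := fun h => hab (stbr7_Em_injective R.e h)
      rw [stbr7_M_x R hab hab2]
      show TbL (Em R.e a) (Em R.e b) t *ᵥ evb (Sum.inr (Em R.e (ng b))) = evb (Sum.inr (Em R.e (ng b))) ∧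
        ∀ c : Ix l, c ≠ Sum.inr (Em R.e b) → ∃ r : K, TbL (Em R.e a) (Em R.e b) t *ᵥ evb c = evb c + r • evb (Sum.inr (Em R.e (ng b)))
      rw [stbr7_Em_ng]
      have key : ∀ c : Ix l, c ≠ Sum.inr (Em R.e b) →
          TbL (Em R.e a) (Em R.e b) t *ᵥ (evb c : Ix l → K) =
            evb c + (-(t * (evb c : Ix l → K) (Sum.inr (ng (Em R.e a))))) • evb (Sum.inr (ng (Em R.e b))) := by
        intro c hc
        rw [TbL_mulVec]
        have h1 : (evb c : Ix l → K) (Sum.inr (Em R.e b)) = 0 := by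
          unfold evb
          rw [Pi.single_apply, if_neg hc.symm]
        rw [h1]
        unfold evb
        ext m
        simp only [mul_zero, Pi.single_zero, add_zero, Pi.sub_apply, Pi.add_apply, Pi.smul_apply,
          Pi.single_apply, smul_eq_mul]
        split_ifs <;> ring
      refine ⟨?_, fun c hc => ⟨_, key c hc⟩⟩
      rw [key _ (fun h => ng_ne _ (Sum.inr.inj h))]
      have h2 : (evb (Sum.inr (ng (Em R.e b))) : Ix l → K) (Sum.inr (ng (Em R.e a))) = 0 := by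
        unfold evb
        rw [Pi.single_apply, if_neg (fun h => hab' (ng_inj.1 (Sum.inr.inj h)))]
      rw [h2, mul_zero, neg_zero, zero_smul, add_zero]
    · rw [stbr7_M_xs R]
      show TbS (Em R.e (ng o)) t *ᵥ evb (Sum.inr (Em R.e (ng o))) = evb (Sum.inr (Em R.e (ng o))) ∧
        ∀ c : Ix l, c ≠ Sum.inr (Em R.e o) → ∃ r : K, TbS (Em R.e (ng o)) t *ᵥ evb c = evb c + r • evb (Sum.inr (Em R.e (ng o)))
      rw [stbr7_Em_ng]
      have key : ∀ c : Ix l, c ≠ Sum.inr (Em R.e o) →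
          TbS (ng (Em R.e o)) t *ᵥ (evb c : Ix l → K) =
            evb c + (-(2 * t * (evb c : Ix l → K) i0)) • evb (Sum.inr (ng (Em R.e o))) := by
        intro c hc
        rw [TbS_mulVec, ng_ng]
        have h1 : (evb c : Ix l → K) (Sum.inr (Em R.e o)) = 0 := by
          unfold evb
          rw [Pi.single_apply, if_neg hc.symm]
        rw [h1]
        unfold evb
        ext m
        simp only [mul_zero, Pi.single_zero, add_zero, Pi.sub_apply, Pi.add_apply, Pi.smul_apply,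
          Pi.single_apply, smul_eq_mul, Pi.zero_apply, sub_zero]
        split_ifs <;> ring
      refine ⟨?_, fun c hc => ⟨_, key c hc⟩⟩
      rw [key _ (fun h => ng_ne _ (Sum.inr.inj h))]
      have h2 : (evb (Sum.inr (ng (Em R.e o))) : Ix l → K) i0 = 0 := by
        unfold evb
        rw [Pi.single_apply, if_neg (by simp [i0])]
      rw [h2, mul_zero, neg_zero, zero_smul, add_zero]
  | one =>
    rw [stbr7_M_one]
    refine ⟨Matrix.one_mulVec _, fun c _ => ⟨0, by rw [Matrix.one_mulVec, zero_smul, add_zero]⟩⟩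
  | mul y y' _ _ ihy ihy' =>
    obtain ⟨h1, h2⟩ := ihy
    obtain ⟨h1', h2'⟩ := ihy'
    rw [stbr7_M_mul]
    refine ⟨by rw [← Matrix.mulVec_mulVec, h1', h1], ?_⟩
    intro c hc
    obtain ⟨r, hr⟩ := h2 c hc
    obtain ⟨r', hr'⟩ := h2' c hc
    refine ⟨r + r', ?_⟩
    rw [← Matrix.mulVec_mulVec, hr', Matrix.mulVec_add, Matrix.mulVec_smul, h1, hr, add_smul, add_assoc]
  | inv y _ ihy =>
    obtain ⟨h1, h2⟩ := ihy
    have hfix : R.M y⁻¹ *ᵥ evb (Eb R.e (ng o)) = evb (Eb R.e (ng o)) := stbr7_M_inv_mulVec R h1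
    refine ⟨hfix, ?_⟩
    intro c hc
    obtain ⟨r, hr⟩ := h2 c hc
    refine ⟨-r, ?_⟩
    have := congrArg (fun v => R.M y⁻¹ *ᵥ v) hr
    simp only [Matrix.mulVec_mulVec, stbr7_M_inv_mul, Matrix.one_mulVec, Matrix.mulVec_add,
      Matrix.mulVec_smul, hfix] at this
    rw [eq_sub_of_add_eq this.symm, neg_smul, sub_eq_add_neg]

/-- R7 [M] -/
theorem Yg_col : ∀ y ∈ S.Yg o, ∀ c : Ix l, c ≠ Eb R.e o → ∃ r : K, R.M y *ᵥ evb c = evb c + r • evb (Eb R.e (ng o)) :=
  fun y hy => (stbr7_Yg_col_aux R o y hy).2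

/-- `Yg o` fixes the vector `e_{-o}` -/
theorem stbr7_Yg_fix_ng : ∀ y ∈ S.Yg o, R.M y *ᵥ evb (Eb R.e (ng o)) = evb (Eb R.e (ng o)) :=
  fun y hy => (stbr7_Yg_col_aux R o y hy).1

end Rep

end SysB

end Cfsg.Agent.Lib.Lead.STB
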