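import Mathlib
import Cfsg.Agent.Lib.Lead.STB.Defs
import Cfsg.Agent.Lib.Lead.STB.Defs3
import Cfsg.Agent.Lib.Helper1.STBX1
import Cfsg.Agent.Lib.Helper24.STCI1

/-!
# Project STB (designer lead), rows N1c and N1d (helper9), verbatim:
`Ag_eq_Yg_ng Lg_ng` and `h_mem_Phat hs_mem_Phat w_mem_Lg h_mem_Lg ws_mem_Lg hs_mem_Lg`
-/

set_option autoImplicit false

namespace Cfsg.Agent.Lib.Lead.STB

open Cfsg.Agent.Lib.helper15.St2 Cfsg.Agent.Lib.helper3.STC Cfsg.Agent.Lib.Lead.STD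

universe v w

namespace SysB

variable {K : Type*} [Field K] {ι : Type*} [DecidableEq ι] {G : Type*} [Group G] (S : SysB K ι G)

section N
variable (o : ι ⊕ ι)

omit [DecidableEq ι] in
/-- N1c [S] -/
theorem Ag_eq_Yg_ng : S.Ag o = S.Yg (ng o) := by
  apply le_antisymm
  · apply S.XQ_le
    · intro a b t _ _ ha
      exact S.x_mem_XQ' (Q := fun _ b => b = ng o) (Qs := fun a => a = ng (ng o)) (by rw [ha]) t
    · intro a t ha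
      exact S.xs_mem_XQ (Q := fun _ b => b = ng o) (Qs := fun a => a = ng (ng o)) (by rw [ha, ng_ng]) t
  · apply S.XQ_le
    · intro a b t _ _ hb
      exact S.x_mem_XQ' (Q := fun a _ => a = o) (Qs := fun a => a = o) (by rw [hb, ng_ng]) t
    · intro a t ha
      exact S.xs_mem_XQ (Q := fun a _ => a = o) (Qs := fun a => a = o) (by rw [ha, ng_ng]) t

omit [DecidableEq ι] in
theorem Lg_ng : S.Lg (ng o) = S.Lg o := by
  apply le_antisymm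
  · apply S.XQ_mono
    · intro a b _ _ h
      rw [ng_ng] at h
      exact ⟨⟨h.1.2, h.1.1⟩, ⟨h.2.2, h.2.1⟩⟩
    · intro a h
      rw [ng_ng] at h
      exact ⟨h.2, h.1⟩
  · apply S.XQ_mono
    · intro a b _ _ h
      rw [ng_ng]
      exact ⟨⟨h.1.2, h.1.1⟩, ⟨h.2.2, h.2.1⟩⟩
    · intro a h
      rw [ng_ng]
      exact ⟨h.2, h.1⟩

omit [DecidableEq ι] in
/-- N1d [S] -/
theorem h_mem_Phat {b : ι ⊕ ι} (hb : b ≠ o) (hb' : b ≠ ng o) {t : K} (ht : t ≠ 0) : S.h o b t ∈ S.Phat o := by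
  exact Subgroup.mem_sup_right (Subgroup.subset_closure (Or.inl ⟨b, t, hb, hb', ht, rfl⟩))

omit [DecidableEq ι] in
theorem hs_mem_Phat {t : K} (ht : t ≠ 0) : S.hs o t ∈ S.Phat o := by
  exact Subgroup.mem_sup_right (Subgroup.subset_closure (Or.inr ⟨t, ht, rfl⟩))

omit [DecidableEq ι] in
theorem w_mem_Lg {a b : ι ⊕ ι} (ha : a ≠ o) (ha' : a ≠ ng o) (hb : b ≠ o) (hb' : b ≠ ng o) (t : K) : S.w a b t ∈ S.Lg o := by
  have h1 : ∀ u : K, S.x a b u ∈ S.Lg o := fun u => S.x_mem_XQ ⟨⟨ha, ha'⟩, ⟨hb, hb'⟩⟩ u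
  have h2 : ∀ u : K, S.x b a u ∈ S.Lg o := fun u => S.x_mem_XQ ⟨⟨hb, hb'⟩, ⟨ha, ha'⟩⟩ u
  show S.x a b t * S.x b a (-t⁻¹) * S.x a b t ∈ S.Lg o
  exact Subgroup.mul_mem _ (Subgroup.mul_mem _ (h1 _) (h2 _)) (h1 _)

omit [DecidableEq ι] in
theorem h_mem_Lg {a b : ι ⊕ ι} (ha : a ≠ o) (ha' : a ≠ ng o) (hb : b ≠ o) (hb' : b ≠ ng o) (t : K) : S.h a b t ∈ S.Lg o := by
  show S.w a b t * S.w a b (-1) ∈ S.Lg o
  exact Subgroup.mul_mem _ (S.w_mem_Lg o ha ha' hb hb' _) (S.w_mem_Lg o ha ha' hb hb' _)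

omit [DecidableEq ι] in
theorem ws_mem_Lg {a : ι ⊕ ι} (ha : a ≠ o) (ha' : a ≠ ng o) (t : K) : S.ws a t ∈ S.Lg o := by
  have hn : ng a ≠ o := fun h => ha' (by rw [← h, ng_ng])
  have hn' : ng a ≠ ng o := fun h => ha (ng_inj.1 h)
  have h1 : ∀ u : K, S.xs a u ∈ S.Lg o := fun u => S.xs_mem_XQ ⟨ha, ha'⟩ u
  have h2 : ∀ u : K, S.xs (ng a) u ∈ S.Lg o := fun u => S.xs_mem_XQ ⟨hn, hn'⟩ u
  show S.xs a t * S.xs (ng a) t⁻¹ * S.xs a t ∈ S.Lg o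
  exact Subgroup.mul_mem _ (Subgroup.mul_mem _ (h1 _) (h2 _)) (h1 _)

omit [DecidableEq ι] in
theorem hs_mem_Lg {a : ι ⊕ ι} (ha : a ≠ o) (ha' : a ≠ ng o) (t : K) : S.hs a t ∈ S.Lg o := by
  show S.ws a t * S.ws a (-1) ∈ S.Lg o
  exact Subgroup.mul_mem _ (S.ws_mem_Lg o ha ha' _) (S.ws_mem_Lg o ha ha' _)

end N

end SysB

end Cfsg.Agent.Lib.Lead.STB
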