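import Mathlib
import Cfsg.Agent.Lib.Lead.STB.Defs
import Cfsg.Agent.Lib.Lead.STB.Defs3
import Cfsg.Agent.Lib.Helper1.STBX1
import Cfsg.Agent.Lib.Helper24.STCI1

/-!
# Project STB (designer lead), row N3 (helper9), verbatim: `IsMon.cj_mem_Yg IsMon.cj_mem_Ag IsMon.cj_mem_Lg`
-/

set_option autoImplicit false

namespace Cfsg.Agent.Lib.Lead.STB

open Cfsg.Agent.Lib.helper15.St2 Cfsg.Agent.Lib.helper3.STC Cfsg.Agent.Lib.Lead.STD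

universe v w

namespace SysB

variable {K : Type*} [Field K] {ι : Type*} [DecidableEq ι] {G : Type*} [Group G] (S : SysB K ι G)

section N
variable (o : ι ⊕ ι)

omit [DecidableEq ι] in
/-- N3 [S] -/
theorem IsMon.cj_mem_Yg {g : G} {σ : Equiv.Perm (ι ⊕ ι)} {d : ι ⊕ ι → K} {d0 : K} (hg : S.IsMon g σ d d0) (hσ : σ o = o) :
    ∀ y ∈ S.Yg o, cj g y ∈ S.Yg o := by
  apply SysB.IsMon.cj_mem_XQ S hg
  · intro k l _ _ hl
    rw [hl, hσ]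
  · intro k hk
    rw [hk, hg.2.1 o, hσ]

omit [DecidableEq ι] in
theorem IsMon.cj_mem_Ag {g : G} {σ : Equiv.Perm (ι ⊕ ι)} {d : ι ⊕ ι → K} {d0 : K} (hg : S.IsMon g σ d d0) (hσ : σ o = o) :
    ∀ y ∈ S.Ag o, cj g y ∈ S.Ag o := by
  apply SysB.IsMon.cj_mem_XQ S hg
  · intro k l _ _ hk
    rw [hk, hσ]
  · intro k hk
    rw [hk, hσ]

omit [DecidableEq ι] in
theorem IsMon.cj_mem_Lg {g : G} {σ : Equiv.Perm (ι ⊕ ι)} {d : ι ⊕ ι → K} {d0 : K} (hg : S.IsMon g σ d d0) (hσ : σ o = o) :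
    ∀ y ∈ S.Lg o, cj g y ∈ S.Lg o := by
  have h1 : ∀ k : ι ⊕ ι, k ≠ o → σ k ≠ o := by
    intro k hk h
    apply hk
    apply σ.injective
    rw [h, hσ]
  have h2 : ∀ k : ι ⊕ ι, k ≠ ng o → σ k ≠ ng o := by
    intro k hk h
    apply hk
    apply σ.injective
    rw [h, hg.2.1 o, hσ]
  apply SysB.IsMon.cj_mem_XQ S hg
  · intro k l _ _ hkl
    exact ⟨⟨h1 k hkl.1.1, h2 k hkl.1.2⟩, ⟨h1 l hkl.2.1, h2 l hkl.2.2⟩⟩
  · intro k hk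
    exact ⟨h1 k hk.1, h2 k hk.2⟩

end N

end SysB

end Cfsg.Agent.Lib.Lead.STB
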