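import Mathlib
import Cfsg.Agent.Lib.Lead.STB.Defs
import Cfsg.Agent.Lib.Lead.STB.Defs3
import Cfsg.Agent.Lib.Helper1.STBX1
import Cfsg.Agent.Lib.Helper24.STCI1
import Cfsg.Agent.Lib.Helper25.STBN2
import Cfsg.Agent.Lib.helper15.STBN2s
import Cfsg.Agent.Lib.Helper9.STBN1c

/-!
# Project STB (designer lead), row N2p (helper9), verbatim: `Lg_cj_mem_Yg Lg_cj_mem_Ag`
-/

set_option autoImplicit false

namespace Cfsg.Agent.Lib.Lead.STB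

open Cfsg.Agent.Lib.helper15.St2 Cfsg.Agent.Lib.helper3.STC Cfsg.Agent.Lib.Lead.STD

universe v w

namespace SysB

variable {K : Type*} [Field K] {ι : Type*} [DecidableEq ι] {G : Type*} [Group G] (S : SysB K ι G)

section N
variable (o : ι ⊕ ι)

omit [DecidableEq ι] in
/-- N2p [S-M] -/
theorem Lg_cj_mem_Yg : ∀ z ∈ S.Lg o, ∀ y ∈ S.Yg o, cj z y ∈ S.Yg o := by
  apply S.XQ_cj_mem
  · intro a b t _ _ hQ q hq
    exact S.x_cj_mem_Yg o hQ.1.1 hQ.1.2 hQ.2.1 hQ.2.2 t q hq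
  · intro a t hQ q hq
    exact S.xs_cj_mem_Yg o hQ.1 hQ.2 t q hq

omit [DecidableEq ι] in
theorem Lg_cj_mem_Ag : ∀ z ∈ S.Lg o, ∀ y ∈ S.Ag o, cj z y ∈ S.Ag o := by
  intro z hz y hy
  rw [S.Ag_eq_Yg_ng o] at hy ⊢
  rw [← S.Lg_ng o] at hz
  exact S.Lg_cj_mem_Yg (ng o) z hz y hy

end N

end SysB

end Cfsg.Agent.Lib.Lead.STB
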