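import Mathlib
import Cfsg.Agent.Lib.Lead.STB.Defs
import Cfsg.Agent.Lib.Lead.STB.Defs2
import Cfsg.Agent.Lib.Lead.STB.Defs3
import Cfsg.Agent.Lib.Lead.STB.Defs4
import Cfsg.Agent.Lib.Lead.STB.Sub
import Cfsg.Agent.Lib.Helper24.STCI1
import Cfsg.Agent.Lib.Helper20.STBR0
import Cfsg.Agent.Lib.Helper9.STBR7

/-!
# Project STB (designer lead), row R5 (helper9), verbatim: `SysB.Rep.M_w_fst SysB.Rep.M_h_fst`
(extras prefixed `stbr5_`: the long Weyl matrix on the basis vectors `e_a`, `e_b`)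
-/

set_option autoImplicit false

namespace Cfsg.Agent.Lib.Lead.STB

open Matrix Cfsg.Agent.Lib.helper15.St2 Cfsg.Agent.Lib.helper3.STC Cfsg.Agent.Lib.Lead.STD

universe v w

section W
variable {l : Type*} [Fintype l] [DecidableEq l] {K : Type*} [Field K]

/-- `TbL a b t` fixes the basis vectors other than `e_b`, `e_{-a}` -/
theorem stbr5_TbL_evb_of_ne (a b : l ⊕ l) (t : K) {c : Ix l} (hc : c ≠ Sum.inr b) (hc' : c ≠ Sum.inr (ng a)) :
    TbL a b t *ᵥ (evb c : Ix l → K) = evb c := by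
  rw [TbL_mulVec]
  have h1 : (evb c : Ix l → K) (Sum.inr b) = 0 := by
    unfold evb
    rw [Pi.single_apply, if_neg hc.symm]
  have h2 : (evb c : Ix l → K) (Sum.inr (ng a)) = 0 := by
    unfold evb
    rw [Pi.single_apply, if_neg hc'.symm]
  rw [h1, h2, mul_zero, Pi.single_zero, Pi.single_zero, add_zero, sub_zero]

/-- `TbL a b t e_b = e_b + t e_a` -/
theorem stbr5_TbL_evb_snd {a b : l ⊕ l} (hab' : a ≠ ng b) (t : K) :
    TbL a b t *ᵥ (evb (Sum.inr b) : Ix l → K) = evb (Sum.inr b) + t • evb (Sum.inr a) := by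
  rw [TbL_mulVec]
  have h1 : (evb (Sum.inr b) : Ix l → K) (Sum.inr b) = 1 := by
    unfold evb
    rw [Pi.single_apply, if_pos rfl]
  have h2 : (evb (Sum.inr b) : Ix l → K) (Sum.inr (ng a)) = 0 := by
    unfold evb
    rw [Pi.single_apply, if_neg]
    intro h
    apply hab'
    have := Sum.inr.inj h
    rw [← this, ng_ng]
  rw [h1, h2, mul_zero, Pi.single_zero, sub_zero, mul_one]
  congr 1
  unfold evb
  ext m
  simp only [Pi.smul_apply, Pi.single_apply, smul_eq_mul]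
  split_ifs <;> simp

/-- the long Weyl matrix on `e_a` -/
theorem stbr5_W_a {a b : l ⊕ l} (hab : a ≠ b) (hab' : a ≠ ng b) (u : K) (hu : u ≠ 0) :
    (TbL a b u * TbL b a (-u⁻¹) * TbL a b u) *ᵥ (evb (Sum.inr a) : Ix l → K) = (-u⁻¹) • evb (Sum.inr b) := by
  have hba' : b ≠ ng a := fun h => hab' (by rw [h, ng_ng])
  rw [← Matrix.mulVec_mulVec, ← Matrix.mulVec_mulVec,
    stbr5_TbL_evb_of_ne a b u (fun h => hab (Sum.inr.inj h)) (fun h => ne_ng a (Sum.inr.inj h)),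
    stbr5_TbL_evb_snd hba', Matrix.mulVec_add, Matrix.mulVec_smul,
    stbr5_TbL_evb_of_ne a b u (fun h => hab (Sum.inr.inj h)) (fun h => ne_ng a (Sum.inr.inj h)),
    stbr5_TbL_evb_snd hab', smul_add, smul_smul, neg_mul, inv_mul_cancel₀ hu]
  module

/-- the long Weyl matrix on `e_b` -/
theorem stbr5_W_b {a b : l ⊕ l} (hab : a ≠ b) (hab' : a ≠ ng b) (u : K) (hu : u ≠ 0) :
    (TbL a b u * TbL b a (-u⁻¹) * TbL a b u) *ᵥ (evb (Sum.inr b) : Ix l → K) = u • evb (Sum.inr a) := by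
  have hba' : b ≠ ng a := fun h => hab' (by rw [h, ng_ng])
  rw [← Matrix.mulVec_mulVec, ← Matrix.mulVec_mulVec, stbr5_TbL_evb_snd hab', Matrix.mulVec_add, Matrix.mulVec_smul,
    stbr5_TbL_evb_of_ne b a (-u⁻¹) (fun h => hab (Sum.inr.inj h).symm) (fun h => ne_ng b (Sum.inr.inj h)),
    stbr5_TbL_evb_snd hba', smul_add, smul_smul, mul_neg, mul_inv_cancel₀ hu]
  have e : (evb (Sum.inr b) : Ix l → K) + (u • evb (Sum.inr a) + (-1 : K) • evb (Sum.inr b)) = u • evb (Sum.inr a) := by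
    module
  rw [e, Matrix.mulVec_smul,
    stbr5_TbL_evb_of_ne a b u (fun h => hab (Sum.inr.inj h)) (fun h => ne_ng a (Sum.inr.inj h))]

end W

namespace SysB

namespace Rep

variable {K : Type*} [Field K] {ι : Type*} {G : Type*} [Group G] {S : SysB K ι G} {l : Type*} [Fintype l] [DecidableEq l] (R : S.Rep l)

/-- the matrix of the long Weyl element -/
theorem stbr5_M_w {a b : ι ⊕ ι} (hab : a ≠ b) (hab' : a ≠ ng b) (u : K) :
    R.M (S.w a b u) = TbL (Em R.e a) (Em R.e b) u * TbL (Em R.e b) (Em R.e a) (-u⁻¹) * TbL (Em R.e a) (Em R.e b) u := by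
  have hba' : b ≠ ng a := fun h => hab' (by rw [h, ng_ng])
  show R.M (S.x a b u * S.x b a (-u⁻¹) * S.x a b u) = _
  rw [stbr7_M_mul, stbr7_M_mul, stbr7_M_x R hab hab', stbr7_M_x R hab.symm hba']

/-- R5 [S-M] -/
theorem M_w_fst {a b : ι ⊕ ι} (hab : a ≠ b) (hab' : a ≠ ng b) (u : K) (hu : u ≠ 0) :
    R.M (S.w a b u) *ᵥ evb (Eb R.e a) = (-u⁻¹) • evb (Eb R.e b) := by
  rw [stbr5_M_w R hab hab']
  refine stbr5_W_a (fun h => hab (stbr7_Em_injective R.e h)) ?_ u hu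
  rw [← stbr7_Em_ng]
  exact fun h => hab' (stbr7_Em_injective R.e h)

/-- the column `e_b` of the long Weyl element -/
theorem stbr5_M_w_snd {a b : ι ⊕ ι} (hab : a ≠ b) (hab' : a ≠ ng b) (u : K) (hu : u ≠ 0) :
    R.M (S.w a b u) *ᵥ evb (Eb R.e b) = u • evb (Eb R.e a) := by
  rw [stbr5_M_w R hab hab']
  refine stbr5_W_b (fun h => hab (stbr7_Em_injective R.e h)) ?_ u hu
  rw [← stbr7_Em_ng]
  exact fun h => hab' (stbr7_Em_injective R.e h)

theorem M_h_fst {a b : ι ⊕ ι} (hab : a ≠ b) (hab' : a ≠ ng b) (u : K) (hu : u ≠ 0) :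
    R.M (S.h a b u) *ᵥ evb (Eb R.e a) = u • evb (Eb R.e a) := by
  show R.M (S.w a b u * S.w a b (-1)) *ᵥ evb (Eb R.e a) = u • evb (Eb R.e a)
  rw [stbr7_M_mul, ← Matrix.mulVec_mulVec, M_w_fst R hab hab' (-1) (neg_ne_zero.2 one_ne_zero), inv_neg, inv_one, neg_neg, one_smul,
    stbr5_M_w_snd R hab hab' u hu]

end Rep

end SysB

end Cfsg.Agent.Lib.Lead.STB
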