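import Mathlib
import Cfsg.Agent.Lib.Lead.STB.Defs
import Cfsg.Agent.Lib.Lead.STB.Defs3
import Cfsg.Agent.Lib.Helper24.STDF3

/-!
# Project STB (designer lead), row F8 (helper9), verbatim: `IsMon_move IsMon_move_s`
-/

set_option autoImplicit false

namespace Cfsg.Agent.Lib.Lead.STB

open Cfsg.Agent.Lib.helper15.St2 Cfsg.Agent.Lib.helper3.STC Cfsg.Agent.Lib.Lead.STD

universe v w

namespace SysB

variable {K : Type*} [Field K] {ι : Type*} [DecidableEq ι] {G : Type*} [Group G] (S : SysB K ι G)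

section F
variable (o : ι ⊕ ι)

omit [DecidableEq ι] in
/-- F8 [S]  moving a root element across a monomial element (model STD F8 `Helper11.STDF8`). -/
theorem IsMon_move {g : G} {σ : Equiv.Perm (ι ⊕ ι)} {d : ι ⊕ ι → K} {d0 : K} (hg : S.IsMon g σ d d0) {a b : ι ⊕ ι} (hab : a ≠ b) (t : K) :
    ∃ s : K, S.x a b t * g = g * S.x (σ⁻¹ a) (σ⁻¹ b) s :=
  S.toSysD.IsMon_move hg.1 hab t

omit [DecidableEq ι] in
theorem IsMon_move_s {g : G} {σ : Equiv.Perm (ι ⊕ ι)} {d : ι ⊕ ι → K} {d0 : K} (hg : S.IsMon g σ d d0) (a : ι ⊕ ι) (t : K) :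
    ∃ s : K, S.xs a t * g = g * S.xs (σ⁻¹ a) s := by
  obtain ⟨⟨hd, _⟩, _, _, hd0, hcj⟩ := hg
  have hd0' : d0 ≠ 0 := by
    intro h
    rw [h, mul_zero] at hd0
    exact zero_ne_one hd0
  have ha := hd (σ⁻¹ a)
  refine ⟨(d (σ⁻¹ a) * d0)⁻¹ * t, ?_⟩
  have h1 := hcj (σ⁻¹ a) ((d (σ⁻¹ a) * d0)⁻¹ * t)
  have h2 : d (σ⁻¹ a) * d0 * ((d (σ⁻¹ a) * d0)⁻¹ * t) = t := by
    rw [← mul_assoc, mul_inv_cancel₀ (mul_ne_zero ha hd0'), one_mul]
  have e1 : σ (σ⁻¹ a) = a := by simp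
  rw [h2, e1] at h1
  rw [← h1]
  unfold cj
  group

end F

end SysB

end Cfsg.Agent.Lib.Lead.STB
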