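import Mathlib
import Cfsg.Agent.Lib.helper17.STM.Defs
import Cfsg.Agent.Lib.helper17.STM.Defs2
import Cfsg.Agent.Lib.Helper24.STCI1
import Cfsg.Agent.Lib.helper4.STMX1
import Cfsg.Agent.Lib.Helper9.STMN2

/-!
# Project STM (designer helper17), row N2p (helper9), verbatim: `Lg_cj_mem_Yg Lg_cj_mem_Ag` (port of `Helper9.STBN2p`).
Own-name copies of N1c: `stmn2p_Ag_eq_Yg_ng`, `stmn2p_Lg_ng` (the verbatim N1c row belongs to helper20).
-/

set_option autoImplicit false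

namespace Cfsg.Agent.Lib.helper17.STM

open Cfsg.Agent.Lib.helper15.St2 Cfsg.Agent.Lib.helper3.STC Cfsg.Agent.Lib.Lead.STD

universe v w

namespace SysM

variable {F : Type*} [Field F] {A B : F} [Fact (∀ r : F, r ^ 2 ≠ -B + A * r)] {ι : Type*} [DecidableEq ι] {G : Type*} [Group G] (S : SysM F A B ι G)

section N
variable (o : ι ⊕ ι)

omit [DecidableEq ι] in
/-- own-name copy of N1c `Ag_eq_Yg_ng` -/
theorem stmn2p_Ag_eq_Yg_ng : S.Ag o = S.Yg (ng o) := by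
  apply le_antisymm
  · apply S.XQ_le
    · intro a b t _ _ ha
      exact S.x_mem_XQ' (Q := fun _ b => b = ng o) (Qs := fun a => a = ng (ng o)) (by rw [ha]) t
    · intro a t ha
      exact S.xs_mem_XQ (Q := fun _ b => b = ng o) (Qs := fun a => a = ng (ng o)) (by rw [ha, ng_ng]) t
  · apply S.XQ_le
    · intro a b t _ _ hb
      exact S.x_mem_XQ' (Q := fun a _ => a = o) (Qs := fun a => a = o) (by rw [hb, ng_ng]) t
    · intro a t ha
      exact S.xs_mem_XQ (Q := fun a _ => a = o) (Qs := fun a => a = o) (by rw [ha, ng_ng]) t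

omit [DecidableEq ι] in
/-- own-name copy of N1c `Lg_ng` -/
theorem stmn2p_Lg_ng : S.Lg (ng o) = S.Lg o := by
  apply le_antisymm
  · apply S.XQ_mono
    · intro a b _ _ h
      rw [ng_ng] at h
      exact ⟨⟨h.1.2, h.1.1⟩, ⟨h.2.2, h.2.1⟩⟩
    · intro a h
      rw [ng_ng] at h
      exact ⟨h.2, h.1⟩
  · apply S.XQ_mono
    · intro a b _ _ h
      rw [ng_ng]
      exact ⟨⟨h.1.2, h.1.1⟩, ⟨h.2.2, h.2.1⟩⟩
    · intro a h
      rw [ng_ng]
      exact ⟨h.2, h.1⟩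

omit [DecidableEq ι] in
/-- N2p [S-M] -/
theorem Lg_cj_mem_Yg : ∀ z ∈ S.Lg o, ∀ y ∈ S.Yg o, cj z y ∈ S.Yg o := by
  apply S.XQ_cj_mem
  · intro a b t _ _ hQ q hq
    exact S.x_cj_mem_Yg o hQ.1.1 hQ.1.2 hQ.2.1 hQ.2.2 t q hq
  · intro a t hQ q hq
    exact S.xs_cj_mem_Yg o hQ.1 hQ.2 t q hq

omit [DecidableEq ι] in
theorem Lg_cj_mem_Ag : ∀ z ∈ S.Lg o, ∀ y ∈ S.Ag o, cj z y ∈ S.Ag o := by
  intro z hz y hy
  rw [S.stmn2p_Ag_eq_Yg_ng o] at hy ⊢
  rw [← S.stmn2p_Lg_ng o] at hz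
  exact S.Lg_cj_mem_Yg (ng o) z hz y hy

end N

end SysM

end Cfsg.Agent.Lib.helper17.STM
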