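import Mathlib
import Cfsg.Agent.Lib.helper17.STM.Defs
import Cfsg.Agent.Lib.helper17.STM.Defs2
import Cfsg.Agent.Lib.helper4.STMX1
import Cfsg.Agent.Lib.Helper24.STCI1

/-!
# Project STM (designer helper17), row N3 (helper9), verbatim: `IsMon.cj_mem_Yg IsMon.cj_mem_Ag IsMon.cj_mem_Lg` (port of `Helper9.STBN3`)
-/

set_option autoImplicit false

namespace Cfsg.Agent.Lib.helper17.STM

open Cfsg.Agent.Lib.helper15.St2 Cfsg.Agent.Lib.helper3.STC Cfsg.Agent.Lib.Lead.STD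

universe v w

namespace SysM

variable {F : Type*} [Field F] {A B : F} [Fact (∀ r : F, r ^ 2 ≠ -B + A * r)] {ι : Type*} [DecidableEq ι] {G : Type*} [Group G] (S : SysM F A B ι G)

section N
variable (o : ι ⊕ ι)

omit [DecidableEq ι] in
/-- N3 [S] -/
theorem IsMon.cj_mem_Yg {g : G} {σ : Equiv.Perm (ι ⊕ ι)} {d : ι ⊕ ι → F} {c0 : Kq F A B} {ε : Bool} (hg : S.IsMon g σ d c0 ε) (hσ : σ o = o) :
    ∀ y ∈ S.Yg o, cj g y ∈ S.Yg o := by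
  apply SysM.IsMon.cj_mem_XQ S hg
  · intro k l _ _ hl
    rw [hl, hσ]
  · intro k hk
    rw [hk, hg.2.1 o, hσ]

omit [DecidableEq ι] in
theorem IsMon.cj_mem_Ag {g : G} {σ : Equiv.Perm (ι ⊕ ι)} {d : ι ⊕ ι → F} {c0 : Kq F A B} {ε : Bool} (hg : S.IsMon g σ d c0 ε) (hσ : σ o = o) :
    ∀ y ∈ S.Ag o, cj g y ∈ S.Ag o := by
  apply SysM.IsMon.cj_mem_XQ S hg
  · intro k l _ _ hk
    rw [hk, hσ]
  · intro k hk
    rw [hk, hσ]

omit [DecidableEq ι] in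
theorem IsMon.cj_mem_Lg {g : G} {σ : Equiv.Perm (ι ⊕ ι)} {d : ι ⊕ ι → F} {c0 : Kq F A B} {ε : Bool} (hg : S.IsMon g σ d c0 ε) (hσ : σ o = o) :
    ∀ y ∈ S.Lg o, cj g y ∈ S.Lg o := by
  have h1 : ∀ k : ι ⊕ ι, k ≠ o → σ k ≠ o := by
    intro k hk h
    apply hk
    apply σ.injective
    rw [h, hσ]
  have h2 : ∀ k : ι ⊕ ι, k ≠ ng o → σ k ≠ ng o := by
    intro k hk h
    apply hk
    apply σ.injective
    rw [h, hg.2.1 o, hσ]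
  apply SysM.IsMon.cj_mem_XQ S hg
  · intro k l _ _ hkl
    exact ⟨⟨h1 k hkl.1.1, h2 k hkl.1.2⟩, ⟨h1 l hkl.2.1, h2 l hkl.2.2⟩⟩
  · intro k hk
    exact ⟨h1 k hk.1, h2 k hk.2⟩

end N

end SysM

end Cfsg.Agent.Lib.helper17.STM
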