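import Mathlib
import Cfsg.Agent.Lib.helper17.STM.Defs
import Cfsg.Agent.Lib.helper17.STM.Defs2
import Cfsg.Agent.Lib.Helper24.STDF3

/-!
# Project STM (designer helper17), row F8 (helper9), verbatim: `IsMon_move IsMon_move_s` (port of `Helper9.STBF8`)
-/

set_option autoImplicit false

namespace Cfsg.Agent.Lib.helper17.STM

open Cfsg.Agent.Lib.helper15.St2 Cfsg.Agent.Lib.helper3.STC Cfsg.Agent.Lib.Lead.STD

universe v w

namespace SysM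

variable {F : Type*} [Field F] {A B : F} [Fact (∀ r : F, r ^ 2 ≠ -B + A * r)] {ι : Type*} [DecidableEq ι] {G : Type*} [Group G] (S : SysM F A B ι G)

section F
variable (o : ι ⊕ ι)

omit [DecidableEq ι] in
/-- F8 [S]  moving a root element across a monomial element (model STD F8 `Helper11.STDF8`). -/
theorem IsMon_move {g : G} {σ : Equiv.Perm (ι ⊕ ι)} {d : ι ⊕ ι → F} {c0 : Kq F A B} {ε : Bool} (hg : S.IsMon g σ d c0 ε) {a b : ι ⊕ ι} (hab : a ≠ b) (t : F) :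
    ∃ s : F, S.x a b t * g = g * S.x (σ⁻¹ a) (σ⁻¹ b) s :=
  S.toSysD.IsMon_move hg.1 hab t

omit [DecidableEq ι] in
theorem IsMon_move_s {g : G} {σ : Equiv.Perm (ι ⊕ ι)} {d : ι ⊕ ι → F} {c0 : Kq F A B} {ε : Bool} (hg : S.IsMon g σ d c0 ε) (a : ι ⊕ ι) (t : Kq F A B) :
    ∃ s : Kq F A B, S.xs a t * g = g * S.xs (σ⁻¹ a) s := by
  obtain ⟨⟨hd, _⟩, _, _, hc0, hcj⟩ := hg
  have hc0' : c0 ≠ 0 := by
    intro h
    rw [h] at hc0
    have : nm (0 : Kq F A B) = 0 := nm_eq_zero.2 rfl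
    rw [this] at hc0
    exact zero_ne_one hc0
  have ha := hd (σ⁻¹ a)
  refine ⟨tw ε (c0⁻¹ * ((d (σ⁻¹ a))⁻¹ • t)), ?_⟩
  have h1 := hcj (σ⁻¹ a) (tw ε (c0⁻¹ * ((d (σ⁻¹ a))⁻¹ • t)))
  have h2 : d (σ⁻¹ a) • (c0 * tw ε (tw ε (c0⁻¹ * ((d (σ⁻¹ a))⁻¹ • t)))) = t := by
    rw [tw_tw, Bool.xor_self, tw_false, ← mul_assoc, mul_inv_cancel₀ hc0', one_mul, smul_smul, mul_inv_cancel₀ ha, one_smul]
  have e1 : σ (σ⁻¹ a) = a := by simp
  rw [h2, e1] at h1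
  rw [← h1]
  unfold cj
  group

end F

end SysM

end Cfsg.Agent.Lib.helper17.STM
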