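import Cfsg.Agent.Lib.Helper19.SW.Defs

set_option autoImplicit false

namespace Cfsg.Agent.Lib.Helper19.SW

variable {G : Type*} [Group G] {Ω : Type*} [MulAction G Ω] {R : Ω → Ω → Prop} {a b : Ω}

/-! ## Piece B1 : the orbital digraph -/
section B1

theorem R_smul_iff (S : SimsSetting G R a b) (g : G) (u w : Ω) : R (g • u) (g • w) ↔ R u w := by
  rw [S.arc_iff, S.arc_iff]
  constructor
  · rintro ⟨h, h1, h2⟩
    refine ⟨g⁻¹ * h, ?_, ?_⟩
    · rw [mul_smul, h1, inv_smul_smul]
    · rw [mul_smul, h2, inv_smul_smul]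
  · rintro ⟨h, h1, h2⟩
    refine ⟨g * h, ?_, ?_⟩
    · rw [mul_smul, h1]
    · rw [mul_smul, h2]

theorem R_base (S : SimsSetting G R a b) : R a b :=
  (S.arc_iff a b).mpr ⟨1, one_smul _ _, one_smul _ _⟩

theorem arc_trans (S : SimsSetting G R a b) {u w u' w' : Ω} (h : R u w) (h' : R u' w') :
    ∃ g : G, g • u = u' ∧ g • w = w' := by
  obtain ⟨g1, h1, h2⟩ := (S.arc_iff u w).mp h
  obtain ⟨g2, h3, h4⟩ := (S.arc_iff u' w').mp h'
  refine ⟨g2 * g1⁻¹, ?_, ?_⟩
  · rw [mul_smul, ← h1, inv_smul_smul, h3]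
  · rw [mul_smul, ← h2, inv_smul_smul, h4]

theorem pt_trans (S : SimsSetting G R a b) (u u' : Ω) : ∃ g : G, g • u = u' := by
  obtain ⟨g1, h1⟩ := S.trans u
  obtain ⟨g2, h2⟩ := S.trans u'
  exact ⟨g2 * g1⁻¹, by rw [mul_smul, ← h1, inv_smul_smul, h2]⟩

theorem R_irrefl (S : SimsSetting G R a b) (u : Ω) : ¬ R u u := by
  intro h
  obtain ⟨g, h1, h2⟩ := (S.arc_iff u u).mp h
  exact S.ne (MulAction.injective g (h1.trans h2.symm))

theorem h9_out_image (S : SimsSetting G R a b) (g : G) (u : Ω) :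
    {w | R (g • u) w} = (fun x => g • x) '' {w | R u w} := by
  ext w
  simp only [Set.mem_ofPred_eq, Set.mem_image]
  constructor
  · intro h
    refine ⟨g⁻¹ • w, ?_, smul_inv_smul _ _⟩
    rw [← R_smul_iff S g, smul_inv_smul]
    exact h
  · rintro ⟨x, hx, rfl⟩
    exact (R_smul_iff S g _ _).mpr hx

theorem h9_in_image (S : SimsSetting G R a b) (g : G) (w : Ω) :
    {u | R u (g • w)} = (fun x => g • x) '' {u | R u w} := by
  ext u
  simp only [Set.mem_ofPred_eq, Set.mem_image]
  constructor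
  · intro h
    refine ⟨g⁻¹ • u, ?_, smul_inv_smul _ _⟩
    rw [← R_smul_iff S g, smul_inv_smul]
    exact h
  · rintro ⟨x, hx, rfl⟩
    exact (R_smul_iff S g _ _).mpr hx

theorem out3_all (S : SimsSetting G R a b) (u : Ω) : {w | R u w}.ncard = 3 := by
  obtain ⟨g, rfl⟩ := S.trans u
  rw [h9_out_image S, Set.ncard_image_of_injective _ (MulAction.injective g)]
  exact S.out3

theorem in3_all (S : SimsSetting G R a b) (w : Ω) : {u | R u w}.ncard = 3 := by
  obtain ⟨g, rfl⟩ := pt_trans S b w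
  rw [h9_in_image S, Set.ncard_image_of_injective _ (MulAction.injective g)]
  exact S.in3

theorem out_trans (S : SimsSetting G R a b) {u w w' : Ω} (h : R u w) (h' : R u w') :
    ∃ g ∈ MulAction.stabilizer G u, g • w = w' := by
  obtain ⟨g, h1, h2⟩ := arc_trans S h h'
  exact ⟨g, h1, h2⟩

theorem in_trans (S : SimsSetting G R a b) {u u' w : Ω} (h : R u w) (h' : R u' w) :
    ∃ g ∈ MulAction.stabilizer G w, g • u = u' := by
  obtain ⟨g, h1, h2⟩ := arc_trans S h h'
  exact ⟨g, h2, h1⟩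

/-- transport of stabilisers -/
theorem h9_mem_stab_smul (g x : G) (u : Ω) :
    x ∈ MulAction.stabilizer G (g • u) ↔ g⁻¹ * x * g ∈ MulAction.stabilizer G u := by
  simp only [MulAction.mem_stabilizer_iff, mul_smul]
  constructor
  · intro h
    rw [h, inv_smul_smul]
  · intro h
    have := congrArg (fun y => g • y) h
    simpa using this

theorem h9_mem_Ts_smul (g x : G) (u w : Ω) :
    x ∈ Ts G (g • u) (g • w) ↔ g⁻¹ * x * g ∈ Ts G u w := by
  unfold Ts
  rw [Subgroup.mem_inf, Subgroup.mem_inf, h9_mem_stab_smul, h9_mem_stab_smul]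

theorem h9_Ts_comm (u w : Ω) : Ts G u w = Ts G w u := by
  unfold Ts
  exact inf_comm _ _

theorem two_all (S : SimsSetting G R a b) {u w : Ω} (h : R u w) : IsPGroup 2 (Ts G u w) := by
  obtain ⟨g, rfl, rfl⟩ := (S.arc_iff u w).mp h
  intro x
  have hx : g⁻¹ * (x : G) * g ∈ Ts G a b := (h9_mem_Ts_smul g x a b).mp x.2
  obtain ⟨k, hk⟩ := S.two ⟨_, hx⟩
  refine ⟨k, ?_⟩
  have hk' : (g⁻¹ * (x : G) * g) ^ 2 ^ k = 1 := by
    have := congrArg Subtype.val hk
    simpa using this
  apply Subtype.ext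
  have : (g⁻¹ * (x : G) * g) ^ 2 ^ k = g⁻¹ * (x : G) ^ 2 ^ k * g := by
    rw [show g⁻¹ * (x : G) * g = g⁻¹ * (x : G) * g⁻¹⁻¹ by rw [inv_inv], conj_pow, inv_inv]
  rw [this] at hk'
  have h2 : (x : G) ^ 2 ^ k = 1 := by
    have := congrArg (fun y => g * y * g⁻¹) hk'
    simpa [mul_assoc] using this
  simpa using h2

theorem h9_stab_conj_le (S : SimsSetting G R a b) (u : Ω) (N : Subgroup G) (hN : N.Normal)
    (hle : N ≤ MulAction.stabilizer G u) (w : Ω) : N ≤ MulAction.stabilizer G w := by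
  obtain ⟨g, rfl⟩ := pt_trans S u w
  intro x hx
  rw [h9_mem_stab_smul]
  apply hle
  have := hN.conj_mem x hx g⁻¹
  simpa using this

theorem corefree_all (S : SimsSetting G R a b) (u : Ω) (N : Subgroup G) (hN : N.Normal)
    (hle : N ≤ MulAction.stabilizer G u) : N = ⊥ :=
  S.corefree N hN (h9_stab_conj_le S u N hN hle a)

theorem h9_maximal_all (S : SimsSetting G R a b) (u : Ω) (H : Subgroup G)
    (hH : MulAction.stabilizer G u < H) : H = ⊤ := by
  obtain ⟨g, rfl⟩ := S.trans u
  -- conjugate H back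
  let H' : Subgroup G := H.comap (MulAut.conj g).toMonoidHom
  have hmem : ∀ x, x ∈ H' ↔ g * x * g⁻¹ ∈ H := fun x => by
    show (MulAut.conj g).toMonoidHom x ∈ H ↔ _
    simp [MulAut.conj_apply]
  have hlt : MulAction.stabilizer G a < H' := by
    constructor
    · intro x hx
      rw [hmem]
      apply hH.le
      rw [h9_mem_stab_smul]
      simpa [mul_assoc] using hx
    · intro hle
      apply hH.not_ge
      intro x hx
      rw [h9_mem_stab_smul]
      apply hle
      rw [hmem]
      simpa [mul_assoc] using hx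
  have htop := S.maximal H' hlt
  rw [eq_top_iff]
  intro x _
  have : g⁻¹ * x * g ∈ H' := by rw [htop]; trivial
  rw [hmem] at this
  simpa [mul_assoc] using this

theorem h9_stab_ne_bot (S : SimsSetting G R a b) (u : Ω) : MulAction.stabilizer G u ≠ ⊥ := by
  intro hbot
  obtain ⟨t, ht, w', _, hne⟩ := S.s3
  obtain ⟨g, rfl⟩ := pt_trans S u a
  have h1 : t ∈ MulAction.stabilizer G (g • u) := ht.1
  rw [h9_mem_stab_smul, hbot, Subgroup.mem_bot] at h1
  have h2 : t = 1 := by
    have := congrArg (fun y => g * y * g⁻¹) h1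
    simpa [mul_assoc] using this
  apply hne
  rw [h2, one_smul]

theorem Gs_injective (S : SimsSetting G R a b) {u w : Ω}
    (h : MulAction.stabilizer G u = MulAction.stabilizer G w) : u = w := by
  by_contra hne
  obtain ⟨g, hg⟩ := pt_trans S u w
  have hgn : g ∈ Subgroup.normalizer (MulAction.stabilizer G u : Set G) := by
    rw [Subgroup.mem_normalizer_iff]
    intro x
    have h1 : g * x * g⁻¹ ∈ MulAction.stabilizer G (g • u) ↔ x ∈ MulAction.stabilizer G u := by
      rw [h9_mem_stab_smul]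
      simp [mul_assoc]
    rw [hg, ← h] at h1
    exact h1.symm
  have hgu : g ∉ MulAction.stabilizer G u := by
    intro hmem
    apply hne
    rw [← hg]
    exact (MulAction.mem_stabilizer_iff.mp hmem).symm
  have hlt : MulAction.stabilizer G u < Subgroup.normalizer (MulAction.stabilizer G u : Set G) :=
    lt_of_le_of_ne Subgroup.le_normalizer (fun heq => hgu (heq ▸ hgn))
  have htop := h9_maximal_all S u _ hlt
  have hN : (MulAction.stabilizer G u).Normal := Subgroup.normalizer_eq_top_iff.mp htop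
  exact h9_stab_ne_bot S u (corefree_all S u _ hN le_rfl)

theorem Gs_sup_eq_top (S : SimsSetting G R a b) {u w : Ω} (hne : u ≠ w) :
    MulAction.stabilizer G u ⊔ MulAction.stabilizer G w = ⊤ := by
  by_cases hlt : MulAction.stabilizer G u < MulAction.stabilizer G u ⊔ MulAction.stabilizer G w
  · exact h9_maximal_all S u _ hlt
  · have heq : MulAction.stabilizer G u ⊔ MulAction.stabilizer G w = MulAction.stabilizer G u := by
      by_contra hh
      exact hlt (lt_of_le_of_ne le_sup_left (Ne.symm hh))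
    have hle : MulAction.stabilizer G w ≤ MulAction.stabilizer G u := by
      rw [← heq]; exact le_sup_right
    by_cases hlt2 : MulAction.stabilizer G w < MulAction.stabilizer G u
    · have htop := h9_maximal_all S w _ hlt2
      rw [htop] at heq ⊢
      simp
    · have heq2 : MulAction.stabilizer G w = MulAction.stabilizer G u := by
        by_contra hh
        exact hlt2 (lt_of_le_of_ne hle hh)
      exact absurd (Gs_injective S heq2).symm hne

theorem h9_stab_subgroupOf (K : Subgroup G) (w : Ω) :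
    (MulAction.stabilizer G w).subgroupOf K = MulAction.stabilizer K w := by
  ext x
  rw [Subgroup.mem_subgroupOf, MulAction.mem_stabilizer_iff, MulAction.mem_stabilizer_iff]
  rfl

theorem h9_out_index (S : SimsSetting G R a b) {u w : Ω} (h : R u w) :
    (Ts G u w).relIndex (MulAction.stabilizer G u) = 3 := by
  unfold Ts
  rw [Subgroup.inf_relIndex_left, Subgroup.relIndex, h9_stab_subgroupOf, MulAction.index_stabilizer]
  rw [← out3_all S u]
  congr 1
  ext w'
  simp only [Set.mem_ofPred_eq]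
  constructor
  · rintro ⟨g, rfl⟩
    have hg : (g : G) • u = u := g.2
    have := (R_smul_iff S (g : G) u w).mpr h
    rw [hg] at this
    exact this
  · intro h'
    obtain ⟨g, hg, hgw⟩ := out_trans S h h'
    exact ⟨⟨g, hg⟩, hgw⟩

theorem h9_in_index (S : SimsSetting G R a b) {u w : Ω} (h : R u w) :
    (Ts G u w).relIndex (MulAction.stabilizer G w) = 3 := by
  unfold Ts
  rw [Subgroup.inf_relIndex_right, Subgroup.relIndex, h9_stab_subgroupOf, MulAction.index_stabilizer]
  rw [← in3_all S w]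
  congr 1
  ext u'
  simp only [Set.mem_ofPred_eq]
  constructor
  · rintro ⟨g, rfl⟩
    have hg : (g : G) • w = w := g.2
    have := (R_smul_iff S (g : G) u w).mpr h
    rw [hg] at this
    exact this
  · intro h'
    obtain ⟨g, hg, hgw⟩ := in_trans S h h'
    exact ⟨⟨g, hg⟩, hgw⟩

open scoped Pointwise in
/-- two 2-subgroups of index 3 in a finite subgroup are conjugate in it -/
theorem h9_sylow_conj (H T₁ T₂ : Subgroup G) [Finite H] (p1 : IsPGroup 2 T₁) (p2 : IsPGroup 2 T₂)
    (h1 : T₁ ≤ H) (i1 : T₁.relIndex H = 3) (i2 : T₂.relIndex H = 3) :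
    ∃ c ∈ H, ∀ x, x ∈ T₁ → c⁻¹ * x * c ∈ T₂ := by
  haveI : Fact (Nat.Prime 2) := ⟨Nat.prime_two⟩
  have q1 : IsPGroup 2 (T₁.subgroupOf H) := p1.comap_subtype
  have q2 : IsPGroup 2 (T₂.subgroupOf H) := p2.comap_subtype
  have n1 : ¬ 2 ∣ (T₁.subgroupOf H).index := by
    show ¬ 2 ∣ T₁.relIndex H
    rw [i1]; decide
  have n2 : ¬ 2 ∣ (T₂.subgroupOf H).index := by
    show ¬ 2 ∣ T₂.relIndex H
    rw [i2]; decide
  let P₁ : Sylow 2 H := q1.toSylow n1
  let P₂ : Sylow 2 H := q2.toSylow n2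
  obtain ⟨c, hc⟩ := MulAction.exists_smul_eq H P₂ P₁
  refine ⟨c, c.2, fun x hx => ?_⟩
  have hxP : (⟨x, h1 hx⟩ : H) ∈ P₁ := by
    show (⟨x, h1 hx⟩ : H) ∈ T₁.subgroupOf H
    rw [Subgroup.mem_subgroupOf]
    exact hx
  rw [← hc] at hxP
  have hxP' : (⟨x, h1 hx⟩ : H) ∈ MulAut.conj c • (P₂ : Subgroup H) := hxP
  rw [Subgroup.mem_pointwise_smul_iff_inv_smul_mem] at hxP'
  have : c⁻¹ * (⟨x, h1 hx⟩ : H) * c⁻¹⁻¹ ∈ T₂.subgroupOf H := by
    have h3 : c⁻¹ * (⟨x, h1 hx⟩ : H) * c⁻¹⁻¹ ∈ (P₂ : Subgroup H) := by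
      simpa [MulAut.smul_def] using hxP'
    exact h3
  rw [Subgroup.mem_subgroupOf] at this
  simpa using this

theorem h9_out_nonempty (S : SimsSetting G R a b) (u : Ω) : ∃ w, R u w := by
  have h := out3_all S u
  have hne : {w | R u w}.Nonempty := by
    rw [← Set.ncard_pos (Set.finite_of_ncard_ne_zero (by rw [h]; decide)), h]
    decide
  exact hne

theorem h9_in_nonempty (S : SimsSetting G R a b) (w : Ω) : ∃ u, R u w := by
  have h := in3_all S w
  have hne : {u | R u w}.Nonempty := by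
    rw [← Set.ncard_pos (Set.finite_of_ncard_ne_zero (by rw [h]; decide)), h]
    decide
  exact hne

/-- a subgroup contained in a conjugate-in-a-finite-group copy: equality from one inclusion -/
theorem h9_eq_of_conj_le (S : SimsSetting G R a b) {T₁ T₂ : Subgroup G} (c : G)
    (h : ∀ x, x ∈ T₁ → c⁻¹ * x * c ∈ T₂) (hcard : Nat.card T₁ = Nat.card T₂) :
    ∀ x, x ∈ T₁ ↔ c⁻¹ * x * c ∈ T₂ := by
  haveI := S.fin
  -- the injective map T₁ → T₂ is surjective
  let f : T₁ → T₂ := fun x => ⟨c⁻¹ * x * c, h x x.2⟩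
  have hf : Function.Injective f := by
    intro x y hxy
    have := congrArg Subtype.val hxy
    simp only [f] at this
    apply Subtype.ext
    have h2 := congrArg (fun y => c * y * c⁻¹) this
    simpa [mul_assoc] using h2
  have hbij : Function.Bijective f := by
    rw [Nat.bijective_iff_injective_and_card]
    exact ⟨hf, hcard⟩
  intro x
  refine ⟨h x, fun hx => ?_⟩
  obtain ⟨y, hy⟩ := hbij.2 ⟨_, hx⟩
  have := congrArg Subtype.val hy
  simp only [f] at this
  have h2 : (y : G) = x := by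
    have h3 := congrArg (fun z => c * z * c⁻¹) this
    simpa [mul_assoc] using h3
  rw [← h2]
  exact y.2

theorem h9_card_of_relIndex (T H : Subgroup G) (hle : T ≤ H) (hi : T.relIndex H = 3) :
    Nat.card T * 3 = Nat.card H := by
  have h1 := (T.subgroupOf H).card_mul_index
  have h2 : Nat.card (T.subgroupOf H) = Nat.card T :=
    Nat.card_congr (Subgroup.subgroupOfEquivOfLe hle).toEquiv
  rw [h2] at h1
  rw [← h1]
  congr 1
  exact hi.symm

theorem h9_Ts_le_left (u w : Ω) : Ts G u w ≤ MulAction.stabilizer G u := inf_le_left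
theorem h9_Ts_le_right (u w : Ω) : Ts G u w ≤ MulAction.stabilizer G w := inf_le_right

/-- every arc `u → w` has a successor arc `w → w'` with the same stabiliser. -/
theorem succ_exists (S : SimsSetting G R a b) {u w : Ω} (h : R u w) :
    ∃ w', R w w' ∧ Ts G w w' = Ts G u w := by
  haveI := S.fin
  obtain ⟨w₀, hw₀⟩ := h9_out_nonempty S w
  obtain ⟨c, hcH, hc⟩ := h9_sylow_conj (MulAction.stabilizer G w) (Ts G u w) (Ts G w w₀)
    (two_all S h) (two_all S hw₀) (h9_Ts_le_right u w) (h9_in_index S h) (h9_out_index S hw₀)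
  have hcard : Nat.card (Ts G u w) = Nat.card (Ts G w w₀) := by
    have e1 := h9_card_of_relIndex _ _ (h9_Ts_le_right u w) (h9_in_index S h)
    have e2 := h9_card_of_relIndex _ _ (h9_Ts_le_left w w₀) (h9_out_index S hw₀)
    omega
  have hiff := h9_eq_of_conj_le S c hc hcard
  have hcw : c • w = w := hcH
  refine ⟨c • w₀, ?_, ?_⟩
  · have := (R_smul_iff S c w w₀).mpr hw₀
    rw [hcw] at this
    exact this
  · ext x
    rw [hiff x, ← h9_mem_Ts_smul, hcw]

/-- every arc `u → w` has a predecessor arc `u' → u` with the same stabiliser. -/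
theorem pred_exists (S : SimsSetting G R a b) {u w : Ω} (h : R u w) :
    ∃ u', R u' u ∧ Ts G u' u = Ts G u w := by
  haveI := S.fin
  obtain ⟨u₀, hu₀⟩ := h9_in_nonempty S u
  obtain ⟨c, hcH, hc⟩ := h9_sylow_conj (MulAction.stabilizer G u) (Ts G u w) (Ts G u₀ u)
    (two_all S h) (two_all S hu₀) (h9_Ts_le_left u w) (h9_out_index S h) (h9_in_index S hu₀)
  have hcard : Nat.card (Ts G u w) = Nat.card (Ts G u₀ u) := by
    have e1 := h9_card_of_relIndex _ _ (h9_Ts_le_left u w) (h9_out_index S h)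
    have e2 := h9_card_of_relIndex _ _ (h9_Ts_le_right u₀ u) (h9_in_index S hu₀)
    omega
  have hiff := h9_eq_of_conj_le S c hc hcard
  have hcu : c • u = u := hcH
  refine ⟨c • u₀, ?_, ?_⟩
  · have := (R_smul_iff S c u₀ u).mpr hu₀
    rw [hcu] at this
    exact this
  · ext x
    rw [hiff x, ← h9_mem_Ts_smul, hcu]

theorem h9_s3_all (S : SimsSetting G R a b) {u w : Ω} (h : R u w) :
    ∃ t ∈ Ts G u w, ∃ w', R u w' ∧ t • w' ≠ w' := by
  obtain ⟨g, rfl, rfl⟩ := (S.arc_iff u w).mp h
  obtain ⟨t, ht, w', hw', hne⟩ := S.s3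
  refine ⟨g * t * g⁻¹, ?_, g • w', (R_smul_iff S g a w').mpr hw', ?_⟩
  · rw [h9_mem_Ts_smul]
    simpa [mul_assoc] using ht
  · intro heq
    apply hne
    have : g • t • w' = g • w' := by
      simpa [mul_smul] using heq
    exact MulAction.injective g this

/-- distinct out-neighbours give distinct arc stabilisers. -/
theorem Ts_out_injective (S : SimsSetting G R a b) {u w w' : Ω} (h : R u w) (h' : R u w')
    (hT : Ts G u w = Ts G u w') : w = w' := by
  by_contra hne
  obtain ⟨t, ht, w'', hw'', hmove⟩ := h9_s3_all S h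
  have ht' : t ∈ Ts G u w' := hT ▸ ht
  have htu : t • u = u := ht.1
  have htw : t • w = w := ht.2
  have htw' : t • w' = w' := ht'.2
  have h1 : w'' ≠ w := fun e => hmove (e ▸ htw)
  have h2 : w'' ≠ w' := fun e => hmove (e ▸ htw')
  have h3 : R u (t • w'') := by
    have := (R_smul_iff S t u w'').mpr hw''
    rwa [htu] at this
  have h4 : t • w'' ≠ w := by
    intro e
    apply h1
    have : t • w'' = t • w := by rw [e, htw]
    exact MulAction.injective t this
  have h5 : t • w'' ≠ w' := by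
    intro e
    apply h2
    have : t • w'' = t • w' := by rw [e, htw']
    exact MulAction.injective t this
  have hsub : ({w, w', w'', t • w''} : Set Ω) ⊆ {x | R u x} := by
    intro x hx
    simp only [Set.mem_insert_iff, Set.mem_singleton_iff] at hx
    rcases hx with rfl | rfl | rfl | rfl
    · exact h
    · exact h'
    · exact hw''
    · exact h3
  have hfin : {x | R u x}.Finite :=
    Set.finite_of_ncard_ne_zero (by rw [out3_all S u]; decide)
  have hle := Set.ncard_le_ncard hsub hfin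
  rw [out3_all S u] at hle
  have h4card : ({w, w', w'', t • w''} : Set Ω).ncard = 4 := by
    rw [Set.ncard_insert_of_notMem, Set.ncard_insert_of_notMem, Set.ncard_pair]
    · exact fun e => hmove e.symm
    · simp only [Set.mem_insert_iff, Set.mem_singleton_iff, not_or]
      exact ⟨h2.symm, h5.symm⟩
    · simp only [Set.mem_insert_iff, Set.mem_singleton_iff, not_or]
      exact ⟨hne, h1.symm, h4.symm⟩
  omega

theorem h9_mem_Qo (u : Ω) (x : G) :
    x ∈ Qo G R u ↔ x ∈ MulAction.stabilizer G u ∧ ∀ w, R u w → x ∈ MulAction.stabilizer G w := by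
  unfold Qo
  rw [Subgroup.mem_inf]
  simp only [Subgroup.mem_iInf, Set.mem_ofPred_eq]

theorem Qo_flip (S : SimsSetting G R a b) (u : Ω) : Qo G (flip R) u = Qo G R u := by
  ext x
  rw [h9_mem_Qo, h9_mem_Qo]
  constructor
  · rintro ⟨hu, hall⟩
    refine ⟨hu, fun w hw => ?_⟩
    obtain ⟨u', hu', hT⟩ := pred_exists S hw
    have : x ∈ Ts G u' u := ⟨hall u' hu', hu⟩
    rw [hT] at this
    exact this.2
  · rintro ⟨hu, hall⟩
    refine ⟨hu, fun w hw => ?_⟩
    have hw' : R w u := hw
    obtain ⟨w', hw'', hT⟩ := succ_exists S hw'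
    have : x ∈ Ts G u w' := ⟨hu, hall w' hw''⟩
    rw [hT] at this
    exact this.1

theorem Zp_flip (S : SimsSetting G R a b) (u : Ω) : Zp G (flip R) u = Zp G R u := by
  unfold Zp
  apply le_antisymm
  · apply iSup₂_le
    intro w hw
    have hw' : R w u := hw
    obtain ⟨w', hw'', hT⟩ := succ_exists S hw'
    rw [h9_Ts_comm u w, ← hT]
    exact le_iSup₂ (f := fun w (_ : w ∈ {w | R u w}) => OZ (Ts G u w)) w' hw''
  · apply iSup₂_le
    intro w hw
    obtain ⟨u', hu', hT⟩ := pred_exists S hw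
    rw [← hT, h9_Ts_comm u' u]
    exact le_iSup₂ (f := fun w (_ : w ∈ {w | flip R u w}) => OZ (Ts G u w)) u' hu'

theorem h9_mem_Qo_smul (S : SimsSetting G R a b) (g x : G) (u : Ω) :
    x ∈ Qo G R (g • u) ↔ g⁻¹ * x * g ∈ Qo G R u := by
  rw [h9_mem_Qo, h9_mem_Qo, h9_mem_stab_smul]
  constructor
  · rintro ⟨h1, h2⟩
    refine ⟨h1, fun w hw => ?_⟩
    rw [← h9_mem_stab_smul]
    exact h2 _ ((R_smul_iff S g u w).mpr hw)
  · rintro ⟨h1, h2⟩
    refine ⟨h1, fun w hw => ?_⟩
    have hw' : R u (g⁻¹ • w) := by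
      rw [← R_smul_iff S g, smul_inv_smul]; exact hw
    have := h2 _ hw'
    rw [← h9_mem_stab_smul, smul_inv_smul] at this
    exact this

theorem h9_selfc_all (S : SimsSetting G R a b) (u : Ω) :
    MulAction.stabilizer G u ⊓ Subgroup.centralizer (Qo G R u : Set G) ≤ Qo G R u := by
  obtain ⟨g, rfl⟩ := S.trans u
  intro x hx
  rw [Subgroup.mem_inf] at hx
  rw [h9_mem_Qo_smul S]
  apply S.selfc
  rw [Subgroup.mem_inf]
  refine ⟨(h9_mem_stab_smul g x a).mp hx.1, ?_⟩
  rw [Subgroup.mem_centralizer_iff]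
  intro q hq
  have hq' : g * q * g⁻¹ ∈ Qo G R (g • a) := by
    rw [h9_mem_Qo_smul S]
    simpa [mul_assoc] using hq
  have hc := (Subgroup.mem_centralizer_iff.mp hx.2) _ hq'
  -- hc : g q g⁻¹ * x = x * g q g⁻¹
  have := congrArg (fun y => g⁻¹ * y * g) hc
  simp only [mul_assoc] at this ⊢
  simpa [mul_assoc] using this

theorem h9_mem_OZ_Ts_smul (g z : G) (u w : Ω) :
    z ∈ OZ (Ts G (g • u) (g • w)) ↔ g⁻¹ * z * g ∈ OZ (Ts G u w) := by
  rw [mem_OZ, mem_OZ, h9_mem_Ts_smul]
  constructor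
  · rintro ⟨h1, h2, h3⟩
    refine ⟨h1, fun t ht => ?_, ?_⟩
    · have ht' : g * t * g⁻¹ ∈ Ts G (g • u) (g • w) := by
        rw [h9_mem_Ts_smul]; simpa [mul_assoc] using ht
      have := congrArg (fun y => g⁻¹ * y * g) (h2 _ ht')
      simpa [mul_assoc] using this
    · have : (g⁻¹ * z * g) ^ 2 = g⁻¹ * z ^ 2 * g := by
        rw [show g⁻¹ * z * g = g⁻¹ * z * g⁻¹⁻¹ by rw [inv_inv], conj_pow, inv_inv]
      rw [this, h3]; simp
  · rintro ⟨h1, h2, h3⟩
    refine ⟨h1, fun t ht => ?_, ?_⟩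
    · have ht' : g⁻¹ * t * g ∈ Ts G u w := (h9_mem_Ts_smul g t u w).mp ht
      have := congrArg (fun y => g * y * g⁻¹) (h2 _ ht')
      simpa [mul_assoc] using this
    · have : (g⁻¹ * z * g) ^ 2 = g⁻¹ * z ^ 2 * g := by
        rw [show g⁻¹ * z * g = g⁻¹ * z * g⁻¹⁻¹ by rw [inv_inv], conj_pow, inv_inv]
      rw [this] at h3
      have := congrArg (fun y => g * y * g⁻¹) h3
      simpa [mul_assoc] using this

theorem h9_noncentral_all (S : SimsSetting G R a b) {u w : Ω} (h : R u w) :
    ¬ MulAction.stabilizer G u ≤ Subgroup.centralizer (OZ (Ts G u w) : Set G) := by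
  obtain ⟨g, rfl, rfl⟩ := (S.arc_iff u w).mp h
  intro hle
  apply S.noncentral
  intro y hy
  rw [Subgroup.mem_centralizer_iff]
  intro z hz
  have hy' : g * y * g⁻¹ ∈ MulAction.stabilizer G (g • a) := by
    rw [h9_mem_stab_smul]; simpa [mul_assoc] using hy
  have hz' : g * z * g⁻¹ ∈ OZ (Ts G (g • a) (g • b)) := by
    rw [h9_mem_OZ_Ts_smul]; simpa [mul_assoc] using hz
  have hc := (Subgroup.mem_centralizer_iff.mp (hle hy')) _ hz'
  have := congrArg (fun y => g⁻¹ * y * g) hc
  simpa [mul_assoc] using this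

/-- the setting is symmetric under reversing all arcs. -/
theorem setting_flip (S : SimsSetting G R a b) : SimsSetting G (flip R) b a := by
  have hab := R_base S
  obtain ⟨w', hw', hT⟩ := succ_exists S hab
  refine
    { fin := S.fin
      corefree := fun N hN hle => corefree_all S b N hN hle
      maximal := fun H hH => h9_maximal_all S b H hH
      trans := fun u => pt_trans S b u
      arc_iff := fun u w => by
        show R w u ↔ _
        rw [S.arc_iff]
        constructor
        · rintro ⟨g, h1, h2⟩; exact ⟨g, h2, h1⟩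
        · rintro ⟨g, h1, h2⟩; exact ⟨g, h2, h1⟩
      ne := S.ne.symm
      out3 := in3_all S b
      in3 := out3_all S a
      two := by rw [h9_Ts_comm]; exact S.two
      s3 := ?_
      selfc := by rw [Qo_flip S]; exact h9_selfc_all S b
      noncentral := by
        rw [h9_Ts_comm, ← hT]
        exact h9_noncentral_all S hw' }
  -- s3 for the reversed digraph
  obtain ⟨t, ht, w'', hw'', hmove⟩ := h9_s3_all S hw'
  obtain ⟨a', ha', hT'⟩ := pred_exists S hw''
  have htab : t ∈ Ts G b a := by rw [h9_Ts_comm, ← hT]; exact ht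
  refine ⟨t, htab, a', ha', ?_⟩
  intro hfix
  apply hmove
  have : t ∈ Ts G a' b := ⟨hfix, ht.1⟩
  rw [hT'] at this
  exact this.2

end B1

end Cfsg.Agent.Lib.Helper19.SW
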