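import Cfsg.Agent.Lib.helper23.TD4V.Defs
import Cfsg.Agent.S1048

/-!
# TD4V row Q1 (`norm_QK`) and the core of row Q5 (`Pp_le_PK`, `Pp_le_G`)
-/

set_option autoImplicit false

namespace Cfsg.Agent.Lib.helper23.TD4V

open Cfsg.Lie Cfsg.Lie.ChevalleyDatum Matrix
open Cfsg.Agent.Lib.helper8 Cfsg.Agent.Lib.helper8.TD4
open Cfsg.Agent.Lib.helper23.P4V

universe u v

section QQ

variable {F K : Type u} [Field F] [Field K] [Fintype F] [Fintype K] (j : F →+* K) (q : ℕ)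

/-- **Q1** [S].  S1048 part 1 (`Subgroup.mem_normalizer_iff`). -/
theorem norm_QK (g : GG K) (hg : g ∈ PK K) (u : GG K) (hu : u ∈ QK K) : g * u * g⁻¹ ∈ QK K := by
  have h := (Cfsg.Agent.S1048.result (F := K) chevD4 (by simp) ({1} : Set ℕ)).1 hg
  rw [Subgroup.mem_normalizer_iff] at h
  exact (h u).mp hu

omit [Fintype K] in
/-- `QK ⊔ LK = PK` (S1048 part 2) -/
theorem td4vq1_sup : QK K ⊔ LK K = PK K :=
  (Cfsg.Agent.S1048.result (F := K) chevD4 (by simp) ({1} : Set ℕ)).2.1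

omit [Fintype K] in
/-- `QK ⊓ LK = ⊥` (S1048 part 3) -/
theorem td4vq1_inf : QK K ⊓ LK K = ⊥ :=
  (Cfsg.Agent.S1048.result (F := K) chevD4 (by simp) ({1} : Set ℕ)).2.2

omit [Fintype K] in
theorem td4vq1_QK_le_PK : QK K ≤ PK K := by
  rw [← td4vq1_sup]; exact le_sup_left

omit [Fintype K] in
theorem td4vq1_LK_le_PK : LK K ≤ PK K := by
  rw [← td4vq1_sup]; exact le_sup_right

omit [Fintype K] in
/-- `PK` normalises `QK`, other direction -/
theorem td4vq1_norm_QK' (g : GG K) (hg : g ∈ PK K) (u : GG K) (hu : u ∈ QK K) :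
    g⁻¹ * u * g ∈ QK K := by
  have h := (Cfsg.Agent.S1048.result (F := K) chevD4 (by simp) ({1} : Set ℕ)).1
    ((PK K).inv_mem hg)
  rw [Subgroup.mem_normalizer_iff] at h
  have := (h u).mp hu
  rwa [inv_inv] at this

omit [Fintype F] [Fintype K] in
/-- core of Q5, first part: from the statement of I4. -/
theorem td4vq5_core_PK
    (hI4 : ∀ (A : GL (Fin 2) F) (t : K), t ≠ 0 →
      iota j q A t ∈ twistedD4 K q ∧ iota j q A t ∈ LK K) :
    Pp j q ≤ PK K := by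
  unfold Pp
  rw [Subgroup.closure_le]
  rintro g (⟨A, t, ht, _, rfl⟩ | hg)
  · exact td4vq1_LK_le_PK (hI4 A t ht).2
  · exact td4vq1_QK_le_PK hg.1

omit [Fintype F] [Fintype K] in
/-- core of Q5, second part: from the statement of I4. -/
theorem td4vq5_core_G
    (hI4 : ∀ (A : GL (Fin 2) F) (t : K), t ≠ 0 →
      iota j q A t ∈ twistedD4 K q ∧ iota j q A t ∈ LK K) :
    Pp j q ≤ twistedD4 K q := by
  unfold Pp
  rw [Subgroup.closure_le]
  rintro g (⟨A, t, ht, _, rfl⟩ | hg)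
  · exact (hI4 A t ht).1
  · exact hg.2

end QQ

end Cfsg.Agent.Lib.helper23.TD4V
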