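import Cfsg.Agent.Lib.Helper9.TD4VM2a
import Cfsg.Agent.Lib.Helper9.TD4VQ1
import Cfsg.Agent.Lib.Helper16.TD4VM3
import Cfsg.Agent.Lib.Helper5.TD4VN2
import Cfsg.Agent.Lib.Lead.SLn

/-!
# TD4V row I4 (`iota_mem`) and row Q5 (`Pp_le_PK`, `Pp_le_G`)
-/

set_option autoImplicit false

namespace Cfsg.Agent.Lib.helper23.TD4V

open Cfsg.Lie Cfsg.Lie.ChevalleyDatum Matrix
open Cfsg.Agent.Lib.helper8 Cfsg.Agent.Lib.helper8.TD4
open Cfsg.Agent.Lib.helper23.P4V

universe u v

section I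

variable {F K : Type u} [Field F] [Field K] [Fintype F] [Fintype K] (j : F →+* K) (q : ℕ)

omit [Fintype F] [Fintype K] in
theorem td4vi4_map_U (h : (0 : Fin 2) ≠ 1) (c : F) :
    Matrix.SpecialLinearGroup.map j (Matrix.SpecialLinearGroup.transvection h c) =
      (h8slU (j c) : Matrix.SpecialLinearGroup (Fin 2) K) := by
  apply Subtype.ext
  rw [Matrix.SpecialLinearGroup.map_apply_coe, Matrix.SpecialLinearGroup.transvection_coe,
    h8slU_val]
  ext a b
  fin_cases a <;> fin_cases b <;> simp [Matrix.single, RingHom.mapMatrix_apply]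

omit [Fintype F] [Fintype K] in
theorem td4vi4_map_L (h : (1 : Fin 2) ≠ 0) (c : F) :
    Matrix.SpecialLinearGroup.map j (Matrix.SpecialLinearGroup.transvection h c) =
      (h8slL (j c) : Matrix.SpecialLinearGroup (Fin 2) K) := by
  apply Subtype.ext
  rw [Matrix.SpecialLinearGroup.map_apply_coe, Matrix.SpecialLinearGroup.transvection_coe,
    h8slL_val]
  ext a b
  fin_cases a <;> fin_cases b <;> simp [Matrix.single, RingHom.mapMatrix_apply]

/-- the image of `SL₂(F)` lies in `G ⊓ LK` -/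
theorem td4vi4_phiB_mem (hq : IsPrimePow q) (hF : Fintype.card F = q) (hK : Fintype.card K = q ^ 3)
    (S : Matrix.SpecialLinearGroup (Fin 2) F) :
    phiB (Matrix.SpecialLinearGroup.map j S) ∈ twistedD4 K q ∧
      phiB (Matrix.SpecialLinearGroup.map j S) ∈ LK K := by
  refine Cfsg.Agent.Lib.Lead.SL_transvection_induction
    (fun S => phiB (Matrix.SpecialLinearGroup.map j S) ∈ twistedD4 K q ∧
      phiB (Matrix.SpecialLinearGroup.map j S) ∈ LK K) ?_ ?_ S
  · intro i k h c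
    fin_cases i <;> fin_cases k
    · exact absurd rfl h
    · rw [td4vi4_map_U, phiB_U]
      exact Xlevi_mem q hq hK 14 (by simp) (j c) (j_pow j q hF c)
    · rw [td4vi4_map_L, phiB_L]
      exact Xlevi_mem q hq hK 9 (by simp) (j c) (j_pow j q hF c)
    · exact absurd rfl h
  · intro A B hA hB'
    rw [map_mul, map_mul]
    exact ⟨Subgroup.mul_mem _ hA.1 hB'.1, Subgroup.mul_mem _ hA.2 hB'.2⟩

/-- **I4** [M].  `phiB (map j S) ∈ G ⊓ LK` for `S ∈ SL₂(F)`: `SL_transvection_induction` over `F`, transvections go to `X 14 (j c)`,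
`X 9 (j c)` (M2 with N2 `j_pow`); `hJ t` by M3. -/
theorem iota_mem (hq : IsPrimePow q) (hF : Fintype.card F = q) (hK : Fintype.card K = q ^ 3)
    (A : GL (Fin 2) F) (t : K) (ht : t ≠ 0) :
    iota j q A t ∈ twistedD4 K q ∧ iota j q A t ∈ LK K := by
  have h1 := td4vi4_phiB_mem j q hq hF hK (sl2of A)
  have h2 := hJ_mem q hq hK t ht
  unfold iota
  exact ⟨Subgroup.mul_mem _ h1.1 h2.1, Subgroup.mul_mem _ h1.2 h2.2⟩

end I

section QQ

variable {F K : Type u} [Field F] [Field K] [Fintype F] [Fintype K] (j : F →+* K) (q : ℕ)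

/-- **Q5** [S] (both; generators: I4, `Q K q ≤ QK K ≤ PK K`). -/
theorem Pp_le_PK (hq : IsPrimePow q) (hF : Fintype.card F = q) (hK : Fintype.card K = q ^ 3) :
    Pp j q ≤ PK K :=
  td4vq5_core_PK j q (fun A t ht => iota_mem j q hq hF hK A t ht)

theorem Pp_le_G (hq : IsPrimePow q) (hF : Fintype.card F = q) (hK : Fintype.card K = q ^ 3) :
    Pp j q ≤ twistedD4 K q :=
  td4vq5_core_G j q (fun A t ht => iota_mem j q hq hF hK A t ht)

end QQ

end Cfsg.Agent.Lib.helper23.TD4V
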