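import Cfsg.Agent.Lib.Helper9.TD4VM2a
import Cfsg.Agent.Lib.helper8.TD4VU7

/-!
# TD4V row M2, part 3 (`Xlong_mem_Qm`), on helper8's U7 (`QmK_fix_mem`)
-/

set_option autoImplicit false

namespace Cfsg.Agent.Lib.helper23.TD4V

open Cfsg.Lie Cfsg.Lie.ChevalleyDatum Matrix
open Cfsg.Agent.Lib.helper8 Cfsg.Agent.Lib.helper8.TD4
open Cfsg.Agent.Lib.helper23.P4V

universe u v

section M

variable {K : Type u} [Field K] [Fintype K] (q : ℕ)

theorem Xlong_mem_Qm (hq : IsPrimePow q) (hK : Fintype.card K = q ^ 3) (r : ℕ) (hr : r ∈ [1, 0]) (c : K)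
    (hc : c ^ q = c) : X r c ∈ Qm K q :=
  td4vm2_core_Qm q (fun hA f hf g hg hfix => QmK_fix_mem q hq hK hA f hf g hg hfix) hq hK r hr c hc

end M

end Cfsg.Agent.Lib.helper23.TD4V
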