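import Mathlib
import Cfsg.Prelude.Def_ChevStructure
import Cfsg.Agent.Lib.helper8.BTT.Defs

/-!
# BTT GRP1 core: the entries of `x_s(t) - 1` (hypotheses = ROOT1 statements at this `L`, `s`)
-/

set_option autoImplicit false

namespace Cfsg.Agent.Lib.helper8.BTT

open Cfsg.Lie Cfsg.Lie.ChevalleyDatum

universe u

theorem bttgrp1_sum_ne_zero {F : Type*} [Field F] {α : Type*} (l : List α) (f : α → F)
    (h : (l.map f).sum ≠ 0) : ∃ a ∈ l, f a ≠ 0 := by
  by_contra hcon
  push Not at hcon
  apply h
  apply List.sum_eq_zero
  intro x hx
  rw [List.mem_map] at hx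
  obtain ⟨a, ha, rfl⟩ := hx
  exact hcon a ha

theorem bttgrp1_core {F : Type u} [Field F] (D : ChevalleyDatum)
    (L : Fin D.nroots → ℝ) (s : ℕ) (hs : s < D.nroots) (t : F)
    (hneg : D.neg s < D.nroots ∧ lv D L (D.neg s) = - lv D L s)
    (hchain : ∀ v u : ℕ, v < D.nroots → u < D.nroots → ∀ km : ℕ × ℤ,
      km ∈ D.chainCoeff s v u → 1 ≤ km.1 ∧ lv D L u = lv D L v + (km.1 : ℝ) * lv D L s)
    (i j : D.Idx) (hne : (D.x F s t - 1) i j ≠ 0) :
    ∃ k : ℕ, 1 ≤ k ∧ lvl D L i = lvl D L j + (k : ℝ) * lv D L s := by
  have hx : D.x F s t = D.xMat F ⟨s, hs⟩ t := by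
    unfold ChevalleyDatum.x
    rw [dif_pos hs]
  rw [hx] at hne
  have hlvs : lv D L s = L ⟨s, hs⟩ := by
    unfold lv
    rw [dif_pos hs]
  have hlvc : ∀ r : Fin D.nroots, lv D L r.val = L r := by
    intro r
    unfold lv
    rw [dif_pos r.isLt]
  rw [Matrix.sub_apply] at hne
  rcases j with b | v
  · rcases i with a | w
    · exfalso
      apply hne
      unfold ChevalleyDatum.xMat
      rw [Matrix.of_apply, Matrix.one_apply]
      simp only [Sum.inl.injEq]
      exact sub_self _
    · unfold ChevalleyDatum.xMat at hne
      rw [Matrix.of_apply, Matrix.one_apply] at hne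
      simp only [reduceCtorEq, if_false, sub_zero] at hne
      by_cases hw : w = ⟨s, hs⟩
      · refine ⟨1, le_refl _, ?_⟩
        subst hw
        simp only [lvl, Sum.elim_inr, Sum.elim_inl, hlvs]
        ring
      · rw [if_neg hw] at hne
        exact absurd rfl hne
  · unfold ChevalleyDatum.xMat at hne
    rw [Matrix.of_apply] at hne
    by_cases hv : v = ⟨s, hs⟩
    · exfalso
      apply hne
      simp only [hv, if_true]
      rcases i with a | w
      · rw [Matrix.one_apply]
        simp
      · rw [Matrix.one_apply]
        simp only [Sum.inr.injEq]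
        rw [hv]
        exact sub_self _
    · simp only [hv, if_false] at hne
      by_cases hvn : v.val = D.negIdx.getD s 0
      · simp only [hvn, if_true] at hne
        have hLv : L v = - L ⟨s, hs⟩ := by
          have h1 := hneg.2
          unfold ChevalleyDatum.neg at h1
          rw [← hvn, hlvc v, hlvs] at h1
          exact h1
        rcases i with a | w
        · refine ⟨1, le_refl _, ?_⟩
          simp only [lvl, Sum.elim_inr, Sum.elim_inl, hlvs, hLv]
          ring
        · rw [Matrix.one_apply] at hne
          simp only [Sum.inr.injEq] at hne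
          by_cases hwv : w = v
          · exfalso
            apply hne
            rw [if_pos hwv, if_pos hwv]
            exact sub_self _
          · rw [if_neg hwv, if_neg hwv, sub_zero] at hne
            by_cases hws : w = ⟨s, hs⟩
            · refine ⟨2, by norm_num, ?_⟩
              subst hws
              simp only [lvl, Sum.elim_inr, hlvs, hLv]
              push_cast
              ring
            · rw [if_neg hws] at hne
              exact absurd rfl hne
      · simp only [hvn, if_false] at hne
        rcases i with a | w
        · exfalso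
          apply hne
          rw [Matrix.one_apply]
          simp
        · rw [Matrix.one_apply] at hne
          simp only [Sum.inr.injEq] at hne
          rw [add_sub_cancel_left] at hne
          obtain ⟨km, hkm, -⟩ := bttgrp1_sum_ne_zero _ _ hne
          obtain ⟨h1, h2⟩ := hchain v.val w.val v.isLt w.isLt km hkm
          refine ⟨km.1, h1, ?_⟩
          rw [hlvc, hlvc] at h2
          simp only [lvl, Sum.elim_inr]
          exact h2

end Cfsg.Agent.Lib.helper8.BTT
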