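import Mathlib
import Cfsg.Prelude.Def_ChevStructure
import Cfsg.Prelude.Def_LieTypes
import Cfsg.Prelude.Def_ChevB2
import Cfsg.Agent.Lib.helper8.BTT.Defs
import Cfsg.Agent.Lib.helper8.ChevReflAll
import Cfsg.Agent.Lib.helper8.ChevLvl2

/-!
# BTT ROOT1 (spare, own names): level functions are odd and additive along chains
-/

set_option autoImplicit false

namespace Cfsg.Agent.Lib.helper8.BTT

open Cfsg.Lie Cfsg.Lie.ChevalleyDatum

theorem bttroot1_h9_lv_lam (D : ChevalleyDatum) (y : Fin D.rank → ℝ) (r : ℕ) (hr : r < D.nroots) :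
    lv D (lamL D y) r = ∑ i : Fin D.rank, y i * ((D.cartan i r : ℤ) : ℝ) := by
  unfold lv
  rw [dif_pos hr]
  rfl

theorem bttroot1_h9_lev_neg (D : ChevalleyDatum)
    (hD : D ∈ [chevG2, chevB2, chevD4, chevF4, chevE6, chevE7, chevE8])
    (L : Fin D.nroots → ℝ) (hL : L ∈ levE D) (r : ℕ) (hr : r < D.nroots) :
    D.neg r < D.nroots ∧ lv D L (D.neg r) = - lv D L r := by
  have hCA := h8CAchk_spec D (h8reflAll D hD).ca
  obtain ⟨y, rfl⟩ := hL
  have hlt : D.neg r < D.nroots := hCA.neg_lt r hr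
  refine ⟨hlt, ?_⟩
  rw [bttroot1_h9_lv_lam D y _ hlt, bttroot1_h9_lv_lam D y r hr, ← Finset.sum_neg_distrib]
  apply Finset.sum_congr rfl
  intro i _
  have := hCA.neg i.val i.isLt r hr
  unfold ChevalleyDatum.neg
  rw [this]
  push_cast
  ring

theorem bttroot1_h9_lev_chain (D : ChevalleyDatum)
    (hD : D ∈ [chevG2, chevB2, chevD4, chevF4, chevE6, chevE7, chevE8])
    (L : Fin D.nroots → ℝ) (hL : L ∈ levE D) (s v u : ℕ) (hs : s < D.nroots)
    (hv : v < D.nroots) (hu : u < D.nroots) (km : ℕ × ℤ) (hkm : km ∈ D.chainCoeff s v u) :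
    1 ≤ km.1 ∧ lv D L u = lv D L v + (km.1 : ℝ) * lv D L s := by
  have hCA := h8CAchk_spec D (h8reflAll D hD).ca
  obtain ⟨y, rfl⟩ := hL
  refine ⟨h8chainCoeff_pos D s v u km hkm, ?_⟩
  rw [bttroot1_h9_lv_lam D y _ hu, bttroot1_h9_lv_lam D y _ hv, bttroot1_h9_lv_lam D y _ hs,
    Finset.mul_sum, ← Finset.sum_add_distrib]
  apply Finset.sum_congr rfl
  intro i _
  have := hCA.add i.val i.isLt s hs v u km hkm
  rw [this]
  push_cast
  ring

end Cfsg.Agent.Lib.helper8.BTT
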