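import Mathlib
import Cfsg.Prelude.Def_ChevStructure
import Cfsg.Prelude.Def_LieTypes
import Cfsg.Prelude.Def_ChevB2
import Cfsg.Agent.Lib.helper8.BTT.Defs
import Cfsg.Agent.Lib.Helper9.BTTGRP1core
import Cfsg.Agent.Lib.Helper9.BTTROOT1h9

/-!
# BTT GRP1 (verbatim): the entries of `x_s(t) - 1`
-/

set_option autoImplicit false

namespace Cfsg.Agent.Lib.helper8.BTT

open Cfsg.Lie Cfsg.Lie.ChevalleyDatum

universe u

section grp
variable {F : Type u} [Field F] (D : ChevalleyDatum)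

/-- GRP1 [M]: the entries of `x_s(t) - 1` (read off `xMat`, as in `h8_xMat_unitri`; ROOT1). -/
theorem x_entry (hD : D ∈ [chevG2, chevB2, chevD4, chevF4, chevE6, chevE7, chevE8])
    (L : Fin D.nroots → ℝ) (hL : L ∈ levE D) (s : ℕ) (hs : s < D.nroots) (t : F)
    (i j : D.Idx) (hne : (D.x F s t - 1) i j ≠ 0) :
    ∃ k : ℕ, 1 ≤ k ∧ lvl D L i = lvl D L j + (k : ℝ) * lv D L s :=
  bttgrp1_core D L s hs t (bttroot1_h9_lev_neg D hD L hL s hs)
    (fun v u hv hu km hkm => bttroot1_h9_lev_chain D hD L hL s v u hs hv hu km hkm) i j hne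

end grp

end Cfsg.Agent.Lib.helper8.BTT
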