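import Mathlib
import Cfsg.Prelude.Def_Local
import Cfsg.Agent.S0028
import Cfsg.Agent.Lib.Helper10.Components
import Cfsg.Agent.Lib.Helper1.Fitting
import Cfsg.Agent.Lib.Helper1.Cores
import Cfsg.Agent.Lib.Helper12.Local

set_option autoImplicit false

namespace Cfsg.Agent.Lib.Helper9

open Cfsg

/-- a `p`-group of order prime to `p` is trivial -/
theorem eq_bot_of_isPGroup_of_coprime {G : Type*} [Group G] [Finite G] {p : ℕ} [Fact p.Prime]
    (Y : Subgroup G) (hYp : IsPGroup p Y) (hYc : (Nat.card Y).Coprime p) : Y = ⊥ := by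
  obtain ⟨k, hk⟩ := IsPGroup.iff_card.1 hYp
  have hp : p.Prime := Fact.out
  have : Nat.card Y = 1 := by
    rcases Nat.eq_zero_or_pos k with rfl | hk0
    · simpa using hk
    · exfalso
      rw [hk] at hYc
      have := (Nat.coprime_pow_left_iff hk0 p p).1 hYc
      rw [Nat.coprime_self] at this
      exact hp.one_lt.ne' this
  exact Subgroup.eq_bot_of_card_eq _ this

/-- wrapper around Thompson's `P × Q` lemma -/
theorem eq_bot_of_thompson {G : Type*} [Group G] [Finite G] (p : ℕ) [Fact p.Prime]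
    (U Qs Y : Subgroup G) (hU : IsPGroup p U) (hQs : IsPGroup p Qs)
    (hYc : (Nat.card Y).Coprime p)
    (hUQ : U ≤ Subgroup.normalizer (Qs : Set G)) (hYQ : Y ≤ Subgroup.normalizer (Qs : Set G))
    (hYU : ∀ y ∈ Y, ∀ x ∈ U, y * x = x * y)
    (hYC : ∀ y ∈ Y, ∀ x ∈ Qs, (∀ u ∈ U, u * x = x * u) → y * x = x * y)
    (hself : Y ≤ Subgroup.centralizer (Qs : Set G) → Y ≤ Qs) : Y = ⊥ := by
  have h1 : Y ≤ Subgroup.centralizer (Qs : Set G) := by
    apply Cfsg.Agent.S0028.result p U Y Qs hU hYc hQs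
    · intro x hx
      rw [Subgroup.mem_centralizer_iff]
      intro y hy
      exact hYU y hy x hx
    · exact hUQ
    · exact hYQ
    · intro x hx
      obtain ⟨hxQ, hxP⟩ := Subgroup.mem_inf.1 hx
      rw [Subgroup.mem_centralizer_iff]
      intro y hy
      apply hYC y hy x hxQ
      intro u hu
      rw [Subgroup.mem_centralizer_iff] at hxP
      exact hxP u hu
  exact eq_bot_of_isPGroup_of_coprime Y (hQs.to_le (hself h1)) hYc

/-- criterion for `F*(N) = O_p(N)` -/
theorem gfs_eq_pCore_of_forall {N : Type*} [Group N] [Finite N] (p : ℕ) [Fact p.Prime]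
    (H : ∀ Y : Subgroup N, (Nat.card Y).Coprime p →
      (∀ y ∈ Y, ∀ x ∈ Cfsg.pCore p N, y * x = x * y) → Y = ⊥) :
    Cfsg.generalizedFittingSubgroup N = Cfsg.pCore p N := by
  classical
  have hp : p.Prime := Fact.out
  have hQn : (Cfsg.pCore p N).Normal := Cfsg.Agent.Lib.Helper1.pCore_normal p
  have hQp : IsPGroup p (Cfsg.pCore p N) := Cfsg.Agent.Lib.Helper1.pCore_isPGroup p
  have hQF : Cfsg.pCore p N ≤ Cfsg.fittingSubgroup N :=
    Cfsg.Agent.Lib.Helper1.pCore_le_fittingSubgroup p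
  have hOp' : Cfsg.pPrimeCore p N = ⊥ := by
    have hYn : (Cfsg.pPrimeCore p N).Normal := Cfsg.Agent.Lib.Helper1.pPrimeCore_normal p
    have hYc : (Nat.card (Cfsg.pPrimeCore p N)).Coprime p :=
      Cfsg.Agent.Lib.Helper1.pPrimeCore_card_coprime p
    apply H _ hYc
    intro y hy x hx
    obtain ⟨k, hk⟩ := IsPGroup.iff_card.1 hQp
    have hcop : (Nat.card (Cfsg.pPrimeCore p N)).Coprime (Nat.card (Cfsg.pCore p N)) := by
      rw [hk]; exact Nat.Coprime.pow_right k hYc
    exact Subgroup.commute_of_normal_of_disjoint _ _ hYn hQn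
      (Subgroup.disjoint_of_coprime_natCard hcop) y x hy hx
  have hlayer : Cfsg.layer N = ⊥ := by
    unfold Cfsg.layer
    rw [sSup_eq_bot]
    intro L hL
    exfalso
    have hL' : Cfsg.IsComponent L := hL
    have hLF : ∀ l ∈ L, ∀ x ∈ Cfsg.fittingSubgroup N, l * x = x * l := by
      intro l hl x hx
      have h1 : (⁅Cfsg.layer N, Cfsg.fittingSubgroup N⁆ : Subgroup N) = ⊥ :=
        Cfsg.Agent.Lib.Helper10.commutator_layer_fitting
      rw [Subgroup.commutator_eq_bot_iff_le_centralizer] at h1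
      have := h1 (Cfsg.Agent.Lib.Helper10.component_le_layer hL' hl)
      rw [Subgroup.mem_centralizer_iff] at this
      exact (this x hx).symm
    have htriv : ∀ l ∈ L, (orderOf l).Coprime p → l = 1 := by
      intro l hl hcop
      have hbot := H (Subgroup.zpowers l) (by rw [Nat.card_zpowers]; exact hcop)
        (by
          intro y hy x hx
          obtain ⟨n, rfl⟩ := Subgroup.mem_zpowers_iff.1 hy
          have h2 : l * x = x * l := hLF l hl x (hQF hx)
          exact ((Commute.zpow_left (show Commute l x from h2) n)).eq)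
      have h3 : l ∈ Subgroup.zpowers l := Subgroup.mem_zpowers _
      rw [hbot, Subgroup.mem_bot] at h3
      exact h3
    have hLp : IsPGroup p L := by
      rw [IsPGroup.iff_orderOf]
      rintro ⟨l, hl⟩
      have hl0 : orderOf l ≠ 0 := (orderOf_pos l).ne'
      obtain ⟨k, m, hm, hkm⟩ := Nat.exists_eq_pow_mul_and_not_dvd hl0 p hp.ne_one
      have hm0 : m ≠ 0 := by
        rintro rfl
        exact hm (dvd_zero p)
      have hord : orderOf (l ^ (p ^ k)) = m := by
        rw [orderOf_pow' l (pow_ne_zero k hp.ne_zero), hkm, Nat.gcd_eq_right (dvd_mul_right _ _)]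
        exact Nat.mul_div_cancel_left m (pow_pos hp.pos k)
      have h1 := htriv (l ^ (p ^ k)) (L.pow_mem hl _)
        (by rw [hord]; exact ((Nat.Prime.coprime_iff_not_dvd hp).2 hm).symm)
      have h2 : orderOf l ∣ p ^ k := orderOf_dvd_of_pow_eq_one h1
      obtain ⟨j, -, hj⟩ := (Nat.dvd_prime_pow hp).1 h2
      refine ⟨j, ?_⟩
      rw [Subgroup.orderOf_mk]
      exact hj
    have : Group.IsNilpotent L := hLp.isNilpotent
    exact Cfsg.Agent.Lib.Helper10.isComponent_not_isSolvable hL' inferInstance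
  have hfit : Cfsg.fittingSubgroup N = Cfsg.pCore p N := by
    rw [Cfsg.Agent.Lib.Helper1.fittingSubgroup_eq_iSup_pCore]
    apply le_antisymm
    · apply iSup_le
      intro q
      by_cases hqp : (q : ℕ) = p
      · rw [hqp]
      · have hq : Fact (q : ℕ).Prime := ⟨q.2⟩
        have hqn : (Cfsg.pCore (q : ℕ) N).Normal := Cfsg.Agent.Lib.Helper1.pCore_normal _
        have hqq : IsPGroup (q : ℕ) (Cfsg.pCore (q : ℕ) N) :=
          Cfsg.Agent.Lib.Helper1.pCore_isPGroup _
        obtain ⟨k, hk⟩ := IsPGroup.iff_card.1 hqq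
        have hcop : (Nat.card (Cfsg.pCore (q : ℕ) N)).Coprime p := by
          rw [hk]
          exact Nat.Coprime.pow_left k ((Nat.coprime_primes q.2 hp).2 hqp)
        have := Cfsg.Agent.Lib.Helper1.le_pPrimeCore hqn hcop
        rw [hOp'] at this
        exact this.trans bot_le
    · exact le_iSup (fun q : Nat.Primes => Cfsg.pCore (q : ℕ) N) ⟨p, hp⟩
  unfold Cfsg.generalizedFittingSubgroup
  rw [hlayer, hfit, bot_sup_eq]

/-- if `F*(N)` is a `p`-group it equals `O_p(N)` -/
theorem gfs_eq_pCore_of_isPGroup {N : Type*} [Group N] [Finite N] (p : ℕ) [Fact p.Prime]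
    (h : IsPGroup p (Cfsg.generalizedFittingSubgroup N)) :
    Cfsg.generalizedFittingSubgroup N = Cfsg.pCore p N := by
  apply le_antisymm
  · exact Cfsg.Agent.Lib.Helper1.le_pCore
      (Cfsg.Agent.Lib.Helper12.generalizedFittingSubgroup_normal N) h
  · exact (Cfsg.Agent.Lib.Helper1.pCore_le_fittingSubgroup p).trans le_sup_right

end Cfsg.Agent.Lib.Helper9
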