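import Mathlib
import Cfsg.Agent.Lib.Helper10.C3E.Defs

set_option autoImplicit false
set_option linter.unusedVariables false
set_option linter.unusedSectionVars false

/-!
# Project S5975, row RKCONJ (helper9): ranks and eigenspace dimensions are conjugation invariant
-/

namespace Cfsg.Agent.Lib.Helper10.C3E

open Module

variable {F K V : Type*} [Field F] [Field K] [Algebra F K] [AddCommGroup V] [Module F V] [Module K V]
  [IsScalarTower F K V]

theorem c3erkconj_eq (g h : V ≃ₗ[F] V) (c : F) :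
    ((h⁻¹ * g * h : V ≃ₗ[F] V) : V →ₗ[F] V) - c • LinearMap.id =
      (h.symm : V →ₗ[F] V) ∘ₗ (((g : V →ₗ[F] V) - c • LinearMap.id) ∘ₗ (h : V →ₗ[F] V)) := by
  ext x
  have h1 : (h⁻¹ * g * h : V ≃ₗ[F] V) x = h.symm (g (h x)) := rfl
  simp only [LinearMap.sub_apply, LinearMap.smul_apply, LinearMap.id_apply, LinearMap.comp_apply,
    LinearEquiv.coe_coe, h1, map_sub, map_smul, LinearEquiv.symm_apply_apply]

/-- RKCONJ (two statements, one row) -/
theorem c3e_rk_conj (g h : V ≃ₗ[F] V) (c : F) : rk (h⁻¹ * g * h) c = rk g c := by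
  unfold rk
  rw [c3erkconj_eq, LinearMap.range_comp, LinearMap.range_comp_of_range_eq_top _ (LinearEquiv.range h)]
  exact LinearEquiv.finrank_map_eq h.symm _

theorem c3e_fixc_conj (g h : V ≃ₗ[F] V) (c : F) : finrank F (fixc (h⁻¹ * g * h) c) = finrank F (fixc g c) := by
  unfold fixc
  rw [c3erkconj_eq, LinearMap.ker_comp, LinearEquiv.ker, Submodule.comap_bot, LinearMap.ker_comp]
  exact (LinearEquiv.ofSubmodule' h _).finrank_eq

end Cfsg.Agent.Lib.Helper10.C3E
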