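import Mathlib
import Cfsg.Agent.Lib.Helper10.C3E.Defs
import Cfsg.Agent.Lib.helper8.C3S.Transfer

set_option autoImplicit false
set_option linter.unusedVariables false
set_option linter.unusedSectionVars false

/-!
# Project S5975, row RKMAT (helper9): the dictionary `glS` for ranks and fixed spaces
-/

namespace Cfsg.Agent.Lib.Helper10.C3E

open Module Cfsg.Agent.Lib.helper8.C3S

section concrete

variable {F : Type*} [Field F]

theorem c3erkmat_eq (d : ℕ) (x : GL (Fin d ⊕ Fin d) F) (c : F) :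
    ((glS d F x : (Fin d ⊕ Fin d → F) ≃ₗ[F] (Fin d ⊕ Fin d → F)) : (Fin d ⊕ Fin d → F) →ₗ[F] (Fin d ⊕ Fin d → F))
        - c • LinearMap.id =
      ((x : Matrix (Fin d ⊕ Fin d) (Fin d ⊕ Fin d) F) - c • 1).mulVecLin := by
  apply LinearMap.ext
  intro v
  rw [LinearMap.sub_apply, LinearMap.smul_apply, LinearMap.id_apply, LinearEquiv.coe_coe, glS_apply,
    Matrix.mulVecLin_apply, Matrix.sub_mulVec, Matrix.smul_mulVec, Matrix.one_mulVec]

/-- RKMAT (two statements, one row) : the dictionary `glS` (`Cfsg.Agent.Lib.helper8.C3S.glS_apply`). -/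
theorem c3e_rk_mat (d : ℕ) (x : GL (Fin d ⊕ Fin d) F) (c : F) :
    rk (glS d F x) c = ((x : Matrix (Fin d ⊕ Fin d) (Fin d ⊕ Fin d) F) - c • 1).rank := by
  unfold rk
  rw [c3erkmat_eq]
  rfl

theorem c3e_fixc_mat (d : ℕ) (x : GL (Fin d ⊕ Fin d) F) :
    finrank F (fixc (glS d F x) 1) =
      finrank F (LinearMap.ker ((x : Matrix (Fin d ⊕ Fin d) (Fin d ⊕ Fin d) F).mulVecLin - LinearMap.id)) := by
  unfold fixc
  have h : ((glS d F x : (Fin d ⊕ Fin d → F) ≃ₗ[F] (Fin d ⊕ Fin d → F)) : (Fin d ⊕ Fin d → F) →ₗ[F] (Fin d ⊕ Fin d → F))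
        - (1 : F) • LinearMap.id =
      (x : Matrix (Fin d ⊕ Fin d) (Fin d ⊕ Fin d) F).mulVecLin - LinearMap.id := by
    apply LinearMap.ext
    intro v
    rw [LinearMap.sub_apply, LinearMap.smul_apply, LinearMap.id_apply, LinearEquiv.coe_coe, glS_apply,
      LinearMap.sub_apply, Matrix.mulVecLin_apply, LinearMap.id_apply, one_smul]
  rw [h]

end concrete

end Cfsg.Agent.Lib.Helper10.C3E
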