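import Mathlib
import Cfsg.Agent.Lib.Helper10.C3Q.Defs
import Cfsg.Agent.Lib.Helper13.OTSMAXEL
import Cfsg.Agent.Lib.helper17.OTSQOCTX
import Cfsg.Agent.Lib.helper15.OTSSTDCTX
import Cfsg.Agent.Lib.helper4.OTSOMEGAODD
import Cfsg.Agent.Lib.helper23.ONECYCLADDER
import Cfsg.Agent.Lib.Helper24.S5972SPLIT
import Cfsg.Agent.Lib.helper14.C3QNEXT

set_option autoImplicit false
set_option linter.unusedVariables false

/-!
# Project C3Q (designer helper10), row NEX (`n_ex`), second copy by helper9 under the name `c3qnex_h9`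
(same statement): an element of `Ω` of order `r` with `rank (x - 1) = c`.
-/

namespace Cfsg.Agent.Lib.Helper10.C3Q

open Matrix Module Cfsg.Agent.Lib.Helper13.OTS Cfsg.Agent.Lib.Helper16
open Polynomial Cfsg.Agent.Lib.Helper13.S5955 Cfsg.Agent.Lib.helper15.S5972

universe u

variable {F : Type u} [Field F] {ι : Type} [Fintype ι] [DecidableEq ι]

/-- abstract part: the extension `x` of `y|M` by the identity has `range (x - 1) = M` when `y - 1` is injective on `M`. -/
theorem c3qnexh9_range {V : Type*} [AddCommGroup V] [Module F V] [FiniteDimensional F V]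
    (Q : QuadraticForm F V) (y x : Module.End F V) (M : Submodule F V)
    (hM : ∀ v ∈ M, y v ∈ M)
    (hMnd : ∀ u ∈ M, (∀ v ∈ M, QuadraticMap.polar (⇑Q) u v = 0) → u = 0)
    (hinj : ∀ m ∈ M, y m = m → m = 0)
    (hxM : ∀ v ∈ M, x v = y v)
    (hxO : ∀ v, (∀ m ∈ M, QuadraticMap.polar (⇑Q) v m = 0) → x v = v) :
    LinearMap.range (x - 1) = M := by
  set B : LinearMap.BilinForm F V := QuadraticMap.polarBilin Q with hB
  have hBapp : ∀ u v, B u v = QuadraticMap.polar (⇑Q) u v := fun u v => rfl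
  have hsymm : ∀ u v, B u v = B v u := fun u v => QuadraticMap.polar_comm _ _ _
  have hrefl : B.IsRefl := fun u v h => by rw [hsymm]; exact h
  have hndM : (LinearMap.BilinForm.restrict B M).Nondegenerate := by
    have hl : ∀ u : M, (∀ v : M, LinearMap.BilinForm.restrict B M u v = 0) → u = 0 := by
      intro u hu
      apply Subtype.ext
      exact hMnd u.1 u.2 (fun v hv => hu ⟨v, hv⟩)
    refine ⟨hl, ?_⟩
    intro u hu
    refine hl u (fun v => ?_)
    have := hu v
    change B (v : V) (u : V) = 0 at this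
    change B (u : V) (v : V) = 0
    rw [hsymm]; exact this
  have hc : IsCompl M (B.orthogonal M) :=
    LinearMap.BilinForm.isCompl_orthogonal_of_restrict_nondegenerate hrefl hndM
  have hmemO : ∀ v, v ∈ B.orthogonal M → ∀ m ∈ M, QuadraticMap.polar (⇑Q) v m = 0 := by
    intro v h m hm
    rw [LinearMap.BilinForm.mem_orthogonal_iff] at h
    have := h m hm
    change B m v = 0 at this
    rw [← hBapp, hsymm]; exact this
  -- `y - 1` restricted to `M` is injective, hence surjective
  have hM1 : ∀ v ∈ M, (y - 1) v ∈ M := by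
    intro v hv
    rw [LinearMap.sub_apply, Module.End.one_apply]
    exact M.sub_mem (hM v hv) hv
  set φ : M →ₗ[F] M := (y - 1).restrict hM1 with hφ
  have hφinj : Function.Injective φ := by
    rw [← LinearMap.ker_eq_bot]
    apply LinearMap.ker_eq_bot'.mpr
    intro m hm
    have h1 : ((y - 1) (m : V)) = 0 := by
      have := congrArg Subtype.val hm
      simpa [hφ, LinearMap.restrict_apply] using this
    rw [LinearMap.sub_apply, Module.End.one_apply, sub_eq_zero] at h1
    exact Subtype.ext (hinj m.1 m.2 h1)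
  have hφsurj : Function.Surjective φ := LinearMap.surjective_of_injective hφinj
  apply le_antisymm
  · rintro _ ⟨v, rfl⟩
    have hv : v ∈ M ⊔ B.orthogonal M := by rw [hc.sup_eq_top]; exact Submodule.mem_top
    obtain ⟨m, hm, m', hm', rfl⟩ := Submodule.mem_sup.mp hv
    have h1 : x m' = m' := hxO m' (hmemO m' hm')
    have h2 : x m = y m := hxM m hm
    have : (x - 1) (m + m') = (y - 1) m := by
      simp only [LinearMap.sub_apply, Module.End.one_apply, map_add, h1, h2]
      abel
    rw [this]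
    exact hM1 m hm
  · intro m hm
    obtain ⟨m0, hm0⟩ := hφsurj ⟨m, hm⟩
    refine ⟨(m0 : V), ?_⟩
    have h2 : x (m0 : V) = y (m0 : V) := hxM m0.1 m0.2
    have h3 : ((y - 1) (m0 : V)) = m := by
      have := congrArg Subtype.val hm0
      simpa [hφ, LinearMap.restrict_apply] using this
    rw [LinearMap.sub_apply, Module.End.one_apply, h2]
    rw [LinearMap.sub_apply, Module.End.one_apply] at h3
    exact h3

/-- NEX (same statement as `n_ex`). -/
theorem c3qnex_h9 [Fintype F] {p : ℕ} [Fact p.Prime] [CharP F p] (Qs : QuadraticForm F (ι → F)) (d : ℕ)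
    (τ : ℤ) (hs : QStd Qs d τ) (hd : 3 ≤ d) (r : ℕ) [Fact r.Prime] (hrp : r ≠ p) (hr2 : r ≠ 2)
    (i c : ℕ) (hi : i = orderOf ((Fintype.card F : ℕ) : ZMod r)) (hc : c = if Even i then i else 2 * i)
    (hex : c + FMin i c d τ ≤ 2 * d) :
    ∃ x : GL ι F, x ∈ Cfsg.Geo.omegaGL (⇑Qs) ∧ x ^ r = 1 ∧ ((x : Matrix ι ι F) - 1).rank = c := by
  obtain ⟨y, hy, hy1, hfix⟩ := q_maxel (p := p) Qs d τ hs r hrp hr2 i c hi hc hex
  have ho : OCtx r (qB Qs) y := q_octx hy
  obtain ⟨_, hcompl, _, _⟩ := o_split (p := p) hrp ho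
  have hsum := Submodule.finrank_add_eq_of_isCompl hcompl
  have hV : finrank F (ι → F) = 2 * d := by
    rw [Module.finrank_fintype_fun_eq_card, hs.card]
  have hcyc : c * 1 ≤ finrank F (cycS r y) := by omega
  obtain ⟨M, hMc, hMinv, hMnd, hMdim⟩ :=
    Cfsg.Agent.Lib.Helper18.ONE.o_nd_ladder (p := p) hrp hr2 ho i c hi hc 1 hcyc
  have hMnd' : ∀ u ∈ M, (∀ v ∈ M, QuadraticMap.polar (⇑Qs) u v = 0) → u = 0 :=
    fun u hu h => hMnd u hu h
  obtain ⟨x, hx, hxM, hxO⟩ := n_ext Qs y hy M hMinv hMnd'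
  have hinj : ∀ m ∈ M, y m = m → m = 0 := by
    intro m hm hym
    have h1 : m ∈ fixS y := by
      unfold fixS
      rw [LinearMap.mem_ker]
      simp only [map_sub, aeval_X, map_one, LinearMap.sub_apply, Module.End.one_apply]
      rw [hym, sub_self]
    have h2 : m ∈ fixS y ⊓ cycS r y := ⟨h1, hMc hm⟩
    rw [hcompl.inf_eq_bot] at h2
    exact (Submodule.mem_bot F).mp h2
  have hrange := c3qnexh9_range Qs y x M hMinv hMnd' hinj hxM hxO
  obtain ⟨X, hX, hXx, hXr⟩ := q_realize Qs r x hx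
  have hcard : 5 ≤ Fintype.card ι := by rw [hs.card]; omega
  have hrodd : Odd r := (Fact.out : r.Prime).odd_of_ne_two hr2
  refine ⟨X, q_omega_of_odd Qs hs.nd hcard X hX r hrodd hXr, hXr, ?_⟩
  have h1 : Matrix.toLin' ((X : Matrix ι ι F) - 1) = x - 1 := by
    rw [map_sub, hXx, Matrix.toLin'_one]
    rfl
  unfold Matrix.rank
  rw [← Matrix.toLin'_apply', h1, hrange, hMdim, mul_one]

end Cfsg.Agent.Lib.Helper10.C3Q
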