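import Mathlib
import Cfsg.Agent.Lib.Helper10.C6P.Defs

/-!
# Project C6P, row LDIAG (helper9): characteristic polynomial of a diagonal `4 × 4` matrix
-/

set_option autoImplicit false

namespace Cfsg.Agent.Lib.Helper10.C6P

open Polynomial Matrix

variable {F : Type*} [Field F]

/-- LDIAG [S] : characteristic polynomial of a diagonal matrix. -/
theorem ldiag (d : Fin 4 → F) : (Matrix.diagonal d).charpoly = ∏ k : Fin 4, (X - C (d k)) :=
  Matrix.charpoly_diagonal d

end Cfsg.Agent.Lib.Helper10.C6P
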