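import Mathlib
import Cfsg.Agent.Lib.Helper10.C6P.Defs
import Cfsg.Agent.Lib.helper6.SSCONJDET

/-!
# Project C6P, row CONJ (helper9): the conjugacy step
-/

set_option autoImplicit false
set_option linter.unusedVariables false
set_option linter.unusedSectionVars false

namespace Cfsg.Agent.Lib.Helper10.C6P

open Polynomial Matrix

variable {F : Type*} [Field F]

/-- a `GL`-element whose matrix is scalar is central -/
theorem c6pconj_central {n : Type} [Fintype n] [DecidableEq n] (s : GL n F) (c : F)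
    (hs : (s : Matrix n n F) = c • (1 : Matrix n n F)) : s ∈ Subgroup.center (GL n F) := by
  rw [Subgroup.mem_center_iff]
  intro g
  apply Units.ext
  rw [Units.val_mul, Units.val_mul, hs, Matrix.mul_smul, Matrix.smul_mul, mul_one, one_mul]

/-- CONJ [M] : the conjugacy step. -/
theorem conj_into [Finite F] (R : Subgroup (GL (Fin 4) F)) (r : ℕ) (hr : (r : F) ≠ 0) (x : GL (Fin 4) F)
    (hx : x ∈ Cfsg.Geo.specialLinear (Fin 4) F) (w : F) (hw : w ≠ 0) (y : M4 F) (hyN : Nrm R y)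
    (hur : (w⁻¹ • (x : M4 F)) ^ r = 1) (hyr : y ^ r = 1) (hc : (w⁻¹ • (x : M4 F)).charpoly = y.charpoly) :
    ∃ g ∈ Cfsg.Geo.specialLinear (Fin 4) F, g⁻¹ * x * g ∈ Cfsg.Geo.subgroupNormalizer R := by
  obtain ⟨Q, hQ⟩ := Cfsg.Agent.Lib.helper6.SSCONJ.ssconjdet_conj_sl_of_pow (w⁻¹ • (x : M4 F)) y r hr
    hur hyr hc
  obtain ⟨n, hn, hnN⟩ := hyN
  set g : GL (Fin 4) F := Matrix.SpecialLinearGroup.toGL Q⁻¹ with hg
  have hgQ : (g : M4 F) = ((Q⁻¹ : Matrix.SpecialLinearGroup (Fin 4) F) : M4 F) := rfl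
  have hginv : g⁻¹ = Matrix.SpecialLinearGroup.toGL Q := by
    rw [hg, map_inv, inv_inv]
  have hgiQ : ((g⁻¹ : GL (Fin 4) F) : M4 F) = (Q : M4 F) := by
    rw [hginv]; rfl
  refine ⟨g, ?_, ?_⟩
  · show g ∈ (Matrix.GeneralLinearGroup.det : GL (Fin 4) F →* Fˣ).ker
    rw [MonoidHom.mem_ker]
    apply Units.ext
    rw [Matrix.GeneralLinearGroup.val_det_apply, hgQ, Units.val_one]
    exact (Q⁻¹).2
  · -- the conjugate is `w • n`
    have hval : ((g⁻¹ * x * g : GL (Fin 4) F) : M4 F) = w • (n : M4 F) := by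
      rw [Units.val_mul, Units.val_mul, hgiQ, hgQ, hn, ← hQ, Matrix.mul_smul, Matrix.smul_mul,
        smul_smul, mul_inv_cancel₀ hw, one_smul]
    set s : GL (Fin 4) F := g⁻¹ * x * g * n⁻¹ with hs
    have hsval : (s : M4 F) = w • (1 : M4 F) := by
      rw [hs, Units.val_mul, hval, Matrix.smul_mul, ← Units.val_mul, mul_inv_cancel, Units.val_one]
    have hscen : s ∈ Subgroup.center (GL (Fin 4) F) := c6pconj_central s w hsval
    have hsN : s ∈ Cfsg.Geo.subgroupNormalizer R := by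
      unfold Cfsg.Geo.subgroupNormalizer
      rw [Subgroup.mem_normalizer_iff]
      intro h
      rw [Subgroup.mem_center_iff] at hscen
      rw [← hscen h, mul_inv_cancel_right]
    have : g⁻¹ * x * g = s * n := by
      rw [hs, inv_mul_cancel_right]
    rw [this]
    exact Subgroup.mul_mem _ hsN hnN

end Cfsg.Agent.Lib.Helper10.C6P
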