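import Mathlib
import Cfsg.Agent.Lib.Helper10.C6P.Defs
import Cfsg.Agent.Lib.helper23.C6PLCHAR1
import Cfsg.Agent.Lib.helper23.C6PLONE
import Cfsg.Agent.Lib.Helper9.C6PCONJ

/-!
# Project C6P, rows E3 + E5 (helper9): the generic sufficiency core for an odd prime `r` with `X^r - 1 = (X - 1) g`, `g` irreducible.
-/

set_option autoImplicit false
set_option linter.unusedVariables false
set_option linter.unusedSectionVars false

namespace Cfsg.Agent.Lib.Helper10.C6P

open Polynomial Matrix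

variable {F : Type*} [Field F]

/-- generic sufficiency: `r`-th roots exist, `X^r - 1 = (X - 1) g` with `g` monic irreducible, and for every admissible `(j, k)` a witness in `N(R)` -/
theorem c6pe3_core [Finite F] (R : Subgroup (GL (Fin 4) F)) (r : ℕ) (hr0 : 0 < r) (hr : (r : F) ≠ 0)
    (g : F[X]) (hgm : g.Monic) (hgirr : Irreducible g)
    (hfac : (X - C (1 : F)) * g = X ^ r - 1)
    (hroot : ∀ z : F, z ≠ 0 → ∃ w : F, w ≠ 0 ∧ w ^ r = z)
    (hwit : ∀ j k : ℕ, j + k * g.natDegree = 4 → j ≠ 4 →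
      ∃ y : M4 F, Nrm R y ∧ y ^ r = 1 ∧ y.charpoly = (X - C (1 : F)) ^ j * g ^ k) :
    AllFix R r := by
  intro x hx hxr hns
  obtain ⟨z, hz⟩ := hxr
  have hz0 : z ≠ 0 := by
    intro h0
    have h1 : ((x ^ r : GL (Fin 4) F) : M4 F) * (((x ^ r)⁻¹ : GL (Fin 4) F) : M4 F) = 1 := by
      rw [← Units.val_mul, mul_inv_cancel, Units.val_one]
    rw [hz, h0, zero_smul, zero_mul] at h1
    exact one_ne_zero h1.symm
  obtain ⟨w, hw0, hwz⟩ := hroot z hz0
  have hxpow : ((x ^ r : GL (Fin 4) F) : M4 F) = (x : M4 F) ^ r := Units.val_pow_eq_pow_val x r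
  have hur : (w⁻¹ • (x : M4 F)) ^ r = 1 := by
    rw [_root_.smul_pow, ← hxpow, hz, smul_smul, inv_pow, hwz, inv_mul_cancel₀ hz0, one_smul]
  have hu1 : w⁻¹ • (x : M4 F) ≠ 1 := by
    intro h1
    apply hns w
    have := congrArg (fun A : M4 F => w • A) h1
    beta_reduce at this
    rw [smul_smul, mul_inv_cancel₀ hw0, one_smul] at this
    exact this
  have hkill : aeval (w⁻¹ • (x : M4 F)) ((X - C (1 : F)) * g) = 0 := by
    rw [hfac, map_sub, map_pow, aeval_X, map_one, hur, sub_self]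
  obtain ⟨j, k, hjk⟩ := lchar_two (w⁻¹ • (x : M4 F)) (X - C (1 : F)) g (monic_X_sub_C 1) hgm
    (irreducible_X_sub_C 1) hgirr hkill
  have hdeg : j + k * g.natDegree = 4 := by
    have h1 := Matrix.charpoly_natDegree_eq_dim (w⁻¹ • (x : M4 F))
    rw [hjk, ((monic_X_sub_C (1 : F)).pow j).natDegree_mul (hgm.pow k),
      (monic_X_sub_C (1 : F)).natDegree_pow, hgm.natDegree_pow, natDegree_X_sub_C,
      Fintype.card_fin] at h1
    omega
  have hgpos : 0 < g.natDegree := hgirr.natDegree_pos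
  have hj4 : j ≠ 4 := by
    intro h4
    have hk0 : k = 0 := by
      subst h4
      have : k * g.natDegree = 0 := by omega
      rcases Nat.mul_eq_zero.mp this with h | h
      · exact h
      · omega
    rw [h4, hk0, pow_zero, mul_one] at hjk
    exact lone (w⁻¹ • (x : M4 F)) r hr hur hu1 hjk
  obtain ⟨y, hyN, hyr, hyc⟩ := hwit j k hdeg hj4
  exact conj_into R r hr x hx w hw0 y hyN hur hyr (hjk.trans hyc.symm)

end Cfsg.Agent.Lib.Helper10.C6P
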