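import Mathlib
import Cfsg.Prelude.Def_Local
import Cfsg.Agent.Lib.Helper9.ZJ9
import Cfsg.Agent.Lib.Helper1.Fitting

set_option autoImplicit false

namespace Cfsg.Agent.Lib.Helper9

open scoped Pointwise commutatorElement

section ZJ13

variable {G : Type*} [Group G]

theorem map_double_commutator {X Y : Type*} [Group X] [Group Y] (π : X →* Y) (V A : Subgroup X) :
    (⁅⁅V, A⁆, A⁆).map π = ⁅⁅V.map π, A.map π⁆, A.map π⁆ := by
  rw [Subgroup.map_commutator, Subgroup.map_commutator]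

set_option maxHeartbeats 400000 in
/-- `p`-stability (Gorenstein's form) of `G` gives the action form on normal `p`-subgroups of
`G / O_{p'}(G)`, for elements of the image of a Sylow `p`-subgroup. -/
theorem hst_quotient_of_isPStable [Finite G] {p : ℕ} [Fact p.Prime]
    (hs : Cfsg.IsPStable p G) (P : Sylow p G) :
    ∀ (V' : Subgroup (G ⧸ Cfsg.pPrimeCore p G)) [V'.Normal], IsPGroup p V' →
      ∀ a' ∈ (P : Subgroup G).map (QuotientGroup.mk' (Cfsg.pPrimeCore p G)),
      ⁅⁅V', Subgroup.zpowers a'⁆, Subgroup.zpowers a'⁆ = ⊥ →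
      (QuotientGroup.mk a' : (G ⧸ Cfsg.pPrimeCore p G) ⧸ Subgroup.centralizer (V' : Set _)) ∈
        Cfsg.pCore p ((G ⧸ Cfsg.pPrimeCore p G) ⧸ Subgroup.centralizer (V' : Set _)) := by
  intro V' hV'n hV' a' ha' hq
  obtain ⟨a, haP, rfl⟩ := Subgroup.mem_map.mp ha'
  obtain ⟨-, -, hst⟩ := hs
  have hsurjπ : Function.Surjective (QuotientGroup.mk' (Cfsg.pPrimeCore p G)) :=
    QuotientGroup.mk'_surjective _
  have hNcop : (Nat.card (Cfsg.pPrimeCore p G)).Coprime p := Helper1.pPrimeCore_card_coprime p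
  have hXn : (V'.comap (QuotientGroup.mk' (Cfsg.pPrimeCore p G))).Normal := hV'n.comap _
  have hNX : Cfsg.pPrimeCore p G ≤ V'.comap (QuotientGroup.mk' (Cfsg.pPrimeCore p G)) := by
    intro x hx
    rw [Subgroup.mem_comap]
    have : (QuotientGroup.mk' (Cfsg.pPrimeCore p G)) x = 1 := (QuotientGroup.eq_one_iff x).mpr hx
    rw [this]; exact V'.one_mem
  -- V₀ = P ⊓ X
  have hV₀p : IsPGroup p ((P : Subgroup G) ⊓ V'.comap (QuotientGroup.mk' (Cfsg.pPrimeCore p G)) :
      Subgroup G) := P.isPGroup'.to_le inf_le_left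
  have hV'P : V' ≤ (P : Subgroup G).map (QuotientGroup.mk' (Cfsg.pPrimeCore p G)) := by
    have h1 := hV'.le_sylow_of_normal (Sylow.mapSurjective hsurjπ P)
    rwa [Sylow.coe_mapSurjective] at h1
  have hmap : ((P : Subgroup G) ⊓ V'.comap (QuotientGroup.mk' (Cfsg.pPrimeCore p G))).map
      (QuotientGroup.mk' (Cfsg.pPrimeCore p G)) = V' := by
    apply le_antisymm
    · rintro _ ⟨x, hx, rfl⟩
      exact (Subgroup.mem_inf.mp hx).2
    · intro v hv
      obtain ⟨x, hxP, rfl⟩ := Subgroup.mem_map.mp (hV'P hv)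
      exact Subgroup.mem_map.mpr ⟨x, Subgroup.mem_inf.mpr ⟨hxP, hv⟩, rfl⟩
  have hPN : (P : Subgroup G) ≤ Subgroup.normalizer
      (((P : Subgroup G) ⊓ V'.comap (QuotientGroup.mk' (Cfsg.pPrimeCore p G)) : Subgroup G) : Set G) := by
    intro g hg
    apply mem_normalizer_inf (Subgroup.le_normalizer hg)
    rw [normal_normalizer_eq_top]; trivial
  have haN := hPN haP
  have hAP : Subgroup.zpowers a ≤ (P : Subgroup G) := Subgroup.zpowers_le.mpr haP
  have hAp : IsPGroup p (Subgroup.zpowers a) := P.isPGroup'.to_le hAP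
  have hAN := hAP.trans hPN
  have hV₀le : (P : Subgroup G) ⊓ V'.comap (QuotientGroup.mk' (Cfsg.pPrimeCore p G)) ≤
      Cfsg.pPrimePCore p G := by
    intro x hx
    unfold Cfsg.pPrimePCore
    rw [Subgroup.mem_comap]
    exact Helper1.le_pCore hV'n hV' (Subgroup.mem_inf.mp hx).2
  have hsup : Cfsg.pPrimeCore p G ⊔ ((P : Subgroup G) ⊓
      V'.comap (QuotientGroup.mk' (Cfsg.pPrimeCore p G))) =
      V'.comap (QuotientGroup.mk' (Cfsg.pPrimeCore p G)) := by
    apply le_antisymm (sup_le hNX inf_le_right)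
    intro x hx
    have hx' : (QuotientGroup.mk' (Cfsg.pPrimeCore p G)) x ∈ V' := hx
    rw [← hmap] at hx'
    obtain ⟨v, hv, hvx⟩ := Subgroup.mem_map.mp hx'
    have h1 : v⁻¹ * x ∈ Cfsg.pPrimeCore p G := QuotientGroup.eq.mp hvx
    have h2 : x = v * (v⁻¹ * x) := by group
    rw [h2]
    exact Subgroup.mul_mem _ (Subgroup.mem_sup_right hv) (Subgroup.mem_sup_left h1)
  have hsupn : (Cfsg.pPrimeCore p G ⊔ ((P : Subgroup G) ⊓
      V'.comap (QuotientGroup.mk' (Cfsg.pPrimeCore p G)))).Normal := by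
    rw [hsup]; exact hXn
  have hquad : ⁅⁅((P : Subgroup G) ⊓ V'.comap (QuotientGroup.mk' (Cfsg.pPrimeCore p G)) : Subgroup G),
      Subgroup.zpowers a⁆, Subgroup.zpowers a⁆ = ⊥ := by
    have h1 : ⁅⁅((P : Subgroup G) ⊓ V'.comap (QuotientGroup.mk' (Cfsg.pPrimeCore p G)) : Subgroup G),
        Subgroup.zpowers a⁆, Subgroup.zpowers a⁆ ≤
        (P : Subgroup G) ⊓ V'.comap (QuotientGroup.mk' (Cfsg.pPrimeCore p G)) :=
      (Subgroup.commutator_mono (commutator_le_of_normalizes hAN) le_rfl).trans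
        (commutator_le_of_normalizes hAN)
    have h2 : (⁅⁅((P : Subgroup G) ⊓ V'.comap (QuotientGroup.mk' (Cfsg.pPrimeCore p G)) : Subgroup G),
        Subgroup.zpowers a⁆, Subgroup.zpowers a⁆).map (QuotientGroup.mk' (Cfsg.pPrimeCore p G)) = ⊥ := by
      have e1 := map_double_commutator (QuotientGroup.mk' (Cfsg.pPrimeCore p G))
        ((P : Subgroup G) ⊓ V'.comap (QuotientGroup.mk' (Cfsg.pPrimeCore p G))) (Subgroup.zpowers a)
      have e3 : (Subgroup.zpowers a).map (QuotientGroup.mk' (Cfsg.pPrimeCore p G)) =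
          Subgroup.zpowers ((QuotientGroup.mk' (Cfsg.pPrimeCore p G)) a) := MonoidHom.map_zpowers _ a
      rw [e1, e3, hmap]
      exact hq
    rw [Subgroup.map_eq_bot_iff, QuotientGroup.ker_mk'] at h2
    rw [eq_bot_iff]
    intro x hx
    rw [Subgroup.mem_bot]
    exact Helper5.h5_eq_one_of_mem_pgroup_of_mem_coprime hV₀p hNcop (h1 hx) (h2 hx)
  have hcon := hst (Subgroup.zpowers a) _ hAp hV₀p
    (fun a₁ ha₁ x hx => (Subgroup.mem_normalizer_iff.mp (hAN ha₁) x).mp hx) hV₀le hsupn hquad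
  -- Frattini
  have hfr := Sylow.normalizer_sup_eq_top (helper17.sylowInfNormal P
    (V'.comap (QuotientGroup.mk' (Cfsg.pPrimeCore p G))))
  rw [helper17.sylowInfNormal_map] at hfr
  have hfr2 : Subgroup.normalizer
      (((P : Subgroup G) ⊓ V'.comap (QuotientGroup.mk' (Cfsg.pPrimeCore p G)) : Subgroup G) : Set G) ⊔
      Cfsg.pPrimeCore p G = ⊤ := by
    rw [eq_top_iff, ← hfr]
    apply sup_le le_sup_left
    have h3 : Cfsg.pPrimeCore p G ⊔ ((P : Subgroup G) ⊓
        V'.comap (QuotientGroup.mk' (Cfsg.pPrimeCore p G))) ≤ Subgroup.normalizer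
        (((P : Subgroup G) ⊓ V'.comap (QuotientGroup.mk' (Cfsg.pPrimeCore p G)) : Subgroup G) : Set G) ⊔
        Cfsg.pPrimeCore p G :=
      sup_le le_sup_right (Subgroup.le_normalizer.trans le_sup_left)
    exact (le_of_eq hsup.symm).trans h3
  have hsurj : (Subgroup.normalizer
      (((P : Subgroup G) ⊓ V'.comap (QuotientGroup.mk' (Cfsg.pPrimeCore p G)) : Subgroup G) : Set G)).map
      (QuotientGroup.mk' (Cfsg.pPrimeCore p G)) = ⊤ := by
    have h1 := congrArg (Subgroup.map (QuotientGroup.mk' (Cfsg.pPrimeCore p G))) hfr2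
    rw [Subgroup.map_sup, Subgroup.map_top_of_surjective _ hsurjπ] at h1
    have h2 : (Cfsg.pPrimeCore p G).map (QuotientGroup.mk' (Cfsg.pPrimeCore p G)) = ⊥ := by
      rw [Subgroup.map_eq_bot_iff, QuotientGroup.ker_mk']
    rw [h2, sup_bot_eq] at h1
    exact h1
  exact pstable_transfer (p := p) (QuotientGroup.mk' (Cfsg.pPrimeCore p G)) _ V' hmap hsurj
    (Subgroup.zpowers a) hcon a (Subgroup.mem_zpowers a) haN

end ZJ13

end Cfsg.Agent.Lib.Helper9
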