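import Mathlib
import Cfsg.Prelude.Def_Local
import Cfsg.Agent.Lib.Helper9.ZJ13
import Cfsg.Agent.Lib.Helper9.ZJ14

set_option autoImplicit false

namespace Cfsg.Agent.Lib.Helper9

open scoped Pointwise commutatorElement

section ZJ15

variable {G : Type*} [Group G]

/-- Frattini argument for a `p`-subgroup `Z` with `Z ⊔ N` normal, `N` a normal `p'`-subgroup. -/
theorem sup_normalizer_eq_top_of_sup_normal [Finite G] {p : ℕ} [Fact p.Prime] (Z N : Subgroup G)
    [hNn : N.Normal] (hZ : IsPGroup p Z) (hN : (Nat.card N).Coprime p) (hY : (Z ⊔ N).Normal) :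
    N ⊔ Subgroup.normalizer (Z : Set G) = ⊤ := by
  have hidx : ¬ p ∣ (Z.subgroupOf (Z ⊔ N)).index := by
    change ¬ p ∣ Z.relIndex (Z ⊔ N)
    rw [← helper17.relIndex_eq_relIndex_sup_of_normal]
    intro h
    have h1 := h.trans (Subgroup.relIndex_dvd_card Z N)
    have h2 := Nat.Coprime.eq_one_of_dvd hN.symm h1
    exact (Fact.out : p.Prime).one_lt.ne' h2
  have hZp : IsPGroup p (Z.subgroupOf (Z ⊔ N)) := hZ.comap_subtype
  have hfr := Sylow.normalizer_sup_eq_top (hZp.toSylow hidx)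
  rw [IsPGroup.toSylow_coe, Subgroup.subgroupOf_map_subtype, inf_eq_left.mpr le_sup_left] at hfr
  rw [eq_top_iff, ← hfr]
  apply sup_le le_sup_right
  apply sup_le (Subgroup.le_normalizer.trans le_sup_right) le_sup_left

theorem zj_factorization [Finite G] {p : ℕ} [Fact p.Prime] (hp : p ≠ 2)
    (hc : Cfsg.IsPConstrained p G) (hs : Cfsg.IsPStable p G) (P : Sylow p G) :
    Cfsg.pPrimeCore p G ⊔ Subgroup.normalizer
      (zfam (fun A : Subgroup G => IsMulCommutative A) (P : Subgroup G) : Set G) = ⊤ := by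
  have hsurjπ : Function.Surjective (QuotientGroup.mk' (Cfsg.pPrimeCore p G)) :=
    QuotientGroup.mk'_surjective _
  have hNcop : (Nat.card (Cfsg.pPrimeCore p G)).Coprime p := Helper1.pPrimeCore_card_coprime p
  have hc' := Helper5.h5_isPConstrained_iff_quotient.mp hc
  have hst' := hst_quotient_of_isPStable hs P
  have hcoe : ((Sylow.mapSurjective hsurjπ P : Sylow p (G ⧸ Cfsg.pPrimeCore p G)) :
      Subgroup (G ⧸ Cfsg.pPrimeCore p G)) =
      (P : Subgroup G).map (QuotientGroup.mk' (Cfsg.pPrimeCore p G)) := Sylow.coe_mapSurjective hsurjπ P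
  have hnorm := zfam_normal _ (Sylow.mapSurjective hsurjπ P) (zjhyp_comm hp _) hc'
    (by rw [hcoe]; exact hst')
  have hinj : Set.InjOn (QuotientGroup.mk' (Cfsg.pPrimeCore p G)) ((P : Subgroup G) : Set G) := by
    intro x hx y hy hxy
    have h1 : x⁻¹ * y ∈ Cfsg.pPrimeCore p G := QuotientGroup.eq.mp hxy
    have h2 : x⁻¹ * y ∈ (P : Subgroup G) := Subgroup.mul_mem _ (Subgroup.inv_mem _ hx) hy
    have h3 := Helper5.h5_eq_one_of_mem_pgroup_of_mem_coprime P.isPGroup' hNcop h2 h1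
    exact inv_mul_eq_one.mp h3
  rw [hcoe, zfam_comm_map_of_injOn _ _ hinj] at hnorm
  have hY : ((zfam (fun A : Subgroup G => IsMulCommutative A) (P : Subgroup G)) ⊔
      Cfsg.pPrimeCore p G).Normal := by
    have h1 := hnorm.comap (QuotientGroup.mk' (Cfsg.pPrimeCore p G))
    rw [Subgroup.comap_map_eq, QuotientGroup.ker_mk'] at h1
    exact h1
  exact sup_normalizer_eq_top_of_sup_normal _ _ (P.isPGroup'.to_le (zfam_comm_le _)) hNcop hY

end ZJ15

end Cfsg.Agent.Lib.Helper9
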