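import Mathlib
import Cfsg.Prelude.Def_Local
import Cfsg.Agent.Lib.Helper9.ZJ15

set_option autoImplicit false

namespace Cfsg.Agent.Lib.Helper9

open scoped Pointwise commutatorElement

section ZJ16

theorem pstable_transfer_iff {X Y : Type*} [Group X] [Group Y] {p : ℕ} [Fact p.Prime] (π : X →* Y)
    (V₀ : Subgroup X) (V' : Subgroup Y) [V'.Normal]
    (hV : V₀.map π = V') (hsurj : (Subgroup.normalizer (V₀ : Set X)).map π = ⊤)
    (hker : ∀ n ∈ Subgroup.normalizer (V₀ : Set X), π n ∈ Subgroup.centralizer (V' : Set Y) →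
      n ∈ Subgroup.centralizer (V₀ : Set X))
    (a : X) (haN : a ∈ Subgroup.normalizer (V₀ : Set X)) :
    (QuotientGroup.mk' ((Subgroup.centralizer (V₀ : Set X)).subgroupOf
        (Subgroup.normalizer (V₀ : Set X)))) ⟨a, haN⟩ ∈ Cfsg.pCore p _ ↔
    (QuotientGroup.mk (π a) : Y ⧸ Subgroup.centralizer (V' : Set Y)) ∈
      Cfsg.pCore p (Y ⧸ Subgroup.centralizer (V' : Set Y)) := by
  let ψ : ↥(Subgroup.normalizer (V₀ : Set X)) →* Y ⧸ Subgroup.centralizer (V' : Set Y) :=
    (QuotientGroup.mk' (Subgroup.centralizer (V' : Set Y))).comp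
      (π.comp (Subgroup.normalizer (V₀ : Set X)).subtype)
  have hkerle : (Subgroup.centralizer (V₀ : Set X)).subgroupOf (Subgroup.normalizer (V₀ : Set X)) ≤
      ψ.ker := by
    intro n hn
    rw [Subgroup.mem_subgroupOf] at hn
    rw [MonoidHom.mem_ker]
    show (QuotientGroup.mk (π (n : X)) : Y ⧸ Subgroup.centralizer (V' : Set Y)) = 1
    rw [QuotientGroup.eq_one_iff, Subgroup.mem_centralizer_iff]
    intro y hy
    rw [← hV] at hy
    obtain ⟨v, hv, rfl⟩ := Subgroup.mem_map.mp hy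
    rw [← map_mul, ← map_mul, Subgroup.mem_centralizer_iff.mp hn v hv]
  let ψ' := QuotientGroup.lift _ ψ hkerle
  have hψ'surj : Function.Surjective ψ' := by
    intro y
    obtain ⟨y₀, rfl⟩ := QuotientGroup.mk_surjective y
    have h1 : y₀ ∈ (Subgroup.normalizer (V₀ : Set X)).map π := by rw [hsurj]; trivial
    obtain ⟨n, hn, rfl⟩ := Subgroup.mem_map.mp h1
    exact ⟨QuotientGroup.mk ⟨n, hn⟩, rfl⟩
  have hψ'inj : Function.Injective ψ' := by
    rw [injective_iff_map_eq_one]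
    intro x hx
    obtain ⟨n, rfl⟩ := QuotientGroup.mk_surjective x
    have h1 : (QuotientGroup.mk (π (n : X)) : Y ⧸ Subgroup.centralizer (V' : Set Y)) = 1 := hx
    rw [QuotientGroup.eq_one_iff] at h1
    have h2 := hker n n.2 h1
    rw [QuotientGroup.eq_one_iff, Subgroup.mem_subgroupOf]
    exact h2
  let e := MulEquiv.ofBijective ψ' ⟨hψ'inj, hψ'surj⟩
  have he : e ((QuotientGroup.mk' ((Subgroup.centralizer (V₀ : Set X)).subgroupOf
        (Subgroup.normalizer (V₀ : Set X)))) ⟨a, haN⟩) =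
      (QuotientGroup.mk (π a) : Y ⧸ Subgroup.centralizer (V' : Set Y)) := rfl
  rw [← he]
  exact (Helper5.h5_mem_pCore_equiv e _).symm

end ZJ16

end Cfsg.Agent.Lib.Helper9
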