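import Mathlib
import Cfsg.Prelude.Def_Characters
import Cfsg.Prelude.Def_Blocks
import Cfsg.Prelude.Def_Local
import Cfsg.Prelude.Def_CaseTheorems
import Cfsg.Agent.Lib.Helper11.IndNormal
import Cfsg.Agent.Lib.helper2.GlaubCyc4
import Cfsg.Agent.Lib.helper7.CliffordSub
import Cfsg.Agent.S0867

/-!
# Project PSB (helper10), piece CAN: canonical extension to a subgroup of the stabilizer
-/

set_option autoImplicit false

namespace Cfsg.Agent.Lib.Helper10.PSB

open Cfsg.Agent.Lib.Helper11

theorem canon_stab {L : Type*} [Group L] [Finite L] (H : Subgroup L) [H.Normal]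
    (hcop : (Nat.card H).Coprime H.index) (θ : H → ℂ) (hθ : Cfsg.IsIrrCharacter H θ)
    (T : Subgroup L) (hHT : H ≤ T) (hT : ∀ t ∈ T, cj H θ t = θ) :
    ∃ φ : T → ℂ, Cfsg.IsIrrCharacter T φ ∧ (∀ h : H, φ ⟨(h : L), hHT h.2⟩ = θ h) ∧
      ∀ (x : T) (m : ℕ), (x : L) ^ H.index = 1 → m.Coprime H.index → φ (x ^ m) = φ x := by
  classical
  -- the normal subgroup N = H ∩ T of the group T
  let N : Subgroup T := H.subgroupOf T
  have hNn : N.Normal := Subgroup.normal_subgroupOf
  let e : N ≃* H := Subgroup.subgroupOfEquivOfLe hHT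
  have he : ∀ n : N, ((e n : H) : L) = ((n : T) : L) := fun n => rfl
  have hcardN : Nat.card N = Nat.card H := Nat.card_congr e.toEquiv
  have hidx : N.index ∣ H.index := by
    have h1 : N.index = H.relIndex T := rfl
    rw [h1]
    exact Subgroup.relIndex_dvd_index_of_le hHT
  have hcopN : (Nat.card N).Coprime N.index := by
    rw [hcardN]
    exact Nat.Coprime.coprime_dvd_right hidx hcop
  set ϑ : N → ℂ := fun n => θ (e n) with hϑdef
  have hϑ : Cfsg.IsIrrCharacter N ϑ := Cfsg.Agent.Lib.helper7.h7_isIrr_comp_equiv e θ hθ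
  have hinv : ∀ (g : T) (n : N), ϑ ⟨g * n * g⁻¹, hNn.conj_mem (n : T) n.2 g⟩ = ϑ n := by
    intro g n
    have h1 := congrFun (hT (g : L) g.2) (e n)
    rw [cj_apply] at h1
    rw [hϑdef]
    show θ (e ⟨g * n * g⁻¹, _⟩) = θ (e n)
    rw [← h1]
    congr 1
  obtain ⟨d, -, hd1, hd2⟩ :=
    Cfsg.Agent.Lib.helper2.irr_degree_dvd_card (⟨ϑ, hϑ⟩ : Cfsg.IrrCharacter N)
  have hd1' : ϑ 1 = (d : ℂ) := hd1
  have hcop' : Nat.Coprime N.index (Cfsg.detOrder ϑ * d) := by
    apply Nat.Coprime.mul_right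
    · exact (Nat.Coprime.coprime_dvd_left (Cfsg.Agent.Lib.helper2.gc_detOrder_dvd hϑ) hcopN).symm
    · exact (Nat.Coprime.coprime_dvd_left hd2 hcopN).symm
  obtain ⟨φ, ⟨hφ, hφres, hφdet⟩, -⟩ := Cfsg.Agent.S0867.result N ϑ hϑ hinv d hd1' hcop'
  refine ⟨φ, hφ, ?_, ?_⟩
  · intro h
    have h1 := hφres (e.symm h)
    have h2 : ((e.symm h : N) : T) = ⟨(h : L), hHT h.2⟩ := by
      apply Subtype.ext
      have := he (e.symm h)
      rw [MulEquiv.apply_symm_apply] at this
      exact this.symm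
    rw [h2] at h1
    rw [h1, hϑdef]
    show θ (e (e.symm h)) = θ h
    rw [MulEquiv.apply_symm_apply]
  · intro x m hx hm
    have hres : Cfsg.IsIrrCharacter N (fun n : N => φ n) := by
      have : (fun n : N => φ n) = ϑ := funext hφres
      rw [this]; exact hϑ
    have hdet : (Cfsg.detOrder φ).Coprime N.index := by
      rw [hφdet]
      exact Nat.Coprime.coprime_dvd_left (Cfsg.Agent.Lib.helper2.gc_detOrder_dvd hϑ) hcopN
    have hm' : m.Coprime N.index := Nat.Coprime.coprime_dvd_right hidx hm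
    -- x ^ N.index = 1
    have hs : x ^ N.index = 1 := by
      have hmem : x ^ N.index ∈ N := Subgroup.pow_index_mem N x
      set y : N := ⟨x ^ N.index, hmem⟩ with hy
      have h1 : y ^ Nat.card N = 1 := pow_card_eq_one'
      have h2 : y ^ H.index = 1 := by
        apply Subtype.ext
        apply Subtype.ext
        show ((x ^ N.index) ^ H.index : T).1 = 1
        rw [← pow_mul, mul_comm, pow_mul]
        have : ((x ^ H.index : T) : L) = 1 := by
          rw [Subgroup.coe_pow]; exact hx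
        have h3 : x ^ H.index = 1 := Subtype.ext this
        rw [h3, one_pow]
        rfl
      have h3 : orderOf y ∣ Nat.gcd (Nat.card N) H.index :=
        Nat.dvd_gcd (orderOf_dvd_of_pow_eq_one h1) (orderOf_dvd_of_pow_eq_one h2)
      rw [hcardN] at h3
      have h4 : Nat.gcd (Nat.card H) H.index = 1 := hcop
      rw [h4, Nat.dvd_one, orderOf_eq_one_iff] at h3
      have := congrArg Subtype.val h3
      exact this
    have := Cfsg.Agent.Lib.helper2.gc_value_gen N hcopN φ hφ hres hdet 1 x (one_mem N)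
      (by rw [one_mul, mul_one]) hs m hm'
    rw [one_mul, one_mul] at this
    exact this

end Cfsg.Agent.Lib.Helper10.PSB
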