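import Mathlib
import Cfsg.Prelude.Def_Characters
import Cfsg.Prelude.Def_Blocks
import Cfsg.Prelude.Def_Local
import Cfsg.Prelude.Def_CaseTheorems
import Cfsg.Agent.Lib.Helper11.IndNormal
import Cfsg.Agent.Lib.helper2.SchurBound1
import Cfsg.Agent.Lib.helper2.SchurBound2

/-!
# Project PSB (helper10), piece PB: Schur's `p`-group bound with a kernel
-/

set_option autoImplicit false

namespace Cfsg.Agent.Lib.Helper10.PSB

open Cfsg.Agent.Lib.Helper11
open Cfsg.Agent.Lib.helper2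
open scoped ComplexConjugate

/-- Blichfeldt's divisibility with a kernel: `|P|` divides `|{x : v x = v 1}| * ∏ (v 1 - t)` over
the values `t ≠ v 1` of an integer valued character. -/
theorem psbpb_blichfeldt {P : Type*} [Group P] [Fintype P] (ψ : P → ℂ)
    (hψ : Cfsg.IsCharacter P ψ) (v : P → ℤ) (hv : ∀ x, ψ x = v x) (T : Finset ℤ)
    (hT : ∀ x, v x ≠ v 1 → v x ∈ T) :
    (Nat.card P : ℤ) ∣
      ((Finset.univ.filter (fun x : P => v x = v 1)).card : ℤ) * ∏ t ∈ T, (v 1 - t) := by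
  classical
  set Q : Polynomial ℤ := ∏ t ∈ T, (Polynomial.X - Polynomial.C t) with hQ
  have heval : ∀ y : ℤ, Q.eval y = ∏ t ∈ T, (y - t) := by
    intro y
    rw [hQ, Polynomial.eval_prod]
    simp
  have hzero : ∀ x, v x ≠ v 1 → Q.eval (v x) = 0 := by
    intro x hx
    rw [heval]
    exact Finset.prod_eq_zero (hT x hx) (sub_self _)
  have hc : (Nat.card P : ℂ) ≠ 0 := by
    have : 0 < Nat.card P := Nat.card_pos
    exact_mod_cast this.ne'
  have hmom : ∀ j : ℕ, ∃ m : ℕ, ∑ x : P, (v x) ^ j = (Nat.card P : ℤ) * m := by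
    intro j
    obtain ⟨m, hm⟩ := classInner_character_nat (sb_isCharacter_pow hψ j) (sb_isCharacter_one P)
    refine ⟨m, ?_⟩
    unfold Cfsg.classInner at hm
    have h1 : (∑ x : P, ((v x : ℂ)) ^ j) = (Nat.card P : ℂ) * m := by
      rw [← hm, ← mul_assoc, mul_inv_cancel₀ hc, one_mul]
      refine Finset.sum_congr rfl fun x _ => ?_
      show ((v x : ℂ)) ^ j = ψ x ^ j * conj (1 : ℂ)
      rw [hv x]
      simp
    exact_mod_cast h1
  choose m hm using hmom
  have hsum : ∑ x : P, Q.eval (v x) =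
      ((Finset.univ.filter (fun x : P => v x = v 1)).card : ℤ) * Q.eval (v 1) := by
    have h1 : ∀ x : P, Q.eval (v x) = if v x = v 1 then Q.eval (v 1) else 0 := by
      intro x
      by_cases hx : v x = v 1
      · rw [if_pos hx, hx]
      · rw [if_neg hx]; exact hzero x hx
    rw [Finset.sum_congr rfl (fun x _ => h1 x), ← Finset.sum_filter, Finset.sum_const,
      nsmul_eq_mul]
  have hsum2 : ∑ x : P, Q.eval (v x) =
      (Nat.card P : ℤ) * ∑ j ∈ Finset.range (Q.natDegree + 1), Q.coeff j * m j := by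
    simp only [Polynomial.eval_eq_sum_range]
    rw [Finset.sum_comm, Finset.mul_sum]
    refine Finset.sum_congr rfl fun j _ => ?_
    rw [← Finset.mul_sum, hm j]
    ring
  rw [← heval, ← hsum, hsum2]
  exact dvd_mul_right _ _

theorem pb_bound {P : Type*} [Group P] [Finite P] (p : ℕ) [Fact p.Prime] (a : ℕ)
    (hP : Nat.card P = p ^ a) (ψ : P → ℂ) (hψ : Cfsg.IsCharacter P ψ) (n : ℕ) (hn : ψ 1 = (n : ℂ))
    (hinv : ∀ (x : P) (m : ℕ), m.Coprime p → ψ (x ^ m) = ψ x)
    (K : Subgroup P) (hK : ∀ x : P, ψ x = ψ 1 → x ∈ K) :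
    a ≤ (Nat.card K).factorization p + ∑ i ∈ Finset.range (n + 1), n / ((p - 1) * p ^ i) := by
  classical
  have hp : p.Prime := Fact.out
  haveI : Fintype P := Fintype.ofFinite _
  choose v hv hvle hvdvd hvlow using sb_values p a hP ψ hψ n hn hinv
  have hv1 : v 1 = (n : ℤ) := by
    have h1 := hv 1
    rw [hn] at h1
    exact_mod_cast h1.symm
  set T : Finset ℤ := (Finset.univ.filter (fun x : P => v x ≠ v 1)).image v with hT
  have hbl := psbpb_blichfeldt ψ hψ v hv T
    (fun x hx => Finset.mem_image.mpr ⟨x, Finset.mem_filter.mpr ⟨Finset.mem_univ _, hx⟩, rfl⟩)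
  set Z : Finset P := Finset.univ.filter (fun x : P => v x = v 1) with hZ
  have hTlt : ∀ t ∈ T, t < (n : ℤ) := by
    intro t ht
    obtain ⟨x, hx, rfl⟩ := Finset.mem_image.mp ht
    have hx1 : v x ≠ v 1 := (Finset.mem_filter.mp hx).2
    rw [hv1] at hx1
    exact lt_of_le_of_ne (hvle x) hx1
  have hMpos : 0 < ∏ t ∈ T, ((n : ℤ) - t) :=
    Finset.prod_pos (fun t ht => by linarith [hTlt t ht])
  obtain ⟨M, hM⟩ : ∃ M : ℕ, ∏ t ∈ T, ((n : ℤ) - t) = (M : ℤ) :=
    ⟨Int.toNat _, (Int.toNat_of_nonneg hMpos.le).symm⟩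
  have hMne : M ≠ 0 := by
    intro h0
    rw [h0] at hM
    rw [hM] at hMpos
    exact lt_irrefl _ hMpos
  set b := padicValNat p M with hb
  have hble : b ≤ ∑ i ∈ Finset.range (n + 1), n / ((p - 1) * p ^ i) := by
    apply sb_arith p n b T _ hTlt _ _
    · intro t ht
      obtain ⟨x, _, rfl⟩ := Finset.mem_image.mp ht
      exact hvdvd x
    · intro t ht
      obtain ⟨x, _, rfl⟩ := Finset.mem_image.mp ht
      exact hvlow x
    · rw [hM]
      have : p ^ b ∣ M := pow_padicValNat_dvd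
      exact_mod_cast this
  have hdvd : p ^ a ∣ Z.card * M := by
    rw [hv1, hP, hM] at hbl
    exact_mod_cast hbl
  have hZne : Z.card ≠ 0 := by
    have h1 : (1 : P) ∈ Z := Finset.mem_filter.mpr ⟨Finset.mem_univ _, rfl⟩
    exact (Finset.card_pos.mpr ⟨1, h1⟩).ne'
  have ha : a ≤ padicValNat p (Z.card * M) :=
    (padicValNat_dvd_iff_le (Nat.mul_ne_zero hZne hMne)).mp hdvd
  rw [padicValNat.mul hZne hMne] at ha
  have hZK : Z.card ≤ Nat.card K := by
    rw [Nat.card_eq_fintype_card, Fintype.card_subtype]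
    apply Finset.card_le_card
    intro x hx
    have hx1 : v x = v 1 := (Finset.mem_filter.mp hx).2
    refine Finset.mem_filter.mpr ⟨Finset.mem_univ _, ?_⟩
    apply hK
    rw [hv x, hv 1, hx1]
  obtain ⟨k, -, hKcard⟩ : ∃ k, k ≤ a ∧ Nat.card K = p ^ k := by
    have h1 : Nat.card K ∣ p ^ a := hP ▸ K.card_subgroup_dvd_card
    exact (Nat.dvd_prime_pow hp).1 h1
  have hZk : padicValNat p Z.card ≤ k := by
    have h1 : p ^ padicValNat p Z.card ≤ Z.card :=
      Nat.le_of_dvd (Nat.pos_of_ne_zero hZne) pow_padicValNat_dvd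
    have h2 : p ^ padicValNat p Z.card ≤ p ^ k := h1.trans (hZK.trans hKcard.le)
    exact (Nat.pow_le_pow_iff_right hp.one_lt).mp h2
  have hfac : (Nat.card K).factorization p = k := by
    rw [hKcard, Nat.Prime.factorization_pow hp]
    simp
  rw [hfac]
  omega

end Cfsg.Agent.Lib.Helper10.PSB
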