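import Mathlib

set_option autoImplicit false

namespace Cfsg.Agent.Lib.Helper9

/-- a subgroup of exponent two inside a cyclic subgroup has at most two elements -/
theorem card_le_two_of_le_cyclic {K : Type*} [Group K] [Finite K] (C : Subgroup K) [IsCyclic C]
    (W : Subgroup K) (hWC : W ≤ C) (hW2 : ∀ w ∈ W, w * w = 1) : Nat.card W ≤ 2 := by
  classical
  haveI : Fintype ↥C := Fintype.ofFinite _
  have h1 := IsCyclic.card_pow_eq_one_le (α := ↥C) (n := 2) (by norm_num)
  let f : W → {a : ↥C // a ^ 2 = 1} := fun w =>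
    ⟨⟨w.1, hWC w.2⟩, by
      apply Subtype.ext
      simp only [Subgroup.coe_pow, Subgroup.coe_one]
      rw [pow_two]
      exact hW2 w.1 w.2⟩
  have hf : Function.Injective f := by
    intro w w' h
    apply Subtype.ext
    have := congrArg (fun a : {a : ↥C // a ^ 2 = 1} => ((a.1 : ↥C) : K)) h
    exact this
  have h2 := Nat.card_le_card_of_injective f hf
  have h3 : Nat.card {a : ↥C // a ^ 2 = 1} = (Finset.univ.filter (fun a : ↥C => a ^ 2 = 1)).card := by
    rw [Nat.card_eq_fintype_card, Fintype.card_subtype]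
  omega

/-- Klein four-subgroups are self-centralizing in a group with a cyclic subgroup of index two
on which the outer elements act without nontrivial fixed squares -/
theorem centralizer_le_of_cyclic_index_two {K : Type*} [Group K] [Finite K] (C : Subgroup K)
    [IsCyclic C] (hidx : C.index = 2)
    (hy : ∀ y, y ∉ C → ∀ c ∈ C, c * y = y * c → c * c = 1)
    (V : Subgroup K) (hV4 : 4 ≤ Nat.card V) (hV2 : ∀ v ∈ V, v * v = 1) :
    Subgroup.centralizer (V : Set K) ≤ V := by
  have hex : ∃ y ∈ V, y ∉ C := by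
    by_contra hno
    push Not at hno
    have := card_le_two_of_le_cyclic C V hno hV2
    omega
  obtain ⟨y, hyV, hyC⟩ := hex
  haveI : C.Normal := Subgroup.normal_of_index_eq_two hidx
  have h1 : Nat.card ↥(C ⊓ Subgroup.centralizer ({y} : Set K)) ≤ 2 := by
    apply card_le_two_of_le_cyclic C _ inf_le_left
    intro w hw
    obtain ⟨hwC, hwZ⟩ := Subgroup.mem_inf.1 hw
    rw [Subgroup.mem_centralizer_singleton_iff] at hwZ
    exact hy y hyC w hwC hwZ
  have h2 : Nat.card ↥(Subgroup.centralizer ({y} : Set K)) ≤ 4 := by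
    have e1 := Subgroup.card_mul_index (C.subgroupOf (Subgroup.centralizer ({y} : Set K)))
    have e2 : Nat.card ↥(C.subgroupOf (Subgroup.centralizer ({y} : Set K))) =
        Nat.card ↥(C ⊓ Subgroup.centralizer ({y} : Set K)) := by
      rw [← Subgroup.inf_subgroupOf_right]
      exact Nat.card_congr (Subgroup.subgroupOfEquivOfLe inf_le_right).toEquiv
    have e3 : (C.subgroupOf (Subgroup.centralizer ({y} : Set K))).index ∣ 2 := by
      have := Subgroup.relIndex_dvd_index_of_normal C (Subgroup.centralizer ({y} : Set K))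
      rwa [hidx] at this
    have e4 : (C.subgroupOf (Subgroup.centralizer ({y} : Set K))).index ≤ 2 :=
      Nat.le_of_dvd (by norm_num) e3
    rw [e2] at e1
    calc Nat.card ↥(Subgroup.centralizer ({y} : Set K))
        = Nat.card ↥(C ⊓ Subgroup.centralizer ({y} : Set K)) *
          (C.subgroupOf (Subgroup.centralizer ({y} : Set K))).index := e1.symm
      _ ≤ 2 * 2 := Nat.mul_le_mul h1 e4
      _ = 4 := by norm_num
  have h3 : Subgroup.centralizer (V : Set K) ≤ Subgroup.centralizer ({y} : Set K) :=
    Subgroup.centralizer_le (by intro z hz; rw [Set.mem_singleton_iff] at hz; rw [hz]; exact hyV)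
  have h4 : V ≤ Subgroup.centralizer (V : Set K) := by
    intro v hv
    rw [Subgroup.mem_centralizer_iff]
    intro w hw
    have a1 := hV2 v hv
    have a2 := hV2 w hw
    have a3 := hV2 (w * v) (mul_mem hw hv)
    have i1 : v⁻¹ = v := inv_eq_of_mul_eq_one_right a1
    have i2 : w⁻¹ = w := inv_eq_of_mul_eq_one_right a2
    have i3 : (w * v)⁻¹ = w * v := inv_eq_of_mul_eq_one_right a3
    calc w * v = (w * v)⁻¹ := i3.symm
      _ = v⁻¹ * w⁻¹ := mul_inv_rev _ _
      _ = v * w := by rw [i1, i2]
  have h5 : Nat.card ↥(Subgroup.centralizer (V : Set K)) ≤ Nat.card V :=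
    le_trans (le_trans (Subgroup.card_le_of_le h3) h2) hV4
  exact (Subgroup.eq_of_le_of_card_ge h4 h5).ge

end Cfsg.Agent.Lib.Helper9
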