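import Mathlib
import Cfsg.Agent.Lib.Helper9.AutRank1
import Cfsg.Agent.Lib.Helper1.BurnsideBasis

set_option autoImplicit false

namespace Cfsg.Agent.Lib.Helper9

section
variable {X : Type*} [Group X]

/-- a subgroup of index two is a coatom -/
theorem mt_isCoatom_of_index_two {M : Subgroup X} (hM : M.index = 2) : IsCoatom M := by
  constructor
  · intro htop
    rw [htop, Subgroup.index_top] at hM
    omega
  · intro K hK
    have h1 := Subgroup.relIndex_mul_index hK.le
    rw [hM] at h1
    have h2 : K.index ∣ 2 := Dvd.intro_left _ h1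
    rcases (Nat.dvd_prime Nat.prime_two).1 h2 with h3 | h3
    · exact Subgroup.index_eq_one.1 h3
    · exfalso
      rw [h3] at h1
      have h4 : M.relIndex K = 1 := by omega
      have := Subgroup.relIndex_eq_one.1 h4
      exact (not_le_of_gt hK) this

/-- an automorphism of odd prime order of a two-generated finite `2`-group stabilizes no subgroup
of index two -/
theorem mt_no_invariant_index_two [Finite X] (hX : IsPGroup 2 X) (a b : X)
    (hgen : Subgroup.closure ({a, b} : Set X) = ⊤) {q : ℕ} [hq : Fact q.Prime] (hq2 : q ≠ 2)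
    (α : MulAut X) (hα : α ^ q = 1) (hα1 : α ≠ 1) (M : Subgroup X)
    (hMst : ∀ x ∈ M, α x ∈ M) (hMi : M.index = 2) : False := by
  classical
  haveI : Fact (Nat.Prime 2) := ⟨Nat.prime_two⟩
  have hcoatom := mt_isCoatom_of_index_two hMi
  have hΦM : frattini X ≤ M := frattini_le_coatom hcoatom
  have hΦst : ∀ x ∈ frattini X, α x ∈ frattini X := by
    intro x hx
    have := (Subgroup.characteristic_iff_map_eq.1 (frattini_characteristic (G := X))) α
    rw [← this]
    exact Subgroup.mem_map.2 ⟨x, hx, rfl⟩
  -- cardinalities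
  have hXM : Nat.card X = 2 * Nat.card M := by
    rw [← Subgroup.card_mul_index M, hMi, mul_comm]
  have hXΦ : Nat.card X ≤ 4 * Nat.card (frattini X) := by
    have := Cfsg.Agent.Lib.Helper1.card_closure_sup_frattini_le hX ({a, b} : Finset X)
    rw [Finset.coe_insert, Finset.coe_singleton, hgen, top_sup_eq, Subgroup.card_top] at this
    have h2 : ({a, b} : Finset X).card ≤ 2 := Finset.card_le_two
    calc Nat.card X ≤ 2 ^ ({a, b} : Finset X).card * Nat.card (frattini X) := this
      _ ≤ 2 ^ 2 * Nat.card (frattini X) :=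
        Nat.mul_le_mul_right _ (Nat.pow_le_pow_right (by norm_num) h2)
      _ = 4 * Nat.card (frattini X) := by norm_num
  have hqcop : ∀ S : Subgroup X, ¬ q ∣ Nat.card S := by
    intro S hdvd
    obtain ⟨k, hk⟩ := IsPGroup.iff_card.1 (hX.to_subgroup S)
    rw [hk] at hdvd
    have := (Nat.prime_dvd_prime_iff_eq hq.out Nat.prime_two).1 (hq.out.dvd_of_dvd_pow hdvd)
    exact hq2 this
  have hmodtop := ar_card_modEq α hα ⊤ (fun x _ => Subgroup.mem_top _)
  rw [top_inf_eq, Subgroup.card_top] at hmodtop
  have hmodM := ar_card_modEq α hα M hMst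
  have hmodΦ := ar_card_modEq α hα (frattini X) hΦst
  -- a fixed point outside M
  have hFM : ¬ arFix α ≤ M := by
    intro hle
    have heq : M ⊓ arFix α = arFix α := inf_eq_right.2 hle
    rw [heq] at hmodM
    have h1 : Nat.card X ≡ Nat.card M [MOD q] := hmodtop.trans hmodM.symm
    rw [hXM] at h1
    have h2 : q ∣ 2 * Nat.card M - Nat.card M :=
      (Nat.modEq_iff_dvd' (by omega)).1 h1.symm
    have h3 : 2 * Nat.card M - Nat.card M = Nat.card M := by omega
    rw [h3] at h2
    exact hqcop M h2
  -- K = F ⊔ Φ contains M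
  have hKM : M ≤ arFix α ⊔ frattini X := by
    by_contra hnle
    -- (F ⊔ Φ) ⊓ M is a proper subgroup of M containing Φ
    have h1 : frattini X ≤ (arFix α ⊔ frattini X) ⊓ M := le_inf le_sup_right hΦM
    have h2 : (arFix α ⊔ frattini X) ⊓ M < M := by
      refine lt_of_le_of_ne inf_le_right ?_
      intro heq
      apply hnle
      rw [← heq]; exact inf_le_left
    have hc2 : Nat.card ↥((arFix α ⊔ frattini X) ⊓ M) < Nat.card M := by
      by_contra hcon
      exact (ne_of_lt h2) (Subgroup.eq_of_le_of_card_ge h2.le (not_lt.mp hcon))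
    have hd2 : Nat.card ↥((arFix α ⊔ frattini X) ⊓ M) ∣ Nat.card M :=
      Subgroup.card_dvd_of_le inf_le_right
    have hd1 : Nat.card (frattini X) ∣ Nat.card ↥((arFix α ⊔ frattini X) ⊓ M) :=
      Subgroup.card_dvd_of_le h1
    -- |M| ≤ 2 |Φ|
    have hMΦ : Nat.card M ≤ 2 * Nat.card (frattini X) := by omega
    obtain ⟨u, hu⟩ := hd2
    obtain ⟨v, hv⟩ := hd1
    have hpos : 0 < Nat.card (frattini X) := Nat.card_pos
    have hpos2 : 0 < Nat.card ↥((arFix α ⊔ frattini X) ⊓ M) := Nat.card_pos
    have hu2 : 2 ≤ u := by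
      by_contra hlt
      have : u = 0 ∨ u = 1 := by omega
      rcases this with h0 | h0
      · rw [h0, mul_zero] at hu
        have : 0 < Nat.card M := Nat.card_pos
        omega
      · rw [h0, mul_one] at hu
        omega
    have hv1 : v = 1 := by
      by_contra hne
      have hv0 : v ≠ 0 := by
        intro h0
        rw [h0, mul_zero] at hv
        omega
      have hv2 : 2 ≤ v := by omega
      have : Nat.card M ≥ (Nat.card (frattini X) * 2) * 2 := by
        rw [hu, hv]
        calc Nat.card (frattini X) * v * u ≥ Nat.card (frattini X) * 2 * u :=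
            Nat.mul_le_mul_right _ (Nat.mul_le_mul_left _ hv2)
          _ ≥ Nat.card (frattini X) * 2 * 2 := Nat.mul_le_mul_left _ hu2
      omega
    rw [hv1, mul_one] at hv
    have hKΦ : (arFix α ⊔ frattini X) ⊓ M = frattini X :=
      (Subgroup.eq_of_le_of_card_ge h1 hv.le).symm
    have hu2' : u = 2 := by
      by_contra hne
      have hu3 : 3 ≤ u := by omega
      have : Nat.card M ≥ Nat.card (frattini X) * 3 := by
        rw [hu, hv]
        exact Nat.mul_le_mul_left _ hu3
      omega
    -- M ⊓ F = Φ ⊓ F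
    have hMF : M ⊓ arFix α = frattini X ⊓ arFix α := by
      apply le_antisymm
      · apply le_inf _ inf_le_right
        rw [← hKΦ]
        exact le_inf (inf_le_right.trans le_sup_left) inf_le_left
      · exact inf_le_inf_right _ hΦM
    rw [hMF] at hmodM
    have h3 : Nat.card M ≡ Nat.card (frattini X) [MOD q] := hmodM.trans hmodΦ.symm
    have h4 : Nat.card M = 2 * Nat.card (frattini X) := by
      rw [hu, hv, hu2', mul_comm]
    rw [h4] at h3
    have h5 : q ∣ 2 * Nat.card (frattini X) - Nat.card (frattini X) :=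
      (Nat.modEq_iff_dvd' (by omega)).1 h3.symm
    have h6 : 2 * Nat.card (frattini X) - Nat.card (frattini X) = Nat.card (frattini X) := by
      omega
    rw [h6] at h5
    exact hqcop _ h5
  -- hence F ⊔ Φ = ⊤
  have hKtop : arFix α ⊔ frattini X = ⊤ := by
    rcases eq_or_lt_of_le hKM with h | h
    · exfalso
      apply hFM
      rw [h]; exact le_sup_left
    · exact hcoatom.2 _ h
  have hFtop : arFix α = ⊤ := frattini_nongenerating hKtop
  apply hα1
  ext x
  have : x ∈ arFix α := by rw [hFtop]; exact Subgroup.mem_top x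
  exact this

end

end Cfsg.Agent.Lib.Helper9
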