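import Mathlib
import Cfsg.Agent.Lib.Helper1.Nilp
import Cfsg.Agent.Lib.Helper9.RankComp2

set_option autoImplicit false

namespace Cfsg.Agent.Lib.Helper9

section CycNorm1
variable {P : Type*} [Group P]

/-- in a `p`-group, between normal subgroups `Z < U` there is an element of `U` outside `Z`,
with `p`-th power in `Z`, that is central modulo `Z` -/
theorem cn_exists_central_mod [Finite P] {p : ℕ} [hp : Fact p.Prime] (hP : IsPGroup p P)
    (U Z : Subgroup P) [U.Normal] [Z.Normal] (hZU : Z ≤ U) (hne : Z ≠ U) :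
    ∃ w ∈ U, w ∉ Z ∧ w ^ p ∈ Z ∧ ∀ g : P, g * w * g⁻¹ * w⁻¹ ∈ Z := by
  haveI : Group.IsNilpotent (P ⧸ Z) := (hP.to_quotient Z).isNilpotent
  have hUn : (U.map (QuotientGroup.mk' Z)).Normal :=
    Subgroup.Normal.map inferInstance _ (QuotientGroup.mk'_surjective Z)
  have hUne : U.map (QuotientGroup.mk' Z) ≠ ⊥ := by
    intro h
    apply hne
    apply le_antisymm hZU
    intro u hu
    have : (QuotientGroup.mk' Z) u ∈ U.map (QuotientGroup.mk' Z) := Subgroup.mem_map_of_mem _ hu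
    rw [h, Subgroup.mem_bot] at this
    exact (QuotientGroup.eq_one_iff u).mp this
  have h1 := Cfsg.Agent.Lib.Helper1.normal_inf_center_ne_bot (U.map (QuotientGroup.mk' Z)) hUne
  have hHp : IsPGroup p ↥(U.map (QuotientGroup.mk' Z) ⊓ Subgroup.center (P ⧸ Z)) :=
    (hP.to_quotient Z).to_subgroup _
  obtain ⟨k, hk⟩ := IsPGroup.iff_card.mp hHp
  have hk0 : k ≠ 0 := by
    intro h0
    rw [h0, pow_zero] at hk
    exact h1 (Subgroup.card_eq_one.mp hk)
  have h2 : p ∣ Nat.card ↥(U.map (QuotientGroup.mk' Z) ⊓ Subgroup.center (P ⧸ Z)) := by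
    rw [hk]; exact dvd_pow_self p hk0
  obtain ⟨q, hq⟩ := exists_prime_orderOf_dvd_card' p h2
  have hq1 : orderOf (q : P ⧸ Z) = p := by rw [Subgroup.orderOf_coe]; exact hq
  obtain ⟨w, hwU, hwq⟩ := q.2.1
  refine ⟨w, hwU, ?_, ?_, ?_⟩
  · intro hwZ
    have : (q : P ⧸ Z) = 1 := by rw [← hwq]; exact (QuotientGroup.eq_one_iff w).mpr hwZ
    rw [this, orderOf_one] at hq1
    exact hp.out.one_lt.ne hq1
  · rw [← QuotientGroup.eq_one_iff]
    have : ((w ^ p : P) : P ⧸ Z) = (q : P ⧸ Z) ^ p := by rw [← hwq]; rfl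
    rw [this, ← hq1]
    exact pow_orderOf_eq_one _
  · intro g
    rw [← QuotientGroup.eq_one_iff]
    have h3 := Subgroup.mem_center_iff.mp q.2.2 ((QuotientGroup.mk' Z) g)
    have h4 : ((g * w * g⁻¹ * w⁻¹ : P) : P ⧸ Z) =
        (QuotientGroup.mk' Z) g * (QuotientGroup.mk' Z) w * ((QuotientGroup.mk' Z) g)⁻¹ *
          ((QuotientGroup.mk' Z) w)⁻¹ := by
      simp
    rw [h4, hwq, h3]
    group

/-- a "modular" element over a normal abelian subgroup with a unique involution produces a normal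
four-group -/
theorem cn_four_of_modular [Finite P] (A : Subgroup P) [hAn : A.Normal]
    (hAc : ∀ s ∈ A, ∀ t ∈ A, s * t = t * s)
    (z b : P) (hzA : z ∈ A) (hz1 : z ≠ 1) (hbA : b ∈ A) (hb : b * b = z) (hzz : z * z = 1)
    (huniq : ∀ v ∈ A, v * v = 1 → v = 1 ∨ v = z)
    (x : P) (hxA : x ∉ A)
    (hx4 : ∀ v ∈ A, v ^ 4 = 1 → x * v = v * x)
    (hxt : ∀ t ∈ A, x * t * x⁻¹ = t ∨ x * t * x⁻¹ = t * z)
    (r : P) (hr : r ∈ A) (hxr : x * x = r * r)
    (hxc : ∀ h : P, h * x * h⁻¹ * x⁻¹ ∈ A) :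
    ∃ U : Subgroup P, U.Normal ∧ Cfsg.IsElementaryAbelian 2 U ∧ Nat.card U = 2 ^ 2 := by
  have hzinv : z⁻¹ = z := inv_eq_of_mul_eq_one_left hzz
  -- `z` is central
  have hzc : ∀ g : P, g * z = z * g := by
    intro g
    have h1 : g * z * g⁻¹ ∈ A := hAn.conj_mem z hzA g
    have h2 : (g * z * g⁻¹) * (g * z * g⁻¹) = 1 := by
      calc (g * z * g⁻¹) * (g * z * g⁻¹) = g * (z * z) * g⁻¹ := by group
        _ = 1 := by rw [hzz]; group
    rcases huniq _ h1 h2 with h | h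
    · exfalso; apply hz1
      have : z = g⁻¹ * (g * z * g⁻¹) * g := by group
      rw [this, h]; group
    · calc g * z = (g * z * g⁻¹) * g := by group
        _ = z * g := by rw [h]
  -- an involution in the coset `A x`
  obtain ⟨t, htA, hty⟩ : ∃ t ∈ A, (t * x) * (t * x) = 1 := by
    have hxb : x * b * x⁻¹ = b := by
      have hb4 : b ^ 4 = 1 := by
        calc b ^ 4 = (b * b) * (b * b) := by rw [show (4 : ℕ) = 2 + 2 from rfl, pow_add, pow_two]
          _ = 1 := by rw [hb, hzz]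
      have := hx4 b hbA hb4
      rw [this]; group
    rcases hxt r hr with h | h
    · refine ⟨r⁻¹, A.inv_mem hr, ?_⟩
      have h' : x * r⁻¹ * x⁻¹ = r⁻¹ := by
        have : x * r⁻¹ * x⁻¹ = (x * r * x⁻¹)⁻¹ := by group
        rw [this, h]
      calc (r⁻¹ * x) * (r⁻¹ * x) = r⁻¹ * (x * r⁻¹ * x⁻¹) * (x * x) := by group
        _ = r⁻¹ * r⁻¹ * (r * r) := by rw [h', hxr]
        _ = 1 := by group
    · refine ⟨r⁻¹ * b, A.mul_mem (A.inv_mem hr) hbA, ?_⟩
      have h' : x * (r⁻¹ * b) * x⁻¹ = z * r⁻¹ * b := by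
        have : x * (r⁻¹ * b) * x⁻¹ = (x * r * x⁻¹)⁻¹ * (x * b * x⁻¹) := by group
        rw [this, h, hxb, mul_inv_rev, hzinv]
      have hzr : z * r⁻¹ = r⁻¹ * z := hAc z hzA r⁻¹ (A.inv_mem hr)
      have hbr : b * r⁻¹ = r⁻¹ * b := hAc b hbA r⁻¹ (A.inv_mem hr)
      have hbz : b * z = z * b := hAc b hbA z hzA
      have hbr2 : b * r = r * b := hAc b hbA r hr
      have hzr2 : z * r = r * z := hAc z hzA r hr
      calc (r⁻¹ * b * x) * (r⁻¹ * b * x)
          = r⁻¹ * b * (x * (r⁻¹ * b) * x⁻¹) * (x * x) := by group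
        _ = r⁻¹ * b * (z * r⁻¹ * b) * (r * r) := by rw [h', hxr]
        _ = r⁻¹ * (b * z) * r⁻¹ * b * r * r := by group
        _ = r⁻¹ * (z * b) * r⁻¹ * b * r * r := by rw [hbz]
        _ = r⁻¹ * z * (b * r⁻¹) * b * r * r := by group
        _ = r⁻¹ * z * (r⁻¹ * b) * b * r * r := by rw [hbr]
        _ = r⁻¹ * (z * r⁻¹) * (b * b) * r * r := by group
        _ = r⁻¹ * (r⁻¹ * z) * z * r * r := by rw [hzr, hb]
        _ = r⁻¹ * r⁻¹ * (z * z) * r * r := by group
        _ = 1 := by rw [hzz]; group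
  set y := t * x with hy
  have hyA : y ∉ A := by
    intro h
    apply hxA
    have : x = t⁻¹ * y := by rw [hy]; group
    rw [this]
    exact A.mul_mem (A.inv_mem htA) h
  have hy1 : y ≠ 1 := fun h => hyA (h ▸ A.one_mem)
  have hyz : y ≠ z := fun h => hyA (h ▸ hzA)
  have hyinv : y⁻¹ = y := inv_eq_of_mul_eq_one_left hty
  have hconj : ∀ h : P, h * y * h⁻¹ = y ∨ h * y * h⁻¹ = z * y := by
    intro h
    -- `h y h⁻¹ = v y` with `v ∈ A`
    have hv : h * y * h⁻¹ * y⁻¹ ∈ A := by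
      have h1 : h * y * h⁻¹ * y⁻¹ = (h * t * h⁻¹) * (h * x * h⁻¹ * x⁻¹) * t⁻¹ := by
        rw [hy]; group
      rw [h1]
      exact A.mul_mem (A.mul_mem (hAn.conj_mem t htA h) (hxc h)) (A.inv_mem htA)
    set v := h * y * h⁻¹ * y⁻¹ with hvdef
    have hvy : h * y * h⁻¹ = v * y := by rw [hvdef]; group
    have hsq : (v * y) * (v * y) = 1 := by
      rw [← hvy]
      calc (h * y * h⁻¹) * (h * y * h⁻¹) = h * (y * y) * h⁻¹ := by group
        _ = 1 := by rw [hty]; group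
    have hyv : y * v * y⁻¹ = x * v * x⁻¹ := by
      have hxv : x * v * x⁻¹ ∈ A := hAn.conj_mem v hv x
      have : y * v * y⁻¹ = t * (x * v * x⁻¹) * t⁻¹ := by rw [hy]; group
      rw [this, hAc t htA _ hxv]
      group
    have h2 : v * (x * v * x⁻¹) = 1 := by
      rw [← hyv]
      calc v * (y * v * y⁻¹) = (v * y) * (v * y) * (y⁻¹ * y⁻¹) := by group
        _ = 1 := by rw [hsq, hyinv, hty]; group
    rcases hxt v hv with h3 | h3
    · rw [h3] at h2
      rcases huniq v hv h2 with h4 | h4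
      · left; rw [hvy, h4, one_mul]
      · right; rw [hvy, h4]
    · exfalso
      rw [h3] at h2
      have hvv : v * v = z := by
        have : v * v = (v * (v * z)) * z⁻¹ := by group
        rw [this, h2, hzinv, one_mul]
      have hv4 : v ^ 4 = 1 := by
        calc v ^ 4 = (v * v) * (v * v) := by rw [show (4 : ℕ) = 2 + 2 from rfl, pow_add, pow_two]
          _ = 1 := by rw [hvv, hzz]
      have h5 := hx4 v hv hv4
      have h6 : x * v * x⁻¹ = v := by rw [h5]; group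
      rw [h6] at h3
      apply hz1
      have : z = v⁻¹ * (v * z) := by group
      rw [this, ← h3]; group
  exact rc_four_group z y hzc hz1 hzz hty hy1 hyz hconj

end CycNorm1

end Cfsg.Agent.Lib.Helper9
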