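import Mathlib
import Cfsg.Agent.Lib.Helper9.CycNorm1
import Cfsg.Agent.Lib.Helper24.Taussky

set_option autoImplicit false

namespace Cfsg.Agent.Lib.Helper9

section CycNorm2
variable {P : Type*} [Group P]

theorem cn_pow_half_sq (a : P) (n : ℕ) (hn : 1 ≤ n) (ha : orderOf a = 2 ^ n) :
    (a ^ 2 ^ (n - 1)) ^ 2 = 1 := by
  rw [← pow_mul, ← pow_succ, show n - 1 + 1 = n by omega, ← ha]
  exact pow_orderOf_eq_one a

theorem cn_pow_half_ne_one (a : P) (n : ℕ) (hn : 1 ≤ n) (ha : orderOf a = 2 ^ n) :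
    a ^ 2 ^ (n - 1) ≠ 1 := by
  intro h
  have h1 : orderOf a ∣ 2 ^ (n - 1) := orderOf_dvd_of_pow_eq_one h
  rw [ha] at h1
  have h2 : 2 ^ n ≤ 2 ^ (n - 1) := Nat.le_of_dvd (by positivity) h1
  have h3 : 2 ^ (n - 1) < 2 ^ n := Nat.pow_lt_pow_right (by norm_num) (by omega)
  omega

theorem cn_quarter_sq (a : P) (n : ℕ) (hn : 2 ≤ n) :
    (a ^ 2 ^ (n - 2)) * (a ^ 2 ^ (n - 2)) = a ^ 2 ^ (n - 1) := by
  rw [← pow_add, ← two_mul, ← pow_succ', show n - 2 + 1 = n - 1 by omega]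

/-- the unique involution of a cyclic `2`-group -/
theorem cn_uniq_invol (a : P) (n : ℕ) (hn : 1 ≤ n) (ha : orderOf a = 2 ^ n) :
    ∀ v ∈ Subgroup.zpowers a, v * v = 1 → v = 1 ∨ v = a ^ 2 ^ (n - 1) := by
  intro v hv hvv
  obtain ⟨i, rfl⟩ := Subgroup.mem_zpowers_iff.mp hv
  have h1 : a ^ (2 * i) = 1 := by rw [two_mul, zpow_add]; exact hvv
  have h2 : ((orderOf a : ℕ) : ℤ) ∣ 2 * i := orderOf_dvd_iff_zpow_eq_one.mpr h1
  rw [ha] at h2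
  have h3 : ((2 : ℤ) ^ (n - 1)) ∣ i := by
    have : (2 : ℤ) ^ n = 2 * 2 ^ (n - 1) := by rw [← pow_succ']; congr 1; omega
    push_cast at h2
    rw [this] at h2
    exact (mul_dvd_mul_iff_left (by norm_num)).mp h2
  obtain ⟨j, rfl⟩ := h3
  have hz2 := cn_pow_half_sq a n hn ha
  have : a ^ ((2 : ℤ) ^ (n - 1) * j) = (a ^ 2 ^ (n - 1)) ^ j := by
    rw [zpow_mul]
    congr 1
    have : ((2 : ℤ) ^ (n - 1)) = ((2 ^ (n - 1) : ℕ) : ℤ) := by push_cast; rfl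
    rw [this, zpow_natCast]
  rw [this]
  exact Cfsg.Agent.Lib.Helper18.E8C.zpowers_eq_of_sq hz2 (Subgroup.zpow_mem_zpowers _ j)

/-- elements of order dividing `4` of a cyclic `2`-group -/
theorem cn_mem_of_pow_four (a : P) (n : ℕ) (hn : 2 ≤ n) (ha : orderOf a = 2 ^ n) :
    ∀ v ∈ Subgroup.zpowers a, v ^ 4 = 1 → v ∈ Subgroup.zpowers (a ^ 2 ^ (n - 2)) := by
  intro v hv hv4
  obtain ⟨i, rfl⟩ := Subgroup.mem_zpowers_iff.mp hv
  have h1 : a ^ (i * 4) = 1 := by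
    rw [zpow_mul]
    have : (a ^ i) ^ (4 : ℤ) = (a ^ i) ^ (4 : ℕ) := by
      rw [show (4 : ℤ) = ((4 : ℕ) : ℤ) from rfl, zpow_natCast]
    rw [this]; exact hv4
  have h2 : ((orderOf a : ℕ) : ℤ) ∣ i * 4 := orderOf_dvd_iff_zpow_eq_one.mpr h1
  rw [ha] at h2
  have h3 : ((2 : ℤ) ^ (n - 2)) ∣ i := by
    have : (2 : ℤ) ^ n = 2 ^ (n - 2) * 4 := by
      rw [show (4 : ℤ) = 2 ^ 2 by norm_num, ← pow_add]; congr 1; omega
    push_cast at h2
    rw [this] at h2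
    exact (mul_dvd_mul_iff_right (by norm_num)).mp h2
  obtain ⟨j, rfl⟩ := h3
  have : a ^ ((2 : ℤ) ^ (n - 2) * j) = (a ^ 2 ^ (n - 2)) ^ j := by
    rw [zpow_mul]
    congr 1
    have : ((2 : ℤ) ^ (n - 2)) = ((2 ^ (n - 2) : ℕ) : ℤ) := by push_cast; rfl
    rw [this, zpow_natCast]
  rw [this]
  exact Subgroup.zpow_mem_zpowers _ j

/-- elements of order `4` in a cyclic group of order `4` -/
theorem cn_gen_of_order_four (b : P) (hb4 : b ^ 4 = 1) :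
    ∀ c ∈ Subgroup.zpowers b, c * c ≠ 1 → c = b ∨ c = b⁻¹ := by
  intro c hc hcc
  obtain ⟨j, rfl⟩ := Subgroup.mem_zpowers_iff.mp hc
  have hb4' : b ^ (4 : ℤ) = 1 := by
    rw [show (4 : ℤ) = ((4 : ℕ) : ℤ) from rfl, zpow_natCast]; exact hb4
  have hdecomp : b ^ j = b ^ (j % 4) := by
    conv_lhs => rw [← Int.emod_add_mul_ediv j 4]
    rw [zpow_add, zpow_mul, hb4', one_zpow, mul_one]
  have hj : j % 4 = 0 ∨ j % 4 = 1 ∨ j % 4 = 2 ∨ j % 4 = 3 := by omega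
  rw [hdecomp] at hcc ⊢
  rcases hj with h | h | h | h
  · exfalso; apply hcc; rw [h]; simp
  · left; rw [h, zpow_one]
  · exfalso; apply hcc; rw [h, ← zpow_add]; exact hb4'
  · right
    rw [h]
    have : b ^ (3 : ℤ) * b = 1 := by
      have : b ^ (3 : ℤ) * b = b ^ (4 : ℤ) := by
        rw [show (4 : ℤ) = 3 + 1 by norm_num, zpow_add, zpow_one]
      rw [this, hb4']
    exact eq_inv_of_mul_eq_one_left this

end CycNorm2

end Cfsg.Agent.Lib.Helper9
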