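import Mathlib
import Cfsg.Agent.Lib.Helper9.CycNorm2
import Cfsg.Agent.Lib.helper14.Quat

set_option autoImplicit false

namespace Cfsg.Agent.Lib.Helper9

open Cfsg.Agent.Lib.helper14

section
variable {Q : Type*} [CommGroup Q]

/-- the range of a power map on a two-generated commutative group -/
theorem mt_range_pow (a b : Q) (hgen : Subgroup.closure ({a, b} : Set Q) = ⊤) (k : ℕ) :
    (powMonoidHom k : Q →* Q).range = Subgroup.closure ({a ^ k, b ^ k} : Set Q) := by
  rw [MonoidHom.range_eq_map, ← hgen, MonoidHom.map_closure, Set.image_pair]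
  rfl

/-- if the range of the power map is generated by an involution, its kernel has index two -/
theorem mt_index_ker_of_range (k : ℕ) (w : Q) (hw : orderOf w = 2)
    (h : (powMonoidHom k : Q →* Q).range = Subgroup.zpowers w) :
    (powMonoidHom k : Q →* Q).ker.index = 2 := by
  rw [Subgroup.index_ker, h, Nat.card_zpowers, hw]

/-- a two-generated finite commutative `2`-group none of whose power maps has a kernel of index
two is homocyclic -/
theorem mt_ab [Finite Q] (hQ : IsPGroup 2 Q) (a b : Q)
    (hgen : Subgroup.closure ({a, b} : Set Q) = ⊤)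
    (hker : ∀ k : ℕ, (powMonoidHom (2 ^ k) : Q →* Q).ker.index ≠ 2) :
    ∃ n : ℕ, orderOf a = 2 ^ n ∧ orderOf b = 2 ^ n ∧
      Subgroup.zpowers a ⊓ Subgroup.zpowers b = ⊥ := by
  haveI : Fact (Nat.Prime 2) := ⟨Nat.prime_two⟩
  obtain ⟨i, hi⟩ := (IsPGroup.iff_orderOf.1 hQ) a
  obtain ⟨j, hj⟩ := (IsPGroup.iff_orderOf.1 hQ) b
  -- the maximum of i and j
  obtain ⟨m, hm, him, hjm⟩ : ∃ m, (m = i ∨ m = j) ∧ i ≤ m ∧ j ≤ m := by
    rcases le_total i j with h | h
    · exact ⟨j, Or.inr rfl, h, le_refl _⟩
    · exact ⟨i, Or.inl rfl, le_refl _, h⟩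
  rcases Nat.eq_zero_or_pos m with hm0 | hmpos
  · -- trivial case
    have hi0 : i = 0 := by omega
    have hj0 : j = 0 := by omega
    refine ⟨0, by rw [hi, hi0], by rw [hj, hj0], ?_⟩
    rw [hi0, pow_zero, orderOf_eq_one_iff] at hi
    rw [hi, Subgroup.zpowers_one_eq_bot, bot_inf_eq]
  · have ham : a ^ 2 ^ m = 1 := by
      apply orderOf_dvd_iff_pow_eq_one.1
      rw [hi]; exact pow_dvd_pow 2 him
    have hbm : b ^ 2 ^ m = 1 := by
      apply orderOf_dvd_iff_pow_eq_one.1
      rw [hj]; exact pow_dvd_pow 2 hjm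
    have hsq : ∀ x : Q, x ^ 2 ^ m = 1 → (x ^ 2 ^ (m - 1)) ^ 2 = 1 := by
      intro x hx
      rw [← pow_mul, ← pow_succ]
      have : m - 1 + 1 = m := by omega
      rw [this, hx]
    have hrange := mt_range_pow a b hgen (2 ^ (m - 1))
    have hord2 : ∀ x : Q, x ^ 2 ^ m = 1 → x ^ 2 ^ (m - 1) ≠ 1 → orderOf (x ^ 2 ^ (m - 1)) = 2 :=
      fun x hx hx1 => orderOf_eq_prime (hsq x hx) hx1
    have hfull : ∀ x : Q, ∀ l : ℕ, orderOf x = 2 ^ l → l ≤ m → x ^ 2 ^ (m - 1) ≠ 1 → l = m := by
      intro x l hl hlm hne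
      by_contra hlt
      apply hne
      apply orderOf_dvd_iff_pow_eq_one.1
      rw [hl]
      apply pow_dvd_pow
      omega
    have hone : ∀ x : Q, ∀ l : ℕ, orderOf x = 2 ^ l → l = m → x ^ 2 ^ (m - 1) ≠ 1 := by
      intro x l hl hlm h1
      have := orderOf_dvd_of_pow_eq_one h1
      rw [hl, hlm] at this
      have := (Nat.pow_dvd_pow_iff_le_right (by norm_num : 1 < 2)).1 this
      omega
    -- a ^ 2^(m-1) ≠ 1
    have ha1 : a ^ 2 ^ (m - 1) ≠ 1 := by
      intro h1
      have hb1 : b ^ 2 ^ (m - 1) ≠ 1 := by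
        rcases hm with h | h
        · exact absurd h1 (hone a i hi h.symm)
        · exact hone b j hj h.symm
      apply hker (m - 1)
      apply mt_index_ker_of_range _ _ (hord2 b hbm hb1)
      rw [hrange, h1, Subgroup.zpowers_eq_closure]
      apply le_antisymm
      · rw [Subgroup.closure_le]
        intro x hx
        rcases hx with rfl | hx
        · exact Subgroup.one_mem _
        · exact Subgroup.subset_closure hx
      · apply Subgroup.closure_mono
        intro x hx
        exact Set.mem_insert_of_mem _ hx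
    have hb1 : b ^ 2 ^ (m - 1) ≠ 1 := by
      intro h1
      apply hker (m - 1)
      apply mt_index_ker_of_range _ _ (hord2 a ham ha1)
      rw [hrange, h1, Subgroup.zpowers_eq_closure]
      apply le_antisymm
      · rw [Subgroup.closure_le]
        intro x hx
        rcases hx with rfl | hx
        · exact Subgroup.subset_closure rfl
        · rw [Set.mem_singleton_iff] at hx
          rw [hx]; exact Subgroup.one_mem _
      · apply Subgroup.closure_mono
        intro x hx
        rw [Set.mem_singleton_iff] at hx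
        rw [hx]; exact Set.mem_insert _ _
    have hab : a ^ 2 ^ (m - 1) ≠ b ^ 2 ^ (m - 1) := by
      intro h1
      apply hker (m - 1)
      apply mt_index_ker_of_range _ _ (hord2 a ham ha1)
      rw [hrange, ← h1, Subgroup.zpowers_eq_closure]
      congr 1
      exact Set.pair_eq_singleton _
    have him' : i = m := hfull a i hi him ha1
    have hjm' : j = m := hfull b j hj hjm hb1
    refine ⟨m, by rw [hi, him'], by rw [hj, hjm'], ?_⟩
    rw [Subgroup.eq_bot_iff_forall]
    intro u hu
    obtain ⟨hua, hub⟩ := Subgroup.mem_inf.1 hu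
    by_contra hu1
    obtain ⟨l, hl⟩ := (IsPGroup.iff_orderOf.1 hQ) u
    have hl0 : l ≠ 0 := by
      intro h0
      rw [h0, pow_zero, orderOf_eq_one_iff] at hl
      exact hu1 hl
    -- w = u ^ 2^(l-1) is an involution in both cyclic groups
    have hw1 : u ^ 2 ^ (l - 1) ≠ 1 := by
      intro h1
      have := orderOf_dvd_of_pow_eq_one h1
      rw [hl] at this
      have := (Nat.pow_dvd_pow_iff_le_right (by norm_num : 1 < 2)).1 this
      omega
    have hw2 : u ^ 2 ^ (l - 1) * u ^ 2 ^ (l - 1) = 1 := by
      rw [← pow_two, ← pow_mul, ← pow_succ]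
      have : l - 1 + 1 = l := by omega
      rw [this, ← hl, pow_orderOf_eq_one]
    have hwa := cn_uniq_invol a m hmpos (by rw [hi, him']) _
      (Subgroup.pow_mem _ hua _) hw2
    have hwb := cn_uniq_invol b m hmpos (by rw [hj, hjm']) _
      (Subgroup.pow_mem _ hub _) hw2
    rcases hwa with h | h
    · exact hw1 h
    · rcases hwb with h' | h'
      · exact hw1 h'
      · exact hab (h.symm.trans h')

/-- the isomorphism of a homocyclic group of rank two with `ZMod m × ZMod m` -/
theorem mt_ab_iso [Finite Q] (m : ℕ) [NeZero m] (a b : Q)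
    (hgen : Subgroup.closure ({a, b} : Set Q) = ⊤) (ha : orderOf a = m) (hb : orderOf b = m)
    (hinf : Subgroup.zpowers a ⊓ Subgroup.zpowers b = ⊥) :
    Nonempty (Q ≃* Multiplicative (ZMod m) × Multiplicative (ZMod m)) := by
  have ham : a ^ m = 1 := by rw [← ha]; exact pow_orderOf_eq_one a
  have hbm : b ^ m = 1 := by rw [← hb]; exact pow_orderOf_eq_one b
  let f : Multiplicative (ZMod m) × Multiplicative (ZMod m) →* Q :=
    { toFun := fun p => zmodPow m a ham (Multiplicative.toAdd p.1) *
        zmodPow m b hbm (Multiplicative.toAdd p.2)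
      map_one' := by
        show zmodPow m a ham 0 * zmodPow m b hbm 0 = 1
        rw [zmodPow_zero, zmodPow_zero, one_mul]
      map_mul' := by
        intro p r
        show zmodPow m a ham (Multiplicative.toAdd p.1 + Multiplicative.toAdd r.1) *
          zmodPow m b hbm (Multiplicative.toAdd p.2 + Multiplicative.toAdd r.2) = _
        rw [zmodPow_add, zmodPow_add]
        exact mul_mul_mul_comm _ _ _ _ }
  have hfa : ∀ i : ZMod m, zmodPow m a ham i ∈ Subgroup.zpowers a := by
    intro i
    rw [zmodPow_eq_pow]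
    exact Subgroup.pow_mem _ (Subgroup.mem_zpowers a) _
  have hfb : ∀ i : ZMod m, zmodPow m b hbm i ∈ Subgroup.zpowers b := by
    intro i
    rw [zmodPow_eq_pow]
    exact Subgroup.pow_mem _ (Subgroup.mem_zpowers b) _
  have hinj : Function.Injective f := by
    rw [injective_iff_map_eq_one]
    rintro ⟨x, y⟩ hxy
    have h1 : zmodPow m a ham (Multiplicative.toAdd x) *
        zmodPow m b hbm (Multiplicative.toAdd y) = 1 := hxy
    have h2 : zmodPow m a ham (Multiplicative.toAdd x) =
        (zmodPow m b hbm (Multiplicative.toAdd y))⁻¹ := eq_inv_of_mul_eq_one_left h1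
    have h3 : zmodPow m a ham (Multiplicative.toAdd x) ∈
        Subgroup.zpowers a ⊓ Subgroup.zpowers b := by
      refine Subgroup.mem_inf.2 ⟨hfa _, ?_⟩
      rw [h2]
      exact Subgroup.inv_mem _ (hfb _)
    rw [hinf, Subgroup.mem_bot] at h3
    have h4 := zmodPow_eq_one m a ham ha _ h3
    rw [h3, one_mul] at h1
    have h5 := zmodPow_eq_one m b hbm hb _ h1
    apply Prod.ext
    · exact h4
    · exact h5
  have hsurj : Function.Surjective f := by
    rw [← MonoidHom.range_eq_top, eq_top_iff, ← hgen, Subgroup.closure_le]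
    intro x hx
    rcases hx with rfl | hx
    · refine ⟨(Multiplicative.ofAdd (1 : ZMod m), 1), ?_⟩
      show zmodPow m x ham (1 : ZMod m) * zmodPow m b hbm 0 = x
      rw [zmodPow_zero, mul_one]
      have := zmodPow_natCast m x ham 1
      rw [Nat.cast_one, pow_one] at this
      exact this
    · rw [Set.mem_singleton_iff] at hx
      subst hx
      refine ⟨(1, Multiplicative.ofAdd (1 : ZMod m)), ?_⟩
      show zmodPow m a ham 0 * zmodPow m x hbm (1 : ZMod m) = x
      rw [zmodPow_zero, one_mul]
      have := zmodPow_natCast m x hbm 1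
      rw [Nat.cast_one, pow_one] at this
      exact this
  exact ⟨(MulEquiv.ofBijective f ⟨hinj, hsurj⟩).symm⟩

end

end Cfsg.Agent.Lib.Helper9
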