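import Mathlib
import Cfsg.Agent.Lib.Helper9.Meta1
import Cfsg.Agent.Lib.Helper9.Meta2
import Cfsg.Prelude.Def_OddOrderLocal

set_option autoImplicit false

namespace Cfsg.Agent.Lib.Helper9

section
variable {X : Type*} [Group X]

/-- generators of a metacyclic group -/
theorem mt_gens (hm : Cfsg.IsMetacyclic X) :
    ∃ (a b : X), (Subgroup.zpowers a).Normal ∧ Subgroup.closure ({a, b} : Set X) = ⊤ ∧
      ∀ x : X, ∃ k : ℤ, x * (b ^ k)⁻¹ ∈ Subgroup.zpowers a := by
  obtain ⟨N, hN, hNc, hQc⟩ := hm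
  obtain ⟨g, hg⟩ := hNc.exists_generator
  obtain ⟨bq, hbq⟩ := hQc.exists_generator
  obtain ⟨b, rfl⟩ := QuotientGroup.mk_surjective bq
  have hNa : N = Subgroup.zpowers (g : X) := by
    ext x
    constructor
    · intro hx
      obtain ⟨k, hk⟩ := Subgroup.mem_zpowers_iff.1 (hg ⟨x, hx⟩)
      refine Subgroup.mem_zpowers_iff.2 ⟨k, ?_⟩
      have := congrArg Subtype.val hk
      rw [Subgroup.coe_zpow] at this
      exact this
    · intro hx
      obtain ⟨k, hk⟩ := Subgroup.mem_zpowers_iff.1 hx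
      rw [← hk]
      exact N.zpow_mem g.2 k
  have hcos : ∀ x : X, ∃ k : ℤ, x * (b ^ k)⁻¹ ∈ Subgroup.zpowers (g : X) := by
    intro x
    obtain ⟨k, hk⟩ := Subgroup.mem_zpowers_iff.1 (hbq (QuotientGroup.mk x))
    refine ⟨k, ?_⟩
    rw [← hNa]
    have h1 : (QuotientGroup.mk (x * (b ^ k)⁻¹) : X ⧸ N) = 1 := by
      rw [QuotientGroup.mk_mul, QuotientGroup.mk_inv, QuotientGroup.mk_zpow, hk, mul_inv_cancel]
    exact (QuotientGroup.eq_one_iff _).1 h1
  refine ⟨(g : X), b, hNa ▸ hN, ?_, hcos⟩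
  rw [eq_top_iff]
  intro x _
  obtain ⟨k, hk⟩ := hcos x
  have h1 : x = (x * (b ^ k)⁻¹) * b ^ k := by group
  rw [h1]
  apply Subgroup.mul_mem
  · have : Subgroup.zpowers (g : X) ≤ Subgroup.closure ({(g : X), b} : Set X) := by
      rw [Subgroup.zpowers_le]
      exact Subgroup.subset_closure (Set.mem_insert _ _)
    exact this hk
  · apply Subgroup.zpow_mem
    exact Subgroup.subset_closure (Set.mem_insert_of_mem _ rfl)

/-- version of `mt_ab` for a group with a commutativity hypothesis -/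
theorem mt_ab' [Finite X] (hcomm : ∀ x y : X, x * y = y * x) (hX : IsPGroup 2 X) (a b : X)
    (hgen : Subgroup.closure ({a, b} : Set X) = ⊤)
    (hker : ∀ (k : ℕ) (f : X →* X), (∀ x, f x = x ^ 2 ^ k) → f.ker.index ≠ 2) :
    ∃ n : ℕ, orderOf a = 2 ^ n ∧ orderOf b = 2 ^ n ∧
      Subgroup.zpowers a ⊓ Subgroup.zpowers b = ⊥ := by
  letI : CommGroup X := { (inferInstance : Group X) with mul_comm := hcomm }
  exact mt_ab hX a b hgen (fun k => hker k (powMonoidHom (2 ^ k)) (fun x => rfl))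

/-- version of `mt_ab_iso` for a group with a commutativity hypothesis -/
theorem mt_ab_iso' [Finite X] (hcomm : ∀ x y : X, x * y = y * x) (m : ℕ) [NeZero m] (a b : X)
    (hgen : Subgroup.closure ({a, b} : Set X) = ⊤) (ha : orderOf a = m) (hb : orderOf b = m)
    (hinf : Subgroup.zpowers a ⊓ Subgroup.zpowers b = ⊥) :
    Nonempty (X ≃* Multiplicative (ZMod m) × Multiplicative (ZMod m)) := by
  letI : CommGroup X := { (inferInstance : Group X) with mul_comm := hcomm }
  exact mt_ab_iso m a b hgen ha hb hinf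

/-- the abelian case -/
theorem mt_abelian_case [Finite X] (hcomm : ∀ x y : X, x * y = y * x) (hX : IsPGroup 2 X)
    (a b : X) (hgen : Subgroup.closure ({a, b} : Set X) = ⊤) {q : ℕ} [hq : Fact q.Prime]
    (hq2 : q ≠ 2) (α : MulAut X) (hα : α ^ q = 1) (hα1 : α ≠ 1) :
    ∃ n : ℕ, Nonempty (X ≃* Multiplicative (ZMod (2 ^ n)) × Multiplicative (ZMod (2 ^ n))) := by
  obtain ⟨n, ha, hb, hinf⟩ := mt_ab' hcomm hX a b hgen (by
    intro k f hf hidx
    apply mt_no_invariant_index_two hX a b hgen hq2 α hα hα1 f.ker _ hidx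
    intro x hx
    rw [MonoidHom.mem_ker] at hx ⊢
    rw [hf, ← map_pow, ← hf, hx, map_one])
  exact ⟨n, mt_ab_iso' hcomm (2 ^ n) a b hgen ha hb hinf⟩

end

end Cfsg.Agent.Lib.Helper9
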