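import Mathlib
import Cfsg.Agent.Lib.Helper9.Meta3

set_option autoImplicit false

namespace Cfsg.Agent.Lib.Helper9

open scoped commutatorElement

section
variable {X : Type*} [Group X]

/-- the commutator subgroup lies in a normal subgroup with cyclic quotient generated by `b` -/
theorem mt_commutator_le (a b : X) (hN : (Subgroup.zpowers a).Normal)
    (hcos : ∀ x : X, ∃ k : ℤ, x * (b ^ k)⁻¹ ∈ Subgroup.zpowers a) :
    commutator X ≤ Subgroup.zpowers a := by
  rw [commutator_def, Subgroup.commutator_le]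
  intro x _ y _
  obtain ⟨k, hk⟩ := hcos x
  obtain ⟨l, hl⟩ := hcos y
  have h1 : (QuotientGroup.mk x : X ⧸ Subgroup.zpowers a) = (QuotientGroup.mk b) ^ k := by
    rw [← QuotientGroup.mk_zpow, QuotientGroup.eq]
    have h2 : x⁻¹ * b ^ k = (b ^ k)⁻¹ * (x * (b ^ k)⁻¹)⁻¹ * (b ^ k) := by group
    rw [h2]
    have h3 := hN.conj_mem _ (Subgroup.inv_mem _ hk) (b ^ k)⁻¹
    rw [inv_inv] at h3
    exact h3
  have h2 : (QuotientGroup.mk y : X ⧸ Subgroup.zpowers a) = (QuotientGroup.mk b) ^ l := by
    rw [← QuotientGroup.mk_zpow, QuotientGroup.eq]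
    have h2 : y⁻¹ * b ^ l = (b ^ l)⁻¹ * (y * (b ^ l)⁻¹)⁻¹ * (b ^ l) := by group
    rw [h2]
    have h3 := hN.conj_mem _ (Subgroup.inv_mem _ hl) (b ^ l)⁻¹
    rw [inv_inv] at h3
    exact h3
  rw [← QuotientGroup.eq_one_iff]
  have : (QuotientGroup.mk ⁅x, y⁆ : X ⧸ Subgroup.zpowers a) =
      ⁅(QuotientGroup.mk x : X ⧸ Subgroup.zpowers a), QuotientGroup.mk y⁆ := by
    rw [commutatorElement_def, commutatorElement_def]
    rfl
  rw [this, h1, h2, commutatorElement_eq_one_iff_commute]
  exact (Commute.refl _).zpow_zpow k l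

/-- the structure of the abelianization in the non-abelian case -/
theorem mt_abelianization [Finite X] (hX : IsPGroup 2 X) (a b : X)
    (hgen : Subgroup.closure ({a, b} : Set X) = ⊤) {q : ℕ} [hq : Fact q.Prime]
    (hq2 : q ≠ 2) (α : MulAut X) (hα : α ^ q = 1) (hα1 : α ≠ 1) :
    ∃ n : ℕ, orderOf (Abelianization.of a) = 2 ^ n ∧ orderOf (Abelianization.of b) = 2 ^ n ∧
      Subgroup.zpowers (Abelianization.of a) ⊓ Subgroup.zpowers (Abelianization.of b) = ⊥ ∧
      Nat.card (Abelianization X) = 2 ^ n * 2 ^ n := by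
  haveI : Finite (Abelianization X) := inferInstanceAs (Finite (X ⧸ commutator X))
  have hsurj : Function.Surjective (Abelianization.of : X → Abelianization X) :=
    fun y => QuotientGroup.induction_on y (fun x => ⟨x, rfl⟩)
  have hQ : IsPGroup 2 (Abelianization X) := hX.of_surjective _ hsurj
  have hgenQ : Subgroup.closure
      ({Abelianization.of a, Abelianization.of b} : Set (Abelianization X)) = ⊤ := by
    have h1 := MonoidHom.map_closure (Abelianization.of : X →* Abelianization X) ({a, b} : Set X)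
    rw [hgen, Set.image_pair] at h1
    rw [← h1, ← MonoidHom.range_eq_map, MonoidHom.range_eq_top]
    exact hsurj
  obtain ⟨n, ha, hb, hinf⟩ := mt_ab hQ _ _ hgenQ (by
    intro k hidx
    apply mt_no_invariant_index_two hX a b hgen hq2 α hα hα1
      ((powMonoidHom (2 ^ k) : Abelianization X →* Abelianization X).ker.comap
        Abelianization.of) _
      (by rw [Subgroup.index_comap_of_surjective _ hsurj]; exact hidx)
    intro x hx
    rw [Subgroup.mem_comap, MonoidHom.mem_ker] at hx ⊢
    have h1 : (Abelianization.of x) ^ 2 ^ k = 1 := hx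
    show (Abelianization.of (α x)) ^ 2 ^ k = 1
    rw [← map_pow] at h1 ⊢
    have h2 : x ^ 2 ^ k ∈ commutator X := by
      rw [← Abelianization.ker_of, MonoidHom.mem_ker]; exact h1
    have h3 : α (x ^ 2 ^ k) ∈ commutator X := by
      have := (Subgroup.characteristic_iff_map_eq.1
        (inferInstance : (commutator X).Characteristic)) α
      rw [← this]
      exact Subgroup.mem_map.2 ⟨_, h2, rfl⟩
    rw [map_pow] at h3
    rw [← Abelianization.ker_of, MonoidHom.mem_ker] at h3
    exact h3)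
  refine ⟨n, ha, hb, hinf, ?_⟩
  haveI : NeZero (2 ^ n) := ⟨by positivity⟩
  obtain ⟨e⟩ := mt_ab_iso (2 ^ n) _ _ hgenQ ha hb hinf
  rw [Nat.card_congr e.toEquiv, Nat.card_prod]
  simp [Nat.card_eq_fintype_card, ZMod.card]

end

end Cfsg.Agent.Lib.Helper9
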