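import Mathlib
import Cfsg.Agent.Lib.Helper9.Meta4
import Cfsg.Agent.Lib.Helper21.OmegaCent

set_option autoImplicit false

namespace Cfsg.Agent.Lib.Helper9

open scoped commutatorElement

section
variable {X : Type*} [Group X]

/-- an endomorphism mapping `d` into `⟨d⟩` stabilizes `⟨d²⟩` -/
theorem mt_sq_stable (φ : X →* X) (d : X) (h : φ d ∈ Subgroup.zpowers d) :
    ∀ x ∈ Subgroup.zpowers (d ^ 2), φ x ∈ Subgroup.zpowers (d ^ 2) := by
  intro x hx
  obtain ⟨j, rfl⟩ := Subgroup.mem_zpowers_iff.1 hx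
  obtain ⟨i, hi⟩ := Subgroup.mem_zpowers_iff.1 h
  rw [map_zpow, map_pow, ← hi]
  refine Subgroup.zpow_mem _ ?_ j
  refine Subgroup.mem_zpowers_iff.2 ⟨i, ?_⟩
  rw [← zpow_natCast, ← zpow_natCast, ← zpow_mul, ← zpow_mul, mul_comm]

/-- `d ∉ ⟨d²⟩` for a non-trivial `2`-element -/
theorem mt_not_mem_sq (d : X) (l : ℕ) (hl : orderOf d = 2 ^ l) (hd : d ≠ 1) :
    d ∉ Subgroup.zpowers (d ^ 2) := by
  intro hmem
  obtain ⟨j, hj⟩ := Subgroup.mem_zpowers_iff.1 hmem
  have h0 : d ^ (2 * j) = d := by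
    rw [zpow_mul, zpow_two, ← pow_two]; exact hj
  have h1 : d ^ (2 * j - 1) = 1 := by
    rw [zpow_sub, zpow_one, h0, mul_inv_cancel]
  have h2 : ((orderOf d : ℕ) : ℤ) ∣ 2 * j - 1 := orderOf_dvd_iff_zpow_eq_one.2 h1
  have hl0 : l ≠ 0 := by
    intro h0
    rw [h0, pow_zero, orderOf_eq_one_iff] at hl
    exact hd hl
  rw [hl] at h2
  have h3 : (2 : ℤ) ∣ 2 * j - 1 := by
    refine Dvd.dvd.trans ?_ h2
    push_cast
    exact dvd_pow_self 2 hl0
  omega

/-- `(4 m).choose 2` is even -/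
theorem mt_choose_even (n : ℕ) (hn : 2 ≤ n) : Even ((2 ^ n).choose 2) := by
  obtain ⟨k, rfl⟩ : ∃ k, n = k + 2 := ⟨n - 2, by omega⟩
  rw [Nat.choose_two_right]
  have h1 : 2 ^ (k + 2) = 2 * (2 * 2 ^ k) := by ring
  rw [h1, mul_assoc, Nat.mul_div_cancel_left _ (by norm_num : 0 < 2)]
  exact ⟨2 ^ k * (2 * (2 * 2 ^ k) - 1), by ring⟩

end

section
variable {X : Type*} [Group X]

/-- the case `n ≥ 2` of the non-abelian analysis: a characteristic subgroup of index two -/
theorem mt_case_ge_two [Finite X] (hX : IsPGroup 2 X) (a b : X)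
    (hgen : Subgroup.closure ({a, b} : Set X) = ⊤) (n : ℕ) (hn : 2 ≤ n) (d : X)
    (hd : d = a ^ 2 ^ n) (hd1 : d ≠ 1) (hcomm : commutator X = Subgroup.zpowers d)
    (hb : b ^ 2 ^ n ∈ commutator X) :
    ∃ M : Subgroup X, M.index = 2 ∧ ∀ α : MulAut X, ∀ x ∈ M, α x ∈ M := by
  haveI : Fact (Nat.Prime 2) := ⟨Nat.prime_two⟩
  have hconj : ∀ φ : MulAut X, φ d ∈ Subgroup.zpowers d := by
    intro φ
    rw [← hcomm]
    have := (Subgroup.characteristic_iff_map_eq.1
      (inferInstance : (commutator X).Characteristic)) φ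
    rw [← this]
    refine Subgroup.mem_map.2 ⟨d, ?_, rfl⟩
    rw [hcomm]; exact Subgroup.mem_zpowers d
  obtain ⟨l, hl⟩ := (IsPGroup.iff_orderOf.1 hX) d
  obtain ⟨Y, hYdef⟩ : ∃ Y : Subgroup X, Y = Subgroup.zpowers (d ^ 2) := ⟨_, rfl⟩
  have hYst : ∀ φ : MulAut X, ∀ x ∈ Y, φ x ∈ Y := by
    intro φ x hx
    rw [hYdef] at hx ⊢
    exact mt_sq_stable φ.toMonoidHom d (hconj φ) x hx
  have hYn : Y.Normal := by
    constructor
    intro x hx g
    have := hYst (MulAut.conj g) x hx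
    simpa using this
  have hdY : d ∉ Y := by rw [hYdef]; exact mt_not_mem_sq d l hl hd1
  have hddY : d * d ∈ Y := by
    rw [hYdef, ← pow_two]; exact Subgroup.mem_zpowers _
  clear hYdef
  -- the quotient
  let mk : X →* X ⧸ Y := QuotientGroup.mk' _
  have hmk_surj : Function.Surjective mk := QuotientGroup.mk'_surjective _
  have hd2 : mk d * mk d = 1 := by
    rw [← map_mul]
    exact (QuotientGroup.eq_one_iff _).2 hddY
  have hdne : mk d ≠ 1 := by
    intro h
    exact hdY ((QuotientGroup.eq_one_iff _).1 h)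
  have hdord : orderOf (mk d) = 2 := orderOf_eq_prime ((pow_two (mk d)).trans hd2) hdne
  have hcommQ : ∀ x y : X ⧸ Y, ⁅x, y⁆ ∈ Subgroup.zpowers (mk d) := by
    intro x y
    obtain ⟨x', rfl⟩ := hmk_surj x
    obtain ⟨y', rfl⟩ := hmk_surj y
    have h1 : ⁅x', y'⁆ ∈ Subgroup.zpowers d := by
      rw [← hcomm, commutator_def]
      exact Subgroup.commutator_mem_commutator (Subgroup.mem_top _) (Subgroup.mem_top _)
    obtain ⟨k, hk⟩ := Subgroup.mem_zpowers_iff.1 h1
    rw [← map_commutatorElement, ← hk, map_zpow]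
    exact Subgroup.zpow_mem _ (Subgroup.mem_zpowers _) k
  have hdcent : ∀ g : X ⧸ Y, g * mk d = mk d * g := by
    intro g
    obtain ⟨g', rfl⟩ := hmk_surj g
    obtain ⟨i, hi⟩ := Subgroup.mem_zpowers_iff.1 (hconj (MulAut.conj g'))
    have h1 : mk g' * mk d * (mk g')⁻¹ = (mk d) ^ i := by
      rw [← map_inv, ← map_mul, ← map_mul, ← map_zpow, hi]
      rfl
    have h2 : (mk d) ^ i = 1 ∨ (mk d) ^ i = mk d := by
      rcases Int.even_or_odd i with ⟨j, hj⟩ | ⟨j, hj⟩
      · left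
        rw [hj, zpow_add, ← (Commute.refl (mk d)).mul_zpow, hd2, one_zpow]
      · right
        rw [hj, zpow_add, two_mul, zpow_add, ← (Commute.refl (mk d)).mul_zpow, hd2, one_zpow,
          one_mul, zpow_one]
    rcases h2 with h2 | h2
    · exfalso
      rw [h2] at h1
      apply hdne
      have : mk d = (mk g')⁻¹ * (mk g' * mk d * (mk g')⁻¹) * mk g' := by group
      rw [this, h1]; group
    · rw [h2] at h1
      calc mk g' * mk d = (mk g' * mk d * (mk g')⁻¹) * mk g' := by group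
        _ = mk d * mk g' := by rw [h1]
  have hzcent : ∀ c ∈ Subgroup.zpowers (mk d), ∀ g : X ⧸ Y, Commute c g := by
    intro c hc g
    obtain ⟨k, rfl⟩ := Subgroup.mem_zpowers_iff.1 hc
    exact (show Commute (mk d) g from (hdcent g).symm).zpow_left k
  have hzsq : ∀ c ∈ Subgroup.zpowers (mk d), c * c = 1 := by
    intro c hc
    obtain ⟨k, rfl⟩ := Subgroup.mem_zpowers_iff.1 hc
    rw [← (Commute.refl (mk d)).mul_zpow, hd2, one_zpow]
  have hpow : ∀ x y : X ⧸ Y, (x * y) ^ 2 ^ n = x ^ 2 ^ n * y ^ 2 ^ n := by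
    intro x y
    have hc : (x * y)⁻¹ * (y * x) ∈ Subgroup.zpowers (mk d) := by
      have : (x * y)⁻¹ * (y * x) = ⁅y⁻¹, x⁻¹⁆ := by
        rw [commutatorElement_def]; group
      rw [this]; exact hcommQ _ _
    have h1 := Cfsg.Agent.Lib.Helper21.OmegaCent.mul_pow_class2 (hzcent _ hc x) (hzcent _ hc y)
      (show y * x = x * y * ((x * y)⁻¹ * (y * x)) by group) (2 ^ n)
    obtain ⟨r, hr⟩ := mt_choose_even n hn
    rw [h1, hr, pow_add, ← (Commute.refl _).mul_pow, hzsq _ hc, one_pow, mul_one]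
  let π : (X ⧸ Y) →* (X ⧸ Y) := MonoidHom.mk' (fun x => x ^ 2 ^ n) hpow
  have hπ : ∀ x, π x = x ^ 2 ^ n := fun x => rfl
  have hrange : π.range = Subgroup.zpowers (mk d) := by
    apply le_antisymm
    · rw [MonoidHom.range_eq_map]
      have htop : (⊤ : Subgroup (X ⧸ Y)) =
          Subgroup.closure ({mk a, mk b} : Set (X ⧸ Y)) := by
        have h1 := MonoidHom.map_closure mk ({a, b} : Set X)
        rw [hgen, Set.image_pair] at h1
        rw [← h1, ← MonoidHom.range_eq_map, MonoidHom.range_eq_top.2 hmk_surj]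
      rw [htop, MonoidHom.map_closure, Subgroup.closure_le, Set.image_pair]
      intro u hu
      rcases hu with rfl | hu
      · rw [hπ, ← map_pow, ← hd]
        exact Subgroup.mem_zpowers _
      · rw [Set.mem_singleton_iff] at hu
        rw [hu, hπ, ← map_pow]
        rw [hcomm] at hb
        obtain ⟨k, hk⟩ := Subgroup.mem_zpowers_iff.1 hb
        rw [← hk, map_zpow]
        exact Subgroup.zpow_mem _ (Subgroup.mem_zpowers _) k
    · rw [Subgroup.zpowers_le]
      refine ⟨mk a, ?_⟩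
      rw [hπ, ← map_pow, ← hd]
  have hidx : π.ker.index = 2 := by
    rw [Subgroup.index_ker, hrange, Nat.card_zpowers, hdord]
  refine ⟨π.ker.comap mk, ?_, ?_⟩
  · rw [Subgroup.index_comap_of_surjective _ hmk_surj]; exact hidx
  · intro α x hx
    rw [Subgroup.mem_comap, MonoidHom.mem_ker, hπ, ← map_pow] at hx ⊢
    have h1 : x ^ 2 ^ n ∈ Y := (QuotientGroup.eq_one_iff _).1 hx
    have h2 := hYst α _ h1
    rw [← map_pow]
    exact (QuotientGroup.eq_one_iff _).2 h2

end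

end Cfsg.Agent.Lib.Helper9
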