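import Mathlib
import Cfsg.Agent.Lib.Helper9.Meta5
import Cfsg.Agent.Lib.Helper24.Taussky

set_option autoImplicit false

namespace Cfsg.Agent.Lib.Helper9

open scoped commutatorElement

section
universe u
variable {X : Type u} [Group X]

/-- the non-abelian case: the group is the quaternion group of order eight -/
theorem mt_nonabelian_case [Finite X] (hX : IsPGroup 2 X) (a b : X)
    (hN : (Subgroup.zpowers a).Normal) (hgen : Subgroup.closure ({a, b} : Set X) = ⊤)
    (hcos : ∀ x : X, ∃ k : ℤ, x * (b ^ k)⁻¹ ∈ Subgroup.zpowers a)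
    (hnc : ¬ ∀ x y : X, x * y = y * x) {q : ℕ} [hq : Fact q.Prime]
    (hq2 : q ≠ 2) (α : MulAut X) (hα : α ^ q = 1) (hα1 : α ≠ 1) :
    Nonempty (X ≃* QuaternionGroup 2) := by
  haveI : Fact (Nat.Prime 2) := ⟨Nat.prime_two⟩
  obtain ⟨n, ha, hb, hinf, hcard⟩ := mt_abelianization hX a b hgen hq2 α hα hα1
  have hX' := mt_commutator_le a b hN hcos
  have hK := fun M hst hidx => mt_no_invariant_index_two hX a b hgen hq2 α hα hα1 M hst hidx
  -- the commutator subgroup is non-trivial
  have hne : commutator X ≠ ⊥ := by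
    intro h0
    apply hnc
    intro x y
    have h1 : ⁅x, y⁆ ∈ commutator X := by
      rw [commutator_def]
      exact Subgroup.commutator_mem_commutator (Subgroup.mem_top _) (Subgroup.mem_top _)
    rw [h0, Subgroup.mem_bot, commutatorElement_eq_one_iff_mul_comm] at h1
    exact h1
  -- membership of powers of a in the commutator subgroup
  have hmem : ∀ k : ℤ, a ^ k ∈ commutator X ↔ ((2 ^ n : ℕ) : ℤ) ∣ k := by
    intro k
    rw [← Abelianization.ker_of, MonoidHom.mem_ker, map_zpow, ← ha,
      orderOf_dvd_iff_zpow_eq_one]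
  have hcomm : commutator X = Subgroup.zpowers (a ^ 2 ^ n) := by
    apply le_antisymm
    · intro g hg
      obtain ⟨k, rfl⟩ := Subgroup.mem_zpowers_iff.1 (hX' hg)
      obtain ⟨j, rfl⟩ := (hmem k).1 hg
      refine Subgroup.mem_zpowers_iff.2 ⟨j, ?_⟩
      rw [zpow_mul, zpow_natCast]
    · rw [Subgroup.zpowers_le]
      have := (hmem ((2 ^ n : ℕ) : ℤ)).2 (dvd_refl _)
      rwa [zpow_natCast] at this
  have hd1 : a ^ 2 ^ n ≠ 1 := by
    intro h1
    apply hne
    rw [hcomm, h1, Subgroup.zpowers_one_eq_bot]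
  have hbX' : b ^ 2 ^ n ∈ commutator X := by
    rw [← Abelianization.ker_of, MonoidHom.mem_ker, map_pow, ← hb, pow_orderOf_eq_one]
  -- n ≠ 0
  have hn0 : n ≠ 0 := by
    intro h0
    rw [h0] at hcard
    have hidx : (commutator X).index = 1 := by
      rw [Subgroup.index_eq_card]
      exact hcard
    have htop : commutator X = ⊤ := Subgroup.index_eq_one.1 hidx
    haveI : Group.IsNilpotent X := hX.isNilpotent
    haveI : Nontrivial X := by
      by_contra hnt
      rw [not_nontrivial_iff_subsingleton] at hnt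
      apply hnc
      intro x y
      exact Subsingleton.elim _ _
    exact (Group.IsSolvable.commutator_lt_top_of_nontrivial X).ne htop
  -- n < 2
  have hn2 : n < 2 := by
    by_contra hge
    rw [not_lt] at hge
    obtain ⟨M, hMi, hMst⟩ := mt_case_ge_two hX a b hgen n hge (a ^ 2 ^ n) rfl hd1 hcomm hbX'
    exact hK M (hMst α) hMi
  have hn1 : n = 1 := by omega
  subst hn1
  rw [pow_one] at ha hb hcomm hd1 hbX' hcard
  -- the Taussky situation
  have hidx4 : (commutator X).index = 4 := by
    rw [Subgroup.index_eq_card]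
    exact hcard
  obtain ⟨m, hm⟩ := (IsPGroup.iff_orderOf.1 hX) a
  have hm2 : 2 ≤ m := by
    by_contra hlt
    apply hd1
    apply orderOf_dvd_iff_pow_eq_one.1
    rw [hm]
    have : m ≤ 1 := by omega
    calc 2 ^ m ∣ 2 ^ 1 := pow_dvd_pow 2 this
      _ = 2 := pow_one 2
  have hNi : (Subgroup.zpowers a).index = 2 := by
    have h1 := Subgroup.card_mul_index (commutator X)
    have h2 := Subgroup.card_mul_index (Subgroup.zpowers a)
    rw [hidx4, hcomm, Nat.card_zpowers, orderOf_pow' a (by norm_num : 2 ≠ 0), hm] at h1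
    rw [Nat.card_zpowers, hm] at h2
    have h3 : (2 ^ m).gcd 2 = 2 := by
      apply Nat.gcd_eq_right
      exact dvd_pow_self 2 (by omega)
    rw [h3] at h1
    have h4 : 2 ^ m / 2 * 2 = 2 ^ m := Nat.div_mul_cancel (dvd_pow_self 2 (by omega))
    have hpos : 0 < 2 ^ m := by positivity
    have h5 : 2 ^ m * (Subgroup.zpowers a).index = 2 ^ m * 2 := by
      rw [h2, ← h1]
      calc 2 ^ m / 2 * 4 = (2 ^ m / 2 * 2) * 2 := by ring
        _ = 2 ^ m * 2 := by rw [h4]
    exact Nat.eq_of_mul_eq_mul_left hpos h5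
  have hNab : ∀ x ∈ Subgroup.zpowers a, ∀ y ∈ Subgroup.zpowers a, x * y = y * x := by
    intro x hx y hy
    obtain ⟨i, rfl⟩ := Subgroup.mem_zpowers_iff.1 hx
    obtain ⟨j, rfl⟩ := Subgroup.mem_zpowers_iff.1 hy
    rw [← zpow_add, ← zpow_add, add_comm]
  -- g = α a lies outside N
  have hg : α a ∉ Subgroup.zpowers a := by
    intro hmemg
    apply hK (Subgroup.zpowers a) _ hNi
    intro x hx
    obtain ⟨k, rfl⟩ := Subgroup.mem_zpowers_iff.1 hx
    rw [map_zpow]
    exact Subgroup.zpow_mem _ hmemg k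
  have hgord : orderOf (α a) = 2 ^ m := by
    rw [MulEquiv.orderOf_eq]; exact hm
  have hcent := Cfsg.Agent.Lib.Helper24.tk_centralizer_card_le (Subgroup.zpowers a) hNab hNi
    (α a) hg hidx4
  obtain ⟨hz2, hcases, hgg, hgc⟩ := Cfsg.Agent.Lib.Helper24.tk_facts a (α a) m (by omega) hm
    hNi hg hcent
  have hgg' : α a * α a = a ^ 2 ^ (m - 1) := by
    rcases hgg with h | h
    · exfalso
      have h1 : orderOf (α a) ∣ 2 := orderOf_dvd_of_pow_eq_one (by rw [pow_two]; exact h)
      rw [hgord] at h1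
      have h2 : 2 ^ m ∣ 2 ^ 1 := by rw [pow_one]; exact h1
      have := (Nat.pow_dvd_pow_iff_le_right (by norm_num : 1 < 2)).1 h2
      omega
    · exact h
  have hm2' : m = 2 := by
    have h1 : (α a) ^ 4 = 1 := by
      have : (α a) ^ 4 = (α a * α a) * (α a * α a) := by
        rw [show (4 : ℕ) = 2 + 2 from rfl, pow_add, pow_two]
      rw [this, hgg', ← pow_two]
      exact orderOf_dvd_iff_pow_eq_one.1 (by rw [hz2])
    have h2 : orderOf (α a) ∣ 4 := orderOf_dvd_of_pow_eq_one h1
    rw [hgord] at h2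
    have h3 : 2 ^ m ∣ 2 ^ 2 := by norm_num; exact h2
    have := (Nat.pow_dvd_pow_iff_le_right (by norm_num : 1 < 2)).1 h3
    omega
  subst hm2'
  have hgc' : α a * a * (α a)⁻¹ = a⁻¹ := by
    rcases hgc with h | h
    · exact h
    · exfalso
      have h1 : a⁻¹ * a ^ 2 ^ (2 - 1) = a := by
        norm_num
        rw [pow_two]; group
      rw [h1] at h
      have h2 : a * α a = α a * a := by
        calc a * α a = (α a * a * (α a)⁻¹) * α a := by rw [h]
          _ = α a * a := by group
      rcases hcases a (Subgroup.mem_zpowers a) h2 with h3 | h3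
      · rw [h3, orderOf_one] at hm
        norm_num at hm
      · have h4 : a = 1 := by
          have h5 : a ^ 2 ^ (2 - 1) = a ^ 2 := by norm_num
          rw [h5, pow_two] at h3
          have : a * 1 = a * a := by rw [mul_one]; exact h3
          exact (mul_left_cancel this).symm
        rw [h4, orderOf_one] at hm
        norm_num at hm
  obtain ⟨k, ⟨e⟩⟩ := Cfsg.Agent.Lib.Helper24.tk_quaternion a (α a) 2 (le_refl _) hm hNi hg
    hgg' hgc'
  have hcardX : Nat.card X = 8 := by
    rw [← Subgroup.card_mul_index (Subgroup.zpowers a), hNi, Nat.card_zpowers, hm]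
    norm_num
  have hk0 : k = 0 := by
    have h1 := Nat.card_congr e.toEquiv
    haveI : NeZero (2 ^ (k + 1)) := ⟨by positivity⟩
    rw [hcardX, Nat.card_eq_fintype_card, QuaternionGroup.card] at h1
    have h2 : 2 ^ (k + 1) = 2 ^ 1 := by omega
    have := Nat.pow_right_injective (le_refl 2) h2
    omega
  subst hk0
  exact ⟨e⟩

/-- a finite metacyclic `2`-group whose automorphism group is not a `2`-group is quaternion of
order eight or homocyclic of rank two -/
theorem mt_main [Finite X] (hX : IsPGroup 2 X) (hm : Cfsg.IsMetacyclic X)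
    (hA : ¬ IsPGroup 2 (MulAut X)) :
    Nonempty (X ≃* QuaternionGroup 2) ∨
      ∃ n : ℕ, Nonempty (X ≃* Multiplicative (ZMod (2 ^ n)) × Multiplicative (ZMod (2 ^ n))) := by
  haveI : Fact (Nat.Prime 2) := ⟨Nat.prime_two⟩
  -- an automorphism of odd prime order
  obtain ⟨q, hq, hq2, α, hαord⟩ : ∃ q : ℕ, q.Prime ∧ q ≠ 2 ∧ ∃ α : MulAut X, orderOf α = q := by
    by_contra hno
    push Not at hno
    apply hA
    have hpos : Nat.card (MulAut X) ≠ 0 := Nat.card_pos.ne'
    have h1 := Nat.eq_prime_pow_of_unique_prime_dvd (p := 2) hpos (by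
      intro d hd hdvd
      by_contra hd2
      haveI : Fact d.Prime := ⟨hd⟩
      obtain ⟨α, hα⟩ := exists_prime_orderOf_dvd_card' d hdvd
      exact hno d hd hd2 α hα)
    exact IsPGroup.of_card h1
  haveI : Fact q.Prime := ⟨hq⟩
  have hα : α ^ q = 1 := by rw [← hαord]; exact pow_orderOf_eq_one α
  have hα1 : α ≠ 1 := by
    intro h
    rw [h, orderOf_one] at hαord
    exact hq.one_lt.ne hαord
  obtain ⟨a, b, hN, hgen, hcos⟩ := mt_gens hm
  by_cases hcomm : ∀ x y : X, x * y = y * x
  · right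
    exact mt_abelian_case hcomm hX a b hgen hq2 α hα hα1
  · left
    exact mt_nonabelian_case hX a b hN hgen hcos hcomm hq2 α hα hα1

end

end Cfsg.Agent.Lib.Helper9
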