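import Cfsg.Agent.Lib.Helper9.N5400FINDcore
import Cfsg.Agent.Lib.Helper19.N5400ORB
import Cfsg.Agent.Lib.Helper1.N5400STAB
import Cfsg.Agent.Lib.Helper25.N5400ORBSIZE

/-!
# Sub-project N5400 (helper10), piece FIND (helper9): `find_z` verbatim
(= `n5400find_core` + ORB (helper19) + STAB (helper1) + ORBSIZE (helper25)).
-/

set_option autoImplicit false
set_option linter.unusedVariables false
set_option linter.unusedSectionVars false

namespace Cfsg.Agent.Lib.Helper10.N5400

open Classical

universe u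

variable {G : Type u} [Group G] [Finite G]

/-- FIND [M]: a Sylow 5-subgroup `Q ≠ P` meeting `P` in a subgroup of order 5, and an element of order 3 normalising both. -/
theorem find_z (P : Sylow 5 G) (hP : Nat.card ↥(P : Subgroup G) = 25) (hn : Nat.card (Sylow 5 G) = 36)
    (hN : Nat.card ↥(Subgroup.normalizer ((P : Subgroup G) : Set G)) = 150) :
    ∃ (Q : Sylow 5 G) (z : G), Q ≠ P ∧ Nat.card ↥((P : Subgroup G) ⊓ (Q : Subgroup G)) = 5 ∧ orderOf z = 3 ∧
      z ∈ Subgroup.normalizer ((P : Subgroup G) : Set G) ∧ z ∈ Subgroup.normalizer ((Q : Subgroup G) : Set G) := by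
  haveI : Fact (Nat.Prime 5) := ⟨by norm_num⟩
  exact n5400find_core P hP hn hN
    (fun d1 d2 h0 hd => orb_two P d1 d2 h0 hd)
    (fun Q => stab_card 5 P Q)
    (fun Q => orbit_card 5 P Q)

end Cfsg.Agent.Lib.Helper10.N5400
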