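import Mathlib
import Cfsg.Prelude.Def_Blocks
import Cfsg.Agent.Lib.Helper16.AP3
import Cfsg.Agent.Lib.Helper10.SLB.Defs

/-!
# SLB row G11 (helper9): `le_of_radical`.
-/

set_option autoImplicit false

namespace Cfsg.Agent.Lib.Helper10.SLB

universe u

/-- `Q ⊓ N(D) ≤ D` when `D = O_p(N(D))` and `N(D)` normalises the `p`-group `Q`. -/
theorem slbg11_inf_le {G : Type*} [Group G] (p : ℕ) (D Q : Subgroup G)
    (hQ : IsPGroup p Q)
    (hrad : (Cfsg.pCore p (Subgroup.normalizer (D : Set G))).map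
      (Subgroup.normalizer (D : Set G)).subtype = D)
    (hN : Subgroup.normalizer (D : Set G) ≤ Subgroup.normalizer (Q : Set G)) :
    Q ⊓ Subgroup.normalizer (D : Set G) ≤ D := by
  intro x hx
  obtain ⟨hxQ, hxN⟩ := hx
  set N := Subgroup.normalizer (D : Set G) with hNdef
  have hR : (Q.subgroupOf N) ≤ Cfsg.pCore p N := by
    unfold Cfsg.pCore
    apply le_sSup
    refine ⟨?_, ?_⟩
    · constructor
      intro n hn g
      rw [Subgroup.mem_subgroupOf] at hn ⊢
      have hg : (g : G) ∈ Subgroup.normalizer (Q : Set G) := hN g.2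
      have := (Subgroup.mem_normalizer_iff.mp hg (n : G)).mp hn
      simpa using this
    · exact hQ.comap_subtype
  rw [← hrad]
  refine ⟨⟨x, hxN⟩, hR ?_, rfl⟩
  rw [Subgroup.mem_subgroupOf]
  exact hxQ

theorem le_of_radical {G : Type*} [Group G] [Finite G] (p : ℕ) [Fact p.Prime] (D Q : Subgroup G)
    (hD : IsPGroup p D) (hQ : IsPGroup p Q)
    (hrad : (Cfsg.pCore p (Subgroup.normalizer (D : Set G))).map
      (Subgroup.normalizer (D : Set G)).subtype = D)
    (hN : Subgroup.normalizer (D : Set G) ≤ Subgroup.normalizer (Q : Set G)) : Q ≤ D := by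
  have hinf := slbg11_inf_le p D Q hQ hrad hN
  have hDQ : D ≤ Subgroup.normalizer (Q : Set G) := le_trans Subgroup.le_normalizer hN
  by_contra hcon
  set P : Subgroup G := D ⊔ Q with hPdef
  have hP : IsPGroup p P := IsPGroup.to_sup_of_normal_right' hD hQ hDQ
  have hnil : Group.IsNilpotent P := hP.isNilpotent
  have hnc := @Group.normalizerCondition_of_isNilpotent P _ hnil
  have hlt : D.subgroupOf P < ⊤ := by
    rw [lt_top_iff_ne_top, Ne, Subgroup.subgroupOf_eq_top]
    intro hPD
    exact hcon (le_trans le_sup_right hPD)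
  obtain ⟨y', hy'N, hy'D⟩ := SetLike.exists_of_lt (hnc _ hlt)
  have hyD : (y' : G) ∉ D := by
    intro h
    exact hy'D (Subgroup.mem_subgroupOf.mpr h)
  have hyN : (y' : G) ∈ Subgroup.normalizer (D : Set G) := by
    apply Subgroup.mem_normalizer_fintype
    intro n hn
    have hnP : n ∈ P := le_sup_left (a := D) (b := Q) hn
    have h1 : (⟨n, hnP⟩ : P) ∈ D.subgroupOf P := Subgroup.mem_subgroupOf.mpr hn
    have h2 := (Subgroup.mem_normalizer_iff.mp hy'N _).mp h1
    rw [Subgroup.mem_subgroupOf] at h2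
    simpa using h2
  have hyP : (y' : G) ∈ ((D ⊔ Q : Subgroup G) : Set G) := y'.2
  rw [Subgroup.coe_mul_of_left_le_normalizer_right D Q hDQ] at hyP
  obtain ⟨d, hd, q, hq, hdq⟩ := hyP
  have hqN : q ∈ Subgroup.normalizer (D : Set G) := by
    have : q = d⁻¹ * (y' : G) := by rw [← hdq]; group
    rw [this]
    exact mul_mem (inv_mem (Subgroup.le_normalizer hd)) hyN
  have hqD : q ∈ D := hinf ⟨hq, hqN⟩
  apply hyD
  rw [← hdq]
  exact mul_mem hd hqD

end Cfsg.Agent.Lib.Helper10.SLB
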