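import Mathlib
import Cfsg.Prelude.Def_Blocks
import Cfsg.Agent.Lib.Helper16.AP3
import Cfsg.Agent.Lib.Helper10.SLB.Defs
import Cfsg.Agent.S0908
import Cfsg.Agent.Lib.Helper25.DefectOneTwo
import Cfsg.Agent.Lib.helper7.BlockDefGrp

/-!
# SLB row G10 (helper9): `full_defect_iff`.
-/

set_option autoImplicit false

namespace Cfsg.Agent.Lib.Helper10.SLB

universe u

theorem full_defect_iff {G : Type*} [Group G] [Finite G] (p : ℕ) [Fact p.Prime]
    (M : Ideal Cfsg.AlgInt) (hM : Cfsg.IsPModular p M) (B : Set (Cfsg.IrrCharacter G))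
    (hB : Cfsg.IsPBlock M B) (S : Sylow p G) :
    Cfsg.blockDefect p B = (Nat.card G).factorization p ↔
      Cfsg.IsDefectGroup p M B (S : Subgroup G) := by
  have hp : p.Prime := Fact.out
  constructor
  · intro hdef
    obtain ⟨D, hD⟩ := Cfsg.Agent.Lib.Helper25.sd_exists_defect p M hM B hB
    have hcard : Nat.card D = p ^ (Nat.card G).factorization p := by
      rw [Cfsg.Agent.S0908.result p M hM B hB D hD, hdef]
    have hDp : IsPGroup p D := IsPGroup.of_card hcard
    obtain ⟨P, hDP⟩ := hDp.exists_le_sylow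
    have hPcard : Nat.card (P : Subgroup G) = p ^ (Nat.card G).factorization p :=
      P.card_eq_multiplicity
    have hDeq : D = (P : Subgroup G) := by
      apply Subgroup.eq_of_le_of_card_ge hDP
      rw [hcard, hPcard]
    obtain ⟨g, hg⟩ := MulAction.exists_smul_eq G P S
    have : Fintype G := Fintype.ofFinite G
    have hconj := Cfsg.Agent.Lib.helper7.h7_isDefectGroup_conj p M B D hD g
    have hS : (S : Subgroup G) = D.map (MulAut.conj g).toMonoidHom := by
      rw [← hg, hDeq]
      rfl
    rw [hS]
    exact hconj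
  · intro hS
    have h1 := Cfsg.Agent.S0908.result p M hM B hB (S : Subgroup G) hS
    have h2 : Nat.card (S : Subgroup G) = p ^ (Nat.card G).factorization p :=
      S.card_eq_multiplicity
    rw [h1] at h2
    exact Nat.pow_right_injective hp.two_le h2

end Cfsg.Agent.Lib.Helper10.SLB
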