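import Cfsg.Agent.Lib.helper17.SLP.Defs

/-!
# SP4 rows H1 (`ev_map`) and H2 (`exists_word`)
-/

set_option autoImplicit false

namespace Cfsg.Agent.Lib.helper3.SP4

open Cfsg.Agent.Lib.helper17.SLP
open Polynomial

universe u v

/-- H1 [S-M]  Both sides are homomorphisms `FreeGroup (Fin 3) →* H` agreeing on the three generators (`FreeGroup.ext_hom`, `fin_cases`, `ev`, `FreeGroup.lift.of`). -/
theorem ev_map {G : Type u} {H : Type v} [Group G] [Group H] (φ : G →* H) (a b c : G)
    (r : FreeGroup (Fin 3)) : φ (ev a b c r) = ev (φ a) (φ b) (φ c) r := by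
  have h : φ.comp (ev a b c) = ev (φ a) (φ b) (φ c) := by
    apply FreeGroup.ext_hom
    intro i
    fin_cases i <;> simp [ev]
  exact DFunLike.congr_fun h r

/-- H2 [S-M]  The range of `ev a b c` is a subgroup containing `a b c`, hence `⊤` (`hgen`, `Subgroup.closure_le`). -/
theorem exists_word {S : Type u} [Group S] (a b c : S) (hgen : Subgroup.closure {a, b, c} = ⊤) (m : S) :
    ∃ r : FreeGroup (Fin 3), ev a b c r = m := by
  have hle : Subgroup.closure {a, b, c} ≤ (ev a b c).range := by
    rw [Subgroup.closure_le]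
    intro x hx
    simp only [Set.mem_insert_iff, Set.mem_singleton_iff] at hx
    rcases hx with rfl | rfl | rfl
    · exact ⟨gU, ev_gU _ _ _⟩
    · exact ⟨gH, ev_gH _ _ _⟩
    · exact ⟨gW, ev_gW _ _ _⟩
  have hm : m ∈ (ev a b c).range := hle (hgen ▸ Subgroup.mem_top m)
  exact hm

end Cfsg.Agent.Lib.helper3.SP4
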