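import Mathlib
import Cfsg.Agent.Lib.helper3.C6U.Defs

/-!
# Project C6U, rows A4 (`i_frob`) + A5 (`exists_omega`) (helper9)
-/

set_option autoImplicit false
set_option linter.unusedVariables false
set_option linter.unusedSectionVars false

namespace Cfsg.Agent.Lib.helper3.C6U

open Polynomial Matrix
open Cfsg.Agent.Lib.Helper10.C6P
open scoped MatrixGroups

variable {F : Type*} [Field F]

section fin

variable [Fintype F] {p : ℕ} [Fact p.Prime] [CharP F p]

/-- A4 [S-M] : `p ≡ 3 (mod 4)`: a square root of `-1` has `i ^ p = -i`. -/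
theorem i_frob (hp4 : p % 4 = 3) (i : F) (hi : i * i = -1) : i ^ p = -i := by
  have h4 : i ^ 4 = 1 := by
    have : i ^ 4 = (i * i) * (i * i) := by ring
    rw [this, hi]
    ring
  have hp : p = 4 * (p / 4) + 3 := by omega
  rw [hp, pow_add, pow_mul, h4, one_pow, one_mul]
  have : i ^ 3 = (i * i) * i := by ring
  rw [this, hi]
  ring

/-- A5 [S-M] : `p ≡ 1 (mod 3)`: a primitive cube root of unity in the prime field. -/
theorem exists_omega (hF : Fintype.card F = p ^ 2) (hp3 : p % 3 = 1) :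
    ∃ ω : F, ω ^ 2 + ω + 1 = 0 ∧ ω ^ p = ω := by
  have hp : p.Prime := Fact.out
  haveI : Fact (Nat.Prime 3) := ⟨Nat.prime_three⟩
  have hcard : Nat.card (ZMod p)ˣ = p - 1 := by
    rw [Nat.card_eq_fintype_card, ZMod.card_units_eq_totient, Nat.totient_prime hp]
  have h3 : 3 ∣ Nat.card (ZMod p)ˣ := by
    rw [hcard]
    have := hp.two_le
    omega
  obtain ⟨u, hu⟩ := exists_prime_orderOf_dvd_card' 3 h3
  have hu3 : u ^ 3 = 1 := by
    rw [← hu]; exact pow_orderOf_eq_one u
  have hu1 : u ≠ 1 := by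
    intro h
    rw [h, orderOf_one] at hu
    omega
  set w : ZMod p := (u : ZMod p) with hw
  have hw3 : w ^ 3 = 1 := by
    rw [hw, ← Units.val_pow_eq_pow_val, hu3, Units.val_one]
  have hw1 : w ≠ 1 := by
    intro h
    apply hu1
    apply Units.ext
    rw [Units.val_one]
    exact h
  have hweq : w ^ 2 + w + 1 = 0 := by
    have h1 : (w - 1) * (w ^ 2 + w + 1) = 0 := by
      have : (w - 1) * (w ^ 2 + w + 1) = w ^ 3 - 1 := by ring
      rw [this, hw3, sub_self]
    rcases mul_eq_zero.mp h1 with h | h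
    · exact absurd (sub_eq_zero.mp h) hw1
    · exact h
  have hwp : w ^ p = w := ZMod.pow_card w
  refine ⟨ZMod.castHom (dvd_refl p) F w, ?_, ?_⟩
  · rw [← map_pow, ← map_add, ← map_one (ZMod.castHom (dvd_refl p) F), ← map_add, hweq, map_zero]
  · rw [← map_pow, hwp]

end fin

end Cfsg.Agent.Lib.helper3.C6U
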