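import Mathlib
import Cfsg.Agent.Lib.helper17.STM.Defs
import Cfsg.Agent.Lib.helper17.STM.Defs2
import Cfsg.Agent.Lib.helper17.STM.Defs3
import Cfsg.Agent.Lib.helper17.STM.Sub
import Cfsg.Agent.Lib.Helper24.STCI1
import Cfsg.Agent.Lib.Helper20.STMR0
import Cfsg.Agent.Lib.Helper20.STMR3

/-!
# Project STM (designer helper17), row R5 (helper9), verbatim: `SysM.Rep.M_w_fst SysM.Rep.M_h_fst` (port of `Helper9.STBR5`)
(extras prefixed `stmr5_`: the long Weyl matrix on the basis vectors `e_a`, `e_b`)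
-/

set_option autoImplicit false

namespace Cfsg.Agent.Lib.helper17.STM

open Matrix Cfsg.Agent.Lib.helper15.St2 Cfsg.Agent.Lib.helper3.STC Cfsg.Agent.Lib.Lead.STD

universe v w

theorem stmr5_Em_ng {ι l : Type*} (e : ι ↪ l) (a : ι ⊕ ι) : Em e (ng a) = ng (Em e a) := by
  cases a <;> rfl

theorem stmr5_Em_injective {ι l : Type*} (e : ι ↪ l) : Function.Injective (Em e) := by
  intro a b h
  cases a <;> cases b <;> simp [Em] at h <;> simp [h]

section W
variable {l : Type*} [Fintype l] [DecidableEq l] {F : Type*} [Field F]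

/-- `TmL a b t` fixes the basis vectors other than `e_b`, `e_{-a}` -/
theorem stmr5_TmL_evm_of_ne (a b : l ⊕ l) (t : F) {c : Im l} (hc : c ≠ Sum.inl b) (hc' : c ≠ Sum.inl (ng a)) :
    TmL a b t *ᵥ (evm c : Im l → F) = evm c := by
  rw [TmL_mulVec]
  have h1 : (evm c : Im l → F) (Sum.inl b) = 0 := by
    unfold evm
    rw [Pi.single_apply, if_neg hc.symm]
  have h2 : (evm c : Im l → F) (Sum.inl (ng a)) = 0 := by
    unfold evm
    rw [Pi.single_apply, if_neg hc'.symm]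
  rw [h1, h2, mul_zero, Pi.single_zero, Pi.single_zero, add_zero, sub_zero]

/-- `TmL a b t e_b = e_b + t e_a` -/
theorem stmr5_TmL_evm_snd {a b : l ⊕ l} (hab' : a ≠ ng b) (t : F) :
    TmL a b t *ᵥ (evm (Sum.inl b) : Im l → F) = evm (Sum.inl b) + t • evm (Sum.inl a) := by
  rw [TmL_mulVec]
  have h1 : (evm (Sum.inl b) : Im l → F) (Sum.inl b) = 1 := by
    unfold evm
    rw [Pi.single_apply, if_pos rfl]
  have h2 : (evm (Sum.inl b) : Im l → F) (Sum.inl (ng a)) = 0 := by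
    unfold evm
    rw [Pi.single_apply, if_neg]
    intro h
    apply hab'
    have := Sum.inl.inj h
    rw [← this, ng_ng]
  rw [h1, h2, mul_zero, Pi.single_zero, sub_zero, mul_one]
  congr 1
  unfold evm
  ext m
  simp only [Pi.smul_apply, Pi.single_apply, smul_eq_mul]
  split_ifs <;> simp

/-- the long Weyl matrix on `e_a` -/
theorem stmr5_W_a {a b : l ⊕ l} (hab : a ≠ b) (hab' : a ≠ ng b) (u : F) (hu : u ≠ 0) :
    (TmL a b u * TmL b a (-u⁻¹) * TmL a b u) *ᵥ (evm (Sum.inl a) : Im l → F) = (-u⁻¹) • evm (Sum.inl b) := by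
  have hba' : b ≠ ng a := fun h => hab' (by rw [h, ng_ng])
  rw [← Matrix.mulVec_mulVec, ← Matrix.mulVec_mulVec,
    stmr5_TmL_evm_of_ne a b u (fun h => hab (Sum.inl.inj h)) (fun h => ne_ng a (Sum.inl.inj h)),
    stmr5_TmL_evm_snd hba', Matrix.mulVec_add, Matrix.mulVec_smul,
    stmr5_TmL_evm_of_ne a b u (fun h => hab (Sum.inl.inj h)) (fun h => ne_ng a (Sum.inl.inj h)),
    stmr5_TmL_evm_snd hab', smul_add, smul_smul, neg_mul, inv_mul_cancel₀ hu]
  module

/-- the long Weyl matrix on `e_b` -/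
theorem stmr5_W_b {a b : l ⊕ l} (hab : a ≠ b) (hab' : a ≠ ng b) (u : F) (hu : u ≠ 0) :
    (TmL a b u * TmL b a (-u⁻¹) * TmL a b u) *ᵥ (evm (Sum.inl b) : Im l → F) = u • evm (Sum.inl a) := by
  have hba' : b ≠ ng a := fun h => hab' (by rw [h, ng_ng])
  rw [← Matrix.mulVec_mulVec, ← Matrix.mulVec_mulVec, stmr5_TmL_evm_snd hab', Matrix.mulVec_add, Matrix.mulVec_smul,
    stmr5_TmL_evm_of_ne b a (-u⁻¹) (fun h => hab (Sum.inl.inj h).symm) (fun h => ne_ng b (Sum.inl.inj h)),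
    stmr5_TmL_evm_snd hba', smul_add, smul_smul, mul_neg, mul_inv_cancel₀ hu]
  have e : (evm (Sum.inl b) : Im l → F) + (u • evm (Sum.inl a) + (-1 : F) • evm (Sum.inl b)) = u • evm (Sum.inl a) := by
    module
  rw [e, Matrix.mulVec_smul,
    stmr5_TmL_evm_of_ne a b u (fun h => hab (Sum.inl.inj h)) (fun h => ne_ng a (Sum.inl.inj h))]

end W

namespace SysM

namespace Rep

variable {F : Type*} [Field F] {A B : F} [Fact (∀ r : F, r ^ 2 ≠ -B + A * r)] {ι : Type*} {G : Type*} [Group G] {S : SysM F A B ι G}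
  {l : Type*} [Fintype l] [DecidableEq l] (R : S.Rep l)

/-- the matrix of the long Weyl element -/
theorem stmr5_M_w {a b : ι ⊕ ι} (hab : a ≠ b) (hab' : a ≠ ng b) (u : F) :
    R.M (S.w a b u) = TmL (Em R.e a) (Em R.e b) u * TmL (Em R.e b) (Em R.e a) (-u⁻¹) * TmL (Em R.e a) (Em R.e b) u := by
  have hba' : b ≠ ng a := fun h => hab' (by rw [h, ng_ng])
  show R.M (S.x a b u * S.x b a (-u⁻¹) * S.x a b u) = _
  rw [M_mul, M_mul, M_x R hab hab', M_x R hab.symm hba']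

/-- R5 [S-M] -/
theorem M_w_fst {a b : ι ⊕ ι} (hab : a ≠ b) (hab' : a ≠ ng b) (u : F) (hu : u ≠ 0) :
    R.M (S.w a b u) *ᵥ evm (Ebm R.e a) = (-u⁻¹) • evm (Ebm R.e b) := by
  rw [stmr5_M_w R hab hab']
  refine stmr5_W_a (fun h => hab (stmr5_Em_injective R.e h)) ?_ u hu
  rw [← stmr5_Em_ng]
  exact fun h => hab' (stmr5_Em_injective R.e h)

/-- the column `e_b` of the long Weyl element -/
theorem stmr5_M_w_snd {a b : ι ⊕ ι} (hab : a ≠ b) (hab' : a ≠ ng b) (u : F) (hu : u ≠ 0) :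
    R.M (S.w a b u) *ᵥ evm (Ebm R.e b) = u • evm (Ebm R.e a) := by
  rw [stmr5_M_w R hab hab']
  refine stmr5_W_b (fun h => hab (stmr5_Em_injective R.e h)) ?_ u hu
  rw [← stmr5_Em_ng]
  exact fun h => hab' (stmr5_Em_injective R.e h)

theorem M_h_fst {a b : ι ⊕ ι} (hab : a ≠ b) (hab' : a ≠ ng b) (u : F) (hu : u ≠ 0) :
    R.M (S.h a b u) *ᵥ evm (Ebm R.e a) = u • evm (Ebm R.e a) := by
  show R.M (S.w a b u * S.w a b (-1)) *ᵥ evm (Ebm R.e a) = u • evm (Ebm R.e a)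
  rw [M_mul, ← Matrix.mulVec_mulVec, M_w_fst R hab hab' (-1) (neg_ne_zero.2 one_ne_zero), inv_neg, inv_one, neg_neg, one_smul,
    stmr5_M_w_snd R hab hab' u hu]

end Rep

end SysM

end Cfsg.Agent.Lib.helper17.STM
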