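import Mathlib
import Cfsg.Prelude.Def_Local
import Cfsg.Agent.Lib.Helper9.ZJ16

set_option autoImplicit false

namespace Cfsg.Agent.Lib.Helper9

open scoped Pointwise commutatorElement

section ZJ17

variable {G : Type*} [Group G]

/-- every Sylow subgroup of a quotient is the image of a Sylow subgroup -/
theorem exists_sylow_map_eq [Finite G] {p : ℕ} [Fact p.Prime] (N : Subgroup G) [N.Normal]
    (P' : Sylow p (G ⧸ N)) :
    ∃ P : Sylow p G, (P : Subgroup G).map (QuotientGroup.mk' N) = (P' : Subgroup (G ⧸ N)) := by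
  have hsurj : Function.Surjective (QuotientGroup.mk' N) := QuotientGroup.mk'_surjective N
  obtain ⟨P₁⟩ := (inferInstance : Nonempty (Sylow p G))
  obtain ⟨g', hg'⟩ := MulAction.exists_smul_eq (G ⧸ N) (Sylow.mapSurjective hsurj P₁) P'
  obtain ⟨g, rfl⟩ := hsurj g'
  refine ⟨g • P₁, ?_⟩
  rw [← hg', Sylow.coe_subgroup_smul, Sylow.coe_subgroup_smul, Sylow.coe_mapSurjective]
  ext x
  rw [Subgroup.mem_pointwise_smul_iff_inv_smul_mem, MulAut.smul_def]
  constructor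
  · intro hx
    obtain ⟨y, hy, rfl⟩ := Subgroup.mem_map.mp hx
    rw [Subgroup.mem_pointwise_smul_iff_inv_smul_mem, MulAut.smul_def] at hy
    refine Subgroup.mem_map.mpr ⟨_, hy, ?_⟩
    simp
  · intro hx
    obtain ⟨y, hy, hyx⟩ := Subgroup.mem_map.mp hx
    refine Subgroup.mem_map.mpr ⟨g * y * g⁻¹, ?_, ?_⟩
    · rw [Subgroup.mem_pointwise_smul_iff_inv_smul_mem, MulAut.smul_def]
      simpa [mul_assoc] using hy
    · have h1 : (QuotientGroup.mk' N) (g * y * g⁻¹) =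
          (QuotientGroup.mk' N) g * (QuotientGroup.mk' N) y * ((QuotientGroup.mk' N) g)⁻¹ := by
        simp
      rw [h1, hyx]
      simp [mul_assoc]


theorem isPStable_quotient_of_isPStable [Finite G] {p : ℕ} [Fact p.Prime]
    (hs : Cfsg.IsPStable p G) : Cfsg.IsPStable p (G ⧸ Cfsg.pPrimeCore p G) := by
  have hsurjπ : Function.Surjective (QuotientGroup.mk' (Cfsg.pPrimeCore p G)) :=
    QuotientGroup.mk'_surjective _
  have hNcop : (Nat.card (Cfsg.pPrimeCore p G)).Coprime p := Helper1.pPrimeCore_card_coprime p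
  have hbot : Cfsg.pPrimeCore p (G ⧸ Cfsg.pPrimeCore p G) = ⊥ :=
    Helper1.pPrimeCore_quotient_eq_bot p
  refine ⟨hs.1, ?_, ?_⟩
  · intro h
    apply hs.2.1
    have h1 := pCore_map_le_of_surjective (p := p) (QuotientGroup.mk' (Cfsg.pPrimeCore p G)) hsurjπ
    rw [h, le_bot_iff, Subgroup.map_eq_bot_iff, QuotientGroup.ker_mk'] at h1
    rw [eq_bot_iff]
    intro x hx
    rw [Subgroup.mem_bot]
    exact Helper5.h5_eq_one_of_mem_pgroup_of_mem_coprime (Helper1.pCore_isPGroup p) hNcop hx (h1 hx)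
  · intro A' P₀' hA' hP₀' hnorm' hle' hsupn' hq'
    have hP₀'n : P₀'.Normal := by
      rw [hbot, bot_sup_eq] at hsupn'; exact hsupn'
    have hNtop : Subgroup.normalizer (P₀' : Set (G ⧸ Cfsg.pPrimeCore p G)) = ⊤ :=
      normal_normalizer_eq_top P₀'
    rintro _ ⟨⟨a', ha'N⟩, ha'A, rfl⟩
    rw [SetLike.mem_coe, Subgroup.mem_subgroupOf] at ha'A
    have hza : Subgroup.zpowers a' ≤ A' := Subgroup.zpowers_le.mpr ha'A
    obtain ⟨P', hP'⟩ := (hA'.to_le hza).exists_le_sylow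
    obtain ⟨P, hP⟩ := exists_sylow_map_eq (Cfsg.pPrimeCore p G) P'
    have ha'P : a' ∈ (P : Subgroup G).map (QuotientGroup.mk' (Cfsg.pPrimeCore p G)) := by
      rw [hP]; exact hP' (Subgroup.mem_zpowers a')
    have hq2 : ⁅⁅P₀', Subgroup.zpowers a'⁆, Subgroup.zpowers a'⁆ = ⊥ := by
      rw [eq_bot_iff, ← hq']
      exact Subgroup.commutator_mono (Subgroup.commutator_mono le_rfl hza) hza
    have h1 := hst_quotient_of_isPStable hs P P₀' hP₀' a' ha'P hq2
    exact (pstable_transfer_iff (p := p) (MonoidHom.id (G ⧸ Cfsg.pPrimeCore p G)) P₀' P₀'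
      (Subgroup.map_id P₀') (by rw [hNtop, Subgroup.map_id]) (fun n _ h => h) a' ha'N).mpr h1


set_option maxHeartbeats 800000 in
theorem isPStable_of_isPStable_quotient [Finite G] {p : ℕ} [Fact p.Prime]
    (hO : Cfsg.pCore p G ≠ ⊥)
    (hs' : Cfsg.IsPStable p (G ⧸ Cfsg.pPrimeCore p G)) : Cfsg.IsPStable p G := by
  have hsurjπ : Function.Surjective (QuotientGroup.mk' (Cfsg.pPrimeCore p G)) :=
    QuotientGroup.mk'_surjective _
  have hNcop : (Nat.card (Cfsg.pPrimeCore p G)).Coprime p := Helper1.pPrimeCore_card_coprime p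
  have hbot : Cfsg.pPrimeCore p (G ⧸ Cfsg.pPrimeCore p G) = ⊥ :=
    Helper1.pPrimeCore_quotient_eq_bot p
  have hNmap : (Cfsg.pPrimeCore p G).map (QuotientGroup.mk' (Cfsg.pPrimeCore p G)) = ⊥ := by
    rw [Subgroup.map_eq_bot_iff, QuotientGroup.ker_mk']
  refine ⟨hs'.1, hO, ?_⟩
  intro A P₀ hA hP₀ hnorm hle hsupn hq
  obtain ⟨P₀', hP₀'def⟩ : ∃ P₀' : Subgroup (G ⧸ Cfsg.pPrimeCore p G),
      P₀' = P₀.map (QuotientGroup.mk' (Cfsg.pPrimeCore p G)) := ⟨_, rfl⟩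
  have hP₀'n : P₀'.Normal := by
    have h1 := Subgroup.Normal.map hsupn (QuotientGroup.mk' (Cfsg.pPrimeCore p G)) hsurjπ
    rw [Subgroup.map_sup, hNmap, bot_sup_eq, ← hP₀'def] at h1
    exact h1
  have hNtop : Subgroup.normalizer (P₀' : Set (G ⧸ Cfsg.pPrimeCore p G)) = ⊤ :=
    normal_normalizer_eq_top _
  have hcon' := hs'.2.2 (A.map (QuotientGroup.mk' (Cfsg.pPrimeCore p G))) P₀' (hA.map _)
    (by rw [hP₀'def]; exact hP₀.map _)
    (by
      rw [hP₀'def]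
      rintro _ ⟨a, ha, rfl⟩ _ ⟨x, hx, rfl⟩
      refine Subgroup.mem_map.mpr ⟨a * x * a⁻¹, hnorm a ha x hx, by simp⟩)
    (by
      rw [hP₀'def]
      intro x hx
      obtain ⟨y, hy, rfl⟩ := Subgroup.mem_map.mp hx
      have h1 := hle hy
      unfold Cfsg.pPrimePCore at h1
      rw [Subgroup.mem_comap] at h1
      exact Helper5.h5_pCore_le_pPrimePCore h1)
    (by rw [hbot, bot_sup_eq]; exact hP₀'n)
    (by rw [hP₀'def, ← map_double_commutator, hq, Subgroup.map_bot])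
  -- Frattini
  have hfr := sup_normalizer_eq_top_of_sup_normal P₀ (Cfsg.pPrimeCore p G) hP₀ hNcop
    (by rw [sup_comm]; exact hsupn)
  have hsurj : (Subgroup.normalizer (P₀ : Set G)).map (QuotientGroup.mk' (Cfsg.pPrimeCore p G)) = ⊤ := by
    have h1 := congrArg (Subgroup.map (QuotientGroup.mk' (Cfsg.pPrimeCore p G))) hfr
    rw [Subgroup.map_sup, Subgroup.map_top_of_surjective _ hsurjπ, hNmap, bot_sup_eq] at h1
    exact h1
  have hker : ∀ n ∈ Subgroup.normalizer (P₀ : Set G),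
      (QuotientGroup.mk' (Cfsg.pPrimeCore p G)) n ∈ Subgroup.centralizer
        (P₀' : Set (G ⧸ Cfsg.pPrimeCore p G)) →
      n ∈ Subgroup.centralizer (P₀ : Set G) := by
    intro n hn hcn
    rw [Subgroup.mem_centralizer_iff]
    intro v hv
    have h1 := Subgroup.mem_centralizer_iff.mp hcn _
      (by rw [hP₀'def]; exact Subgroup.mem_map.mpr ⟨v, hv, rfl⟩)
    rw [← map_mul, ← map_mul] at h1
    have h2 : (n * v)⁻¹ * (v * n) ∈ Cfsg.pPrimeCore p G := QuotientGroup.eq.mp h1.symm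
    have hn' : n⁻¹ ∈ Subgroup.normalizer (P₀ : Set G) := Subgroup.inv_mem _ hn
    have h3 : n⁻¹ * v * n⁻¹⁻¹ ∈ P₀ := (Subgroup.mem_normalizer_iff.mp hn' v).mp hv
    have h4 : (n * v)⁻¹ * (v * n) ∈ P₀ := by
      have e : (n * v)⁻¹ * (v * n) = v⁻¹ * (n⁻¹ * v * n⁻¹⁻¹) := by group
      rw [e]; exact P₀.mul_mem (P₀.inv_mem hv) h3
    have h5 := Helper5.h5_eq_one_of_mem_pgroup_of_mem_coprime hP₀ hNcop h4 h2
    have h6 : n * v = v * n := inv_mul_eq_one.mp h5
    exact h6.symm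
  rintro _ ⟨⟨a, haN⟩, haA, rfl⟩
  rw [SetLike.mem_coe, Subgroup.mem_subgroupOf] at haA
  have ha'N : (QuotientGroup.mk' (Cfsg.pPrimeCore p G)) a ∈ Subgroup.normalizer
      (P₀' : Set (G ⧸ Cfsg.pPrimeCore p G)) := by
    rw [hNtop]; trivial
  have h1 : (QuotientGroup.mk' ((Subgroup.centralizer (P₀' : Set (G ⧸ Cfsg.pPrimeCore p G))).subgroupOf
      (Subgroup.normalizer (P₀' : Set (G ⧸ Cfsg.pPrimeCore p G)))))
      ⟨(QuotientGroup.mk' (Cfsg.pPrimeCore p G)) a, ha'N⟩ ∈ Cfsg.pCore p _ := by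
    apply hcon'
    refine Subgroup.mem_map.mpr ⟨_, ?_, rfl⟩
    rw [Subgroup.mem_subgroupOf]
    exact Subgroup.mem_map.mpr ⟨a, haA, rfl⟩
  have h2 := (pstable_transfer_iff (p := p) (MonoidHom.id (G ⧸ Cfsg.pPrimeCore p G)) P₀' P₀'
    (Subgroup.map_id _) (by rw [hNtop, Subgroup.map_id]) (fun n _ h => h) _ ha'N).mp h1
  exact (pstable_transfer_iff (p := p) (QuotientGroup.mk' (Cfsg.pPrimeCore p G)) P₀ P₀' hP₀'def.symm
    hsurj hker a haN).mpr h2

end ZJ17

end Cfsg.Agent.Lib.Helper9
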