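import Mathlib
import Cfsg.Prelude.Def_Local
import Cfsg.Agent.Lib.Helper9.ZJ11

set_option autoImplicit false

namespace Cfsg.Agent.Lib.Helper9

open scoped Pointwise commutatorElement

section ZJ12

variable {G : Type*} [Group G]

/-- the local hypothesis: every `p`-local has trivial `p'`-core, is `p`-constrained and `p`-stable -/
def LocHyp (p : ℕ) (G : Type*) [Group G] : Prop :=
  ∀ Q : Subgroup G, IsPGroup p Q → Q ≠ ⊥ →
    Cfsg.pPrimeCore p ↥(Subgroup.normalizer (Q : Set G)) = ⊥ ∧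
    Cfsg.IsPConstrained p ↥(Subgroup.normalizer (Q : Set G)) ∧
    Cfsg.IsPStable p ↥(Subgroup.normalizer (Q : Set G))

theorem climb [Finite G] {p : ℕ} [Fact p.Prime] (hp : p ≠ 2) (hloc : LocHyp p G) :
    ∀ (k : ℕ) (R : Subgroup G), IsPGroup p R → R ≠ ⊥ → Nat.card G - Nat.card R = k →
      ∃ P'' : Sylow p G, R ≤ (P'' : Subgroup G) ∧
        Subgroup.normalizer (zfam (fun A : Subgroup G => IsMulCommutative A) R : Set G) ≤
        Subgroup.normalizer (zfam (fun A : Subgroup G => IsMulCommutative A) (P'' : Subgroup G) : Set G) := by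
  intro k
  induction k using Nat.strong_induction_on with
  | _ k ih =>
  intro R hR hR1 hk
  obtain ⟨Ps, hPs⟩ := hR.exists_le_sylow
  by_cases hRP : R = (Ps : Subgroup G)
  · exact ⟨Ps, hPs, by rw [hRP]⟩
  have hlt : R < (Ps : Subgroup G) := lt_of_le_of_ne hPs hRP
  have hgrow := lt_inf_normalizer Ps.isPGroup' hlt
  have hQ1p : IsPGroup p (zfam (fun A : Subgroup G => IsMulCommutative A) R) :=
    hR.to_le (zfam_comm_le R)
  have hQ1ne := zfam_comm_ne_bot R hR hR1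
  have hRplus_le : (Ps : Subgroup G) ⊓ Subgroup.normalizer (R : Set G) ≤
      Subgroup.normalizer (zfam (fun A : Subgroup G => IsMulCommutative A) R : Set G) :=
    inf_le_right.trans (normalizer_le_normalizer_zfam _ qc_aut R)
  have hRplus_p : IsPGroup p ((Ps : Subgroup G) ⊓ Subgroup.normalizer (R : Set G) : Subgroup G) :=
    Ps.isPGroup'.to_le inf_le_left
  obtain ⟨R₁', hR₁'⟩ := exists_sylow_map_ge _ _ hRplus_p hRplus_le
  have hloc1 := local_zj hp _ (hloc _ hQ1p hQ1ne) R₁'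
  obtain ⟨R₁, hR₁def⟩ : ∃ R₁ : Subgroup G, R₁ = (R₁' : Subgroup ↥(Subgroup.normalizer
      (zfam (fun A : Subgroup G => IsMulCommutative A) R : Set G))).map
      (Subgroup.normalizer (zfam (fun A : Subgroup G => IsMulCommutative A) R : Set G)).subtype :=
    ⟨_, rfl⟩
  rw [← hR₁def] at hR₁' hloc1
  have hRR₁ : R < R₁ := lt_of_lt_of_le hgrow hR₁'
  have hR₁p : IsPGroup p R₁ := by rw [hR₁def]; exact R₁'.isPGroup'.map _
  have hR₁ne : R₁ ≠ ⊥ := by
    intro hb
    rw [hb] at hRR₁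
    exact hR1 (le_bot_iff.mp hRR₁.le)
  have hcard := card_lt_of_lt' hRR₁
  have hcardG : Nat.card R₁ ≤ Nat.card G := Subgroup.card_le_card_group _
  obtain ⟨P'', hP''le, hP''n⟩ := ih (Nat.card G - Nat.card R₁) (by omega) R₁ hR₁p hR₁ne rfl
  exact ⟨P'', hRR₁.le.trans hP''le, hloc1.trans hP''n⟩


theorem sylow_eq_of_le [Finite G] {p : ℕ} [Fact p.Prime] {T T' : Sylow p G}
    (h : (T : Subgroup G) ≤ T') : T = T' :=
  Sylow.ext (T.is_maximal' T'.isPGroup' h).symm

theorem zfam_smul_sylow [Finite G] {p : ℕ} [Fact p.Prime] (n : G) (P₁ : Sylow p G) :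
    zfam (fun A : Subgroup G => IsMulCommutative A) ((n • P₁ : Sylow p G) : Subgroup G) =
      (zfam (fun A : Subgroup G => IsMulCommutative A) (P₁ : Subgroup G)).map
        (MulAut.conj n).toMonoidHom := by
  rw [Sylow.coe_subgroup_smul, Subgroup.pointwise_smul_def]
  exact zfam_map _ qc_aut (MulAut.conj n) _

theorem zj_eq_of_inter [Finite G] {p : ℕ} [Fact p.Prime] (c : ℕ) (hc1 : 1 ≤ c)
    (hΦ : ∀ Q : Subgroup G, IsPGroup p Q → Q ≠ ⊥ → c < Nat.card Q → ∀ T : Sylow p G,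
      Q ≤ (T : Subgroup G) → Subgroup.normalizer (Q : Set G) ≤
        Subgroup.normalizer (zfam (fun A : Subgroup G => IsMulCommutative A) (T : Subgroup G) : Set G)) :
    ∀ (k : ℕ) (T T' : Sylow p G), c < Nat.card ↥((T : Subgroup G) ⊓ (T' : Subgroup G)) →
      Nat.card G - Nat.card ↥((T : Subgroup G) ⊓ (T' : Subgroup G)) = k →
      zfam (fun A : Subgroup G => IsMulCommutative A) (T : Subgroup G) =
        zfam (fun A : Subgroup G => IsMulCommutative A) (T' : Subgroup G) := by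
  intro k
  induction k using Nat.strong_induction_on with
  | _ k ih =>
  intro T T' hcD hk
  by_cases hDT : (T : Subgroup G) ⊓ (T' : Subgroup G) = (T : Subgroup G)
  · have : T = T' := sylow_eq_of_le (inf_eq_left.mp hDT)
    rw [this]
  have hDT' : (T : Subgroup G) ⊓ (T' : Subgroup G) ≠ (T' : Subgroup G) := by
    intro h
    have : T' = T := sylow_eq_of_le (inf_eq_right.mp h)
    apply hDT
    rw [this]; exact inf_idem _
  have hlt : (T : Subgroup G) ⊓ (T' : Subgroup G) < (T : Subgroup G) := lt_of_le_of_ne inf_le_left hDT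
  have hlt' : (T : Subgroup G) ⊓ (T' : Subgroup G) < (T' : Subgroup G) :=
    lt_of_le_of_ne inf_le_right hDT'
  have hDp : IsPGroup p ↥((T : Subgroup G) ⊓ (T' : Subgroup G)) := T.isPGroup'.to_le inf_le_left
  have hDne : (T : Subgroup G) ⊓ (T' : Subgroup G) ≠ ⊥ := by
    intro h
    rw [h, Subgroup.card_bot] at hcD
    omega
  have hN₀T := hΦ _ hDp hDne hcD T inf_le_left
  have hN₀T' := hΦ _ hDp hDne hcD T' inf_le_right
  have hU₁ := lt_inf_normalizer T.isPGroup' hlt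
  have hU₂ := lt_inf_normalizer T'.isPGroup' hlt'
  obtain ⟨R₁', hR₁'⟩ := exists_sylow_map_ge
    (Subgroup.normalizer (((T : Subgroup G) ⊓ (T' : Subgroup G) : Subgroup G) : Set G))
    ((T : Subgroup G) ⊓ Subgroup.normalizer (((T : Subgroup G) ⊓ (T' : Subgroup G) : Subgroup G) : Set G))
    (T.isPGroup'.to_le inf_le_left) inf_le_right
  obtain ⟨R₂', hR₂'⟩ := exists_sylow_map_ge
    (Subgroup.normalizer (((T : Subgroup G) ⊓ (T' : Subgroup G) : Subgroup G) : Set G))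
    ((T' : Subgroup G) ⊓ Subgroup.normalizer (((T : Subgroup G) ⊓ (T' : Subgroup G) : Subgroup G) : Set G))
    (T'.isPGroup'.to_le inf_le_left) inf_le_right
  obtain ⟨n, hn⟩ := MulAction.exists_smul_eq
    ↥(Subgroup.normalizer (((T : Subgroup G) ⊓ (T' : Subgroup G) : Subgroup G) : Set G)) R₁' R₂'
  obtain ⟨P₁, hP₁⟩ := (R₁'.isPGroup'.map (Subgroup.normalizer
    (((T : Subgroup G) ⊓ (T' : Subgroup G) : Subgroup G) : Set G)).subtype).exists_le_sylow
  -- U₂ ≤ n • P₁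
  have hU₂P₂ : (T' : Subgroup G) ⊓ Subgroup.normalizer
      (((T : Subgroup G) ⊓ (T' : Subgroup G) : Subgroup G) : Set G) ≤
      (((n : G) • P₁ : Sylow p G) : Subgroup G) := by
    intro x hx
    obtain ⟨y, hy, rfl⟩ := Subgroup.mem_map.mp (hR₂' hx)
    rw [← hn] at hy
    have hy' : y ∈ ((n • R₁' : Sylow p _) : Subgroup _) := hy
    rw [Sylow.coe_subgroup_smul, Subgroup.mem_pointwise_smul_iff_inv_smul_mem, MulAut.smul_def] at hy'
    have h1 : ((MulAut.conj n)⁻¹ y : ↥(Subgroup.normalizer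
      (((T : Subgroup G) ⊓ (T' : Subgroup G) : Subgroup G) : Set G))).1 ∈ (P₁ : Subgroup G) :=
      hP₁ (Subgroup.mem_map.mpr ⟨_, hy', rfl⟩)
    rw [Sylow.coe_subgroup_smul, Subgroup.mem_pointwise_smul_iff_inv_smul_mem, MulAut.smul_def]
    simpa using h1
  have hcardT : Nat.card ↥((T : Subgroup G) ⊓ (T' : Subgroup G)) <
      Nat.card ↥((T : Subgroup G) ⊓ (P₁ : Subgroup G)) := by
    apply lt_of_lt_of_le (card_lt_of_lt' hU₁)
    apply Subgroup.card_le_of_le
    exact le_inf inf_le_left (hR₁'.trans hP₁)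
  have hcardT' : Nat.card ↥((T : Subgroup G) ⊓ (T' : Subgroup G)) <
      Nat.card ↥((T' : Subgroup G) ⊓ (((n : G) • P₁ : Sylow p G) : Subgroup G)) := by
    apply lt_of_lt_of_le (card_lt_of_lt' hU₂)
    apply Subgroup.card_le_of_le
    exact le_inf inf_le_left hU₂P₂
  have hG1 : Nat.card ↥((T : Subgroup G) ⊓ (P₁ : Subgroup G)) ≤ Nat.card G :=
    Subgroup.card_le_card_group _
  have hG2 : Nat.card ↥((T' : Subgroup G) ⊓ (((n : G) • P₁ : Sylow p G) : Subgroup G)) ≤ Nat.card G :=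
    Subgroup.card_le_card_group _
  have e1 := ih _ (by omega) T P₁ (by omega) rfl
  have e2 := ih _ (by omega) T' ((n : G) • P₁) (by omega) rfl
  rw [e2, zfam_smul_sylow, ← e1]
  exact (zj_map_conj_eq_of_mem_normalizer (hN₀T n.2)).symm


theorem normalizer_le_normalizer_zj [Finite G] {p : ℕ} [Fact p.Prime] (hp : p ≠ 2)
    (hloc : LocHyp p G) :
    ∀ (d : ℕ) (Q : Subgroup G), IsPGroup p Q → Q ≠ ⊥ → ∀ T : Sylow p G, Q ≤ (T : Subgroup G) →
      Nat.card (T : Subgroup G) - Nat.card Q = d →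
      Subgroup.normalizer (Q : Set G) ≤
        Subgroup.normalizer (zfam (fun A : Subgroup G => IsMulCommutative A) (T : Subgroup G) : Set G) := by
  intro d
  induction d using Nat.strong_induction_on with
  | _ d ih =>
  intro Q hQ hQ1 T hQT hd
  by_cases hQeq : Q = (T : Subgroup G)
  · rw [hQeq]
    exact normalizer_le_normalizer_zfam _ qc_aut _
  have hlt : Q < (T : Subgroup G) := lt_of_le_of_ne hQT hQeq
  have hgrow := lt_inf_normalizer T.isPGroup' hlt
  obtain ⟨R₀', hR₀'⟩ := exists_sylow_map_ge (Subgroup.normalizer (Q : Set G))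
    ((T : Subgroup G) ⊓ Subgroup.normalizer (Q : Set G)) (T.isPGroup'.to_le inf_le_left) inf_le_right
  have hloc0 := local_zj hp Q (hloc Q hQ hQ1) R₀'
  obtain ⟨R₀, hR₀def⟩ : ∃ R₀ : Subgroup G, R₀ = (R₀' : Subgroup ↥(Subgroup.normalizer
      (Q : Set G))).map (Subgroup.normalizer (Q : Set G)).subtype := ⟨_, rfl⟩
  rw [← hR₀def] at hR₀' hloc0
  have hR₀p : IsPGroup p R₀ := by rw [hR₀def]; exact R₀'.isPGroup'.map _
  have hQR₀ : Q < R₀ := lt_of_lt_of_le hgrow hR₀'
  have hR₀ne : R₀ ≠ ⊥ := by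
    intro hb
    rw [hb] at hQR₀
    exact hQ1 (le_bot_iff.mp hQR₀.le)
  obtain ⟨P'', hP''le, hP''n⟩ := climb hp hloc _ R₀ hR₀p hR₀ne rfl
  have hcardQ : 1 ≤ Nat.card Q := Nat.card_pos
  have hcardQT : Nat.card Q ≤ Nat.card (T : Subgroup G) := Subgroup.card_le_of_le hQT
  have hΦ : ∀ Q₂ : Subgroup G, IsPGroup p Q₂ → Q₂ ≠ ⊥ → Nat.card Q < Nat.card Q₂ →
      ∀ T₂ : Sylow p G, Q₂ ≤ (T₂ : Subgroup G) → Subgroup.normalizer (Q₂ : Set G) ≤
        Subgroup.normalizer (zfam (fun A : Subgroup G => IsMulCommutative A) (T₂ : Subgroup G) : Set G) := by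
    intro Q₂ hQ₂ hQ₂1 hlt₂ T₂ hQ₂T₂
    have hc2 : Nat.card (T₂ : Subgroup G) = Nat.card (T : Subgroup G) := by
      rw [Sylow.card_eq_multiplicity, Sylow.card_eq_multiplicity]
    have hle2 : Nat.card Q₂ ≤ Nat.card (T₂ : Subgroup G) := Subgroup.card_le_of_le hQ₂T₂
    exact ih (Nat.card (T₂ : Subgroup G) - Nat.card Q₂) (by omega) Q₂ hQ₂ hQ₂1 T₂ hQ₂T₂ rfl
  have hinter : Nat.card Q < Nat.card ↥((T : Subgroup G) ⊓ (P'' : Subgroup G)) := by
    apply lt_of_lt_of_le (card_lt_of_lt' hgrow)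
    apply Subgroup.card_le_of_le
    exact le_inf inf_le_left (hR₀'.trans hP''le)
  have heq := zj_eq_of_inter (Nat.card Q) hcardQ hΦ _ T P'' hinter rfl
  rw [heq]
  exact hloc0.trans hP''n

end ZJ12

end Cfsg.Agent.Lib.Helper9
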