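import Mathlib

set_option autoImplicit false

namespace Cfsg.Agent.Lib.Helper9

open Subgroup

theorem transfer_eq_pow_of_ctrl {G : Type*} [Group G] {H : Subgroup G} {A : Type*} [CommGroup A]
    (ϕ : H →* A) [H.FiniteIndex] (g : G) (hg : g ∈ H)
    (key : ∀ (k : ℕ) (g₀ : G) (h : g₀⁻¹ * g ^ k * g₀ ∈ H),
      ϕ ⟨g₀⁻¹ * g ^ k * g₀, h⟩ = ϕ ⟨g, hg⟩ ^ k) :
    MonoidHom.transfer ϕ g = ϕ ⟨g, hg⟩ ^ H.index := by
  classical
  have : Fintype (Quotient (MulAction.orbitRel (zpowers (g : G)) (G ⧸ H))) :=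
    Fintype.ofFinite _
  rw [index_eq_sum_minimalPeriod H g, ← Finset.prod_pow_eq_pow_sum,
    MonoidHom.transfer_eq_prod_quotient_orbitRel_zpowers_quot]
  apply Finset.prod_congr rfl
  intro q _
  exact key _ _ _

theorem not_mem_commutator_of_hom_ne_one {G : Type*} [Group G] {A : Type*} [CommGroup A]
    (f : G →* A) (g : G) (h : f g ≠ 1) : g ∉ commutator G := by
  intro hg
  exact h (Abelianization.commutator_subset_ker f hg)

end Cfsg.Agent.Lib.Helper9

namespace Cfsg.Agent.Lib.Helper9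

open Subgroup

/-- Packaged transfer into `H ⧸ K` for `K` normal in `H` with commutative quotient, evaluated at a
controlled element. -/
theorem exists_transfer_hom_of_ctrl.{u} {G : Type u} [Group G] [Finite G] (H K : Subgroup G)
    (hKn : (K.subgroupOf H).Normal) (hab : ∀ x ∈ H, ∀ y ∈ H, x * y * x⁻¹ * y⁻¹ ∈ K)
    (g : G) (hgH : g ∈ H)
    (hctrl : ∀ (k : ℕ) (a : G), a⁻¹ * g ^ k * a ∈ H → (a⁻¹ * g ^ k * a) * (g ^ k)⁻¹ ∈ K) :
    ∃ (A : Type u) (_ : CommGroup A) (f : G →* A) (ϕ : H →* A), Function.Surjective ϕ ∧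
      (∀ x : H, ϕ x = 1 ↔ (x : G) ∈ K) ∧ f g = ϕ ⟨g, hgH⟩ ^ H.index := by
  classical
  have := hKn
  let inst : CommGroup (H ⧸ K.subgroupOf H) :=
    { (inferInstance : Group (H ⧸ K.subgroupOf H)) with
      mul_comm := by
        intro a b
        induction a using QuotientGroup.induction_on with
        | H x =>
          induction b using QuotientGroup.induction_on with
          | H y =>
            rw [← QuotientGroup.mk_mul, ← QuotientGroup.mk_mul, QuotientGroup.eq,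
              Subgroup.mem_subgroupOf]
            have := hab (y : G)⁻¹ (H.inv_mem y.2) (x : G)⁻¹ (H.inv_mem x.2)
            simpa [mul_assoc] using this }
  let ϕ : H →* (H ⧸ K.subgroupOf H) := QuotientGroup.mk' (K.subgroupOf H)
  have hϕ1 : ∀ x : H, ϕ x = 1 ↔ (x : G) ∈ K := by
    intro x
    exact (QuotientGroup.eq_one_iff x).trans Subgroup.mem_subgroupOf
  have key : ∀ (k : ℕ) (g₀ : G) (h : g₀⁻¹ * g ^ k * g₀ ∈ H),
      ϕ ⟨g₀⁻¹ * g ^ k * g₀, h⟩ = ϕ ⟨g, hgH⟩ ^ k := by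
    intro k g₀ h
    have h1 := hctrl k g₀ h
    have h2 : ϕ (⟨g₀⁻¹ * g ^ k * g₀, h⟩ * (⟨g, hgH⟩ ^ k)⁻¹) = 1 := by
      rw [hϕ1]
      simpa using h1
    rw [map_mul, map_inv, mul_inv_eq_one, map_pow] at h2
    exact h2
  exact ⟨H ⧸ K.subgroupOf H, inst, MonoidHom.transfer ϕ, ϕ, QuotientGroup.mk'_surjective _, hϕ1,
    transfer_eq_pow_of_ctrl ϕ g hgH key⟩

/-- A homomorphism to a finite `2`-group that is nontrivial gives a subgroup of index two. -/
theorem exists_index_two_of_hom_ne_one {G A : Type*} [Group G] [Group A] [Finite A]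
    (hA : IsPGroup 2 A) (f : G →* A) (g : G) (hg : f g ≠ 1) : ∃ K : Subgroup G, K.index = 2 := by
  have : Fact (Nat.Prime 2) := ⟨Nat.prime_two⟩
  have hI : IsPGroup 2 f.range := hA.to_subgroup _
  obtain ⟨a, ha⟩ := IsPGroup.iff_card.1 hI
  have ha1 : a ≠ 0 := by
    rintro rfl
    rw [pow_zero] at ha
    have hbot := Subgroup.eq_bot_of_card_eq _ ha
    apply hg
    have h1 : f g ∈ f.range := ⟨g, rfl⟩
    rw [hbot] at h1
    exact Subgroup.mem_bot.1 h1
  obtain ⟨b, rfl⟩ : ∃ b, a = b + 1 := Nat.exists_eq_succ_of_ne_zero ha1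
  obtain ⟨J, hJ⟩ := Sylow.exists_subgroup_card_pow_prime_of_le_card Nat.prime_two hI (n := b)
    (by rw [ha]; exact Nat.pow_le_pow_right (by norm_num) (Nat.le_succ _))
  refine ⟨J.comap f.rangeRestrict, ?_⟩
  rw [Subgroup.index_comap_of_surjective _ f.rangeRestrict_surjective]
  have h2 := J.card_mul_index
  rw [hJ, ha, pow_succ] at h2
  exact Nat.eq_of_mul_eq_mul_left (by positivity) h2

end Cfsg.Agent.Lib.Helper9
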