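import Mathlib
import Cfsg.Agent.Lib.Helper20.GLE.Defs

/-!
# Project GLE (designer helper20, S2291), rows E1 E2 E3 E4 (helper9), VERBATIM:
`lamC_apply lamC_one lamC_mul`, `stab01_full`, `lamC_congr lamC_congr1`, `lamC_swap`
(ports of `helper14.SPME1`, `Helper25.SPME3`, `Helper25.SPME6.spme6_lamC_swap`).
-/

set_option autoImplicit false

namespace Cfsg.Agent.Lib.Helper20.GLE

open Cfsg.Agent.Lib.helper3.STC (ng ab)
open Cfsg.Agent.Lib.helper3.SPM (Pts pe sgm sn sig2 ptsFin pe2)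
open Cfsg.Agent.Lib.Helper27.STU
open Cfsg.Agent.Lib.helper17.SLP (cm)

universe u v w x v' y

section main
variable {F : Type u} [Field F] [StarRing F] {L : Type x} [Group L] {ι : Type w} [Fintype ι] [DecidableEq ι] {G : Type v} [Group G]
  (S₂ : SysU F False (Fin 2) L) (swL : L) (ζ : F) (p : Pts ι) (ν : Equiv.Perm ι →* G) (lam : L →* G)

/-- E1 [S]  model SPM E1. -/
theorem lamC_apply (σ : Equiv.Perm ι) (g : L) : lamC ν lam σ g = ν σ * lam g * (ν σ)⁻¹ := by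
  rfl

theorem lamC_one (g : L) : lamC ν lam 1 g = lam g := by
  rw [lamC_apply, map_one, one_mul, inv_one, mul_one]

theorem lamC_mul (σ τ : Equiv.Perm ι) (g : L) : lamC ν lam (σ * τ) g = ν σ * lamC ν lam τ g * (ν σ)⁻¹ := by
  rw [lamC_apply, lamC_apply, map_mul, mul_inv_rev]
  group

omit [Fintype ι] in
/-- a permutation fixing `o0` and `o1` commutes with the transposition `(o0 o1)` -/
theorem glee1_comm_swap {σ : Equiv.Perm ι} (h0 : σ p.o0 = p.o0) (h1 : σ p.o1 = p.o1) :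
    σ * Equiv.swap p.o0 p.o1 = Equiv.swap p.o0 p.o1 * σ := by
  have := Equiv.swap_mul_eq_mul_swap (f := σ) (x := p.o0) (y := p.o1)
  have e0 : σ⁻¹ p.o0 = p.o0 := by rw [Equiv.Perm.inv_eq_iff_eq]; exact h0.symm
  have e1 : σ⁻¹ p.o1 = p.o1 := by rw [Equiv.Perm.inv_eq_iff_eq]; exact h1.symm
  rw [e0, e1] at this
  exact this.symm

/-- E2 [M]  model SPM E2. -/
theorem stab01_full (H : Glue S₂ swL ζ p ν lam) (hU : UFacts S₂ swL ζ) {σ : Equiv.Perm ι} (h0 : σ p.o0 = p.o0) (h1 : σ p.o1 = p.o1) (g : L) :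
    ν σ * lam g * (ν σ)⁻¹ = lam g := by
  -- the subgroup of the `g` centralised by `ν σ`
  let C : Subgroup L :=
    { carrier := {g | ν σ * lam g * (ν σ)⁻¹ = lam g}
      one_mem' := by
        show ν σ * lam 1 * (ν σ)⁻¹ = lam 1
        rw [map_one, mul_one, mul_inv_cancel]
      mul_mem' := by
        intro a b ha hb
        show ν σ * lam (a * b) * (ν σ)⁻¹ = lam (a * b)
        have ha' : ν σ * lam a * (ν σ)⁻¹ = lam a := ha
        have hb' : ν σ * lam b * (ν σ)⁻¹ = lam b := hb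
        rw [map_mul]
        calc ν σ * (lam a * lam b) * (ν σ)⁻¹
            = (ν σ * lam a * (ν σ)⁻¹) * (ν σ * lam b * (ν σ)⁻¹) := by group
          _ = lam a * lam b := by rw [ha', hb']
      inv_mem' := by
        intro a ha
        show ν σ * lam a⁻¹ * (ν σ)⁻¹ = lam a⁻¹
        have ha' : ν σ * lam a * (ν σ)⁻¹ = lam a := ha
        rw [map_inv]
        calc ν σ * (lam a)⁻¹ * (ν σ)⁻¹ = (ν σ * lam a * (ν σ)⁻¹)⁻¹ := by group
          _ = (lam a)⁻¹ := by rw [ha'] }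
  have hsw : swL ∈ C := by
    show ν σ * lam swL * (ν σ)⁻¹ = lam swL
    rw [← H.sw, ← map_mul, glee1_comm_swap p h0 h1, map_mul, mul_inv_cancel_right]
  have hle : Subgroup.closure ({uA S₂ 1, uA S₂ ζ, swL} ∪ (B1 S₂ : Set L)) ≤ C := by
    rw [Subgroup.closure_le]
    rintro x (hx | hx)
    · rcases hx with rfl | rfl | hx
      · exact H.stab01 σ h0 h1 1 (Or.inl rfl)
      · exact H.stab01 σ h0 h1 ζ (Or.inr rfl)
      · rw [Set.mem_singleton_iff] at hx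
        subst hx
        exact hsw
    · exact H.stab1 σ h1 x hx
  rw [hU.gen4] at hle
  exact hle (Subgroup.mem_top g)

/-- E3 [S-M]  model SPM E3. -/
theorem lamC_congr (H : Glue S₂ swL ζ p ν lam) (hU : UFacts S₂ swL ζ) {σ τ : Equiv.Perm ι} (h0 : σ p.o0 = τ p.o0) (h1 : σ p.o1 = τ p.o1) (g : L) :
    lamC ν lam σ g = lamC ν lam τ g := by
  have e0 : (τ⁻¹ * σ) p.o0 = p.o0 := by
    rw [Equiv.Perm.mul_apply, h0]; exact τ.symm_apply_apply _
  have e1 : (τ⁻¹ * σ) p.o1 = p.o1 := by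
    rw [Equiv.Perm.mul_apply, h1]; exact τ.symm_apply_apply _
  have hfix := stab01_full S₂ swL ζ p ν lam H hU e0 e1 g
  have hσ : σ = τ * (τ⁻¹ * σ) := by group
  rw [lamC_apply, lamC_apply]
  conv_lhs => rw [hσ, map_mul]
  calc ν τ * ν (τ⁻¹ * σ) * lam g * (ν τ * ν (τ⁻¹ * σ))⁻¹
      = ν τ * (ν (τ⁻¹ * σ) * lam g * (ν (τ⁻¹ * σ))⁻¹) * (ν τ)⁻¹ := by group
    _ = ν τ * lam g * (ν τ)⁻¹ := by rw [hfix]

theorem lamC_congr1 (H : Glue S₂ swL ζ p ν lam) {σ τ : Equiv.Perm ι} (h1 : σ p.o1 = τ p.o1) {g : L} (hg : g ∈ B1 S₂) :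
    lamC ν lam σ g = lamC ν lam τ g := by
  have e1 : (τ⁻¹ * σ) p.o1 = p.o1 := by
    rw [Equiv.Perm.mul_apply, h1]; exact τ.symm_apply_apply _
  have hfix := H.stab1 (τ⁻¹ * σ) e1 g hg
  have hσ : σ = τ * (τ⁻¹ * σ) := by group
  rw [lamC_apply, lamC_apply]
  conv_lhs => rw [hσ, map_mul]
  calc ν τ * ν (τ⁻¹ * σ) * lam g * (ν τ * ν (τ⁻¹ * σ))⁻¹
      = ν τ * (ν (τ⁻¹ * σ) * lam g * (ν (τ⁻¹ * σ))⁻¹) * (ν τ)⁻¹ := by group
    _ = ν τ * lam g * (ν τ)⁻¹ := by rw [hfix]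

/-- E4 [S]  model SPM E4: `H.sw`, `map_mul`. -/
theorem lamC_swap (H : Glue S₂ swL ζ p ν lam) (σ : Equiv.Perm ι) (g : L) :
    lamC ν lam (σ * Equiv.swap p.o0 p.o1) g = lamC ν lam σ (swL * g * swL⁻¹) := by
  rw [lamC_apply, lamC_apply, map_mul, H.sw, map_mul, map_mul, map_inv]
  group

end main

end Cfsg.Agent.Lib.Helper20.GLE
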