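import Mathlib
import Cfsg.Agent.Lib.Helper20.GLE.Defs
import Cfsg.Agent.Lib.Helper20.SPMA1
import Cfsg.Agent.Lib.Helper29.SPMA3
import Cfsg.Agent.Lib.Helper29.SPMA4
import Cfsg.Agent.Lib.Helper24.STCI1
import Cfsg.Agent.Lib.Helper9.GLEE1
import Cfsg.Agent.Lib.Helper9.GLEE8core

/-!
# Project GLE (designer helper20, S2291), rows E5 E6 E8 (helper9), VERBATIM:
`xrs_pair`, `xrl_pair`, `lamC_xrs`, `lamC_xrl` (ports of `helper3.SPM.E5h3`, `Helper25.SPME6`, `Helper9.SPME7core`).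
-/

set_option autoImplicit false

namespace Cfsg.Agent.Lib.Helper20.GLE

open Cfsg.Agent.Lib.helper3.STC (ng ab)
open Cfsg.Agent.Lib.helper3.SPM (Pts pe sgm sn sig2 ptsFin pe2)
open Cfsg.Agent.Lib.Helper27.STU
open Cfsg.Agent.Lib.helper17.SLP (cm)

universe u v w x v' y

theorem glee5_sn0 {a' : Fin 2 ⊕ Fin 2} (ha : ab a' = 0) : sn a' 0 = a' := by
  rcases a' with k | k <;> · simp only [ab] at ha; subst ha; rfl

theorem glee5_sn1 {a' : Fin 2 ⊕ Fin 2} (ha : ab a' = 1) : sn a' 1 = a' := by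
  rcases a' with k | k <;> · simp only [ab] at ha; subst ha; rfl

theorem glee5_sn0' {a' : Fin 2 ⊕ Fin 2} (ha : ab a' = 1) : sn a' 0 = sgm (Equiv.swap 0 1) a' := by
  rcases a' with k | k <;> · simp only [ab] at ha; subst ha; rfl

theorem glee5_sn1' {a' : Fin 2 ⊕ Fin 2} (ha : ab a' = 0) : sn a' 1 = sgm (Equiv.swap 0 1) a' := by
  rcases a' with k | k <;> · simp only [ab] at ha; subst ha; rfl

theorem glee5_sw_sw (a' : Fin 2 ⊕ Fin 2) : sgm (Equiv.swap 0 1) (sgm (Equiv.swap 0 1) a') = a' := by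
  rcases a' with k | k <;> simp [sgm]

theorem glee5_fin2 (k : Fin 2) : k = 0 ∨ k = 1 := by
  fin_cases k
  · left; rfl
  · right; rfl

theorem glee5_ab_sw0 {a' : Fin 2 ⊕ Fin 2} (ha : ab a' = 0) : ab (sgm (Equiv.swap (0 : Fin 2) 1) a') = 1 := by
  rw [Cfsg.Agent.Lib.helper3.SPM.ab_sgm, ha]; rfl

theorem glee5_ab_sw1 {a' : Fin 2 ⊕ Fin 2} (ha : ab a' = 1) : ab (sgm (Equiv.swap (0 : Fin 2) 1) a') = 0 := by
  rw [Cfsg.Agent.Lib.helper3.SPM.ab_sgm, ha]; rfl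

theorem glee5_act_one {F : Type u} [Field F] [StarRing F] {od : Prop} (ξ : Lam F od) : Lam.act (1 * 1⁻¹) ξ = ξ := by
  apply Lam.ext <;> simp [Lam.act]

section main
variable {F : Type u} [Field F] [StarRing F] {L : Type x} [Group L] {ι : Type w} [Fintype ι] [DecidableEq ι] {G : Type v} [Group G]
  (S₂ : SysU F False (Fin 2) L) (swL : L) (ζ : F) (p : Pts ι) (ν : Equiv.Perm ι →* G) (lam : L →* G)

omit [Fintype ι] in
/-- the case `ab a' = 0`, `ab b' = 1` -/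
theorem glee5_case01 {i j : ι} {a' b' : Fin 2 ⊕ Fin 2} (ha : ab a' = 0) (hb : ab b' = 1) (t : F) :
    lamP p ν lam i j (S₂.xs a' b' t) = xrs S₂ p ν lam (pe2 i j a') (pe2 i j b') t := by
  have h1 : ab (pe2 i j a') = i := by rw [Cfsg.Agent.Lib.helper3.SPM.ab_pe2, ha]; rfl
  have h2 : ab (pe2 i j b') = j := by rw [Cfsg.Agent.Lib.helper3.SPM.ab_pe2, hb]; rfl
  unfold xrs
  rw [h1, h2, Cfsg.Agent.Lib.helper3.SPM.sn_pe2_fst, Cfsg.Agent.Lib.helper3.SPM.sn_pe2_fst, glee5_sn0 ha, glee5_sn1 hb]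
  rfl

/-- the case `ab a' = 1`, `ab b' = 0` -/
theorem glee5_case10 (H : Glue S₂ swL ζ p ν lam) (hU : UFacts S₂ swL ζ) {i j : ι} (hij : i ≠ j) {a' b' : Fin 2 ⊕ Fin 2}
    (ha : ab a' = 1) (hb : ab b' = 0) (t : F) :
    lamP p ν lam i j (S₂.xs a' b' t) = xrs S₂ p ν lam (pe2 i j a') (pe2 i j b') t := by
  have h1 : ab (pe2 i j a') = j := by rw [Cfsg.Agent.Lib.helper3.SPM.ab_pe2, ha]; rfl
  have h2 : ab (pe2 i j b') = i := by rw [Cfsg.Agent.Lib.helper3.SPM.ab_pe2, hb]; rfl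
  have hsw : ab (sgm (Equiv.swap (0 : Fin 2) 1) a') ≠ ab (sgm (Equiv.swap (0 : Fin 2) 1) b') := by
    rw [glee5_ab_sw1 ha, glee5_ab_sw0 hb]; decide
  have hne1 : sgm (Equiv.swap (0 : Fin 2) 1) a' ≠ sgm (Equiv.swap (0 : Fin 2) 1) b' := fun h => hsw (by rw [h])
  have hne2 : sgm (Equiv.swap (0 : Fin 2) 1) a' ≠ ng (sgm (Equiv.swap (0 : Fin 2) 1) b') :=
    fun h => hsw (by rw [h, Cfsg.Agent.Lib.helper3.STC.ab_ng])
  unfold xrs
  rw [h1, h2, Cfsg.Agent.Lib.helper3.SPM.sn_pe2_fst, Cfsg.Agent.Lib.helper3.SPM.sn_pe2_fst, glee5_sn0' ha, glee5_sn1' hb]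
  unfold lamP
  have e := hU.sw_mon.2.1 (sgm (Equiv.swap 0 1) a') (sgm (Equiv.swap 0 1) b') hne1 hne2 t
  rw [glee5_sw_sw, glee5_sw_sw, inv_one, mul_one, one_mul] at e
  have e' : swL * S₂.xs (sgm (Equiv.swap 0 1) a') (sgm (Equiv.swap 0 1) b') t * swL⁻¹ = S₂.xs a' b' t := e
  rw [← e', ← lamC_swap S₂ swL ζ p ν lam H]
  apply lamC_congr S₂ swL ζ p ν lam H hU
  · rw [Equiv.Perm.mul_apply, Equiv.swap_apply_left, Cfsg.Agent.Lib.helper3.SPM.sig2_o1 p hij,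
      Cfsg.Agent.Lib.helper3.SPM.sig2_o0 p hij.symm]
  · rw [Equiv.Perm.mul_apply, Equiv.swap_apply_right, Cfsg.Agent.Lib.helper3.SPM.sig2_o0 p hij,
      Cfsg.Agent.Lib.helper3.SPM.sig2_o1 p hij.symm]

/-- E5 [M]  model SPM E5: the short root elements of a pair. -/
theorem xrs_pair (H : Glue S₂ swL ζ p ν lam) (hU : UFacts S₂ swL ζ) {i j : ι} (hij : i ≠ j) {a' b' : Fin 2 ⊕ Fin 2} (hab' : ab a' ≠ ab b') (t : F) :
    lamP p ν lam i j (S₂.xs a' b' t) = xrs S₂ p ν lam (pe2 i j a') (pe2 i j b') t := by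
  rcases glee5_fin2 (ab a') with ha | ha <;> rcases glee5_fin2 (ab b') with hb | hb
  · exact absurd (ha.trans hb.symm) hab'
  · exact glee5_case01 S₂ p ν lam ha hb t
  · exact glee5_case10 S₂ swL ζ p ν lam H hU hij ha hb t
  · exact absurd (ha.trans hb.symm) hab'

omit [Fintype ι] [DecidableEq ι] in
/-- the long root elements on the index `1` of `L` lie in `B1` -/
theorem glee6_mem_B1 (a' : Fin 2 ⊕ Fin 2) (ha : ab a' = 1) (ξ : Lam F False) : S₂.xl a' ξ ∈ B1 S₂ := by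
  unfold B1 SysU.XQ
  apply Subgroup.subset_closure
  right
  exact ⟨a', ξ, ⟨ha, by rw [Cfsg.Agent.Lib.helper3.STC.ab_ng]; exact ha⟩, rfl⟩

/-- E6 [M]  model SPM E6: the long root elements of a pair. -/
theorem xrl_pair (H : Glue S₂ swL ζ p ν lam) (hU : UFacts S₂ swL ζ) {i j : ι} (hij : i ≠ j) (a' : Fin 2 ⊕ Fin 2) (ξ : Lam F False) :
    lamP p ν lam i j (S₂.xl a' ξ) = xrl S₂ p ν lam (pe2 i j a') ξ := by
  unfold xrl lamP
  rcases glee5_fin2 (ab a') with ha | ha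
  · -- the index `0`
    have h1 : ab (pe2 i j a') = i := by rw [Cfsg.Agent.Lib.helper3.SPM.ab_pe2, ha]; rfl
    rw [h1, Cfsg.Agent.Lib.helper3.SPM.sn_pe2_fst, glee5_sn1' ha]
    have e := hU.sw_mon.2.2 (sgm (Equiv.swap 0 1) a') ξ
    rw [glee5_sw_sw, glee5_act_one] at e
    have e' : swL * S₂.xl (sgm (Equiv.swap 0 1) a') ξ * swL⁻¹ = S₂.xl a' ξ := e
    rw [← e', ← lamC_swap S₂ swL ζ p ν lam H]
    apply lamC_congr1 S₂ swL ζ p ν lam H _ (glee6_mem_B1 S₂ _ (glee5_ab_sw0 ha) ξ)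
    rw [Equiv.Perm.mul_apply, Equiv.swap_apply_right, Cfsg.Agent.Lib.helper3.SPM.sig2_o0 p hij, Equiv.swap_apply_left]
  · -- the index `1`
    have h1 : ab (pe2 i j a') = j := by rw [Cfsg.Agent.Lib.helper3.SPM.ab_pe2, ha]; rfl
    rw [h1, Cfsg.Agent.Lib.helper3.SPM.sn_pe2_fst, glee5_sn1 ha]
    apply lamC_congr1 S₂ swL ζ p ν lam H _ (glee6_mem_B1 S₂ _ ha ξ)
    rw [Cfsg.Agent.Lib.helper3.SPM.sig2_o1 p hij, Equiv.swap_apply_left]

/-- E8 [S-M]  model SPM E8. -/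
theorem lamC_xrs (H : Glue S₂ swL ζ p ν lam) (hU : UFacts S₂ swL ζ) (σ : Equiv.Perm ι) {a' b' : Fin 2 ⊕ Fin 2} (hab' : ab a' ≠ ab b') (t : F) :
    lamC ν lam σ (S₂.xs a' b' t) = xrs S₂ p ν lam (sgm σ (pe p a')) (sgm σ (pe p b')) t :=
  glee8_core_s S₂ p ν lam (fun h0 h1 g => lamC_congr S₂ swL ζ p ν lam H hU h0 h1 g)
    (fun hij _ _ hab t => xrs_pair S₂ swL ζ p ν lam H hU hij hab t) σ hab' t

theorem lamC_xrl (H : Glue S₂ swL ζ p ν lam) (hU : UFacts S₂ swL ζ) (σ : Equiv.Perm ι) (a' : Fin 2 ⊕ Fin 2) (ξ : Lam F False) :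
    lamC ν lam σ (S₂.xl a' ξ) = xrl S₂ p ν lam (sgm σ (pe p a')) ξ :=
  glee8_core_l S₂ p ν lam (fun h0 h1 g => lamC_congr S₂ swL ζ p ν lam H hU h0 h1 g)
    (fun hij a' ξ => xrl_pair S₂ swL ζ p ν lam H hU hij a' ξ) σ a' ξ

end main

end Cfsg.Agent.Lib.Helper20.GLE
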