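import Mathlib
import Cfsg.Agent.Lib.Helper20.GLE.Defs
import Cfsg.Agent.Lib.Helper20.SPMA1
import Cfsg.Agent.Lib.Helper29.SPMA3
import Cfsg.Agent.Lib.Helper29.SPMA4
import Cfsg.Agent.Lib.Helper24.STCI1
import Cfsg.Agent.Lib.Helper9.GLEE1
import Cfsg.Agent.Lib.Helper9.GLEE5

/-!
# Project GLE (designer helper20, S2291), row E9 (helper9), VERBATIM: `xrs_conj`, `xrl_conj`, `pmon_nu`
(port of `Helper29.SPME9core`; here `xrs` / `xrl` unfold directly to `lamC`).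
-/

set_option autoImplicit false

namespace Cfsg.Agent.Lib.Helper20.GLE

open Cfsg.Agent.Lib.helper3.STC (ng ab)
open Cfsg.Agent.Lib.helper3.SPM (Pts pe sgm sn sig2 ptsFin pe2)
open Cfsg.Agent.Lib.Helper27.STU
open Cfsg.Agent.Lib.helper17.SLP (cm)

universe u v w x v' y

theorem glee9_sn_sgm {ι : Type w} (σ : Equiv.Perm ι) (a : ι ⊕ ι) (k : Fin 2) : sn (sgm σ a) k = sn a k := by
  rcases a with i | i <;> rfl

theorem glee9_ab_sn {ι : Type w} (a : ι ⊕ ι) (k : Fin 2) : ab (sn a k) = k := by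
  rcases a with i | i <;> rfl

section main
variable {F : Type u} [Field F] [StarRing F] {L : Type x} [Group L] {ι : Type w} [Fintype ι] [DecidableEq ι] {G : Type v} [Group G]
  (S₂ : SysU F False (Fin 2) L) (swL : L) (ζ : F) (p : Pts ι) (ν : Equiv.Perm ι →* G) (lam : L →* G)

/-- E9 [S-M]  model SPM E9: `ν σ` permutes the root elements. -/
theorem xrs_conj (H : Glue S₂ swL ζ p ν lam) (hU : UFacts S₂ swL ζ) (σ : Equiv.Perm ι) {a b : ι ⊕ ι} (hab : ab a ≠ ab b) (t : F) :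
    ν σ * xrs S₂ p ν lam a b t * (ν σ)⁻¹ = xrs S₂ p ν lam (sgm σ a) (sgm σ b) t := by
  have hσ : σ (ab a) ≠ σ (ab b) := fun h => hab (σ.injective h)
  unfold xrs
  rw [glee9_sn_sgm, glee9_sn_sgm, Cfsg.Agent.Lib.helper3.SPM.ab_sgm, Cfsg.Agent.Lib.helper3.SPM.ab_sgm, ← lamC_mul]
  apply lamC_congr S₂ swL ζ p ν lam H hU
  · rw [Equiv.Perm.mul_apply, Cfsg.Agent.Lib.helper3.SPM.sig2_o0 p hab, Cfsg.Agent.Lib.helper3.SPM.sig2_o0 p hσ]
  · rw [Equiv.Perm.mul_apply, Cfsg.Agent.Lib.helper3.SPM.sig2_o1 p hab, Cfsg.Agent.Lib.helper3.SPM.sig2_o1 p hσ]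

theorem xrl_conj (H : Glue S₂ swL ζ p ν lam) (hU : UFacts S₂ swL ζ) (σ : Equiv.Perm ι) (a : ι ⊕ ι) (ξ : Lam F False) :
    ν σ * xrl S₂ p ν lam a ξ * (ν σ)⁻¹ = xrl S₂ p ν lam (sgm σ a) ξ := by
  unfold xrl
  rw [glee9_sn_sgm, Cfsg.Agent.Lib.helper3.SPM.ab_sgm, ← lamC_mul]
  apply lamC_congr1 S₂ swL ζ p ν lam H _ (glee6_mem_B1 S₂ _ (glee9_ab_sn a 1) ξ)
  rw [Equiv.Perm.mul_apply, Equiv.swap_apply_left, Equiv.swap_apply_left]

theorem pmon_nu (H : Glue S₂ swL ζ p ν lam) (hU : UFacts S₂ swL ζ) (σ : Equiv.Perm ι) :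
    PMon S₂ p ν lam (ν σ) (sgm σ) (fun _ => 1) := by
  refine ⟨⟨fun k => Cfsg.Agent.Lib.helper3.SPM.sgm_ng σ k, fun k => by simp, by simp⟩, fun a b hab t => ?_, fun a ξ => ?_⟩
  · rw [xrs_conj S₂ swL ζ p ν lam H hU σ hab t, inv_one, one_mul, one_mul]
  · rw [xrl_conj S₂ swL ζ p ν lam H hU σ a ξ]
    congr 1
    apply Lam.ext <;> simp [Lam.act]

end main

end Cfsg.Agent.Lib.Helper20.GLE
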