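import Mathlib
import Cfsg.Agent.Lib.Helper20.GLE.Defs
import Cfsg.Agent.Lib.Helper24.STCI1
import Cfsg.Agent.Lib.Helper26.GLEL0

/-!
# Project GLE (designer helper20, S2291), rows T8a + T8b (helper9): cores (port of `helper14.SPMT8core`)

`glet8_hl_core` = `pmon_hl` from the statements of T4a `hl_pair_s hl_pair_l`, T7 `d3_gen`, T3 `LB_comm`, T2 `hrl_mem_LB xrl_mem_LB`;
`glet8_wl_core` = `pmon_wl` from the statements of T4b `wl_pair_s wl_pair_l`, T7, T3, T2 `wrl_mem_LB xrl_mem_LB`.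
-/

set_option autoImplicit false
set_option linter.unusedSectionVars false

namespace Cfsg.Agent.Lib.Helper20.GLE

open Cfsg.Agent.Lib.helper3.STC (ng ab)
open Cfsg.Agent.Lib.helper3.SPM (Pts pe sgm sn sig2 ptsFin pe2)
open Cfsg.Agent.Lib.Helper27.STU
open Cfsg.Agent.Lib.helper17.SLP (cm)

universe u v w x v' y

/-- there is an index different from `k`. -/
theorem glet8_exists_ne {ι : Type w} (p : Pts ι) (k : ι) : ∃ j : ι, k ≠ j := by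
  by_cases h : k = p.o0
  · exact ⟨p.o1, by rw [h]; exact p.h01⟩
  · exact ⟨p.o0, h⟩

section coeff
variable {F : Type u} [Field F] [StarRing F] {ι : Type w} [DecidableEq ι]

theorem glet8_ne_of_ab {k : ι} {a : ι ⊕ ι} (h : ab a ≠ k) : a ≠ Sum.inl k ∧ a ≠ ng (Sum.inl k) := by
  constructor
  · rintro rfl; exact h rfl
  · rintro rfl; exact h rfl

theorem glet8_dhl_one {k : ι} {r : F} {a : ι ⊕ ι} (h : ab a ≠ k) : dhl (Sum.inl k) r a = 1 := by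
  unfold dhl
  rw [if_neg (glet8_ne_of_ab h).1, if_neg (glet8_ne_of_ab h).2]

theorem glet8_dwl_one {k : ι} {ξ : Lam F False} {a : ι ⊕ ι} (h : ab a ≠ k) : dwl (Sum.inl k) ξ a = 1 := by
  unfold dwl
  rw [if_neg (glet8_ne_of_ab h).1, if_neg (glet8_ne_of_ab h).2]

theorem glet8_swap_fix {k : ι} {a : ι ⊕ ι} (h : ab a ≠ k) : Equiv.swap (Sum.inl k) (Sum.inr k) a = a :=
  Equiv.swap_apply_of_ne_of_ne (glet8_ne_of_ab h).1 (glet8_ne_of_ab h).2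

theorem glet8_act_one (ξ : Lam F False) : Lam.act 1 ξ = ξ := by
  apply Lam.ext <;> simp [Lam.act]

/-- `MonData` of the long torus -/
theorem glet8_mondata_hl (c : ι ⊕ ι) {r : F} (hr : star r = r) (hr0 : r ≠ 0) :
    SysU.MonData (1 : Equiv.Perm (ι ⊕ ι)) (dhl c r) 1 := by
  refine ⟨fun _ => rfl, fun k' => ?_, by simp⟩
  have hng : ng c ≠ c := Cfsg.Agent.Lib.helper3.STC.ng_ne c
  unfold dhl
  by_cases h1 : k' = c
  · rw [h1, if_neg hng, if_pos rfl, if_pos rfl, hr, inv_mul_cancel₀ hr0]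
  · by_cases h2 : k' = ng c
    · rw [h2, Cfsg.Agent.Lib.helper3.STC.ng_ng, if_pos rfl, if_neg hng, if_pos rfl, star_inv₀, star_star,
        mul_inv_cancel₀ hr0]
    · have h3 : ng k' ≠ c := fun h => h2 (by rw [← h, Cfsg.Agent.Lib.helper3.STC.ng_ng])
      have h4 : ng k' ≠ ng c := fun h => h1 (Cfsg.Agent.Lib.helper3.STC.ng_inj.mp h)
      rw [if_neg h3, if_neg h4, if_neg h1, if_neg h2, star_one, mul_one]

/-- `MonData` of the long Weyl element -/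
theorem glet8_mondata_wl (c : ι ⊕ ι) {ξ : Lam F False} (hξ : ξ.c ≠ 0) :
    SysU.MonData (Equiv.swap c (ng c)) (dwl c ξ) 1 := by
  have hng : ng c ≠ c := Cfsg.Agent.Lib.helper3.STC.ng_ne c
  have hs0 : star ξ.c ≠ 0 := fun h => hξ (by simpa using h)
  refine ⟨fun k' => ?_, fun k' => ?_, by simp⟩
  · by_cases h1 : k' = c
    · rw [h1, Equiv.swap_apply_right, Equiv.swap_apply_left, Cfsg.Agent.Lib.helper3.STC.ng_ng]
    · by_cases h2 : k' = ng c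
      · rw [h2, Cfsg.Agent.Lib.helper3.STC.ng_ng, Equiv.swap_apply_left, Equiv.swap_apply_right]
      · have h3 : ng k' ≠ c := fun h => h2 (by rw [← h, Cfsg.Agent.Lib.helper3.STC.ng_ng])
        have h4 : ng k' ≠ ng c := fun h => h1 (Cfsg.Agent.Lib.helper3.STC.ng_inj.mp h)
        rw [Equiv.swap_apply_of_ne_of_ne h3 h4, Equiv.swap_apply_of_ne_of_ne h1 h2]
  · unfold dwl
    by_cases h1 : k' = c
    · rw [h1, if_neg hng, if_pos rfl, if_pos rfl, star_inv₀, star_star, mul_inv_cancel₀ hξ]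
    · by_cases h2 : k' = ng c
      · rw [h2, Cfsg.Agent.Lib.helper3.STC.ng_ng, if_pos rfl, if_neg hng, if_pos rfl, inv_mul_cancel₀ hs0]
      · have h3 : ng k' ≠ c := fun h => h2 (by rw [← h, Cfsg.Agent.Lib.helper3.STC.ng_ng])
        have h4 : ng k' ≠ ng c := fun h => h1 (Cfsg.Agent.Lib.helper3.STC.ng_inj.mp h)
        rw [if_neg h3, if_neg h4, if_neg h1, if_neg h2, star_one, mul_one]

end coeff

section main
variable {F : Type u} [Field F] [StarRing F] {L : Type x} [Group L] {ι : Type w} [Fintype ι] [DecidableEq ι] {G : Type v} [Group G]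
  (S₂ : SysU F False (Fin 2) L) (swL : L) (ζ : F) (p : Pts ι) (ν : Equiv.Perm ι →* G) (lam : L →* G)

/-- T8a core -/
theorem glet8_hl_core
    (hhs : ∀ {k j : ι}, k ≠ j → ∀ {ξ η : Lam F False}, ξ.c ≠ 0 → η.c ≠ 0 → ∀ {a b : ι ⊕ ι}, ab a ≠ ab b →
      (ab a = k ∨ ab a = j) → (ab b = k ∨ ab b = j) → ∀ t : F,
      hrl S₂ p ν lam (Sum.inl k) ξ η * xrs S₂ p ν lam a b t * (hrl S₂ p ν lam (Sum.inl k) ξ η)⁻¹ =
        xrs S₂ p ν lam a b (dhl (Sum.inl k) (ξ.c / η.c) a * (dhl (Sum.inl k) (ξ.c / η.c) b)⁻¹ * t))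
    (hhl : ∀ {k j : ι}, k ≠ j → ∀ {ξ η : Lam F False}, ξ.c ≠ 0 → η.c ≠ 0 → ∀ {a : ι ⊕ ι},
      (ab a = k ∨ ab a = j) → ∀ ξ' : Lam F False,
      hrl S₂ p ν lam (Sum.inl k) ξ η * xrl S₂ p ν lam a ξ' * (hrl S₂ p ν lam (Sum.inl k) ξ η)⁻¹ =
        xrl S₂ p ν lam a (Lam.act (dhl (Sum.inl k) (ξ.c / η.c) a) ξ'))
    (hd3 : ∀ {a b : ι ⊕ ι}, ab a ≠ ab b → ∀ {k : ι}, k ≠ ab a → k ≠ ab b → ∀ (t : F) {g : G},
      g ∈ LB S₂ p ν lam k → Commute (xrs S₂ p ν lam a b t) g)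
    (hcomm : ∀ {i k : ι}, i ≠ k → ∀ {g g' : G}, g ∈ LB S₂ p ν lam i → g' ∈ LB S₂ p ν lam k → Commute g g')
    (hmemh : ∀ (a : ι ⊕ ι) (ξ η : Lam F False), hrl S₂ p ν lam a ξ η ∈ LB S₂ p ν lam (ab a))
    (hmemx : ∀ (a : ι ⊕ ι) (ξ : Lam F False), xrl S₂ p ν lam a ξ ∈ LB S₂ p ν lam (ab a))
    (k : ι) {ξ η : Lam F False} (hξ : ξ.c ≠ 0) (hη : η.c ≠ 0) :
    PMon S₂ p ν lam (hrl S₂ p ν lam (Sum.inl k) ξ η) 1 (dhl (Sum.inl k) (ξ.c / η.c)) := by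
  have hmem : hrl S₂ p ν lam (Sum.inl k) ξ η ∈ LB S₂ p ν lam k := hmemh (Sum.inl k) ξ η
  refine ⟨glet8_mondata_hl _ (lam_ratio_fixed ξ η) (div_ne_zero hξ hη), ?_, ?_⟩
  · intro a b hab t
    show _ = xrs S₂ p ν lam a b _
    by_cases hak : ab a = k
    · exact hhs (k := k) (j := ab b) (fun h => hab (hak.trans h)) hξ hη hab (Or.inl hak) (Or.inr rfl) t
    · by_cases hbk : ab b = k
      · exact hhs (k := k) (j := ab a) (Ne.symm hak) hξ hη hab (Or.inr rfl) (Or.inl hbk) t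
      · have hc := hd3 hab (Ne.symm hak) (Ne.symm hbk) t hmem
        rw [glet8_dhl_one hak, glet8_dhl_one hbk, inv_one, one_mul, one_mul, ← hc.eq, mul_inv_cancel_right]
  · intro a ξ'
    show _ = xrl S₂ p ν lam a _
    by_cases hak : ab a = k
    · obtain ⟨j, hj⟩ := glet8_exists_ne p k
      exact hhl hj hξ hη (Or.inl hak) ξ'
    · have hc : Commute (hrl S₂ p ν lam (Sum.inl k) ξ η) (xrl S₂ p ν lam a ξ') :=
        hcomm (Ne.symm hak) hmem (hmemx a ξ')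
      rw [glet8_dhl_one hak, glet8_act_one, hc.eq, mul_inv_cancel_right]

/-- T8b core -/
theorem glet8_wl_core
    (hws : ∀ {k j : ι}, k ≠ j → ∀ {ξ : Lam F False}, ξ.c ≠ 0 → ∀ {a b : ι ⊕ ι}, ab a ≠ ab b →
      (ab a = k ∨ ab a = j) → (ab b = k ∨ ab b = j) → ∀ t : F,
      wrl S₂ p ν lam (Sum.inl k) ξ * xrs S₂ p ν lam a b t * (wrl S₂ p ν lam (Sum.inl k) ξ)⁻¹ =
        xrs S₂ p ν lam (Equiv.swap (Sum.inl k) (Sum.inr k) a) (Equiv.swap (Sum.inl k) (Sum.inr k) b)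
          (dwl (Sum.inl k) ξ a * (dwl (Sum.inl k) ξ b)⁻¹ * t))
    (hwl : ∀ {k j : ι}, k ≠ j → ∀ {ξ : Lam F False}, ξ.c ≠ 0 → ∀ {a : ι ⊕ ι},
      (ab a = k ∨ ab a = j) → ∀ ξ' : Lam F False,
      wrl S₂ p ν lam (Sum.inl k) ξ * xrl S₂ p ν lam a ξ' * (wrl S₂ p ν lam (Sum.inl k) ξ)⁻¹ =
        xrl S₂ p ν lam (Equiv.swap (Sum.inl k) (Sum.inr k) a) (Lam.act (dwl (Sum.inl k) ξ a) ξ'))
    (hd3 : ∀ {a b : ι ⊕ ι}, ab a ≠ ab b → ∀ {k : ι}, k ≠ ab a → k ≠ ab b → ∀ (t : F) {g : G},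
      g ∈ LB S₂ p ν lam k → Commute (xrs S₂ p ν lam a b t) g)
    (hcomm : ∀ {i k : ι}, i ≠ k → ∀ {g g' : G}, g ∈ LB S₂ p ν lam i → g' ∈ LB S₂ p ν lam k → Commute g g')
    (hmemw : ∀ (a : ι ⊕ ι) (ξ : Lam F False), wrl S₂ p ν lam a ξ ∈ LB S₂ p ν lam (ab a))
    (hmemx : ∀ (a : ι ⊕ ι) (ξ : Lam F False), xrl S₂ p ν lam a ξ ∈ LB S₂ p ν lam (ab a))
    (k : ι) {ξ : Lam F False} (hξ : ξ.c ≠ 0) :
    PMon S₂ p ν lam (wrl S₂ p ν lam (Sum.inl k) ξ) (Equiv.swap (Sum.inl k) (Sum.inr k)) (dwl (Sum.inl k) ξ) := by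
  have hmem : wrl S₂ p ν lam (Sum.inl k) ξ ∈ LB S₂ p ν lam k := hmemw (Sum.inl k) ξ
  refine ⟨glet8_mondata_wl (Sum.inl k) hξ, ?_, ?_⟩
  · intro a b hab t
    by_cases hak : ab a = k
    · exact hws (k := k) (j := ab b) (fun h => hab (hak.trans h)) hξ hab (Or.inl hak) (Or.inr rfl) t
    · by_cases hbk : ab b = k
      · exact hws (k := k) (j := ab a) (Ne.symm hak) hξ hab (Or.inr rfl) (Or.inl hbk) t
      · have hc := hd3 hab (Ne.symm hak) (Ne.symm hbk) t hmem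
        rw [glet8_dwl_one hak, glet8_dwl_one hbk, glet8_swap_fix hak, glet8_swap_fix hbk,
          inv_one, one_mul, one_mul, ← hc.eq, mul_inv_cancel_right]
  · intro a ξ'
    by_cases hak : ab a = k
    · obtain ⟨j, hj⟩ := glet8_exists_ne p k
      exact hwl hj hξ (Or.inl hak) ξ'
    · have hc : Commute (wrl S₂ p ν lam (Sum.inl k) ξ) (xrl S₂ p ν lam a ξ') :=
        hcomm (Ne.symm hak) hmem (hmemx a ξ')
      rw [glet8_dwl_one hak, glet8_act_one, glet8_swap_fix hak, hc.eq, mul_inv_cancel_right]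

end main

end Cfsg.Agent.Lib.Helper20.GLE
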