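import Mathlib
import Cfsg.Agent.Lib.Helper20.GLE.Defs
import Cfsg.Agent.Lib.Helper24.GLET1
import Cfsg.Agent.Lib.Helper24.GLET4
import Cfsg.Agent.Lib.Helper24.GLET5
import Cfsg.Agent.Lib.Helper9.GLEE9
import Cfsg.Agent.Lib.Helper9.GLET6core
import Cfsg.Agent.Lib.Helper9.GLET8core

/-!
# Project GLE (designer helper20, S2291), rows T6 T7 T8a T8b (helper9), VERBATIM:
`d3_signs`, `d3_gen`, `pmon_hl`, `pmon_wl` = the cores `glet6_core glet7_core glet8_hl_core glet8_wl_core`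
on helper24's T1-T5 (`Helper24.GLET1 GLET4 GLET5`) and E9 (`Helper9.GLEE9`).
-/

set_option autoImplicit false

namespace Cfsg.Agent.Lib.Helper20.GLE

open Cfsg.Agent.Lib.helper3.STC (ng ab)
open Cfsg.Agent.Lib.helper3.SPM (Pts pe sgm sn sig2 ptsFin pe2)
open Cfsg.Agent.Lib.Helper27.STU
open Cfsg.Agent.Lib.helper17.SLP (cm)

universe u v w x v' y

section main
variable {F : Type u} [Field F] [StarRing F] {L : Type x} [Group L] {ι : Type w} [Fintype ι] [DecidableEq ι] {G : Type v} [Group G]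
  (S₂ : SysU F False (Fin 2) L) (swL : L) (ζ : F) (p : Pts ι) (ν : Equiv.Perm ι →* G) (lam : L →* G)

/-- T6 [M]  model SPM T6: all signs. -/
theorem d3_signs (hF : Hyp F) (H : Glue S₂ swL ζ p ν lam) (hU : UFacts S₂ swL ζ) {a b : ι ⊕ ι} (ha : ab a = p.o0) (hb : ab b = p.o1) (t : F) {g : G}
    (hg : g ∈ LB S₂ p ν lam p.o2) : Commute (xrs S₂ p ν lam a b t) g :=
  glet6_core S₂ p ν lam hF (fun t _ hg => d3_base S₂ swL ζ p ν lam hF H hU t hg)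
    (fun hkj _ hξ _ _ hab ha hb t => wl_pair_s S₂ swL ζ p ν lam H hU hkj hξ hab ha hb t)
    (fun hik _ _ hg hg' => LB_comm S₂ swL ζ p ν lam H hU hik hg hg')
    (fun a ξ => wrl_mem_LB S₂ p ν lam a ξ) ha hb t hg

/-- T7 [S-M]  model SPM T7: all indices. -/
theorem d3_gen (hF : Hyp F) (H : Glue S₂ swL ζ p ν lam) (hU : UFacts S₂ swL ζ) {a b : ι ⊕ ι} (hab : ab a ≠ ab b) {k : ι} (hka : k ≠ ab a) (hkb : k ≠ ab b)
    (t : F) {g : G} (hg : g ∈ LB S₂ p ν lam k) : Commute (xrs S₂ p ν lam a b t) g :=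
  glet7_core S₂ p ν lam (fun ha hb t _ hg => d3_signs S₂ swL ζ p ν lam hF H hU ha hb t hg)
    (fun σ _ _ hab t => xrs_conj S₂ swL ζ p ν lam H hU σ hab t)
    (fun σ k _ hg => LB_conj S₂ swL ζ p ν lam H σ k hg) hab hka hkb t hg

/-- T8 [M]  model SPM T8: assembly. -/
theorem pmon_hl (hF : Hyp F) (H : Glue S₂ swL ζ p ν lam) (hU : UFacts S₂ swL ζ) (k : ι) {ξ η : Lam F False} (hξ : ξ.c ≠ 0) (hη : η.c ≠ 0) :
    PMon S₂ p ν lam (hrl S₂ p ν lam (Sum.inl k) ξ η) 1 (dhl (Sum.inl k) (ξ.c / η.c)) :=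
  glet8_hl_core S₂ p ν lam
    (fun hkj _ _ hξ hη _ _ hab ha hb t => hl_pair_s S₂ swL ζ p ν lam H hU hkj hξ hη hab ha hb t)
    (fun hkj _ _ hξ hη _ ha ξ' => hl_pair_l S₂ swL ζ p ν lam H hU hkj hξ hη ha ξ')
    (fun hab _ hka hkb t _ hg => d3_gen S₂ swL ζ p ν lam hF H hU hab hka hkb t hg)
    (fun hik _ _ hg hg' => LB_comm S₂ swL ζ p ν lam H hU hik hg hg')
    (fun a ξ η => hrl_mem_LB S₂ p ν lam a ξ η) (fun a ξ => xrl_mem_LB S₂ p ν lam a ξ) k hξ hη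

theorem pmon_wl (hF : Hyp F) (H : Glue S₂ swL ζ p ν lam) (hU : UFacts S₂ swL ζ) (k : ι) {ξ : Lam F False} (hξ : ξ.c ≠ 0) :
    PMon S₂ p ν lam (wrl S₂ p ν lam (Sum.inl k) ξ) (Equiv.swap (Sum.inl k) (Sum.inr k)) (dwl (Sum.inl k) ξ) :=
  glet8_wl_core S₂ p ν lam
    (fun hkj _ hξ _ _ hab ha hb t => wl_pair_s S₂ swL ζ p ν lam H hU hkj hξ hab ha hb t)
    (fun hkj _ hξ _ ha ξ' => wl_pair_l S₂ swL ζ p ν lam H hU hkj hξ ha ξ')
    (fun hab _ hka hkb t _ hg => d3_gen S₂ swL ζ p ν lam hF H hU hab hka hkb t hg)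
    (fun hik _ _ hg hg' => LB_comm S₂ swL ζ p ν lam H hU hik hg hg')
    (fun a ξ => wrl_mem_LB S₂ p ν lam a ξ) (fun a ξ => xrl_mem_LB S₂ p ν lam a ξ) k hξ

end main

end Cfsg.Agent.Lib.Helper20.GLE
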