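import Mathlib
import Cfsg.Agent.Lib.Helper20.GLO.Defs
import Cfsg.Agent.Lib.Helper20.SPMA1
import Cfsg.Agent.Lib.Helper29.SPMA3
import Cfsg.Agent.Lib.Helper29.SPMA4

/-!
# Project GLO (designer helper20, S2291), row E8 (helper9): cores (port of `Helper9.SPME7core.spme8_core`)

`gloe8_core_s` = `lamC_xrs` from the statements of E3 `lamC_congr` and E5 `xrs_pair`;
`gloe8_core_l` = `lamC_xrl` from the statements of E3 `lamC_congr` and E6 `xrl_pair`.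
-/

set_option autoImplicit false

namespace Cfsg.Agent.Lib.Helper20.GLO

open Cfsg.Agent.Lib.helper3.STC (ng ab)
open Cfsg.Agent.Lib.helper3.SPM (Pts pe sgm sn sig2 ptsFin pe2)
open Cfsg.Agent.Lib.Helper27.STU
open Cfsg.Agent.Lib.helper17.SLP (cm)
open Cfsg.Agent.Lib.Helper20.GLE (lamC lamP)

universe u v w x v' y

section main
variable {F : Type u} [Field F] [StarRing F] {L : Type x} [Group L] {ι : Type w} [Fintype ι] [DecidableEq ι] {G : Type v} [Group G]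
  (S₂ : SysU F True (Fin 2) L) (swL : L) (p : Pts ι) (ν : Equiv.Perm ι →* G) (lam : L →* G)

omit [Fintype ι] in
/-- `σ` and `sig2 p (σ o0) (σ o1)` agree on `o0 o1` -/
theorem gloe8_agree (σ : Equiv.Perm ι) :
    σ p.o0 ≠ σ p.o1 ∧ σ p.o0 = sig2 p (σ p.o0) (σ p.o1) p.o0 ∧ σ p.o1 = sig2 p (σ p.o0) (σ p.o1) p.o1 := by
  have hne : σ p.o0 ≠ σ p.o1 := fun h => p.h01 (σ.injective h)
  exact ⟨hne, (Cfsg.Agent.Lib.helper3.SPM.sig2_o0 p hne).symm, (Cfsg.Agent.Lib.helper3.SPM.sig2_o1 p hne).symm⟩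

omit [Fintype ι] in
/-- E8 core, short roots -/
theorem gloe8_core_s
    (hcongr : ∀ {σ τ : Equiv.Perm ι}, σ p.o0 = τ p.o0 → σ p.o1 = τ p.o1 → ∀ g : L, lamC ν lam σ g = lamC ν lam τ g)
    (hpair : ∀ {i j : ι}, i ≠ j → ∀ {a' b' : Fin 2 ⊕ Fin 2}, ab a' ≠ ab b' → ∀ t : F,
      lamP p ν lam i j (S₂.xs a' b' t) = xrs S₂ p ν lam (pe2 i j a') (pe2 i j b') t)
    (σ : Equiv.Perm ι) {a' b' : Fin 2 ⊕ Fin 2} (hab' : ab a' ≠ ab b') (t : F) :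
    lamC ν lam σ (S₂.xs a' b' t) = xrs S₂ p ν lam (sgm σ (pe p a')) (sgm σ (pe p b')) t := by
  obtain ⟨hne, h0, h1⟩ := gloe8_agree p σ
  rw [hcongr h0 h1 (S₂.xs a' b' t)]
  have := hpair hne hab' t
  unfold lamP at this
  rw [this, Cfsg.Agent.Lib.helper3.SPM.pe_eq_pe2, Cfsg.Agent.Lib.helper3.SPM.pe_eq_pe2,
    Cfsg.Agent.Lib.helper3.SPM.sgm_pe2, Cfsg.Agent.Lib.helper3.SPM.sgm_pe2]

omit [Fintype ι] in
/-- E8 core, long roots -/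
theorem gloe8_core_l
    (hcongr : ∀ {σ τ : Equiv.Perm ι}, σ p.o0 = τ p.o0 → σ p.o1 = τ p.o1 → ∀ g : L, lamC ν lam σ g = lamC ν lam τ g)
    (hpair : ∀ {i j : ι}, i ≠ j → ∀ (a' : Fin 2 ⊕ Fin 2) (ξ : Lam F True),
      lamP p ν lam i j (S₂.xl a' ξ) = xrl S₂ p ν lam (pe2 i j a') ξ)
    (σ : Equiv.Perm ι) (a' : Fin 2 ⊕ Fin 2) (ξ : Lam F True) :
    lamC ν lam σ (S₂.xl a' ξ) = xrl S₂ p ν lam (sgm σ (pe p a')) ξ := by
  obtain ⟨hne, h0, h1⟩ := gloe8_agree p σ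
  rw [hcongr h0 h1 (S₂.xl a' ξ)]
  have := hpair hne a' ξ
  unfold lamP at this
  rw [this, Cfsg.Agent.Lib.helper3.SPM.pe_eq_pe2, Cfsg.Agent.Lib.helper3.SPM.sgm_pe2]

end main

end Cfsg.Agent.Lib.Helper20.GLO
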