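import Mathlib
import Cfsg.Agent.Lib.Helper20.GLO.Defs
import Cfsg.Agent.Lib.Helper20.SPMA1
import Cfsg.Agent.Lib.Helper29.SPMA3

/-!
# Project GLO (designer helper20, S2291), rows T6 + T7 (helper9): cores (ports of `Helper9.GLET6core`)

`glot6_core` = `d3_signs` from the statements of T5 `d3_base`, T4 `wl_pair_s`, T3 `LB_norm_wl'`;
`glot7_core` = `d3_gen` from the statements of `d3_signs`, E9 `xrs_conj`, T1 `LB_conj` (SPM A2 `exists_perm3` imported).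
-/

set_option autoImplicit false

namespace Cfsg.Agent.Lib.Helper20.GLO

open Cfsg.Agent.Lib.helper3.STC (ng ab)
open Cfsg.Agent.Lib.helper3.SPM (Pts pe sgm sn sig2 ptsFin pe2)
open Cfsg.Agent.Lib.Helper27.STU
open Cfsg.Agent.Lib.helper17.SLP (cm)
open Cfsg.Agent.Lib.Helper20.GLE (lamC lamP)

universe u v w x v' y

section main
variable {F : Type u} [Field F] [StarRing F] {L : Type x} [Group L] {ι : Type w} [Fintype ι] [DecidableEq ι] {G : Type v} [Group G]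
  (S₂ : SysU F True (Fin 2) L) (swL : L) (p : Pts ι) (ν : Equiv.Perm ι →* G) (lam : L →* G)

omit [Fintype ι] in
/-- the coefficients of the long Weyl element do not vanish -/
theorem glot6_dwl_ne (c : ι ⊕ ι) {ξ : Lam F True} (hξ : ξ.c ≠ 0) (x : ι ⊕ ι) : dwl c ξ x ≠ 0 := by
  unfold dwl
  split_ifs
  · exact inv_ne_zero (fun h => hξ (by simpa using h))
  · exact hξ
  · exact one_ne_zero

/-- a long parameter with non zero `c` -/
theorem glot6_exists_lam (hF : Hyp F) : ∃ ξ : Lam F True, ξ.c ≠ 0 := by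
  obtain ⟨c, hc0, hc⟩ := hF.ex_skew
  exact ⟨⟨0, c, by rw [hc]; simp, fun _ => rfl⟩, hc0⟩

/-- one conjugation step -/
theorem glot6_step {k : ι} (hk : k ≠ p.o2) {ξ : Lam F True} (hξ : ξ.c ≠ 0)
    (hnorm : ∀ {i k : ι}, i ≠ k → ∀ {ξ : Lam F True}, ξ.c ≠ 0 → ∀ {g : G}, g ∈ LB S₂ p ν lam k →
      (wrl S₂ p ν lam (Sum.inl i) ξ)⁻¹ * g * wrl S₂ p ν lam (Sum.inl i) ξ ∈ LB S₂ p ν lam k)
    {a b a' b' : ι ⊕ ι} {c : F} (hc : c ≠ 0)
    (hw : ∀ t : F, wrl S₂ p ν lam (Sum.inl k) ξ * xrs S₂ p ν lam a b t * (wrl S₂ p ν lam (Sum.inl k) ξ)⁻¹ =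
      xrs S₂ p ν lam a' b' (c * t))
    (h : ∀ (t : F) {g : G}, g ∈ LB S₂ p ν lam p.o2 → Commute (xrs S₂ p ν lam a b t) g)
    (t : F) {g : G} (hg : g ∈ LB S₂ p ν lam p.o2) : Commute (xrs S₂ p ν lam a' b' t) g := by
  have hg' := hnorm hk hξ hg
  have h2 : xrs S₂ p ν lam a' b' t =
      wrl S₂ p ν lam (Sum.inl k) ξ * xrs S₂ p ν lam a b (c⁻¹ * t) * (wrl S₂ p ν lam (Sum.inl k) ξ)⁻¹ := by
    rw [hw, ← mul_assoc, mul_inv_cancel₀ hc, one_mul]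
  have h3 := h (c⁻¹ * t) hg'
  rw [h2]
  generalize wrl S₂ p ν lam (Sum.inl k) ξ = w at *
  generalize xrs S₂ p ν lam a b (c⁻¹ * t) = x at *
  unfold Commute SemiconjBy at *
  calc w * x * w⁻¹ * g = w * (x * (w⁻¹ * g * w)) * w⁻¹ := by group
    _ = w * ((w⁻¹ * g * w) * x) * w⁻¹ := by rw [h3]
    _ = g * (w * x * w⁻¹) := by group

/-- T6 core: `d3_signs` from the statements of T5, T4, T3. -/
theorem glot6_core (hF : Hyp F)
    (hbase : ∀ (t : F) {g : G}, g ∈ LB S₂ p ν lam p.o2 → Commute (xrs S₂ p ν lam (Sum.inl p.o0) (Sum.inl p.o1) t) g)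
    (hwl : ∀ {k j : ι}, k ≠ j → ∀ {ξ : Lam F True}, ξ.c ≠ 0 → ∀ {a b : ι ⊕ ι}, ab a ≠ ab b → (ab a = k ∨ ab a = j) →
      (ab b = k ∨ ab b = j) → ∀ t : F,
      wrl S₂ p ν lam (Sum.inl k) ξ * xrs S₂ p ν lam a b t * (wrl S₂ p ν lam (Sum.inl k) ξ)⁻¹ =
        xrs S₂ p ν lam (Equiv.swap (Sum.inl k) (Sum.inr k) a) (Equiv.swap (Sum.inl k) (Sum.inr k) b)
          (dwl (Sum.inl k) ξ a * (dwl (Sum.inl k) ξ b)⁻¹ * t))
    (hnorm : ∀ {i k : ι}, i ≠ k → ∀ {ξ : Lam F True}, ξ.c ≠ 0 → ∀ {g : G}, g ∈ LB S₂ p ν lam k →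
      (wrl S₂ p ν lam (Sum.inl i) ξ)⁻¹ * g * wrl S₂ p ν lam (Sum.inl i) ξ ∈ LB S₂ p ν lam k)
    {a b : ι ⊕ ι} (ha : ab a = p.o0) (hb : ab b = p.o1) (t : F) {g : G}
    (hg : g ∈ LB S₂ p ν lam p.o2) : Commute (xrs S₂ p ν lam a b t) g := by
  obtain ⟨ξ, hξ⟩ := glot6_exists_lam hF
  have h01 := p.h01
  have h10 : p.o1 ≠ p.o0 := fun h => p.h01 h.symm
  -- the general step: conjugation by the long Weyl element of the index `k ∈ {o0, o1}`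
  have step : ∀ {k j : ι}, k ≠ j → k ≠ p.o2 → ∀ {a b : ι ⊕ ι}, ab a ≠ ab b → (ab a = k ∨ ab a = j) → (ab b = k ∨ ab b = j) →
      (∀ (t : F) {g : G}, g ∈ LB S₂ p ν lam p.o2 → Commute (xrs S₂ p ν lam a b t) g) →
      ∀ (t : F) {g : G}, g ∈ LB S₂ p ν lam p.o2 →
        Commute (xrs S₂ p ν lam (Equiv.swap (Sum.inl k) (Sum.inr k) a) (Equiv.swap (Sum.inl k) (Sum.inr k) b) t) g := by
    intro k j hkj hk2 a b hab hak hbk h t g hg
    have hc : dwl (Sum.inl k) ξ a * (dwl (Sum.inl k) ξ b)⁻¹ ≠ 0 :=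
      mul_ne_zero (glot6_dwl_ne _ hξ _) (inv_ne_zero (glot6_dwl_ne _ hξ _))
    exact glot6_step S₂ p ν lam hk2 hξ hnorm hc (hwl hkj hξ hab hak hbk) h t hg
  -- the four sign patterns
  have hll := hbase
  have hne_ll : (Sum.inl p.o0 : ι ⊕ ι) ≠ Sum.inl p.o1 := fun h => h01 (Sum.inl.inj h)
  have hrl : ∀ (t : F) {g : G}, g ∈ LB S₂ p ν lam p.o2 → Commute (xrs S₂ p ν lam (Sum.inr p.o0) (Sum.inl p.o1) t) g := by
    have := step (k := p.o0) (j := p.o1) h01 p.h02 (a := Sum.inl p.o0) (b := Sum.inl p.o1) h01 (Or.inl rfl) (Or.inr rfl) hll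
    rw [Equiv.swap_apply_left, Equiv.swap_apply_of_ne_of_ne hne_ll.symm (by simp)] at this
    exact this
  have hne_rl : (Sum.inr p.o0 : ι ⊕ ι) ≠ Sum.inl p.o1 := by simp
  have hlr : ∀ (t : F) {g : G}, g ∈ LB S₂ p ν lam p.o2 → Commute (xrs S₂ p ν lam (Sum.inl p.o0) (Sum.inr p.o1) t) g := by
    have := step (k := p.o1) (j := p.o0) h10 p.h12 (a := Sum.inl p.o0) (b := Sum.inl p.o1) h01 (Or.inr rfl) (Or.inl rfl) hll
    rw [Equiv.swap_apply_left, Equiv.swap_apply_of_ne_of_ne hne_ll (by simp)] at this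
    exact this
  have hrr : ∀ (t : F) {g : G}, g ∈ LB S₂ p ν lam p.o2 → Commute (xrs S₂ p ν lam (Sum.inr p.o0) (Sum.inr p.o1) t) g := by
    have := step (k := p.o1) (j := p.o0) h10 p.h12 (a := Sum.inr p.o0) (b := Sum.inl p.o1) h01 (Or.inr rfl) (Or.inl rfl) hrl
    rw [Equiv.swap_apply_left, Equiv.swap_apply_of_ne_of_ne hne_rl (fun h => h01 (Sum.inr.inj h))] at this
    exact this
  rcases a with i | i <;> rcases b with j | j <;> simp only [ab] at ha hb <;> subst ha <;> subst hb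
  · exact hll t hg
  · exact hlr t hg
  · exact hrl t hg
  · exact hrr t hg

/-- T7 core: `d3_gen` from the statements of T6, E9, T1. -/
theorem glot7_core
    (hsigns : ∀ {a b : ι ⊕ ι}, ab a = p.o0 → ab b = p.o1 → ∀ (t : F) {g : G}, g ∈ LB S₂ p ν lam p.o2 →
      Commute (xrs S₂ p ν lam a b t) g)
    (hconj : ∀ (σ : Equiv.Perm ι) {a b : ι ⊕ ι}, ab a ≠ ab b → ∀ t : F,
      ν σ * xrs S₂ p ν lam a b t * (ν σ)⁻¹ = xrs S₂ p ν lam (sgm σ a) (sgm σ b) t)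
    (hLB : ∀ (σ : Equiv.Perm ι) (k : ι) {g : G}, g ∈ LB S₂ p ν lam k → ν σ * g * (ν σ)⁻¹ ∈ LB S₂ p ν lam (σ k))
    {a b : ι ⊕ ι} (hab : ab a ≠ ab b) {k : ι} (hka : k ≠ ab a) (hkb : k ≠ ab b)
    (t : F) {g : G} (hg : g ∈ LB S₂ p ν lam k) : Commute (xrs S₂ p ν lam a b t) g := by
  obtain ⟨σ, h0, h1, h2⟩ := Cfsg.Agent.Lib.helper3.SPM.exists_perm3 p hab (Ne.symm hka) (Ne.symm hkb)
  have ha0 : ab (sgm σ⁻¹ a) = p.o0 := by
    rw [Cfsg.Agent.Lib.helper3.SPM.ab_sgm, ← h0]; exact σ.symm_apply_apply _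
  have hb0 : ab (sgm σ⁻¹ b) = p.o1 := by
    rw [Cfsg.Agent.Lib.helper3.SPM.ab_sgm, ← h1]; exact σ.symm_apply_apply _
  have hk0 : σ⁻¹ k = p.o2 := by rw [← h2]; exact σ.symm_apply_apply _
  have hg0 : ν σ⁻¹ * g * (ν σ⁻¹)⁻¹ ∈ LB S₂ p ν lam p.o2 := by
    have := hLB σ⁻¹ k hg
    rwa [hk0] at this
  have hne : ab (sgm σ⁻¹ a) ≠ ab (sgm σ⁻¹ b) := by
    rw [ha0, hb0]; exact p.h01
  have hc := hsigns ha0 hb0 t hg0
  have hx : xrs S₂ p ν lam a b t = ν σ * xrs S₂ p ν lam (sgm σ⁻¹ a) (sgm σ⁻¹ b) t * (ν σ)⁻¹ := by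
    rw [hconj σ hne t, ← Equiv.Perm.mul_apply, ← Equiv.Perm.mul_apply, ← Cfsg.Agent.Lib.helper3.SPM.sgm_mul,
      mul_inv_cancel, Cfsg.Agent.Lib.helper3.SPM.sgm_one]
    rfl
  have hgg : g = ν σ * (ν σ⁻¹ * g * (ν σ⁻¹)⁻¹) * (ν σ)⁻¹ := by
    rw [map_inv]; group
  rw [hx, hgg]
  -- conjugation preserves commutation
  have key : ∀ (c x y : G), Commute x y → Commute (c * x * c⁻¹) (c * y * c⁻¹) := by
    intro c x y hxy
    unfold Commute SemiconjBy at *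
    calc c * x * c⁻¹ * (c * y * c⁻¹) = c * (x * y) * c⁻¹ := by group
      _ = c * (y * x) * c⁻¹ := by rw [hxy]
      _ = c * y * c⁻¹ * (c * x * c⁻¹) := by group
  exact key _ _ _ hc

end main

end Cfsg.Agent.Lib.Helper20.GLO
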