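import Mathlib
import Cfsg.Agent.Lib.Helper20.GLO.Defs
import Cfsg.Agent.Lib.Helper24.STCI1

/-!
# Project GLO (designer helper20, S2291), rows T8a + T8b (helper9): cores (port of `Helper9.GLET8core`)

`glot8_hl_core` = `pmon_hl` from the statements of T4 `hl_pair_s hl_pair_l`, T7 `d3_gen`, T2 `hrl_mem_LB`;
`glot8_wl_core` = `pmon_wl` from the statements of T4 `wl_pair_s wl_pair_l`, T7, T2 `wrl_mem_LB`.
-/

set_option autoImplicit false
set_option linter.unusedSectionVars false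

namespace Cfsg.Agent.Lib.Helper20.GLO

open Cfsg.Agent.Lib.helper3.STC (ng ab)
open Cfsg.Agent.Lib.helper3.SPM (Pts pe sgm sn sig2 ptsFin pe2)
open Cfsg.Agent.Lib.Helper27.STU
open Cfsg.Agent.Lib.helper17.SLP (cm)
open Cfsg.Agent.Lib.Helper20.GLE (lamC lamP)

universe u v w x v' y

/-- there is an index different from `k`. -/
theorem glot8_exists_ne {ι : Type w} (p : Pts ι) (k : ι) : ∃ j : ι, k ≠ j := by
  by_cases h : k = p.o0
  · exact ⟨p.o1, by rw [h]; exact p.h01⟩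
  · exact ⟨p.o0, h⟩

section coeff
variable {F : Type u} [Field F] [StarRing F] {ι : Type w} [DecidableEq ι]

theorem glot8_ne_of_ab {k : ι} {a : ι ⊕ ι} (h : ab a ≠ k) : a ≠ Sum.inl k ∧ a ≠ ng (Sum.inl k) := by
  constructor
  · rintro rfl; exact h rfl
  · rintro rfl; exact h rfl

theorem glot8_dhl_one {k : ι} {r : F} {a : ι ⊕ ι} (h : ab a ≠ k) : dhl (Sum.inl k) r a = 1 := by
  unfold dhl
  rw [if_neg (glot8_ne_of_ab h).1, if_neg (glot8_ne_of_ab h).2]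

theorem glot8_dwl_one {k : ι} {ξ : Lam F True} {a : ι ⊕ ι} (h : ab a ≠ k) : dwl (Sum.inl k) ξ a = 1 := by
  unfold dwl
  rw [if_neg (glot8_ne_of_ab h).1, if_neg (glot8_ne_of_ab h).2]

theorem glot8_swap_fix {k : ι} {a : ι ⊕ ι} (h : ab a ≠ k) : Equiv.swap (Sum.inl k) (Sum.inr k) a = a :=
  Equiv.swap_apply_of_ne_of_ne (glot8_ne_of_ab h).1 (glot8_ne_of_ab h).2

/-- `MonData` of the long torus -/
theorem glot8_mondata_hl (c : ι ⊕ ι) {r : F} (hr0 : r ≠ 0) :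
    SysU.MonData (1 : Equiv.Perm (ι ⊕ ι)) (dhl c r) (d0h r) := by
  have hs0 : star r ≠ 0 := fun h => hr0 (by simpa using h)
  refine ⟨fun _ => rfl, fun k' => ?_, ?_⟩
  · have hng : ng c ≠ c := Cfsg.Agent.Lib.helper3.STC.ng_ne c
    unfold dhl
    by_cases h1 : k' = c
    · rw [h1, if_neg hng, if_pos rfl, if_pos rfl, inv_mul_cancel₀ hs0]
    · by_cases h2 : k' = ng c
      · rw [h2, Cfsg.Agent.Lib.helper3.STC.ng_ng, if_pos rfl, if_neg hng, if_pos rfl, star_inv₀, star_star,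
          mul_inv_cancel₀ hr0]
      · have h3 : ng k' ≠ c := fun h => h2 (by rw [← h, Cfsg.Agent.Lib.helper3.STC.ng_ng])
        have h4 : ng k' ≠ ng c := fun h => h1 (Cfsg.Agent.Lib.helper3.STC.ng_inj.mp h)
        rw [if_neg h3, if_neg h4, if_neg h1, if_neg h2, star_one, mul_one]
  · unfold d0h
    rw [star_div₀, star_star]
    field_simp

/-- `MonData` of the long Weyl element -/
theorem glot8_mondata_wl (c : ι ⊕ ι) {ξ : Lam F True} (hξ : ξ.c ≠ 0) :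
    SysU.MonData (Equiv.swap c (ng c)) (dwl c ξ) (d0l ξ) := by
  have hng : ng c ≠ c := Cfsg.Agent.Lib.helper3.STC.ng_ne c
  have hs0 : star ξ.c ≠ 0 := fun h => hξ (by simpa using h)
  refine ⟨fun k' => ?_, fun k' => ?_, ?_⟩
  · by_cases h1 : k' = c
    · rw [h1, Equiv.swap_apply_right, Equiv.swap_apply_left, Cfsg.Agent.Lib.helper3.STC.ng_ng]
    · by_cases h2 : k' = ng c
      · rw [h2, Cfsg.Agent.Lib.helper3.STC.ng_ng, Equiv.swap_apply_left, Equiv.swap_apply_right]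
      · have h3 : ng k' ≠ c := fun h => h2 (by rw [← h, Cfsg.Agent.Lib.helper3.STC.ng_ng])
        have h4 : ng k' ≠ ng c := fun h => h1 (Cfsg.Agent.Lib.helper3.STC.ng_inj.mp h)
        rw [Equiv.swap_apply_of_ne_of_ne h3 h4, Equiv.swap_apply_of_ne_of_ne h1 h2]
  · unfold dwl
    by_cases h1 : k' = c
    · rw [h1, if_neg hng, if_pos rfl, if_pos rfl, star_inv₀, star_star, mul_inv_cancel₀ hξ]
    · by_cases h2 : k' = ng c
      · rw [h2, Cfsg.Agent.Lib.helper3.STC.ng_ng, if_pos rfl, if_neg hng, if_pos rfl, inv_mul_cancel₀ hs0]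
      · have h3 : ng k' ≠ c := fun h => h2 (by rw [← h, Cfsg.Agent.Lib.helper3.STC.ng_ng])
        have h4 : ng k' ≠ ng c := fun h => h1 (Cfsg.Agent.Lib.helper3.STC.ng_inj.mp h)
        rw [if_neg h3, if_neg h4, if_neg h1, if_neg h2, star_one, mul_one]
  · unfold d0l
    rw [star_neg, star_div₀, star_star]
    field_simp

end coeff

section main
variable {F : Type u} [Field F] [StarRing F] {L : Type x} [Group L] {ι : Type w} [Fintype ι] [DecidableEq ι] {G : Type v} [Group G]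
  (S₂ : SysU F True (Fin 2) L) (swL : L) (p : Pts ι) (ν : Equiv.Perm ι →* G) (lam : L →* G)

/-- T8a core -/
theorem glot8_hl_core
    (hhs : ∀ {k j : ι}, k ≠ j → ∀ {ξ η : Lam F True}, ξ.c ≠ 0 → η.c ≠ 0 → ∀ {a b : ι ⊕ ι}, ab a ≠ ab b →
      (ab a = k ∨ ab a = j) → (ab b = k ∨ ab b = j) → ∀ t : F,
      hrl S₂ p ν lam (Sum.inl k) ξ η * xrs S₂ p ν lam a b t * (hrl S₂ p ν lam (Sum.inl k) ξ η)⁻¹ =
        xrs S₂ p ν lam a b (dhl (Sum.inl k) (ξ.c / η.c) a * (dhl (Sum.inl k) (ξ.c / η.c) b)⁻¹ * t))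
    (hhl : ∀ {k j : ι}, k ≠ j → ∀ {ξ η : Lam F True}, ξ.c ≠ 0 → η.c ≠ 0 → ∀ {a : ι ⊕ ι},
      (ab a = k ∨ ab a = j) → ∀ ξ' : Lam F True,
      hrl S₂ p ν lam (Sum.inl k) ξ η * xrl S₂ p ν lam a ξ' * (hrl S₂ p ν lam (Sum.inl k) ξ η)⁻¹ =
        xrl S₂ p ν lam a (Lam.act (dhl (Sum.inl k) (ξ.c / η.c) a * (d0h (ξ.c / η.c))⁻¹) ξ'))
    (hd3 : ∀ {a b : ι ⊕ ι}, ab a ≠ ab b → ∀ {k : ι}, k ≠ ab a → k ≠ ab b → ∀ (t : F) {g : G},
      g ∈ LB S₂ p ν lam k → Commute (xrs S₂ p ν lam a b t) g)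
    (hmemh : ∀ (a : ι ⊕ ι) (ξ η : Lam F True), hrl S₂ p ν lam a ξ η ∈ LB S₂ p ν lam (ab a))
    (k : ι) {ξ η : Lam F True} (hξ : ξ.c ≠ 0) (hη : η.c ≠ 0) :
    PMon S₂ p ν lam (hrl S₂ p ν lam (Sum.inl k) ξ η) 1 (dhl (Sum.inl k) (ξ.c / η.c)) (d0h (ξ.c / η.c)) := by
  have hmem : hrl S₂ p ν lam (Sum.inl k) ξ η ∈ LB S₂ p ν lam k := hmemh (Sum.inl k) ξ η
  refine ⟨glot8_mondata_hl _ (div_ne_zero hξ hη), ?_, ?_⟩
  · intro a b hab t
    show _ = xrs S₂ p ν lam a b _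
    by_cases hak : ab a = k
    · exact hhs (k := k) (j := ab b) (fun h => hab (hak.trans h)) hξ hη hab (Or.inl hak) (Or.inr rfl) t
    · by_cases hbk : ab b = k
      · exact hhs (k := k) (j := ab a) (Ne.symm hak) hξ hη hab (Or.inr rfl) (Or.inl hbk) t
      · have hc := hd3 hab (Ne.symm hak) (Ne.symm hbk) t hmem
        rw [glot8_dhl_one hak, glot8_dhl_one hbk, inv_one, one_mul, one_mul, ← hc.eq, mul_inv_cancel_right]
  · intro a ξ'
    show _ = xrl S₂ p ν lam a _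
    by_cases hak : ab a = k
    · obtain ⟨j, hj⟩ := glot8_exists_ne p k
      exact hhl hj hξ hη (Or.inl hak) ξ'
    · exact hhl (k := k) (j := ab a) (Ne.symm hak) hξ hη (Or.inr rfl) ξ'

/-- T8b core -/
theorem glot8_wl_core
    (hws : ∀ {k j : ι}, k ≠ j → ∀ {ξ : Lam F True}, ξ.c ≠ 0 → ∀ {a b : ι ⊕ ι}, ab a ≠ ab b →
      (ab a = k ∨ ab a = j) → (ab b = k ∨ ab b = j) → ∀ t : F,
      wrl S₂ p ν lam (Sum.inl k) ξ * xrs S₂ p ν lam a b t * (wrl S₂ p ν lam (Sum.inl k) ξ)⁻¹ =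
        xrs S₂ p ν lam (Equiv.swap (Sum.inl k) (Sum.inr k) a) (Equiv.swap (Sum.inl k) (Sum.inr k) b)
          (dwl (Sum.inl k) ξ a * (dwl (Sum.inl k) ξ b)⁻¹ * t))
    (hwl : ∀ {k j : ι}, k ≠ j → ∀ {ξ : Lam F True}, ξ.c ≠ 0 → ∀ {a : ι ⊕ ι},
      (ab a = k ∨ ab a = j) → ∀ ξ' : Lam F True,
      wrl S₂ p ν lam (Sum.inl k) ξ * xrl S₂ p ν lam a ξ' * (wrl S₂ p ν lam (Sum.inl k) ξ)⁻¹ =
        xrl S₂ p ν lam (Equiv.swap (Sum.inl k) (Sum.inr k) a) (Lam.act (dwl (Sum.inl k) ξ a * (d0l ξ)⁻¹) ξ'))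
    (hd3 : ∀ {a b : ι ⊕ ι}, ab a ≠ ab b → ∀ {k : ι}, k ≠ ab a → k ≠ ab b → ∀ (t : F) {g : G},
      g ∈ LB S₂ p ν lam k → Commute (xrs S₂ p ν lam a b t) g)
    (hmemw : ∀ (a : ι ⊕ ι) (ξ : Lam F True), wrl S₂ p ν lam a ξ ∈ LB S₂ p ν lam (ab a))
    (k : ι) {ξ : Lam F True} (hξ : ξ.c ≠ 0) :
    PMon S₂ p ν lam (wrl S₂ p ν lam (Sum.inl k) ξ) (Equiv.swap (Sum.inl k) (Sum.inr k)) (dwl (Sum.inl k) ξ) (d0l ξ) := by
  have hmem : wrl S₂ p ν lam (Sum.inl k) ξ ∈ LB S₂ p ν lam k := hmemw (Sum.inl k) ξ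
  refine ⟨glot8_mondata_wl (Sum.inl k) hξ, ?_, ?_⟩
  · intro a b hab t
    by_cases hak : ab a = k
    · exact hws (k := k) (j := ab b) (fun h => hab (hak.trans h)) hξ hab (Or.inl hak) (Or.inr rfl) t
    · by_cases hbk : ab b = k
      · exact hws (k := k) (j := ab a) (Ne.symm hak) hξ hab (Or.inr rfl) (Or.inl hbk) t
      · have hc := hd3 hab (Ne.symm hak) (Ne.symm hbk) t hmem
        rw [glot8_dwl_one hak, glot8_dwl_one hbk, glot8_swap_fix hak, glot8_swap_fix hbk,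
          inv_one, one_mul, one_mul, ← hc.eq, mul_inv_cancel_right]
  · intro a ξ'
    by_cases hak : ab a = k
    · obtain ⟨j, hj⟩ := glot8_exists_ne p k
      exact hwl hj hξ (Or.inl hak) ξ'
    · exact hwl (k := k) (j := ab a) (Ne.symm hak) hξ (Or.inr rfl) ξ'

end main

end Cfsg.Agent.Lib.Helper20.GLO
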