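import Mathlib
import Cfsg.Agent.Lib.Helper20.GLO.Defs
import Cfsg.Agent.Lib.Helper20.GLOL0
import Cfsg.Agent.Lib.Helper20.GLOT1
import Cfsg.Agent.Lib.Helper26.GLOT2
import Cfsg.Agent.Lib.Helper11.GLOT4
import Cfsg.Agent.Lib.Helper25.GLOT3core
import Cfsg.Agent.Lib.Helper9.GLOE9
import Cfsg.Agent.Lib.Helper9.GLOT6core
import Cfsg.Agent.Lib.Helper9.GLOT8core

/-!
# Project GLO (designer helper20, S2291), rows T6 T7 T8a T8b (helper9), VERBATIM: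
`d3_signs`, `d3_gen`, `pmon_hl`, `pmon_wl` = the cores `glot6_core glot7_core glot8_hl_core glot8_wl_core`
on T1 (`Helper20.GLOT1`), T2 (`Helper26.GLOT2`), T4 (`Helper11.GLOT4`), E9 (`Helper9.GLOE9`) and helper25's cores of T3 / T5
(`Helper25.GLOT3core`; `glot6_norm_hl glot6_norm_wl' glot6_d3_base` are own-name copies of the statements of T3 `LB_norm_hl LB_norm_wl'`, T5 `d3_base`).
-/

set_option autoImplicit false

namespace Cfsg.Agent.Lib.Helper20.GLO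

open Cfsg.Agent.Lib.helper3.STC (ng ab)
open Cfsg.Agent.Lib.helper3.SPM (Pts pe sgm sn sig2 ptsFin pe2)
open Cfsg.Agent.Lib.Helper27.STU
open Cfsg.Agent.Lib.helper17.SLP (cm)
open Cfsg.Agent.Lib.Helper20.GLE (lamC lamP)

universe u v w x v' y

section main
variable {F : Type u} [Field F] [StarRing F] {L : Type x} [Group L] {ι : Type w} [Fintype ι] [DecidableEq ι] {G : Type v} [Group G]
  (S₂ : SysU F True (Fin 2) L) (swL : L) (p : Pts ι) (ν : Equiv.Perm ι →* G) (lam : L →* G)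

/-- own-name copy of the statement of T3 `LB_norm_hl` (from helper25's core and T4) -/
theorem glot6_norm_hl (H : Glue S₂ swL p ν lam) (hU : UFacts S₂ swL) {i k : ι} (hik : i ≠ k) {ξ η : Lam F True} (hξ : ξ.c ≠ 0) (hη : η.c ≠ 0)
    {g : G} (hg : g ∈ LB S₂ p ν lam k) :
    hrl S₂ p ν lam (Sum.inl i) ξ η * g * (hrl S₂ p ν lam (Sum.inl i) ξ η)⁻¹ ∈ LB S₂ p ν lam k :=
  glot3_hl_core S₂ p ν lam (fun ha ξ' => hl_pair_l S₂ swL p ν lam H hU hik hξ hη ha ξ') hg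

/-- own-name copy of the statement of T3 `LB_norm_wl'` (from helper25's core, T4 and Λ1) -/
theorem glot6_norm_wl' (H : Glue S₂ swL p ν lam) (hU : UFacts S₂ swL) {i k : ι} (hik : i ≠ k) {ξ : Lam F True} (hξ : ξ.c ≠ 0)
    {g : G} (hg : g ∈ LB S₂ p ν lam k) :
    (wrl S₂ p ν lam (Sum.inl i) ξ)⁻¹ * g * wrl S₂ p ν lam (Sum.inl i) ξ ∈ LB S₂ p ν lam k :=
  glot3_wl'_core S₂ p ν lam hik hξ (fun ha ξ' => wl_pair_l S₂ swL p ν lam H hU hik hξ ha ξ')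
    (fun ht ξ' => act_surj ht ξ') hg

/-- own-name copy of the statement of T5 `d3_base` (from helper25's core, Λ0, T4) -/
theorem glot6_d3_base (hF : Hyp F) (H : Glue S₂ swL p ν lam) (hU : UFacts S₂ swL) (t : F) {g : G} (hg : g ∈ LB S₂ p ν lam p.o2) :
    Commute (xrs S₂ p ν lam (Sum.inl p.o0) (Sum.inl p.o1) t) g :=
  glot5_core S₂ swL p ν lam H (fun hr => exists_lam_ratio hF hr)
    (fun hξ hη t => hl_pair_s S₂ swL p ν lam H hU p.h01 hξ hη (a := Sum.inl p.o0) (b := Sum.inl p.o1) p.h01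
      (Or.inl rfl) (Or.inr rfl) t)
    (fun hξ hη _ hg => glot6_norm_hl S₂ swL p ν lam H hU p.h02 hξ hη hg) t hg

/-- T6 [M]  **ODD** in one step; model GLE T6: all signs. -/
theorem d3_signs (hF : Hyp F) (H : Glue S₂ swL p ν lam) (hU : UFacts S₂ swL) {a b : ι ⊕ ι} (ha : ab a = p.o0) (hb : ab b = p.o1) (t : F) {g : G}
    (hg : g ∈ LB S₂ p ν lam p.o2) : Commute (xrs S₂ p ν lam a b t) g :=
  glot6_core S₂ p ν lam hF (fun t _ hg => glot6_d3_base S₂ swL p ν lam hF H hU t hg)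
    (fun hkj _ hξ _ _ hab ha hb t => wl_pair_s S₂ swL p ν lam H hU hkj hξ hab ha hb t)
    (fun hik _ hξ _ hg => glot6_norm_wl' S₂ swL p ν lam H hU hik hξ hg) ha hb t hg

/-- T7 [S-M]  model GLE T7: all indices. -/
theorem d3_gen (hF : Hyp F) (H : Glue S₂ swL p ν lam) (hU : UFacts S₂ swL) {a b : ι ⊕ ι} (hab : ab a ≠ ab b) {k : ι} (hka : k ≠ ab a) (hkb : k ≠ ab b)
    (t : F) {g : G} (hg : g ∈ LB S₂ p ν lam k) : Commute (xrs S₂ p ν lam a b t) g :=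
  glot7_core S₂ p ν lam (fun ha hb t _ hg => d3_signs S₂ swL p ν lam hF H hU ha hb t hg)
    (fun σ _ _ hab t => xrs_conj S₂ swL p ν lam H hU σ hab t)
    (fun σ k _ hg => LB_conj S₂ swL p ν lam H σ k hg) hab hka hkb t hg

/-- T8 [M]  **ODD** in the long clause; model GLE T8: assembly. -/
theorem pmon_hl (hF : Hyp F) (H : Glue S₂ swL p ν lam) (hU : UFacts S₂ swL) (k : ι) {ξ η : Lam F True} (hξ : ξ.c ≠ 0) (hη : η.c ≠ 0) :
    PMon S₂ p ν lam (hrl S₂ p ν lam (Sum.inl k) ξ η) 1 (dhl (Sum.inl k) (ξ.c / η.c)) (d0h (ξ.c / η.c)) :=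
  glot8_hl_core S₂ p ν lam
    (fun hkj _ _ hξ hη _ _ hab ha hb t => hl_pair_s S₂ swL p ν lam H hU hkj hξ hη hab ha hb t)
    (fun hkj _ _ hξ hη _ ha ξ' => hl_pair_l S₂ swL p ν lam H hU hkj hξ hη ha ξ')
    (fun hab _ hka hkb t _ hg => d3_gen S₂ swL p ν lam hF H hU hab hka hkb t hg)
    (fun a ξ η => hrl_mem_LB S₂ p ν lam a ξ η) k hξ hη

theorem pmon_wl (hF : Hyp F) (H : Glue S₂ swL p ν lam) (hU : UFacts S₂ swL) (k : ι) {ξ : Lam F True} (hξ : ξ.c ≠ 0) :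
    PMon S₂ p ν lam (wrl S₂ p ν lam (Sum.inl k) ξ) (Equiv.swap (Sum.inl k) (Sum.inr k)) (dwl (Sum.inl k) ξ) (d0l ξ) :=
  glot8_wl_core S₂ p ν lam
    (fun hkj _ hξ _ _ hab ha hb t => wl_pair_s S₂ swL p ν lam H hU hkj hξ hab ha hb t)
    (fun hkj _ hξ _ ha ξ' => wl_pair_l S₂ swL p ν lam H hU hkj hξ ha ξ')
    (fun hab _ hka hkb t _ hg => d3_gen S₂ swL p ν lam hF H hU hab hka hkb t hg)
    (fun a ξ => wrl_mem_LB S₂ p ν lam a ξ) k hξ

end main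

end Cfsg.Agent.Lib.Helper20.GLO
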