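import Mathlib
import Cfsg.Prelude.Def_Characters
import Cfsg.Agent.Lib.helper7.PM2.Defs
import Cfsg.Agent.Lib.helper7.PM2.FrontDefs
import Cfsg.Agent.Lib.helper2.CenterIndex
import Cfsg.Agent.Lib.Helper25.CharQuot

/-!
# Project PM2 (S4705), piece TW1 : `twist_lin` (a power of the determinant twists the central character to odd order)
-/

set_option autoImplicit false
set_option linter.unusedVariables false
set_option linter.unusedSectionVars false

namespace Cfsg.Agent.Lib.helper7.PM2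

open Cfsg.Agent.Lib.helper7.BD
open scoped ComplexConjugate

universe u

/-- arithmetic: `d` odd => some `j` with `2 ^ b ∣ j * d + 1` -/
theorem pm2tw1_exists_j (d b : ℕ) (hodd : Odd d) : ∃ j : ℕ, 2 ^ b ∣ j * d + 1 := by
  rcases Nat.eq_zero_or_pos b with hb | hb
  · exact ⟨0, by rw [hb, pow_zero]; exact one_dvd _⟩
  · have h1 : 1 < 2 ^ b := Nat.one_lt_two_pow hb.ne'
    have hcop : Nat.Coprime d (2 ^ b) := Nat.Coprime.pow_right b hodd.coprime_two_right
    obtain ⟨m, -, hm⟩ := Nat.exists_mul_mod_eq_one_of_coprime hcop h1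
    have hmod : d * m ≡ 1 [MOD 2 ^ b] := by
      unfold Nat.ModEq
      rw [hm, Nat.mod_eq_of_lt h1]
    refine ⟨(2 ^ b - 1) * m, ?_⟩
    have h2 : (2 ^ b - 1) * (d * m) + 1 ≡ (2 ^ b - 1) * 1 + 1 [MOD 2 ^ b] :=
      (hmod.mul_left _).add_right 1
    have h3 : (2 ^ b - 1) * 1 + 1 = 2 ^ b := by
      rw [mul_one]; exact Nat.sub_add_cancel h1.le
    rw [h3] at h2
    have h4 : (2 ^ b - 1) * m * d + 1 = (2 ^ b - 1) * (d * m) + 1 := by ring
    rw [h4]
    exact (Nat.modEq_zero_iff_dvd).mp (h2.trans (by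
      unfold Nat.ModEq; rw [Nat.mod_self, Nat.zero_mod]))

section twist

variable {G : Type u} [Group G] [Finite G]

/-- TW1 : a linear character `β` such that the central character of `β ζ` has odd order -/
theorem twist_lin (ζ : G → ℂ) (hζ : Cfsg.IsIrrCharacter G ζ) (d : ℕ) (hd : ζ 1 = (d : ℂ)) (hodd : Odd d) :
    ∃ β : G → ℂ, Cfsg.IsCharacter G β ∧ β 1 = 1 ∧
      ∃ r : ℕ, Odd r ∧ ∀ c ∈ Subgroup.center G, (β c * (ζ c / ζ 1)) ^ r = 1 := by
  obtain ⟨n, ρ, hirr, hchar⟩ := hζ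
  have := hirr
  -- the degree
  have hn : n = d := by
    have h1 : ζ 1 = (n : ℂ) := by
      rw [← hchar, Representation.char_one, Module.finrank_fin_fun]
    rw [hd] at h1
    exact (Nat.cast_injective h1).symm
  have hd0 : d ≠ 0 := by
    rintro rfl
    exact (Nat.not_odd_iff_even.mpr (by decide : Even 0)) hodd
  -- the determinant
  let δ : G →* ℂˣ := ((LinearMap.det : ((Fin n → ℂ) →ₗ[ℂ] (Fin n → ℂ)) →* ℂ).comp ρ).toHomUnits
  have hδ : ∀ g : G, ((δ g : ℂˣ) : ℂ) = LinearMap.det (ρ g) := fun g => rfl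
  -- the order of the centre
  have hZ0 : Nat.card (Subgroup.center G) ≠ 0 := Nat.card_pos.ne'
  obtain ⟨b, r, hr, hZ⟩ := Nat.exists_eq_two_pow_mul_odd hZ0
  obtain ⟨j, hj⟩ := pm2tw1_exists_j d b hodd
  refine ⟨fun g => (((δ ^ j) g : ℂˣ) : ℂ), ?_, ?_, r, hr, ?_⟩
  · exact Cfsg.Agent.Lib.helper2.isCharacter_of_irr (Cfsg.Agent.Lib.Helper25.linIrr (δ ^ j))
  · show (((δ ^ j) 1 : ℂˣ) : ℂ) = 1
    rw [map_one, Units.val_one]
  · intro c hc
    obtain ⟨s, hs1, hs⟩ := Cfsg.Agent.Lib.helper2.center_scalar ρ c hc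
    -- the values at `c`
    have hζc : ζ c = s * (d : ℂ) := by
      rw [← hchar, Representation.character, hs, map_smul, smul_eq_mul, LinearMap.trace_id,
        Module.finrank_fin_fun, hn]
    have hνc : ζ c / ζ 1 = s := by
      rw [hζc, hd]
      have : (d : ℂ) ≠ 0 := by exact_mod_cast hd0
      field_simp
    have hδc : ((δ c : ℂˣ) : ℂ) = s ^ d := by
      rw [hδ, hs, LinearMap.det_smul, Module.finrank_fin_fun, LinearMap.det_id, mul_one, hn]
    have hβc : (((δ ^ j) c : ℂˣ) : ℂ) = (s ^ d) ^ j := by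
      rw [MonoidHom.pow_apply, Units.val_pow_eq_pow_val, hδc]
    -- `s ^ |Z| = 1`
    have hsZ : s ^ Nat.card (Subgroup.center G) = 1 := by
      have hc1 : c ^ Nat.card (Subgroup.center G) = 1 := by
        have h0 : orderOf c ∣ Nat.card (Subgroup.center G) := by
          rw [← Subgroup.orderOf_mk c hc]; exact orderOf_dvd_natCard _
        exact orderOf_dvd_iff_pow_eq_one.mp h0
      have hpow : ∀ k : ℕ, ρ (c ^ k) = (s ^ k) • (LinearMap.id : (Fin n → ℂ) →ₗ[ℂ] (Fin n → ℂ)) := by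
        intro k
        induction k with
        | zero =>
          rw [pow_zero, map_one, pow_zero, one_smul]; rfl
        | succ k ih =>
          rw [pow_succ, map_mul, ih, hs, pow_succ]
          ext w i
          simp [mul_smul, mul_comm]
      have h3 := hpow (Nat.card (Subgroup.center G))
      rw [hc1, map_one] at h3
      -- evaluate the traces
      have h4 := congrArg (LinearMap.trace ℂ (Fin n → ℂ)) h3
      rw [map_smul, smul_eq_mul, LinearMap.trace_id, Module.finrank_fin_fun] at h4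
      have h5 : LinearMap.trace ℂ (Fin n → ℂ) (1 : (Fin n → ℂ) →ₗ[ℂ] (Fin n → ℂ)) = (n : ℂ) := by
        rw [LinearMap.trace_one, Module.finrank_fin_fun]
      rw [h5] at h4
      have hn0 : (n : ℂ) ≠ 0 := by rw [hn]; exact_mod_cast hd0
      have h6 : (1 : ℂ) * (n : ℂ) = s ^ Nat.card (Subgroup.center G) * (n : ℂ) := by
        rw [one_mul]; exact h4
      exact (mul_right_cancel₀ hn0 h6).symm
    show ((((δ ^ j) c : ℂˣ) : ℂ) * (ζ c / ζ 1)) ^ r = 1
    rw [hβc, hνc]
    obtain ⟨t, ht⟩ := hj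
    have : ((s ^ d) ^ j * s) ^ r = (s ^ Nat.card (Subgroup.center G)) ^ t := by
      rw [hZ, ← pow_mul, ← pow_succ, ← pow_mul, ← pow_mul]
      congr 1
      have : d * j + 1 = 2 ^ b * t := by rw [mul_comm d j]; exact ht
      rw [this]; ring
    rw [this, hsZ, one_pow]

end twist

end Cfsg.Agent.Lib.helper7.PM2
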