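import Mathlib
import Cfsg.Prelude.Def_Characters
import Cfsg.Agent.Lib.helper7.PM2.Defs
import Cfsg.Agent.Lib.helper7.PM2.FrontDefs
import Cfsg.Agent.Lib.helper2.CenterIndex
import Cfsg.Agent.Lib.Helper25.CharQuot
import Cfsg.Agent.Lib.Helper25.CharLinear
import Cfsg.Agent.Lib.Helper25.Gagola
import Cfsg.Agent.Lib.Helper11.AbelianQuot
import Cfsg.Agent.Lib.helper7.BlockQuot

/-!
# Project PM2 (S4705), piece TW2 : `twist_quot`, core (`central_of_norm_eq` as a hypothesis)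
-/

set_option autoImplicit false
set_option linter.unusedVariables false
set_option linter.unusedSectionVars false

namespace Cfsg.Agent.Lib.helper7.PM2

open Cfsg.Agent.Lib.helper7.BD
open scoped ComplexConjugate

universe u

section twist

variable {G : Type u} [Group G] [Finite G]

/-- the values of an irreducible character on the powers of a central element -/
theorem pm2tw2_central_pow {χ : G → ℂ} (hχ : Cfsg.IsIrrCharacter G χ) (c : G)
    (hc : c ∈ Subgroup.center G) :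
    χ 1 ≠ 0 ∧ ∃ s : ℂ, ‖s‖ = 1 ∧ ∀ k : ℕ, χ (c ^ k) = s ^ k * χ 1 := by
  obtain ⟨n, ρ, hirr, hchar⟩ := hχ
  have := hirr
  have h1 : χ 1 = (n : ℂ) := by
    rw [← hchar, Representation.char_one, Module.finrank_fin_fun]
  have hn0 : n ≠ 0 := by
    have := Cfsg.Agent.Lib.Helper25.finrank_ne_zero_of_irr ρ
    rwa [Module.finrank_fin_fun] at this
  refine ⟨by rw [h1]; exact_mod_cast hn0, ?_⟩
  obtain ⟨s, hs1, hs⟩ := Cfsg.Agent.Lib.helper2.center_scalar ρ c hc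
  refine ⟨s, hs1, ?_⟩
  have hpow : ∀ k : ℕ, ρ (c ^ k) = (s ^ k) • (LinearMap.id : (Fin n → ℂ) →ₗ[ℂ] (Fin n → ℂ)) := by
    intro k
    induction k with
    | zero =>
      rw [pow_zero, map_one, pow_zero, one_smul]; rfl
    | succ k ih =>
      rw [pow_succ, map_mul, ih, hs, pow_succ]
      ext w i
      simp [mul_smul, mul_comm]
  intro k
  rw [h1, ← hchar, Representation.character, hpow k, map_smul, smul_eq_mul, LinearMap.trace_id,
    Module.finrank_fin_fun]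

/-- a character of degree one is irreducible -/
theorem pm2tw2_lin_irr {β : G → ℂ} (hβ : Cfsg.IsCharacter G β) (hβ1 : β 1 = 1) :
    Cfsg.IsIrrCharacter G β := by
  obtain ⟨n, ρ, hchar⟩ := hβ
  have h1 : β 1 = (n : ℂ) := by
    rw [← hchar, Representation.char_one, Module.finrank_fin_fun]
  have hn : n = 1 := by
    rw [hβ1] at h1
    exact_mod_cast h1.symm
  have hirr : ρ.IsIrreducible :=
    Cfsg.Agent.Lib.Helper25.isIrreducible_of_finrank_eq_one ρ (by rw [Module.finrank_fin_fun, hn])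
  exact ⟨n, ρ, hirr, hchar⟩

/-- TW2, core -/
theorem pm2tw2_core (ζ : G → ℂ) (hζ : Cfsg.IsIrrCharacter G ζ) (hfaith : ∀ g : G, ζ g = ζ 1 → g = 1)
    (hCN : ∀ g : G, ‖ζ g‖ = ‖ζ 1‖ → g ∈ Subgroup.center G)
    (β : G → ℂ) (hβ : Cfsg.IsCharacter G β) (hβ1 : β 1 = 1) (r : ℕ) (hr : Odd r)
    (hβr : ∀ c ∈ Subgroup.center G, (β c * (ζ c / ζ 1)) ^ r = 1) :
    ∃ (L : Subgroup G) (_ : L.Normal) (ζ' : G ⧸ L → ℂ),
      L ≤ Subgroup.center G ∧
      Subgroup.center (G ⧸ L) = (Subgroup.center G).map (QuotientGroup.mk' L) ∧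
      Odd (Nat.card (Subgroup.center (G ⧸ L))) ∧
      Cfsg.IsIrrCharacter (G ⧸ L) ζ' ∧ (∀ g : G ⧸ L, ζ' g = ζ' 1 → g = 1) ∧ ζ' 1 = ζ 1 := by
  cases nonempty_fintype G
  -- `β` as a homomorphism
  let βI : Cfsg.IrrCharacter G := ⟨β, pm2tw2_lin_irr hβ hβ1⟩
  let φ : G →* ℂˣ := Cfsg.Agent.Lib.Helper25.irrLinearHom βI hβ1
  have hφ : ∀ g : G, ((φ g : ℂˣ) : ℂ) = β g := fun g => rfl
  have hβnorm : ∀ g : G, ‖β g‖ = 1 := by
    intro g
    have h1 : (β g) ^ orderOf g = 1 := by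
      rw [← hφ, ← Units.val_pow_eq_pow_val, ← map_pow, pow_orderOf_eq_one, map_one, Units.val_one]
    exact Complex.norm_eq_one_of_pow_eq_one h1 (orderOf_pos g).ne'
  -- the twisted character
  have hζ₁ : Cfsg.IsIrrCharacter G (fun g => ((φ g : ℂˣ) : ℂ) * ζ g) :=
    Cfsg.Agent.Lib.Helper11.isIrr_linChar_mul φ ζ hζ
  let ζ₁I : Cfsg.IrrCharacter G := ⟨fun g => ((φ g : ℂˣ) : ℂ) * ζ g, hζ₁⟩
  have hζ₁val : ∀ g : G, (ζ₁I : G → ℂ) g = β g * ζ g := fun g => rfl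
  have hζ₁one : (ζ₁I : G → ℂ) 1 = ζ 1 := by rw [hζ₁val, hβ1, one_mul]
  have hnorm : ∀ g : G, ‖(ζ₁I : G → ℂ) g‖ = ‖ζ g‖ := by
    intro g
    rw [hζ₁val, norm_mul, hβnorm, one_mul]
  -- the kernel
  let L : Subgroup G := Cfsg.Agent.Lib.Helper25.irrKer ζ₁I
  have hLn : L.Normal := Cfsg.Agent.Lib.Helper25.irrKer_normal ζ₁I
  have hmemL : ∀ g : G, g ∈ L ↔ (ζ₁I : G → ℂ) g = (ζ₁I : G → ℂ) 1 :=
    fun g => Cfsg.Agent.Lib.Helper25.mem_irrKer ζ₁I g
  have hLZ : L ≤ Subgroup.center G := by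
    intro g hg
    apply hCN
    rw [← hnorm, (hmemL g).mp hg, hζ₁one]
  -- the deflation
  obtain ⟨φ', hφ'⟩ := Cfsg.Agent.Lib.helper7.h7_deflate L ζ₁I (fun n hn => (hmemL n).mp hn)
  have hφ'one : (φ' : G ⧸ L → ℂ) 1 = ζ 1 := by
    have := hφ' 1
    rw [hζ₁one] at this
    exact this
  -- central elements of the quotient
  have hcenter : Subgroup.center (G ⧸ L) = (Subgroup.center G).map (QuotientGroup.mk' L) := by
    apply le_antisymm
    · intro q hq
      obtain ⟨g, rfl⟩ := QuotientGroup.mk_surjective q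
      obtain ⟨h0, s, hs1, hs⟩ := pm2tw2_central_pow φ'.2 _ hq
      have h1 := hs 1
      rw [pow_one, pow_one] at h1
      have h2 : ‖(φ' : G ⧸ L → ℂ) (QuotientGroup.mk g)‖ = ‖(φ' : G ⧸ L → ℂ) 1‖ := by
        rw [h1, norm_mul, hs1, one_mul]
      rw [hφ' g, hφ'one, hnorm] at h2
      exact ⟨g, hCN g h2, rfl⟩
    · rintro q ⟨c, hc, rfl⟩
      rw [Subgroup.mem_center_iff]
      intro q'
      obtain ⟨g, rfl⟩ := QuotientGroup.mk_surjective q'
      show (QuotientGroup.mk g : G ⧸ L) * QuotientGroup.mk c = QuotientGroup.mk c * QuotientGroup.mk g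
      rw [← QuotientGroup.mk_mul, ← QuotientGroup.mk_mul, Subgroup.mem_center_iff.mp hc g]
  -- the exponent of the centre of the quotient
  have hexp : ∀ q ∈ Subgroup.center (G ⧸ L), q ^ r = 1 := by
    intro q hq
    rw [hcenter] at hq
    obtain ⟨c, hc, rfl⟩ := hq
    obtain ⟨h0, s, hs1, hs⟩ := pm2tw2_central_pow hζ₁ c hc
    have hs' : s = β c * (ζ c / ζ 1) := by
      have h1 := hs 1
      rw [pow_one, pow_one] at h1
      have h2 : (ζ₁I : G → ℂ) c = s * ζ 1 := by rw [← hζ₁one]; exact h1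
      rw [hζ₁val] at h2
      have hζ10 : ζ 1 ≠ 0 := by rw [← hζ₁one]; exact h0
      field_simp
      rw [h2]
    have hcr : c ^ r ∈ L := by
      rw [hmemL]
      have := hs r
      rw [hs', hβr c hc, one_mul] at this
      exact this
    show (QuotientGroup.mk c : G ⧸ L) ^ r = 1
    rw [← QuotientGroup.mk_pow]
    exact (QuotientGroup.eq_one_iff _).mpr hcr
  have hodd : Odd (Nat.card (Subgroup.center (G ⧸ L))) := by
    rw [← Nat.not_even_iff_odd]
    intro heven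
    have h2 : 2 ∣ Nat.card (Subgroup.center (G ⧸ L)) := heven.two_dvd
    have : Fact (Nat.Prime 2) := ⟨Nat.prime_two⟩
    obtain ⟨q, hq⟩ := exists_prime_orderOf_dvd_card' 2 h2
    have h3 : (q : G ⧸ L) ^ r = 1 := hexp q q.2
    have h4 : orderOf (q : G ⧸ L) = 2 := by rw [Subgroup.orderOf_coe]; exact hq
    have h5 : 2 ∣ r := by rw [← h4]; exact orderOf_dvd_of_pow_eq_one h3
    exact (Nat.not_even_iff_odd.mpr hr) (even_iff_two_dvd.mpr h5)
  refine ⟨L, hLn, (φ' : G ⧸ L → ℂ), hLZ, hcenter, hodd, φ'.2, ?_, hφ'one⟩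
  intro q hq
  obtain ⟨g, rfl⟩ := QuotientGroup.mk_surjective q
  have h1 : (φ' : G ⧸ L → ℂ) (QuotientGroup.mk g) = (φ' : G ⧸ L → ℂ) 1 := hq
  rw [hφ' g, hφ'one, ← hζ₁one] at h1
  exact (QuotientGroup.eq_one_iff _).mpr ((hmemL g).mpr h1)

end twist

end Cfsg.Agent.Lib.helper7.PM2
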