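import Mathlib
import Cfsg.Prelude.Def_Characters
import Cfsg.Agent.Lib.helper7.PM2.Defs
import Cfsg.Agent.Lib.helper7.PM2.FrontDefs
import Cfsg.Agent.Lib.Helper9.PM2TW2core
import Cfsg.Agent.Lib.helper17.PM2BAS2G

/-!
# Project PM2 (S4705), piece TW2 : `twist_quot`
-/

set_option autoImplicit false
set_option linter.unusedVariables false
set_option linter.unusedSectionVars false

namespace Cfsg.Agent.Lib.helper7.PM2

open Cfsg.Agent.Lib.helper7.BD
open scoped ComplexConjugate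

universe u

section twist

variable {G : Type u} [Group G] [Finite G]

/-- TW2 : the quotient by the kernel of `β ζ` -/
theorem twist_quot (ζ : G → ℂ) (hζ : Cfsg.IsIrrCharacter G ζ) (hfaith : ∀ g : G, ζ g = ζ 1 → g = 1)
    (β : G → ℂ) (hβ : Cfsg.IsCharacter G β) (hβ1 : β 1 = 1) (r : ℕ) (hr : Odd r)
    (hβr : ∀ c ∈ Subgroup.center G, (β c * (ζ c / ζ 1)) ^ r = 1) :
    ∃ (L : Subgroup G) (_ : L.Normal) (ζ' : G ⧸ L → ℂ),
      L ≤ Subgroup.center G ∧
      Subgroup.center (G ⧸ L) = (Subgroup.center G).map (QuotientGroup.mk' L) ∧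
      Odd (Nat.card (Subgroup.center (G ⧸ L))) ∧
      Cfsg.IsIrrCharacter (G ⧸ L) ζ' ∧ (∀ g : G ⧸ L, ζ' g = ζ' 1 → g = 1) ∧ ζ' 1 = ζ 1 := by
  cases nonempty_fintype G
  exact pm2tw2_core ζ hζ hfaith (fun g h => central_of_norm_eq hζ hfaith g h) β hβ hβ1 r hr hβr

end twist

end Cfsg.Agent.Lib.helper7.PM2
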