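import Cfsg.Agent.Lib.helper3.SP4.Defs

/-!
# SP4 rows P2 (`ev6_inA`, `ev6_inB`), P3 (`ev6_wordsS6`), P4 (`hyp_iff_rel`)
-/

set_option autoImplicit false

namespace Cfsg.Agent.Lib.helper3.SP4

open Cfsg.Agent.Lib.helper17.SLP
open Polynomial

universe u v

section aux

variable {G : Type u} [Group G] {H : Type v} [Group H]

theorem sp4p3_map_relS1 (φ : G →* H) (ha hb : G) : φ (relS1 ha hb) = relS1 (φ ha) (φ hb) := by
  simp only [relS1, map_cm]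

theorem sp4p3_map_relS2 (φ : G →* H) (ua hb za : G) :
    φ (relS2 ua hb za) = relS2 (φ ua) (φ hb) (φ za) := by
  simp only [relS2, map_mul, map_inv]

theorem sp4p3_map_relS3 (φ : G →* H) (ha ub hb : G) :
    φ (relS3 ha ub hb) = relS3 (φ ha) (φ ub) (φ hb) := by
  simp only [relS3, map_mul, map_inv]

theorem sp4p3_map_relS4 (φ : G →* H) (ha wa hb : G) :
    φ (relS4 ha wa hb) = relS4 (φ ha) (φ wa) (φ hb) := by
  simp only [relS4, map_mul, map_inv]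

theorem sp4p3_map_relS5 (φ : G →* H) (ha hb wb : G) :
    φ (relS5 ha hb wb) = relS5 (φ ha) (φ hb) (φ wb) := by
  simp only [relS5, map_mul, map_inv, map_pow]

theorem sp4p3_map_relS6 (φ : G →* H) (wa wb : G) : φ (relS6 wa wb) = relS6 (φ wa) (φ wb) := by
  simp only [relS6, map_mul, map_inv]

theorem sp4p3_map_relS7 (φ : G →* H) (ua wa wb : G) :
    φ (relS7 ua wa wb) = relS7 (φ ua) (φ wa) (φ wb) := by
  simp only [relS7, map_mul, map_inv]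

theorem sp4p3_map_relS8 (φ : G →* H) (wa ub wb : G) :
    φ (relS8 wa ub wb) = relS8 (φ wa) (φ ub) (φ wb) := by
  simp only [relS8, map_cm, map_mul, map_inv]

theorem sp4p3_map_relS9 (φ : G →* H) (ua wa ub wb : G) :
    φ (relS9 ua wa ub wb) = relS9 (φ ua) (φ wa) (φ ub) (φ wb) := by
  simp only [relS9, map_cm, map_mul, map_inv]

theorem sp4p3_map_relS10 (φ : G →* H) (ua wa ub wb : G) :
    φ (relS10 ua wa ub wb) = relS10 (φ ua) (φ wa) (φ ub) (φ wb) := by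
  simp only [relS10, map_cm, map_mul, map_inv, map_pow]

theorem sp4p3_map_relS11 (φ : G →* H) (ua wa ub : G) :
    φ (relS11 ua wa ub) = relS11 (φ ua) (φ wa) (φ ub) := by
  simp only [relS11, map_cm, map_mul, map_inv]

theorem sp4p3_map_relS12 (φ : G →* H) (wa ub : G) :
    φ (relS12 wa ub) = relS12 (φ wa) (φ ub) := by
  simp only [relS12, map_cm, map_mul, map_inv]

theorem sp4p3_ev6_pUa (ua ha wa ub hb wb : G) : ev6 ua ha wa ub hb wb pUa = ua := by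
  simp [ev6, pUa]

theorem sp4p3_ev6_pHa (ua ha wa ub hb wb : G) : ev6 ua ha wa ub hb wb pHa = ha := by
  simp [ev6, pHa]

theorem sp4p3_ev6_pWa (ua ha wa ub hb wb : G) : ev6 ua ha wa ub hb wb pWa = wa := by
  simp [ev6, pWa]

theorem sp4p3_ev6_pUb (ua ha wa ub hb wb : G) : ev6 ua ha wa ub hb wb pUb = ub := by
  simp [ev6, pUb]

theorem sp4p3_ev6_pHb (ua ha wa ub hb wb : G) : ev6 ua ha wa ub hb wb pHb = hb := by
  simp [ev6, pHb]

theorem sp4p3_ev6_pWb (ua ha wa ub hb wb : G) : ev6 ua ha wa ub hb wb pWb = wb := by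
  simp [ev6, pWb]

end aux

/-- P2 [S-M]  homomorphisms `FreeGroup (Fin 3) →* G` agreeing on generators (`FreeGroup.ext_hom`, `fin_cases`; `inA = FreeGroup.map (Fin.castAdd 3)`, `FreeGroup.map.of`, `FreeGroup.lift.of`). -/
theorem ev6_inA {G : Type*} [Group G] (ua ha wa ub hb wb : G) (r : FreeGroup (Fin 3)) :
    ev6 ua ha wa ub hb wb (inA r) = ev ua ha wa r := by
  have h : (ev6 ua ha wa ub hb wb).comp inA = ev ua ha wa := by
    apply FreeGroup.ext_hom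
    intro i
    fin_cases i <;> simp [ev6, inA, ev]
  exact DFunLike.congr_fun h r

theorem ev6_inB {G : Type*} [Group G] (ua ha wa ub hb wb : G) (r : FreeGroup (Fin 3)) :
    ev6 ua ha wa ub hb wb (inB r) = ev ub hb wb r := by
  have h : (ev6 ua ha wa ub hb wb).comp inB = ev ub hb wb := by
    apply FreeGroup.ext_hom
    intro i
    fin_cases i <;> simp [ev6, inB, ev]
  exact DFunLike.congr_fun h r

/-- P3 [S-M]  `simp` with `wordsS6`, `List.forall_mem_cons`, the `relS…` unfolded (or `map_…` lemmas of your own), `map_mul`, `map_inv`, `map_pow`, `map_cm`, `ev6` at the six generators. -/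
theorem ev6_wordsS6 {G : Type*} [Group G] (ua ha wa ub hb wb : G) (za : FreeGroup (Fin 6)) :
    (∀ r ∈ wordsS6 za, ev6 ua ha wa ub hb wb r = 1) ↔
      (relS1 ha hb = 1 ∧ relS2 ua hb (ev6 ua ha wa ub hb wb za) = 1 ∧ relS3 ha ub hb = 1 ∧
        relS4 ha wa hb = 1 ∧ relS5 ha hb wb = 1 ∧ relS6 wa wb = 1 ∧ relS7 ua wa wb = 1 ∧
        relS8 wa ub wb = 1 ∧ relS9 ua wa ub wb = 1 ∧ relS10 ua wa ub wb = 1 ∧ relS11 ua wa ub = 1 ∧
        relS12 wa ub = 1) := by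
  simp only [wordsS6, List.forall_mem_cons, List.not_mem_nil, IsEmpty.forall_iff, implies_true,
    and_true, sp4p3_map_relS1, sp4p3_map_relS2, sp4p3_map_relS3, sp4p3_map_relS4,
    sp4p3_map_relS5, sp4p3_map_relS6, sp4p3_map_relS7, sp4p3_map_relS8, sp4p3_map_relS9,
    sp4p3_map_relS10, sp4p3_map_relS11, sp4p3_map_relS12, sp4p3_ev6_pUa, sp4p3_ev6_pHa,
    sp4p3_ev6_pWa, sp4p3_ev6_pUb, sp4p3_ev6_pHb, sp4p3_ev6_pWb]

/-- P4 [M]  Unfold `Hyp`, `rx rh rn xc xd`, the `relS…` and `cm`; each field is `a * b⁻¹ = 1 ↔ a = b` (`mul_inv_eq_one`), `cm_eq_one_iff` (SLP `Defs`), `W7`: `n u n⁻¹ u = 1 ↔ n u n⁻¹ = u⁻¹` (`mul_eq_one_iff_eq_inv`). -/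
theorem hyp_iff_rel {F : Type u} [Field F] {G : Type v} [Group G] (ζ : Fˣ)
    (φa φb : Matrix.SpecialLinearGroup (Fin 2) F →* G) :
    Hyp ζ φa φb ↔
      (relS1 (rh φa ζ) (rh φb ζ) = 1 ∧ relS2 (rx φa 1) (rh φb ζ) (rx φa (ζ : F)) = 1 ∧
        relS3 (rh φa ζ) (rx φb 1) (rh φb ζ) = 1 ∧ relS4 (rh φa ζ) (rn φa) (rh φb ζ) = 1 ∧
        relS5 (rh φa ζ) (rh φb ζ) (rn φb) = 1 ∧ relS6 (rn φa) (rn φb) = 1 ∧
        relS7 (rx φa 1) (rn φa) (rn φb) = 1 ∧ relS8 (rn φa) (rx φb 1) (rn φb) = 1 ∧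
        relS9 (rx φa 1) (rn φa) (rx φb 1) (rn φb) = 1 ∧ relS10 (rx φa 1) (rn φa) (rx φb 1) (rn φb) = 1 ∧
        relS11 (rx φa 1) (rn φa) (rx φb 1) = 1 ∧ relS12 (rn φa) (rx φb 1) = 1) := by
  have e1 : relS1 (rh φa ζ) (rh φb ζ) = 1 ↔ Commute (rh φa ζ) (rh φb ζ) := by
    unfold relS1; exact cm_eq_one_iff _ _
  have e2 : relS2 (rx φa 1) (rh φb ζ) (rx φa (ζ : F)) = 1 ↔
      (rh φb ζ)⁻¹ * rx φa 1 * rh φb ζ = rx φa (ζ : F) := by
    unfold relS2; exact mul_inv_eq_one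
  have e3 : relS3 (rh φa ζ) (rx φb 1) (rh φb ζ) = 1 ↔
      rh φa ζ * rx φb 1 * (rh φa ζ)⁻¹ = (rh φb ζ)⁻¹ * rx φb 1 * rh φb ζ := by
    unfold relS3; exact mul_inv_eq_one
  have e4 : relS4 (rh φa ζ) (rn φa) (rh φb ζ) = 1 ↔
      rn φa * rh φb ζ * (rn φa)⁻¹ = rh φb ζ * rh φa ζ := by
    unfold relS4; exact mul_inv_eq_one
  have e5 : relS5 (rh φa ζ) (rh φb ζ) (rn φb) = 1 ↔
      rn φb * rh φa ζ * (rn φb)⁻¹ = rh φa ζ * rh φb ζ ^ 2 := by
    unfold relS5; exact mul_inv_eq_one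
  have e6 : relS6 (rn φa) (rn φb) = 1 ↔
      rn φa * rn φb * rn φa * rn φb = rn φb * rn φa * rn φb * rn φa := by
    unfold relS6; exact mul_inv_eq_one
  have e7 : relS7 (rx φa 1) (rn φa) (rn φb) = 1 ↔
      (rn φb * rn φa * (rn φb)⁻¹) * rx φa 1 * (rn φb * rn φa * (rn φb)⁻¹)⁻¹ = (rx φa 1)⁻¹ := by
    unfold relS7; exact mul_eq_one_iff_eq_inv
  have e8 : relS8 (rn φa) (rx φb 1) (rn φb) = 1 ↔
      Commute (rn φa * rn φb * (rn φa)⁻¹) (rx φb 1) := by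
    unfold relS8; exact cm_eq_one_iff _ _
  have e9 : relS9 (rx φa 1) (rn φa) (rx φb 1) (rn φb) = 1 ↔
      cm (rx φa 1) (rx φb 1) = xc φa φb 1 * xd φa φb 1 := by
    unfold relS9 xc xd; exact mul_inv_eq_one
  have e10 : relS10 (rx φa 1) (rn φa) (rx φb 1) (rn φb) = 1 ↔
      cm (rx φa 1) (xc φa φb 1) = xd φa φb 1 ^ 2 := by
    unfold relS10 xc xd; exact mul_inv_eq_one
  have e11 : relS11 (rx φa 1) (rn φa) (rx φb 1) = 1 ↔ Commute (rx φa 1) (xd φa φb 1) := by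
    unfold relS11 xd; exact cm_eq_one_iff _ _
  have e12 : relS12 (rn φa) (rx φb 1) = 1 ↔ Commute (rx φb 1) (xd φa φb 1) := by
    unfold relS12 xd; exact cm_eq_one_iff _ _
  rw [e1, e2, e3, e4, e5, e6, e7, e8, e9, e10, e11, e12]
  constructor
  · intro H
    exact ⟨H.T1, H.T2, H.T3, H.N4, H.N5, H.N6, H.W7, H.W8, H.C9, H.C10, H.C11, H.C12⟩
  · rintro ⟨h1, h2, h3, h4, h5, h6, h7, h8, h9, h10, h11, h12⟩
    exact ⟨h1, h2, h3, h4, h5, h6, h7, h8, h9, h10, h11, h12⟩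

end Cfsg.Agent.Lib.helper3.SP4
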