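import Mathlib
import Cfsg.Prelude.Def_LieTypeChar
import Cfsg.Agent.Lib.helper14.SQD.Defs
import Cfsg.Agent.Lib.helper14.SQD.DefsU
import Cfsg.Agent.Lib.Helper24.SQD.DefsO
import Cfsg.Agent.Lib.Helper21.SQDOA4
import Cfsg.Agent.Lib.Helper26.SQDOG2
import Cfsg.Agent.Lib.Lead.SQDG1

/-!
Project SQD (S4625), block OG (skeleton SkelO by helper24): spare copy `sqdog3_h9_sieg_le_comm` of row OG3
(`sieg_le_comm`, exact statement) by helper9.
-/

set_option autoImplicit false

namespace Cfsg.Agent.Lib.helper14.SQD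

open Cfsg Cfsg.Lie Matrix

universe u v

section OG3h9
variable {k : ℕ} {F : Type u} [Field F] {H : Type v} [Group H]

/-- the matrix identity behind OG3 -/
theorem sqdog3_h9_mat (i j l : Fin k) (hij : i ≠ j) (hil : i ≠ l) (hlj : l ≠ j) (c : F) :
    Matrix.transvection i l c * (Matrix.single l j (1 : F) + Matrix.single j l 1) *
        (Matrix.transvection i l c)ᵀ - (Matrix.single l j (1 : F) + Matrix.single j l 1) =
      Matrix.single i j c + Matrix.single j i c := by
  unfold Matrix.transvection
  rw [Matrix.transpose_add, Matrix.transpose_one, Matrix.transpose_single]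
  simp only [add_mul, mul_add, one_mul, mul_one, Matrix.single_mul_single_same,
    Matrix.single_mul_single_of_ne _ _ _ _ hlj, Matrix.single_mul_single_of_ne _ _ _ _ (Ne.symm hlj),
    Matrix.single_mul_single_of_ne _ _ _ _ hij, Matrix.single_mul_single_of_ne _ _ _ _ (Ne.symm hij),
    Matrix.single_mul_single_of_ne _ _ _ _ hil, Matrix.single_mul_single_of_ne _ _ _ _ (Ne.symm hil),
    add_zero, zero_add, mul_one, one_mul, Matrix.single_zero, zero_mul, mul_zero]
  abel

theorem sqdog3_h9_third (hk : 3 ≤ k) (i j : Fin k) : ∃ l : Fin k, i ≠ l ∧ l ≠ j := by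
  by_contra hcon
  push Not at hcon
  have h0 : ∀ l : Fin k, l = i ∨ l = j := by
    intro l
    by_cases h : i = l
    · exact Or.inl h.symm
    · exact Or.inr (hcon l h)
  have hcard : Fintype.card (Fin k) ≤ 2 := by
    calc Fintype.card (Fin k) = (Finset.univ : Finset (Fin k)).card := rfl
      _ ≤ ({i, j} : Finset (Fin k)).card := by
        apply Finset.card_le_card
        intro l _
        rcases h0 l with h | h
        · simp [h]
        · simp [h]
      _ ≤ 2 := Finset.card_le_two
  rw [Fintype.card_fin] at hcard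
  omega

theorem sqdog3_h9_S0_mem (l j : Fin k) (hlj : l ≠ j) :
    Matrix.single l j (1 : F) + Matrix.single j l 1 ∈ altAdd k F := by
  refine ⟨?_, fun a => ?_⟩
  · rw [Matrix.transpose_add, Matrix.transpose_single, Matrix.transpose_single, add_comm]
  · rw [Matrix.add_apply, Matrix.single_apply, Matrix.single_apply]
    rw [if_neg, if_neg, add_zero]
    · rintro ⟨h1, h2⟩
      exact hlj (h2.trans h1.symm)
    · rintro ⟨h1, h2⟩
      exact hlj (h1.trans h2.symm)

open scoped commutatorElement in
/-- spare copy of row OG3 (exact statement of `sieg_le_comm`) -/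
theorem sqdog3_h9_sieg_le_comm (φ : GL (Fin k ⊕ Fin k) F →* H) (O : Subgroup H) (hk : 3 ≤ k)
    (hlev : ∀ g : GL (Fin k) F, φ (levHom (RingHom.id F) g) ∈ O)
    (hsieg : ∀ S ∈ altAdd k F, φ (siegHom (Multiplicative.ofAdd S)) ∈ O) :
    (siegGrp (altAdd k F)).map φ ≤ ⁅O, O⁆ := by
  have key : ∀ S : Matrix (Fin k) (Fin k) F, S ∈ altAdd k F →
      φ (siegHom (Multiplicative.ofAdd S)) ∈ ⁅O, O⁆ := by
    intro S hS
    have hcl := alt_mem_closure S hS
    refine AddSubgroup.closure_induction (p := fun T _ => φ (siegHom (Multiplicative.ofAdd T)) ∈ ⁅O, O⁆)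
      ?_ ?_ ?_ ?_ hcl
    · rintro T ⟨i, j, hij, c, rfl⟩
      obtain ⟨l, hil, hlj⟩ := sqdog3_h9_third hk i j
      obtain ⟨g, hg⟩ := sqdog2_transvection_unit i l hil c
      have hS0 := sqdog3_h9_S0_mem (F := F) l j hlj
      have hconj := lev_conj_sieg (RingHom.id F) g (Matrix.single l j (1 : F) + Matrix.single j l 1)
      have htadj : tadj (RingHom.id F) (g : Matrix (Fin k) (Fin k) F) = (g : Matrix (Fin k) (Fin k) F)ᵀ := by
        unfold tadj
        rw [RingHom.coe_id, Matrix.map_id]
      rw [htadj, hg] at hconj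
      have hmat := sqdog3_h9_mat i j l hij hil hlj c
      have heq : siegHom (Multiplicative.ofAdd (Matrix.single i j c + Matrix.single j i c)) =
          ⁅levHom (RingHom.id F) g,
            siegHom (Multiplicative.ofAdd (Matrix.single l j (1 : F) + Matrix.single j l 1))⁆ := by
        rw [commutatorElement_def, hconj, ← map_inv, ← map_mul, ← ofAdd_neg, ← ofAdd_add,
          ← sub_eq_add_neg, hmat]
      rw [heq, map_commutatorElement]
      exact Subgroup.commutator_mem_commutator (hlev g) (hsieg _ hS0)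
    · show φ (siegHom (Multiplicative.ofAdd 0)) ∈ ⁅O, O⁆
      rw [ofAdd_zero, map_one, map_one]
      exact Subgroup.one_mem _
    · intro a b _ _ ha hb
      show φ (siegHom (Multiplicative.ofAdd (a + b))) ∈ ⁅O, O⁆
      rw [ofAdd_add, map_mul, map_mul]
      exact Subgroup.mul_mem _ ha hb
    · intro a _ ha
      show φ (siegHom (Multiplicative.ofAdd (-a))) ∈ ⁅O, O⁆
      rw [ofAdd_neg, map_inv, map_inv]
      exact Subgroup.inv_mem _ ha
  rintro x ⟨y, hy, rfl⟩
  obtain ⟨s, hs, rfl⟩ := hy
  exact key (Multiplicative.toAdd s) hs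

end OG3h9

end Cfsg.Agent.Lib.helper14.SQD
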