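import Mathlib
import Cfsg.Prelude.Def_LieTypeChar
import Cfsg.Agent.Lib.helper14.SQD.Defs
import Cfsg.Agent.Lib.helper14.SQD.DefsU
import Cfsg.Agent.Lib.Helper24.SQD.DefsO
import Cfsg.Agent.Lib.Helper26.SQDOG2
import Cfsg.Agent.Lib.Helper9.SQDOG3h9

/-!
Project SQD (S4625), block OG (skeleton SkelO by helper24): verbatim row OG4 `sg_le_comm`
(on OG2 of helper26 and the spare copy `sqdog3_h9_sieg_le_comm` of OG3).
-/

set_option autoImplicit false

namespace Cfsg.Agent.Lib.helper14.SQD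

open Cfsg Cfsg.Lie Matrix

universe u v

section OG
variable {k : ℕ} {F : Type u} [Field F] {H : Type v} [Group H]

/-- OG4 [E]. `Subgroup.map_sup`, `sup_le`, OG2, OG3. -/
theorem sg_le_comm (φ : GL (Fin k ⊕ Fin k) F →* H) (O : Subgroup H) (hk : 3 ≤ k)
    (hlev : ∀ g : GL (Fin k) F, φ (levHom (RingHom.id F) g) ∈ O)
    (hsieg : ∀ S ∈ altAdd k F, φ (siegHom (Multiplicative.ofAdd S)) ∈ O) :
    (sgGrp (RingHom.id F) (altAdd k F)).map φ ≤ ⁅O, O⁆ := by
  unfold sgGrp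
  rw [Subgroup.map_sup]
  exact sup_le (sqdog3_h9_sieg_le_comm φ O hk hlev hsieg) (lev_le_comm φ O hk (RingHom.id F) hlev)

end OG

end Cfsg.Agent.Lib.helper14.SQD
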