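import Mathlib
import Cfsg.Prelude.Def_LieTypeChar
import Cfsg.Agent.Lib.Helper24.SQD.DefsO

/-!
Project SQD (S4625), block OW (skeleton SkelO by helper24): `Ω` inside `GL`.  Verbatim rows
`omegaToGL_injective`, `omegaToGL_range`, `mem_isometryGroup_iff`.
-/

set_option autoImplicit false

namespace Cfsg.Agent.Lib.helper14.SQD

open Cfsg Cfsg.Lie Matrix

universe u v

section OW
variable {ι : Type} [Fintype ι] [DecidableEq ι] {F : Type u} [Field F] (Q : (ι → F) → F)

/-- OW1 [E]. Both factors are subgroup inclusions. -/
theorem omegaToGL_injective : Function.Injective (omegaToGL F Q) := by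
  intro x y h
  apply Subtype.ext
  apply Subtype.ext
  exact h

/-- OW2 [E-M]. -/
theorem omegaToGL_range : (omegaToGL F Q).range = ⁅isometryGroup F Q, isometryGroup F Q⁆ := by
  unfold omegaToGL
  rw [MonoidHom.range_comp, Subgroup.range_subtype]
  show Subgroup.map (isometryGroup F Q).subtype (commutator ↥(isometryGroup F Q)) = _
  rw [commutator_def, Subgroup.map_commutator, ← MonoidHom.range_eq_map, Subgroup.range_subtype]

/-- OW3 [E]. Unfold `isometryGroup`, `preserving`. -/
theorem mem_isometryGroup_iff (g : GL ι F) :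
    g ∈ isometryGroup F Q ↔ ∀ v : ι → F, Q ((g : Matrix ι ι F) *ᵥ v) = Q v := by
  constructor
  · intro h v
    exact h v v
  · intro h u v
    exact h u

end OW

end Cfsg.Agent.Lib.helper14.SQD
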