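import Mathlib
import Cfsg.Agent.Lib.Helper24.T3C.Defs2
import Cfsg.Agent.Lib.helper23.CEUE1
import Cfsg.Agent.Lib.helper3.SL2Mult
import Cfsg.Agent.Lib.helper3.SuzukiMultB
import Cfsg.Agent.Lib.Helper19.SL2Normal

/-!
# Project T3C (sub-designer helper24), row R1 `exists_sl2_lift` (helper9)
-/

set_option autoImplicit false

namespace Cfsg.Agent.Lib.Helper24.T3C

open Cfsg.Agent.Lib.helper15.St2 Cfsg.Agent.Lib.helper7.Ce Cfsg.Agent.Lib.helper17.T3
open scoped commutatorElement

/-- a subgroup `R ≤ ⁅R, R⁆` is a perfect group -/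
theorem t3cr1_commutator_top {Γ : Type*} [Group Γ] (R : Subgroup Γ) (hR : R ≤ ⁅R, R⁆) : commutator ↥R = ⊤ := by
  have h2 := Subgroup.map_commutator (⊤ : Subgroup ↥R) ⊤ R.subtype
  have h3 : (⊤ : Subgroup ↥R).map R.subtype = R := by
    rw [← MonoidHom.range_eq_map, Subgroup.range_subtype]
  rw [h3, ← commutator_def] at h2
  rw [eq_top_iff]
  intro x _
  have hx : (x : Γ) ∈ (commutator ↥R).map R.subtype := by
    rw [h2]
    exact hR x.2
  obtain ⟨y, hy, hyx⟩ := hx
  have : y = x := Subtype.ext hyx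
  rw [← this]
  exact hy

section R

variable {K : Type*} [Field K] {G : Type*} [Group G] {Γ : Type*} [Group Γ] {π : Γ →* G}

/-- R1 [L] -/
theorem exists_sl2_lift [Finite K] [Finite Γ] (h : IsCE π) (h5 : 5 ≤ Nat.card K) (h9 : Nat.card K ≠ 9)
    (ρ : Matrix.SpecialLinearGroup (Fin 2) K →* G) :
    ∃ ρ' : Matrix.SpecialLinearGroup (Fin 2) K →* Γ, ∀ m, π (ρ' m) = ρ m := by
  classical
  have : Fintype K := Fintype.ofFinite K
  have hcard : Nat.card K = Fintype.card K := Nat.card_eq_fintype_card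
  -- the pullback
  let E : Subgroup (Matrix.SpecialLinearGroup (Fin 2) K × Γ) :=
    MonoidHom.eqLocus (ρ.comp (MonoidHom.fst (Matrix.SpecialLinearGroup (Fin 2) K) Γ))
      (π.comp (MonoidHom.snd (Matrix.SpecialLinearGroup (Fin 2) K) Γ))
  let p : ↥E →* Matrix.SpecialLinearGroup (Fin 2) K :=
    (MonoidHom.fst (Matrix.SpecialLinearGroup (Fin 2) K) Γ).comp E.subtype
  let s : ↥E →* Γ := (MonoidHom.snd (Matrix.SpecialLinearGroup (Fin 2) K) Γ).comp E.subtype
  have hps : ∀ e : ↥E, ρ (p e) = π (s e) := fun e => e.2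
  have hpsurj : Function.Surjective p := fun m => by
    obtain ⟨γ, hγ⟩ := h.surj (ρ m)
    exact ⟨⟨(m, γ), hγ.symm⟩, rfl⟩
  have hpker : p.ker ≤ Subgroup.center ↥E := by
    intro z hz
    have h1 : z.1.1 = 1 := hz
    have h2 : π z.1.2 = 1 := by
      have := hps z
      rw [show p z = z.1.1 from rfl, h1, map_one] at this
      exact this.symm
    rw [Subgroup.mem_center_iff]
    intro g
    apply Subtype.ext
    apply Prod.ext
    · show g.1.1 * z.1.1 = z.1.1 * g.1.1
      rw [h1, mul_one, one_mul]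
    · show g.1.2 * z.1.2 = z.1.2 * g.1.2
      exact (h.comm_of_map_one h2 g.1.2).symm
  have hperfK : commutator (Matrix.SpecialLinearGroup (Fin 2) K) = ⊤ :=
    Cfsg.Agent.Lib.Helper19.SL2Normal.commutator_eq_top (by omega)
  -- the derived subgroup of the pullback
  let R : Subgroup ↥E := commutator ↥E
  have hRmap : R.map p = ⊤ := by
    show (commutator ↥E).map p = ⊤
    rw [commutator_def, Subgroup.map_commutator, ← MonoidHom.range_eq_map,
      MonoidHom.range_eq_top.mpr hpsurj, ← commutator_def, hperfK]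
  have hRperf : R ≤ ⁅R, R⁆ := by
    show commutator ↥E ≤ ⁅R, R⁆
    rw [commutator_def, Subgroup.commutator_le]
    intro g₁ _ g₂ _
    have e₁ : p g₁ ∈ R.map p := by rw [hRmap]; exact Subgroup.mem_top _
    have e₂ : p g₂ ∈ R.map p := by rw [hRmap]; exact Subgroup.mem_top _
    obtain ⟨r₁, hr₁, hr₁'⟩ := e₁
    obtain ⟨r₂, hr₂, hr₂'⟩ := e₂
    rw [Cfsg.Agent.Lib.helper3.comm_eq_of_map_eq p hpker hr₁'.symm hr₂'.symm]
    exact Subgroup.commutator_mem_commutator hr₁ hr₂
  have hRtop : commutator ↥R = ⊤ := t3cr1_commutator_top R hRperf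
  let σ : ↥R →* Matrix.SpecialLinearGroup (Fin 2) K := p.comp R.subtype
  have hσsurj : Function.Surjective σ := fun m => by
    have hm : m ∈ R.map p := by rw [hRmap]; exact Subgroup.mem_top _
    obtain ⟨r, hr, hrm⟩ := hm
    exact ⟨⟨r, hr⟩, hrm⟩
  have hσcen : σ.ker ≤ Subgroup.center ↥R := by
    intro z hz
    rw [Subgroup.mem_center_iff]
    intro g
    have hz' : (z : ↥E) ∈ p.ker := hz
    have := Subgroup.mem_center_iff.mp (hpker hz') (g : ↥E)
    exact Subtype.ext this
  have hσder : σ.ker ≤ commutator ↥R := by rw [hRtop]; exact le_top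
  have h4' : Fintype.card K ≠ 4 := by omega
  have h9' : Fintype.card K ≠ 9 := by omega
  have htriv := Cfsg.Agent.Lib.helper3.sl2_stem_ker_trivial σ hσsurj hσcen hσder h4' h9'
  have hσinj : Function.Injective σ := (injective_iff_map_eq_one σ).mpr (fun z hz => htriv z hz)
  let e : ↥R ≃* Matrix.SpecialLinearGroup (Fin 2) K := MulEquiv.ofBijective σ ⟨hσinj, hσsurj⟩
  refine ⟨(s.comp R.subtype).comp e.symm.toMonoidHom, fun m => ?_⟩
  have h1 : σ (e.symm m) = m := e.apply_symm_apply m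
  have h2 := hps ((e.symm m : ↥R) : ↥E)
  show π (s ((e.symm m : ↥R) : ↥E)) = ρ m
  rw [← h2]
  congr 1

end R

end Cfsg.Agent.Lib.Helper24.T3C
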