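import Mathlib
import Cfsg.Agent.Lib.Helper11.UNS.Defs
import Cfsg.Agent.Lib.Helper11.UNSK

/-!
Project UNS (S2316), row W1 (`BP_tauS`), verbatim vs `Helper11/UNS/Skel.lean.txt`.
-/

set_option autoImplicit false

namespace Cfsg.Agent.Lib.Helper11.UNS

open Matrix Cfsg.Agent.Lib.helper14.SpBN

universe u

variable {F : Type u} [Field F] {m : ℕ}

/-- W1. -/
theorem BP_tauS (J : Finset ℕ) (k : Fin m) (hk : k.val ∈ J) : BP J (tauS k) := by
  have hac : pa k ≠ pc k := pa_ne_pc k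
  have e1 : bfJ J (pc k) = bfJ J (pa k) := by
    rw [bfJ_pc, if_pos hk, add_zero]
  have e2 : bfJ J (pc k).swap = bfJ J (pa k).swap := by
    have h1 := bfJ_swap J (pc k)
    have h2 := bfJ_swap J (pa k)
    omega
  intro x
  show bfJ J (tauF (pa k) (pc k) x) = bfJ J x
  by_cases h1 : x = pa k
  · rw [h1, tauF_left, e1]
  by_cases h2 : x = pc k
  · rw [h2, tauF_right hac, e1]
  by_cases h3 : x = (pa k).swap
  · have hc : pc k ≠ (pa k).swap := fun e => h2 (by rw [h3, e])
    rw [h3, tauF_swap_left hc, e2]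
  by_cases h4 : x = (pc k).swap
  · have hc : pc k ≠ (pa k).swap := fun e => h1 (by rw [h4, e, Sum.swap_swap])
    rw [h4, tauF_swap_right hac hc, e2]
  rw [tauF_of_ne h1 h2 h3 h4]

end Cfsg.Agent.Lib.Helper11.UNS
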