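import Mathlib
import Cfsg.Prelude.Def_TwoFusion
import Cfsg.Agent.Lib.Helper9.SylowConj
import Cfsg.Agent.Lib.Helper13.ConjFamily

set_option autoImplicit false

namespace Cfsg.Agent.Lib.Helper9

open Cfsg.Agent.Lib.Helper13

/-- a subgroup of odd index containing all elements of odd order is everything -/
theorem si_eq_top_of_odd {N : Type*} [Group N] [Finite N] (K : Subgroup N)
    (hidx : ¬ 2 ∣ K.index) (hK : ∀ g : N, Odd (orderOf g) → g ∈ K) : K = ⊤ := by
  classical
  haveI : Fact (Nat.Prime 2) := ⟨Nat.prime_two⟩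
  set s : Set N := {g | Odd (orderOf g)} with hs
  have hM : Subgroup.normalClosure s ≤ K := by
    unfold Subgroup.normalClosure
    rw [Subgroup.closure_le]
    intro a ha
    obtain ⟨b, hb, hba⟩ := Group.mem_conjugatesOfSet_iff.mp ha
    obtain ⟨c, hc⟩ := isConj_iff.mp hba
    apply hK
    rw [← hc, orderOf_conj_eq]
    exact hb
  have hP : IsPGroup 2 (N ⧸ Subgroup.normalClosure s) := by
    intro q
    obtain ⟨g, rfl⟩ := QuotientGroup.mk_surjective q
    obtain ⟨k, m, hm, hkm⟩ := Nat.exists_eq_two_pow_mul_odd (orderOf_pos g).ne'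
    refine ⟨k, ?_⟩
    rw [← QuotientGroup.mk_pow, QuotientGroup.eq_one_iff]
    apply Subgroup.subset_normalClosure
    show Odd (orderOf (g ^ 2 ^ k))
    rw [orderOf_pow' g (by positivity), hkm]
    have h1 : Nat.gcd (2 ^ k * m) (2 ^ k) = 2 ^ k := Nat.gcd_eq_right (dvd_mul_right _ _)
    rw [h1, Nat.mul_div_cancel_left _ (by positivity)]
    exact hm
  obtain ⟨j, hj⟩ := IsPGroup.iff_card.mp hP
  have h1 : K.index ∣ 2 ^ j := by
    rw [← hj, ← Subgroup.index_eq_card]
    exact Subgroup.index_dvd_of_le hM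
  obtain ⟨i, -, hi⟩ := (Nat.dvd_prime_pow Nat.prime_two).1 h1
  rcases Nat.eq_zero_or_pos i with rfl | hpos
  · rw [pow_zero] at hi
    exact Subgroup.index_eq_one.mp hi
  · exfalso
    apply hidx
    rw [hi]
    exact dvd_pow_self 2 hpos.ne'

theorem si_le_of_odd {X : Type*} [Group X] [Finite X] (N P C : Subgroup X)
    (hP : ¬ 2 ∣ (P ⊓ N).relIndex N) (hPC : P ≤ C)
    (hodd : ∀ g ∈ N, Odd (orderOf g) → g ∈ C) : N ≤ C := by
  have h := si_eq_top_of_odd (C.subgroupOf N) ?_ ?_
  · intro x hx
    have h1 : (⟨x, hx⟩ : N) ∈ C.subgroupOf N := by rw [h]; trivial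
    exact Subgroup.mem_subgroupOf.mp h1
  · intro h2
    apply hP
    refine dvd_trans h2 ?_
    apply Subgroup.index_dvd_of_le
    intro x hx
    rw [Subgroup.mem_subgroupOf] at hx ⊢
    exact hPC hx.1
  · intro g hg
    rw [Subgroup.mem_subgroupOf]
    apply hodd _ g.2
    rwa [Subgroup.orderOf_coe]

/-- an odd order element normalizing an abelian `2`-group with at most three involutions,
one of which it fixes, centralizes it -/
theorem si_abelian_fix {X : Type*} [Group X] (T : Subgroup X)
    (hab : ∀ a ∈ T, ∀ b ∈ T, a * b = b * a) (hT2 : ∀ t ∈ T, ∃ k : ℕ, t ^ 2 ^ k = 1)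
    (g : X) (hg : Odd (orderOf g)) (hgT : ∀ t ∈ T, g * t * g⁻¹ ∈ T)
    (z w : X) (hz : g * z * g⁻¹ = z) (hz2 : z * z = 1)
    (hinv : ∀ t ∈ T, t * t = 1 → t = 1 ∨ t = z ∨ t = w ∨ t = w * z) :
    ∀ t ∈ T, g * t * g⁻¹ = t := by
  -- `g` is a power of `g * g`
  obtain ⟨j, hj⟩ := hg
  have hgpow : (g * g) ^ (j + 1) = g := by
    rw [← pow_two, ← pow_mul]
    have : 2 * (j + 1) = orderOf g + 1 := by omega
    rw [this, pow_succ, pow_orderOf_eq_one, one_mul]
  have hconj_inj : ∀ a b : X, g * a * g⁻¹ = g * b * g⁻¹ → a = b := by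
    intro a b h
    have := congrArg (fun x => g⁻¹ * x * g) h
    simpa [mul_assoc] using this
  -- `w`
  have hw : w ∈ T → w * w = 1 → g * w * g⁻¹ = w := by
    intro hwT hw2
    have h1 : g * w * g⁻¹ ∈ T := hgT w hwT
    have h2 : g * w * g⁻¹ * (g * w * g⁻¹) = 1 := by
      calc g * w * g⁻¹ * (g * w * g⁻¹) = g * (w * w) * g⁻¹ := by group
        _ = 1 := by rw [hw2]; group
    rcases hinv _ h1 h2 with h | h | h | h
    · have : w = 1 := by
        apply hconj_inj
        rw [h]; group
      rw [this]; group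
    · have : w = z := by
        apply hconj_inj
        rw [h, hz]
      rw [this, hz]
    · exact h
    · have h3 : (g * g) * w * (g * g)⁻¹ = w := by
        calc (g * g) * w * (g * g)⁻¹ = g * (g * w * g⁻¹) * g⁻¹ := by group
          _ = g * (w * z) * g⁻¹ := by rw [h]
          _ = (g * w * g⁻¹) * (g * z * g⁻¹) := by group
          _ = w * z * z := by rw [h, hz]
          _ = w := by rw [mul_assoc, hz2, mul_one]
      have h4 : Commute (g * g) w := by
        show (g * g) * w = w * (g * g)
        calc (g * g) * w = ((g * g) * w * (g * g)⁻¹) * (g * g) := by group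
          _ = w * (g * g) := by rw [h3]
      have h5 : Commute g w := by
        rw [← hgpow]
        exact h4.pow_left _
      calc g * w * g⁻¹ = w * g * g⁻¹ := by rw [h5.eq]
        _ = w := by group
  have hfix : ∀ t ∈ T, t * t = 1 → g * t * g⁻¹ = t := by
    intro t ht ht2
    rcases hinv t ht ht2 with h | h | h | h
    · rw [h]; group
    · rw [h, hz]
    · rw [h] at ht ht2 ⊢
      exact hw ht ht2
    · have hzT : z ∈ T ∨ z ∉ T := em _
      have hwz : w = t * z := by
        rw [h, mul_assoc, hz2, mul_one]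
      by_cases hzT : z ∈ T
      · have hwT : w ∈ T := by rw [hwz]; exact T.mul_mem ht hzT
        have hw2 : w * w = 1 := by
          rw [hwz]
          calc t * z * (t * z) = t * (z * t) * z := by group
            _ = t * (t * z) * z := by rw [hab z hzT t ht]
            _ = (t * t) * (z * z) := by group
            _ = 1 := by rw [ht2, hz2, one_mul]
        have h6 := hw hwT hw2
        rw [h]
        calc g * (w * z) * g⁻¹ = (g * w * g⁻¹) * (g * z * g⁻¹) := by group
          _ = w * z := by rw [h6, hz]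
      · -- `z ∉ T`: then `g t g⁻¹` is still an involution in `T`
        have h1 : g * t * g⁻¹ ∈ T := hgT t ht
        have h2 : g * t * g⁻¹ * (g * t * g⁻¹) = 1 := by
          calc g * t * g⁻¹ * (g * t * g⁻¹) = g * (t * t) * g⁻¹ := by group
            _ = 1 := by rw [ht2]; group
        rcases hinv _ h1 h2 with h' | h' | h' | h'
        · have : t = 1 := by
            apply hconj_inj
            rw [h']; group
          rw [this]; group
        · exact absurd (h' ▸ h1) hzT
        · -- `g t g⁻¹ = w`, `t = w z`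
          have hwT : w ∈ T := h' ▸ h1
          exact absurd (by
            have : z = w⁻¹ * t := by rw [h]; group
            rw [this]
            exact T.mul_mem (T.inv_mem hwT) ht) hzT
        · rw [h', ← h]
  -- general elements
  have main : ∀ k : ℕ, ∀ t ∈ T, t ^ 2 ^ k = 1 → g * t * g⁻¹ = t := by
    intro k
    induction k with
    | zero =>
      intro t _ h
      rw [pow_zero, pow_one] at h
      rw [h]; group
    | succ k ih =>
      intro t ht h
      have h1 : (t * t) ^ 2 ^ k = 1 := by
        rw [← pow_two, ← pow_mul, ← pow_succ']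
        exact h
      have h2 : g * (t * t) * g⁻¹ = t * t := ih _ (T.mul_mem ht ht) h1
      set ω := g * t * g⁻¹ * t⁻¹ with hω
      have hgt : g * t * g⁻¹ ∈ T := hgT t ht
      have hωT : ω ∈ T := T.mul_mem hgt (T.inv_mem ht)
      have hω2 : ω * ω = 1 := by
        have e1 : t⁻¹ * (g * t * g⁻¹) = (g * t * g⁻¹) * t⁻¹ :=
          hab _ (T.inv_mem ht) _ hgt
        calc ω * ω = g * t * g⁻¹ * (t⁻¹ * (g * t * g⁻¹)) * t⁻¹ := by rw [hω]; group
          _ = g * t * g⁻¹ * ((g * t * g⁻¹) * t⁻¹) * t⁻¹ := by rw [e1]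
          _ = (g * (t * t) * g⁻¹) * (t * t)⁻¹ := by group
          _ = 1 := by rw [h2]; group
      have hωfix : g * ω * g⁻¹ = ω := hfix ω hωT hω2
      have hgt' : g * t * g⁻¹ = ω * t := by rw [hω]; group
      have hpow : ∀ i : ℕ, g ^ i * t * (g ^ i)⁻¹ = ω ^ i * t := by
        intro i
        induction i with
        | zero => simp
        | succ i ihi =>
          calc g ^ (i + 1) * t * (g ^ (i + 1))⁻¹ = g * (g ^ i * t * (g ^ i)⁻¹) * g⁻¹ := by
                rw [pow_succ']; group
            _ = g * (ω ^ i * t) * g⁻¹ := by rw [ihi]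
            _ = (g * ω * g⁻¹) ^ i * (g * t * g⁻¹) := by
                rw [conj_pow]; group
            _ = ω ^ i * (ω * t) := by rw [hωfix, hgt']
            _ = ω ^ (i + 1) * t := by rw [pow_succ]; group
      have h3 := hpow (orderOf g)
      rw [pow_orderOf_eq_one, one_mul, inv_one, mul_one] at h3
      have h4 : ω ^ orderOf g = 1 := by
        have : ω ^ orderOf g * t = 1 * t := by rw [one_mul]; exact h3.symm
        exact mul_right_cancel this
      have h5 : orderOf ω ∣ 2 := by
        apply orderOf_dvd_of_pow_eq_one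
        rw [pow_two]; exact hω2
      have h6 : orderOf ω ∣ orderOf g := orderOf_dvd_of_pow_eq_one h4
      have h7 : orderOf ω = 1 := by
        rcases (Nat.dvd_prime Nat.prime_two).1 h5 with h | h
        · exact h
        · exfalso
          rw [h] at h6
          obtain ⟨c, hc⟩ := h6
          omega
      have h8 : ω = 1 := orderOf_eq_one_iff.mp h7
      rw [hgt', h8, one_mul]
  intro t ht
  obtain ⟨k, hk⟩ := hT2 t ht
  exact main k t ht hk

/-- an element fixed by the normalizers of all members of the family containing it is fixed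
by every chain -/
theorem si_chain_fix {X : Type*} [Group X] {𝓕 : Set (Subgroup X)} (y : X)
    (h𝓕 : ∀ T ∈ 𝓕, y ∈ T → ∀ x ∈ Subgroup.normalizer (T : Set X), x⁻¹ * y * x = y)
    {R : Subgroup X} {g : X} (hc : ConjChain 𝓕 R g) : y ∈ R → g⁻¹ * y * g = y := by
  induction hc with
  | nil R =>
    intro _
    group
  | cons R T x g' hT hx hRT _ ih =>
    intro hy
    have h1 : x⁻¹ * y * x = y := h𝓕 T hT (hRT hy) x hx
    have h2 : y ∈ rc R x := by
      rw [← h1]
      exact rc_mem hy
    have h3 := ih h2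
    calc (x * g')⁻¹ * y * (x * g') = g'⁻¹ * (x⁻¹ * y * x) * g' := by group
      _ = y := by rw [h1, h3]

/-- an isolated involution of a Sylow `2`-subgroup is central in it -/
theorem si_isolated_central {X : Type*} [Group X] [Finite X] (S : Sylow 2 X) (z : X)
    (hzS : z ∈ (S : Subgroup X)) (hz : Cfsg.IsIsolatedInvolution z) :
    ∀ s ∈ (S : Subgroup X), s * z = z * s := by
  classical
  haveI : Fact (Nat.Prime 2) := ⟨Nat.prime_two⟩
  haveI : Group.IsNilpotent ↥(S : Subgroup X) := S.isPGroup'.isNilpotent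
  have hNC := Group.normalizerCondition_of_isNilpotent (G := ↥(S : Subgroup X))
  set C : Subgroup ↥(S : Subgroup X) := Subgroup.centralizer {(⟨z, hzS⟩ : ↥(S : Subgroup X))} with hC
  by_contra hcon
  push Not at hcon
  obtain ⟨s, hs, hsz⟩ := hcon
  have hlt : C < ⊤ := by
    rw [lt_top_iff_ne_top]
    intro h
    have h1 : (⟨s, hs⟩ : ↥(S : Subgroup X)) ∈ C := by rw [h]; trivial
    rw [hC, Subgroup.mem_centralizer_singleton_iff] at h1
    apply hsz
    have := congrArg Subtype.val h1
    exact this
  have h2 := hNC C hlt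
  obtain ⟨t, htN, htC⟩ := SetLike.exists_of_lt h2
  apply htC
  rw [hC, Subgroup.mem_centralizer_singleton_iff]
  have hzC : (⟨z, hzS⟩ : ↥(S : Subgroup X)) ∈ C := by
    rw [hC, Subgroup.mem_centralizer_singleton_iff]
  have h3 : t * ⟨z, hzS⟩ * t⁻¹ ∈ C := (Subgroup.mem_normalizer_iff.mp htN _).mp hzC
  rw [hC, Subgroup.mem_centralizer_singleton_iff] at h3
  have h4 : Commute z ((t : X) * z * (t : X)⁻¹) := by
    have := congrArg Subtype.val h3
    simp only [Subgroup.coe_mul, Subgroup.coe_inv] at this
    exact this.symm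
  have h5 := hz.2 (t : X) h4
  apply Subtype.ext
  simp only [Subgroup.coe_mul]
  calc (t : X) * z = ((t : X) * z * (t : X)⁻¹) * t := by group
    _ = z * t := by rw [h5]

end Cfsg.Agent.Lib.Helper9
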