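import Mathlib
import Cfsg.Agent.Lib.Helper9.SI1

set_option autoImplicit false

namespace Cfsg.Agent.Lib.Helper9

/-- automorphism version of `si_abelian_fix`, via the holomorph -/
theorem au_abelian_fix {Y : Type*} [Group Y] (T : Subgroup Y)
    (hab : ∀ a ∈ T, ∀ b ∈ T, a * b = b * a) (hT2 : ∀ t ∈ T, ∃ k : ℕ, t ^ 2 ^ k = 1)
    (γ : MulAut Y) (hγ : Odd (orderOf γ)) (hγT : ∀ t ∈ T, γ t ∈ T)
    (z w : Y) (hz : γ z = z) (hz2 : z * z = 1)
    (hinv : ∀ t ∈ T, t * t = 1 → t = 1 ∨ t = z ∨ t = w ∨ t = w * z) :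
    ∀ t ∈ T, γ t = t := by
  have hconj : ∀ n : Y, (SemidirectProduct.inr γ : Y ⋊[MonoidHom.id (MulAut Y)] MulAut Y) *
      SemidirectProduct.inl n * (SemidirectProduct.inr γ)⁻¹ = SemidirectProduct.inl (γ n) := by
    intro n
    rw [← map_inv]
    exact (SemidirectProduct.inl_aut (φ := MonoidHom.id (MulAut Y)) γ n).symm
  have hinj : Function.Injective
      (SemidirectProduct.inl : Y →* Y ⋊[MonoidHom.id (MulAut Y)] MulAut Y) :=
    SemidirectProduct.inl_injective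
  have key := si_abelian_fix
    (T.map (SemidirectProduct.inl : Y →* Y ⋊[MonoidHom.id (MulAut Y)] MulAut Y))
    ?_ ?_ (SemidirectProduct.inr γ) ?_ ?_ (SemidirectProduct.inl z) (SemidirectProduct.inl w)
    ?_ ?_ ?_
  · intro t ht
    have h1 := key _ ⟨t, ht, rfl⟩
    rw [hconj] at h1
    exact hinj h1
  · rintro _ ⟨a, ha, rfl⟩ _ ⟨b, hb, rfl⟩
    rw [← map_mul, ← map_mul, hab a ha b hb]
  · rintro _ ⟨t, ht, rfl⟩
    obtain ⟨k, hk⟩ := hT2 t ht
    exact ⟨k, by rw [← map_pow, hk, map_one]⟩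
  · rw [orderOf_injective (SemidirectProduct.inr : MulAut Y →* Y ⋊[MonoidHom.id (MulAut Y)] MulAut Y)
      SemidirectProduct.inr_injective γ]
    exact hγ
  · rintro _ ⟨t, ht, rfl⟩
    rw [hconj]
    exact ⟨γ t, hγT t ht, rfl⟩
  · rw [hconj, hz]
  · rw [← map_mul, hz2, map_one]
  · rintro _ ⟨t, ht, rfl⟩ h2
    have h2' : t * t = 1 := by
      apply hinj
      rw [map_mul, h2, map_one]
    rcases hinv t ht h2' with h | h | h | h
    · left; rw [h, map_one]
    · right; left; rw [h]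
    · right; right; left; rw [h]
    · right; right; right; rw [h, map_mul]

/-- a criterion for the automorphism group of a `2`-group to be a `2`-group -/
theorem au_isPGroup {Y : Type*} [Group Y] [Finite Y] (hY : IsPGroup 2 Y) (Y₀ : Subgroup Y)
    (hchar : ∀ β : MulAut Y, ∀ y ∈ Y₀, β y ∈ Y₀)
    (hab : ∀ a ∈ Y₀, ∀ b ∈ Y₀, a * b = b * a)
    (hidx : ∀ a b : Y, a ∉ Y₀ → b ∉ Y₀ → a⁻¹ * b ∈ Y₀)
    (z w : Y) (hz : ∀ β : MulAut Y, β z = z) (hz2 : z * z = 1)
    (hinv : ∀ t ∈ Y₀, t * t = 1 → t = 1 ∨ t = z ∨ t = w ∨ t = w * z) :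
    IsPGroup 2 (MulAut Y) := by
  intro β
  obtain ⟨k, m, hm, hkm⟩ := Nat.exists_eq_two_pow_mul_odd (orderOf_pos β).ne'
  refine ⟨k, ?_⟩
  set γ : MulAut Y := β ^ 2 ^ k with hγdef
  have hγ : Odd (orderOf γ) := by
    rw [hγdef, orderOf_pow' β (by positivity), hkm]
    have h1 : Nat.gcd (2 ^ k * m) (2 ^ k) = 2 ^ k := Nat.gcd_eq_right (dvd_mul_right _ _)
    rw [h1, Nat.mul_div_cancel_left _ (by positivity)]
    exact hm
  have h0 : ∀ t ∈ Y₀, γ t = t :=
    au_abelian_fix Y₀ hab (fun t _ => hY t) γ hγ (hchar γ) z w (hz γ) hz2 hinv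
  apply MulEquiv.ext
  intro x
  show γ x = x
  by_cases hx : x ∈ Y₀
  · exact h0 x hx
  · have hγx : γ x ∉ Y₀ := by
      intro h
      apply hx
      have h1 := hchar γ⁻¹ _ h
      rwa [MulAut.inv_apply_self] at h1
    have ha : x⁻¹ * γ x ∈ Y₀ := hidx x (γ x) hx hγx
    set a := x⁻¹ * γ x with hadef
    have hγa : γ a = a := h0 a ha
    have hγx' : γ x = x * a := by rw [hadef]; group
    have hpow : ∀ i : ℕ, (γ ^ i) x = x * a ^ i := by
      intro i
      induction i with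
      | zero => simp
      | succ i ih =>
        rw [pow_succ', MulAut.mul_apply, ih, map_mul, map_pow, hγa, hγx', pow_succ']
        group
    have h1 := hpow (orderOf γ)
    rw [pow_orderOf_eq_one, MulAut.one_apply] at h1
    have h2 : a ^ orderOf γ = 1 := by
      have : x * a ^ orderOf γ = x * 1 := by rw [mul_one]; exact h1.symm
      exact mul_left_cancel this
    obtain ⟨j, hj⟩ := hY a
    have h3 : orderOf a ∣ orderOf γ := orderOf_dvd_of_pow_eq_one h2
    have h4 : orderOf a ∣ 2 ^ j := orderOf_dvd_of_pow_eq_one hj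
    have h5 : orderOf a = 1 := by
      obtain ⟨i, -, hi⟩ := (Nat.dvd_prime_pow Nat.prime_two).1 h4
      rcases Nat.eq_zero_or_pos i with rfl | hpos
      · rw [hi, pow_zero]
      · exfalso
        rw [hi] at h3
        have h6 : 2 ∣ orderOf γ := dvd_trans (dvd_pow_self 2 hpos.ne') h3
        obtain ⟨c, hc⟩ := hγ
        omega
    have h6 : a = 1 := orderOf_eq_one_iff.mp h5
    rw [hγx', h6, mul_one]

end Cfsg.Agent.Lib.Helper9
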