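import Mathlib
import Cfsg.Agent.Lib.Helper9.Wr3

set_option autoImplicit false

namespace Cfsg.Agent.Lib.Helper9

namespace WD

variable {S : Type*} [Group S] (D : WD S)

theorem si_comm_B_A (i j k l : ZMod D.N) (h : D.B k l * D.A i j = D.A i j * D.B k l) : i = j := by
  rw [D.B_mul_A, D.A_mul_B] at h
  have := (D.B_inj h).1
  linear_combination -this

theorem si_U_comm (a b : S) (ha : a ∈ D.U) (hb : b ∈ D.U) : a * b = b * a := by
  obtain ⟨i, j, rfl⟩ := ha
  obtain ⟨k, l, rfl⟩ := hb
  rw [D.A_mul_A, D.A_mul_A]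
  congr 1 <;> ring

theorem si_U_normal : D.U.Normal := Subgroup.normal_of_index_eq_two D.index_U

theorem si_center_le_U : Subgroup.center S ≤ D.U := by
  intro g hg
  obtain ⟨k, rfl⟩ := (D.mem_center_iff g).mp hg
  exact D.A_mem_U k k

/-- involutions of the base group -/
theorem si_invol_U (g : S) (hg : g ∈ D.U) (h2 : g * g = 1) :
    g = 1 ∨ g = D.A D.u D.u ∨ g = D.A D.u 0 ∨ g = D.A D.u 0 * D.A D.u D.u := by
  obtain ⟨i, j, rfl⟩ := hg
  rw [D.A_mul_A] at h2
  obtain ⟨hi, hj⟩ := D.A_eq_one _ _ h2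
  have hi' : 2 * i = 0 := by linear_combination hi
  have hj' : 2 * j = 0 := by linear_combination hj
  rcases D.two_mul_eq_zero i hi' with rfl | rfl <;> rcases D.two_mul_eq_zero j hj' with rfl | rfl
  · left; exact D.A_zero
  · right; right; right
    rw [D.A_mul_A]
    congr 1
    · have := D.two_u
      linear_combination -this
    · ring
  · right; right; left; rfl
  · right; left; rfl

/-- involutions of the centre -/
theorem si_invol_center (g : S) (hg : g ∈ Subgroup.center S) (h2 : g * g = 1) :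
    g = 1 ∨ g = D.A D.u D.u := by
  obtain ⟨k, rfl⟩ := (D.mem_center_iff g).mp hg
  rw [D.A_mul_A] at h2
  obtain ⟨hi, -⟩ := D.A_eq_one _ _ h2
  have hi' : 2 * k = 0 := by linear_combination hi
  rcases D.two_mul_eq_zero k hi' with rfl | rfl
  · left; exact D.A_zero
  · right; rfl

theorem si_zz_sq : D.A D.u D.u * D.A D.u D.u = 1 := by
  rw [D.A_mul_A]
  have : D.u + D.u = 0 := by
    have := D.two_u
    linear_combination this
  rw [this, D.A_zero]

theorem si_zz_ne_one : D.A D.u D.u ≠ 1 := by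
  intro h
  exact D.u_ne_zero (D.A_eq_one _ _ h).1

theorem si_zz_mem_center : D.A D.u D.u ∈ Subgroup.center S :=
  (D.mem_center_iff _).mpr ⟨D.u, rfl⟩

/-- an element of the base group commuting with an element outside is central -/
theorem si_mem_center_of_comm (a s : S) (ha : a ∈ D.U) (hs : s ∉ D.U) (h : s * a = a * s) :
    a ∈ Subgroup.center S := by
  obtain ⟨i, j, rfl⟩ := ha
  rcases D.cases s with ⟨k, l, rfl⟩ | ⟨k, l, rfl⟩
  · exact absurd (D.A_mem_U k l) hs
  · have := D.si_comm_B_A i j k l h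
    subst this
    exact (D.mem_center_iff _).mpr ⟨i, rfl⟩

theorem si_mul_mem_U (s t : S) (hs : s ∉ D.U) (ht : t ∉ D.U) : s * t ∈ D.U := by
  rw [Subgroup.mul_mem_iff_of_index_two D.index_U]
  exact iff_of_false hs ht

/-- the base group is the only abelian subgroup of its order -/
theorem si_abelian_eq_U [Finite S] (B : Subgroup S) (hab : ∀ a ∈ B, ∀ b ∈ B, a * b = b * a)
    (hcard : Nat.card B = 2 ^ (2 * D.n)) : B = D.U := by
  have hle : B ≤ D.U := by
    by_contra hcon
    obtain ⟨b, hbB, hbU⟩ := SetLike.not_le_iff_exists.mp hcon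
    have h1 : B ⊓ D.U ≤ Subgroup.center S := by
      intro a ha
      exact D.si_mem_center_of_comm a b ha.2 hbU (hab b hbB a ha.1)
    haveI := D.si_U_normal
    have h2 : D.U.relIndex B ∣ 2 := by
      rw [← D.index_U]
      exact Subgroup.relIndex_dvd_index_of_normal D.U B
    have h3 : Nat.card (D.U.subgroupOf B) * D.U.relIndex B = Nat.card B :=
      Subgroup.card_mul_index (D.U.subgroupOf B)
    have h4 : Nat.card (D.U.subgroupOf B) ≤ 2 ^ D.n := by
      rw [← D.card_center]
      have e : Nat.card (D.U.subgroupOf B) = Nat.card ↥(B ⊓ D.U) := by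
        rw [inf_comm, ← Subgroup.inf_subgroupOf_right]
        exact Nat.card_congr (Subgroup.subgroupOfEquivOfLe inf_le_right).toEquiv
      rw [e]
      exact Subgroup.card_le_of_le h1
    have h5 : D.U.relIndex B ≤ 2 := Nat.le_of_dvd (by norm_num) h2
    have h6 : Nat.card B ≤ 2 ^ D.n * 2 := by
      rw [← h3]
      exact Nat.mul_le_mul h4 h5
    rw [hcard] at h6
    have hn := D.hn
    have h7 : 2 ^ D.n * 2 = 2 ^ (D.n + 1) := by rw [pow_succ]
    rw [h7] at h6
    have h8 : 2 * D.n ≤ D.n + 1 := (Nat.pow_le_pow_iff_right (by norm_num)).mp h6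
    omega
  apply Subgroup.eq_of_le_of_card_ge hle
  rw [hcard, D.card_U]

end WD

end Cfsg.Agent.Lib.Helper9
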