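import Mathlib
import Cfsg.Agent.Lib.Helper9.AU1
import Cfsg.Agent.Lib.Helper9.SI2
import Cfsg.Agent.Lib.Helper9.WF4

set_option autoImplicit false

namespace Cfsg.Agent.Lib.Helper9

namespace WD

variable {S : Type*} [Group S] (D : WD S) (X : Subgroup S)

theorem au_center_le (hC : Subgroup.centralizer (X : Set S) ≤ X) : Subgroup.center S ≤ X :=
  (Subgroup.center_le_centralizer _).trans hC

theorem au_eq_U_of_le (hC : Subgroup.centralizer (X : Set S) ≤ X) (h : X ≤ D.U) : X = D.U := by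
  apply le_antisymm h
  refine le_trans ?_ hC
  intro g hg
  rw [Subgroup.mem_centralizer_iff]
  intro x hx
  exact D.si_U_comm x g (h hx) hg

theorem au_AA_mem (hZ : Subgroup.center S ≤ X) (k : ZMod D.N) : D.A k k ∈ X :=
  hZ ((D.mem_center_iff _).mpr ⟨k, rfl⟩)

theorem au_A_mem_iff (hZ : Subgroup.center S ≤ X) (i j : ZMod D.N) :
    D.A i j ∈ X ↔ D.A (i - j) 0 ∈ X := by
  have e : D.A i j = D.A (i - j) 0 * D.A j j := by
    rw [D.A_mul_A]; congr 1 <;> ring
  constructor
  · intro h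
    have e2 : D.A (i - j) 0 = D.A i j * (D.A j j)⁻¹ := by rw [e]; group
    rw [e2]
    exact X.mul_mem h (X.inv_mem (D.au_AA_mem X hZ j))
  · intro h
    rw [e]
    exact X.mul_mem h (D.au_AA_mem X hZ j)

theorem au_P_add {d e : ZMod D.N} (hd : D.A d 0 ∈ X) (he : D.A e 0 ∈ X) : D.A (d + e) 0 ∈ X := by
  have : D.A (d + e) 0 = D.A d 0 * D.A e 0 := by rw [D.A_mul_A]; congr 1; ring
  rw [this]; exact X.mul_mem hd he

theorem au_P_neg {d : ZMod D.N} (hd : D.A d 0 ∈ X) : D.A (-d) 0 ∈ X := by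
  have : D.A (-d) 0 = (D.A d 0)⁻¹ := by rw [D.A_inv]; congr 1; ring
  rw [this]; exact X.inv_mem hd

theorem au_B_mem_iff {a b : ZMod D.N} (hs : D.B a b ∈ X) (p q : ZMod D.N) :
    D.B p q ∈ X ↔ D.A (p - a) (q - b) ∈ X := by
  have e : D.A (p - a) (q - b) = D.B p q * (D.B a b)⁻¹ := by
    rw [D.B_inv, D.B_mul_B]; congr 1 <;> ring
  constructor
  · intro h
    rw [e]; exact X.mul_mem h (X.inv_mem hs)
  · intro h
    have e2 : D.B p q = D.A (p - a) (q - b) * D.B a b := by rw [e]; group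
    rw [e2]; exact X.mul_mem h hs

include D in
theorem au_isPGroup_S [Finite S] : IsPGroup 2 S := by
  haveI : Fact (Nat.Prime 2) := ⟨Nat.prime_two⟩
  exact IsPGroup.of_card D.card

/-- the central involution as an element of `X` -/
noncomputable def auz (hZ : Subgroup.center S ≤ X) : ↥X := ⟨D.A D.u D.u, hZ D.si_zz_mem_center⟩

theorem auz_sq (hZ : Subgroup.center S ≤ X) : D.auz X hZ * D.auz X hZ = 1 :=
  Subtype.ext D.si_zz_sq

theorem auz_ne_one (hZ : Subgroup.center S ≤ X) : D.auz X hZ ≠ 1 := by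
  intro h
  exact D.si_zz_ne_one (congrArg Subtype.val h)

/-- the second involution, if present -/
noncomputable def auw (hZ : Subgroup.center S ≤ X) : ↥X := by
  classical
  exact if h : D.A D.u 0 ∈ X then ⟨D.A D.u 0, h⟩ else D.auz X hZ

theorem au_hinv_U (hZ : Subgroup.center S ≤ X) (t : ↥X) (htU : (t : S) ∈ D.U) (h2 : t * t = 1) :
    t = 1 ∨ t = D.auz X hZ ∨ t = D.auw X hZ ∨ t = D.auw X hZ * D.auz X hZ := by
  classical
  have h2' : (t : S) * (t : S) = 1 := by
    have := congrArg Subtype.val h2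
    simpa using this
  rcases D.si_invol_U (t : S) htU h2' with h | h | h | h
  · left; exact Subtype.ext h
  · right; left; exact Subtype.ext h
  · right; right; left
    have hmem : D.A D.u 0 ∈ X := h ▸ t.2
    apply Subtype.ext
    unfold auw
    rw [dif_pos hmem]
    exact h
  · right; right; right
    have hmem : D.A D.u 0 ∈ X := by
      have e : D.A D.u 0 = (t : S) * (D.A D.u D.u)⁻¹ := by rw [h]; group
      rw [e]
      exact X.mul_mem t.2 (X.inv_mem (hZ D.si_zz_mem_center))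
    apply Subtype.ext
    unfold auw
    rw [dif_pos hmem]
    exact h

/-- the centre of a non-abelian `X` not inside the base group -/
theorem au_center_X (hZ : Subgroup.center S ≤ X) {a b : ZMod D.N} (hs : D.B a b ∈ X)
    {d₀ : ZMod D.N} (hd₀ : d₀ ≠ 0) (hP : D.A d₀ 0 ∈ X) (y : ↥X)
    (hy : y ∈ Subgroup.center ↥X) : (y : S) ∈ Subgroup.center S := by
  rw [Subgroup.mem_center_iff] at hy
  rcases D.cases (y : S) with ⟨i, j, hij⟩ | ⟨p, q, hpq⟩
  · apply D.si_mem_center_of_comm (y : S) (D.B a b) (hij ▸ D.A_mem_U i j) (D.B_notMem_U a b)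
    have := congrArg Subtype.val (hy ⟨D.B a b, hs⟩)
    simpa using this
  · exfalso
    have h1 := congrArg Subtype.val (hy ⟨D.A d₀ 0, hP⟩)
    simp only [Subgroup.coe_mul] at h1
    rw [hpq, D.A_mul_B, D.B_mul_A] at h1
    have h2 := (D.B_inj h1).1
    apply hd₀
    linear_combination h2

theorem au_aut_fix_z [Finite S] (hZ : Subgroup.center S ≤ X) {a b : ZMod D.N} (hs : D.B a b ∈ X)
    {d₀ : ZMod D.N} (hd₀ : d₀ ≠ 0) (hP : D.A d₀ 0 ∈ X) (β : MulAut ↥X) :
    β (D.auz X hZ) = D.auz X hZ := by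
  have hzc : D.auz X hZ ∈ Subgroup.center ↥X := by
    rw [Subgroup.mem_center_iff]
    intro g
    apply Subtype.ext
    simp only [Subgroup.coe_mul]
    exact Subgroup.mem_center_iff.mp D.si_zz_mem_center (g : S)
  have hβc : β (D.auz X hZ) ∈ Subgroup.center ↥X := by
    rw [Subgroup.mem_center_iff]
    intro g
    have h1 := Subgroup.mem_center_iff.mp hzc (β.symm g)
    have h2 := congrArg β h1
    rw [map_mul, map_mul, MulEquiv.apply_symm_apply] at h2
    exact h2
  have h3 := D.au_center_X X hZ hs hd₀ hP _ hβc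
  have h4 : ((β (D.auz X hZ) : ↥X) : S) * ((β (D.auz X hZ) : ↥X) : S) = 1 := by
    have : β (D.auz X hZ) * β (D.auz X hZ) = 1 := by
      rw [← map_mul, D.auz_sq, map_one]
    have := congrArg Subtype.val this
    simpa using this
  rcases D.si_invol_center _ h3 h4 with h | h
  · exfalso
    have : β (D.auz X hZ) = 1 := Subtype.ext h
    rw [← map_one β] at this
    exact D.auz_ne_one X hZ (β.injective this)
  · exact Subtype.ext h

/-- if the base part is characteristic then all automorphisms have `2`-power order -/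
theorem au_pgroup_of_char [Finite S] (hZ : Subgroup.center S ≤ X) {a b : ZMod D.N}
    (hs : D.B a b ∈ X) {d₀ : ZMod D.N} (hd₀ : d₀ ≠ 0) (hP : D.A d₀ 0 ∈ X)
    (hchar : ∀ β : MulAut ↥X, ∀ y : ↥X, (y : S) ∈ D.U → ((β y : ↥X) : S) ∈ D.U) :
    IsPGroup 2 (MulAut ↥X) := by
  apply au_isPGroup (D.au_isPGroup_S.to_subgroup X) (D.U.subgroupOf X)
    (fun β y hy => Subgroup.mem_subgroupOf.mpr (hchar β y (Subgroup.mem_subgroupOf.mp hy)))
    ?_ ?_ (D.auz X hZ) (D.auw X hZ) (fun β => D.au_aut_fix_z X hZ hs hd₀ hP β) (D.auz_sq X hZ)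
    (fun t ht h2 => D.au_hinv_U X hZ t (Subgroup.mem_subgroupOf.mp ht) h2)
  · intro x hx y hy
    apply Subtype.ext
    simp only [Subgroup.coe_mul]
    exact D.si_U_comm _ _ (Subgroup.mem_subgroupOf.mp hx) (Subgroup.mem_subgroupOf.mp hy)
  · intro x y hx hy
    rw [Subgroup.mem_subgroupOf] at hx hy ⊢
    simp only [Subgroup.coe_mul, Subgroup.coe_inv]
    apply D.si_mul_mem_U _ _ _ hy
    intro h
    exact hx (by simpa using D.U.inv_mem h)

/-- case `k ≥ 2` -/
theorem au_pgroup_beta [Finite S] (hZ : Subgroup.center S ≤ X) {a b : ZMod D.N}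
    (hs : D.B a b ∈ X) {d₀ : ZMod D.N} (hd₀ : 2 * d₀ ≠ 0) (hP : D.A d₀ 0 ∈ X) :
    IsPGroup 2 (MulAut ↥X) := by
  have hd₀' : d₀ ≠ 0 := by
    rintro rfl
    exact hd₀ (by ring)
  -- characterization of the base part
  have hiff : ∀ y : ↥X, (y : S) ∈ D.U ↔ ∀ x : ↥X, y * (x * x) = (x * x) * y := by
    intro y
    constructor
    · intro hy x
      apply Subtype.ext
      simp only [Subgroup.coe_mul]
      apply D.si_U_comm _ _ hy
      rcases D.cases (x : S) with ⟨i, j, h⟩ | ⟨p, q, h⟩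
      · rw [h]; exact D.U.mul_mem (D.A_mem_U _ _) (D.A_mem_U _ _)
      · rw [h, D.B_mul_B]; exact D.A_mem_U _ _
    · intro h
      by_contra hy
      rcases D.cases (y : S) with ⟨i, j, hij⟩ | ⟨p, q, hpq⟩
      · exact hy (hij ▸ D.A_mem_U i j)
      · have h1 := congrArg Subtype.val (h ⟨D.A d₀ 0, hP⟩)
        simp only [Subgroup.coe_mul] at h1
        rw [hpq, D.A_mul_A, D.B_mul_A, D.A_mul_B] at h1
        have h2 := (D.B_inj h1).1
        apply hd₀
        linear_combination -h2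
  apply D.au_pgroup_of_char X hZ hs hd₀' hP
  intro β y hy
  rw [hiff] at hy ⊢
  intro x
  have h1 := hy (β.symm x)
  have h2 := congrArg β h1
  simpa only [map_mul, MulEquiv.apply_symm_apply] using h2

end WD

end Cfsg.Agent.Lib.Helper9
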