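import Mathlib
import Cfsg.Agent.Lib.Helper9.AU2

set_option autoImplicit false

namespace Cfsg.Agent.Lib.Helper9

namespace WD

variable {S : Type*} [Group S] (D : WD S) (X : Subgroup S)

theorem au_u_mul (m : ZMod D.N) : D.u * m = 0 ∨ D.u * m = D.u := by
  apply D.two_mul_eq_zero
  linear_combination m * D.two_u

theorem au_even_of_u_mul (m : ZMod D.N) (h : D.u * m = 0) : ∃ m' : ZMod D.N, m = 2 * m' := by
  have h1 : ((2 ^ (D.n - 1) * m.val : ℕ) : ZMod D.N) = 0 := by
    have h' := h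
    unfold u at h'
    push_cast at h' ⊢
    rw [ZMod.natCast_zmod_val]
    exact h'
  rw [ZMod.natCast_eq_zero_iff] at h1
  have hN := D.N_eq
  have h2 : 2 ∣ m.val := by
    obtain ⟨c, hc⟩ := h1
    refine ⟨c, ?_⟩
    have h3 : 2 ^ (D.n - 1) * m.val = 2 ^ (D.n - 1) * (2 * c) := by
      calc 2 ^ (D.n - 1) * m.val = D.N * c := hc
        _ = (2 * 2 ^ (D.n - 1)) * c := by rw [← hN]
        _ = 2 ^ (D.n - 1) * (2 * c) := by ring
    exact Nat.eq_of_mul_eq_mul_left (by positivity) h3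
  obtain ⟨c, hc⟩ := h2
  refine ⟨(c : ZMod D.N), ?_⟩
  have h4 : m = ((m.val : ℕ) : ZMod D.N) := (ZMod.natCast_zmod_val m).symm
  rw [h4, hc]
  push_cast
  ring

theorem au_two_le_n : 2 ≤ D.n := D.hn

theorem au_pow_half (x : S) : x ^ 2 ^ (D.n - 1) = (x * x) ^ 2 ^ (D.n - 2) := by
  have h : D.n - 1 = (D.n - 2) + 1 := by have := D.hn; omega
  rw [h, pow_succ', pow_mul, pow_two]

/-- case `k = 0` -/
theorem au_pgroup_alpha [Finite S] (hZ : Subgroup.center S ≤ X) {a b : ZMod D.N}
    (hs : D.B a b ∈ X) (h0 : ∀ d, D.A d 0 ∈ X → d = 0) : IsPGroup 2 (MulAut ↥X) := by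
  classical
  have hXU : ∀ x ∈ X, x ∈ D.U → x ∈ Subgroup.center S := by
    intro x hx hxU
    obtain ⟨i, j, rfl⟩ := hxU
    have h1 := h0 _ ((D.au_A_mem_iff X hZ i j).mp hx)
    have : i = j := by linear_combination h1
    subst this
    exact (D.mem_center_iff _).mpr ⟨i, rfl⟩
  have hcomm : ∀ x ∈ X, ∀ y ∈ X, x * y = y * x := by
    intro x hx y hy
    by_cases hxU : x ∈ D.U
    · exact (Subgroup.mem_center_iff.mp (hXU x hx hxU) y).symm
    by_cases hyU : y ∈ D.U
    · exact Subgroup.mem_center_iff.mp (hXU y hy hyU) x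
    have hc : y * x⁻¹ ∈ Subgroup.center S := by
      apply hXU _ (X.mul_mem hy (X.inv_mem hx))
      apply D.si_mul_mem_U _ _ hyU
      intro h
      exact hxU (by simpa using D.U.inv_mem h)
    have h1 := Subgroup.mem_center_iff.mp hc x
    calc x * y = x * ((y * x⁻¹) * x) := by group
      _ = (x * (y * x⁻¹)) * x := by group
      _ = ((y * x⁻¹) * x) * x := by rw [h1]
      _ = y * x := by group
  -- squares are central
  have hsq : ∀ x ∈ X, x * x ∈ Subgroup.center S := by
    intro x hx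
    by_cases hxU : x ∈ D.U
    · exact Subgroup.mul_mem _ (hXU x hx hxU) (hXU x hx hxU)
    · apply hXU _ (X.mul_mem hx hx)
      exact D.si_mul_mem_U _ _ hxU hxU
  have hpowc : ∀ x : ↥X, ((x ^ 2 ^ (D.n - 1) : ↥X) : S) ∈ Subgroup.center S := by
    intro x
    rw [Subgroup.coe_pow, D.au_pow_half]
    exact Subgroup.pow_mem _ (hsq _ x.2) _
  have hzpow : D.auz X hZ = (⟨D.A 1 1, D.au_AA_mem X hZ 1⟩ : ↥X) ^ 2 ^ (D.n - 1) := by
    apply Subtype.ext
    rw [Subgroup.coe_pow]
    show D.A D.u D.u = (D.A 1 1) ^ 2 ^ (D.n - 1)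
    rw [D.A_pow]
    unfold u
    congr 1 <;> ring
  have hz : ∀ β : MulAut ↥X, β (D.auz X hZ) = D.auz X hZ := by
    intro β
    have h1 : β (D.auz X hZ) = (β ⟨D.A 1 1, D.au_AA_mem X hZ 1⟩) ^ 2 ^ (D.n - 1) := by
      rw [hzpow, map_pow]
    have h3 : ((β (D.auz X hZ) : ↥X) : S) ∈ Subgroup.center S := by
      rw [h1]; exact hpowc _
    have h4 : ((β (D.auz X hZ) : ↥X) : S) * ((β (D.auz X hZ) : ↥X) : S) = 1 := by
      have : β (D.auz X hZ) * β (D.auz X hZ) = 1 := by
        rw [← map_mul, D.auz_sq, map_one]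
      have := congrArg Subtype.val this
      simpa using this
    rcases D.si_invol_center _ h3 h4 with h | h
    · exfalso
      have : β (D.auz X hZ) = 1 := Subtype.ext h
      rw [← map_one β] at this
      exact D.auz_ne_one X hZ (β.injective this)
    · exact Subtype.ext h
  -- involutions
  have hA : ∀ t : ↥X, (t : S) ∈ D.U → t * t = 1 → t = 1 ∨ t = D.auz X hZ := by
    intro t htU h2
    have h2' : (t : S) * (t : S) = 1 := by
      have := congrArg Subtype.val h2
      simpa using this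
    rcases D.si_invol_center _ (hXU _ t.2 htU) h2' with h | h
    · left; exact Subtype.ext h
    · right; exact Subtype.ext h
  obtain ⟨w, hw⟩ : ∃ w : ↥X, ∀ t : ↥X, t * t = 1 →
      t = 1 ∨ t = D.auz X hZ ∨ t = w ∨ t = w * D.auz X hZ := by
    by_cases hex : ∃ w : ↥X, w * w = 1 ∧ (w : S) ∉ D.U
    · obtain ⟨w, hw2, hwU⟩ := hex
      refine ⟨w, fun t ht2 => ?_⟩
      by_cases htU : (t : S) ∈ D.U
      · rcases hA t htU ht2 with h | h
        · left; exact h
        · right; left; exact h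
      · have h1 : ((w * t : ↥X) : S) ∈ D.U := by
          rw [Subgroup.coe_mul]
          exact D.si_mul_mem_U _ _ hwU htU
        have hwt : w * t = t * w := Subtype.ext (hcomm _ w.2 _ t.2)
        have h2 : (w * t) * (w * t) = 1 := by
          calc (w * t) * (w * t) = w * (t * w) * t := by group
            _ = w * (w * t) * t := by rw [hwt]
            _ = (w * w) * (t * t) := by group
            _ = 1 := by rw [hw2, ht2, one_mul]
        have hwinv : w⁻¹ = w := inv_eq_of_mul_eq_one_left hw2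
        rcases hA _ h1 h2 with h | h
        · right; right; left
          calc t = w⁻¹ * (w * t) := by group
            _ = w := by rw [h, mul_one, hwinv]
        · right; right; right
          calc t = w⁻¹ * (w * t) := by group
            _ = w * D.auz X hZ := by rw [h, hwinv]
    · refine ⟨D.auz X hZ, fun t ht2 => ?_⟩
      by_cases htU : (t : S) ∈ D.U
      · rcases hA t htU ht2 with h | h
        · left; exact h
        · right; left; exact h
      · exact absurd ⟨t, ht2, htU⟩ hex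
  apply au_isPGroup (D.au_isPGroup_S.to_subgroup X) ⊤ (fun _ _ _ => Subgroup.mem_top _)
    (fun x _ y _ => Subtype.ext (hcomm _ x.2 _ y.2))
    (fun x _ hx _ => absurd (Subgroup.mem_top x) hx)
    (D.auz X hZ) w hz (D.auz_sq X hZ) (fun t _ h2 => hw t h2)

/-- case `k = 1` with an element of order `2 ^ (n + 1)` -/
theorem au_pgroup_gamma_odd [Finite S] (hZ : Subgroup.center S ≤ X) {a b : ZMod D.N}
    (hs : D.B a b ∈ X) (hodd : ∀ m, a + b ≠ 2 * m) (hPu : D.A D.u 0 ∈ X)
    (hP : ∀ d, D.A d 0 ∈ X → d = 0 ∨ d = D.u) : IsPGroup 2 (MulAut ↥X) := by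
  have hiff : ∀ y : ↥X, (y : S) ∈ D.U ↔ y ^ 2 ^ D.n = 1 := by
    intro y
    constructor
    · rintro ⟨i, j, hij⟩
      apply Subtype.ext
      rw [Subgroup.coe_pow, hij, D.A_pow]
      have : ((2 ^ D.n : ℕ) : ZMod D.N) = 0 := D.natCast_N
      rw [this, zero_mul, zero_mul, D.A_zero]
      rfl
    · intro h
      by_contra hy
      rcases D.cases (y : S) with ⟨i, j, hij⟩ | ⟨p, q, hpq⟩
      · exact hy (hij ▸ D.A_mem_U i j)
      · have hmem : D.B p q ∈ X := hpq ▸ y.2
        have h1 := (D.au_B_mem_iff X hs p q).mp hmem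
        have h2 := hP _ ((D.au_A_mem_iff X hZ _ _).mp h1)
        have h3 : (y : S) ^ 2 ^ D.n = 1 := by
          have := congrArg Subtype.val h
          simpa using this
        have hn1 : D.n = (D.n - 1) + 1 := by have := D.hn; omega
        rw [hpq, hn1, pow_succ', pow_mul, pow_two, D.B_mul_B, D.A_pow] at h3
        have h4 := (D.A_eq_one _ _ h3).1
        have h5 : D.u * (p + q) = 0 := by
          unfold u
          exact h4
        obtain ⟨m', hm'⟩ := D.au_even_of_u_mul _ h5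
        rcases h2 with h2 | h2
        · apply hodd (m' - (q - b))
          linear_combination hm' - h2
        · apply hodd (m' - (q - b) - D.v)
          linear_combination hm' - h2 + D.two_v
  apply D.au_pgroup_of_char X hZ hs D.u_ne_zero hPu
  intro β y hy
  rw [hiff] at hy ⊢
  rw [← map_pow, hy, map_one]

/-- the structure of a centric subgroup with non-`2`-group automorphism group -/
theorem au_struct [Finite S] (hC : Subgroup.centralizer (X : Set S) ≤ X)
    (hA : ¬ IsPGroup 2 (MulAut ↥X)) (hXU : ¬ X ≤ D.U) :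
    ∃ a b m : ZMod D.N, D.B a b ∈ X ∧ a + b = 2 * m ∧ D.A D.u 0 ∈ X ∧
      ∀ d, D.A d 0 ∈ X → d = 0 ∨ d = D.u := by
  have hZ := WD.au_center_le X hC
  obtain ⟨s, hsX, hsU⟩ := SetLike.not_le_iff_exists.mp hXU
  rcases D.cases s with ⟨i, j, rfl⟩ | ⟨a, b, rfl⟩
  · exact absurd (D.A_mem_U i j) hsU
  by_cases h0 : ∀ d, D.A d 0 ∈ X → d = 0
  · exact absurd (D.au_pgroup_alpha X hZ hsX h0) hA
  push Not at h0
  obtain ⟨d₀, hd₀X, hd₀⟩ := h0
  by_cases hβ : ∃ d, D.A d 0 ∈ X ∧ 2 * d ≠ 0
  · obtain ⟨d, hdX, hd⟩ := hβ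
    exact absurd (D.au_pgroup_beta X hZ hsX hd hdX) hA
  push Not at hβ
  have hP : ∀ d, D.A d 0 ∈ X → d = 0 ∨ d = D.u :=
    fun d hd => D.two_mul_eq_zero d (hβ d hd)
  have hPu : D.A D.u 0 ∈ X := by
    rcases hP d₀ hd₀X with h | h
    · exact absurd h hd₀
    · rwa [h] at hd₀X
  by_cases hev : ∃ m, a + b = 2 * m
  · obtain ⟨m, hm⟩ := hev
    exact ⟨a, b, m, hsX, hm, hPu, hP⟩
  · push Not at hev
    exact absurd (D.au_pgroup_gamma_odd X hZ hsX hev hPu hP) hA

end WD

end Cfsg.Agent.Lib.Helper9
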