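import Mathlib
import Cfsg.Agent.Lib.Helper9.AU3

set_option autoImplicit false

namespace Cfsg.Agent.Lib.Helper9

open Cfsg.Agent.Lib.helper14

namespace WD

variable {S : Type*} [Group S] (D : WD S) (X : Subgroup S)

theorem au_A_desc (hZ : Subgroup.center S ≤ X) (hPu : D.A D.u 0 ∈ X)
    (hP : ∀ d, D.A d 0 ∈ X → d = 0 ∨ d = D.u) (i j : ZMod D.N) :
    D.A i j ∈ X ↔ (i - j = 0 ∨ i - j = D.u) := by
  rw [D.au_A_mem_iff X hZ]
  constructor
  · exact hP _
  · rintro (h | h)
    · rw [h, D.A_zero]; exact X.one_mem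
    · rw [h]; exact hPu

theorem au_B_desc (hZ : Subgroup.center S ≤ X) {a b : ZMod D.N} (hs : D.B a b ∈ X)
    (hPu : D.A D.u 0 ∈ X) (hP : ∀ d, D.A d 0 ∈ X → d = 0 ∨ d = D.u) (p q : ZMod D.N) :
    D.B p q ∈ X ↔ ((p - a) - (q - b) = 0 ∨ (p - a) - (q - b) = D.u) := by
  rw [D.au_B_mem_iff X hs, D.au_A_desc X hZ hPu hP]

theorem au_two_mul_of (e : ZMod D.N) (h : e = 0 ∨ e = D.u) : 2 * e = 0 := by
  rcases h with rfl | rfl
  · ring
  · exact D.two_u

/-- `|N_S(X) : X| = 2` -/
theorem au_relIndex [Finite S] (hZ : Subgroup.center S ≤ X) {a b : ZMod D.N}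
    (hs : D.B a b ∈ X) (hPu : D.A D.u 0 ∈ X) (hP : ∀ d, D.A d 0 ∈ X → d = 0 ∨ d = D.u) :
    X.relIndex (Subgroup.normalizer (X : Set S)) = 2 := by
  have hg0 : D.A D.v 0 ∈ Subgroup.normalizer (X : Set S) := by
    apply Subgroup.mem_normalizer_fintype
    intro x hx
    change x ∈ X at hx
    change D.A D.v 0 * x * (D.A D.v 0)⁻¹ ∈ X
    rcases D.cases x with ⟨i, j, rfl⟩ | ⟨p, q, rfl⟩
    · rw [D.A_conj_A]; exact hx
    · rw [D.A_conj_B]
      rw [D.au_B_desc X hZ hs hPu hP] at hx ⊢
      rcases hx with h | h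
      · right; linear_combination h + D.two_v
      · left; linear_combination h + D.two_v + D.two_u
  unfold Subgroup.relIndex
  rw [Subgroup.index_eq_two_iff]
  refine ⟨⟨D.A D.v 0, hg0⟩, fun g => ?_⟩
  obtain ⟨g, hgN⟩ := g
  simp only [Subgroup.mem_subgroupOf, Subgroup.coe_mul]
  have hg1 : g * D.B a b * g⁻¹ ∈ X := (Subgroup.mem_normalizer_iff.mp hgN _).mp hs
  have hu0 := D.u_ne_zero
  rcases D.cases g with ⟨k, l, rfl⟩ | ⟨k, l, rfl⟩
  · rw [D.A_conj_B, D.au_B_desc X hZ hs hPu hP] at hg1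
    rw [D.A_mul_A, D.au_A_desc X hZ hPu hP, D.au_A_desc X hZ hPu hP]
    have h2e : 2 * (k - l) = 0 ∨ 2 * (k - l) = D.u := by
      rcases hg1 with h | h
      · left; linear_combination h
      · right; linear_combination h
    rcases h2e with h | h
    · right
      refine ⟨D.two_mul_eq_zero _ h, fun hc => ?_⟩
      have := D.au_two_mul_of _ hc
      apply hu0
      linear_combination this - h - D.two_v
    · left
      refine ⟨?_, fun hc => ?_⟩
      · have := D.two_mul_eq_zero (k + D.v - (l + 0)) (by linear_combination h + D.two_v + D.two_u)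
        exact this
      · have := D.au_two_mul_of _ hc
        apply hu0
        linear_combination this - h
  · have hg2 : D.A (k - a) (l - b) ∈ Subgroup.normalizer (X : Set S) := by
      have e : D.A (k - a) (l - b) = D.B k l * (D.B a b)⁻¹ := by
        rw [D.B_inv, D.B_mul_B]; congr 1 <;> ring
      rw [e]
      exact Subgroup.mul_mem _ hgN (Subgroup.inv_mem _ (Subgroup.le_normalizer hs))
    have hg3 : D.A (k - a) (l - b) * D.B a b * (D.A (k - a) (l - b))⁻¹ ∈ X :=
      (Subgroup.mem_normalizer_iff.mp hg2 _).mp hs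
    rw [D.A_conj_B, D.au_B_desc X hZ hs hPu hP] at hg3
    rw [D.B_mul_A, D.au_B_desc X hZ hs hPu hP, D.au_B_desc X hZ hs hPu hP]
    have h2e : 2 * ((k - a) - (l - b)) = 0 ∨ 2 * ((k - a) - (l - b)) = D.u := by
      rcases hg3 with h | h
      · left; linear_combination h
      · right; linear_combination h
    rcases h2e with h | h
    · right
      refine ⟨D.two_mul_eq_zero _ h, fun hc => ?_⟩
      have := D.au_two_mul_of _ hc
      apply hu0
      linear_combination h - this - D.two_v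
    · left
      refine ⟨?_, fun hc => ?_⟩
      · have := D.two_mul_eq_zero (k + 0 - a - (l + D.v - b)) (by linear_combination h - D.two_v)
        exact this
      · have := D.au_two_mul_of _ hc
        apply hu0
        linear_combination this - h

/-- `X = Q Z(S)` with `Q` quaternion of order eight -/
theorem au_Q [Finite S] (hZ : Subgroup.center S ≤ X) {a b m : ZMod D.N}
    (hs : D.B a b ∈ X) (hab : a + b = 2 * m) (hPu : D.A D.u 0 ∈ X)
    (hP : ∀ d, D.A d 0 ∈ X → d = 0 ∨ d = D.u) :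
    ∃ Q : Subgroup S, Nonempty (Q ≃* QuaternionGroup 2) ∧ X = Q ⊔ Subgroup.center S := by
  set c : S := D.A D.v (-D.v) with hc
  set w : S := D.B (D.v + m - b) (D.v - m + b) with hw
  have hc2 : c * c = D.A D.u D.u := by
    rw [hc, D.A_mul_A]
    congr 1
    · linear_combination D.two_v
    · linear_combination -D.two_v - D.two_u
  have hcX : c ∈ X := by
    rw [hc, D.au_A_desc X hZ hPu hP]
    right; linear_combination D.two_v
  have hwX : w ∈ X := by
    rw [hw, D.au_B_desc X hZ hs hPu hP]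
    left; linear_combination -hab
  have hord : orderOf c = 2 * 2 := by
    have h1 : ¬ c ^ 2 ^ 1 = 1 := by
      rw [pow_one, pow_two, hc2]
      exact D.si_zz_ne_one
    have h2 : c ^ 2 ^ (1 + 1) = 1 := by
      have : c ^ 2 ^ (1 + 1) = (c * c) * (c * c) := by
        rw [show (2 : ℕ) ^ (1 + 1) = 4 by norm_num]
        simp only [pow_succ, pow_zero, one_mul, mul_assoc]
      rw [this, hc2, D.si_zz_sq]
    have := orderOf_eq_prime_pow h1 h2
    rw [this]; norm_num
  have hww : w * w = c ^ 2 := by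
    rw [pow_two, hc2, hw, D.B_mul_B]
    congr 1
    · linear_combination D.two_v
    · linear_combination D.two_v
  have hwc : w * c * w⁻¹ = c⁻¹ := by
    rw [hw, hc, D.B_conj_A, D.A_inv]
    congr 1
    ring
  obtain ⟨-, hiso⟩ := quaternion_closure 2 (by norm_num) c w hord hww hwc
  refine ⟨Subgroup.closure ({c, w} : Set S), hiso, ?_⟩
  apply le_antisymm
  · -- `X ≤ Q Z`
    have hU : ∀ i j : ZMod D.N, D.A i j ∈ X →
        D.A i j ∈ Subgroup.closure ({c, w} : Set S) ⊔ Subgroup.center S := by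
      intro i j hij
      rw [D.au_A_desc X hZ hPu hP] at hij
      rcases hij with h | h
      · apply Subgroup.mem_sup_right
        have : i = j := by linear_combination h
        subst this
        exact (D.mem_center_iff _).mpr ⟨i, rfl⟩
      · have e : D.A i j = c * D.A (i - D.v) (i - D.v) := by
          rw [hc, D.A_mul_A]
          congr 1
          · ring
          · linear_combination -h + D.two_v
        rw [e]
        exact Subgroup.mul_mem _ (Subgroup.mem_sup_left (Subgroup.subset_closure (by simp)))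
          (Subgroup.mem_sup_right ((D.mem_center_iff _).mpr ⟨_, rfl⟩))
    intro x hx
    rcases D.cases x with ⟨i, j, rfl⟩ | ⟨p, q, rfl⟩
    · exact hU i j hx
    · have e : D.B p q = (D.B p q * w⁻¹) * w := by group
      have h1 : D.B p q * w⁻¹ ∈ X := X.mul_mem hx (X.inv_mem hwX)
      have h2 : D.B p q * w⁻¹ = D.A (p - (D.v + m - b)) (q - (D.v - m + b)) := by
        rw [hw, D.B_inv, D.B_mul_B]; congr 1 <;> ring
      rw [e]
      apply Subgroup.mul_mem _ _ (Subgroup.mem_sup_left (Subgroup.subset_closure (by simp)))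
      rw [h2] at h1 ⊢
      exact hU _ _ h1
  · apply sup_le _ hZ
    rw [Subgroup.closure_le]
    rintro x (rfl | rfl)
    · exact hcX
    · exact hwX

/-- two such subgroups are conjugate -/
theorem au_conj [Finite S] (X' : Subgroup S) (hZ : Subgroup.center S ≤ X)
    (hZ' : Subgroup.center S ≤ X') {a b m a' b' m' : ZMod D.N}
    (hs : D.B a b ∈ X) (hab : a + b = 2 * m) (hPu : D.A D.u 0 ∈ X)
    (hP : ∀ d, D.A d 0 ∈ X → d = 0 ∨ d = D.u)
    (hs' : D.B a' b' ∈ X') (hab' : a' + b' = 2 * m') (hPu' : D.A D.u 0 ∈ X')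
    (hP' : ∀ d, D.A d 0 ∈ X' → d = 0 ∨ d = D.u) :
    ∃ s : S, X.map (MulAut.conj s).toMonoidHom = X' := by
  set k : ZMod D.N := m' - b' - m + b with hk
  have h2k : 2 * k = (a' - b') - (a - b) := by
    rw [hk]; linear_combination hab - hab'
  have hfwd : ∀ x ∈ X, D.A k 0 * x * (D.A k 0)⁻¹ ∈ X' := by
    intro x hx
    rcases D.cases x with ⟨i, j, rfl⟩ | ⟨p, q, rfl⟩
    · rw [D.A_conj_A]
      rw [D.au_A_desc X hZ hPu hP] at hx
      rw [D.au_A_desc X' hZ' hPu' hP']
      exact hx
    · rw [D.A_conj_B]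
      rw [D.au_B_desc X hZ hs hPu hP] at hx
      rw [D.au_B_desc X' hZ' hs' hPu' hP']
      rcases hx with h | h
      · left; linear_combination h + h2k
      · right; linear_combination h + h2k
  have hbwd : ∀ x ∈ X', (D.A k 0)⁻¹ * x * D.A k 0 ∈ X := by
    intro x hx
    have e : (D.A k 0)⁻¹ * x * D.A k 0 = D.A (-k) 0 * x * (D.A (-k) 0)⁻¹ := by
      rw [D.A_inv, D.A_inv]
      congr 2 <;> congr 1 <;> ring
    rw [e]
    rcases D.cases x with ⟨i, j, rfl⟩ | ⟨p, q, rfl⟩
    · rw [D.A_conj_A]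
      rw [D.au_A_desc X' hZ' hPu' hP'] at hx
      rw [D.au_A_desc X hZ hPu hP]
      exact hx
    · rw [D.A_conj_B]
      rw [D.au_B_desc X' hZ' hs' hPu' hP'] at hx
      rw [D.au_B_desc X hZ hs hPu hP]
      rcases hx with h | h
      · left; linear_combination h - h2k
      · right; linear_combination h - h2k
  refine ⟨D.A k 0, ?_⟩
  ext y
  constructor
  · rintro ⟨x, hx, rfl⟩
    exact hfwd x hx
  · intro hy
    refine ⟨(D.A k 0)⁻¹ * y * D.A k 0, hbwd y hy, ?_⟩
    show D.A k 0 * ((D.A k 0)⁻¹ * y * D.A k 0) * (D.A k 0)⁻¹ = y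
    group

end WD

end Cfsg.Agent.Lib.Helper9
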