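import Mathlib
import Cfsg.Agent.Lib.helper15.St2
import Cfsg.Agent.Lib.helper7.StA
import Cfsg.Agent.Lib.helper7.StC
import Cfsg.Agent.Lib.helper7.StE
import Cfsg.Agent.Lib.helper3.STC.Defs
import Cfsg.Agent.Lib.helper3.STC.Defs2
import Cfsg.Agent.Lib.helper3.STC.Defs3
import Cfsg.Agent.Lib.Helper27.STCF11
import Cfsg.Agent.Lib.Helper21.STCF12
import Cfsg.Agent.Lib.helper2.STCF13
import Cfsg.Agent.Lib.Helper21.STCF14
import Cfsg.Agent.Lib.Helper27.STCF15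

/-!
# STC F16 (verbatim): the product of two cell Weyl elements
-/

set_option autoImplicit false

namespace Cfsg.Agent.Lib.helper3.STC

open Cfsg.Agent.Lib.helper15.St2 Cfsg.Agent.Lib.helper7.St

namespace SysC

variable {K : Type*} [Field K] {ι : Type*} {G : Type*} [Group G] (S : SysC K ι G)

section F
variable [DecidableEq ι] (o : ι ⊕ ι)

omit [DecidableEq ι] in
theorem stcf16_ng_ne (a : ι ⊕ ι) : ng a ≠ a := by
  rcases a with a | a <;> simp [ng]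

omit [DecidableEq ι] in
theorem stcf16_ng_ng (a : ι ⊕ ι) : ng (ng a) = a := by
  rcases a with a | a <;> simp [ng]

/-- the assembly with the five cases as hypotheses -/
theorem stcf16_core {k j : ι ⊕ ι} (hk : k ≠ o) (hj : j ≠ o)
    (h_same : S.NP o (S.w o k 1 * S.w o k 1))
    (h_jlong : k ≠ ng o → ∃ n, S.NP o n ∧ S.w o k 1 * S.w o (ng o) 1 = S.w o (ng k) 1 * n)
    (h_klong : j ≠ ng o → ∃ n, S.NP o n ∧ S.w o (ng o) 1 * S.w o j 1 = S.w o j 1 * n)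
    (h_opp : k ≠ ng o → ∃ n, S.NP o n ∧ S.w o k 1 * S.w o (ng k) 1 = S.w o (ng o) 1 * n)
    (h_gen : k ≠ ng o → j ≠ ng o → k ≠ j → k ≠ ng j →
      ∃ n, S.NP o n ∧ S.w o k 1 * S.w o j 1 = S.w o j 1 * n) :
    ∃ n, S.NP o n ∧ (S.w o k 1 * S.w o j 1 = n ∨
      ∃ k', k' ≠ o ∧ S.w o k 1 * S.w o j 1 = S.w o k' 1 * n) := by
  by_cases hjk : j = k
  · subst hjk
    exact ⟨_, h_same, Or.inl rfl⟩
  by_cases hjo : j = ng o
  · subst hjo
    have hk' : k ≠ ng o := fun h => hjk h.symm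
    obtain ⟨n, hn, e⟩ := h_jlong hk'
    refine ⟨n, hn, Or.inr ⟨ng k, ?_, e⟩⟩
    intro h
    apply hk'
    rw [← h, stcf16_ng_ng]
  by_cases hko : k = ng o
  · subst hko
    obtain ⟨n, hn, e⟩ := h_klong hjo
    exact ⟨n, hn, Or.inr ⟨j, hj, e⟩⟩
  by_cases hkj : k = ng j
  · have hj' : j = ng k := by rw [hkj, stcf16_ng_ng]
    subst hj'
    obtain ⟨n, hn, e⟩ := h_opp hko
    exact ⟨n, hn, Or.inr ⟨ng o, stcf16_ng_ne o, e⟩⟩
  · obtain ⟨n, hn, e⟩ := h_gen hko hjo (fun h => hjk h.symm) hkj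
    exact ⟨n, hn, Or.inr ⟨j, hj, e⟩⟩

/-- F16 [S-M]  assembly.  `j = k`: `ww_same`.  `j = ng o`: `ww_jlong` (`k' = ng k`).  `k = ng o`: `ww_klong`.  `k = ng j` (so `j = ng k`): `ww_opp` (`k' = ng o`).  Else `ww_gen`. -/
theorem ww_cell [Finite K] (hW : S.HW) (hH : S.HH) {k j : ι ⊕ ι} (hk : k ≠ o) (hj : j ≠ o) :
    ∃ n, S.NP o n ∧ (S.w o k 1 * S.w o j 1 = n ∨ ∃ k', k' ≠ o ∧ S.w o k 1 * S.w o j 1 = S.w o k' 1 * n) :=
  S.stcf16_core o hk hj (S.ww_same o hH hk)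
    (fun hk' => S.ww_jlong o hW hH hk hk')
    (fun hj' => S.ww_klong o hW hj hj')
    (fun hk' => S.ww_opp o hW hH hk hk')
    (fun hk' hj' hkj hkj' => S.ww_gen o hW hk hk' hj hj' hkj hkj')

end F

end SysC

end Cfsg.Agent.Lib.helper3.STC
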