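import Mathlib
import Cfsg.Agent.Lib.helper15.St2
import Cfsg.Agent.Lib.helper7.StA
import Cfsg.Agent.Lib.helper7.StC
import Cfsg.Agent.Lib.helper7.StE
import Cfsg.Agent.Lib.helper3.STC.Defs
import Cfsg.Agent.Lib.helper3.STC.Defs2
import Cfsg.Agent.Lib.helper3.STC.Defs3
import Cfsg.Agent.Lib.Helper11.STCF8
import Cfsg.Agent.Lib.Helper9.STCF16

/-!
# STC F17 core: left multiplication of the cell of `k` by a root element
(hypothesis `hA` = the statement of F10 `lemA_all` at this `o`)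
-/

set_option autoImplicit false

namespace Cfsg.Agent.Lib.helper3.STC

open Cfsg.Agent.Lib.helper15.St2 Cfsg.Agent.Lib.helper7.St

namespace SysC

variable {K : Type*} [Field K] {ι : Type*} {G : Type*} [Group G] (S : SysC K ι G)

section F
variable [DecidableEq ι] (o : ι ⊕ ι)

theorem stcf17_core [Finite K] (hW : S.HW) (hH : S.HH)
    (hA : ∀ {a b : ι ⊕ ι}, a ≠ b → ∀ (t : K) {y p : G}, y ∈ S.Yg o → p ∈ S.Phat o →
      S.InD o (S.x a b t * (y * p)))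
    {k : ι ⊕ ι} (hk : k ≠ o) {a b : ι ⊕ ι} (hab : a ≠ b) (t : K) {y p : G}
    (hy : y ∈ S.Yg o) (hp : p ∈ S.Phat o) : S.InD o (S.x a b t * (S.w o k 1 * y * p)) := by
  have hWk := hW o k (Ne.symm hk) 1 one_ne_zero
  obtain ⟨s, hs⟩ := S.IsMon_move hWk hab t
  have hne : (wpm o k)⁻¹ a ≠ (wpm o k)⁻¹ b := (wpm o k)⁻¹.injective.ne hab
  have e0 : S.x a b t * (S.w o k 1 * y * p) =
      S.w o k 1 * (S.x ((wpm o k)⁻¹ a) ((wpm o k)⁻¹ b) s * (y * p)) := by
    calc S.x a b t * (S.w o k 1 * y * p) = (S.x a b t * S.w o k 1) * y * p := by group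
      _ = (S.w o k 1 * S.x ((wpm o k)⁻¹ a) ((wpm o k)⁻¹ b) s) * y * p := by rw [hs]
      _ = _ := by group
  rw [e0]
  rcases hA hne s hy hp with ⟨y1, hy1, p1, hp1, e1⟩ | ⟨j, hj, y1, hy1, p1, hp1, e1⟩
  · rw [e1]
    exact Or.inr ⟨k, hk, y1, hy1, p1, hp1, by group⟩
  · rw [e1]
    obtain ⟨n, ⟨hnP, hnY⟩, hcase⟩ := S.ww_cell o hW hH hk hj
    rcases hcase with e2 | ⟨k', hk', e2⟩
    · refine Or.inl ⟨cj n y1, hnY y1 hy1, n * p1, mul_mem hnP hp1, ?_⟩
      calc S.w o k 1 * (S.w o j 1 * y1 * p1) = (S.w o k 1 * S.w o j 1) * y1 * p1 := by group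
        _ = n * y1 * p1 := by rw [e2]
        _ = _ := by unfold cj; group
    · refine Or.inr ⟨k', hk', cj n y1, hnY y1 hy1, n * p1, mul_mem hnP hp1, ?_⟩
      calc S.w o k 1 * (S.w o j 1 * y1 * p1) = (S.w o k 1 * S.w o j 1) * y1 * p1 := by group
        _ = S.w o k' 1 * n * y1 * p1 := by rw [e2]
        _ = _ := by unfold cj; group

end F

end SysC

end Cfsg.Agent.Lib.helper3.STC
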