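import Mathlib
import Cfsg.Agent.Lib.Helper19.U3P.Defs
import Cfsg.Agent.Lib.helper14.SU3Geo
import Cfsg.Agent.Lib.Helper25.SU3P.Coords

/-!
# U3P F4 (verbatim): hyperbolic coordinates exist
-/

set_option autoImplicit false

namespace Cfsg.Agent.Lib.Helper19.U3P

open Cfsg.Agent.Lib.helper17.SLP Cfsg.Agent.Lib.helper14.SU3J Cfsg.Agent.Lib.Helper25.SU3P
open Polynomial Matrix

universe u v

section F0

variable {F : Type u} [Field F] [Fintype F] {q : ℕ}

/-- F4 [S-M]  `q = p^e` with `p` prime (`FiniteField.card'`; `q ∣ p^n`), `e ≥ 1`.  `Cfsg.Agent.Lib.helper14.SU3Geo.exists_fixed_iso hF (hpq : p ∣ q) ⊥ (IsPGroup.of_bot)` gives an isotropic `v ≠ 0`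
(see its use in `Helper25.SU3P.Center.center_sylow`), then `Helper25.SU3P.exists_coords hF hσ v hv hvv`. -/
theorem exists_coords0 (hF : Fintype.card F = q ^ 2) (σ : F →+* F) (hσ : ∀ x, σ x = x ^ q) :
    Nonempty (Coords F q σ) := by
  have hq := Cfsg.Agent.Lib.Lead.two_le_q hF
  have hp : (q.minFac).Prime := Nat.minFac_prime (by omega)
  have : Fact (q.minFac).Prime := ⟨hp⟩
  obtain ⟨v, hv, hvv, _⟩ := Cfsg.Agent.Lib.helper14.SU3Geo.exists_fixed_iso (p := q.minFac) hF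
    (Nat.minFac_dvd q) (⊥ : Subgroup ↥(Cfsg.SU 3 F q)) IsPGroup.of_bot
  obtain ⟨c, _⟩ := exists_coords (σ := σ) hF hσ v hv hvv
  exact ⟨c⟩

end F0

end Cfsg.Agent.Lib.Helper19.U3P
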