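import Mathlib
import Cfsg.Prelude.Def_GeometricClasses
import Cfsg.Agent.Lib.Helper27.ASC.Defs
import Cfsg.Agent.Lib.Helper19.ASG.Defs
import Cfsg.Agent.Lib.Helper26.ASGD1.Defs

set_option autoImplicit false
set_option linter.unusedVariables false

/-!
# Project ASG, block D1, piece CYC : characteristic abelian subgroups of `R` are cyclic
-/

namespace Cfsg.Agent.Lib.Helper19.ASG

open Cfsg Cfsg.Geo Cfsg.Agent.Lib.Helper27.ASC
open scoped MatrixGroups Matrix

variable {n : ℕ} {F : Type*} [Field F] [Fintype F]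

/-- an abelian absolutely irreducible group consists of scalars; so an abelian subgroup normalised by `H` is scalar -/
theorem asgd1cyc_abelian_scalar (hn : 0 < n) {H B : Subgroup (GL (Fin n) F)} (hD : AllNormalAbsIrr H)
    (hB : NormalIn B H) (hab : ∀ a ∈ B, ∀ b ∈ B, a * b = b * a) : B ≤ scalars (Fin n) F := by
  rcases hD B hB with h | h
  · exact h
  · intro b hb
    obtain ⟨c, hc⟩ := h.2 (b : Matrix (Fin n) (Fin n) F) (by
      rintro _ ⟨s, hs, rfl⟩
      have h1 := hab b hb s hs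
      have h2 := congrArg (fun u : GL (Fin n) F => (u : Matrix (Fin n) (Fin n) F)) h1
      simpa only [Units.val_mul] using h2)
    have hc0 : c ≠ 0 := by
      rintro rfl
      rw [zero_smul] at hc
      have h1 : (1 : Matrix (Fin n) (Fin n) F) = 0 := by
        have := b.inv_mul
        rw [hc, mul_zero] at this
        exact this.symm
      have : Nontrivial (Matrix (Fin n) (Fin n) F) := by
        have : Nonempty (Fin n) := ⟨⟨0, hn⟩⟩
        infer_instance
      exact one_ne_zero h1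
    rw [mem_scalars_iff]
    exact ⟨Units.mk0 c hc0, hc⟩

/-- scalars commute with everything -/
theorem asgd1cyc_scalar_comm {z : GL (Fin n) F} (hz : z ∈ scalars (Fin n) F) (g : GL (Fin n) F) : z * g = g * z := by
  obtain ⟨c, rfl⟩ := (mem_scalars_iff_d1scal z).mp hz
  exact d1scal_comm c g

/-- D1-CYC -/
theorem d1_cyc (hn : 2 ≤ n) {H N R : Subgroup (GL (Fin n) F)} (hD : AllNormalAbsIrr H) (hNH : NormalIn N H)
    (hRH : D1NormBy R H) (hRN : R ≤ N ⊔ scalars (Fin n) F) :
    ∀ A : Subgroup R, A.Characteristic → IsMulCommutative A → IsCyclic A := by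
  intro A hchar hcomm
  have hn0 : 0 < n := by omega
  have hZn : (scalars (Fin n) F).Normal := scalars_normal
  -- the image of `A` in `GL`
  have hA'H : ∀ h ∈ H, ∀ a : R, a ∈ A → ∃ b : R, b ∈ A ∧ (b : GL (Fin n) F) = h * a * h⁻¹ := by
    intro h hh a ha
    let φ : R ≃* R :=
      { toFun := fun y => ⟨h * y * h⁻¹, hRH h hh y y.2⟩
        invFun := fun y => ⟨h⁻¹ * y * h, by simpa using hRH h⁻¹ (H.inv_mem hh) y y.2⟩
        left_inv := fun y => by
          apply Subtype.ext
          show h⁻¹ * (h * (y : GL (Fin n) F) * h⁻¹) * h = y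
          group
        right_inv := fun y => by
          apply Subtype.ext
          show h * (h⁻¹ * (y : GL (Fin n) F) * h) * h⁻¹ = y
          group
        map_mul' := fun x y => by
          apply Subtype.ext
          show h * ((x : GL (Fin n) F) * (y : GL (Fin n) F)) * h⁻¹ = (h * x * h⁻¹) * (h * y * h⁻¹)
          group }
    have hle := (Subgroup.characteristic_iff_map_le.mp hchar) φ
    exact ⟨φ a, hle ⟨a, ha, rfl⟩, rfl⟩
  have hAcomm : ∀ a : R, a ∈ A → ∀ b : R, b ∈ A → (a : GL (Fin n) F) * b = b * a := by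
    intro a ha b hb
    have h1 := hcomm.is_comm.comm (⟨a, ha⟩ : A) ⟨b, hb⟩
    have h2 := congrArg (fun u : A => ((u : R) : GL (Fin n) F)) h1
    simpa using h2
  -- `B = (A' ⊔ Z) ⊓ N`
  let A' : Subgroup (GL (Fin n) F) := A.map R.subtype
  have hA'mem : ∀ x, x ∈ A' ↔ ∃ a : R, a ∈ A ∧ (a : GL (Fin n) F) = x := by
    intro x
    constructor
    · rintro ⟨a, ha, rfl⟩
      exact ⟨a, ha, rfl⟩
    · rintro ⟨a, ha, rfl⟩
      exact ⟨a, ha, rfl⟩
  let B : Subgroup (GL (Fin n) F) := (A' ⊔ scalars (Fin n) F) ⊓ N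
  have hBnorm : NormalIn B H := by
    refine ⟨inf_le_right.trans hNH.1, fun h hh x hx => ⟨?_, hNH.2 h hh x hx.2⟩⟩
    obtain ⟨a, ha, z, hz, rfl⟩ := Subgroup.mem_sup_of_normal_right.mp hx.1
    obtain ⟨a0, ha0, rfl⟩ := (hA'mem a).mp ha
    obtain ⟨b, hb, hbe⟩ := hA'H h hh a0 ha0
    have e : h * ((a0 : GL (Fin n) F) * z) * h⁻¹ = (h * a0 * h⁻¹) * (h * z * h⁻¹) := by group
    rw [e]
    exact Subgroup.mul_mem_sup ((hA'mem _).mpr ⟨b, hb, hbe⟩) (hZn.conj_mem z hz h)
  have hBab : ∀ x ∈ B, ∀ y ∈ B, x * y = y * x := by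
    intro x hx y hy
    obtain ⟨a, ha, z, hz, rfl⟩ := Subgroup.mem_sup_of_normal_right.mp hx.1
    obtain ⟨b, hb, w, hw, rfl⟩ := Subgroup.mem_sup_of_normal_right.mp hy.1
    obtain ⟨a0, ha0, rfl⟩ := (hA'mem a).mp ha
    obtain ⟨b0, hb0, rfl⟩ := (hA'mem b).mp hb
    have h1 := hAcomm a0 ha0 b0 hb0
    have hz1 := asgd1cyc_scalar_comm hz
    have hw1 := asgd1cyc_scalar_comm hw
    calc (a0 : GL (Fin n) F) * z * ((b0 : GL (Fin n) F) * w)
        = (a0 : GL (Fin n) F) * (z * (b0 : GL (Fin n) F)) * w := by group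
      _ = (a0 : GL (Fin n) F) * ((b0 : GL (Fin n) F) * z) * w := by rw [hz1]
      _ = ((a0 : GL (Fin n) F) * (b0 : GL (Fin n) F)) * (z * w) := by group
      _ = ((b0 : GL (Fin n) F) * (a0 : GL (Fin n) F)) * (w * z) := by rw [h1, hz1 w]
      _ = (b0 : GL (Fin n) F) * ((a0 : GL (Fin n) F) * w) * z := by group
      _ = (b0 : GL (Fin n) F) * (w * (a0 : GL (Fin n) F)) * z := by rw [hw1]
      _ = (b0 : GL (Fin n) F) * w * ((a0 : GL (Fin n) F) * z) := by group
  have hBZ : B ≤ scalars (Fin n) F := asgd1cyc_abelian_scalar hn0 hD hBnorm hBab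
  -- `A` consists of scalars
  have hAZ : ∀ a : R, a ∈ A → (a : GL (Fin n) F) ∈ scalars (Fin n) F := by
    intro a ha
    obtain ⟨x, hx, z, hz, hxz⟩ := Subgroup.mem_sup_of_normal_right.mp (hRN a.2)
    have hxB : x ∈ B := by
      refine ⟨?_, hx⟩
      have e : x = (a : GL (Fin n) F) * z⁻¹ := by rw [← hxz]; group
      rw [e]
      exact Subgroup.mul_mem_sup ((hA'mem _).mpr ⟨a, ha, rfl⟩) ((scalars (Fin n) F).inv_mem hz)
    rw [← hxz]
    exact (scalars (Fin n) F).mul_mem (hBZ hxB) hz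
  -- the entry map `A → F`
  let i0 : Fin n := ⟨0, hn0⟩
  let f : A →* F :=
    { toFun := fun a => ((a : R) : GL (Fin n) F) i0 i0
      map_one' := by simp
      map_mul' := fun a b => by
        obtain ⟨c, hc⟩ := (mem_scalars_iff _).mp (hAZ a a.2)
        show (((a : R) : GL (Fin n) F) * ((b : R) : GL (Fin n) F) : GL (Fin n) F).val i0 i0 = _
        rw [Units.val_mul, hc, Matrix.smul_mul, Matrix.one_mul]
        simp }
  have hf : Function.Injective f := by
    intro a b hab
    obtain ⟨c, hc⟩ := (mem_scalars_iff _).mp (hAZ a a.2)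
    obtain ⟨d, hd⟩ := (mem_scalars_iff _).mp (hAZ b b.2)
    have h1 : (((a : R) : GL (Fin n) F) : Matrix (Fin n) (Fin n) F) i0 i0 =
        (((b : R) : GL (Fin n) F) : Matrix (Fin n) (Fin n) F) i0 i0 := hab
    rw [hc, hd] at h1
    simp at h1
    apply Subtype.ext
    apply Subtype.ext
    apply Units.ext
    rw [hc, hd, h1]
  exact isCyclic_of_injective_ringHom f hf

end Cfsg.Agent.Lib.Helper19.ASG
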