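import Mathlib
import Cfsg.Agent.Lib.helper3.CEUO.Defs2
import Cfsg.Agent.Lib.Helper27.STU.Defs3
import Cfsg.Agent.Lib.Helper27.STU.Frob
import Cfsg.Agent.Lib.Helper27.STUH8
import Cfsg.Agent.Lib.Helper5.STULA5
import Cfsg.Agent.Lib.Helper24.STUM1
import Cfsg.Agent.Lib.Helper24.STCI1

/-!
# Project CEUO (designer helper3), rows F1a F1b F2 (helper9), verbatim: `torB_fixed torB_sq tor1_of`
-/

set_option autoImplicit false

namespace Cfsg.Agent.Lib.helper3.CEUO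

open Cfsg.Agent.Lib.helper15.St2 Cfsg.Agent.Lib.helper7.Ce Cfsg.Agent.Lib.helper3.STC Cfsg.Agent.Lib.Helper27.STU
  Cfsg.Agent.Lib.helper7.CEU

open Cfsg.Agent.Lib.helper7.CEC (I2 I3 I4 U2 U3)

section F

variable {F : Type*} [Field F] [StarRing F] {od : Prop} {ι : Type*} {G : Type*} [Group G]

/-- F1 [S-M] -/
theorem torB_fixed [DecidableEq ι] (hF : Hyp F) (hod : od) (S : SysU F od ι G) (hH : S.HH) {r : F} (hr0 : r ≠ 0) (hrs : star r = r)
    (hr1 : r ≠ 1) : TorB S := by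
  intro a b hab
  have hba : b ≠ a := fun h => hab (by rw [h])
  have hba' : b ≠ ng a := fun h => hab (by rw [h, ab_ng])
  obtain ⟨ξ₁, h1⟩ := Lam.exists_of_c hF hod r
  obtain ⟨ξ₂, h2⟩ := Lam.exists_of_c hF hod (1 : F)
  have hm := hH.2 a ξ₁ ξ₂ (by rw [h1]; exact hr0) (by rw [h2]; exact one_ne_zero)
  rw [h1, h2, div_one] at hm
  refine ⟨_, _, _, hm, ?_, ?_⟩
  · have e1 : Cfsg.Agent.Lib.Helper27.STU.dhl a r a = r := by unfold Cfsg.Agent.Lib.Helper27.STU.dhl; rw [if_pos rfl]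
    have e2 : d0h r = 1 := by unfold d0h; rw [hrs, div_self hr0]
    rw [e1, e2, inv_one, mul_one]
    exact hr1
  · have e1 : Cfsg.Agent.Lib.Helper27.STU.dhl a r b = 1 := by unfold Cfsg.Agent.Lib.Helper27.STU.dhl; rw [if_neg hba, if_neg hba']
    have e2 : d0h r = 1 := by unfold d0h; rw [hrs, div_self hr0]
    rw [e1, e2, inv_one, mul_one]

/-- F1 [S-M]  (for `q = 2`) -/
theorem torB_sq [DecidableEq ι] (hF : Hyp F) (hod : od) (S : SysU F od ι G) (hH : S.HH) {r : F} (hr0 : r ≠ 0) (hrs : star r = r * r)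
    (hr1 : r * r ≠ r) : TorB S := by
  intro a b hab
  have hab1 : a ≠ b := fun h => hab (by rw [h])
  have hab' : a ≠ ng b := fun h => hab (by rw [h, ab_ng])
  obtain ⟨ξ₁, h1⟩ := Lam.exists_of_c hF hod r
  obtain ⟨ξ₂, h2⟩ := Lam.exists_of_c hF hod (1 : F)
  have hm := hH.2 b ξ₁ ξ₂ (by rw [h1]; exact hr0) (by rw [h2]; exact one_ne_zero)
  rw [h1, h2, div_one] at hm
  have e0 : d0h r = r := by unfold d0h; rw [hrs, mul_div_assoc, div_self hr0, mul_one]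
  refine ⟨_, _, _, hm, ?_, ?_⟩
  · have e1 : Cfsg.Agent.Lib.Helper27.STU.dhl b r a = 1 := by unfold Cfsg.Agent.Lib.Helper27.STU.dhl; rw [if_neg hab1, if_neg hab']
    rw [e1, e0, one_mul]
    intro h
    apply hr1
    have : r = 1 := by rw [← inv_inv r, h, inv_one]
    rw [this, mul_one]
  · have e1 : Cfsg.Agent.Lib.Helper27.STU.dhl b r b = r := by unfold Cfsg.Agent.Lib.Helper27.STU.dhl; rw [if_pos rfl]
    rw [e1, e0, mul_inv_cancel₀ hr0]

/-- F2 [M] -/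
theorem tor1_of [DecidableEq ι] (hF : Hyp F) (hod : od) (S : SysU F od ι G) (hH : S.HH) {r : F} (hr0 : r ≠ 0)
    (hr3 : r * r * r ≠ star r * star r) : Tor1 S := by
  intro a b hab
  have hab1 : a ≠ b := fun h => hab (by rw [h])
  have hab' : a ≠ ng b := fun h => hab (by rw [h, ab_ng])
  have hba : b ≠ a := hab1.symm
  have hba' : b ≠ ng a := fun h => hab (by rw [h, ab_ng])
  have hnab : ng a ≠ b := hba'.symm
  have hnanb : ng a ≠ ng b := fun h => hab1 (ng_inj.1 h)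
  have hnba : ng b ≠ a := hab'.symm
  have hnbna : ng b ≠ ng a := hnanb.symm
  have hsr0 : star r ≠ 0 := fun h => hr0 (by rw [← star_star r, h, star_zero])
  obtain ⟨ξ₁, h1⟩ := Lam.exists_of_c hF hod r
  obtain ⟨ξ₂, h2⟩ := Lam.exists_of_c hF hod (1 : F)
  obtain ⟨ξ₃, h3⟩ := Lam.exists_of_c hF hod ((star r)⁻¹)
  have hm1 := hH.2 a ξ₁ ξ₂ (by rw [h1]; exact hr0) (by rw [h2]; exact one_ne_zero)
  have hm2 := hH.2 b ξ₃ ξ₂ (by rw [h3]; exact inv_ne_zero hsr0) (by rw [h2]; exact one_ne_zero)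
  rw [h1, h2, div_one] at hm1
  rw [h3, h2, div_one] at hm2
  have hm := SysU.IsMon.congr S (SysU.IsMon.mul S hm1 hm2) (mul_one 1) (fun k => rfl) rfl
  refine ⟨_, _, _, hm, ?_, ?_⟩
  · show Cfsg.Agent.Lib.Helper27.STU.dhl a r ((1 : Equiv.Perm (ι ⊕ ι)) (ng a)) * Cfsg.Agent.Lib.Helper27.STU.dhl b (star r)⁻¹ (ng a) = Cfsg.Agent.Lib.Helper27.STU.dhl a r ((1 : Equiv.Perm (ι ⊕ ι)) b) * Cfsg.Agent.Lib.Helper27.STU.dhl b (star r)⁻¹ b
    rw [Equiv.Perm.one_apply, Equiv.Perm.one_apply]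
    have e1 : Cfsg.Agent.Lib.Helper27.STU.dhl a r (ng a) = (star r)⁻¹ := by unfold Cfsg.Agent.Lib.Helper27.STU.dhl; rw [if_neg (ng_ne a), if_pos rfl]
    have e2 : Cfsg.Agent.Lib.Helper27.STU.dhl b (star r)⁻¹ (ng a) = 1 := by unfold Cfsg.Agent.Lib.Helper27.STU.dhl; rw [if_neg hnab, if_neg hnanb]
    have e3 : Cfsg.Agent.Lib.Helper27.STU.dhl a r b = 1 := by unfold Cfsg.Agent.Lib.Helper27.STU.dhl; rw [if_neg hba, if_neg hba']
    have e4 : Cfsg.Agent.Lib.Helper27.STU.dhl b (star r)⁻¹ b = (star r)⁻¹ := by unfold Cfsg.Agent.Lib.Helper27.STU.dhl; rw [if_pos rfl]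
    rw [e1, e2, e3, e4, mul_one, one_mul]
  · show Cfsg.Agent.Lib.Helper27.STU.dhl a r ((1 : Equiv.Perm (ι ⊕ ι)) (ng b)) * Cfsg.Agent.Lib.Helper27.STU.dhl b (star r)⁻¹ (ng b) * (d0h r * d0h (star r)⁻¹)⁻¹ ≠ 1
    rw [Equiv.Perm.one_apply]
    have e1 : Cfsg.Agent.Lib.Helper27.STU.dhl a r (ng b) = 1 := by unfold Cfsg.Agent.Lib.Helper27.STU.dhl; rw [if_neg hnba, if_neg hnbna]
    have e2 : Cfsg.Agent.Lib.Helper27.STU.dhl b (star r)⁻¹ (ng b) = r := by
      unfold Cfsg.Agent.Lib.Helper27.STU.dhl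
      rw [if_neg (ng_ne b), if_pos rfl, star_inv₀, star_star, inv_inv]
    have e3 : d0h r = star r / r := rfl
    have e4 : d0h (star r)⁻¹ = star r / r := by
      unfold d0h
      rw [star_inv₀, star_star]
      field_simp
    rw [e1, e2, e3, e4, one_mul]
    intro h
    apply hr3
    have hne : star r / r * (star r / r) ≠ 0 := mul_ne_zero (div_ne_zero hsr0 hr0) (div_ne_zero hsr0 hr0)
    have e : r = star r / r * (star r / r) := (mul_inv_eq_one₀ hne).1 h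
    calc r * r * r = (star r / r * (star r / r)) * r * r := by rw [← e]
      _ = star r * star r := by field_simp

end F

end Cfsg.Agent.Lib.helper3.CEUO
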