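import Mathlib

/-!
# Project CEUO (designer helper3), row F3a (helper9), verbatim: `exists_gen_frob` (a generator of the unit group of `F_{q^2}`: three power inequalities).  Mathlib only.
-/

set_option autoImplicit false

namespace Cfsg.Agent.Lib.helper3.CEUO

section F

/-- F3 [M] -/
theorem exists_gen_frob {F : Type*} [Field F] [Fintype F] {q : ℕ} (hF : Fintype.card F = q ^ 2) :
    ∃ r : F, r ≠ 0 ∧ r * r * r ≠ r ^ q * r ^ q ∧ (3 ≤ q → r * r ≠ r ^ q ∧ r ≠ r ^ q * r ^ q) := by
  classical
  have hq2 : 2 ≤ q := by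
    by_contra h
    have h0 : q ≤ 1 := by omega
    have h1 : q ^ 2 ≤ 1 := by
      interval_cases q <;> simp
    have := Fintype.one_lt_card (α := F)
    omega
  have hqq : 2 * q ≤ q ^ 2 := by nlinarith
  obtain ⟨g, hg⟩ := IsCyclic.exists_generator (α := Fˣ)
  have hord : orderOf g = q ^ 2 - 1 := by
    rw [orderOf_eq_card_of_forall_mem_zpowers hg, Nat.card_eq_fintype_card, Fintype.card_units, hF]
  refine ⟨(g : F), g.ne_zero, ?_, ?_⟩
  · intro h
    have h' : g ^ 3 = g ^ (q + q) := by
      apply Units.ext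
      rw [Units.val_pow_eq_pow_val, Units.val_pow_eq_pow_val, pow_add, ← h]
      ring
    have h1 := pow_eq_pow_iff_modEq.1 h'
    rw [hord] at h1
    have h2 := (Nat.modEq_iff_dvd' (by omega : 3 ≤ q + q)).1 h1
    have h3 := Nat.le_of_dvd (by omega) h2
    omega
  · intro hq3
    have hqq3 : 3 * q ≤ q ^ 2 := by nlinarith
    constructor
    · intro h
      have h' : g ^ 2 = g ^ q := by
        apply Units.ext
        rw [Units.val_pow_eq_pow_val, Units.val_pow_eq_pow_val, ← h]
        ring
      have h1 := pow_eq_pow_iff_modEq.1 h'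
      rw [hord] at h1
      have h2 := (Nat.modEq_iff_dvd' (by omega : 2 ≤ q)).1 h1
      have h3 := Nat.le_of_dvd (by omega) h2
      omega
    · intro h
      have h' : g ^ 1 = g ^ (q + q) := by
        apply Units.ext
        rw [Units.val_pow_eq_pow_val, Units.val_pow_eq_pow_val, pow_add, ← h]
        ring
      have h1 := pow_eq_pow_iff_modEq.1 h'
      rw [hord] at h1
      have h2 := (Nat.modEq_iff_dvd' (by omega : 1 ≤ q + q)).1 h1
      have h3 := Nat.le_of_dvd (by omega) h2
      omega

end F

end Cfsg.Agent.Lib.helper3.CEUO
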