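import Mathlib
import Cfsg.Agent.Lib.Helper24.SU3M.Defs
import Cfsg.Agent.Lib.helper7.CeA
import Cfsg.Agent.Lib.helper3.StemTools
import Cfsg.Agent.Lib.Helper21.SchurCyclic
import Cfsg.Agent.Lib.Helper18.SU3MA2
import Cfsg.Agent.Lib.Helper20.SU3MNT1
import Cfsg.Agent.Lib.Helper25.SU3P.Main

/-!
# Project SU3M (designer helper24; S2089), rows A5 A6 A7 E4 P7 (helper9): cores on the STATEMENTS of the rows they cite

`su3ma5_core` (A5 from A4 `su3_no_prime`), `su3ma6_core` (A6 from A5), `su3ma7_core` (A7 from A6 + A1 `su_perfect`; A3 `psu_mult` imported),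
`su3me4_core` (E4 `Mg_index` from E3 `card_Mg`; NT7 + `card_SU3` imported), `su3mp7_core` (P7 `Bg_hS` from P6 `comm_le_Vg` + P5b `Vg_inter`).
-/

set_option autoImplicit false
set_option linter.unusedSectionVars false

namespace Cfsg.Agent.Lib.Helper24.SU3M

open Cfsg.Agent.Lib.Helper19.U3P Cfsg.Agent.Lib.Helper25.SU3P Cfsg.Agent.Lib.helper14.SU3J Cfsg.Agent.Lib.helper7.Ce Matrix Polynomial

universe u

section A

variable {F : Type u} [Field F] [Fintype F] {q : ℕ}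

/-- A5 core -/
theorem su3ma5_core {Γ : Type*} [Group Γ] [Finite Γ] (π : Γ →* ↥(Cfsg.SU 3 F q))
    (hA4 : ∀ (r : ℕ) [Fact r.Prime] (z : Γ), z ∈ π.ker → z ^ r = 1 → z = 1) : ∀ z ∈ π.ker, z = 1 :=
  Cfsg.Agent.Lib.helper3.stem_ker_trivial_of_primes (σ := π) hA4

/-- A6 core -/
theorem su3ma6_core
    (hA5 : ∀ (Γ : Type u) [Group Γ] [Finite Γ] (π : Γ →* ↥(Cfsg.SU 3 F q)),
      Function.Surjective π → π.ker ≤ Subgroup.center Γ → π.ker ≤ commutator Γ → ∀ z ∈ π.ker, z = 1) :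
    Cfsg.HasCyclicSchurMultiplier ↥(Cfsg.SU 3 F q) 1 := by
  refine ⟨Cfsg.Agent.Lib.Helper21.exists_trivial_stem ↥(Cfsg.SU 3 F q), ?_⟩
  intro Γ _ _ σ hσ
  obtain ⟨hsurj, hcen, hder⟩ := hσ
  have htriv := hA5 Γ σ hsurj hcen hder
  refine ⟨1, ?_⟩
  intro y
  refine ⟨1, ?_⟩
  apply Subtype.ext
  rw [MonoidHom.one_apply]
  exact (htriv y.1 y.2).symm

/-- A7 core -/
theorem su3ma7_core (hF : Fintype.card F = q ^ 2)
    (hA6 : Cfsg.HasCyclicSchurMultiplier ↥(Cfsg.SU 3 F q) 1) (hA1 : commutator ↥(Cfsg.SU 3 F q) = ⊤) :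
    Cfsg.HasCyclicSchurMultiplier (Cfsg.PSU 3 F q) (Nat.gcd 3 (q + 1)) :=
  psu_mult hF 3 (le_refl 3) hA6 hA1

end A

section E

variable {F : Type u} [Field F] [Fintype F] {K : Type u} [Field K] [Fintype K] {q : ℕ}

/-- E4 core -/
theorem su3me4_core (hF : Fintype.card F = q ^ 2) (hq : Odd q) {hz : ↥(Cfsg.SU 3 F q)}
    {ρ : SL2 K →* ↥(Cfsg.SU 3 F q)} (hE3 : Nat.card ↥(Mg hz ρ) = q * (q ^ 2 - 1) * (q + 1)) : ¬ 2 ∣ (Mg hz ρ).index := by
  have hq1 : 1 < q := by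
    by_contra hle
    have hq' : q = 0 ∨ q = 1 := by omega
    have h2 : 2 ≤ Fintype.card F := by
      have := Fintype.one_lt_card (α := F)
      omega
    rcases hq' with h | h <;> · rw [h] at hF; omega
  have h1 := Subgroup.index_mul_card (Mg hz ρ)
  rw [hE3, card_SU3 hF] at h1
  exact Cfsg.Agent.Lib.Helper24.SU3M.nt_two q _ hq hq1 h1

end E

section P

variable {F : Type u} [Field F] [Fintype F] {K : Type u} [Field K] [Fintype K] {q : ℕ} {Γ : Type*} [Group Γ] {π : Γ →* ↥(Cfsg.SU 3 F q)}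

/-- P7 core -/
theorem su3mp7_core (D : Par F K q) (h : IsCE π) {hz : ↥(Cfsg.SU 3 F q)}
    (hP6 : ∀ {t : Γ}, π t = hz → ⁅(Bg D hz).comap π, (Bg D hz).comap π⁆ ≤ Vg D π t)
    (hP5b : ∀ {t : Γ}, π t = hz → ∀ g ∈ Vg D π t, π g = 1 → g = 1) :
    ∀ w ∈ ⁅(Bg D hz).comap π, (Bg D hz).comap π⁆, π w = 1 → w = 1 := by
  obtain ⟨t, ht⟩ := h.surj hz
  intro w hw hw1
  exact hP5b ht w (hP6 ht hw) hw1

end P

end Cfsg.Agent.Lib.Helper24.SU3M
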