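import Mathlib
import Cfsg.Agent.Lib.Helper24.SU3M.Defs
import Cfsg.Agent.Lib.Helper9.SU3MA5core
import Cfsg.Agent.Lib.helper14.SU3MU1
import Cfsg.Agent.Lib.helper14.SU3MU4
import Cfsg.Agent.Lib.helper14.SU3MP2
import Cfsg.Agent.Lib.Helper24.SU3MP3
import Cfsg.Agent.Lib.Helper26.SU3MP5acore
import Cfsg.Agent.Lib.Helper25.SU3MP5bcore
import Cfsg.Agent.Lib.helper23.SU3MP6core
import Cfsg.Agent.Lib.Helper21.SU3ME3

/-!
# Project SU3M (designer helper24; S2089), rows P7 `Bg_hS` and E4 `Mg_index` (helper9), VERBATIM.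

P7 does NOT wait for the verbatim P5a / P5b / P6: their conclusions are obtained from the landed cores (`Helper26.SU3MP5acore`, `Helper25.SU3MP5bcore`,
`helper23.SU3MP6core`) on P3 P4 (`Helper24.SU3MP3`), P2b (`helper14.SU3MP2`), U1 U2 U5 (`helper14.SU3MU1 SU3MU4`) under the own names
`su3mp7_Vg_eq su3mp7_Vg_inter su3mp7_comm_le_Vg` (= EXACT statements of P5a P5b P6).  E4 = `su3me4_core` on E3 `card_Mg` (`Helper21.SU3ME3`).
-/

set_option autoImplicit false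

namespace Cfsg.Agent.Lib.Helper24.SU3M

open Cfsg.Agent.Lib.Helper19.U3P Cfsg.Agent.Lib.Helper25.SU3P Cfsg.Agent.Lib.helper14.SU3J Cfsg.Agent.Lib.helper7.Ce Matrix Polynomial

universe u

section P

variable {F : Type u} [Field F] [Fintype F] {K : Type u} [Field K] [Fintype K] {q : ℕ} {Γ : Type*} [Group Γ] {π : Γ →* ↥(Cfsg.SU 3 F q)}

/-- own-name copy of the statement of P5a `Vg_eq` -/
theorem su3mp7_Vg_eq (D : Par F K q) (hF : Fintype.card F = q ^ 2) (hq : 3 ≤ q) (h : IsCE π) {hz : ↥(Cfsg.SU 3 F q)} (hhz : D.c.cj hz = dd D.σ (D.ζ : F))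
    {t : Γ} (ht : π t = hz) : ∀ g ∈ Vg D π t, ∃ x ∈ (Ug D).comap π, ∃ a ∈ A0 D π t, g = cm t x * a := by
  obtain ⟨hnU, hnA⟩ := su3mp5a_norm_core D hF ht (mem_Ug D) (mem_Ag D) (fun X α β hX => hz_conj D hF hhz X α β hX)
  exact su3mp5a_core D hnU hnA (NA_central D hF hq h hhz) (NU_comm D hF hq h hhz ht)

/-- own-name copy of the statement of P5b `Vg_inter` -/
theorem su3mp7_Vg_inter (D : Par F K q) (hF : Fintype.card F = q ^ 2) (hq : 3 ≤ q) (h : IsCE π) {hz : ↥(Cfsg.SU 3 F q)} (hhz : D.c.cj hz = dd D.σ (D.ζ : F))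
    {t : Γ} (ht : π t = hz) : ∀ g ∈ Vg D π t, π g = 1 → g = 1 :=
  su3mp5b_core D hF hq h hhz ht (su3mp7_Vg_eq D hF hq h hhz ht) (A0_inter D hF hq h hhz ht)

/-- own-name copy of the statement of P6 `comm_le_Vg` -/
theorem su3mp7_comm_le_Vg (D : Par F K q) (hF : Fintype.card F = q ^ 2) (hq : 3 ≤ q) (h : IsCE π) {hz : ↥(Cfsg.SU 3 F q)} (hhz : D.c.cj hz = dd D.σ (D.ζ : F))
    {t : Γ} (ht : π t = hz) : ⁅(Bg D hz).comap π, (Bg D hz).comap π⁆ ≤ Vg D π t :=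
  comm_le_Vg_core D hF hq h hhz ht (NA_central D hF hq h hhz) (NU_comm D hF hq h hhz ht)

/-- P7 [S]  `comm_le_Vg`, `Vg_inter` (`t` from `h.surj hz`). -/
theorem Bg_hS (D : Par F K q) (hF : Fintype.card F = q ^ 2) (hq : 3 ≤ q) (h : IsCE π) {hz : ↥(Cfsg.SU 3 F q)} (hhz : D.c.cj hz = dd D.σ (D.ζ : F)) :
    ∀ w ∈ ⁅(Bg D hz).comap π, (Bg D hz).comap π⁆, π w = 1 → w = 1 :=
  su3mp7_core D h (fun ht => su3mp7_comm_le_Vg D hF hq h hhz ht) (fun ht => su3mp7_Vg_inter D hF hq h hhz ht)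

end P

section E

variable {F : Type u} [Field F] [Fintype F] {K : Type u} [Field K] [Fintype K] {q : ℕ} {Γ : Type*} [Group Γ] {π : Γ →* ↥(Cfsg.SU 3 F q)}

/-- E4 [S]  `index * card = card G`; NT7. -/
theorem Mg_index (D : Par F K q) (hF : Fintype.card F = q ^ 2) (hK : Fintype.card K = q) (hq : Odd q) {ε : F} {hz : ↥(Cfsg.SU 3 F q)}
    {ρ : SL2 K →* ↥(Cfsg.SU 3 F q)} (hD : Dat D ε hz ρ) : ¬ 2 ∣ (Mg hz ρ).index :=
  su3me4_core hF hq (card_Mg D hF hK hD)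

end E

end Cfsg.Agent.Lib.Helper24.SU3M
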