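import Mathlib
import Cfsg.Agent.Lib.helper3.CEUO.Defs2
import Cfsg.Agent.Lib.Helper27.STU.Defs3
import Cfsg.Agent.Lib.Helper27.STU.Frob
import Cfsg.Agent.Lib.Helper12.SU3S.Equiv
import Cfsg.Agent.Lib.Helper12.SU3S.P2

/-!
# Project CEUO, row P6 `lam_four_gen` (helper9), verbatim from `helper3/CEUO/Skel2.lean.txt`

Own-name copy `ceuop6_four_facts` of row P2 (`four_facts`) so that the file does not wait for it.
-/

set_option autoImplicit false
set_option linter.unusedSectionVars false

namespace Cfsg.Agent.Lib.helper3.CEUO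

open Cfsg.Agent.Lib.helper15.St2 Cfsg.Agent.Lib.helper7.Ce Cfsg.Agent.Lib.helper3.STC Cfsg.Agent.Lib.Helper27.STU
  Cfsg.Agent.Lib.helper7.CEU

section P

universe u w

variable {F : Type u} [Field F] [Fintype F]

/-- own-name copy of P2 `four_facts` -/
theorem ceuop6_four_facts (hF : Fintype.card F = 2 ^ 2) {r : F} (hr : r * r = r + 1) :
    (∀ x : F, x + x = 0) ∧ (∀ x : F, x ≠ 0 → x * x * x = 1) ∧ ∀ x : F, x = 0 ∨ x = 1 ∨ x = r ∨ x = r + 1 := by
  have hcp : CharP F 2 := Cfsg.Agent.Lib.Helper25.SU3P.charP_of_card Nat.prime_two (by norm_num) hF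
  have h2 : (2 : F) = 0 := by
    have := CharP.cast_eq_zero F 2
    exact_mod_cast this
  have hadd : ∀ x : F, x + x = 0 := fun x => by linear_combination x * h2
  refine ⟨hadd, ?_, ?_⟩
  · intro x hx
    have := FiniteField.pow_card_sub_one_eq_one x hx
    rw [hF] at this
    calc x * x * x = x ^ (2 ^ 2 - 1) := by ring
      _ = 1 := this
  · intro x
    have h4 : x ^ 4 = x := by
      have := FiniteField.pow_card x
      rw [hF] at this
      simpa using this
    have hfac : x * (x + 1) * (x + r) * (x + r + 1) = 0 := by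
      linear_combination h4 + (x ^ 3 + x ^ 2 * r + x ^ 2 + x * r + x + x ^ 2 * r + x ^ 3 * r) * h2 + (x ^ 2 + x) * hr
    rcases mul_eq_zero.mp hfac with h | h
    · rcases mul_eq_zero.mp h with h | h
      · rcases mul_eq_zero.mp h with h | h
        · exact Or.inl h
        · right; left
          linear_combination h - h2
      · right; right; left
        linear_combination h - r * h2
    · right; right; right
      linear_combination h - r * h2 - h2

/-- P6 [M]  the eight elements. -/
theorem lam_four_gen (hF : Fintype.card F = 2 ^ 2) :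
    letI := frobStar hF
    ∀ p q : Lam F True, p.v = 1 → q.v = p.c → q.c = p.c → p.c * p.c = p.c + 1 →
      ∀ ξ : Lam F True, ξ ∈ Subgroup.closure ({p, q} : Set (Lam F True)) := by
  let _ := frobStar hF
  intro p q hpv hqv hqc hr ξ
  obtain ⟨hadd, hcube, hlist⟩ := ceuop6_four_facts hF hr
  have h2 : (2 : F) = 0 := by linear_combination hadd 1
  have hstar : ∀ x : F, star x = x ^ 2 := fun _ => rfl
  have hp : p ∈ Subgroup.closure ({p, q} : Set (Lam F True)) := Subgroup.subset_closure (by simp)
  have hq : q ∈ Subgroup.closure ({p, q} : Set (Lam F True)) := Subgroup.subset_closure (by simp)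
  have hξ : ξ.c + ξ.c ^ 2 + ξ.v * ξ.v ^ 2 = 0 := ξ.h
  rcases hlist ξ.v with hv | hv | hv | hv <;> rcases hlist ξ.c with hc | hc | hc | hc
  · -- (0, 0)
    have : ξ = 1 := Lam.ext hv hc
    rw [this]; exact one_mem _
  · -- (0, 1)
    have : ξ = p * p := by
      apply Lam.ext
      · rw [hv, Lam.mul_v, hpv]; linear_combination -h2
      · rw [hc, Lam.mul_c, hpv, hstar]; linear_combination (1 - p.c) * h2
    rw [this]; exact mul_mem hp hp
  · exfalso; apply one_ne_zero (α := F); rw [hv, hc] at hξ
    linear_combination hξ - p.c * h2 - hr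
  · exfalso; apply one_ne_zero (α := F); rw [hv, hc] at hξ
    linear_combination hξ - (2 * p.c + 1) * h2 - hr
  · exfalso; apply one_ne_zero (α := F); rw [hv, hc] at hξ
    linear_combination hξ
  · exfalso; apply one_ne_zero (α := F); rw [hv, hc] at hξ
    linear_combination hξ - h2
  · -- (1, r)
    have : ξ = p := Lam.ext (by rw [hv, hpv]) hc
    rw [this]; exact hp
  · -- (1, r + 1)
    have : ξ = p⁻¹ := by
      apply Lam.ext
      · rw [hv, Lam.inv_v, hpv]; linear_combination h2
      · rw [hc, Lam.inv_c, hstar]; linear_combination -hr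
    rw [this]; exact inv_mem hp
  · exfalso; apply one_ne_zero (α := F); rw [hv, hc] at hξ
    linear_combination hξ - p.c * h2 - (1 + p.c) * hr
  · exfalso; apply one_ne_zero (α := F); rw [hv, hc] at hξ
    linear_combination hξ - (1 + p.c) * h2 - (1 + p.c) * hr
  · -- (r, r)
    have : ξ = q := Lam.ext (by rw [hv, hqv]) (by rw [hc, hqc])
    rw [this]; exact hq
  · -- (r, r + 1)
    have : ξ = q⁻¹ := by
      apply Lam.ext
      · rw [hv, Lam.inv_v, hqv]; linear_combination p.c * h2
      · rw [hc, Lam.inv_c, hstar, hqc]; linear_combination -hr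
    rw [this]; exact inv_mem hq
  · exfalso; apply one_ne_zero (α := F); rw [hv, hc] at hξ
    linear_combination hξ - (4 * p.c + 2) * h2 - (4 + p.c) * hr
  · exfalso; apply one_ne_zero (α := F); rw [hv, hc] at hξ
    linear_combination hξ - (4 * p.c + 3) * h2 - (4 + p.c) * hr
  · -- (r + 1, r)
    have : ξ = q * p := by
      apply Lam.ext
      · rw [hv, Lam.mul_v, hpv, hqv]
      · rw [hc, Lam.mul_c, hpv, hqv, hqc, hstar]; ring
    rw [this]; exact mul_mem hq hp
  · -- (r + 1, r + 1)
    have : ξ = (q * p)⁻¹ := by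
      apply Lam.ext
      · rw [hv, Lam.inv_v, Lam.mul_v, hpv, hqv]; linear_combination (p.c + 1) * h2
      · rw [hc, Lam.inv_c, Lam.mul_c, hpv, hqv, hqc, hstar, hstar]; linear_combination -hr
    rw [this]; exact inv_mem (mul_mem hq hp)

end P

end Cfsg.Agent.Lib.helper3.CEUO
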