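import Mathlib
import Cfsg.Agent.Lib.helper3.CEUO.Defs2
import Cfsg.Agent.Lib.Helper27.STU.Defs3
import Cfsg.Agent.Lib.Helper27.STU.Frob
import Cfsg.Agent.Lib.Helper12.SU3S.Equiv
import Cfsg.Agent.Lib.Helper12.SU3S.P2
import Cfsg.Agent.Lib.Helper9.CEUOP6

/-!
# Project CEUO, row P7 `rels_four` (helper9), verbatim from `helper3/CEUO/Skel2.lean.txt`

* `ceuop7_swap`, `ceuop7_core`: the pure group theory (any parameter group `Λ`).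
* `ceuop7_quat_four`: own-name copy of row P5 (`quat_four`), so that the file does not wait for it.
-/

set_option autoImplicit false
set_option linter.unusedSectionVars false
set_option linter.style.haveILetI false

namespace Cfsg.Agent.Lib.helper3.CEUO

open Cfsg.Agent.Lib.helper15.St2 Cfsg.Agent.Lib.helper7.Ce Cfsg.Agent.Lib.helper3.STC Cfsg.Agent.Lib.Helper27.STU
  Cfsg.Agent.Lib.helper7.CEU

/-- the Weyl element `A = x_r y_q x_p` of `r = q p` swaps, hence `x_p y_q = y_p x_q` -/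
theorem ceuop7_swap {Δ : Type*} [Group Δ] (A xr yr xq yq xp yp : Δ) (hA : A = xr * yq * xp)
    (h1 : A * xr * A⁻¹ = yr) (h2 : A * yq * A⁻¹ = xq) (h3 : A * xp * A⁻¹ = yp)
    (h4 : xr = xq * xp) : xp * yq = yp * xq := by
  have hAA : A = yr * xq * yp := by
    calc A = A * (xr * yq * xp) * A⁻¹ := by rw [← hA]; group
      _ = (A * xr * A⁻¹) * (A * yq * A⁻¹) * (A * xp * A⁻¹) := by group
      _ = yr * xq * yp := by rw [h1, h2, h3]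
  have h5 : xq * yp * xr = A := by
    calc xq * yp * xr = yr⁻¹ * (yr * xq * yp) * xr := by group
      _ = yr⁻¹ * A * xr := by rw [← hAA]
      _ = yr⁻¹ * (A * xr * A⁻¹) * A := by group
      _ = A := by rw [h1]; group
  have h6 : xq * yp * (xq * xp) = (xq * xp) * yq * xp := by
    rw [← h4, h5, hA]
  calc xp * yq = xq⁻¹ * ((xq * xp) * yq * xp) * xp⁻¹ := by group
    _ = xq⁻¹ * (xq * yp * (xq * xp)) * xp⁻¹ := by rw [h6]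
    _ = yp * xq := by group

/-- the five relators, pure group theory -/
theorem ceuop7_core {Λ : Type*} [Group Λ] {Δ : Type*} [Group Δ] (mu nu : Λ → Λ) (nz : Λ → Prop)
    (X Y : Λ → Δ) (hX : ∀ ξ η, X (ξ * η) = X ξ * X η) (hY : ∀ ξ η, Y (ξ * η) = Y ξ * Y η)
    (hW1 : ∀ ξ η : Λ, nz ξ → (X ξ * Y (mu ξ) * X (nu ξ)) * X η * (X ξ * Y (mu ξ) * X (nu ξ))⁻¹ = Y η)
    (hW2 : ∀ ξ η : Λ, nz ξ → (X ξ * Y (mu ξ) * X (nu ξ)) * Y η * (X ξ * Y (mu ξ) * X (nu ξ))⁻¹ = X η)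
    (p q ζ₀ : Λ) (hz : nz ζ₀) (hmz : mu ζ₀ = ζ₀) (hnz : nu ζ₀ = ζ₀) (hr0 : nz (q * p)) (hmr : mu (q * p) = q)
    (hnr : nu (q * p) = p) (hpp : p * p = ζ₀) (hqq : q * q = ζ₀) (hzz : ζ₀ * ζ₀ = 1) (hqp : q * p = p⁻¹ * q) :
    X p * X p * X p * X p = 1 ∧ X p * X p * X q * X q = 1 ∧ X p * X q * X p * (X q)⁻¹ = 1 ∧
      X p * (X ζ₀ * Y ζ₀ * X ζ₀) * X q * (X ζ₀ * Y ζ₀ * X ζ₀) * (X q)⁻¹ * (X ζ₀ * Y ζ₀ * X ζ₀)⁻¹ * (X p)⁻¹ *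
        (X ζ₀ * Y ζ₀ * X ζ₀)⁻¹ = 1 ∧
      X p * X p * (X ζ₀ * Y ζ₀ * X ζ₀) * X p * X p * (X ζ₀ * Y ζ₀ * X ζ₀) * (X p)⁻¹ * (X p)⁻¹ *
        (X ζ₀ * Y ζ₀ * X ζ₀)⁻¹ = 1 := by
  have hX1 : X 1 = 1 := by
    have := hX 1 1
    rw [mul_one] at this
    exact (left_eq_mul.mp this)
  have hY1 : Y 1 = 1 := by
    have := hY 1 1
    rw [mul_one] at this
    exact (left_eq_mul.mp this)
  have hXinv : ∀ η, X η⁻¹ = (X η)⁻¹ := fun η => by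
    apply eq_inv_of_mul_eq_one_left
    rw [← hX, inv_mul_cancel, hX1]
  have hYinv : ∀ η, Y η⁻¹ = (Y η)⁻¹ := fun η => by
    apply eq_inv_of_mul_eq_one_left
    rw [← hY, inv_mul_cancel, hY1]
  have hXpp : X p * X p = X ζ₀ := by rw [← hX, hpp]
  have hXqq : X q * X q = X ζ₀ := by rw [← hX, hqq]
  have hXzz : X ζ₀ * X ζ₀ = 1 := by rw [← hX, hzz, hX1]
  have hYzz : Y ζ₀ * Y ζ₀ = 1 := by rw [← hY, hzz, hY1]
  have hXzi : (X ζ₀)⁻¹ = X ζ₀ := inv_eq_of_mul_eq_one_left hXzz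
  have hYzi : (Y ζ₀)⁻¹ = Y ζ₀ := inv_eq_of_mul_eq_one_left hYzz
  -- the Weyl element of ζ₀
  have hww : (X ζ₀ * Y ζ₀ * X ζ₀) * (X ζ₀ * Y ζ₀ * X ζ₀) = 1 := by
    calc (X ζ₀ * Y ζ₀ * X ζ₀) * (X ζ₀ * Y ζ₀ * X ζ₀)
        = X ζ₀ * Y ζ₀ * (X ζ₀ * X ζ₀) * Y ζ₀ * X ζ₀ := by group
      _ = X ζ₀ * (Y ζ₀ * Y ζ₀) * X ζ₀ := by rw [hXzz]; group
      _ = 1 := by rw [hYzz, mul_one, hXzz]
  have hwi : (X ζ₀ * Y ζ₀ * X ζ₀)⁻¹ = X ζ₀ * Y ζ₀ * X ζ₀ := inv_eq_of_mul_eq_one_left hww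
  have hwX : ∀ η, (X ζ₀ * Y ζ₀ * X ζ₀) * X η * (X ζ₀ * Y ζ₀ * X ζ₀)⁻¹ = Y η := fun η => by
    have := hW1 ζ₀ η hz
    rw [hmz, hnz] at this
    exact this
  refine ⟨?_, ?_, ?_, ?_, ?_⟩
  · calc X p * X p * X p * X p = (X p * X p) * (X p * X p) := by group
      _ = 1 := by rw [hXpp, hXzz]
  · calc X p * X p * X q * X q = (X p * X p) * (X q * X q) := by group
      _ = 1 := by rw [hXpp, hXqq, hXzz]
  · have h1 : p * q * p * q⁻¹ = 1 := by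
      calc p * q * p * q⁻¹ = p * (q * p) * q⁻¹ := by group
        _ = 1 := by rw [hqp]; group
    rw [← hXinv, ← hX, ← hX, ← hX, h1, hX1]
  · -- relator (4)
    have hsw : X p * Y q = Y p * X q := by
      refine ceuop7_swap (X (q * p) * Y q * X p) (X (q * p)) (Y (q * p)) (X q) (Y q) (X p) (Y p) rfl ?_ ?_ ?_ (hX q p)
      · have := hW1 (q * p) (q * p) hr0
        rw [hmr, hnr] at this
        exact this
      · have := hW2 (q * p) q hr0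
        rw [hmr, hnr] at this
        exact this
      · have := hW1 (q * p) p hr0
        rw [hmr, hnr] at this
        exact this
    have hq' := hwX q
    have hp' := hwX p⁻¹
    rw [hXinv, hYinv] at hp'
    calc X p * (X ζ₀ * Y ζ₀ * X ζ₀) * X q * (X ζ₀ * Y ζ₀ * X ζ₀) * (X q)⁻¹ * (X ζ₀ * Y ζ₀ * X ζ₀)⁻¹ * (X p)⁻¹ *
          (X ζ₀ * Y ζ₀ * X ζ₀)⁻¹
        = X p * ((X ζ₀ * Y ζ₀ * X ζ₀) * X q * (X ζ₀ * Y ζ₀ * X ζ₀)) * (X q)⁻¹ *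
            ((X ζ₀ * Y ζ₀ * X ζ₀)⁻¹ * (X p)⁻¹ * (X ζ₀ * Y ζ₀ * X ζ₀)⁻¹) := by group
      _ = X p * ((X ζ₀ * Y ζ₀ * X ζ₀) * X q * (X ζ₀ * Y ζ₀ * X ζ₀)⁻¹) * (X q)⁻¹ *
            ((X ζ₀ * Y ζ₀ * X ζ₀) * (X p)⁻¹ * (X ζ₀ * Y ζ₀ * X ζ₀)⁻¹) := by rw [hwi]
      _ = X p * Y q * (X q)⁻¹ * (Y p)⁻¹ := by rw [hq', hp']
      _ = 1 := by rw [hsw]; group
  · -- relator (5)
    have hz' := hwX ζ₀
    calc X p * X p * (X ζ₀ * Y ζ₀ * X ζ₀) * X p * X p * (X ζ₀ * Y ζ₀ * X ζ₀) * (X p)⁻¹ * (X p)⁻¹ *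
          (X ζ₀ * Y ζ₀ * X ζ₀)⁻¹
        = (X p * X p) * (X ζ₀ * Y ζ₀ * X ζ₀) * (X p * X p) * (X ζ₀ * Y ζ₀ * X ζ₀) * (X p * X p)⁻¹ *
            (X ζ₀ * Y ζ₀ * X ζ₀)⁻¹ := by group
      _ = X ζ₀ * (X ζ₀ * Y ζ₀ * X ζ₀) * X ζ₀ * (X ζ₀ * Y ζ₀ * X ζ₀) * (X ζ₀)⁻¹ *
            (X ζ₀ * Y ζ₀ * X ζ₀)⁻¹ := by rw [hXpp]
      _ = X ζ₀ * ((X ζ₀ * Y ζ₀ * X ζ₀) * X ζ₀ * (X ζ₀ * Y ζ₀ * X ζ₀)⁻¹) *
            ((X ζ₀ * Y ζ₀ * X ζ₀) * (X ζ₀ * Y ζ₀ * X ζ₀)) * (X ζ₀)⁻¹ * (X ζ₀ * Y ζ₀ * X ζ₀)⁻¹ := by group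
      _ = X ζ₀ * Y ζ₀ * (X ζ₀)⁻¹ * (X ζ₀ * Y ζ₀ * X ζ₀)⁻¹ := by rw [hz', hww, mul_one]
      _ = (X ζ₀ * Y ζ₀ * X ζ₀) * (X ζ₀ * Y ζ₀ * X ζ₀) := by rw [hXzi, hwi]
      _ = 1 := hww

section P

universe u w

variable {F : Type u} [Field F] [Fintype F]

/-- own-name copy of P5 `quat_four` -/
theorem ceuop7_quat_four (hF : Fintype.card F = 2 ^ 2) :
    letI := frobStar hF
    ∀ p q ζ₀ : Lam F True, p.v = 1 → q.v = p.c → q.c = p.c → p.c * p.c = p.c + 1 → ζ₀.v = 0 → ζ₀.c = 1 →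
      Lam.mu ζ₀ = ζ₀ ∧ Lam.nu ζ₀ = ζ₀ ∧ (q * p).c ≠ 0 ∧ Lam.mu (q * p) = q ∧ Lam.nu (q * p) = p ∧ p * p = ζ₀ ∧ q * q = ζ₀ ∧
        ζ₀ * ζ₀ = 1 ∧ q * p = p⁻¹ * q := by
  let _ := frobStar hF
  intro p q ζ₀ hpv hqv hqc hr hzv hzc
  obtain ⟨hadd, hcube, hlist⟩ := ceuop6_four_facts hF hr
  have h2 : (2 : F) = 0 := by linear_combination hadd 1
  have hstar : ∀ x : F, star x = x ^ 2 := fun _ => rfl
  have hr0 : p.c ≠ 0 := by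
    intro h
    rw [h] at hr
    apply one_ne_zero (α := F)
    linear_combination -hr
  have hrinv : (p.c)⁻¹ = p.c + 1 := by
    apply inv_eq_of_mul_eq_one_right
    linear_combination hr + p.c * h2
  have hr2inv : (p.c ^ 2)⁻¹ = p.c := by
    apply inv_eq_of_mul_eq_one_right
    linear_combination (p.c + 1) * hr + p.c * h2
  have hqpc : (q * p).c = p.c := by
    rw [Lam.mul_c, hpv, hqv, hqc, hstar]; ring
  have hqpv : (q * p).v = p.c + 1 := by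
    rw [Lam.mul_v, hpv, hqv]
  refine ⟨?_, ?_, ?_, ?_, ?_, ?_, ?_, ?_, ?_⟩
  · apply Lam.ext
    · rw [Lam.mu_v, hzv, hzc]; simp
    · rw [Lam.mu_c, hzc, hstar]; simp
  · apply Lam.ext
    · rw [Lam.nu_v, hzv, hzc]; simp
    · rfl
  · rw [hqpc]; exact hr0
  · apply Lam.ext
    · rw [Lam.mu_v, hqpv, hqpc, hqv, div_eq_mul_inv, hrinv]
      linear_combination (-1 : F) * hr - (p.c + 1) * h2 - p.c * h2
    · rw [Lam.mu_c, hqpc, hqc, hstar, hr2inv]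
  · apply Lam.ext
    · rw [Lam.nu_v, hqpv, hqpc, hpv, hstar, div_eq_mul_inv, hrinv]
      linear_combination (p.c ^ 2 + 3 * p.c + 3) * hr + (2 * p.c + 1) * h2 + (p.c + p.c ^ 2) * h2
    · exact hqpc
  · apply Lam.ext
    · rw [Lam.mul_v, hpv, hzv]; linear_combination h2
    · rw [Lam.mul_c, hpv, hzc, hstar]; linear_combination (p.c - 1) * h2
  · apply Lam.ext
    · rw [Lam.mul_v, hqv, hzv]; linear_combination p.c * h2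
    · rw [Lam.mul_c, hqv, hqc, hzc, hstar]; linear_combination (-p.c - 1) * hr - h2
  · apply Lam.ext
    · rw [Lam.mul_v, hzv, Lam.one_v]; ring
    · rw [Lam.mul_c, hzv, hzc, Lam.one_c]; linear_combination h2
  · apply Lam.ext
    · rw [Lam.mul_v, Lam.mul_v, Lam.inv_v, hpv, hqv]; linear_combination h2
    · rw [Lam.mul_c, Lam.mul_c, Lam.inv_c, Lam.inv_v, hpv, hqv, hqc]
      simp only [hstar]
      linear_combination (-p.c ^ 2) * h2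

/-- P7 [M]  the five relators hold in `Δ`. -/
theorem rels_four (hF : Fintype.card F = 2 ^ 2) {Δ : Type w} [Group Δ] :
    letI := frobStar hF
    ∀ (X Y : Lam F True → Δ), (∀ ξ η, X (ξ * η) = X ξ * X η) → (∀ ξ η, Y (ξ * η) = Y ξ * Y η) →
      (∀ ξ η : Lam F True, ξ.c ≠ 0 → cj (X ξ * Y (Lam.mu ξ) * X (Lam.nu ξ)) (X η) = Y η) →
      (∀ ξ η : Lam F True, ξ.c ≠ 0 → cj (X ξ * Y (Lam.mu ξ) * X (Lam.nu ξ)) (Y η) = X η) →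
      ∀ p q ζ₀ : Lam F True, p.v = 1 → q.v = p.c → q.c = p.c → p.c * p.c = p.c + 1 → ζ₀.v = 0 → ζ₀.c = 1 →
        X p * X p * X p * X p = 1 ∧ X p * X p * X q * X q = 1 ∧ X p * X q * X p * (X q)⁻¹ = 1 ∧
          X p * (X ζ₀ * Y ζ₀ * X ζ₀) * X q * (X ζ₀ * Y ζ₀ * X ζ₀) * (X q)⁻¹ * (X ζ₀ * Y ζ₀ * X ζ₀)⁻¹ * (X p)⁻¹ *
            (X ζ₀ * Y ζ₀ * X ζ₀)⁻¹ = 1 ∧
          X p * X p * (X ζ₀ * Y ζ₀ * X ζ₀) * X p * X p * (X ζ₀ * Y ζ₀ * X ζ₀) * (X p)⁻¹ * (X p)⁻¹ *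
            (X ζ₀ * Y ζ₀ * X ζ₀)⁻¹ = 1 := by
  let _ := frobStar hF
  intro X Y hX hY hW1 hW2 p q ζ₀ hpv hqv hqc hr hzv hzc
  obtain ⟨hmz, hnz, hr0, hmr, hnr, hpp, hqq, hzz, hqp⟩ := ceuop7_quat_four hF p q ζ₀ hpv hqv hqc hr hzv hzc
  exact ceuop7_core Lam.mu Lam.nu (fun ξ => ξ.c ≠ 0) X Y hX hY hW1 hW2 p q ζ₀ (by rw [hzc]; exact one_ne_zero)
    hmz hnz hr0 hmr hnr hpp hqq hzz hqp

end P

end Cfsg.Agent.Lib.helper3.CEUO
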