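import Mathlib
import Cfsg.Prelude.Def_Classical
import Cfsg.Agent.Lib.helper23.P4V.Defs

/-!
# P4V row II1 (helper9): `selfadj_of_alt`, `sq_of_alt`.
Own extras are prefixed `p4vii1_` (private copies of the bilinearity / invariance / nondegeneracy
facts of `om`, so that this file depends on `Defs` only).
-/

set_option autoImplicit false

namespace Cfsg.Agent.Lib.helper23.P4V

open Matrix

universe u

section Field

variable {F : Type u} [Field F]

theorem p4vii1_om_add_left (u u' v : V F) : om (u + u') v = om u v + om u' v := by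
  unfold om; simp only [Pi.add_apply]; ring

theorem p4vii1_om_add_right (u v v' : V F) : om u (v + v') = om u v + om u v' := by
  unfold om; simp only [Pi.add_apply]; ring

theorem p4vii1_om_sub_right (u v v' : V F) : om u (v - v') = om u v - om u v' := by
  unfold om; simp only [Pi.sub_apply]; ring

theorem p4vii1_om_sub_left (u u' v : V F) : om (u - u') v = om u v - om u' v := by
  unfold om; simp only [Pi.sub_apply]; ring

theorem p4vii1_om_smul_right (c : F) (u v : V F) : om u (c • v) = c * om u v := by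
  unfold om; simp only [Pi.smul_apply, smul_eq_mul]; ring

theorem p4vii1_om_neg_left (u v : V F) : om (-u) v = -om u v := by
  unfold om; simp only [Pi.neg_apply]; ring

theorem p4vii1_om_swap (u v : V F) : om v u = -om u v := by
  unfold om; ring

theorem p4vii1_om_eq (u v : V F) : om u v = -(u ⬝ᵥ (Matrix.J (Fin 2) F) *ᵥ v) := by
  unfold om
  simp [Matrix.J, dotProduct, Matrix.mulVec, Fintype.sum_sum_type, Fin.sum_univ_two,
    Matrix.fromBlocks, Matrix.one_apply]
  ring

theorem p4vii1_om_mulVec (g : M4 F) (hg : g ∈ Matrix.symplecticGroup (Fin 2) F) (u v : V F) :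
    om (g *ᵥ u) (g *ᵥ v) = om u v := by
  rw [p4vii1_om_eq, p4vii1_om_eq]
  have h := (SymplecticGroup.mem_iff'.mp hg)
  congr 1
  rw [Matrix.mulVec_mulVec, Matrix.dotProduct_mulVec, Matrix.vecMul_mulVec,
    ← Matrix.dotProduct_mulVec, ← Matrix.mul_assoc, h]

theorem p4vii1_om_nondeg (u : V F) (hu : u ≠ 0) : ∃ w : V F, om u w = 1 := by
  have hex : ∃ k, u k ≠ 0 := by
    by_contra hcon
    push Not at hcon
    exact hu (funext hcon)
  obtain ⟨k, hk⟩ := hex
  rcases k with i | i
  · fin_cases i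
    · refine ⟨fun j => if j = Sum.inr 0 then (u (Sum.inl 0))⁻¹ else 0, ?_⟩
      unfold om
      simp
      exact mul_inv_cancel₀ hk
    · refine ⟨fun j => if j = Sum.inr 1 then (u (Sum.inl 1))⁻¹ else 0, ?_⟩
      unfold om
      simp
      exact mul_inv_cancel₀ hk
  · fin_cases i
    · refine ⟨fun j => if j = Sum.inl 0 then -(u (Sum.inr 0))⁻¹ else 0, ?_⟩
      unfold om
      simp
      exact mul_inv_cancel₀ hk
    · refine ⟨fun j => if j = Sum.inl 1 then -(u (Sum.inr 1))⁻¹ else 0, ?_⟩
      unfold om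
      simp
      exact mul_inv_cancel₀ hk

/-- **II1** (both).  Polarise `om (u+v) (g (u+v)) = 0`: `om u (g v) = -om v (g u) = om (g u) v`.  Then
`om u (g (g w)) = om (g u) (g w) = om u w` for all `u`, so `g g w = w` (OM3). -/
theorem selfadj_of_alt (g : M4 F) (halt : ∀ v : V F, om v (g *ᵥ v) = 0) (u v : V F) :
    om u (g *ᵥ v) = om (g *ᵥ u) v := by
  have h := halt (u + v)
  rw [Matrix.mulVec_add, p4vii1_om_add_left, p4vii1_om_add_right, p4vii1_om_add_right, halt u,
    halt v] at h
  rw [p4vii1_om_swap v (g *ᵥ u)]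
  linear_combination h

theorem sq_of_alt (g : M4 F) (hg : g ∈ Matrix.symplecticGroup (Fin 2) F)
    (halt : ∀ v : V F, om v (g *ᵥ v) = 0) : g * g = 1 := by
  rw [Matrix.ext_iff_mulVec]
  intro w
  rw [Matrix.one_mulVec, ← Matrix.mulVec_mulVec]
  by_contra hne
  have hx : g *ᵥ (g *ᵥ w) - w ≠ 0 := sub_ne_zero.mpr hne
  obtain ⟨z, hz⟩ := p4vii1_om_nondeg _ hx
  have h1 : om z (g *ᵥ (g *ᵥ w)) = om z w := by
    rw [selfadj_of_alt g halt z (g *ᵥ w), p4vii1_om_mulVec g hg]
  have h2 : om (g *ᵥ (g *ᵥ w) - w) z = 0 := by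
    rw [p4vii1_om_swap z, p4vii1_om_sub_right, h1, sub_self, neg_zero]
  rw [h2] at hz
  exact zero_ne_one hz

end Field

end Cfsg.Agent.Lib.helper23.P4V
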