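import Mathlib
import Cfsg.Prelude.Def_Classical
import Cfsg.Agent.Lib.helper23.P4V.Defs
import Cfsg.Agent.Lib.Helper9.P4VII1

/-!
# P4V row OM3 (helper9, spare second write): `om_nondeg`.
-/

set_option autoImplicit false

namespace Cfsg.Agent.Lib.helper23.P4V

open Matrix

universe u

section Field

variable {F : Type u} [Field F]

/-- **OM3**.  Some coordinate of `u` is nonzero: pair with the dual standard basis vector, scale. -/
theorem om_nondeg (u : V F) (hu : u ≠ 0) : ∃ w : V F, om u w = 1 :=
  p4vii1_om_nondeg u hu

end Field

end Cfsg.Agent.Lib.helper23.P4V
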