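import Mathlib
import Cfsg.Agent.Lib.Helper19.U3P.Defs

/-!
# U3P F14 (verbatim): a field with 8 elements is spanned over `F_2` by `1, b, b²` (`b` a generator)
-/

set_option autoImplicit false

namespace Cfsg.Agent.Lib.Helper19.U3P

open Cfsg.Agent.Lib.helper17.SLP Cfsg.Agent.Lib.helper14.SU3J Cfsg.Agent.Lib.Helper25.SU3P
open Polynomial Matrix

universe u v

theorem u3pf14_zmod2 (c : ZMod 2) : c = 0 ∨ c = 1 := by
  revert c
  decide

section F

variable {F : Type u} [Field F] [Fintype F] {K : Type u} [Field K] [Fintype K] {q : ℕ}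

omit [Fintype K] in
theorem u3pf14_core (h2 : (2 : K) = 0) (b : K) (hb0 : b ≠ 0) (hb1 : b ≠ 1) (hb7 : b ^ 7 = 1)
    (c0 c1 c2 : K) (h0 : c0 = 0 ∨ c0 = 1) (h1 : c1 = 0 ∨ c1 = 1) (h2' : c2 = 0 ∨ c2 = 1)
    (h : c0 + c1 * b + c2 * b ^ 2 = 0) : c0 = 0 ∧ c1 = 0 ∧ c2 = 0 := by
  have hneg : (-1 : K) = 1 := by
    have : (1 : K) + 1 = 0 := by rw [← h2]; norm_num
    exact neg_eq_of_add_eq_zero_left this
  rcases h0 with rfl | rfl <;> rcases h1 with rfl | rfl <;> rcases h2' with rfl | rfl
  · exact ⟨rfl, rfl, rfl⟩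
  · exfalso
    simp only [zero_mul, add_zero, zero_add, one_mul] at h
    exact hb0 ((pow_eq_zero_iff (two_ne_zero)).mp h)
  · exfalso
    simp only [zero_mul, add_zero, zero_add, one_mul] at h
    exact hb0 h
  · exfalso
    simp only [zero_add, one_mul] at h
    have h3 : b * (1 + b) = 0 := by rw [← h]; ring
    rcases mul_eq_zero.mp h3 with h4 | h4
    · exact hb0 h4
    · apply hb1
      have : b = -1 := by linear_combination h4
      rw [this, hneg]
  · exfalso
    simp only [zero_mul, add_zero] at h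
    exact one_ne_zero h
  · exfalso
    simp only [zero_mul, add_zero, one_mul] at h
    have hb2 : b ^ 2 = 1 := by
      have : b ^ 2 = -1 := by linear_combination h
      rw [this, hneg]
    apply hb1
    have h7 : b ^ 7 = (b ^ 2) ^ 3 * b := by ring
    rw [h7, hb2, one_pow, one_mul] at hb7
    exact hb7
  · exfalso
    simp only [zero_mul, add_zero, one_mul] at h
    apply hb1
    have : b = -1 := by linear_combination h
    rw [this, hneg]
  · exfalso
    simp only [one_mul] at h
    have hb3 : b ^ 3 = 1 := by linear_combination (b - 1) * h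
    apply hb1
    have h7 : b ^ 7 = (b ^ 3) ^ 2 * b := by ring
    rw [h7, hb3, one_pow, one_mul] at hb7
    exact hb7

/-- F14 [M]  `K` has `8 = 2³` elements, `bK` has order `7`; `A := {e₀ + e₁ bK + e₂ bK² | e_i ∈ {0,1}}` is closed under addition (char 2) — or: `1, bK, bK²` are linearly independent over `ZMod 2` (`bK` is not a root of a polynomial of degree `≤ 2`:
else `ZMod 2 [bK]` has `≤ 4` elements but contains the `7` powers of `bK`), so they span the `3`-dimensional space. -/
theorem K8_span (hK : Fintype.card K = 8) (bK : Kˣ) (hbK : ∀ y : Kˣ, y ∈ Subgroup.zpowers bK) :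
    ∀ t : K, ∃ e₀ e₁ e₂ : ℕ, t = e₀ + e₁ * (bK : K) + e₂ * (bK : K) ^ 2 := by
  classical
  -- characteristic 2
  obtain ⟨p, hp⟩ := CharP.exists K
  obtain ⟨n, hpp, hcard⟩ := FiniteField.card K p
  have hp2 : p = 2 := by
    have h8 : p ∣ 2 ^ 3 := by
      have : p ∣ p ^ (n : ℕ) := dvd_pow_self p (PNat.ne_zero n)
      rw [← hcard, hK] at this
      exact this
    exact (Nat.prime_dvd_prime_iff_eq hpp Nat.prime_two).mp (hpp.dvd_of_dvd_pow h8)
  subst hp2
  have h2 : (2 : K) = 0 := by
    have := CharP.cast_eq_zero K 2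
    exact_mod_cast this
  -- the generator
  have hcu : Fintype.card Kˣ = 7 := by rw [Fintype.card_units, hK]
  have hb7u : bK ^ 7 = 1 := by rw [← hcu]; exact pow_card_eq_one
  have hb7 : (bK : K) ^ 7 = 1 := by
    have := congrArg (fun x : Kˣ => (x : K)) hb7u
    simpa using this
  have hb1u : bK ≠ 1 := by
    intro h1
    obtain ⟨y, hy⟩ := Fintype.exists_ne_of_one_lt_card (by rw [hcu]; norm_num : 1 < Fintype.card Kˣ) (1 : Kˣ)
    obtain ⟨k, hk⟩ := Subgroup.mem_zpowers_iff.mp (hbK y)
    rw [h1, _root_.one_zpow] at hk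
    exact hy hk.symm
  have hb1 : (bK : K) ≠ 1 := by
    intro h
    exact hb1u (Units.ext h)
  have hb0 : (bK : K) ≠ 0 := bK.ne_zero
  -- the map
  let cst : ZMod 2 →+* K := ZMod.castHom (dvd_refl 2) K
  let φ : (ZMod 2 × ZMod 2 × ZMod 2) →+ K :=
    { toFun := fun c => cst c.1 + cst c.2.1 * (bK : K) + cst c.2.2 * (bK : K) ^ 2
      map_zero' := by simp
      map_add' := by
        intro c c'
        simp only [Prod.fst_add, Prod.snd_add, map_add]
        ring }
  have hcst : ∀ c : ZMod 2, cst c = 0 ∨ cst c = 1 := by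
    intro c
    rcases u3pf14_zmod2 c with rfl | rfl
    · left; exact map_zero cst
    · right; exact map_one cst
  have hcst0 : ∀ c : ZMod 2, cst c = 0 → c = 0 := by
    intro c hc
    rcases u3pf14_zmod2 c with rfl | rfl
    · rfl
    · rw [map_one] at hc
      exact absurd hc one_ne_zero
  have hinj : Function.Injective φ := by
    rw [injective_iff_map_eq_zero]
    rintro ⟨c0, c1, c2⟩ hc
    have hc' : cst c0 + cst c1 * (bK : K) + cst c2 * (bK : K) ^ 2 = 0 := hc
    obtain ⟨e0, e1, e2⟩ := u3pf14_core h2 (bK : K) hb0 hb1 hb7 _ _ _ (hcst c0) (hcst c1) (hcst c2) hc'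
    rw [hcst0 c0 e0, hcst0 c1 e1, hcst0 c2 e2]
    rfl
  have hbij : Function.Bijective φ := by
    rw [Fintype.bijective_iff_injective_and_card]
    refine ⟨hinj, ?_⟩
    rw [hK]
    simp [ZMod.card]
  intro t
  obtain ⟨⟨c0, c1, c2⟩, hc⟩ := hbij.2 t
  refine ⟨c0.val, c1.val, c2.val, ?_⟩
  rw [← hc]
  show cst c0 + cst c1 * (bK : K) + cst c2 * (bK : K) ^ 2 = _
  simp only [cst, ZMod.castHom_apply, ZMod.natCast_val]

end F

end Cfsg.Agent.Lib.Helper19.U3P
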