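import Mathlib
import Cfsg.Agent.Lib.helper17.SLP.Defs
import Cfsg.Agent.Lib.helper3.SP4.Defs
import Cfsg.Agent.Lib.Helper22.SU4.Defs
import Cfsg.Agent.Lib.Helper27.STU.Defs
import Cfsg.Agent.Lib.Helper27.STU.Defs3
import Cfsg.Agent.Lib.Helper19.SU5.Defs
import Cfsg.Prelude.Def_Classical
import Cfsg.Agent.Lib.Helper22.SU5F4
import Cfsg.Agent.Lib.Helper28.SP4R3
import Cfsg.Agent.Lib.Helper27.STUQ1

/-!
# Project SU5 (designer helper19; odd side of S2291), rows UF1 (= F1 `ro_basicU`), UF2 (= F2 `kap_neU`), W1 (`wact_aU`), W2 (`wact_b_ydU`) (helper9), VERBATIM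
vs `Helper19/SU5/Skel1.lean.txt`.  On helper22's F4 (`Helper22.SU5F4`: `lam_gen_FU` + extras), SP4 `r_basic` (`Helper28.SP4R3`), STU `stuq1_XpM_mul`.
-/

set_option autoImplicit false
set_option linter.unusedSectionVars false

namespace Cfsg.Agent.Lib.Helper19.SU5

open Cfsg.Agent.Lib.helper17.SLP Cfsg.Agent.Lib.helper3.SP4 Cfsg.Agent.Lib.Helper22.SU4
open Cfsg.Agent.Lib.Helper27.STU (Lam XpM XmM XpS XmS SUm XpU XmU)

universe u v

section F

variable {F : Type u} {K : Type u} [Field F] [Field K] [StarRing F] {D : Tw F K}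

/-- F1 [S-M]  `P.hσ`, `D.fix`, `D.hnm`; `Lam.tr_c`; `κ = ζ - star ζ`. -/
theorem ro_basicU (P : RO D) :
    (∀ y : K, star (D.ι y) = D.ι y) ∧ star P.kap = -P.kap ∧
      (∀ u : K, (Lam.tr ((P.ζ : F) * D.ι u) : Lam F True).c = P.kap * D.ι u) ∧
      (∀ u : K, (Lam.tr ((P.ζ : F) * D.ι u) : Lam F True).v = 0) ∧
      (∀ x : F, star x = x → ∃ y : K, D.ι y = x) ∧ (∀ s : Fˣ, ((D.σu s : Fˣ) : F) = star (s : F)) ∧
      (∀ s : Fˣ, ((D.ιu (D.nmu s) : Fˣ) : F) = (s : F) * star (s : F)) ∧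
      (∀ k : Kˣ, star ((D.ιu k : Fˣ) : F) = ((D.ιu k : Fˣ) : F)) := by
  refine ⟨su5f4_star_iota P, su5f4_star_kap P, ?_, fun _ => rfl, ?_, ?_, ?_, ?_⟩
  · intro u
    rw [Lam.tr_c, star_mul', su5f4_star_iota P]
    unfold RO.kap
    ring
  · intro x hx
    rw [← P.hσ] at hx
    exact (D.fix x).1 hx
  · intro s
    rw [Tw.σu_coe, P.hσ]
  · intro s
    rw [Tw.ιu_coe, Tw.nmu_coe, D.hnm, P.hσ]
  · intro k
    rw [Tw.ιu_coe]
    exact su5f4_star_iota P _

/-- F2 [S-M]  `κ ≠ 0`, and every skew `c` is `κ ι u`. -/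
theorem kap_neU [Fintype F] [Fintype K] (hFK : Fintype.card F = Fintype.card K ^ 2) (P : RO D) :
    P.kap ≠ 0 ∧ ∀ c : F, star c = -c → ∃ u : K, c = P.kap * D.ι u :=
  ⟨su5f4_kap_ne hFK P, fun c hc => su5f4_skew hFK P c hc⟩

end F

section W

variable {F : Type u} {K : Type u} [Field F] [Field K] [StarRing F] [Fintype F] [Fintype K] {D : Tw F K}
  {G : Type v} [Group G]

/-- W1 [S-M]  `a_d`: the definition of `y_d`.  `a_b`: `w_a² = h_a(-1)` acts on `y_d` through `act (-1)`. -/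
theorem wact_aU (P : RO D) (φa : Matrix.SpecialLinearGroup (Fin 2) F →* G) (φb : ↥(SUm F True) →* G)
    (R : TorU P φa φb) :
    (∀ ξ, rn φa * yb φb ξ * (rn φa)⁻¹ = ydU φa φb (Lam.act (-1) ξ)) ∧
      ∀ ξ, rn φa * ydU φa φb ξ * (rn φa)⁻¹ = yb φb ξ := by
  constructor
  · intro ξ
    have hsq : rn φa ^ 2 = rh φa (-1) := (r_basic φa).2.2.2.2.2.2.2.2.2
    have h1 := R.a_yd (-1) ξ
    rw [Units.val_neg, Units.val_one, ← hsq] at h1
    rw [← h1]
    unfold ydU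
    group
  · intro ξ
    unfold ydU
    group

omit [Fintype F] [Fintype K] in
/-- `y_d` is multiplicative -/
theorem su5w2_yd_mul (φa : Matrix.SpecialLinearGroup (Fin 2) F →* G) (φb : ↥(SUm F True) →* G) (ξ η : Lam F True) :
    ydU φa φb (ξ * η) = ydU φa φb ξ * ydU φa φb η := by
  have h : XpU (ξ * η) = XpU ξ * XpU η := by
    apply Subtype.ext
    apply Subtype.ext
    show XpM (ξ * η) = XpM ξ * XpM η
    exact (Cfsg.Agent.Lib.Helper27.STU.stuq1_XpM_mul ξ η).symm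
  unfold ydU yb
  rw [h, map_mul]
  group

omit [Fintype F] [Fintype K] in
/-- `y_d` as a homomorphism -/
theorem su5w2_yd_hom (φa : Matrix.SpecialLinearGroup (Fin 2) F →* G) (φb : ↥(SUm F True) →* G) :
    ∃ f : Lam F True →* G, ∀ ξ, f ξ = ydU φa φb ξ :=
  ⟨MonoidHom.mk' (ydU φa φb) (su5w2_yd_mul φa φb), fun _ => rfl⟩

/-- W2 [M]  `w_b` centralises `y_d`. -/
theorem wact_b_ydU (hFK : Fintype.card F = Fintype.card K ^ 2) (P : RO D)
    (φa : Matrix.SpecialLinearGroup (Fin 2) F →* G) (φb : ↥(SUm F True) →* G) (H : HypU P φa φb)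
    (R : TorU P φa φb) : ∀ ξ, rn (phiL P φb) * ydU φa φb ξ * (rn (phiL P φb))⁻¹ = ydU φa φb ξ := by
  obtain ⟨f, hf⟩ := su5w2_yd_hom φa φb
  -- the subgroup of the parameters whose `y_d` commutes with `w_b`
  let Ξ : Subgroup (Lam F True) :=
    { carrier := {ξ | Commute (rn (phiL P φb)) (f ξ)}
      mul_mem' := by
        intro a b ha hb
        show Commute _ (f (a * b))
        rw [map_mul]
        exact Commute.mul_right ha hb
      one_mem' := by
        show Commute _ (f 1)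
        rw [map_one]
        exact Commute.one_right _
      inv_mem' := by
        intro a ha
        show Commute _ (f a⁻¹)
        rw [map_inv]
        exact Commute.inv_right ha }
  have hmem : ∀ ξ, ξ ∈ Ξ ↔ Commute (rn (phiL P φb)) (ydU φa φb ξ) := by
    intro ξ
    show Commute _ (f ξ) ↔ _
    rw [hf]
  have h1 : P.ξ₁ ∈ Ξ := (hmem _).2 H.U5
  have hstab : ∀ s : Fˣ, Lam.act (s : F) P.ξ₁ ∈ Ξ := by
    intro s
    rw [hmem]
    set τ := rh φa s with hτ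
    set h' := hbF P φb (D.ιu (D.nmu s)) with hh'
    set wb := rn (phiL P φb) with hwb
    have hc0 : Commute wb (ydU φa φb P.ξ₁) := H.U5
    have hτh : Commute τ h' := R.comm s _
    have e1 : τ * wb * τ⁻¹ = wb * h' := by
      have this : wb⁻¹ * τ * wb = τ * h' := R.wb_ha' s
      have e : τ * wb = wb * (τ * h') := by
        rw [← this]; group
      calc τ * wb * τ⁻¹ = wb * (τ * h') * τ⁻¹ := by rw [e]
        _ = wb * (h' * τ) * τ⁻¹ := by rw [hτh.eq]
        _ = wb * h' := by group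
    have e2 : τ * ydU φa φb P.ξ₁ * τ⁻¹ = ydU φa φb (Lam.act (s : F) P.ξ₁) := R.a_yd s P.ξ₁
    -- conjugate the base relation by `τ`
    have hc1 : Commute (wb * h') (ydU φa φb (Lam.act (s : F) P.ξ₁)) := by
      rw [← e1, ← e2]
      unfold Commute SemiconjBy at hc0 ⊢
      calc τ * wb * τ⁻¹ * (τ * ydU φa φb P.ξ₁ * τ⁻¹) = τ * (wb * ydU φa φb P.ξ₁) * τ⁻¹ := by group
        _ = τ * (ydU φa φb P.ξ₁ * wb) * τ⁻¹ := by rw [hc0]
        _ = τ * ydU φa φb P.ξ₁ * τ⁻¹ * (τ * wb * τ⁻¹) := by group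
    -- `h'` centralises `y_d`
    have hk : ((D.ιu (D.nmu s) : Fˣ) : F) / star ((D.ιu (D.nmu s) : Fˣ) : F) = 1 := by
      rw [(ro_basicU P).2.2.2.2.2.2.2 (D.nmu s)]
      exact div_self (Units.ne_zero _)
    have hc2 : Commute h' (ydU φa φb (Lam.act (s : F) P.ξ₁)) := by
      have this : h' * ydU φa φb (Lam.act (s : F) P.ξ₁) * h'⁻¹ =
          ydU φa φb (Lam.act (((D.ιu (D.nmu s) : Fˣ) : F) / star ((D.ιu (D.nmu s) : Fˣ) : F)) (Lam.act (s : F) P.ξ₁)) :=
        R.b_yd (D.ιu (D.nmu s)) (Lam.act (s : F) P.ξ₁)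
      rw [hk] at this
      have e3 : Lam.act (1 : F) (Lam.act (s : F) P.ξ₁) = Lam.act (s : F) P.ξ₁ := by
        apply Lam.ext <;> simp [Lam.act]
      rw [e3] at this
      unfold Commute SemiconjBy
      calc h' * ydU φa φb (Lam.act (s : F) P.ξ₁)
          = (h' * ydU φa φb (Lam.act (s : F) P.ξ₁) * h'⁻¹) * h' := by group
        _ = ydU φa φb (Lam.act (s : F) P.ξ₁) * h' := by rw [this]
    have hc3 := hc1.mul_left hc2.inv_left
    rwa [mul_inv_cancel_right] at hc3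
  have hv : P.ξ₁.v ≠ 0 := by rw [P.hv₁]; exact one_ne_zero
  have htop : Ξ = ⊤ := lam_gen_FU hFK P P.ξ₁ hv Ξ hstab
  intro ξ
  have hξ : ξ ∈ Ξ := by rw [htop]; exact Subgroup.mem_top ξ
  have hc := (hmem ξ).1 hξ
  rw [hc.eq, mul_inv_cancel_right]

end W

end Cfsg.Agent.Lib.Helper19.SU5
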