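import Mathlib
import Cfsg.Agent.Lib.helper17.SLP.Defs
import Cfsg.Agent.Lib.helper3.SP4.Defs
import Cfsg.Agent.Lib.Helper22.SU4.Defs
import Cfsg.Agent.Lib.Helper27.STU.Defs
import Cfsg.Agent.Lib.Helper27.STU.Defs3
import Cfsg.Agent.Lib.Helper19.SU5.Defs
import Cfsg.Prelude.Def_Classical
import Cfsg.Agent.Lib.Helper25.SU5T4
import Cfsg.Agent.Lib.helper8.SU4T8
import Cfsg.Agent.Lib.Helper5.SU4W4
import Cfsg.Agent.Lib.helper8.SU4C8

/-!
# Project SU5 (designer helper19; odd side of S2291), row T5 (`su4_of_hypU`) (helper9), VERBATIM vs `Helper19/SU5/Skel1.lean.txt`: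
T4 `hypT_of_hypU` (`Helper25.SU5T4`) + SU4 T8 `tor4T`, W4 `wact4T`, C8 `comm4T`.
-/

set_option autoImplicit false

namespace Cfsg.Agent.Lib.Helper19.SU5

open Cfsg.Agent.Lib.helper17.SLP Cfsg.Agent.Lib.helper3.SP4 Cfsg.Agent.Lib.Helper22.SU4
open Cfsg.Agent.Lib.Helper27.STU (Lam XpM XmM XpS XmS SUm XpU XmU)

universe u v

section T

variable {F : Type u} {K : Type u} [Field F] [Field K] [StarRing F] [Fintype F] [Fintype K] {D : Tw F K}
  {G : Type v} [Group G]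

/-- T5 core: from `HypT` for the pair `(φa, φb ∘ ιL)` -/
theorem su5t5_core (hFK : Fintype.card F = Fintype.card K ^ 2) (P : RO D)
    (φa : Matrix.SpecialLinearGroup (Fin 2) F →* G) (φb : ↥(SUm F True) →* G)
    (HT : HypT D P.ζ P.ζ₀ φa (phiL P φb)) :
    Tor4T D φa (phiL P φb) ∧ Wact4T D φa (phiL P φb) ∧ Comm4T D φa (phiL P φb) := by
  have R4 := tor4T D P.ζ P.hζ P.ζ₀ P.hζ₀ P.hn φa (phiL P φb) HT
  have W4 := wact4T D P.ζ P.ζ₀ φa (phiL P φb) HT R4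
  exact ⟨R4, W4, comm4T D hFK P.ζ P.hζ P.ζ₀ φa (phiL P φb) HT R4 W4⟩

/-- T5 [S]  deps T4 + SU4 T8 `tor4T`, W4 `wact4T`, C8 `comm4T` (`P.hζ P.hζ₀ P.hn`). -/
theorem su4_of_hypU (hFK : Fintype.card F = Fintype.card K ^ 2) (P : RO D)
    (φa : Matrix.SpecialLinearGroup (Fin 2) F →* G) (φb : ↥(SUm F True) →* G) (H : HypU P φa φb) :
    Tor4T D φa (phiL P φb) ∧ Wact4T D φa (phiL P φb) ∧ Comm4T D φa (phiL P φb) :=
  su5t5_core hFK P φa φb (hypT_of_hypU P φa φb H)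

end T

end Cfsg.Agent.Lib.Helper19.SU5
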