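import Mathlib
import Cfsg.Prelude.Def_GeometricClasses
import Cfsg.Agent.Lib.Helper27.ASC.Defs
import Cfsg.Agent.Lib.Helper19.ASG.Defs
import Cfsg.Agent.Lib.Helper9.ASGD2T.Defs

set_option autoImplicit false
set_option linter.unusedVariables false

/-!
# Project ASG, block D2T : assembly helpers, part 1 (commutants and conjugation)
-/

namespace Cfsg.Agent.Lib.Helper19.ASG

open Cfsg Cfsg.Geo Cfsg.Agent.Lib.Helper27.ASC
open scoped MatrixGroups Matrix

variable {n : ℕ} {F : Type*} [Field F]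

/-- conjugation and commutation, in any monoid -/
theorem asgd2tasm_conj_comm {R : Type*} [Monoid R] (u : Rˣ) (c x : R) :
    ((u⁻¹ : Rˣ) : R) * c * (u : R) * x = x * (((u⁻¹ : Rˣ) : R) * c * (u : R)) ↔
      c * ((u : R) * x * ((u⁻¹ : Rˣ) : R)) = (u : R) * x * ((u⁻¹ : Rˣ) : R) * c := by
  constructor
  · intro h
    calc c * ((u : R) * x * ((u⁻¹ : Rˣ) : R))
        = (u : R) * (((u⁻¹ : Rˣ) : R) * c * (u : R) * x) * ((u⁻¹ : Rˣ) : R) := by
          simp only [mul_assoc, Units.mul_inv_cancel_left]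
      _ = (u : R) * (x * (((u⁻¹ : Rˣ) : R) * c * (u : R))) * ((u⁻¹ : Rˣ) : R) := by rw [h]
      _ = (u : R) * x * ((u⁻¹ : Rˣ) : R) * c := by
          simp only [mul_assoc, Units.mul_inv, mul_one]
  · intro h
    calc ((u⁻¹ : Rˣ) : R) * c * (u : R) * x
        = ((u⁻¹ : Rˣ) : R) * (c * ((u : R) * x * ((u⁻¹ : Rˣ) : R))) * (u : R) := by
          simp only [mul_assoc, Units.inv_mul, mul_one]
      _ = ((u⁻¹ : Rˣ) : R) * ((u : R) * x * ((u⁻¹ : Rˣ) : R) * c) * (u : R) := by rw [h]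
      _ = x * (((u⁻¹ : Rˣ) : R) * c * (u : R)) := by
          simp only [mul_assoc, Units.inv_mul_cancel_left]

/-- the matrices commuting with `z` form a subgroup -/
def asgd2tasmComm (z : Matrix (Fin n) (Fin n) F) : Subgroup (GL (Fin n) F) where
  carrier := {g | z * (g : Matrix (Fin n) (Fin n) F) = (g : Matrix (Fin n) (Fin n) F) * z}
  mul_mem' {a b} ha hb := by
    show z * ((a * b : GL (Fin n) F) : Matrix (Fin n) (Fin n) F) = _
    have ha' : z * (a : Matrix (Fin n) (Fin n) F) = (a : Matrix (Fin n) (Fin n) F) * z := ha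
    have hb' : z * (b : Matrix (Fin n) (Fin n) F) = (b : Matrix (Fin n) (Fin n) F) * z := hb
    rw [Units.val_mul, ← mul_assoc, ha', mul_assoc, hb', mul_assoc]
  one_mem' := by
    show z * ((1 : GL (Fin n) F) : Matrix (Fin n) (Fin n) F) = _
    rw [Units.val_one, mul_one, one_mul]
  inv_mem' {a} ha := by
    show z * ((a⁻¹ : GL (Fin n) F) : Matrix (Fin n) (Fin n) F) = _
    have ha' : z * (a : Matrix (Fin n) (Fin n) F) = (a : Matrix (Fin n) (Fin n) F) * z := ha
    calc z * ((a⁻¹ : GL (Fin n) F) : Matrix (Fin n) (Fin n) F)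
        = ((a⁻¹ : GL (Fin n) F) : Matrix (Fin n) (Fin n) F) * ((a : Matrix (Fin n) (Fin n) F) * z) *
            ((a⁻¹ : GL (Fin n) F) : Matrix (Fin n) (Fin n) F) := by
          simp only [← mul_assoc, Units.inv_mul, one_mul]
      _ = ((a⁻¹ : GL (Fin n) F) : Matrix (Fin n) (Fin n) F) * (z * (a : Matrix (Fin n) (Fin n) F)) *
            ((a⁻¹ : GL (Fin n) F) : Matrix (Fin n) (Fin n) F) := by rw [ha']
      _ = ((a⁻¹ : GL (Fin n) F) : Matrix (Fin n) (Fin n) F) * z := by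
          simp only [mul_assoc, Units.mul_inv, mul_one]

theorem asgd2tasm_mem_comm (z : Matrix (Fin n) (Fin n) F) (g : GL (Fin n) F) :
    g ∈ asgd2tasmComm z ↔ z * (g : Matrix (Fin n) (Fin n) F) = (g : Matrix (Fin n) (Fin n) F) * z := Iff.rfl

/-- a matrix commuting with generating subgroups of an absolutely irreducible group is scalar -/
theorem asgd2tasm_scalar_of_comm {ι : Type*} {N : Subgroup (GL (Fin n) F)} (hNA : AbsIrr N)
    (X : ι → Subgroup (GL (Fin n) F)) (hsup : (⨆ i, X i) = N) (z : Matrix (Fin n) (Fin n) F)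
    (hz : ∀ i, ∀ b ∈ X i, z * (b : Matrix (Fin n) (Fin n) F) = (b : Matrix (Fin n) (Fin n) F) * z) :
    ∃ r : F, z = r • (1 : Matrix (Fin n) (Fin n) F) := by
  have hle : N ≤ asgd2tasmComm z := by
    rw [← hsup]
    exact iSup_le fun i b hb => hz i b hb
  apply hNA.2 z
  rintro _ ⟨g, hg, rfl⟩
  exact hle hg

/-- membership in the commutant -/
theorem asgd2tasm_mem_centAlg (K : Subgroup (GL (Fin n) F)) (c : Matrix (Fin n) (Fin n) F) :
    c ∈ centAlg K ↔ ∀ x ∈ K, (x : Matrix (Fin n) (Fin n) F) * c = c * (x : Matrix (Fin n) (Fin n) F) := by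
  rw [Subalgebra.mem_centralizer_iff]
  constructor
  · intro h x hx
    exact h _ ⟨x, hx, rfl⟩
  · rintro h _ ⟨x, hx, rfl⟩
    exact h x hx

/-- membership in the double commutant -/
theorem asgd2tasm_mem_dcomm (K : Subgroup (GL (Fin n) F)) (Y : Matrix (Fin n) (Fin n) F) :
    Y ∈ dcomm K ↔ ∀ c ∈ centAlg K, c * Y = Y * c := by
  rw [Subalgebra.mem_centralizer_iff]
  rfl

/-- a subgroup lies in its double commutant -/
theorem asgd2tasm_le_dcomm (K : Subgroup (GL (Fin n) F)) (x : GL (Fin n) F) (hx : x ∈ K) :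
    (x : Matrix (Fin n) (Fin n) F) ∈ dcomm K := by
  rw [asgd2tasm_mem_dcomm]
  intro c hc
  exact ((asgd2tasm_mem_centAlg K c).mp hc x hx).symm

/-- the commutant of a conjugate -/
theorem asgd2tasm_centAlg_conj (h : GL (Fin n) F) (K : Subgroup (GL (Fin n) F)) (c : Matrix (Fin n) (Fin n) F) :
    c ∈ centAlg (K.map (MulAut.conj h).toMonoidHom) ↔
      ((h⁻¹ : GL (Fin n) F) : Matrix (Fin n) (Fin n) F) * c * (h : Matrix (Fin n) (Fin n) F) ∈ centAlg K := by
  rw [asgd2tasm_mem_centAlg, asgd2tasm_mem_centAlg]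
  constructor
  · intro hc x hx
    have h1 := hc (h * x * h⁻¹) ⟨x, hx, by simp [MulAut.conj_apply]⟩
    rw [Units.val_mul, Units.val_mul] at h1
    exact ((asgd2tasm_conj_comm h c (x : Matrix (Fin n) (Fin n) F)).mpr h1.symm).symm
  · rintro hc _ ⟨x, hx, rfl⟩
    have h1 := hc x hx
    have h2 := (asgd2tasm_conj_comm h c (x : Matrix (Fin n) (Fin n) F)).mp h1.symm
    simp only [MulEquiv.coe_toMonoidHom, MulAut.conj_apply, Units.val_mul]
    exact h2.symm

/-- the double commutant of a conjugate -/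
theorem asgd2tasm_dcomm_conj (h : GL (Fin n) F) (K : Subgroup (GL (Fin n) F)) (Y : Matrix (Fin n) (Fin n) F) :
    Y ∈ dcomm (K.map (MulAut.conj h).toMonoidHom) ↔
      ((h⁻¹ : GL (Fin n) F) : Matrix (Fin n) (Fin n) F) * Y * (h : Matrix (Fin n) (Fin n) F) ∈ dcomm K := by
  rw [asgd2tasm_mem_dcomm, asgd2tasm_mem_dcomm]
  constructor
  · intro hY c hc
    -- `c' := h c h⁻¹` lies in the commutant of the conjugate
    have hc' : (h : Matrix (Fin n) (Fin n) F) * c * ((h⁻¹ : GL (Fin n) F) : Matrix (Fin n) (Fin n) F) ∈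
        centAlg (K.map (MulAut.conj h).toMonoidHom) := by
      rw [asgd2tasm_centAlg_conj]
      have e : ((h⁻¹ : GL (Fin n) F) : Matrix (Fin n) (Fin n) F) *
          ((h : Matrix (Fin n) (Fin n) F) * c * ((h⁻¹ : GL (Fin n) F) : Matrix (Fin n) (Fin n) F)) *
          (h : Matrix (Fin n) (Fin n) F) = c := by
        simp only [mul_assoc, Units.inv_mul, mul_one, Units.inv_mul_cancel_left]
      rw [e]; exact hc
    have h1 := hY _ hc'
    -- h c h⁻¹ Y = Y h c h⁻¹  ⇒  c (h⁻¹ Y h) = (h⁻¹ Y h) c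
    have h2 := (asgd2tasm_conj_comm h Y c).mpr h1.symm
    exact h2.symm
  · intro hY c hc
    have hc' := (asgd2tasm_centAlg_conj h K c).mp hc
    have h1 := hY _ hc'
    -- (h⁻¹ c h) (h⁻¹ Y h) = (h⁻¹ Y h) (h⁻¹ c h)
    have e1 : ((h⁻¹ : GL (Fin n) F) : Matrix (Fin n) (Fin n) F) * c * (h : Matrix (Fin n) (Fin n) F) *
        (((h⁻¹ : GL (Fin n) F) : Matrix (Fin n) (Fin n) F) * Y * (h : Matrix (Fin n) (Fin n) F)) =
        ((h⁻¹ : GL (Fin n) F) : Matrix (Fin n) (Fin n) F) * (c * Y) * (h : Matrix (Fin n) (Fin n) F) := by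
      simp only [mul_assoc, Units.mul_inv_cancel_left]
    have e2 : ((h⁻¹ : GL (Fin n) F) : Matrix (Fin n) (Fin n) F) * Y * (h : Matrix (Fin n) (Fin n) F) *
        (((h⁻¹ : GL (Fin n) F) : Matrix (Fin n) (Fin n) F) * c * (h : Matrix (Fin n) (Fin n) F)) =
        ((h⁻¹ : GL (Fin n) F) : Matrix (Fin n) (Fin n) F) * (Y * c) * (h : Matrix (Fin n) (Fin n) F) := by
      simp only [mul_assoc, Units.mul_inv_cancel_left]
    rw [e1, e2] at h1
    have h3 := congrArg (fun T => (h : Matrix (Fin n) (Fin n) F) * T *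
      ((h⁻¹ : GL (Fin n) F) : Matrix (Fin n) (Fin n) F)) h1
    simpa only [mul_assoc, Units.mul_inv_cancel_left, Units.mul_inv, mul_one] using h3

end Cfsg.Agent.Lib.Helper19.ASG
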