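import Mathlib
import Cfsg.Prelude.Def_GeometricClasses
import Cfsg.Agent.Lib.Helper27.ASC.Defs
import Cfsg.Agent.Lib.Helper19.ASG.Defs
import Cfsg.Agent.Lib.Helper9.ASGD2T.Defs
import Cfsg.Agent.Lib.Helper9.ASGD2TASM1

set_option autoImplicit false
set_option linter.unusedVariables false

/-!
# Project ASG, block D2T : assembly helpers, part 2 (isometry subgroups, the image of `SL_m`)
-/

namespace Cfsg.Agent.Lib.Helper19.ASG

open Cfsg Cfsg.Geo Cfsg.Agent.Lib.Helper27.ASC
open scoped MatrixGroups Matrix commutatorElement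

variable {n : ℕ} {F : Type*} [Field F]

/-- matrices of size at most one are scalar -/
theorem asgd2tasm_small_scalar {m : ℕ} (hm : m ≤ 1) (a : Matrix (Fin m) (Fin m) F) :
    ∃ r : F, a = r • (1 : Matrix (Fin m) (Fin m) F) := by
  rcases Nat.eq_zero_or_pos m with h0 | h0
  · subst h0
    exact ⟨0, Subsingleton.elim _ _⟩
  · have h1 : m = 1 := by omega
    subst h1
    refine ⟨a 0 0, ?_⟩
    ext i j
    have hi : i = 0 := Subsingleton.elim _ _
    have hj : j = 0 := Subsingleton.elim _ _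
    subst hi hj
    simp

/-- the isometries of a two-argument form -/
def asgd2tasmIso (f : (Fin n → F) → (Fin n → F) → F) : Subgroup (GL (Fin n) F) where
  carrier := {g | ∀ u v, f ((g : Matrix (Fin n) (Fin n) F) *ᵥ u) ((g : Matrix (Fin n) (Fin n) F) *ᵥ v) = f u v}
  mul_mem' {a b} ha hb := by
    intro u v
    rw [Units.val_mul, ← Matrix.mulVec_mulVec, ← Matrix.mulVec_mulVec, ha, hb]
  one_mem' := by
    intro u v
    simp
  inv_mem' {a} ha := by
    intro u v
    have h := ha (((a⁻¹ : GL (Fin n) F) : Matrix (Fin n) (Fin n) F) *ᵥ u)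
      (((a⁻¹ : GL (Fin n) F) : Matrix (Fin n) (Fin n) F) *ᵥ v)
    rw [Matrix.mulVec_mulVec, Matrix.mulVec_mulVec, ← Units.val_mul, mul_inv_cancel, Units.val_one,
      Matrix.one_mulVec, Matrix.one_mulVec] at h
    exact h.symm

/-- the isometries of a one-argument form -/
def asgd2tasmQIso (Q : (Fin n → F) → F) : Subgroup (GL (Fin n) F) where
  carrier := {g | ∀ v, Q ((g : Matrix (Fin n) (Fin n) F) *ᵥ v) = Q v}
  mul_mem' {a b} ha hb := by
    intro v
    rw [Units.val_mul, ← Matrix.mulVec_mulVec, ha, hb]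
  one_mem' := by
    intro v
    simp
  inv_mem' {a} ha := by
    intro v
    have h := ha (((a⁻¹ : GL (Fin n) F) : Matrix (Fin n) (Fin n) F) *ᵥ v)
    rw [Matrix.mulVec_mulVec, ← Units.val_mul, mul_inv_cancel, Units.val_one, Matrix.one_mulVec] at h
    exact h.symm

/-- the image of `SL_m` under an algebra homomorphism, as a subgroup of `GL_n` -/
def asgd2tasmSL {m : ℕ} (θ : Matrix (Fin m) (Fin m) F →ₐ[F] Matrix (Fin n) (Fin n) F) :
    Subgroup (GL (Fin n) F) where
  carrier := {x | ∃ a : Matrix (Fin m) (Fin m) F, a.det = 1 ∧ (x : Matrix (Fin n) (Fin n) F) = θ a}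
  mul_mem' {x y} hx hy := by
    obtain ⟨a, ha, hxa⟩ := hx
    obtain ⟨b, hb, hyb⟩ := hy
    exact ⟨a * b, by rw [Matrix.det_mul, ha, hb, one_mul], by rw [Units.val_mul, hxa, hyb, map_mul]⟩
  one_mem' := ⟨1, Matrix.det_one, by rw [Units.val_one, map_one]⟩
  inv_mem' {x} hx := by
    obtain ⟨a, ha, hxa⟩ := hx
    refine ⟨a⁻¹, by rw [Matrix.det_nonsing_inv, ha]; simp, ?_⟩
    have hu : IsUnit a.det := by rw [ha]; exact isUnit_one
    have h1 : (x : Matrix (Fin n) (Fin n) F) * θ a⁻¹ = 1 := by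
      rw [hxa, ← map_mul, Matrix.mul_nonsing_inv a hu, map_one]
    calc ((x⁻¹ : GL (Fin n) F) : Matrix (Fin n) (Fin n) F)
        = ((x⁻¹ : GL (Fin n) F) : Matrix (Fin n) (Fin n) F) * ((x : Matrix (Fin n) (Fin n) F) * θ a⁻¹) := by
          rw [h1, mul_one]
      _ = θ a⁻¹ := by rw [← mul_assoc, Units.inv_mul, one_mul]

/-- a perfect subgroup inside the image of an injective algebra homomorphism lies in the image of `SL_m` -/
theorem asgd2tasm_perfect_le_SL {m : ℕ} (θ : Matrix (Fin m) (Fin m) F →ₐ[F] Matrix (Fin n) (Fin n) F)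
    (hinj : Function.Injective θ) (K : Subgroup (GL (Fin n) F)) (hperf : ⁅K, K⁆ = K)
    (hK : ∀ x ∈ K, ∃ a, (x : Matrix (Fin n) (Fin n) F) = θ a) : K ≤ asgd2tasmSL θ := by
  rw [← hperf, Subgroup.commutator_le]
  intro x hx y hy
  obtain ⟨a, ha⟩ := hK x hx
  obtain ⟨b, hb⟩ := hK y hy
  obtain ⟨a', ha'⟩ := hK x⁻¹ (K.inv_mem hx)
  obtain ⟨b', hb'⟩ := hK y⁻¹ (K.inv_mem hy)
  have haa : a * a' = 1 := by
    apply hinj
    rw [map_mul, map_one, ← ha, ← ha', ← Units.val_mul, mul_inv_cancel, Units.val_one]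
  have hbb : b * b' = 1 := by
    apply hinj
    rw [map_mul, map_one, ← hb, ← hb', ← Units.val_mul, mul_inv_cancel, Units.val_one]
  refine ⟨a * b * a' * b', ?_, ?_⟩
  · have h1 : a.det * a'.det = 1 := by rw [← Matrix.det_mul, haa, Matrix.det_one]
    have h2 : b.det * b'.det = 1 := by rw [← Matrix.det_mul, hbb, Matrix.det_one]
    rw [Matrix.det_mul, Matrix.det_mul, Matrix.det_mul]
    calc a.det * b.det * a'.det * b'.det = (a.det * a'.det) * (b.det * b'.det) := by ring
      _ = 1 := by rw [h1, h2, one_mul]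
  · rw [commutatorElement_def, Units.val_mul, Units.val_mul, Units.val_mul, ha, hb, ha', hb', map_mul, map_mul,
      map_mul]

end Cfsg.Agent.Lib.Helper19.ASG
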