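import Mathlib
import Cfsg.Prelude.Def_GeometricClasses
import Cfsg.Agent.Lib.Helper27.ASC.Defs
import Cfsg.Agent.Lib.Helper19.ASG.Defs
import Cfsg.Agent.Lib.Helper9.ASGD2T.Defs
import Cfsg.Agent.Lib.Helper11.ASCSIMPLEcore

set_option autoImplicit false
set_option linter.unusedVariables false

/-!
# Project ASG, block D2T, piece GRP : the group theory of a perfect minimal non-scalar normal subgroup
(adapted from `Cfsg.Agent.Lib.Helper11.ASCSIMPLEcore`, which treats prime dimension)
-/

namespace Cfsg.Agent.Lib.Helper19.ASG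

open Cfsg Cfsg.Geo Cfsg.Agent.Lib.Helper27.ASC
open scoped MatrixGroups Matrix commutatorElement

variable {n : ℕ} {F : Type*} [Field F]

/-- scalars are central (no finiteness) -/
theorem asgd2tgrp_scalar_central (a : GL (Fin n) F) (ha : a ∈ scalars (Fin n) F) :
    ∀ g : GL (Fin n) F, a * g = g * a := by
  intro g
  obtain ⟨c, hc⟩ := (mem_scalars_iff a).mp ha
  apply Units.ext
  rw [Units.val_mul, Units.val_mul, hc, Matrix.smul_mul, Matrix.one_mul, Matrix.mul_smul, Matrix.mul_one]

/-- if `⁅B, A⁆` is scalar and `A` is perfect, then `A` and `B` commute elementwise -/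
theorem asgd2tgrp_commute_of_comm_scalar {A B : Subgroup (GL (Fin n) F)}
    (hBA : ⁅B, A⁆ ≤ scalars (Fin n) F) (hAperf : ⁅A, A⁆ = A) : ∀ a ∈ A, ∀ b ∈ B, a * b = b * a := by
  intro a ha b hb
  have hcomm : ∀ x ∈ A, b * x * b⁻¹ * x⁻¹ ∈ scalars (Fin n) F := fun x hx => by
    have := hBA (Subgroup.commutator_mem_commutator hb hx)
    rwa [commutatorElement_def] at this
  have hle : ⁅A, A⁆ ≤ Subgroup.centralizer ({b} : Set (GL (Fin n) F)) := by
    rw [Subgroup.commutator_le]
    intro x hx y hy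
    rw [Subgroup.mem_centralizer_singleton_iff, commutatorElement_def]
    have hxa := hcomm x hx
    have hyb := hcomm y hy
    have h1 := asccent_conj_comm b x y (b * x * b⁻¹ * x⁻¹) (b * y * b⁻¹ * y⁻¹)
      (asgd2tgrp_scalar_central _ hxa) (asgd2tgrp_scalar_central _ hyb) (by group) (by group)
    calc x * y * x⁻¹ * y⁻¹ * b = (b * (x * y * x⁻¹ * y⁻¹) * b⁻¹) * b := by rw [h1]
      _ = b * (x * y * x⁻¹ * y⁻¹) := by group
  have ha' : a ∈ ⁅A, A⁆ := by rw [hAperf]; exact ha
  exact Subgroup.mem_centralizer_singleton_iff.mp (hle ha')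

/-- D2T-GRP : two minimal non-scalar `P`-normal subgroups, one of them perfect, are equal or commute elementwise -/
theorem min_commute {P A B : Subgroup (GL (Fin n) F)} (hA : MinNonscalar A P) (hB : MinNonscalar B P)
    (hAperf : ⁅A, A⁆ = A) : A = B ∨ ∀ a ∈ A, ∀ b ∈ B, a * b = b * a := by
  rcases ascsimple_min_inf hB hA with h1 | h1
  · exact Or.inl h1.symm
  · right
    have hBA : ⁅B, A⁆ ≤ scalars (Fin n) F := (ascsimple_comm_le_inf hB.1 hA.1).trans h1
    exact asgd2tgrp_commute_of_comm_scalar hBA hAperf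

/-- D2T-GRP : the join of the `H`-conjugates of `M` is `N`, and `M` is perfect -/
theorem conj_join {H N M : Subgroup (GL (Fin n) F)} (hN : MinNonscalar N H) (hperf : ⁅N, N⁆ = N)
    (hM : MinNonscalar M N) :
    (⨆ h : H, M.map (MulAut.conj (h : GL (Fin n) F)).toMonoidHom) = N ∧ ⁅M, M⁆ = M := by
  let X : H → Subgroup (GL (Fin n) F) := fun h => M.map (MulAut.conj (h : GL (Fin n) F)).toMonoidHom
  have hXmin : ∀ h : H, MinNonscalar (X h) N := fun h => ascsimple_cj_min hN.1 hM h.2
  have hX1 : X 1 = M := by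
    ext x
    simp [X]
  have hM_le : M ≤ ⨆ h, X h := by
    have := le_iSup X 1
    rwa [hX1] at this
  have hsup : (⨆ h, X h) = N := by
    have hle : (⨆ h, X h) ≤ N := iSup_le fun h => (hXmin h).1.1
    have hnorm : NormalIn (⨆ h, X h) H := by
      refine ⟨hle.trans hN.1.1, fun g hg x hx => ?_⟩
      have hmap : (⨆ h, X h).map (MulAut.conj g).toMonoidHom ≤ ⨆ h, X h := by
        rw [Subgroup.map_iSup]
        refine iSup_le fun h => ?_
        refine le_trans ?_ (le_iSup X (⟨g, hg⟩ * h))
        rintro _ ⟨_, ⟨m, hm, rfl⟩, rfl⟩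
        refine ⟨m, hm, ?_⟩
        simp only [MulEquiv.coe_toMonoidHom, MulAut.conj_apply, Subgroup.coe_mul]
        group
      have := hmap ⟨x, hx, rfl⟩
      simpa [MulAut.conj_apply] using this
    rcases hN.2.2 _ hnorm hle with h1 | h1
    · exact absurd (hM_le.trans h1) hM.2.1
    · exact h1
  refine ⟨hsup, ?_⟩
  have hMM : ¬ ⁅M, M⁆ ≤ scalars (Fin n) F := by
    intro hc
    have hpair : ∀ i j, ⁅X i, X j⁆ ≤ scalars (Fin n) F := by
      intro i j
      rcases ascsimple_min_inf (hXmin i) (hXmin j) with h1 | h1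
      · rw [← h1]
        have e : ⁅X i, X i⁆ = (⁅M, M⁆).map (MulAut.conj (i : GL (Fin n) F)).toMonoidHom :=
          (Subgroup.map_commutator _ _ _).symm
        rw [e]
        rintro _ ⟨m, hm, rfl⟩
        have := (scalars_normal (ι := Fin n) (F := F)).conj_mem m (hc hm) i
        simpa [MulAut.conj_apply] using this
      · exact (ascsimple_comm_le_inf (hXmin i).1 (hXmin j).1).trans h1
    have h2 := ascsimple_comm_iSup (scalars (Fin n) F) X hpair
    rw [hsup, hperf] at h2
    exact hN.2.1 h2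
  rcases hM.2.2 _ (commutator_normalIn hM.1) (Subgroup.commutator_le_self M) with h1 | h1
  · exact absurd h1 hMM
  · exact h1

/-- D2T-GRP : `N` minimal non-scalar in itself and perfect: `N` modulo scalars is simple and non-abelian -/
theorem simple_of_min {N : Subgroup (GL (Fin n) F)} (hN : ¬ N ≤ scalars (Fin n) F) (hperf : ⁅N, N⁆ = N)
    (hM : MinNonscalar N N) :
    IsSimpleGroup (N ⧸ (scalars (Fin n) F).subgroupOf N) ∧
      ¬ IsMulCommutative (N ⧸ (scalars (Fin n) F).subgroupOf N) := by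
  refine ⟨?_, ?_⟩
  · apply ascsimple_quot_simple
    · obtain ⟨p, hp, hps⟩ := SetLike.not_le_iff_exists.mp hN
      exact ⟨⟨p, hp⟩, fun h => hps (Subgroup.mem_subgroupOf.mp h)⟩
    · intro K hK
      have hK' := ascsimple_map_subtype_normalIn N K hK
      rcases hM.2.2 _ hK' hK'.1 with h1 | h1
      · left
        intro x hx
        exact Subgroup.mem_subgroupOf.mpr (h1 (Subgroup.mem_map.mpr ⟨x, hx, rfl⟩))
      · right
        rw [eq_top_iff]
        intro x _
        have hx : (x : GL (Fin n) F) ∈ K.map N.subtype := by rw [h1]; exact x.2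
        obtain ⟨y, hy, hyx⟩ := Subgroup.mem_map.mp hx
        have e : y = x := Subtype.ext hyx
        rw [← e]; exact hy
  · intro hcomm
    apply hN
    rw [← hperf, Subgroup.commutator_le]
    intro x hx y hy
    have h2 := ascsimple_quot_comm _ hcomm (⟨x, hx⟩ : N) ⟨y, hy⟩
    have h3 := Subgroup.mem_subgroupOf.mp h2
    simpa [commutatorElement_def] using h3

end Cfsg.Agent.Lib.Helper19.ASG
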