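import Mathlib
import Cfsg.Prelude.Def_GeometricClasses
import Cfsg.Agent.Lib.Helper27.ASC.Defs
import Cfsg.Agent.Lib.Helper19.ASG.Defs
import Cfsg.Agent.Lib.Helper9.ASGD2T.Defs
import Cfsg.Agent.Lib.Helper9.ASGD2TF.Defs
import Cfsg.Agent.Lib.Helper9.ASGD2TSTRUCT
import Cfsg.Agent.Lib.Helper9.ASGD2TASM1
import Cfsg.Agent.Lib.Helper9.ASGD2TASM2
import Cfsg.Agent.Lib.Helper24.ASGD2TFALL
import Cfsg.Agent.Lib.Helper24.ASGD2TFGRAM
import Cfsg.Agent.Lib.Helper13.ASGD2TFSYMM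

set_option autoImplicit false
set_option linter.unusedVariables false
set_option linter.unusedSectionVars false
set_option maxHeartbeats 1000000

/-!
# Block D2T with a BILINEAR form, generic and matrix-only (helper9)

`bil_perfect_structure` : `G` invertible with `Gᵀ = ε • G`, `H` a group of isometries of `G` (`hᵀ G h = G`), irreducible, all
non-scalar normal subgroups absolutely irreducible, `N` a minimal non-scalar normal subgroup of `H`, perfect.  Then either
`N / scalars` is non-abelian simple, or `H` preserves a tensor power structure `(e, B)` in which the Gram matrix is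
`c • A ⊗ ⋯ ⊗ A` (`t` factors) with `Aᵀ = δ • A`, `δ ^ t = ε`, and `N` is generated by groups `X i` of isometries of the `i`-th factor.
Used for Sp (`G = ascformGram f`, `ε = -1`) and for the orthogonal groups (`G` = Gram matrix of the polar form, `ε = 1`).
-/

namespace Cfsg.Agent.Lib.Helper19.ASG

open Cfsg Cfsg.Geo Cfsg.Agent.Lib.Helper27.ASC
open scoped MatrixGroups Matrix commutatorElement

variable {n : ℕ} {F : Type*} [Field F] [Fintype F]

/-- the adjoint of an `ε`-symmetric invertible Gram matrix is an abstract adjoint -/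
theorem asgd2tbil_isStarOp (G : Matrix (Fin n) (Fin n) F) (hG : IsUnit G.det) (ε : F) (hε : ε ≠ 0)
    (hGt : Gᵀ = ε • G) : IsStarOp (RingHom.id F) (fun x : Matrix (Fin n) (Fin n) F => G⁻¹ * xᵀ * G) := by
  have h1 : G * G⁻¹ = 1 := Matrix.mul_nonsing_inv G hG
  have h2 : G⁻¹ * G = 1 := Matrix.nonsing_inv_mul G hG
  refine ⟨fun x y => ?_, fun x y => ?_, fun c x => ?_, ?_, fun x => ?_⟩
  · show G⁻¹ * (x * y)ᵀ * G = G⁻¹ * yᵀ * G * (G⁻¹ * xᵀ * G)
    rw [Matrix.transpose_mul]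
    calc G⁻¹ * (yᵀ * xᵀ) * G = G⁻¹ * yᵀ * (1 : Matrix (Fin n) (Fin n) F) * xᵀ * G := by
          rw [Matrix.mul_one]; simp only [Matrix.mul_assoc]
      _ = G⁻¹ * yᵀ * G * (G⁻¹ * xᵀ * G) := by rw [← h1]; simp only [Matrix.mul_assoc]
  · show G⁻¹ * (x + y)ᵀ * G = G⁻¹ * xᵀ * G + G⁻¹ * yᵀ * G
    rw [Matrix.transpose_add, Matrix.mul_add, Matrix.add_mul]
  · show G⁻¹ * (c • x)ᵀ * G = (RingHom.id F) c • (G⁻¹ * xᵀ * G)
    rw [Matrix.transpose_smul, Matrix.mul_smul, Matrix.smul_mul]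
    rfl
  · show G⁻¹ * (1 : Matrix (Fin n) (Fin n) F)ᵀ * G = 1
    rw [Matrix.transpose_one, Matrix.mul_one, h2]
  · show G⁻¹ * (G⁻¹ * xᵀ * G)ᵀ * G = x
    rw [Matrix.transpose_mul, Matrix.transpose_mul, Matrix.transpose_transpose]
    have h3 : G⁻¹ * Gᵀ = ε • (1 : Matrix (Fin n) (Fin n) F) := by
      rw [hGt, Matrix.mul_smul, h2]
    have h4 : (G⁻¹)ᵀ * G = ε⁻¹ • (1 : Matrix (Fin n) (Fin n) F) := by
      have h5 : (G⁻¹)ᵀ * Gᵀ = 1 := by rw [← Matrix.transpose_mul, h1, Matrix.transpose_one]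
      rw [hGt, Matrix.mul_smul] at h5
      have h6 : ε⁻¹ • (ε • ((G⁻¹)ᵀ * G)) = ε⁻¹ • (1 : Matrix (Fin n) (Fin n) F) := by rw [h5]
      rwa [smul_smul, inv_mul_cancel₀ hε, one_smul] at h6
    calc G⁻¹ * (Gᵀ * (x * (G⁻¹)ᵀ)) * G = (G⁻¹ * Gᵀ) * x * ((G⁻¹)ᵀ * G) := by simp only [Matrix.mul_assoc]
      _ = x := by
        rw [h3, h4, Matrix.smul_mul, Matrix.one_mul, Matrix.mul_smul, Matrix.mul_one, smul_smul,
          inv_mul_cancel₀ hε, one_smul]

/-- D2T with a bilinear form: the structure theorem -/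
theorem bil_perfect_structure (hn : 3 ≤ n) (G : Matrix (Fin n) (Fin n) F) (hG : IsUnit G.det) (ε : F) (hε : ε ≠ 0)
    (hGt : Gᵀ = ε • G) {H N : Subgroup (GL (Fin n) F)}
    (hI : ∀ h ∈ H, (h : Matrix (Fin n) (Fin n) F)ᵀ * G * (h : Matrix (Fin n) (Fin n) F) = G)
    (hH : Irr H) (hD : AllNormalAbsIrr H) (hN : MinNonscalar N H) (hperf : ⁅N, N⁆ = N) :
    (IsSimpleGroup (N ⧸ (scalars (Fin n) F).subgroupOf N) ∧
      ¬ IsMulCommutative (N ⧸ (scalars (Fin n) F).subgroupOf N)) ∨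
    ∃ (k t : ℕ) (X : Fin t → Subgroup (GL (Fin n) F)) (e : Fin n ≃ (Fin t → Fin k)) (B : GL (Fin n) F)
      (A : GL (Fin k) F) (c δ : F),
      2 ≤ t ∧ 2 ≤ k ∧ c ≠ 0 ∧
      (B : Matrix (Fin n) (Fin n) F)ᵀ * G * (B : Matrix (Fin n) (Fin n) F) =
        c • Matrix.reindex e.symm e.symm (ptMat (fun _ : Fin t => (A : Matrix (Fin k) (Fin k) F))) ∧
      (A : Matrix (Fin k) (Fin k) F)ᵀ = δ • (A : Matrix (Fin k) (Fin k) F) ∧ δ ^ t = ε ∧
      ((∀ v : Fin n → F, v ⬝ᵥ (G *ᵥ v) = 0) → ∀ p, (A : Matrix (Fin k) (Fin k) F) p p = 0) ∧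
      Function.Injective X ∧ (∀ i, MinNonscalar (X i) N) ∧ (⨆ i, X i) = N ∧ (∀ i, ⁅X i, X i⁆ = X i) ∧
      (∀ i, ∀ x ∈ X i, ∃ a : Matrix (Fin k) (Fin k) F, (x : Matrix (Fin n) (Fin n) F) = tensorFac e B i a ∧
        aᵀ * (A : Matrix (Fin k) (Fin k) F) * a = (A : Matrix (Fin k) (Fin k) F)) ∧
      (∀ h ∈ H, ∃ π : Equiv.Perm (Fin t), ∀ i, (X i).map (MulAut.conj h).toMonoidHom = X (π i)) ∧
      H ≤ tensorWreathSubgroup k t e B := by
  classical
  have hn0 : 0 < n := by omega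
  rcases perfect_structure_conj hn hH hD hN hperf with hsimple |
    ⟨k, t, X, θ₀, g, e, B, ht2, hk2, hg, hXinj, hXmin, hXsup, hXperf, hXcomm, hrange, hθB, hXperm, hle⟩
  · exact Or.inl hsimple
  right
  have ht0 : 0 < t := by omega
  have hk0 : 0 < k := by omega
  have h1G : G * G⁻¹ = 1 := Matrix.mul_nonsing_inv G hG
  have h2G : G⁻¹ * G = 1 := Matrix.nonsing_inv_mul G hG
  have hs := asgd2tbil_isStarOp G hG ε hε hGt
  have hIso : ∀ h ∈ H, (fun x : Matrix (Fin n) (Fin n) F => G⁻¹ * xᵀ * G) (h : Matrix (Fin n) (Fin n) F) *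
      (h : Matrix (Fin n) (Fin n) F) = 1 := by
    intro h hh
    show G⁻¹ * (h : Matrix (Fin n) (Fin n) F)ᵀ * G * (h : Matrix (Fin n) (Fin n) F) = 1
    rw [Matrix.mul_assoc, Matrix.mul_assoc, ← Matrix.mul_assoc _ G, hI h hh, h2G]
  have hXH : ∀ i, X i ≤ H := fun i => (hXmin i).1.1.trans hN.1.1
  have hfac : ∀ i a, cjHom (g i) θ₀ a = tensorFac e B i a := fun i a => hθB i a
  have hfacinj : ∀ i, Function.Injective (cjHom (g i) θ₀) := by
    intro i a b hab
    rw [hfac, hfac, tensorFac_def, tensorFac_def] at hab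
    have h1 : Matrix.reindex e.symm e.symm (ptMat (Pi.mulSingle i a) : Matrix (Fin t → Fin k) (Fin t → Fin k) F) =
        Matrix.reindex e.symm e.symm (ptMat (Pi.mulSingle i b)) := by
      have h2 := congrArg (fun T => ((B⁻¹ : GL (Fin n) F) : Matrix (Fin n) (Fin n) F) * T *
        (B : Matrix (Fin n) (Fin n) F)) hab
      simpa only [mul_assoc, Units.inv_mul_cancel_left, Units.inv_mul, mul_one] using h2
    exact ptMat_single_injective i a b ((Matrix.reindex e.symm e.symm).injective h1)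
  have hinj : Function.Injective θ₀ := by
    intro a b hab
    apply hfacinj ⟨0, ht0⟩
    rw [cjHom_apply, cjHom_apply, hab]
  obtain ⟨A, hA⟩ := star_tensor (σ := RingHom.id F) (fun a => rfl) hs hIso ht0 X hXH θ₀ hinj g hg hrange
  have hmapid : ∀ {p : ℕ} (a : Matrix (Fin p) (Fin p) F), a.map (RingHom.id F) = a := by
    intro p a; ext i j; rfl
  have hA' : ∀ i a, G⁻¹ * (tensorFac e B i a)ᵀ * G =
      tensorFac e B i (((A⁻¹ : GL (Fin k) F) : Matrix (Fin k) (Fin k) F) * aᵀ * (A : Matrix (Fin k) (Fin k) F)) := by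
    intro i a
    have h1 := hA i a
    rw [hfac, hfac, hmapid] at h1
    exact h1
  obtain ⟨c, hc, hgram0⟩ := gram_tensor (σ := RingHom.id F) (fun a => rfl) G hG e B A (by
    intro i a
    rw [hmapid, hmapid]
    exact hA' i a)
  have hgram : (B : Matrix (Fin n) (Fin n) F)ᵀ * G * (B : Matrix (Fin n) (Fin n) F) =
      c • Matrix.reindex e.symm e.symm (ptMat (fun _ : Fin t => (A : Matrix (Fin k) (Fin k) F))) := by
    rw [hmapid] at hgram0
    exact hgram0
  have hXfac : ∀ i, ∀ x ∈ X i, ∃ a : Matrix (Fin k) (Fin k) F,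
      (x : Matrix (Fin n) (Fin n) F) = tensorFac e B i a ∧ aᵀ * (A : Matrix (Fin k) (Fin k) F) * a =
        (A : Matrix (Fin k) (Fin k) F) := by
    intro i x hx
    have hxd : (x : Matrix (Fin n) (Fin n) F) ∈ dcomm (X i) := asgd2tasm_le_dcomm (X i) x hx
    obtain ⟨a, ha⟩ := (hrange i _).mpr hxd
    refine ⟨a, by rw [← hfac]; exact ha.symm, ?_⟩
    have h1 := hIso x (hXH i hx)
    have ha' : cjHom (g i) θ₀ a = (x : Matrix (Fin n) (Fin n) F) := ha
    rw [← ha'] at h1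
    have h1' : cjHom (g i) θ₀ (((A⁻¹ : GL (Fin k) F) : Matrix (Fin k) (Fin k) F) * aᵀ *
        (A : Matrix (Fin k) (Fin k) F)) * cjHom (g i) θ₀ a = 1 := by
      have h0 := hA i a
      rw [hmapid] at h0
      rw [← h0]
      exact h1
    rw [← map_mul] at h1'
    have h2 : ((A⁻¹ : GL (Fin k) F) : Matrix (Fin k) (Fin k) F) * aᵀ * (A : Matrix (Fin k) (Fin k) F) * a = 1 := by
      apply hfacinj i
      rw [h1', map_one]
    have h3 := congrArg (fun T => (A : Matrix (Fin k) (Fin k) F) * T) h2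
    simpa only [mul_assoc, Units.mul_inv_cancel_left, mul_one] using h3
  have hAunit : IsUnit (A : Matrix (Fin k) (Fin k) F).det := by
    rw [← Matrix.isUnit_iff_isUnit_det]
    exact ⟨A, rfl⟩
  -- the tensor power of `A` is `ε`-symmetric
  have hptsym : (ptMat (fun _ : Fin t => (A : Matrix (Fin k) (Fin k) F)))ᵀ =
      ε • ptMat (fun _ : Fin t => (A : Matrix (Fin k) (Fin k) F)) := by
    have h1 := congrArg Matrix.transpose hgram
    rw [Matrix.transpose_mul, Matrix.transpose_mul, Matrix.transpose_transpose, hGt, Matrix.transpose_smul] at h1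
    have h2 : (B : Matrix (Fin n) (Fin n) F)ᵀ * (ε • G * (B : Matrix (Fin n) (Fin n) F)) =
        ε • ((B : Matrix (Fin n) (Fin n) F)ᵀ * G * (B : Matrix (Fin n) (Fin n) F)) := by
      rw [Matrix.smul_mul, Matrix.mul_smul, Matrix.mul_assoc]
    rw [h2, hgram] at h1
    have h3 : (Matrix.reindex e.symm e.symm (ptMat (fun _ : Fin t => (A : Matrix (Fin k) (Fin k) F))))ᵀ =
        ε • Matrix.reindex e.symm e.symm (ptMat (fun _ : Fin t => (A : Matrix (Fin k) (Fin k) F))) := by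
      have h4 : c • (Matrix.reindex e.symm e.symm (ptMat (fun _ : Fin t => (A : Matrix (Fin k) (Fin k) F))))ᵀ =
          c • (ε • Matrix.reindex e.symm e.symm (ptMat (fun _ : Fin t => (A : Matrix (Fin k) (Fin k) F)))) := by
        rw [smul_comm c ε]; exact h1.symm
      exact smul_right_injective _ hc h4
    ext x y
    have h5 := congrFun (congrFun h3 (e.symm x)) (e.symm y)
    simp only [Matrix.transpose_apply, Matrix.reindex_apply, Matrix.submatrix_apply, Equiv.symm_symm,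
      Equiv.apply_symm_apply, Matrix.smul_apply] at h5
    simp only [Matrix.transpose_apply, Matrix.smul_apply]
    exact h5
  obtain ⟨δ, hδA, hδt⟩ := ptMat_const_symm hk0 ht0 (A : Matrix (Fin k) (Fin k) F) hAunit ε hptsym
  refine ⟨k, t, X, e, B, A, c, δ, ht2, hk2, hc, hgram, hδA, hδt, ?_, hXinj, hXmin, hXsup, hXperf, hXfac, hXperm, hle⟩
  intro halt p
  set q : Fin n := e.symm (fun _ => p) with hq
  have h1 := congrFun (congrFun hgram q) q
  have h3 : ((B : Matrix (Fin n) (Fin n) F)ᵀ * G * (B : Matrix (Fin n) (Fin n) F)) q q = 0 := by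
    have h4 : ((B : Matrix (Fin n) (Fin n) F)ᵀ * G * (B : Matrix (Fin n) (Fin n) F)) q q =
        ((B : Matrix (Fin n) (Fin n) F) *ᵥ Pi.single q 1) ⬝ᵥ (G *ᵥ ((B : Matrix (Fin n) (Fin n) F) *ᵥ Pi.single q 1)) := by
      rw [Matrix.mulVec_mulVec, Matrix.mulVec_single_one, Matrix.mulVec_single_one]
      simp only [dotProduct, Matrix.col_apply, Matrix.mul_apply, Matrix.transpose_apply, Finset.sum_mul,
        Finset.mul_sum]
      rw [Finset.sum_comm]
      refine Finset.sum_congr rfl fun x _ => Finset.sum_congr rfl fun y _ => ?_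
      ring
    rw [h4]
    exact halt _
  rw [h3] at h1
  simp only [Matrix.smul_apply, Matrix.reindex_apply, Matrix.submatrix_apply, Equiv.symm_symm, smul_eq_mul,
    hq, Equiv.apply_symm_apply, ptMat_apply, Finset.prod_const, Finset.card_univ, Fintype.card_fin] at h1
  rcases mul_eq_zero.mp h1.symm with h5 | h5
  · exact absurd h5 hc
  · exact pow_eq_zero_iff (by omega) |>.mp h5

/-- no tensor power structure when `n` is not a proper power -/
theorem bil_perfect_simple_of_not_pow (hn : 3 ≤ n) (hpow : ∀ k t : ℕ, 2 ≤ k → 2 ≤ t → k ^ t ≠ n)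
    {H N : Subgroup (GL (Fin n) F)} (hH : Irr H) (hD : AllNormalAbsIrr H) (hN : MinNonscalar N H)
    (hperf : ⁅N, N⁆ = N) :
    IsSimpleGroup (N ⧸ (scalars (Fin n) F).subgroupOf N) ∧
      ¬ IsMulCommutative (N ⧸ (scalars (Fin n) F).subgroupOf N) := by
  rcases perfect_structure_conj hn hH hD hN hperf with hsimple |
    ⟨k, t, X, θ₀, g, e, B, ht2, hk2, -⟩
  · exact hsimple
  · exfalso
    have h1 := Fintype.card_congr e
    rw [Fintype.card_fin, Fintype.card_fun, Fintype.card_fin, Fintype.card_fin] at h1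
    exact hpow k t hk2 ht2 h1.symm

end Cfsg.Agent.Lib.Helper19.ASG
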