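import Mathlib
import Cfsg.Prelude.Def_GeometricClasses
import Cfsg.Agent.Lib.Helper27.ASC.Defs
import Cfsg.Agent.Lib.Helper19.ASG.Defs
import Cfsg.Agent.Lib.Helper9.ASGD2T.Defs
import Cfsg.Agent.Lib.Helper9.ASGD2TF.Defs
import Cfsg.Agent.Lib.Helper11.ASGD2TPTMUL

set_option autoImplicit false
set_option linter.unusedVariables false
set_option linter.unusedSectionVars false
set_option maxHeartbeats 1000000

/-!
# Block D2T with a bilinear form: the binary symmetric factor is impossible (helper9)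

`tensorFac e B i` is multiplicative, unital and injective.  The special orthogonal group of a non-degenerate symmetric
binary form (`2 ≠ 0`) is commutative (`asgd2tbin_comm`); hence a perfect group of factor isometries
`tensorFac e B i a`, `aᵀ A a = A`, `A` binary symmetric, is trivial (`bil_binary_sym_trivial`): in the orthogonal case,
`q` odd, the tensor factors of block D2T have dimension `k ≥ 3`.
-/

namespace Cfsg.Agent.Lib.Helper19.ASG

open Cfsg Cfsg.Geo Cfsg.Agent.Lib.Helper27.ASC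
open scoped MatrixGroups Matrix commutatorElement

variable {n : ℕ} {F : Type*} [Field F]

theorem tensorFac_mul {k t : ℕ} (e : Fin n ≃ (Fin t → Fin k)) (B : GL (Fin n) F) (i : Fin t)
    (a b : Matrix (Fin k) (Fin k) F) : tensorFac e B i (a * b) = tensorFac e B i a * tensorFac e B i b := by
  classical
  have hBB' : ((B⁻¹ : GL (Fin n) F) : Matrix (Fin n) (Fin n) F) * (B : Matrix (Fin n) (Fin n) F) = 1 := by
    rw [← Units.val_mul, inv_mul_cancel, Units.val_one]
  have h1 : ptMat (Pi.mulSingle i (a * b)) = ptMat (Pi.mulSingle i a) * ptMat (Pi.mulSingle i b) := by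
    rw [← ptMat_mul, Pi.mulSingle_mul]
  have h2 : Matrix.reindex e.symm e.symm (ptMat (Pi.mulSingle i a) * ptMat (Pi.mulSingle i b)) =
      Matrix.reindex e.symm e.symm (ptMat (Pi.mulSingle i a)) *
        Matrix.reindex e.symm e.symm (ptMat (Pi.mulSingle i b)) := by
    simp only [Matrix.reindex_apply, Equiv.symm_symm]
    rw [Matrix.submatrix_mul_equiv]
  rw [tensorFac_def, tensorFac_def, tensorFac_def, h1, h2]
  calc (B : Matrix (Fin n) (Fin n) F) * (Matrix.reindex e.symm e.symm (ptMat (Pi.mulSingle i a)) *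
        Matrix.reindex e.symm e.symm (ptMat (Pi.mulSingle i b))) * ((B⁻¹ : GL (Fin n) F) : Matrix (Fin n) (Fin n) F)
      = (B : Matrix (Fin n) (Fin n) F) * Matrix.reindex e.symm e.symm (ptMat (Pi.mulSingle i a)) *
          (1 : Matrix (Fin n) (Fin n) F) * Matrix.reindex e.symm e.symm (ptMat (Pi.mulSingle i b)) *
          ((B⁻¹ : GL (Fin n) F) : Matrix (Fin n) (Fin n) F) := by
        rw [Matrix.mul_one]; simp only [Matrix.mul_assoc]
    _ = _ := by rw [← hBB']; simp only [Matrix.mul_assoc]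

theorem tensorFac_one {k t : ℕ} (e : Fin n ≃ (Fin t → Fin k)) (B : GL (Fin n) F) (i : Fin t) :
    tensorFac e B i (1 : Matrix (Fin k) (Fin k) F) = 1 := by
  classical
  rw [tensorFac_def, Pi.mulSingle_one, ptMat_one]
  have h2 : Matrix.reindex e.symm e.symm (1 : Matrix (Fin t → Fin k) (Fin t → Fin k) F) = 1 := by
    simp only [Matrix.reindex_apply, Equiv.symm_symm]
    exact Matrix.submatrix_one_equiv e
  rw [h2, Matrix.mul_one, ← Units.val_mul, mul_inv_cancel, Units.val_one]

theorem tensorFac_injective {k t : ℕ} (e : Fin n ≃ (Fin t → Fin k)) (B : GL (Fin n) F) (i : Fin t) :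
    Function.Injective (tensorFac e B i : Matrix (Fin k) (Fin k) F → Matrix (Fin n) (Fin n) F) := by
  classical
  intro a b hab
  rw [tensorFac_def, tensorFac_def] at hab
  have h1 : Matrix.reindex e.symm e.symm (ptMat (Pi.mulSingle i a) : Matrix (Fin t → Fin k) (Fin t → Fin k) F) =
      Matrix.reindex e.symm e.symm (ptMat (Pi.mulSingle i b)) := by
    have h2 := congrArg (fun T => ((B⁻¹ : GL (Fin n) F) : Matrix (Fin n) (Fin n) F) * T *
      (B : Matrix (Fin n) (Fin n) F)) hab
    simpa only [mul_assoc, Units.inv_mul_cancel_left, Units.inv_mul, mul_one] using h2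
  exact ptMat_single_injective i a b ((Matrix.reindex e.symm e.symm).injective h1)

/-- the `i`-th tensor factor as a monoid homomorphism -/
def tensorFacHom {k t : ℕ} (e : Fin n ≃ (Fin t → Fin k)) (B : GL (Fin n) F) (i : Fin t) :
    Matrix (Fin k) (Fin k) F →* Matrix (Fin n) (Fin n) F where
  toFun := tensorFac e B i
  map_one' := tensorFac_one e B i
  map_mul' := tensorFac_mul e B i

theorem tensorFacHom_apply {k t : ℕ} (e : Fin n ≃ (Fin t → Fin k)) (B : GL (Fin n) F) (i : Fin t)
    (a : Matrix (Fin k) (Fin k) F) : tensorFacHom e B i a = tensorFac e B i a := rfl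

theorem asgd2tbin_scalar (x y z p q r s p' q' r' s' : F) (h2 : (2 : F) ≠ 0) (hdet : x * z - y * y ≠ 0)
    (E1 : x * (p - s) + 2 * y * r = 0) (E2 : x * q + z * r = 0) (E4 : 2 * y * q - z * (p - s) = 0)
    (E1' : x * (p' - s') + 2 * y * r' = 0) (E2' : x * q' + z * r' = 0) (E4' : 2 * y * q' - z * (p' - s') = 0) :
    q * r' = q' * r ∧ q' * (p - s) = q * (p' - s') ∧ r * (p' - s') = r' * (p - s) := by
  by_cases hx : x = 0
  · subst hx
    have hy : y ≠ 0 := by
      intro hy; apply hdet; rw [hy]; ring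
    have h2y : (2 : F) * y ≠ 0 := mul_ne_zero h2 hy
    have hr : r = 0 := by
      have : 2 * y * r = 0 := by linear_combination E1
      exact (mul_eq_zero.mp this).resolve_left h2y
    have hr' : r' = 0 := by
      have : 2 * y * r' = 0 := by linear_combination E1'
      exact (mul_eq_zero.mp this).resolve_left h2y
    subst hr hr'
    refine ⟨by ring, ?_, by ring⟩
    apply mul_left_cancel₀ h2y
    linear_combination (p - s) * E4' - (p' - s') * E4
  · have hT1 : q * r' = q' * r := by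
      apply mul_left_cancel₀ hx
      linear_combination r' * E2 - r * E2'
    refine ⟨hT1, ?_, ?_⟩
    · apply mul_left_cancel₀ hx
      linear_combination q' * E1 - q * E1' + 2 * y * hT1
    · apply mul_left_cancel₀ hx
      linear_combination r * E1' - r' * E1

/-- the special orthogonal group of a non-degenerate symmetric binary form is commutative (`2 ≠ 0`) -/
theorem asgd2tbin_comm (A : Matrix (Fin 2) (Fin 2) F) (h2 : (2 : F) ≠ 0) (hAs : Aᵀ = A) (hdet : A.det ≠ 0)
    (a a' : Matrix (Fin 2) (Fin 2) F) (ha : aᵀ * A * a = A) (ha' : a'ᵀ * A * a' = A)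
    (hd : a.det = 1) (hd' : a'.det = 1) : a * a' = a' * a := by
  have key : ∀ b : Matrix (Fin 2) (Fin 2) F, bᵀ * A * b = A → b.det = 1 → A * b = (Matrix.adjugate b)ᵀ * A := by
    intro b hb hbd
    have h1 : (Matrix.adjugate b)ᵀ * bᵀ = 1 := by
      rw [← Matrix.transpose_mul, Matrix.mul_adjugate, hbd, one_smul, Matrix.transpose_one]
    calc A * b = ((Matrix.adjugate b)ᵀ * bᵀ) * (A * b) := by rw [h1, Matrix.one_mul]
      _ = (Matrix.adjugate b)ᵀ * (bᵀ * A * b) := by simp only [Matrix.mul_assoc]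
      _ = (Matrix.adjugate b)ᵀ * A := by rw [hb]
  have k1 := key a ha hd
  have k2 := key a' ha' hd'
  have hsym : A 1 0 = A 0 1 := by
    have := congrFun (congrFun hAs 0) 1
    rwa [Matrix.transpose_apply] at this
  rw [Matrix.det_fin_two] at hdet
  rw [Matrix.adjugate_fin_two] at k1 k2
  have e11 := congrFun (congrFun k1 0) 0
  have e12 := congrFun (congrFun k1 0) 1
  have e22 := congrFun (congrFun k1 1) 1
  have f11 := congrFun (congrFun k2 0) 0
  have f12 := congrFun (congrFun k2 0) 1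
  have f22 := congrFun (congrFun k2 1) 1
  simp only [Matrix.mul_apply, Fin.sum_univ_two, Matrix.transpose_apply, Matrix.of_apply, Matrix.cons_val',
    Matrix.cons_val_zero, Matrix.cons_val_one, Matrix.empty_val', Matrix.cons_val_fin_one, hsym]
    at e11 e12 e22 f11 f12 f22
  rw [hsym] at hdet
  obtain ⟨T1, T2, T3⟩ := asgd2tbin_scalar (A 0 0) (A 0 1) (A 1 1) (a 0 0) (a 0 1) (a 1 0) (a 1 1)
    (a' 0 0) (a' 0 1) (a' 1 0) (a' 1 1) h2 hdet (by linear_combination e11) (by linear_combination e12)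
    (by linear_combination e22) (by linear_combination f11) (by linear_combination f12)
    (by linear_combination f22)
  ext i j
  fin_cases i <;> fin_cases j <;> simp only [Matrix.mul_apply, Fin.sum_univ_two, Fin.zero_eta, Fin.mk_one]
  · linear_combination T1
  · linear_combination T2
  · linear_combination T3
  · linear_combination (-1 : F) * T1

/-- a perfect group of isometries of a binary symmetric tensor factor is trivial -/
theorem bil_binary_sym_trivial (h2 : (2 : F) ≠ 0) {t : ℕ} (e : Fin n ≃ (Fin t → Fin 2)) (B : GL (Fin n) F)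
    (i : Fin t) (A : Matrix (Fin 2) (Fin 2) F) (hA : IsUnit A.det) (hAs : Aᵀ = A)
    {K : Subgroup (GL (Fin n) F)}
    (hK : ∀ x ∈ K, ∃ a : Matrix (Fin 2) (Fin 2) F, (x : Matrix (Fin n) (Fin n) F) = tensorFac e B i a ∧
      aᵀ * A * a = A) (hperf : ⁅K, K⁆ = K) : K = ⊥ := by
  classical
  have hdetA : A.det ≠ 0 := hA.ne_zero
  -- isometries are invertible
  have hiso_unit : ∀ a : Matrix (Fin 2) (Fin 2) F, aᵀ * A * a = A → IsUnit a.det := by
    intro a ha
    have h1 := congrArg Matrix.det ha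
    rw [Matrix.det_mul, Matrix.det_mul, Matrix.det_transpose] at h1
    rw [isUnit_iff_ne_zero]
    intro h0
    rw [h0, zero_mul, zero_mul] at h1
    exact hdetA h1.symm
  let Φ : GL (Fin 2) F →* GL (Fin n) F := Units.map (tensorFacHom e B i)
  have hΦ : ∀ u : GL (Fin 2) F, ((Φ u : GL (Fin n) F) : Matrix (Fin n) (Fin n) F) =
      tensorFac e B i (u : Matrix (Fin 2) (Fin 2) F) := fun u => rfl
  -- the commuting set
  let S : Set (GL (Fin n) F) := {x | ∃ u : GL (Fin 2) F, x = Φ u ∧
    (u : Matrix (Fin 2) (Fin 2) F)ᵀ * A * (u : Matrix (Fin 2) (Fin 2) F) = A ∧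
    (u : Matrix (Fin 2) (Fin 2) F).det = 1}
  have hScomm : ∀ g ∈ S, ∀ g' ∈ S, g * g' = g' * g := by
    rintro g ⟨u, rfl, hu, hud⟩ g' ⟨u', rfl, hu', hud'⟩
    rw [← map_mul, ← map_mul]
    congr 1
    apply Units.ext
    rw [Units.val_mul, Units.val_mul]
    exact asgd2tbin_comm A h2 hAs hdetA _ _ hu hu' hud hud'
  have hlift : ∀ x ∈ K, ∃ u : GL (Fin 2) F, x = Φ u ∧
      (u : Matrix (Fin 2) (Fin 2) F)ᵀ * A * (u : Matrix (Fin 2) (Fin 2) F) = A := by
    intro x hx
    obtain ⟨a, ha, haA⟩ := hK x hx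
    refine ⟨Matrix.GeneralLinearGroup.mk'' a (hiso_unit a haA), ?_, haA⟩
    apply Units.ext
    rw [hΦ]
    exact ha
  have hiso_mul : ∀ u v : GL (Fin 2) F,
      (u : Matrix (Fin 2) (Fin 2) F)ᵀ * A * (u : Matrix (Fin 2) (Fin 2) F) = A →
      (v : Matrix (Fin 2) (Fin 2) F)ᵀ * A * (v : Matrix (Fin 2) (Fin 2) F) = A →
      ((u * v : GL (Fin 2) F) : Matrix (Fin 2) (Fin 2) F)ᵀ * A * ((u * v : GL (Fin 2) F) : Matrix (Fin 2) (Fin 2) F) = A := by
    intro u v hu hv
    rw [Units.val_mul, Matrix.transpose_mul]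
    calc (v : Matrix (Fin 2) (Fin 2) F)ᵀ * (u : Matrix (Fin 2) (Fin 2) F)ᵀ * A *
          ((u : Matrix (Fin 2) (Fin 2) F) * (v : Matrix (Fin 2) (Fin 2) F))
        = (v : Matrix (Fin 2) (Fin 2) F)ᵀ * ((u : Matrix (Fin 2) (Fin 2) F)ᵀ * A * (u : Matrix (Fin 2) (Fin 2) F)) *
            (v : Matrix (Fin 2) (Fin 2) F) := by simp only [Matrix.mul_assoc]
      _ = A := by rw [hu, hv]
  have hiso_inv : ∀ u : GL (Fin 2) F,
      (u : Matrix (Fin 2) (Fin 2) F)ᵀ * A * (u : Matrix (Fin 2) (Fin 2) F) = A →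
      ((u⁻¹ : GL (Fin 2) F) : Matrix (Fin 2) (Fin 2) F)ᵀ * A * ((u⁻¹ : GL (Fin 2) F) : Matrix (Fin 2) (Fin 2) F) = A := by
    intro u hu
    have h1 : (u : Matrix (Fin 2) (Fin 2) F) * ((u⁻¹ : GL (Fin 2) F) : Matrix (Fin 2) (Fin 2) F) = 1 := by
      rw [← Units.val_mul, mul_inv_cancel, Units.val_one]
    have h2' : ((u⁻¹ : GL (Fin 2) F) : Matrix (Fin 2) (Fin 2) F)ᵀ * (u : Matrix (Fin 2) (Fin 2) F)ᵀ = 1 := by
      rw [← Matrix.transpose_mul, h1, Matrix.transpose_one]
    calc ((u⁻¹ : GL (Fin 2) F) : Matrix (Fin 2) (Fin 2) F)ᵀ * A * ((u⁻¹ : GL (Fin 2) F) : Matrix (Fin 2) (Fin 2) F)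
        = ((u⁻¹ : GL (Fin 2) F) : Matrix (Fin 2) (Fin 2) F)ᵀ *
            ((u : Matrix (Fin 2) (Fin 2) F)ᵀ * A * (u : Matrix (Fin 2) (Fin 2) F)) *
            ((u⁻¹ : GL (Fin 2) F) : Matrix (Fin 2) (Fin 2) F) := by rw [hu]
      _ = (((u⁻¹ : GL (Fin 2) F) : Matrix (Fin 2) (Fin 2) F)ᵀ * (u : Matrix (Fin 2) (Fin 2) F)ᵀ) * A *
            ((u : Matrix (Fin 2) (Fin 2) F) * ((u⁻¹ : GL (Fin 2) F) : Matrix (Fin 2) (Fin 2) F)) := by
          simp only [Matrix.mul_assoc]
      _ = A := by rw [h1, h2', Matrix.one_mul, Matrix.mul_one]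
  have hcommS : ∀ x ∈ K, ∀ y ∈ K, ⁅x, y⁆ ∈ S := by
    intro x hx y hy
    obtain ⟨u, rfl, hu⟩ := hlift x hx
    obtain ⟨v, rfl, hv⟩ := hlift y hy
    refine ⟨⁅u, v⁆, (map_commutatorElement Φ u v).symm, ?_, ?_⟩
    · rw [commutatorElement_def]
      exact hiso_mul _ _ (hiso_mul _ _ (hiso_mul _ _ hu hv) (hiso_inv u hu)) (hiso_inv v hv)
    · have h1 : Matrix.GeneralLinearGroup.det ⁅u, v⁆ = 1 := by
        rw [map_commutatorElement]
        exact commutatorElement_eq_one_iff_commute.mpr (Commute.all _ _)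
      have h3 := congrArg Units.val h1
      rwa [Matrix.GeneralLinearGroup.val_det_apply, Units.val_one] at h3
  have hKle : K ≤ Subgroup.closure S := by
    rw [← hperf]
    exact Subgroup.commutator_le.mpr fun x hx y hy => Subgroup.subset_closure (hcommS x hx y hy)
  have h1 : Subgroup.closure S ≤ Subgroup.centralizer S := by
    rw [Subgroup.closure_le]
    intro g hg
    rw [SetLike.mem_coe, Subgroup.mem_centralizer_iff]
    intro g' hg'
    exact hScomm g' hg' g hg
  have h2' : Subgroup.closure S ≤ Subgroup.centralizer (Subgroup.closure S : Set (GL (Fin n) F)) := by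
    rw [Subgroup.closure_le]
    intro g hg
    rw [SetLike.mem_coe, Subgroup.mem_centralizer_iff]
    intro h hh
    have := Subgroup.mem_centralizer_iff.mp (h1 hh) g hg
    exact this.symm
  have hKab : ⁅K, K⁆ = ⊥ := by
    rw [Subgroup.commutator_eq_bot_iff_le_centralizer]
    intro x hx
    rw [Subgroup.mem_centralizer_iff]
    intro y hy
    exact Subgroup.mem_centralizer_iff.mp (h2' (hKle hx)) y (hKle hy)
  rw [← hperf, hKab]

end Cfsg.Agent.Lib.Helper19.ASG
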