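import Mathlib
import Cfsg.Prelude.Def_GeometricClasses
import Cfsg.Agent.Lib.Helper27.ASC.Defs
import Cfsg.Agent.Lib.Helper19.ASG.Defs
import Cfsg.Agent.Lib.Helper9.ASGD2T.Defs
import Cfsg.Agent.Lib.Helper9.ASGD2TF.Defs
import Cfsg.Agent.Lib.helper8.ASPC.Defs
import Cfsg.Agent.Lib.Helper9.ASPCEVQ1
import Cfsg.Agent.Lib.Helper11.ASGD2TPTMUL
import Cfsg.Agent.Lib.Helper22.ASPCFG

set_option autoImplicit false
set_option linter.unusedVariables false
set_option linter.unusedSectionVars false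
set_option maxHeartbeats 1000000

/-!
# Block D2T in characteristic 2: the quadratic form of a tensor power of alternating forms (helper9), matrix-only

`G` symmetric alternating (`v ⬝ᵥ G *ᵥ v = 0`), `Bᵀ G B = c • R (A ⊗ ⋯ ⊗ A)` with `A` of zero diagonal, `2 ≤ t`, `2 = 0`.
`qevForm G B v = ∑_{p < q} Ĝ p q w p w q` (`Ĝ = Bᵀ G B`, `w = B⁻¹ v`) satisfies: degree 2 homogeneous (`qev_smul`), polar form
`G` (`qev_polar`), invariant under the factor isometries (`qev_invariant`), and zero on the vectors `B w`, `w` supported on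
the indices with a prescribed coordinate (`qev_zero_of_support`).
-/

namespace Cfsg.Agent.Lib.Helper19.ASG

open Cfsg Cfsg.Geo Cfsg.Agent.Lib.Helper27.ASC Cfsg.Agent.Lib.Helper18.ASP
open scoped MatrixGroups Matrix

variable {n : ℕ} {F : Type*} [Field F]

/-- the quadratic form `∑_{p < q} Ĝ p q w p w q`, `Ĝ = Bᵀ G B`, `w = B⁻¹ v` -/
def qevForm (G : Matrix (Fin n) (Fin n) F) (B : GL (Fin n) F) (v : Fin n → F) : F :=
  formOfGram id (upperPart ((B : Matrix (Fin n) (Fin n) F)ᵀ * G * (B : Matrix (Fin n) (Fin n) F)))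
    (((B⁻¹ : GL (Fin n) F) : Matrix (Fin n) (Fin n) F) *ᵥ v)
    (((B⁻¹ : GL (Fin n) F) : Matrix (Fin n) (Fin n) F) *ᵥ v)

theorem qevForm_def (G : Matrix (Fin n) (Fin n) F) (B : GL (Fin n) F) (v : Fin n → F) :
    qevForm G B v =
      formOfGram id (upperPart ((B : Matrix (Fin n) (Fin n) F)ᵀ * G * (B : Matrix (Fin n) (Fin n) F)))
        (((B⁻¹ : GL (Fin n) F) : Matrix (Fin n) (Fin n) F) *ᵥ v)
        (((B⁻¹ : GL (Fin n) F) : Matrix (Fin n) (Fin n) F) *ᵥ v) := rfl

theorem asgd2tqev_hom {κ : Type} [Fintype κ] (M : Matrix κ κ F) (r : F) (w : κ → F) :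
    formOfGram id M (r • w) (r • w) = r ^ 2 * formOfGram id M w w := by
  unfold formOfGram
  rw [Finset.mul_sum]
  refine Finset.sum_congr rfl fun a _ => ?_
  rw [Finset.mul_sum]
  refine Finset.sum_congr rfl fun b _ => ?_
  simp only [Pi.smul_apply, smul_eq_mul, id]; ring

theorem asgd2tqev_dot (B G : Matrix (Fin n) (Fin n) F) (u v : Fin n → F) :
    (B *ᵥ u) ⬝ᵥ (G *ᵥ (B *ᵥ v)) = u ⬝ᵥ ((Bᵀ * G * B) *ᵥ v) := by
  rw [← Matrix.mulVec_mulVec, ← Matrix.mulVec_mulVec, Matrix.dotProduct_mulVec u Bᵀ, Matrix.vecMul_transpose]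

theorem qev_smul (G : Matrix (Fin n) (Fin n) F) (B : GL (Fin n) F) (r : F) (v : Fin n → F) :
    qevForm G B (r • v) = r ^ 2 * qevForm G B v := by
  rw [qevForm_def, qevForm_def, Matrix.mulVec_smul, asgd2tqev_hom]

/-- the polar form of `qevForm` is the form of `G` (characteristic 2, `G` symmetric and alternating) -/
theorem qev_polar (h2 : (2 : F) = 0) (G : Matrix (Fin n) (Fin n) F) (hGs : Gᵀ = G)
    (halt : ∀ v : Fin n → F, v ⬝ᵥ (G *ᵥ v) = 0) (B : GL (Fin n) F) (u v : Fin n → F) :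
    qevForm G B (u + v) - qevForm G B u - qevForm G B v = u ⬝ᵥ (G *ᵥ v) := by
  classical
  set Gh : Matrix (Fin n) (Fin n) F := (B : Matrix (Fin n) (Fin n) F)ᵀ * G * (B : Matrix (Fin n) (Fin n) F) with hGh
  have hBB : (B : Matrix (Fin n) (Fin n) F) * ((B⁻¹ : GL (Fin n) F) : Matrix (Fin n) (Fin n) F) = 1 := by
    rw [← Units.val_mul, mul_inv_cancel, Units.val_one]
  have hGhs : Ghᵀ = Gh := by
    rw [hGh, Matrix.transpose_mul, Matrix.transpose_mul, Matrix.transpose_transpose, hGs, Matrix.mul_assoc]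
  have hGh0 : ∀ p, Gh p p = 0 := by
    intro p
    have h1 : Gh p p = (Pi.single p 1 : Fin n → F) ⬝ᵥ (Gh *ᵥ Pi.single p 1) := by
      rw [Matrix.mulVec_single_one, single_one_dotProduct]
      rfl
    rw [h1, hGh, ← asgd2tqev_dot]
    exact halt _
  have hM : upperPart Gh + (upperPart Gh)ᵀ = Gh := by
    ext p q
    rw [Matrix.add_apply, Matrix.transpose_apply, aspcevq1_upper Gh hGhs hGh0]
  have hBv : ∀ v : Fin n → F, (B : Matrix (Fin n) (Fin n) F) *ᵥ
      (((B⁻¹ : GL (Fin n) F) : Matrix (Fin n) (Fin n) F) *ᵥ v) = v := by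
    intro v
    rw [Matrix.mulVec_mulVec, hBB, Matrix.one_mulVec]
  rw [qevForm_def, qevForm_def, qevForm_def, Matrix.mulVec_add, aspcevq1_polar, hM, spc_formOfGram_eq_dot, hGh,
    ← asgd2tqev_dot, hBv u, hBv v]

/-- an additive function, homogeneous of degree 2, vanishing on the standard basis is zero -/
theorem asgd2tqev_zero (D : (Fin n → F) → F) (hadd : ∀ x y, D (x + y) = D x + D y)
    (hsm : ∀ (c : F) x, D (c • x) = c ^ 2 * D x) (hb : ∀ p : Fin n, D (Pi.single p 1) = 0) : ∀ w, D w = 0 := by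
  classical
  have h0 : D 0 = 0 := by
    have h := hadd 0 0
    rw [add_zero] at h
    exact left_eq_add.mp h
  have hsum : ∀ (s : Finset (Fin n)) (g : Fin n → (Fin n → F)), D (∑ p ∈ s, g p) = ∑ p ∈ s, D (g p) := by
    intro s g
    induction s using Finset.induction_on with
    | empty => simpa using h0
    | insert a s ha ih => rw [Finset.sum_insert ha, Finset.sum_insert ha, hadd, ih]
  intro w
  have hw : w = ∑ p : Fin n, w p • (Pi.single p (1 : F) : Fin n → F) := by
    funext q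
    rw [Finset.sum_apply, Finset.sum_eq_single q]
    · simp
    · intro p _ hpq
      simp [hpq.symm]
    · intro h; exact absurd (Finset.mem_univ q) h
  rw [hw, hsum]
  refine Finset.sum_eq_zero fun p _ => ?_
  rw [hsm, hb, mul_zero]

/-- the transpose of a one-factor pure tensor -/
theorem asgd2tqev_single_transpose {k t : ℕ} (i : Fin t) (a : Matrix (Fin k) (Fin k) F) :
    (ptMat (Pi.mulSingle i a))ᵀ = ptMat (Pi.mulSingle i aᵀ) := by
  classical
  ext x y
  rw [Matrix.transpose_apply, ptMat_apply, ptMat_apply]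
  refine Finset.prod_congr rfl fun j _ => ?_
  by_cases hj : j = i
  · subst hj
    rw [Pi.mulSingle_eq_same, Pi.mulSingle_eq_same, Matrix.transpose_apply]
  · rw [Pi.mulSingle_eq_of_ne hj, Pi.mulSingle_eq_of_ne hj, Matrix.one_apply, Matrix.one_apply]
    by_cases hxy : x j = y j
    · rw [if_pos hxy, if_pos hxy.symm]
    · rw [if_neg hxy, if_neg (fun h => hxy h.symm)]

/-- a factor isometry preserves the tensor power Gram matrix -/
theorem asgd2tqev_inv {k t : ℕ} (e : Fin n ≃ (Fin t → Fin k)) (A a : Matrix (Fin k) (Fin k) F)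
    (haA : aᵀ * A * a = A) (i : Fin t) (c : F) :
    (Matrix.reindex e.symm e.symm (ptMat (Pi.mulSingle i a)))ᵀ *
      (c • Matrix.reindex e.symm e.symm (ptMat (fun _ : Fin t => A))) *
      Matrix.reindex e.symm e.symm (ptMat (Pi.mulSingle i a)) =
      c • Matrix.reindex e.symm e.symm (ptMat (fun _ : Fin t => A)) := by
  classical
  have h1 : (ptMat (Pi.mulSingle i a))ᵀ * ptMat (fun _ : Fin t => A) * ptMat (Pi.mulSingle i a) =
      ptMat (fun _ : Fin t => A) := by
    rw [asgd2tqev_single_transpose, ← ptMat_mul, ← ptMat_mul]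
    congr 1
    funext j
    by_cases hj : j = i
    · subst hj
      simp only [Pi.mul_apply, Pi.mulSingle_eq_same]
      exact haA
    · simp only [Pi.mul_apply, Pi.mulSingle_eq_of_ne hj, one_mul, mul_one]
  simp only [Matrix.reindex_apply, Equiv.symm_symm, Matrix.transpose_submatrix, Matrix.mul_smul, Matrix.smul_mul]
  rw [Matrix.submatrix_mul_equiv, Matrix.submatrix_mul_equiv, h1]

/-- `qevForm` vanishes on `B w` when `w` is supported on indices with a prescribed coordinate -/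
theorem qev_zero_of_support (G : Matrix (Fin n) (Fin n) F) {k t : ℕ} (e : Fin n ≃ (Fin t → Fin k))
    (B : GL (Fin n) F) (A : Matrix (Fin k) (Fin k) F) (hAd : ∀ p, A p p = 0) (c : F)
    (hgram : (B : Matrix (Fin n) (Fin n) F)ᵀ * G * (B : Matrix (Fin n) (Fin n) F) =
      c • Matrix.reindex e.symm e.symm (ptMat (fun _ : Fin t => A)))
    (i₀ : Fin t) (x₀ : Fin k) (w : Fin n → F) (hw : ∀ p, e p i₀ ≠ x₀ → w p = 0) :
    qevForm G B ((B : Matrix (Fin n) (Fin n) F) *ᵥ w) = 0 := by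
  classical
  have hBB' : ((B⁻¹ : GL (Fin n) F) : Matrix (Fin n) (Fin n) F) * (B : Matrix (Fin n) (Fin n) F) = 1 := by
    rw [← Units.val_mul, inv_mul_cancel, Units.val_one]
  rw [qevForm_def, Matrix.mulVec_mulVec, hBB', Matrix.one_mulVec, hgram]
  unfold formOfGram
  refine Finset.sum_eq_zero fun p _ => Finset.sum_eq_zero fun q _ => ?_
  rw [upperPart_apply]
  by_cases hlt : p < q
  · rw [if_pos hlt]
    by_cases hp : e p i₀ = x₀
    · by_cases hq : e q i₀ = x₀
      · have h0 : (c • Matrix.reindex e.symm e.symm (ptMat (fun _ : Fin t => A))) p q = 0 := by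
          simp only [Matrix.smul_apply, Matrix.reindex_apply, Equiv.symm_symm, Matrix.submatrix_apply, ptMat_apply,
            smul_eq_mul]
          have : ∏ j, A (e p j) (e q j) = 0 := by
            apply Finset.prod_eq_zero (Finset.mem_univ i₀)
            rw [hp, hq]
            exact hAd _
          rw [this, mul_zero]
        rw [h0, mul_zero, zero_mul]
      · rw [hw q hq, id, mul_zero]
    · rw [hw p hp, zero_mul, zero_mul]
  · rw [if_neg hlt, mul_zero, zero_mul]

/-- `qevForm` is invariant under the factor isometries (characteristic 2, zero diagonal, at least two factors) -/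
theorem qev_invariant (h2 : (2 : F) = 0) (G : Matrix (Fin n) (Fin n) F) (hGs : Gᵀ = G)
    (halt : ∀ v : Fin n → F, v ⬝ᵥ (G *ᵥ v) = 0) {k t : ℕ} (ht : 2 ≤ t) (e : Fin n ≃ (Fin t → Fin k))
    (B : GL (Fin n) F) (A : Matrix (Fin k) (Fin k) F) (hAd : ∀ p, A p p = 0) (c : F)
    (hgram : (B : Matrix (Fin n) (Fin n) F)ᵀ * G * (B : Matrix (Fin n) (Fin n) F) =
      c • Matrix.reindex e.symm e.symm (ptMat (fun _ : Fin t => A)))
    (i : Fin t) (a : Matrix (Fin k) (Fin k) F) (haA : aᵀ * A * a = A) (v : Fin n → F) :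
    qevForm G B (tensorFac e B i a *ᵥ v) = qevForm G B v := by
  classical
  have hBB : (B : Matrix (Fin n) (Fin n) F) * ((B⁻¹ : GL (Fin n) F) : Matrix (Fin n) (Fin n) F) = 1 := by
    rw [← Units.val_mul, mul_inv_cancel, Units.val_one]
  have hBB' : ((B⁻¹ : GL (Fin n) F) : Matrix (Fin n) (Fin n) F) * (B : Matrix (Fin n) (Fin n) F) = 1 := by
    rw [← Units.val_mul, inv_mul_cancel, Units.val_one]
  set M : Matrix (Fin n) (Fin n) F := Matrix.reindex e.symm e.symm (ptMat (Pi.mulSingle i a)) with hM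
  -- work with `D w = Q (B M w) - Q (B w)`
  have hD := asgd2tqev_zero (fun w => qevForm G B ((B : Matrix (Fin n) (Fin n) F) *ᵥ (M *ᵥ w)) -
      qevForm G B ((B : Matrix (Fin n) (Fin n) F) *ᵥ w)) ?_ ?_ ?_
      (((B⁻¹ : GL (Fin n) F) : Matrix (Fin n) (Fin n) F) *ᵥ v)
  · have h1 : tensorFac e B i a *ᵥ v = (B : Matrix (Fin n) (Fin n) F) *ᵥ (M *ᵥ
        (((B⁻¹ : GL (Fin n) F) : Matrix (Fin n) (Fin n) F) *ᵥ v)) := by
      rw [tensorFac_def, Matrix.mulVec_mulVec, Matrix.mulVec_mulVec]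
    have h3 : (B : Matrix (Fin n) (Fin n) F) *ᵥ (((B⁻¹ : GL (Fin n) F) : Matrix (Fin n) (Fin n) F) *ᵥ v) = v := by
      rw [Matrix.mulVec_mulVec, hBB, Matrix.one_mulVec]
    rw [h1]
    have h4 := sub_eq_zero.mp hD
    rw [h3] at h4
    exact h4
  · intro x y
    have hiso : ((B : Matrix (Fin n) (Fin n) F) *ᵥ (M *ᵥ x)) ⬝ᵥ (G *ᵥ ((B : Matrix (Fin n) (Fin n) F) *ᵥ (M *ᵥ y))) =
        ((B : Matrix (Fin n) (Fin n) F) *ᵥ x) ⬝ᵥ (G *ᵥ ((B : Matrix (Fin n) (Fin n) F) *ᵥ y)) := by
      rw [asgd2tqev_dot, asgd2tqev_dot, asgd2tqev_dot, hgram, hM, asgd2tqev_inv e A a haA i c]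
    have h4 := qev_polar h2 G hGs halt B ((B : Matrix (Fin n) (Fin n) F) *ᵥ (M *ᵥ x))
      ((B : Matrix (Fin n) (Fin n) F) *ᵥ (M *ᵥ y))
    have h5 := qev_polar h2 G hGs halt B ((B : Matrix (Fin n) (Fin n) F) *ᵥ x) ((B : Matrix (Fin n) (Fin n) F) *ᵥ y)
    rw [hiso] at h4
    show qevForm G B _ - qevForm G B _ = _
    rw [Matrix.mulVec_add, Matrix.mulVec_add, Matrix.mulVec_add]
    linear_combination h4 - h5
  · intro r x
    show qevForm G B _ - qevForm G B _ = _
    rw [Matrix.mulVec_smul, Matrix.mulVec_smul, Matrix.mulVec_smul, qev_smul, qev_smul]; ring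
  · intro p
    show qevForm G B _ - qevForm G B _ = _
    obtain ⟨j₀, hj₀⟩ : ∃ j₀ : Fin t, j₀ ≠ i := by
      by_cases hi : i.val = 0
      · refine ⟨⟨1, by omega⟩, fun h => ?_⟩
        have := congrArg Fin.val h
        simp at this
        omega
      · refine ⟨⟨0, by omega⟩, fun h => ?_⟩
        have := congrArg Fin.val h
        simp at this
        omega
    have h1 : qevForm G B ((B : Matrix (Fin n) (Fin n) F) *ᵥ Pi.single p 1) = 0 := by
      apply qev_zero_of_support G e B A hAd c hgram j₀ (e p j₀)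
      intro q hq
      have : q ≠ p := fun h => hq (by rw [h])
      simp [this]
    have h2' : qevForm G B ((B : Matrix (Fin n) (Fin n) F) *ᵥ (M *ᵥ Pi.single p 1)) = 0 := by
      apply qev_zero_of_support G e B A hAd c hgram j₀ (e p j₀)
      intro q hq
      rw [Matrix.mulVec_single_one]
      show M q p = 0
      rw [hM]
      simp only [Matrix.reindex_apply, Equiv.symm_symm, Matrix.submatrix_apply]
      rw [asgd2tptmul_single_apply, if_neg]
      intro hall
      exact hq (hall j₀ hj₀)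
    rw [h1, h2', sub_zero]

end Cfsg.Agent.Lib.Helper19.ASG
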