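import Mathlib
import Cfsg.Prelude.Def_GeometricClasses
import Cfsg.Agent.Lib.Helper27.ASC.Defs
import Cfsg.Agent.Lib.Helper19.ASG.Defs
import Cfsg.Agent.Lib.Helper29.ASCGRAM
import Cfsg.Agent.Lib.Helper9.ASGD2T.Defs
import Cfsg.Agent.Lib.Helper9.ASGD2TF.Defs
import Cfsg.Agent.Lib.Helper9.ASGD2TASM2
import Cfsg.Agent.Lib.Helper9.ASGD2TBIL
import Cfsg.Agent.Lib.Helper9.ASGD2TBIN
import Cfsg.Agent.Lib.Helper9.ASGD2TQEV

set_option autoImplicit false
set_option linter.unusedVariables false
set_option linter.unusedSectionVars false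
set_option maxHeartbeats 1000000

/-!
# Block D2T for a QUADRATIC form (orthogonal groups, all characteristics, any dimension `n ≥ 3`) - helper9

`quad_perfect_structure` : `Q` a non-degenerate quadratic form on `F^n` (plain function, as in the frozen rows), `H` a group of
isometries of `Q`, irreducible, with all non-scalar normal subgroups absolutely irreducible, `N` a minimal non-scalar normal
subgroup of `H`, perfect.  Then `N / scalars` is non-abelian simple, or `H` preserves a tensor power structure `(e, B)` with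
Gram matrix (of the polar form) `c • A ⊗ ⋯ ⊗ A` and
* `2 ≠ 0` : `A` symmetric and `k ≥ 3`, or `A` skew-symmetric and `t` even;
* `2 = 0` : `A` symmetric with zero diagonal and `Q = qevForm G B` (the quadratic form vanishing on the basis tensors).
`quad_perfect_rows` : for `n = 8, 10, 12` the second alternative forces `n = 8`, `2 = 0` and `Q` of plus type.
-/

namespace Cfsg.Agent.Lib.Helper9.QD2T

open Cfsg Cfsg.Geo Cfsg.Agent.Lib.Helper27.ASC Cfsg.Agent.Lib.Helper19.ASG
open scoped MatrixGroups Matrix commutatorElement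

variable {n : ℕ} {F : Type*} [Field F] [Fintype F]

/-- the Gram matrix of the polar form -/
theorem qd2t_gram (Q : (Fin n → F) → F) (hQ : IsNondegenerateQuadraticForm Q) (u v : Fin n → F) :
    QuadraticMap.polar Q u v = u ⬝ᵥ (ascformGram (QuadraticMap.polar Q) *ᵥ v) := by
  have hb := hQ.polar_bilinear
  have h := ascform_gram (RingHom.id F) (QuadraticMap.polar Q) hb.add_left hb.smul_left hb.add_right
    (by intro c v x; simpa using hb.smul_right c v x) u v
  simpa using h

theorem qd2t_gram_det (Q : (Fin n → F) → F) (hQ : IsNondegenerateQuadraticForm Q) :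
    IsUnit (ascformGram (QuadraticMap.polar Q)).det := by
  apply ascform_gram_isUnit_det (RingEquiv.refl F)
  intro v hv
  obtain ⟨x, hx⟩ := (hQ.nondegenerate v hv).1
  refine ⟨x, ?_⟩
  have h := qd2t_gram Q hQ x v
  simpa [← h] using hx

theorem qd2t_gram_symm (Q : (Fin n → F) → F) :
    (ascformGram (QuadraticMap.polar Q))ᵀ = ascformGram (QuadraticMap.polar Q) := by
  ext i j
  show QuadraticMap.polar Q (Pi.single j 1) (Pi.single i 1) = QuadraticMap.polar Q (Pi.single i 1) (Pi.single j 1)
  exact QuadraticMap.polar_comm Q _ _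

theorem qd2t_entry (G N : Matrix (Fin n) (Fin n) F) (p q : Fin n) :
    (Nᵀ * G * N) p q = (N *ᵥ Pi.single p 1) ⬝ᵥ (G *ᵥ (N *ᵥ Pi.single q 1)) := by
  rw [asgd2tqev_dot, Matrix.mulVec_single_one, single_one_dotProduct]
  rfl

/-- D2T for a quadratic form: the structure theorem -/
theorem quad_perfect_structure (hn : 3 ≤ n) (Q : (Fin n → F) → F) (hQ : IsNondegenerateQuadraticForm Q)
    {H N : Subgroup (GL (Fin n) F)}
    (hfix : ∀ h ∈ H, ∀ v : Fin n → F, Q ((h : Matrix (Fin n) (Fin n) F) *ᵥ v) = Q v)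
    (hH : Irr H) (hD : AllNormalAbsIrr H) (hN : MinNonscalar N H) (hperf : ⁅N, N⁆ = N) :
    (IsSimpleGroup (N ⧸ (scalars (Fin n) F).subgroupOf N) ∧
      ¬ IsMulCommutative (N ⧸ (scalars (Fin n) F).subgroupOf N)) ∨
    ∃ (k t : ℕ) (e : Fin n ≃ (Fin t → Fin k)) (B : GL (Fin n) F) (A : Matrix (Fin k) (Fin k) F) (c : F),
      2 ≤ t ∧ 2 ≤ k ∧ c ≠ 0 ∧ IsUnit A.det ∧
      (B : Matrix (Fin n) (Fin n) F)ᵀ * ascformGram (QuadraticMap.polar Q) * (B : Matrix (Fin n) (Fin n) F) =
        c • Matrix.reindex e.symm e.symm (ptMat (fun _ : Fin t => A)) ∧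
      H ≤ tensorWreathSubgroup k t e B ∧
      (((2 : F) ≠ 0 ∧ ((Aᵀ = A ∧ 3 ≤ k) ∨ (Aᵀ = -A ∧ Even t))) ∨
        ((2 : F) = 0 ∧ Aᵀ = A ∧ (∀ p, A p p = 0) ∧
          ∀ v, Q v = qevForm (ascformGram (QuadraticMap.polar Q)) B v)) := by
  classical
  set G := ascformGram (QuadraticMap.polar Q) with hGdef
  have hGf : ∀ u v, QuadraticMap.polar Q u v = u ⬝ᵥ (G *ᵥ v) := qd2t_gram Q hQ
  have hG : IsUnit G.det := qd2t_gram_det Q hQ
  have hGs : Gᵀ = G := qd2t_gram_symm Q
  have hGt : Gᵀ = (1 : F) • G := by rw [one_smul]; exact hGs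
  have hpolinv : ∀ h ∈ H, ∀ u v : Fin n → F,
      QuadraticMap.polar Q ((h : Matrix (Fin n) (Fin n) F) *ᵥ u) ((h : Matrix (Fin n) (Fin n) F) *ᵥ v) =
        QuadraticMap.polar Q u v := by
    intro h hh u v
    unfold QuadraticMap.polar
    rw [← Matrix.mulVec_add, hfix h hh, hfix h hh, hfix h hh]
  have hI : ∀ h ∈ H, (h : Matrix (Fin n) (Fin n) F)ᵀ * G * (h : Matrix (Fin n) (Fin n) F) = G := by
    intro h hh
    ext p q
    rw [qd2t_entry, ← hGf, hpolinv h hh, hGf, Matrix.mulVec_single_one, single_one_dotProduct]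
    rfl
  rcases bil_perfect_structure hn G hG 1 one_ne_zero hGt hI hH hD hN hperf with hsimple |
    ⟨k, t, X, e, B, A, c, δ, ht2, hk2, hc, hgram, hδA, hδt, hdiag, hXinj, hXmin, hXsup, hXperf, hXfac, hXperm, hle⟩
  · exact Or.inl hsimple
  right
  have ht0 : 0 < t := by omega
  have hk0 : 0 < k := by omega
  have hAunit : IsUnit (A : Matrix (Fin k) (Fin k) F).det := by
    rw [← Matrix.isUnit_iff_isUnit_det]
    exact ⟨A, rfl⟩
  have hAne : (A : Matrix (Fin k) (Fin k) F) ≠ 0 := by
    intro h0
    have hne : Nonempty (Fin k) := ⟨⟨0, hk0⟩⟩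
    rw [h0, Matrix.det_zero] at hAunit
    exact not_isUnit_zero hAunit
  have hδ2 : δ * δ = 1 := by
    have h1 : (A : Matrix (Fin k) (Fin k) F) = (δ * δ) • (A : Matrix (Fin k) (Fin k) F) := by
      have h2 := congrArg Matrix.transpose hδA
      rw [Matrix.transpose_transpose, Matrix.transpose_smul, hδA, smul_smul] at h2
      exact h2
    by_contra hne
    apply hAne
    have h3 : (1 - δ * δ) • (A : Matrix (Fin k) (Fin k) F) = 0 := by
      rw [sub_smul, one_smul, ← h1, sub_self]
    rcases smul_eq_zero.mp h3 with h4 | h4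
    · exact absurd (sub_eq_zero.mp h4).symm hne
    · exact h4
  have hδcases : δ = 1 ∨ δ = -1 := by
    have h1 : (δ - 1) * (δ + 1) = 0 := by ring_nf; rw [show δ ^ 2 = δ * δ by ring, hδ2]; ring
    rcases mul_eq_zero.mp h1 with h2 | h2
    · exact Or.inl (sub_eq_zero.mp h2)
    · exact Or.inr (eq_neg_of_add_eq_zero_left h2)
  refine ⟨k, t, e, B, (A : Matrix (Fin k) (Fin k) F), c, ht2, hk2, hc, hAunit, hgram, hle, ?_⟩
  by_cases h2 : (2 : F) = 0
  · -- characteristic 2
    right
    have hneg : ∀ x : F, -x = x := by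
      intro x
      apply neg_eq_of_add_eq_zero_right
      rw [← two_mul, h2, zero_mul]
    have hδ1 : δ = 1 := by
      rcases hδcases with h | h
      · exact h
      · rw [h, hneg]
    have hAs : (A : Matrix (Fin k) (Fin k) F)ᵀ = (A : Matrix (Fin k) (Fin k) F) := by rw [hδA, hδ1, one_smul]
    have hQ0 : Q 0 = 0 := by
      have := hQ.smul 0 0
      simpa using this
    have halt : ∀ v : Fin n → F, v ⬝ᵥ (G *ᵥ v) = 0 := by
      intro v
      rw [← hGf]
      unfold QuadraticMap.polar
      have h3 : v + v = (2 : F) • v := (two_smul F v).symm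
      rw [h3, h2, zero_smul, hQ0]
      have h4 : Q v + Q v = 0 := by rw [← two_mul, h2, zero_mul]
      rw [zero_sub, sub_eq_add_neg, ← neg_add, h4, neg_zero]
    have hAd := hdiag halt
    refine ⟨h2, hAs, hAd, ?_⟩
    -- uniqueness of the quadratic form
    have hXH : ∀ i, X i ≤ H := fun i => (hXmin i).1.1.trans hN.1.1
    have hNqev : N ≤ asgd2tasmQIso (qevForm G B) := by
      rw [← hXsup]
      refine iSup_le fun i x hx => ?_
      obtain ⟨a, ha, haA⟩ := hXfac i x hx
      intro v
      rw [ha]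
      exact qev_invariant h2 G hGs halt ht2 e B (A : Matrix (Fin k) (Fin k) F) hAd c hgram i a haA v
    have hNA : AbsIrr N := (hD N hN.1).resolve_left hN.2.1
    -- the difference
    have hDadd : ∀ u v : Fin n → F, (Q (u + v) - qevForm G B (u + v)) =
        (Q u - qevForm G B u) + (Q v - qevForm G B v) := by
      intro u v
      have h3 := qev_polar h2 G hGs halt B u v
      have h4 := hGf u v
      unfold QuadraticMap.polar at h4
      linear_combination h4 - h3
    have hDsm : ∀ (r : F) (v : Fin n → F), (Q (r • v) - qevForm G B (r • v)) =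
        r ^ 2 * (Q v - qevForm G B v) := by
      intro r v
      rw [hQ.smul, qev_smul]; ring
    let W : Submodule F (Fin n → F) :=
      { carrier := {v | Q v - qevForm G B v = 0}
        add_mem' := by
          intro u v hu hv
          show Q (u + v) - qevForm G B (u + v) = 0
          rw [hDadd, hu, hv, add_zero]
        zero_mem' := by
          show Q 0 - qevForm G B 0 = 0
          have := hDsm 0 0
          simpa using this
        smul_mem' := by
          intro r v hv
          show Q (r • v) - qevForm G B (r • v) = 0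
          rw [hDsm, hv, mul_zero] }
    have hWinv : ∀ s ∈ matrixSet N, W.map (Matrix.toLin' s) ≤ W := by
      rintro _ ⟨x, hx, rfl⟩ _ ⟨v, hv, rfl⟩
      show Q (Matrix.toLin' (x : Matrix (Fin n) (Fin n) F) v) -
        qevForm G B (Matrix.toLin' (x : Matrix (Fin n) (Fin n) F) v) = 0
      rw [Matrix.toLin'_apply, hfix x (hN.1.1 hx), hNqev hx v]
      exact hv
    rcases hNA.1 W hWinv with hW | hW
    · -- impossible: an injective additive map `F^n → F`
      exfalso
      have hinj : Function.Injective (fun v : Fin n → F => Q v - qevForm G B v) := by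
        intro u v huv
        have h3 : Q (u - v) - qevForm G B (u - v) = 0 := by
          have h4 := hDadd (u - v) v
          rw [sub_add_cancel] at h4
          have h5 : Q u - qevForm G B u = Q v - qevForm G B v := huv
          rw [h5] at h4
          exact (add_eq_right.mp h4.symm)
        have h6 : u - v ∈ W := h3
        rw [hW, Submodule.mem_bot] at h6
        exact sub_eq_zero.mp h6
      have hcard := Fintype.card_le_of_injective _ hinj
      rw [Fintype.card_fun, Fintype.card_fin] at hcard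
      have hq : 1 < Fintype.card F := Fintype.one_lt_card
      have h7 : Fintype.card F ^ 2 ≤ Fintype.card F ^ n := Nat.pow_le_pow_right (by omega) (by omega)
      have h8 : Fintype.card F < Fintype.card F ^ 2 := by
        rw [pow_two]
        exact lt_mul_left (by omega) hq
      omega
    · intro v
      have hv : v ∈ W := by rw [hW]; exact Submodule.mem_top
      exact sub_eq_zero.mp hv
  · -- odd characteristic
    left
    refine ⟨h2, ?_⟩
    rcases hδcases with hδ1 | hδ1
    · left
      have hAs : (A : Matrix (Fin k) (Fin k) F)ᵀ = (A : Matrix (Fin k) (Fin k) F) := by rw [hδA, hδ1, one_smul]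
      refine ⟨hAs, ?_⟩
      by_contra hk3
      have hk : k = 2 := by omega
      subst hk
      have hbot := bil_binary_sym_trivial h2 e B ⟨0, ht0⟩ (A : Matrix (Fin 2) (Fin 2) F) hAunit hAs
        (hXfac ⟨0, ht0⟩) (hXperf ⟨0, ht0⟩)
      apply (hXmin ⟨0, ht0⟩).2.1
      rw [hbot]
      exact bot_le
    · right
      have hAskew : (A : Matrix (Fin k) (Fin k) F)ᵀ = -(A : Matrix (Fin k) (Fin k) F) := by
        rw [hδA, hδ1, neg_one_smul]
      refine ⟨hAskew, ?_⟩
      by_contra hne
      have hodd : Odd t := Nat.not_even_iff_odd.mp hne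
      rw [hδ1, hodd.neg_one_pow] at hδt
      apply h2
      have : (1 : F) + 1 = 0 := by
        nth_rewrite 1 [← hδt]; ring
      rw [← one_add_one_eq_two]; exact this

theorem qd2t_pow8 (k t : ℕ) (hk : 2 ≤ k) (ht : 2 ≤ t) (h : k ^ t = 8) : k = 2 ∧ t = 3 := by
  have hk3 : k < 3 := by
    by_contra hge
    have h1 : 3 ^ 2 ≤ k ^ t := (Nat.pow_le_pow_left (by omega) 2).trans (Nat.pow_le_pow_right (by omega) ht)
    omega
  have hk2 : k = 2 := by omega
  subst hk2
  have ht4 : t < 4 := by
    by_contra hge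
    have h1 : 2 ^ 4 ≤ 2 ^ t := Nat.pow_le_pow_right (by omega) (by omega)
    omega
  interval_cases t <;> simp_all

theorem qd2t_pow10 (k t : ℕ) (hk : 2 ≤ k) (ht : 2 ≤ t) : k ^ t ≠ 10 := by
  intro h
  have hk4 : k < 4 := by
    by_contra hge
    have h1 : 4 ^ 2 ≤ k ^ t := (Nat.pow_le_pow_left (by omega) 2).trans (Nat.pow_le_pow_right (by omega) ht)
    omega
  have ht4 : t < 4 := by
    by_contra hge
    have h1 : 2 ^ 4 ≤ k ^ t := (Nat.pow_le_pow_right (by omega) (by omega)).trans (Nat.pow_le_pow_left hk t)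
    omega
  interval_cases k <;> interval_cases t <;> simp_all

theorem qd2t_pow12 (k t : ℕ) (hk : 2 ≤ k) (ht : 2 ≤ t) : k ^ t ≠ 12 := by
  intro h
  have hk4 : k < 4 := by
    by_contra hge
    have h1 : 4 ^ 2 ≤ k ^ t := (Nat.pow_le_pow_left (by omega) 2).trans (Nat.pow_le_pow_right (by omega) ht)
    omega
  have ht4 : t < 4 := by
    by_contra hge
    have h1 : 2 ^ 4 ≤ k ^ t := (Nat.pow_le_pow_right (by omega) (by omega)).trans (Nat.pow_le_pow_left hk t)
    omega
  interval_cases k <;> interval_cases t <;> simp_all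

/-- a tensor cube of binary alternating forms in characteristic 2 is of plus type -/
theorem qd2t_plus_of_cube (Q : (Fin n → F) → F) (G : Matrix (Fin n) (Fin n) F) (hn : n = 8)
    (e : Fin n ≃ (Fin 3 → Fin 2)) (B : GL (Fin n) F) (A : Matrix (Fin 2) (Fin 2) F) (hAd : ∀ p, A p p = 0) (c : F)
    (hgram : (B : Matrix (Fin n) (Fin n) F)ᵀ * G * (B : Matrix (Fin n) (Fin n) F) =
      c • Matrix.reindex e.symm e.symm (ptMat (fun _ : Fin 3 => A)))
    (hQ : ∀ v, Q v = qevForm G B v) : IsPlusTypeOn Q ⊤ := by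
  classical
  let S := {p : Fin n // e p 0 = 0}
  let ι : (S → F) →ₗ[F] (Fin n → F) := Function.ExtendByZero.linearMap F (Subtype.val : S → Fin n)
  have hι : ∀ (g : S → F) (p : Fin n), ι g p = Function.extend (Subtype.val : S → Fin n) g 0 p := fun g p => rfl
  have hιinj : Function.Injective ι := by
    intro g g' hgg'
    funext s
    have h1 := congrFun hgg' s.val
    rw [hι, hι, Subtype.val_injective.extend_apply, Subtype.val_injective.extend_apply] at h1
    exact h1
  have hBinj : Function.Injective (Matrix.toLin' (B : Matrix (Fin n) (Fin n) F)) := by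
    intro x y hxy
    have h1 := congrArg (fun z => ((B⁻¹ : GL (Fin n) F) : Matrix (Fin n) (Fin n) F) *ᵥ z) hxy
    simp only [Matrix.toLin'_apply, Matrix.mulVec_mulVec, ← Units.val_mul, inv_mul_cancel, Units.val_one,
      Matrix.one_mulVec] at h1
    exact h1
  refine ⟨LinearMap.range ((Matrix.toLin' (B : Matrix (Fin n) (Fin n) F)).comp ι), le_top, ?_, ?_⟩
  · rintro _ ⟨g, rfl⟩
    show Q (Matrix.toLin' (B : Matrix (Fin n) (Fin n) F) (ι g)) = 0
    rw [Matrix.toLin'_apply, hQ]
    apply qev_zero_of_support G e B A hAd c hgram 0 0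
    intro p hp
    rw [hι, Function.extend_apply']
    · rfl
    · rintro ⟨s, rfl⟩
      exact hp s.2
  · have hcomp : Function.Injective ((Matrix.toLin' (B : Matrix (Fin n) (Fin n) F)).comp ι) := by
      rw [LinearMap.coe_comp]
      exact hBinj.comp hιinj
    rw [LinearMap.finrank_range_of_inj hcomp, Module.finrank_fintype_fun_eq_card, finrank_top,
      Module.finrank_fintype_fun_eq_card, Fintype.card_fin]
    have h1 : Fintype.card S = Fintype.card {x : Fin 3 → Fin 2 // x 0 = 0} :=
      Fintype.card_congr (e.subtypeEquiv (fun a => Iff.rfl))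
    have h2 : Fintype.card {x : Fin 3 → Fin 2 // x 0 = 0} = 4 := by decide
    rw [h1, h2]
    omega

/-- D2T for the five even-dimensional orthogonal rows (`n = 8, 10, 12`): no tensor power structure, except for `n = 8` in
characteristic 2, where `Q` is then of plus type -/
theorem quad_perfect_rows (hn : n = 8 ∨ n = 10 ∨ n = 12) (Q : (Fin n → F) → F) (hQ : IsNondegenerateQuadraticForm Q)
    {H N : Subgroup (GL (Fin n) F)}
    (hfix : ∀ h ∈ H, ∀ v : Fin n → F, Q ((h : Matrix (Fin n) (Fin n) F) *ᵥ v) = Q v)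
    (hH : Irr H) (hD : AllNormalAbsIrr H) (hN : MinNonscalar N H) (hperf : ⁅N, N⁆ = N) :
    (IsSimpleGroup (N ⧸ (scalars (Fin n) F).subgroupOf N) ∧
      ¬ IsMulCommutative (N ⧸ (scalars (Fin n) F).subgroupOf N)) ∨
    (n = 8 ∧ (2 : F) = 0 ∧ IsPlusTypeOn Q ⊤) := by
  classical
  have hn3 : 3 ≤ n := by omega
  rcases quad_perfect_structure hn3 Q hQ hfix hH hD hN hperf with hs |
    ⟨k, t, e, B, A, c, ht2, hk2, hc, hAunit, hgram, hle, hcases⟩
  · exact Or.inl hs
  right
  have hcard : k ^ t = n := by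
    have h1 := Fintype.card_congr e
    rw [Fintype.card_fin, Fintype.card_fun, Fintype.card_fin, Fintype.card_fin] at h1
    exact h1.symm
  rcases hn with h8 | h10 | h12
  · obtain ⟨hk, ht⟩ := qd2t_pow8 k t hk2 ht2 (by rw [hcard, h8])
    subst hk ht
    rcases hcases with ⟨h2, hA | hA⟩ | ⟨h2, hAs, hAd, hQeq⟩
    · exact absurd hA.2 (by omega)
    · exact absurd hA.2 (by decide)
    · exact ⟨h8, h2, qd2t_plus_of_cube Q _ h8 e B A hAd c hgram hQeq⟩
  · exact absurd (by rw [hcard, h10]) (qd2t_pow10 k t hk2 ht2)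
  · exact absurd (by rw [hcard, h12]) (qd2t_pow12 k t hk2 ht2)

end Cfsg.Agent.Lib.Helper9.QD2T
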