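import Mathlib
import Cfsg.Agent.Lib.Lead.BCS.Defs
import Cfsg.Agent.Lib.Helper24.S5972SPLIT
import Cfsg.Agent.Lib.Helper24.ElC
import Cfsg.Agent.Lib.Helper18.ONETYCLASS
import Cfsg.Agent.Lib.Helper18.ONETYFPF

set_option autoImplicit false
set_option linter.unusedVariables false

/-!
# Project BCS (designer lead), row A2 (`bcs_cyc_ty`), helper9: the type of `cycS ℓ y`
(ONE `ty_class` + `ty_fpf`).
-/

namespace Cfsg.Agent.Lib.Lead.BCS

open Polynomial Module Matrix Cfsg.Agent.Lib.Helper13.S5955 Cfsg.Agent.Lib.helper15.S5972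
  Cfsg.Agent.Lib.Helper18.ONE

theorem bcs_cyc_ty {F : Type*} [Field F] [Fintype F] {p : ℕ} [Fact p.Prime] [CharP F p]
    (h2 : (2 : F) ≠ 0) {V : Type*} [AddCommGroup V] [Module F V] [FiniteDimensional F V]
    {ℓ : ℕ} [Fact ℓ.Prime] (hℓp : ℓ ≠ p) (hℓ2 : ℓ ≠ 2) {B : LinearMap.BilinForm F V}
    {y : Module.End F V} (h : OCtx ℓ B y) (m : ℕ) (hm : 1 ≤ m)
    (hdim : finrank F (cycS ℓ y) = 2 * m) :
    (orderOf ((Fintype.card F : ℕ) : ZMod ℓ) = 2 * m → OTy B (cycS ℓ y) (-1)) ∧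
      (orderOf ((Fintype.card F : ℕ) : ZMod ℓ) = m → OTy B (cycS ℓ y) 1) := by
  obtain ⟨_, _, _, hnd⟩ := o_split (p := p) hℓp h
  have hinv : SInv y (cycS ℓ y) := Cfsg.Agent.Lib.Helper24.el_inv_ker y (cyclotomic ℓ F)
  have hev : Even (finrank F (cycS ℓ y)) := ⟨m, by omega⟩
  have hne : cycS ℓ y ≠ ⊥ := by
    intro hbot
    rw [hbot, finrank_bot] at hdim
    omega
  have hdiv : finrank F (cycS ℓ y) / 2 = m := by omega
  have hfpf : ∀ s : ℤ, OTy B (cycS ℓ y) s →
      ((Fintype.card F : ℕ) : ZMod ℓ) ^ m = (s : ZMod ℓ) := by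
    intro s hs
    have := ty_fpf (p := p) h2 hℓp h (cycS ℓ y) hinv hnd le_rfl hne hev s hs
    rw [hdiv] at this
    exact this
  have hcl := ty_class h2 B h.symm (cycS ℓ y) hnd hev
  constructor
  · intro hord
    rcases hcl with ⟨_, h1⟩ | ⟨_, h1⟩
    · exfalso
      have hq := hfpf 1 h1
      rw [Int.cast_one] at hq
      have hd := orderOf_dvd_of_pow_eq_one hq
      rw [hord] at hd
      have := Nat.le_of_dvd (by omega) hd
      omega
    · exact h1
  · intro hord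
    rcases hcl with ⟨_, h1⟩ | ⟨_, h1⟩
    · exact h1
    · exfalso
      have hq := hfpf (-1) h1
      rw [Int.cast_neg, Int.cast_one] at hq
      have h1' : ((Fintype.card F : ℕ) : ZMod ℓ) ^ m = 1 := by
        rw [← hord]; exact pow_orderOf_eq_one _
      rw [h1'] at hq
      have h20 : ((2 : ℕ) : ZMod ℓ) = 0 := by
        have : (1 : ZMod ℓ) + 1 = 0 := by
          nth_rewrite 1 [hq]
          ring
        rw [Nat.cast_ofNat]
        rw [← this]; ring
      rw [ZMod.natCast_eq_zero_iff] at h20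
      have hℓprime : ℓ.Prime := Fact.out
      have := (Nat.prime_dvd_prime_iff_eq hℓprime Nat.prime_two).mp h20
      exact hℓ2 this

end Cfsg.Agent.Lib.Lead.BCS
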