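import Mathlib
import Cfsg.Agent.Lib.helper8.OME.Defs
import Cfsg.Agent.Lib.Helper24.S5972SPLIT
import Cfsg.Agent.Lib.Helper24.ElD
import Cfsg.Agent.Lib.helper17.OPEQCTXO
import Cfsg.Agent.Lib.Helper13.OTSMAXEL
import Cfsg.Agent.Lib.helper4.OTSSTDP

set_option autoImplicit false
set_option linter.unusedVariables false

/-!
# OME row MAXEL (`ome_maxel`), helper9: wrapper of OTS `q_maxel` with `Qs = Qm d F a b`, `ε = -1`.
-/

namespace Cfsg.Agent.Lib.helper8.OME

open Polynomial Module Cfsg.Agent.Lib.Helper13.S5955 Cfsg.Agent.Lib.helper15.S5972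
  Cfsg.Agent.Lib.Helper18.OPE
open scoped Matrix

/-- `FMin i c d (-1) + c * AmaxM i c d = 2d` -/
theorem omemaxel_fmin (i c d : ℕ) (hd : 1 ≤ d) (hc0 : 0 < c) :
    Cfsg.Agent.Lib.Helper13.OTS.FMin i c d (-1) + c * AmaxM i c d = 2 * d := by
  unfold Cfsg.Agent.Lib.Helper13.OTS.FMin AmaxM
  by_cases hcond : (2 * d) % c = 0 ∧ (Odd i ∨ Even (2 * d / i))
  · have h1 : ¬ (((-1 : ℤ)) = 1 ↔ (Odd i ∨ Even (2 * d / i))) := by
      intro h
      have := h.mpr hcond.2
      exact absurd this (by decide)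
    rw [if_pos ⟨hcond.1, h1⟩, if_pos hcond]
    obtain ⟨N, hN⟩ := Nat.dvd_of_mod_eq_zero hcond.1
    have hdiv : 2 * d / c = N := by rw [hN]; exact Nat.mul_div_cancel_left N hc0
    rw [hdiv]
    have hN1 : 1 ≤ N := by
      rcases Nat.eq_zero_or_pos N with h0 | h0
      · rw [h0] at hN; omega
      · exact h0
    have : c * (N - 1) = c * N - c := by rw [Nat.mul_sub, mul_one]
    have h4 : c ≤ c * N := Nat.le_mul_of_pos_right c hN1
    omega
  · have h1 : ¬ ((2 * d) % c = 0 ∧ ¬ (((-1 : ℤ)) = 1 ↔ (Odd i ∨ Even (2 * d / i)))) := by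
      rintro ⟨hk, h2⟩
      apply hcond
      refine ⟨hk, ?_⟩
      by_contra h3
      exact h2 ⟨fun h => absurd h (by decide), fun h => absurd h h3⟩
    rw [if_neg h1, if_neg hcond]
    have := Nat.div_add_mod (2 * d) c
    omega

theorem ome_maxel {F : Type*} [Field F] [Fintype F] {p : ℕ} [Fact p.Prime] [CharP F p]
    (r : ℕ) [Fact r.Prime] (hrp : r ≠ p) (hr2 : r ≠ 2) (d : ℕ) (hd : 1 ≤ d) (a b : F)
    (hab : ∀ x y : F, x ^ 2 + a * x * y + b * y ^ 2 = 0 → x = 0 ∧ y = 0) (i c : ℕ)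
    (hi : i = orderOf ((Fintype.card F : ℕ) : ZMod r)) (hc : c = if Even i then i else 2 * i)
    (hA1 : 1 ≤ AmaxM i c d) :
    ∃ y : Module.End F (MI d → F), QCtx r (Qm d F a b) y ∧ y ≠ 1 ∧
      finrank F (cycS r y) = c * AmaxM i c d := by
  have hi1 : 1 ≤ i := by
    rw [hi]
    exact Cfsg.Agent.Lib.Helper24.el_ord_pos (F := F) (p := p) r hrp
  have hc0 : 0 < c := by
    by_cases hie : Even i
    · rw [hc, if_pos hie]; exact hi1
    · rw [hc, if_neg hie]; omega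
  have hfm := omemaxel_fmin i c d hd hc0
  have hex : c + Cfsg.Agent.Lib.Helper13.OTS.FMin i c d (-1) ≤ 2 * d := by
    have : c ≤ c * AmaxM i c d := Nat.le_mul_of_pos_right c hA1
    omega
  obtain ⟨y, hy, hy1, hfix⟩ := Cfsg.Agent.Lib.Helper13.OTS.q_maxel (p := p)
    (Qm d F a b) d (-1) (Cfsg.Agent.Lib.Helper13.OTS.q_std_minus d hd a b hab) r hrp hr2 i c hi hc hex
  have hq : QCtx r (Qm d F a b) y := ⟨hy.nd, hy.pres, hy.pow⟩
  refine ⟨y, hq, hy1, ?_⟩
  have ho : OCtx r (QuadraticMap.polarBilin (Qm d F a b)) y := qctx_octx hq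
  obtain ⟨_, hcompl, _, _⟩ := o_split (p := p) hrp ho
  have hsum := Submodule.finrank_add_eq_of_isCompl hcompl
  have hV : finrank F (MI d → F) = 2 * d := by
    rw [Module.finrank_fintype_fun_eq_card, Fintype.card_sum, Fintype.card_sum, Fintype.card_fin,
      Fintype.card_fin]
    omega
  omega

end Cfsg.Agent.Lib.helper8.OME
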