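import Mathlib
import Cfsg.Agent.Lib.helper3.S5953.Defs2
import Cfsg.Agent.Lib.Helper20.S5953T1
import Cfsg.Prelude.Def_LieClassical

/-!
# Project S5953, row N7 (helper9): pairwise non-isomorphic irreducible fixed-point-free blocks:
every t.i. invariant subspace of the block sum lies in the fixed space (transplant of Helper5 `S5955N6`).
-/

set_option autoImplicit false

namespace Cfsg.Agent.Lib.helper3.S5953

open Polynomial Module

section n7

variable {F : Type*} [Field F]

theorem s5953n7_mem_fixS {V : Type*} [AddCommGroup V] [Module F V]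
    (x : Module.End F V) (v : V) : v ∈ fixS x ↔ x v = v := by
  unfold fixS Cfsg.Agent.Lib.Helper13.S5955.fixS
  rw [LinearMap.mem_ker, map_sub, aeval_X, map_one, LinearMap.sub_apply, Module.End.one_apply,
    sub_eq_zero]

/-- the projection to the block `a` -/
def s5953n7_proj (F : Type*) [Field F] (A : ℕ) (κ ω : Type*) (a : Fin A) :
    (BIdx A κ ω → F) →ₗ[F] (κ → F) where
  toFun u := fun k => u (Sum.inl (a, k))
  map_add' _ _ := rfl
  map_smul' _ _ := rfl

theorem s5953n7_proj_apply {A : ℕ} {κ ω : Type*} (a : Fin A) (u : BIdx A κ ω → F) (k : κ) :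
    s5953n7_proj F A κ ω a u k = u (Sum.inl (a, k)) := rfl

theorem s5953n7_proj_bsumX {A : ℕ} {κ ω : Type*} (y : Fin A → Module.End F (κ → F)) (a : Fin A)
    (u : BIdx A κ ω → F) :
    s5953n7_proj F A κ ω a (bsumX ω y u) = y a (s5953n7_proj F A κ ω a u) := rfl

/-- the vectors supported on the blocks in `S`, with trivial last part -/
def s5953n7_supp (F : Type*) [Field F] (A : ℕ) (κ ω : Type*) (S : Finset (Fin A)) :
    Submodule F (BIdx A κ ω → F) where
  carrier := {u | (∀ o : ω, u (Sum.inr o) = 0) ∧ ∀ a, a ∉ S → s5953n7_proj F A κ ω a u = 0}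
  add_mem' := by
    rintro u v ⟨hu2, hu1⟩ ⟨hv2, hv1⟩
    refine ⟨fun o => by rw [Pi.add_apply, hu2, hv2, add_zero], fun a ha => ?_⟩
    rw [map_add, hu1 a ha, hv1 a ha, add_zero]
  zero_mem' := ⟨fun _ => rfl, fun _ _ => rfl⟩
  smul_mem' := by
    rintro c u ⟨hu2, hu1⟩
    refine ⟨fun o => by rw [Pi.smul_apply, hu2, smul_zero], fun a ha => ?_⟩
    rw [map_smul, hu1 a ha, smul_zero]

theorem s5953n7_mem_supp {A : ℕ} {κ ω : Type*} (S : Finset (Fin A)) (u : BIdx A κ ω → F) :
    u ∈ s5953n7_supp F A κ ω S ↔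
      (∀ o : ω, u (Sum.inr o) = 0) ∧ ∀ a, a ∉ S → s5953n7_proj F A κ ω a u = 0 := Iff.rfl

/-- the form of a vector supported on the single block `a` -/
theorem s5953n7_hermI_single {q A : ℕ} (hq : q ≠ 0) {κ ω : Type*} [Fintype κ] [Fintype ω] (a : Fin A)
    (t c : BIdx A κ ω → F) (ht2 : ∀ o : ω, t (Sum.inr o) = 0)
    (ht1 : ∀ b, b ≠ a → s5953n7_proj F A κ ω b t = 0) :
    hermI (BIdx A κ ω) F q t c =
      hermI κ F q (s5953n7_proj F A κ ω a t) (s5953n7_proj F A κ ω a c) := by
  unfold hermI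
  rw [Fintype.sum_sum_type, Fintype.sum_prod_type]
  have h2 : ∑ o : ω, t (Sum.inr o) * c (Sum.inr o) ^ q = 0 := by
    apply Finset.sum_eq_zero
    intro o _
    rw [ht2 o, zero_mul]
  rw [h2, add_zero]
  rw [Finset.sum_eq_single a]
  · rfl
  · intro b _ hba
    apply Finset.sum_eq_zero
    intro k _
    have := congrFun (ht1 b hba) k
    rw [s5953n7_proj_apply, Pi.zero_apply] at this
    rw [this, zero_mul]
  · intro h; exact absurd (Finset.mem_univ a) h

end n7

/-- N7 [L] BSUMDIST. -/
theorem bsum_dist {F : Type*} [Field F] {q r A : ℕ} (hq : q ≠ 0) (hr : 0 < r) {κ ω : Type*}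
    [Fintype κ] [Nonempty κ] [Fintype ω] (y : Fin A → Module.End F (κ → F))
    (hy : ∀ a, HCtx q r 1 (y a)) (hfix : ∀ a, fixS (y a) = ⊥)
    (hirr : ∀ a, ∀ U : Submodule F (κ → F), HInv (y a) U → U = ⊥ ∨ U = ⊤)
    (hdist : ∀ a b, a ≠ b → ¬ ∃ φ : (κ → F) ≃ₗ[F] (κ → F), ∀ v, φ (y a v) = y b (φ v))
    (W : Submodule F (BIdx A κ ω → F)) (hW : HInv (bsumX ω y) W) (hWti : HTI q W) :
    W ≤ fixS (bsumX ω y) := by
  classical
  have hfpf : ∀ a v, y a v = v → v = 0 := by
    intro a v hv
    have : v ∈ fixS (y a) := (s5953n7_mem_fixS _ _).mpr hv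
    rw [hfix a] at this
    exact (Submodule.mem_bot F).mp this
  -- it is enough to show that the block components vanish
  suffices key : ∀ u ∈ W, ∀ a, s5953n7_proj F A κ ω a u = 0 by
    intro u hu
    rw [s5953n7_mem_fixS]
    funext j
    rcases j with ⟨a, k⟩ | o
    · have h1 := key u hu a
      have h2 : s5953n7_proj F A κ ω a (bsumX ω y u) = 0 := by
        rw [s5953n7_proj_bsumX, h1, map_zero]
      have h3 := congrFun h2 k
      have h4 := congrFun h1 k
      rw [s5953n7_proj_apply, Pi.zero_apply] at h3 h4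
      rw [h3, h4]
    · rfl
  by_contra hcon
  push Not at hcon
  obtain ⟨u0, hu0W, a0, hu0⟩ := hcon
  -- the invariant subspaces `TS S`
  obtain ⟨TS, hTS⟩ : ∃ TS : Finset (Fin A) → Submodule F (BIdx A κ ω → F),
      ∀ S, TS S = W ⊓ s5953n7_supp F A κ ω S := ⟨_, fun _ => rfl⟩
  have hTSinv : ∀ S, ∀ u ∈ TS S, bsumX ω y u ∈ TS S := by
    intro S u hu
    rw [hTS, Submodule.mem_inf, s5953n7_mem_supp] at hu ⊢
    refine ⟨hW u hu.1, ?_, fun a ha => ?_⟩
    · intro o
      rw [bsumX_inr]; exact hu.2.1 o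
    · rw [s5953n7_proj_bsumX, hu.2.2 a ha, map_zero]
  -- `TS univ` is not trivial
  have huniv : TS Finset.univ ≠ ⊥ := by
    intro hbot
    have hmem : bsumX ω y u0 - u0 ∈ TS Finset.univ := by
      rw [hTS, Submodule.mem_inf, s5953n7_mem_supp]
      refine ⟨W.sub_mem (hW u0 hu0W) hu0W, ?_, fun b hb => absurd (Finset.mem_univ b) hb⟩
      intro o
      rw [Pi.sub_apply, bsumX_inr, sub_self]
    rw [hbot, Submodule.mem_bot] at hmem
    have h1 : s5953n7_proj F A κ ω a0 (bsumX ω y u0 - u0) = 0 := by rw [hmem, map_zero]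
    rw [map_sub, s5953n7_proj_bsumX, sub_eq_zero] at h1
    exact hu0 (hfpf a0 _ h1)
  -- a minimal `S`
  obtain ⟨S, hSmem, hSmin⟩ := Finset.exists_min_image
    (Finset.univ.filter (fun S : Finset (Fin A) => TS S ≠ ⊥)) Finset.card
    ⟨Finset.univ, by rw [Finset.mem_filter]; exact ⟨Finset.mem_univ _, huniv⟩⟩
  rw [Finset.mem_filter] at hSmem
  have hSne := hSmem.2
  have herase : ∀ a ∈ S, TS (S.erase a) = ⊥ := by
    intro a ha
    by_contra hne
    have := hSmin (S.erase a) (by rw [Finset.mem_filter]; exact ⟨Finset.mem_univ _, hne⟩)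
    rw [Finset.card_erase_of_mem ha] at this
    have hpos : 0 < S.card := Finset.card_pos.mpr ⟨a, ha⟩
    omega
  have hinj : ∀ a ∈ S, ∀ u ∈ TS S, s5953n7_proj F A κ ω a u = 0 → u = 0 := by
    intro a ha u hu hua
    have : u ∈ TS (S.erase a) := by
      rw [hTS, Submodule.mem_inf, s5953n7_mem_supp] at hu ⊢
      refine ⟨hu.1, hu.2.1, fun b hb => ?_⟩
      by_cases hba : b = a
      · rw [hba]; exact hua
      · apply hu.2.2 b
        intro hbS
        exact hb (Finset.mem_erase.mpr ⟨hba, hbS⟩)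
    rw [herase a ha] at this
    exact (Submodule.mem_bot F).mp this
  obtain ⟨t, htS, ht0⟩ := Submodule.exists_mem_ne_zero_of_ne_bot hSne
  -- the projections are bijective on `TS S`
  have hsurj : ∀ a ∈ S, (TS S).map (s5953n7_proj F A κ ω a) = ⊤ := by
    intro a ha
    have hinvM : HInv (y a) ((TS S).map (s5953n7_proj F A κ ω a)) := by
      rintro v ⟨u, hu, rfl⟩
      refine ⟨bsumX ω y u, hTSinv S u hu, ?_⟩
      rw [s5953n7_proj_bsumX]
    rcases hirr a _ hinvM with hb | ht
    · exfalso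
      apply ht0
      apply hinj a ha t htS
      have : s5953n7_proj F A κ ω a t ∈ (TS S).map (s5953n7_proj F A κ ω a) :=
        Submodule.mem_map_of_mem htS
      rw [hb, Submodule.mem_bot] at this
      exact this
    · exact ht
  have hSnonempty : S.Nonempty := by
    rw [Finset.nonempty_iff_ne_empty]
    intro hS
    apply ht0
    have htS' := htS
    rw [hTS, Submodule.mem_inf, s5953n7_mem_supp, hS] at htS'
    funext j
    rcases j with ⟨a, k⟩ | o
    · have := congrFun (htS'.2.2 a (Finset.notMem_empty a)) k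
      rw [s5953n7_proj_apply] at this
      exact this
    · exact htS'.2.1 o
  obtain ⟨a, ha⟩ := hSnonempty
  -- the equivalences
  have hbij : ∀ b ∈ S, Function.Bijective ((s5953n7_proj F A κ ω b).domRestrict (TS S)) := by
    intro b hb
    constructor
    · rw [← LinearMap.ker_eq_bot, LinearMap.ker_eq_bot']
      intro u hu
      apply Subtype.ext
      apply hinj b hb u.1 u.2
      have := hu
      rw [LinearMap.domRestrict_apply] at this
      exact this
    · intro v
      have hv : v ∈ (TS S).map (s5953n7_proj F A κ ω b) := by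
        rw [hsurj b hb]; exact Submodule.mem_top
      obtain ⟨u, hu, rfl⟩ := hv
      exact ⟨⟨u, hu⟩, rfl⟩
  by_cases hother : ∃ b ∈ S, b ≠ a
  · obtain ⟨b, hb, hba⟩ := hother
    apply hdist a b (Ne.symm hba)
    set ea := LinearEquiv.ofBijective _ (hbij a ha) with hea
    set eb := LinearEquiv.ofBijective _ (hbij b hb) with heb
    refine ⟨ea.symm.trans eb, fun v => ?_⟩
    set c := ea.symm v with hc
    have hcv : ea c = v := by rw [hc, LinearEquiv.apply_symm_apply]
    have hcmem : bsumX ω y (c : BIdx A κ ω → F) ∈ TS S := hTSinv S c.1 c.2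
    have h1 : ea ⟨bsumX ω y (c : BIdx A κ ω → F), hcmem⟩ = y a v := by
      rw [← hcv]
      rfl
    have h2 : ea.symm (y a v) = ⟨bsumX ω y (c : BIdx A κ ω → F), hcmem⟩ := by
      rw [← h1, LinearEquiv.symm_apply_apply]
    rw [LinearEquiv.trans_apply, LinearEquiv.trans_apply, h2]
    rfl
  · push Not at hother
    -- only one block: contradiction with non-degeneracy
    have hta : s5953n7_proj F A κ ω a t ≠ 0 := fun h0 => ht0 (hinj a ha t htS h0)
    apply hta
    apply hermI_nd hq
    intro v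
    have hvm : v ∈ (TS S).map (s5953n7_proj F A κ ω a) := by
      rw [hsurj a ha]; exact Submodule.mem_top
    obtain ⟨c, hcS, rfl⟩ := hvm
    have htW : t ∈ W := by
      rw [hTS, Submodule.mem_inf] at htS
      exact htS.1
    have hcW : c ∈ W := by
      have hcS' : c ∈ TS S := hcS
      rw [hTS, Submodule.mem_inf] at hcS'
      exact hcS'.1
    have hz := hWti t htW c hcW
    have htsupp : (∀ o : ω, t (Sum.inr o) = 0) ∧ ∀ b, b ∉ S → s5953n7_proj F A κ ω b t = 0 := by
      rw [hTS, Submodule.mem_inf, s5953n7_mem_supp] at htS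
      exact htS.2
    rw [s5953n7_hermI_single hq a t c htsupp.1
      (fun b hba => htsupp.2 b (fun hbS => hba (hother b hbS)))] at hz
    exact hz

end Cfsg.Agent.Lib.helper3.S5953
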