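import Mathlib
import Cfsg.Agent.Lib.helper3.S5953.Defs
import Cfsg.Agent.Lib.Lead.HermCount
import Cfsg.Agent.Lib.helper6.HermGram
import Cfsg.Prelude.Def_LieClassical

/-!
# Project S5953, row T8 (helper9): a non-degenerate hermitian space of dimension `≥ 2j` has a t.i. `j`-space
-/

set_option autoImplicit false

namespace Cfsg.Agent.Lib.helper3.S5953

open Polynomial Module

section t8

variable {F : Type*} [Field F] [Fintype F] {q : ℕ}

theorem s5953t8_add_pow (hF : Fintype.card F = q ^ 2) (x y : F) : (x + y) ^ q = x ^ q + y ^ q := by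
  have hq := Cfsg.Agent.Lib.Lead.two_le_q hF
  have h1 := Cfsg.Agent.Lib.Lead.sub_pow_q hF x (-y)
  have h2 := Cfsg.Agent.Lib.Lead.sub_pow_q hF 0 y
  rw [zero_sub, zero_pow (by omega), zero_sub] at h2
  rw [sub_neg_eq_add, h2, sub_neg_eq_add] at h1
  exact h1

theorem s5953t8_add_right (hF : Fintype.card F = q ^ 2) {ι : Type*} [Fintype ι] (u v v' : ι → F) :
    hermI ι F q u (v + v') = hermI ι F q u v + hermI ι F q u v' := by
  simp only [hermI, Pi.add_apply, s5953t8_add_pow hF, mul_add, Finset.sum_add_distrib]

theorem s5953t8_zero_right (hF : Fintype.card F = q ^ 2) {ι : Type*} [Fintype ι] (u : ι → F) :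
    hermI ι F q u 0 = 0 := by
  have hq := Cfsg.Agent.Lib.Lead.two_le_q hF
  simp only [hermI, Pi.zero_apply]
  rw [zero_pow (by omega)]
  simp

theorem s5953t8_exists_norm (hF : Fintype.card F = q ^ 2) : ∃ a : F, a ^ (q + 1) = -1 := by
  classical
  have hq := Cfsg.Agent.Lib.Lead.two_le_q hF
  have h2 := Cfsg.Agent.Lib.Lead.sub_pow_q hF 0 (1 : F)
  rw [zero_sub, zero_pow (by omega), one_pow, zero_sub] at h2
  have h1 := Cfsg.Agent.Lib.Lead.card_norm_fiber hF (-1 : F) (neg_ne_zero.mpr one_ne_zero) h2
  have h3 : (Finset.univ.filter (fun t : F => t ^ (q + 1) = -1)).Nonempty := by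
    rw [← Finset.card_pos, h1]
    omega
  obtain ⟨a, ha⟩ := h3
  exact ⟨a, (Finset.mem_filter.mp ha).2⟩

/-- the functional `u ↦ h(u, w)` -/
def s5953t8_phi {ι : Type*} [Fintype ι] (q : ℕ) (w : ι → F) : (ι → F) →ₗ[F] F where
  toFun u := hermI ι F q u w
  map_add' u u' := hermI_add_left q u u' w
  map_smul' c u := by
    rw [hermI_smul_left, RingHom.id_apply, smul_eq_mul]

theorem s5953t8_phi_apply {ι : Type*} [Fintype ι] (w u : ι → F) :
    s5953t8_phi q w u = hermI ι F q u w := rfl

end t8

/-- T8 [M] TISUB. -/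
theorem ti_sub {F : Type*} [Field F] [Fintype F] {q n : ℕ} (hF : Fintype.card F = q ^ 2)
    (N : Submodule F (Fin n → F)) (hN : HND q N) (j : ℕ) (hj : 2 * j ≤ finrank F N) :
    ∃ T : Submodule F (Fin n → F), T ≤ N ∧ HTI q T ∧ finrank F T = j := by
  classical
  obtain ⟨b, hbli, hbspan, hbo⟩ := Cfsg.Agent.Lib.helper6.HF.exists_orthonormal hF N hN
  obtain ⟨a, ha⟩ := s5953t8_exists_norm hF
  have hbo' : ∀ i i', hermI (Fin n) F q (b i) (b i') = if i = i' then 1 else 0 := hbo
  set i0 : Fin j → Fin (finrank F N) := fun k => ⟨2 * (k : ℕ), by have := k.2; omega⟩ with hi0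
  set i1 : Fin j → Fin (finrank F N) := fun k => ⟨2 * (k : ℕ) + 1, by have := k.2; omega⟩ with hi1
  set t : Fin j → (Fin n → F) := fun k => b (i0 k) + a • b (i1 k) with ht
  have h00 : ∀ k l : Fin j, i0 k = i0 l ↔ k = l := by
    intro k l
    constructor
    · intro h
      have := congrArg Fin.val h
      simp only [hi0] at this
      exact Fin.ext (by omega)
    · intro h; rw [h]
  have h11 : ∀ k l : Fin j, i1 k = i1 l ↔ k = l := by
    intro k l
    constructor
    · intro h
      have := congrArg Fin.val h
      simp only [hi1] at this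
      exact Fin.ext (by omega)
    · intro h; rw [h]
  have h01 : ∀ k l : Fin j, i0 k ≠ i1 l := by
    intro k l h
    have := congrArg Fin.val h
    simp only [hi0, hi1] at this
    omega
  have h10 : ∀ k l : Fin j, i1 k ≠ i0 l := fun k l h => h01 l k h.symm
  -- Gram matrix of `t`
  have htt : ∀ k l : Fin j, hermI (Fin n) F q (t k) (t l) = 0 := by
    intro k l
    simp only [ht]
    rw [hermI_add_left, s5953t8_add_right hF, s5953t8_add_right hF, hermI_smul_left,
      hermI_smul_left, hermI_smul_right, hermI_smul_right, hbo', hbo', hbo', hbo']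
    by_cases hkl : k = l
    · subst hkl
      rw [if_pos rfl, if_pos rfl, if_neg (h01 k k), if_neg (h10 k k)]
      have : a * (a ^ q * 1) = a ^ (q + 1) := by ring
      rw [mul_zero, mul_zero, add_zero, zero_add, this, ha]
      ring
    · rw [if_neg (fun h => hkl ((h00 k l).mp h)), if_neg (h01 k l), if_neg (h10 k l),
        if_neg (fun h => hkl ((h11 k l).mp h))]
      ring
  have htb : ∀ k l : Fin j, hermI (Fin n) F q (t k) (b (i0 l)) = if k = l then 1 else 0 := by
    intro k l
    simp only [ht]
    rw [hermI_add_left, hermI_smul_left, hbo', hbo', if_neg (h10 k l), mul_zero, add_zero]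
    by_cases hkl : k = l
    · rw [if_pos hkl, if_pos ((h00 k l).mpr hkl)]
    · rw [if_neg hkl, if_neg (fun h => hkl ((h00 k l).mp h))]
  refine ⟨Submodule.span F (Set.range t), ?_, ?_, ?_⟩
  · rw [Submodule.span_le]
    rintro _ ⟨k, rfl⟩
    have hb : ∀ i, b i ∈ N := by
      intro i
      rw [← hbspan]
      exact Submodule.subset_span ⟨i, rfl⟩
    exact N.add_mem (hb _) (N.smul_mem a (hb _))
  · -- totally isotropic
    have hleft : ∀ l : Fin j, ∀ u ∈ Submodule.span F (Set.range t), hermI (Fin n) F q u (t l) = 0 := by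
      intro l u hu
      induction hu using Submodule.span_induction with
      | mem x hx =>
        obtain ⟨k, rfl⟩ := hx
        exact htt k l
      | zero => exact hermI_zero_left q _
      | add x y _ _ hx hy => rw [hermI_add_left, hx, hy, add_zero]
      | smul c x _ hx => rw [hermI_smul_left, hx, mul_zero]
    intro u hu v hv
    induction hv using Submodule.span_induction with
    | mem x hx =>
      obtain ⟨l, rfl⟩ := hx
      exact hleft l u hu
    | zero => exact s5953t8_zero_right hF u
    | add x y _ _ hx hy => rw [s5953t8_add_right hF, hx, hy, add_zero]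
    | smul c x _ hx => rw [hermI_smul_right, hx, mul_zero]
  · -- dimension
    have hli : LinearIndependent F t := by
      rw [Fintype.linearIndependent_iff]
      intro g hg k
      have h1 := congrArg (s5953t8_phi q (b (i0 k))) hg
      rw [map_sum, map_zero] at h1
      simp only [map_smul, s5953t8_phi_apply, htb, smul_eq_mul] at h1
      rw [Finset.sum_eq_single k] at h1
      · rw [if_pos rfl, mul_one] at h1
        exact h1
      · intro l _ hlk
        rw [if_neg hlk, mul_zero]
      · intro h
        exact absurd (Finset.mem_univ k) h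
    rw [finrank_span_eq_card hli, Fintype.card_fin]

end Cfsg.Agent.Lib.helper3.S5953
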