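import Mathlib
import Cfsg.Prelude.Def_GeometricClasses
import Cfsg.Agent.Lib.Helper27.ASC.Defs
import Cfsg.Agent.Lib.Helper19.ASG.Defs
import Cfsg.Agent.Lib.Helper18.ASP.Defs
import Cfsg.Agent.Lib.Helper18.ASPADJ
import Cfsg.Agent.Lib.Helper9.ASGD2T.Defs
import Cfsg.Agent.Lib.Helper9.ASGD2TF.Defs
import Cfsg.Agent.Lib.Helper9.ASGD2TSTRUCT
import Cfsg.Agent.Lib.Helper9.ASGD2TASM1
import Cfsg.Agent.Lib.Helper9.ASGD2TASM2
import Cfsg.Agent.Lib.Helper10.ASPD2SQEVEN
import Cfsg.Agent.Lib.Helper24.ASGD2TFALL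
import Cfsg.Agent.Lib.Helper24.ASGD2TFGRAM
import Cfsg.Agent.Lib.Helper13.ASGD2TFSYMM
import Cfsg.Agent.Lib.Helper13.ASPD2TSPFORM

set_option autoImplicit false
set_option linter.unusedVariables false
set_option linter.unusedSectionVars false
set_option maxHeartbeats 1000000

/-!
# Project ASP (S5662), block D2T : assembly of `sp_perfect_case`, CORE
(the three pieces `gram_symplectic`, `sp_hex_false`, `sp_even_quad` of `ASGD2TF/SkelSP.lean.txt` as hypotheses;
the verbatim wrapper is `Cfsg.Agent.Lib.Helper9.ASPD2TASM`)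
-/

namespace Cfsg.Agent.Lib.Helper18.ASP

open Cfsg Cfsg.Geo Cfsg.Agent.Lib.Helper27.ASC Cfsg.Agent.Lib.Helper19.ASG
open scoped MatrixGroups Matrix commutatorElement

variable {n : ℕ} {F : Type*} [Field F] [Fintype F]

/-- the adjoint of a symplectic form is an abstract adjoint -/
theorem aspd2tasm_isStarOp (f : (Fin n → F) → (Fin n → F) → F) (hf : IsSymplecticForm f) :
    IsStarOp (RingHom.id F) (aspAdj f) :=
  ⟨fun x y => aspadj_mul hf x y, fun x y => aspadj_add x y, fun c x => by simpa using aspadj_smul c x,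
    aspadj_one hf, fun x => aspadj_adj hf x⟩

theorem aspd2tasm_two_eq_zero (h2 : ¬ Odd (Fintype.card F)) : (2 : F) = 0 := by
  have hev : Even (Fintype.card F) := Nat.not_odd_iff_even.mp h2
  have hch : ringChar F = 2 := FiniteField.even_card_iff_char_two.mpr (Nat.even_iff.mp hev)
  have : CharP F 2 := hch ▸ ringChar.charP F
  exact CharTwo.two_eq_zero

theorem aspd2tasm_two_ne_zero (h2 : Odd (Fintype.card F)) : (2 : F) ≠ 0 := by
  intro h
  have hch : ringChar F = 2 := by
    have h1 : ((2 : ℕ) : F) = 0 := by exact_mod_cast h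
    have h3 := (ringChar.spec F 2).mp h1
    have hp : (ringChar F).Prime := CharP.char_is_prime F (ringChar F)
    exact ((Nat.prime_dvd_prime_iff_eq hp Nat.prime_two).mp h3)
  have hev := FiniteField.even_card_iff_char_two.mp hch
  exact (Nat.not_even_iff_odd.mpr h2) (Nat.even_iff.mpr hev)

/-- SP-D2T, core: the pieces D2T-SPF1, D2T-SPHEX, D2T-SPEVEN as hypotheses -/
theorem aspd2tasm_core {m : ℕ} (hm : 2 ≤ m) (hn : n = 2 * m) (f : (Fin n → F) → (Fin n → F) → F)
    (hf : IsSymplecticForm f) {H N : Subgroup (GL (Fin n) F)} (hI : H ≤ isoGL f) (hH : Irr H)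
    (hD : AllNormalAbsIrr H) (hN : MinNonscalar N H) (hperf : ⁅N, N⁆ = N)
    (gram_symplectic : ∀ {k : ℕ} (A : Matrix (Fin k) (Fin k) F), IsUnit A.det → Aᵀ = -A → (∀ p, A p p = 0) →
      IsSymplecticForm (fun u v : Fin k → F => u ⬝ᵥ (A *ᵥ v)))
    (sp_hex_false : Fintype.card F = 3 → ∀ {K : Subgroup (GL (Fin n) F)}
      (θ : Matrix (Fin 2) (Fin 2) F →ₐ[F] Matrix (Fin n) (Fin n) F),
      (∀ x ∈ K, ∃ a, (x : Matrix (Fin n) (Fin n) F) = θ a) → ⁅K, K⁆ = K → K = ⊥)
    (sp_even_quad : (2 : F) = 0 → ∀ {k t : ℕ}, 2 ≤ t → ∀ (e : Fin n ≃ (Fin t → Fin k)) (B : GL (Fin n) F)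
      (A : Matrix (Fin k) (Fin k) F), (∀ p, A p p = 0) → ∀ c : F,
      (B : Matrix (Fin n) (Fin n) F)ᵀ * ascformGram f * (B : Matrix (Fin n) (Fin n) F) =
        c • Matrix.reindex e.symm e.symm (ptMat (fun _ : Fin t => A)) →
      ∃ Q : (Fin n → F) → F, IsNondegenerateQuadraticForm Q ∧
        ∀ (i : Fin t) (a : Matrix (Fin k) (Fin k) F), aᵀ * A * a = A →
          ∀ v : Fin n → F, Q (tensorFac e B i a *ᵥ v) = Q v) :
    InSp m f H ∨ (IsSimpleGroup (N ⧸ (scalars (Fin n) F).subgroupOf N) ∧
      ¬ IsMulCommutative (N ⧸ (scalars (Fin n) F).subgroupOf N)) := by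
  classical
  have hn3 : 3 ≤ n := by omega
  have hn0 : 0 < n := by omega
  have hNA : AbsIrr N := (hD N hN.1).resolve_left hN.2.1
  rcases perfect_structure_conj hn3 hH hD hN hperf with hsimple |
    ⟨k, t, X, θ₀, g, e, B, ht2, hk2, hg, hXinj, hXmin, hXsup, hXperf, hXcomm, hrange, hθB, hXperm, hle⟩
  · exact Or.inr hsimple
  left
  have ht0 : 0 < t := by omega
  have hk0 : 0 < k := by omega
  set G := ascformGram f with hGdef
  have hs := aspd2tasm_isStarOp f hf
  have hIso : ∀ h ∈ H, aspAdj f (h : Matrix (Fin n) (Fin n) F) * (h : Matrix (Fin n) (Fin n) F) = 1 :=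
    fun h hh => (aspadj_iso hf h).mp (hI hh)
  have hXH : ∀ i, X i ≤ H := fun i => (hXmin i).1.1.trans hN.1.1
  -- the tensor factors
  have hfac : ∀ i a, cjHom (g i) θ₀ a = tensorFac e B i a := fun i a => hθB i a
  have hfacinj : ∀ i, Function.Injective (cjHom (g i) θ₀) := by
    intro i a b hab
    rw [hfac, hfac, tensorFac_def, tensorFac_def] at hab
    have h1 : Matrix.reindex e.symm e.symm (ptMat (Pi.mulSingle i a) : Matrix (Fin t → Fin k) (Fin t → Fin k) F) =
        Matrix.reindex e.symm e.symm (ptMat (Pi.mulSingle i b)) := by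
      have h2 := congrArg (fun T => ((B⁻¹ : GL (Fin n) F) : Matrix (Fin n) (Fin n) F) * T *
        (B : Matrix (Fin n) (Fin n) F)) hab
      simpa only [mul_assoc, Units.inv_mul_cancel_left, Units.inv_mul, mul_one] using h2
    exact ptMat_single_injective i a b ((Matrix.reindex e.symm e.symm).injective h1)
  have hinj : Function.Injective θ₀ := by
    intro a b hab
    apply hfacinj ⟨0, ht0⟩
    rw [cjHom_apply, cjHom_apply, hab]
  -- one anti-automorphism for all factors
  obtain ⟨A, hA⟩ := star_tensor (σ := RingHom.id F) (fun a => rfl) hs hIso ht0 X hXH θ₀ hinj g hg hrange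
  have hmapid : ∀ {p : ℕ} (a : Matrix (Fin p) (Fin p) F), a.map (RingHom.id F) = a := by
    intro p a; ext i j; rfl
  have hA' : ∀ i a, G⁻¹ * (tensorFac e B i a)ᵀ * G =
      tensorFac e B i (((A⁻¹ : GL (Fin k) F) : Matrix (Fin k) (Fin k) F) * aᵀ * (A : Matrix (Fin k) (Fin k) F)) := by
    intro i a
    have h1 := hA i a
    rw [hfac, hfac, hmapid] at h1
    exact h1
  obtain ⟨c, hc, hgram0⟩ := gram_tensor (σ := RingHom.id F) (fun a => rfl) G (aspadj_det hf) e B A (by
    intro i a
    rw [hmapid, hmapid]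
    exact hA' i a)
  have hgram : (B : Matrix (Fin n) (Fin n) F)ᵀ * G * (B : Matrix (Fin n) (Fin n) F) =
      c • Matrix.reindex e.symm e.symm (ptMat (fun _ : Fin t => (A : Matrix (Fin k) (Fin k) F))) := by
    rw [hmapid] at hgram0
    exact hgram0
  -- elements of `X i` are factor isometries
  have hXfac : ∀ i, ∀ x ∈ X i, ∃ a : Matrix (Fin k) (Fin k) F,
      (x : Matrix (Fin n) (Fin n) F) = tensorFac e B i a ∧ aᵀ * (A : Matrix (Fin k) (Fin k) F) * a =
        (A : Matrix (Fin k) (Fin k) F) := by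
    intro i x hx
    have hxd : (x : Matrix (Fin n) (Fin n) F) ∈ dcomm (X i) := asgd2tasm_le_dcomm (X i) x hx
    obtain ⟨a, ha⟩ := (hrange i _).mpr hxd
    refine ⟨a, by rw [← hfac]; exact ha.symm, ?_⟩
    have h1 := hIso x (hXH i hx)
    have ha' : cjHom (g i) θ₀ a = (x : Matrix (Fin n) (Fin n) F) := ha
    rw [← ha', hA i a, hmapid, ← map_mul] at h1
    have h2 : ((A⁻¹ : GL (Fin k) F) : Matrix (Fin k) (Fin k) F) * aᵀ * (A : Matrix (Fin k) (Fin k) F) * a = 1 := by
      apply hfacinj i
      rw [h1, map_one]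
    have h3 := congrArg (fun T => (A : Matrix (Fin k) (Fin k) F) * T) h2
    simpa only [mul_assoc, Units.mul_inv_cancel_left, mul_one] using h3
  have hAunit : IsUnit (A : Matrix (Fin k) (Fin k) F).det := by
    rw [← Matrix.isUnit_iff_isUnit_det]
    exact ⟨A, rfl⟩
  by_cases hodd : Odd (Fintype.card F)
  · -- odd characteristic : class 7
    have h20 : (2 : F) ≠ 0 := aspd2tasm_two_ne_zero hodd
    have hGt : Gᵀ = -G := aspadj_gram_transpose hf
    -- the tensor power of `A` is skew
    have hptskew : (ptMat (fun _ : Fin t => (A : Matrix (Fin k) (Fin k) F)))ᵀ =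
        (-1 : F) • ptMat (fun _ : Fin t => (A : Matrix (Fin k) (Fin k) F)) := by
      have h1 := congrArg Matrix.transpose hgram
      rw [Matrix.transpose_mul, Matrix.transpose_mul, Matrix.transpose_transpose, hGt, Matrix.transpose_smul] at h1
      have h2 : (B : Matrix (Fin n) (Fin n) F)ᵀ * (-G * (B : Matrix (Fin n) (Fin n) F)) =
          -((B : Matrix (Fin n) (Fin n) F)ᵀ * G * (B : Matrix (Fin n) (Fin n) F)) := by
        rw [Matrix.neg_mul, Matrix.mul_neg, Matrix.mul_assoc]
      rw [h2, hgram] at h1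
      -- `-(c • R P) = c • (R P)ᵀ`
      have h3 : (Matrix.reindex e.symm e.symm (ptMat (fun _ : Fin t => (A : Matrix (Fin k) (Fin k) F))))ᵀ =
          -Matrix.reindex e.symm e.symm (ptMat (fun _ : Fin t => (A : Matrix (Fin k) (Fin k) F))) := by
        have h4 : c • (Matrix.reindex e.symm e.symm (ptMat (fun _ : Fin t => (A : Matrix (Fin k) (Fin k) F))))ᵀ =
            c • (-Matrix.reindex e.symm e.symm (ptMat (fun _ : Fin t => (A : Matrix (Fin k) (Fin k) F)))) := by
          rw [smul_neg]; exact h1.symm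
        exact smul_right_injective _ hc h4
      ext x y
      have h5 := congrFun (congrFun h3 (e.symm x)) (e.symm y)
      simp only [Matrix.transpose_apply, Matrix.reindex_apply, Matrix.submatrix_apply, Equiv.symm_symm,
        Equiv.apply_symm_apply, Matrix.neg_apply] at h5
      simp only [Matrix.transpose_apply, Matrix.smul_apply, smul_eq_mul, neg_mul, one_mul]
      exact h5
    obtain ⟨δ, hδA, hδt⟩ := ptMat_const_symm hk0 ht0 (A : Matrix (Fin k) (Fin k) F) hAunit (-1) hptskew
    have hAne : (A : Matrix (Fin k) (Fin k) F) ≠ 0 := by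
      intro h0
      have hne : Nonempty (Fin k) := ⟨⟨0, hk0⟩⟩
      rw [h0, Matrix.det_zero] at hAunit
      exact not_isUnit_zero hAunit
    have hδ2 : δ * δ = 1 := by
      have h1 : (A : Matrix (Fin k) (Fin k) F) = (δ * δ) • (A : Matrix (Fin k) (Fin k) F) := by
        have h2 := congrArg Matrix.transpose hδA
        rw [Matrix.transpose_transpose, Matrix.transpose_smul, hδA, smul_smul] at h2
        exact h2
      by_contra hne
      apply hAne
      have h3 : (1 - δ * δ) • (A : Matrix (Fin k) (Fin k) F) = 0 := by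
        rw [sub_smul, one_smul, ← h1, sub_self]
      rcases smul_eq_zero.mp h3 with h4 | h4
      · exact absurd (sub_eq_zero.mp h4).symm hne
      · exact h4
    have hδ : δ = -1 := by
      have h1 : (δ - 1) * (δ + 1) = 0 := by ring_nf; rw [show δ ^ 2 = δ * δ by ring, hδ2]; ring
      rcases mul_eq_zero.mp h1 with h2 | h2
      · exfalso
        have hδ1 : δ = 1 := sub_eq_zero.mp h2
        rw [hδ1, one_pow] at hδt
        apply h20
        have : (1 : F) + 1 = 0 := by
          nth_rewrite 1 [hδt]; ring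
        rw [← one_add_one_eq_two]; exact this
      · exact eq_neg_of_add_eq_zero_left h2
    subst hδ
    have htodd : Odd t := by
      by_contra hne
      have hev : Even t := Nat.not_odd_iff_even.mp hne
      rw [hev.neg_one_pow] at hδt
      apply h20
      have : (1 : F) + 1 = 0 := by
        nth_rewrite 1 [hδt]; ring
      rw [← one_add_one_eq_two]; exact this
    have ht3 : 3 ≤ t := by
      obtain ⟨j, hj⟩ := htodd
      omega
    have hAskew : (A : Matrix (Fin k) (Fin k) F)ᵀ = -(A : Matrix (Fin k) (Fin k) F) := by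
      rw [hδA, neg_one_smul]
    have hAdiag : ∀ p, (A : Matrix (Fin k) (Fin k) F) p p = 0 := by
      intro p
      have h1 := congrFun (congrFun hAskew p) p
      simp only [Matrix.transpose_apply, Matrix.neg_apply] at h1
      have h2 : (2 : F) * (A : Matrix (Fin k) (Fin k) F) p p = 0 := by
        rw [two_mul]; nth_rewrite 1 [h1]; ring
      rcases mul_eq_zero.mp h2 with h3 | h3
      · exact absurd h3 h20
      · exact h3
    have hf₁ := gram_symplectic (A : Matrix (Fin k) (Fin k) F) hAunit hAskew hAdiag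
    have hT := sp_tpower_structure f hf e B (A : Matrix (Fin k) (Fin k) F) c hc hgram
    have hex : ¬ (Fintype.card F = 3 ∧ k = 2) := by
      rintro ⟨hF3, hk⟩
      subst hk
      have hbot := sp_hex_false hF3 (K := X ⟨0, ht0⟩) (cjHom (g ⟨0, ht0⟩) θ₀) (by
        intro x hx
        obtain ⟨a, ha, -⟩ := hXfac ⟨0, ht0⟩ x hx
        exact ⟨a, by rw [hfac]; exact ha⟩) (hXperf ⟨0, ht0⟩)
      apply (hXmin ⟨0, ht0⟩).2.1
      rw [hbot]
      exact bot_le
    exact inSp_of_tpower hI e B _ hodd htodd ht3 hex hf₁ hT hle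
  · -- characteristic 2 : class 8
    have h2 : (2 : F) = 0 := aspd2tasm_two_eq_zero hodd
    have hAdiag : ∀ p, (A : Matrix (Fin k) (Fin k) F) p p = 0 := by
      intro p
      -- the diagonal entry of `Bᵀ G B` at `e.symm (const p)` vanishes
      set q : Fin n := e.symm (fun _ => p) with hq
      have h1 := congrFun (congrFun hgram q) q
      have h3 : ((B : Matrix (Fin n) (Fin n) F)ᵀ * G * (B : Matrix (Fin n) (Fin n) F)) q q = 0 := by
        have h4 : ((B : Matrix (Fin n) (Fin n) F)ᵀ * G * (B : Matrix (Fin n) (Fin n) F)) q q =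
            f ((B : Matrix (Fin n) (Fin n) F) *ᵥ Pi.single q 1) ((B : Matrix (Fin n) (Fin n) F) *ᵥ Pi.single q 1) := by
          rw [aspadj_gram hf, Matrix.mulVec_mulVec, Matrix.mulVec_single_one, Matrix.mulVec_single_one]
          simp only [dotProduct, Matrix.col_apply, Matrix.mul_apply, Matrix.transpose_apply, Finset.sum_mul,
            Finset.mul_sum]
          rw [Finset.sum_comm]
          refine Finset.sum_congr rfl fun x _ => Finset.sum_congr rfl fun y _ => ?_
          ring
        rw [h4]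
        exact hf.alternating _
      rw [h3] at h1
      simp only [Matrix.smul_apply, Matrix.reindex_apply, Matrix.submatrix_apply, Equiv.symm_symm, smul_eq_mul,
        hq, Equiv.apply_symm_apply, ptMat_apply, Finset.prod_const, Finset.card_univ, Fintype.card_fin] at h1
      rcases mul_eq_zero.mp h1.symm with h5 | h5
      · exact absurd h5 hc
      · exact pow_eq_zero_iff (by omega) |>.mp h5
    obtain ⟨Q, hQ, hQfix⟩ := sp_even_quad h2 ht2 e B (A : Matrix (Fin k) (Fin k) F) hAdiag c hgram
    have hfixQ : FixesQuadForm (matrixSet N) Q := by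
      have hle' : N ≤ asgd2tasmQIso Q := by
        rw [← hXsup]
        refine iSup_le fun i x hx => ?_
        obtain ⟨a, ha, haA⟩ := hXfac i x hx
        intro v
        rw [ha]
        exact hQfix i a haA v
      rintro _ ⟨x, hx, rfl⟩ v
      exact hle' hx v
    exact sp_quad_even (by omega) hodd f hf hI hN.1 hNA Q hQ hfixQ

end Cfsg.Agent.Lib.Helper18.ASP
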