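import Mathlib
import Cfsg.Prelude.Def_GeometricClasses
import Cfsg.Agent.Lib.Helper27.ASC.Defs
import Cfsg.Agent.Lib.Helper19.ASG.Defs
import Cfsg.Agent.Lib.Helper18.ASP.Defs
import Cfsg.Agent.Lib.Helper18.ASPADJ
import Cfsg.Agent.Lib.Helper9.ASGD2T.Defs
import Cfsg.Agent.Lib.Helper9.ASGD2TF.Defs
import Cfsg.Agent.Lib.helper2.Burnside2

set_option autoImplicit false
set_option linter.unusedVariables false
set_option linter.unusedSectionVars false
set_option linter.deprecated false

/-!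
# Project ASP (S5662), block D2T, piece D2T-SPHEX (backup copy under a private name: the row belongs to helper21)
`aspd2tsphexb_hex_false` = the statement of `sp_hex_false`.
-/

namespace Cfsg.Agent.Lib.Helper18.ASP

open Cfsg Cfsg.Geo Cfsg.Agent.Lib.Helper27.ASC Cfsg.Agent.Lib.Helper19.ASG
open scoped MatrixGroups Matrix

variable {n : ℕ} {F : Type*} [Field F] [Fintype F]

/-- `GL_2(3)` is solvable (order `48 = 2 ^ 4 * 3`, Burnside) -/
theorem aspd2tsphexb_solvable (hF : Fintype.card F = 3) : Group.IsSolvable (GL (Fin 2) F) := by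
  classical
  have hcard : Nat.card (GL (Fin 2) F) = 2 ^ 4 * 3 ^ 1 := by
    rw [Matrix.card_GL_field, hF]
    simp [Fin.prod_univ_two]
  exact Cfsg.Agent.Lib.helper2.burnside_pq 2 3 4 1 Nat.prime_two Nat.prime_three hcard

/-- a perfect solvable subgroup is trivial -/
theorem aspd2tsphexb_perfect_solvable {G : Type*} [Group G] (K : Subgroup G) (hs : Group.IsSolvable K)
    (hperf : ⁅K, K⁆ = K) : K = ⊥ := by
  by_contra hne
  have hnt : Nontrivial K := (Subgroup.nontrivial_iff_ne_bot K).mpr hne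
  have h1 := IsSolvable.commutator_lt_top_of_nontrivial K
  have h2 : commutator K = ⊤ := by
    have h3 := Subgroup.map_subtype_commutator K
    rw [hperf] at h3
    apply Subgroup.map_injective K.subtype_injective
    rw [h3, ← MonoidHom.range_eq_map, Subgroup.range_subtype]
  rw [h2] at h1
  exact lt_irrefl _ h1

/-- D2T-SPHEX (backup) -/
theorem aspd2tsphexb_hex_false (hF : Fintype.card F = 3) {K : Subgroup (GL (Fin n) F)}
    (θ : Matrix (Fin 2) (Fin 2) F →ₐ[F] Matrix (Fin n) (Fin n) F)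
    (hK : ∀ x ∈ K, ∃ a, (x : Matrix (Fin n) (Fin n) F) = θ a) (hperf : ⁅K, K⁆ = K) : K = ⊥ := by
  classical
  rcases Nat.eq_zero_or_pos n with hn | hn
  · subst hn
    have : Subsingleton (GL (Fin 0) F) := ⟨fun a b => Units.ext (Subsingleton.elim _ _)⟩
    exact Subsingleton.elim _ _
  have hne : Nonempty (Fin n) := ⟨⟨0, hn⟩⟩
  have hinj : Function.Injective θ := RingHom.injective (θ : Matrix (Fin 2) (Fin 2) F →+* Matrix (Fin n) (Fin n) F)
  have hsol : Group.IsSolvable (GL (Fin 2) F) := aspd2tsphexb_solvable hF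
  let Φ : GL (Fin 2) F →* GL (Fin n) F := Units.map (θ : Matrix (Fin 2) (Fin 2) F →* Matrix (Fin n) (Fin n) F)
  have hΦ : ∀ u : GL (Fin 2) F, ((Φ u : GL (Fin n) F) : Matrix (Fin n) (Fin n) F) = θ (u : Matrix (Fin 2) (Fin 2) F) :=
    fun u => rfl
  have hsurj : Function.Surjective (Φ.subgroupComap K) := by
    rintro ⟨x, hx⟩
    obtain ⟨a, ha⟩ := hK x hx
    obtain ⟨b, hb⟩ := hK x⁻¹ (K.inv_mem hx)
    have hab : a * b = 1 := by
      apply hinj
      rw [map_mul, ← ha, ← hb, map_one, ← Units.val_mul, mul_inv_cancel, Units.val_one]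
    have hba : b * a = 1 := by
      apply hinj
      rw [map_mul, ← ha, ← hb, map_one, ← Units.val_mul, inv_mul_cancel, Units.val_one]
    have hmem : (⟨a, b, hab, hba⟩ : GL (Fin 2) F) ∈ K.comap Φ := by
      show Φ ⟨a, b, hab, hba⟩ ∈ K
      have : Φ ⟨a, b, hab, hba⟩ = x := by
        apply Units.ext
        rw [hΦ]
        exact ha.symm
      rw [this]; exact hx
    refine ⟨⟨⟨a, b, hab, hba⟩, hmem⟩, ?_⟩
    apply Subtype.ext
    apply Units.ext
    show ((Φ ⟨a, b, hab, hba⟩ : GL (Fin n) F) : Matrix (Fin n) (Fin n) F) = (x : Matrix (Fin n) (Fin n) F)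
    rw [hΦ]
    exact ha.symm
  have hsK : Group.IsSolvable K := solvable_of_surjective hsurj
  exact aspd2tsphexb_perfect_solvable K hsK hperf

end Cfsg.Agent.Lib.Helper18.ASP
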