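import Mathlib
import Cfsg.Prelude.Def_GeometricClasses
import Cfsg.Agent.Lib.Helper27.ASC.Defs
import Cfsg.Agent.Lib.Helper19.ASG.Defs
import Cfsg.Agent.Lib.Helper18.ASP.Defs
import Cfsg.Agent.Lib.Helper18.ASPADJ
import Cfsg.Agent.Lib.Helper9.ASGD2T.Defs
import Cfsg.Agent.Lib.Helper9.ASGD2TF.Defs
import Cfsg.Agent.Lib.Helper9.ASPD2TASMcore
import Cfsg.Agent.Lib.Helper9.ASPD2TSPF1b
import Cfsg.Agent.Lib.Helper9.ASPD2TSPHEXb
import Cfsg.Agent.Lib.Helper1.ASPD2TSPEVEN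

set_option autoImplicit false
set_option linter.unusedVariables false
set_option linter.unusedSectionVars false

/-!
# Project ASP (S5662), block D2T : `sp_perfect_case` (VERBATIM vs Helper18/ASP/Skel.lean.txt)
= `aspd2tasm_core` (Helper9.ASPD2TASMcore) + `gram_symplectic` (backup copy Helper9.ASPD2TSPF1b) +
`sp_hex_false` (backup copy Helper9.ASPD2TSPHEXb) + `sp_even_quad` (Helper1.ASPD2TSPEVEN).
-/

namespace Cfsg.Agent.Lib.Helper18.ASP

open Cfsg Cfsg.Geo Cfsg.Agent.Lib.Helper27.ASC Cfsg.Agent.Lib.Helper19.ASG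
open scoped MatrixGroups Matrix commutatorElement

variable {n : ℕ} {F : Type*} [Field F] [Fintype F]

/-- SP-D2T -/
theorem sp_perfect_case {m : ℕ} (hm : 2 ≤ m) (hn : n = 2 * m) (f : (Fin n → F) → (Fin n → F) → F)
    (hf : IsSymplecticForm f) {H N : Subgroup (GL (Fin n) F)} (hI : H ≤ isoGL f) (hH : Irr H)
    (hD : AllNormalAbsIrr H) (hN : MinNonscalar N H) (hperf : ⁅N, N⁆ = N) :
    InSp m f H ∨ (IsSimpleGroup (N ⧸ (scalars (Fin n) F).subgroupOf N) ∧
      ¬ IsMulCommutative (N ⧸ (scalars (Fin n) F).subgroupOf N)) :=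
  aspd2tasm_core hm hn f hf hI hH hD hN hperf
    (fun A hA hskew hdiag => aspd2tspf1b_gram_symplectic A hA hskew hdiag)
    (fun hF _ θ hK hp => aspd2tsphexb_hex_false hF θ hK hp)
    (fun h2 _ _ ht e B A hAd c hgram => sp_even_quad h2 f hf ht e B A hAd c hgram)

end Cfsg.Agent.Lib.Helper18.ASP
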