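import Mathlib
import Cfsg.Prelude.Def_GeometricClasses
import Cfsg.Agent.Lib.Helper27.ASC.Defs
import Cfsg.Agent.Lib.Helper19.ASG.Defs
import Cfsg.Agent.Lib.Helper18.ASP.Defs
import Cfsg.Agent.Lib.Helper18.ASPADJ
import Cfsg.Agent.Lib.helper8.ASPC.Defs

set_option autoImplicit false
set_option linter.unusedVariables false
set_option linter.unusedSectionVars false

/-!
# Project ASP, block C, piece C-EVQ2 : `spc_additive_zero_of_ptv` (VERBATIM vs helper8/ASPC/Skel.lean.txt)
-/

namespace Cfsg.Agent.Lib.Helper18.ASP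

open Cfsg Cfsg.Geo Cfsg.Agent.Lib.Helper27.ASC Cfsg.Agent.Lib.Helper19.ASG
open scoped MatrixGroups Matrix Kronecker

variable {n : ℕ} {F : Type*} [Field F]

/-- every coordinate vector is a combination of pure tensors of basis vectors -/
theorem aspcevq2_decomp {k d : ℕ} (x : Fin k × Fin d → F) :
    x = ∑ p : Fin k × Fin d, x p • ptv (Pi.single p.1 (1 : F)) (Pi.single p.2 (1 : F)) := by
  classical
  ext q
  rw [Finset.sum_apply, Finset.sum_eq_single q]
  · simp [ptv_apply]
  · intro p _ hpq
    have : ¬ (q.1 = p.1 ∧ q.2 = p.2) := by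
      rintro ⟨h1, h2⟩
      exact hpq (Prod.ext h1.symm h2.symm)
    simp only [Pi.smul_apply, ptv_apply, Pi.single_apply, smul_eq_mul]
    by_cases h1 : q.1 = p.1
    · have h2 : ¬ q.2 = p.2 := fun h2 => this ⟨h1, h2⟩
      simp [h2]
    · simp [h1]
  · intro h; exact absurd (Finset.mem_univ q) h

/-- C-EVQ2 (medium) : an additive function, homogeneous of degree 2, vanishing on pure tensors is zero
(`x = ∑ p, x p • ptv (Pi.single p.1 1) (Pi.single p.2 1)`; induction on a `Finset.sum`). -/
theorem spc_additive_zero_of_ptv {k d : ℕ} (D : (Fin k × Fin d → F) → F)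
    (hadd : ∀ x y, D (x + y) = D x + D y) (hsm : ∀ (c : F) x, D (c • x) = c ^ 2 * D x)
    (hpt : ∀ (α : Fin k → F) (v : Fin d → F), D (ptv α v) = 0) : ∀ x, D x = 0 := by
  classical
  have h0 : D 0 = 0 := by
    have h := hadd 0 0
    rw [add_zero] at h
    exact left_eq_add.mp h
  have hsum : ∀ (s : Finset (Fin k × Fin d)) (g : Fin k × Fin d → (Fin k × Fin d → F)),
      D (∑ p ∈ s, g p) = ∑ p ∈ s, D (g p) := by
    intro s g
    induction s using Finset.induction_on with
    | empty => simpa using h0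
    | insert a s ha ih => rw [Finset.sum_insert ha, Finset.sum_insert ha, hadd, ih]
  intro x
  rw [aspcevq2_decomp x, hsum]
  refine Finset.sum_eq_zero fun p _ => ?_
  rw [hsm, hpt, mul_zero]

end Cfsg.Agent.Lib.Helper18.ASP
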