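import Mathlib
import Cfsg.Prelude.Def_GeometricClasses
import Cfsg.Agent.Lib.Helper27.ASC.Defs
import Cfsg.Agent.Lib.Helper19.ASG.Defs
import Cfsg.Agent.Lib.Helper18.ASP.Defs
import Cfsg.Agent.Lib.Helper18.ASPADJ
import Cfsg.Agent.Lib.helper8.ASPC.Defs
import Cfsg.Agent.Lib.Helper20.ASGCMEM
import Cfsg.Agent.Lib.Helper20.ASPCACT

set_option autoImplicit false
set_option linter.unusedVariables false
set_option linter.unusedSectionVars false

/-!
# Project ASP, block C, piece C-EVQ3 : `spc_tensor_even` (VERBATIM vs helper8/ASPC/Skel.lean.txt)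
-/

namespace Cfsg.Agent.Lib.Helper18.ASP

open Cfsg Cfsg.Geo Cfsg.Agent.Lib.Helper27.ASC Cfsg.Agent.Lib.Helper19.ASG
open scoped MatrixGroups Matrix Kronecker

variable {n : ℕ} {F : Type*} [Field F]

/-- coordinates of a vector in the Kronecker basis `(e, P)` -/
def aspcevq3Co {k d : ℕ} (e : Fin n ≃ Fin k × Fin d) (P : GL (Fin n) F) (v : Fin n → F) : Fin k × Fin d → F :=
  (((P⁻¹ : GL (Fin n) F) : Matrix (Fin n) (Fin n) F) *ᵥ v) ∘ e.symm

theorem aspcevq3_co_inv {k d : ℕ} (e : Fin n ≃ Fin k × Fin d) (P : GL (Fin n) F) (v : Fin n → F) :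
    (P : Matrix (Fin n) (Fin n) F) *ᵥ (aspcevq3Co e P v ∘ e) = v := by
  have h1 : aspcevq3Co e P v ∘ e = ((P⁻¹ : GL (Fin n) F) : Matrix (Fin n) (Fin n) F) *ᵥ v := by
    funext i
    simp [aspcevq3Co]
  rw [h1, Matrix.mulVec_mulVec, ← Units.val_mul, mul_inv_cancel, Units.val_one, Matrix.one_mulVec]

theorem aspcevq3_co_P {k d : ℕ} (e : Fin n ≃ Fin k × Fin d) (P : GL (Fin n) F) (x : Fin k × Fin d → F) :
    aspcevq3Co e P ((P : Matrix (Fin n) (Fin n) F) *ᵥ (x ∘ e)) = x := by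
  funext p
  unfold aspcevq3Co
  rw [Matrix.mulVec_mulVec, ← Units.val_mul, inv_mul_cancel, Units.val_one, Matrix.one_mulVec]
  simp

theorem aspcevq3_co_add {k d : ℕ} (e : Fin n ≃ Fin k × Fin d) (P : GL (Fin n) F) (u v : Fin n → F) :
    aspcevq3Co e P (u + v) = aspcevq3Co e P u + aspcevq3Co e P v := by
  funext p
  unfold aspcevq3Co
  rw [Matrix.mulVec_add]
  rfl

theorem aspcevq3_co_smul {k d : ℕ} (e : Fin n ≃ Fin k × Fin d) (P : GL (Fin n) F) (c : F) (v : Fin n → F) :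
    aspcevq3Co e P (c • v) = c • aspcevq3Co e P v := by
  funext p
  unfold aspcevq3Co
  rw [Matrix.mulVec_smul]
  rfl

/-- C-EVQ3 (large) : `Q v = Q̃ ((P⁻¹ v) ∘ e.symm)` is a non-degenerate quadratic form with polar form `f`, invariant under `H`:
for `h = P R(a ⊗ b) P⁻¹ ∈ H`, `D x = Q̃ ((a ⊗ b) x) - Q̃ x` is additive (the polar form `f` is `h`-invariant), homogeneous of
degree 2 and vanishes on pure tensors (`spc_kr_act_ptv`), so `D = 0` (C-EVQ2).  Conclude with `inSp_of_quad`. -/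
theorem spc_tensor_even [Fintype F] {m : ℕ} (he : ¬ Odd (Fintype.card F)) (f : (Fin n → F) → (Fin n → F) → F)
    (hf : IsSymplecticForm f) {H : Subgroup (GL (Fin n) F)} (hI : H ≤ isoGL f) {k d : ℕ}
    (e : Fin n ≃ Fin k × Fin d) (P : GL (Fin n) F) (A : Matrix (Fin k) (Fin k) F) (B : Matrix (Fin d) (Fin d) F)
    (hAs : Aᵀ = A) (hBs : Bᵀ = B) (hA0 : ∀ i, A i i = 0) (hB0 : ∀ j, B j j = 0) (hK : KrGram f e P A B)
    (hHle : H ≤ tensorProductSubgroup k d e P)
    (hquad : (∀ x y : Fin k × Fin d → F,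
      formOfGram id (upperPart A ⊗ₖ B) (x + y) (x + y) - formOfGram id (upperPart A ⊗ₖ B) x x -
        formOfGram id (upperPart A ⊗ₖ B) y y = formOfGram id (A ⊗ₖ B) x y) ∧
    (∀ (α : Fin k → F) (v : Fin d → F), formOfGram id (upperPart A ⊗ₖ B) (ptv α v) (ptv α v) = 0) ∧
    (∀ (c : F) (x : Fin k × Fin d → F),
      formOfGram id (upperPart A ⊗ₖ B) (c • x) (c • x) = c ^ 2 * formOfGram id (upperPart A ⊗ₖ B) x x))
    (hzero : ∀ D : (Fin k × Fin d → F) → F, (∀ x y, D (x + y) = D x + D y) → (∀ (c : F) x, D (c • x) = c ^ 2 * D x) →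
      (∀ (α : Fin k → F) (v : Fin d → F), D (ptv α v) = 0) → ∀ x, D x = 0) :
    InSp m f H := by
  classical
  obtain ⟨hq1, hq2, hq3⟩ := hquad
  -- the quadratic form
  have hpolfun : QuadraticMap.polar
      (fun v : Fin n → F => formOfGram id (upperPart A ⊗ₖ B) (aspcevq3Co e P v) (aspcevq3Co e P v)) = f := by
    funext u v
    show formOfGram id (upperPart A ⊗ₖ B) (aspcevq3Co e P (u + v)) (aspcevq3Co e P (u + v)) -
      formOfGram id (upperPart A ⊗ₖ B) (aspcevq3Co e P u) (aspcevq3Co e P u) -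
      formOfGram id (upperPart A ⊗ₖ B) (aspcevq3Co e P v) (aspcevq3Co e P v) = f u v
    rw [aspcevq3_co_add, hq1, ← hK, aspcevq3_co_inv, aspcevq3_co_inv]
  refine inSp_of_quad hI
    (fun v : Fin n → F => formOfGram id (upperPart A ⊗ₖ B) (aspcevq3Co e P v) (aspcevq3Co e P v)) he
    ⟨?_, ?_, ?_⟩ (fun u v => congrFun (congrFun hpolfun u) v) ?_
  · intro c v
    show formOfGram id (upperPart A ⊗ₖ B) (aspcevq3Co e P (c • v)) (aspcevq3Co e P (c • v)) = _
    rw [aspcevq3_co_smul, hq3]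
  · rw [hpolfun]; exact hf.bilinear
  · rw [hpolfun]; exact hf.nondegenerate
  · intro h hh
    obtain ⟨a, b, hab⟩ := (mem_tensorProductSubgroup_iff e P h).mp (hHle hh)
    have hiso := (mem_isoGL_iff f h).mp (hI hh)
    refine ⟨1, fun v => ?_⟩
    rw [Units.val_one, one_mul]
    -- the difference vanishes
    have hD := hzero (fun x => formOfGram id (upperPart A ⊗ₖ B)
        (((a : Matrix (Fin k) (Fin k) F) ⊗ₖ (b : Matrix (Fin d) (Fin d) F)) *ᵥ x)
        (((a : Matrix (Fin k) (Fin k) F) ⊗ₖ (b : Matrix (Fin d) (Fin d) F)) *ᵥ x) -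
        formOfGram id (upperPart A ⊗ₖ B) x x) ?_ ?_ ?_
    · have hact : aspcevq3Co e P ((h : Matrix (Fin n) (Fin n) F) *ᵥ v) =
          ((a : Matrix (Fin k) (Fin k) F) ⊗ₖ (b : Matrix (Fin d) (Fin d) F)) *ᵥ aspcevq3Co e P v := by
        conv_lhs => rw [← aspcevq3_co_inv e P v]
        rw [hab, spc_kr_act, aspcevq3_co_P]
      show formOfGram id (upperPart A ⊗ₖ B) (aspcevq3Co e P ((h : Matrix (Fin n) (Fin n) F) *ᵥ v))
        (aspcevq3Co e P ((h : Matrix (Fin n) (Fin n) F) *ᵥ v)) =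
        formOfGram id (upperPart A ⊗ₖ B) (aspcevq3Co e P v) (aspcevq3Co e P v)
      rw [hact]
      exact sub_eq_zero.mp (hD (aspcevq3Co e P v))
    · intro x y
      have h1 : formOfGram id (A ⊗ₖ B)
          (((a : Matrix (Fin k) (Fin k) F) ⊗ₖ (b : Matrix (Fin d) (Fin d) F)) *ᵥ x)
          (((a : Matrix (Fin k) (Fin k) F) ⊗ₖ (b : Matrix (Fin d) (Fin d) F)) *ᵥ y) =
          formOfGram id (A ⊗ₖ B) x y := by
        rw [← hK, ← spc_kr_act, ← spc_kr_act, ← hab, hiso, hK]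
      have h2 := hq1 (((a : Matrix (Fin k) (Fin k) F) ⊗ₖ (b : Matrix (Fin d) (Fin d) F)) *ᵥ x)
        (((a : Matrix (Fin k) (Fin k) F) ⊗ₖ (b : Matrix (Fin d) (Fin d) F)) *ᵥ y)
      have h3 := hq1 x y
      rw [h1] at h2
      show formOfGram id (upperPart A ⊗ₖ B) _ _ - _ = _
      rw [Matrix.mulVec_add]
      linear_combination h2 - h3
    · intro c x
      show formOfGram id (upperPart A ⊗ₖ B) _ _ - _ = _
      rw [Matrix.mulVec_smul, hq3, hq3]; ring
    · intro α v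
      show formOfGram id (upperPart A ⊗ₖ B) _ _ - _ = _
      rw [spc_kr_act_ptv, hq2, hq2, sub_zero]

end Cfsg.Agent.Lib.Helper18.ASP
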