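import Mathlib
import Cfsg.Prelude.Def_ChevStructure
import Cfsg.Prelude.Def_LieTypes
import Cfsg.Prelude.Def_ChevB2
import Cfsg.Agent.Lib.helper8.BTT.Defs
import Cfsg.Agent.Lib.helper8.ChevLvlTab
import Cfsg.Agent.Lib.helper8.ChevLvl2

/-!
# BTT ROOT3 (spare, own names): root coordinates

`κ j r = g_j(r) / g_j(p_j)` with the functionals `g_j = h8gk D (m.getD j [])` of the tables
`h8lvlM_*`.  The tables satisfy `g_j(p_k) = 0` for `j ≠ k` and `g_j(p_j) > 0` (a `rank × rank` check), i.e.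
`M C = 1` for the Cartan matrix `C` and `M j i = m_{j i} / g_j(p_j)`; hence `C M = 1`, which is the
identity `A_{p_i, r} = Σ_j κ_j(r) A_{p_i, p_j}`.
-/

set_option autoImplicit false

namespace Cfsg.Agent.Lib.helper8.BTT

open Cfsg.Lie Cfsg.Lie.ChevalleyDatum

def bttroot3_h9_chk (D : ChevalleyDatum) (m : List (List ℤ)) : Bool :=
  (List.range D.rank).all fun j =>
    decide (D.simple j < D.nroots) &&
    decide (0 < h8gk D (m.getD j []) (D.simple j)) &&
    (List.range D.rank).all fun k =>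
      decide (j = k) || decide (h8gk D (m.getD j []) (D.simple k) = 0)

theorem bttroot3_h9_chk_G2 : bttroot3_h9_chk chevG2 h8lvlM_G2 = true := by decide +kernel
theorem bttroot3_h9_chk_B2 : bttroot3_h9_chk chevB2 h8lvlM_B2 = true := by decide +kernel
theorem bttroot3_h9_chk_D4 : bttroot3_h9_chk chevD4 h8lvlM_D4 = true := by decide +kernel
theorem bttroot3_h9_chk_F4 : bttroot3_h9_chk chevF4 h8lvlM_F4 = true := by decide +kernel
theorem bttroot3_h9_chk_E6 : bttroot3_h9_chk chevE6 h8lvlM_E6 = true := by decide +kernel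
theorem bttroot3_h9_chk_E7 : bttroot3_h9_chk chevE7 h8lvlM_E7 = true := by decide +kernel
theorem bttroot3_h9_chk_E8 : bttroot3_h9_chk chevE8 h8lvlM_E8 = true := by decide +kernel

theorem bttroot3_h9_all (D : ChevalleyDatum)
    (hD : D ∈ [chevG2, chevB2, chevD4, chevF4, chevE6, chevE7, chevE8]) :
    ∃ m : List (List ℤ), h8lvlChk D m = true ∧ bttroot3_h9_chk D m = true := by
  simp only [List.mem_cons, List.not_mem_nil, or_false] at hD
  rcases hD with rfl | rfl | rfl | rfl | rfl | rfl | rfl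
  · exact ⟨_, h8lvlChk_G2, bttroot3_h9_chk_G2⟩
  · exact ⟨_, h8lvlChk_B2, bttroot3_h9_chk_B2⟩
  · exact ⟨_, h8lvlChk_D4, bttroot3_h9_chk_D4⟩
  · exact ⟨_, h8lvlChk_F4, bttroot3_h9_chk_F4⟩
  · exact ⟨_, h8lvlChk_E6, bttroot3_h9_chk_E6⟩
  · exact ⟨_, h8lvlChk_E7, bttroot3_h9_chk_E7⟩
  · exact ⟨_, h8lvlChk_E8, bttroot3_h9_chk_E8⟩

theorem bttroot3_h9_chk_spec (D : ChevalleyDatum) (m : List (List ℤ))
    (h : bttroot3_h9_chk D m = true) (j : ℕ) (hj : j < D.rank) :
    D.simple j < D.nroots ∧ 0 < h8gk D (m.getD j []) (D.simple j) ∧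
      ∀ k < D.rank, j ≠ k → h8gk D (m.getD j []) (D.simple k) = 0 := by
  unfold bttroot3_h9_chk at h
  simp only [Bool.and_eq_true, Bool.or_eq_true, decide_eq_true_eq, List.all_eq_true,
    List.mem_range] at h
  obtain ⟨⟨h1, h2⟩, h3⟩ := h j hj
  refine ⟨h1, h2, ?_⟩
  intro k hk hjk
  rcases h3 k hk with h4 | h4
  · exact absurd h4 hjk
  · exact h4

theorem bttroot3_h9_list_sum (n : ℕ) (f : ℕ → ℝ) :
    ((List.range n).map f).sum = ∑ i : Fin n, f i.val := by
  induction n with
  | zero => simp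
  | succ n ih =>
    rw [List.range_succ, List.map_append, List.sum_append, ih, Fin.sum_univ_castSucc]
    simp

theorem bttroot3_h9_gk_cast (D : ChevalleyDatum) (mk : List ℤ) (r : ℕ) :
    ((h8gk D mk r : ℤ) : ℝ) = ∑ i : Fin D.rank, ((mk.getD i.val 0 : ℤ) : ℝ) * ((D.cartan i.val r : ℤ) : ℝ) := by
  unfold h8gk
  rw [← bttroot3_h9_list_sum D.rank (fun i => ((mk.getD i 0 : ℤ) : ℝ) * ((D.cartan i r : ℤ) : ℝ))]
  induction (List.range D.rank) with
  | nil => simp
  | cons a l ih =>
    rw [List.map_cons, List.sum_cons, List.map_cons, List.sum_cons, ← ih]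
    push_cast
    ring

theorem bttroot3_h9_lv_lam (D : ChevalleyDatum) (y : Fin D.rank → ℝ) (r : ℕ) (hr : r < D.nroots) :
    lv D (lamL D y) r = ∑ i : Fin D.rank, y i * ((D.cartan i r : ℤ) : ℝ) := by
  unfold lv
  rw [dif_pos hr]
  rfl

theorem bttroot3_h9_core (D : ChevalleyDatum) (m : List (List ℤ))
    (h1 : h8lvlChk D m = true) (h2 : bttroot3_h9_chk D m = true) :
    ∃ κ : ℕ → ℕ → ℝ,
    (∀ L ∈ levE D, ∀ r < D.nroots,
      lv D L r = ∑ j ∈ Finset.range D.rank, κ j r * lv D L (D.simple j)) ∧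
    (∀ r, D.IsPosRoot r → ∀ j < D.rank, 0 ≤ κ j r) ∧
    (∀ r < D.nroots, ∀ j < D.rank, (κ j r = 0 ↔ (D.coroot.getD r #[]).getD j 0 = 0)) := by
  classical
  -- notation
  set g : ℕ → ℕ → ℝ := fun j r => ((h8gk D (m.getD j []) r : ℤ) : ℝ) with hg
  set d : ℕ → ℝ := fun j => g j (D.simple j) with hd
  have hdpos : ∀ j < D.rank, 0 < d j := by
    intro j hj
    have := (bttroot3_h9_chk_spec D m h2 j hj).2.1
    simp only [hd, hg]
    exact_mod_cast this
  have hgz : ∀ j < D.rank, ∀ k < D.rank, j ≠ k → g j (D.simple k) = 0 := by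
    intro j hj k hk hjk
    have := (bttroot3_h9_chk_spec D m h2 j hj).2.2 k hk hjk
    simp only [hg]
    exact_mod_cast this
  -- the two matrices
  set Mx : Matrix (Fin D.rank) (Fin D.rank) ℝ :=
    fun j i => (((m.getD j.val []).getD i.val 0 : ℤ) : ℝ) / d j.val with hMx
  set Cx : Matrix (Fin D.rank) (Fin D.rank) ℝ :=
    fun i k => ((D.cartan i.val (D.simple k.val) : ℤ) : ℝ) with hCx
  have hMC : Mx * Cx = 1 := by
    ext j k
    rw [Matrix.mul_apply, Matrix.one_apply]
    have hsum : ∑ i : Fin D.rank, Mx j i * Cx i k = g j.val (D.simple k.val) / d j.val := by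
      simp only [hMx, hCx, hg]
      rw [bttroot3_h9_gk_cast, Finset.sum_div]
      apply Finset.sum_congr rfl
      intro i _
      ring
    rw [hsum]
    by_cases hjk : j = k
    · rw [if_pos hjk, hjk]
      exact div_self (ne_of_gt (hdpos k.val k.isLt))
    · rw [if_neg hjk, hgz j.val j.isLt k.val k.isLt (fun h => hjk (Fin.ext h)), zero_div]
  have hCM : Cx * Mx = 1 := mul_eq_one_comm.mp hMC
  -- the key identity
  have hkey : ∀ (i : Fin D.rank) (r : ℕ), ((D.cartan i.val r : ℤ) : ℝ) =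
      ∑ j : Fin D.rank, (g j.val r / d j.val) * Cx i j := by
    intro i r
    have hκ : ∀ j : Fin D.rank, g j.val r / d j.val =
        Mx.mulVec (fun k : Fin D.rank => ((D.cartan k.val r : ℤ) : ℝ)) j := by
      intro j
      simp only [Matrix.mulVec, dotProduct, hMx, hg]
      rw [bttroot3_h9_gk_cast, Finset.sum_div]
      apply Finset.sum_congr rfl
      intro k _
      ring
    have h3 : Cx.mulVec (Mx.mulVec (fun k : Fin D.rank => ((D.cartan k.val r : ℤ) : ℝ))) =
        (fun k : Fin D.rank => ((D.cartan k.val r : ℤ) : ℝ)) := by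
      rw [Matrix.mulVec_mulVec, hCM, Matrix.one_mulVec]
    have h4 := congrFun h3 i
    simp only [Matrix.mulVec, dotProduct] at h4 hκ
    rw [← h4]
    apply Finset.sum_congr rfl
    intro j _
    rw [hκ j]
    ring
  refine ⟨fun j r => g j r / d j, ?_, ?_, ?_⟩
  · rintro L ⟨y, rfl⟩ r hr
    rw [Finset.sum_range (fun j => g j r / d j * lv D (lamL D y) (D.simple j)),
      bttroot3_h9_lv_lam D y r hr]
    have : ∀ j : Fin D.rank, lv D (lamL D y) (D.simple j.val) =
        ∑ i : Fin D.rank, y i * Cx i j := by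
      intro j
      rw [bttroot3_h9_lv_lam D y _ (bttroot3_h9_chk_spec D m h2 j.val j.isLt).1]
    simp only [this]
    simp only [Finset.mul_sum]
    rw [Finset.sum_comm]
    apply Finset.sum_congr rfl
    intro i _
    rw [hkey i r, Finset.mul_sum]
    apply Finset.sum_congr rfl
    intro j _
    ring
  · intro r hr j hj
    apply div_nonneg _ (le_of_lt (hdpos j hj))
    have hc : 0 ≤ (D.coroot.getD r #[]).getD j 0 := by
      rcases h8getD_mem_or (D.coroot.getD r #[]) j with h0 | hmem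
      · rw [h0]
      · exact hr.2 _ hmem
    have hs := (h8lvlChk_spec D m h1 r hr.1 j hj).2
    have : ¬ h8gk D (m.getD j []) r < 0 := fun hlt => absurd (hs.mpr hlt) (not_lt.mpr hc)
    simp only [hg]
    exact_mod_cast not_lt.mp this
  · intro r hr j hj
    have hs := h8lvlChk_spec D m h1 r hr j hj
    have hdne : d j ≠ 0 := ne_of_gt (hdpos j hj)
    rw [div_eq_zero_iff]
    constructor
    · rintro (h0 | h0)
      · have h0' : h8gk D (m.getD j []) r = 0 := by
          simp only [hg] at h0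
          exact_mod_cast h0
        rw [h0'] at hs
        have ha : ¬ 0 < (D.coroot.getD r #[]).getD j 0 := fun h => absurd (hs.1.mp h) (lt_irrefl _)
        have hb : ¬ (D.coroot.getD r #[]).getD j 0 < 0 := fun h => absurd (hs.2.mp h) (lt_irrefl _)
        omega
      · exact absurd h0 hdne
    · intro h0
      left
      rw [h0] at hs
      have ha : ¬ 0 < h8gk D (m.getD j []) r := fun h => absurd (hs.1.mpr h) (lt_irrefl _)
      have hb : ¬ h8gk D (m.getD j []) r < 0 := fun h => absurd (hs.2.mpr h) (lt_irrefl _)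
      have : h8gk D (m.getD j []) r = 0 := by omega
      simp only [hg]
      exact_mod_cast this

theorem bttroot3_h9_root_coords (D : ChevalleyDatum)
    (hD : D ∈ [chevG2, chevB2, chevD4, chevF4, chevE6, chevE7, chevE8]) :
    ∃ κ : ℕ → ℕ → ℝ,
    (∀ L ∈ levE D, ∀ r < D.nroots,
      lv D L r = ∑ j ∈ Finset.range D.rank, κ j r * lv D L (D.simple j)) ∧
    (∀ r, D.IsPosRoot r → ∀ j < D.rank, 0 ≤ κ j r) ∧
    (∀ r < D.nroots, ∀ j < D.rank, (κ j r = 0 ↔ (D.coroot.getD r #[]).getD j 0 = 0)) := by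
  obtain ⟨m, h1, h2⟩ := bttroot3_h9_all D hD
  exact bttroot3_h9_core D m h1 h2

end Cfsg.Agent.Lib.helper8.BTT
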