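import Mathlib
import Cfsg.Prelude.Def_ChevStructure
import Cfsg.Agent.Lib.helper8.BTT.Defs

/-!
# BTT ROOT4 cores: consequences of root coordinates (hypothesis = the ROOT3 statement at `D`)
-/

set_option autoImplicit false

namespace Cfsg.Agent.Lib.helper8.BTT

open Cfsg.Lie Cfsg.Lie.ChevalleyDatum

/-- the conclusion of ROOT3 `root_coords` -/
def bttroot4_RC (D : ChevalleyDatum) : Prop :=
  ∃ κ : ℕ → ℕ → ℝ,
    (∀ L ∈ levE D, ∀ r < D.nroots,
      lv D L r = ∑ j ∈ Finset.range D.rank, κ j r * lv D L (D.simple j)) ∧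
    (∀ r, D.IsPosRoot r → ∀ j < D.rank, 0 ≤ κ j r) ∧
    (∀ r < D.nroots, ∀ j < D.rank, (κ j r = 0 ↔ (D.coroot.getD r #[]).getD j 0 = 0))

theorem bttroot4_dom_nonneg_core (D : ChevalleyDatum) (hrc : bttroot4_RC D)
    (L : Fin D.nroots → ℝ) (hL : L ∈ levE D) (hdom : Dom D L) (r : ℕ)
    (hr : D.IsPosRoot r) : 0 ≤ lv D L r := by
  obtain ⟨κ, h1, h2, -⟩ := hrc
  rw [h1 L hL r hr.1]
  apply Finset.sum_nonneg
  intro j hj
  rw [Finset.mem_range] at hj
  exact mul_nonneg (h2 r hr j hj) (hdom j hj)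

theorem bttroot4_dom_pos_core (D : ChevalleyDatum) (hrc : bttroot4_RC D)
    (L : Fin D.nroots → ℝ) (hL : L ∈ levE D) (hdom : Dom D L) (r : ℕ)
    (hr : D.IsPosRoot r) (hnot : ¬ D.InRootSub (zeroSet D L) r) : 0 < lv D L r := by
  obtain ⟨κ, h1, h2, h3⟩ := hrc
  rw [h1 L hL r hr.1]
  have hex : ∃ i < D.rank, i ∉ zeroSet D L ∧ (D.coroot.getD r #[]).getD i 0 ≠ 0 := by
    by_contra hcon
    push Not at hcon
    exact hnot ⟨hr.1, hcon⟩
  obtain ⟨i, hi, hiz, hic⟩ := hex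
  have hli : 0 < lv D L (D.simple i) := by
    have hne : lv D L (D.simple i) ≠ 0 := fun h0 => hiz ⟨hi, h0⟩
    exact lt_of_le_of_ne (hdom i hi) (Ne.symm hne)
  have hki : 0 < κ i r := by
    have hne : κ i r ≠ 0 := fun h0 => hic ((h3 r hr.1 i hi).mp h0)
    exact lt_of_le_of_ne (h2 r hr i hi) (Ne.symm hne)
  have hmem : i ∈ Finset.range D.rank := Finset.mem_range.mpr hi
  refine lt_of_lt_of_le (mul_pos hki hli) ?_
  exact Finset.single_le_sum (f := fun j => κ j r * lv D L (D.simple j))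
    (fun j hj => mul_nonneg (h2 r hr j (Finset.mem_range.mp hj))
      (hdom j (Finset.mem_range.mp hj))) hmem

theorem bttroot4_dom_zero_core (D : ChevalleyDatum) (hrc : bttroot4_RC D)
    (L : Fin D.nroots → ℝ) (hL : L ∈ levE D) (r : ℕ)
    (hr : D.InRootSub (zeroSet D L) r) : lv D L r = 0 := by
  obtain ⟨κ, h1, -, h3⟩ := hrc
  rw [h1 L hL r hr.1]
  apply Finset.sum_eq_zero
  intro j hj
  rw [Finset.mem_range] at hj
  by_cases hjz : j ∈ zeroSet D L
  · rw [hjz.2, mul_zero]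
  · rw [(h3 r hr.1 j hj).mpr (hr.2 j hj hjz), zero_mul]

theorem bttroot4_lev_eq_zero_core (D : ChevalleyDatum) (hrc : bttroot4_RC D)
    (L : Fin D.nroots → ℝ) (hL : L ∈ levE D)
    (h0 : ∀ i < D.rank, lv D L (D.simple i) = 0) : L = 0 := by
  obtain ⟨κ, h1, -, -⟩ := hrc
  funext r
  have hlv : lv D L r.val = L r := by
    unfold lv
    rw [dif_pos r.isLt]
  rw [← hlv, h1 L hL r.val r.isLt, Pi.zero_apply]
  apply Finset.sum_eq_zero
  intro j hj
  rw [Finset.mem_range] at hj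
  rw [h0 j hj, mul_zero]

end Cfsg.Agent.Lib.helper8.BTT
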