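import Mathlib
import Cfsg.Prelude.Def_ChevStructure
import Cfsg.Prelude.Def_LieTypes
import Cfsg.Prelude.Def_ChevB2
import Cfsg.Agent.Lib.helper8.BTT.Defs
import Cfsg.Agent.Lib.Helper9.BTTROOT3h9
import Cfsg.Agent.Lib.Helper9.BTTROOT4core

/-!
# BTT ROOT4 (verbatim): consequences of root coordinates for dominant level functions
-/

set_option autoImplicit false

namespace Cfsg.Agent.Lib.helper8.BTT

open Cfsg.Lie Cfsg.Lie.ChevalleyDatum

universe u

section root
variable (D : ChevalleyDatum)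

/-- ROOT4 [S-M]: consequences of ROOT3 for dominant level functions. -/
theorem dom_nonneg (hD : D ∈ [chevG2, chevB2, chevD4, chevF4, chevE6, chevE7, chevE8])
    (L : Fin D.nroots → ℝ) (hL : L ∈ levE D) (hdom : Dom D L) (r : ℕ)
    (hr : D.IsPosRoot r) : 0 ≤ lv D L r :=
  bttroot4_dom_nonneg_core D (bttroot3_h9_root_coords D hD) L hL hdom r hr

theorem dom_pos (hD : D ∈ [chevG2, chevB2, chevD4, chevF4, chevE6, chevE7, chevE8])
    (L : Fin D.nroots → ℝ) (hL : L ∈ levE D) (hdom : Dom D L) (r : ℕ)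
    (hr : D.IsPosRoot r) (hnot : ¬ D.InRootSub (zeroSet D L) r) : 0 < lv D L r :=
  bttroot4_dom_pos_core D (bttroot3_h9_root_coords D hD) L hL hdom r hr hnot

theorem dom_zero (hD : D ∈ [chevG2, chevB2, chevD4, chevF4, chevE6, chevE7, chevE8])
    (L : Fin D.nroots → ℝ) (hL : L ∈ levE D) (r : ℕ)
    (hr : D.InRootSub (zeroSet D L) r) : lv D L r = 0 :=
  bttroot4_dom_zero_core D (bttroot3_h9_root_coords D hD) L hL r hr

theorem lev_eq_zero (hD : D ∈ [chevG2, chevB2, chevD4, chevF4, chevE6, chevE7, chevE8])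
    (L : Fin D.nroots → ℝ) (hL : L ∈ levE D)
    (h0 : ∀ i < D.rank, lv D L (D.simple i) = 0) : L = 0 :=
  bttroot4_lev_eq_zero_core D (bttroot3_h9_root_coords D hD) L hL h0

end root

end Cfsg.Agent.Lib.helper8.BTT
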