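import Mathlib
import Cfsg.Prelude.Def_Transfer

set_option autoImplicit false

namespace Cfsg.Agent.Lib.Helper9

section V4CentA
variable {G : Type*} [Group G]

/-- a subgroup of exponent two is commutative (elementwise form) -/
theorem v4_comm_of_sq {V : Subgroup G} (hVe : ∀ c ∈ V, c * c = 1) {a b : G} (ha : a ∈ V)
    (hb : b ∈ V) : a * b = b * a := by
  have h1 := hVe (a * b) (V.mul_mem ha hb)
  have h2 := hVe a ha
  have h3 := hVe b hb
  calc a * b = (a * b)⁻¹ := (inv_eq_of_mul_eq_one_left h1).symm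
    _ = b⁻¹ * a⁻¹ := mul_inv_rev a b
    _ = b * a := by rw [inv_eq_of_mul_eq_one_left h2, inv_eq_of_mul_eq_one_left h3]

/-- enumeration of a subgroup of order four -/
theorem v4_enum [Finite G] {V : Subgroup G} (hV : Nat.card V = 4) {x y : G} (hx : x ∈ V)
    (hy : y ∈ V) (hx1 : x ≠ 1) (hy1 : y ≠ 1) (hyx : y ≠ x) (hx2 : x * x = 1) :
    ∀ v ∈ V, v = 1 ∨ v = x ∨ v = y ∨ v = x * y := by
  classical
  have hxy1 : x * y ≠ 1 := by
    intro h
    apply hyx
    calc y = x * x * y := by rw [hx2, one_mul]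
      _ = x * (x * y) := by group
      _ = x := by rw [h, mul_one]
  have hxyx : x * y ≠ x := by
    intro h
    apply hy1
    calc y = x⁻¹ * (x * y) := by group
      _ = 1 := by rw [h]; group
  have hxyy : x * y ≠ y := by
    intro h
    apply hx1
    calc x = (x * y) * y⁻¹ := by group
      _ = 1 := by rw [h]; group
  let s : Set G := {1, x, y, x * y}
  have hsV : s ⊆ (V : Set G) := by
    intro v hv
    simp only [s, Set.mem_insert_iff, Set.mem_singleton_iff] at hv
    rcases hv with rfl | rfl | rfl | rfl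
    · exact V.one_mem
    · exact hx
    · exact hy
    · exact V.mul_mem hx hy
  have hcard : s.ncard = 4 := by
    have : s = ({1, x, y, x * y} : Finset G) := by
      ext v; simp [s]
    rw [this, Set.ncard_coe_finset]
    rw [Finset.card_insert_of_notMem, Finset.card_insert_of_notMem, Finset.card_insert_of_notMem,
      Finset.card_singleton]
    · simp only [Finset.mem_singleton]; exact fun h => hxyy h.symm
    · simp only [Finset.mem_insert, Finset.mem_singleton, not_or]
      exact ⟨fun h => hyx h.symm, fun h => hxyx h.symm⟩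
    · simp only [Finset.mem_insert, Finset.mem_singleton, not_or]
      exact ⟨fun h => hx1 h.symm, fun h => hy1 h.symm, fun h => hxy1 h.symm⟩
  have hVc : (V : Set G).ncard = 4 := by
    rw [← hV]; rfl
  have hsV' : s = (V : Set G) :=
    Set.eq_of_subset_of_ncard_le hsV (by rw [hVc, hcard]) (Set.toFinite _)
  intro v hv
  have : v ∈ s := by rw [hsV']; exact hv
  simpa [s] using this

/-- two involutions are conjugate or commute with a common involution in `⟨x w⟩` -/
theorem v4_invol_pair [Finite G] (x w : G) (hx : x * x = 1) (hw : w * w = 1) :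
    (∃ d : G, d * x * d⁻¹ = w) ∨
      ∃ j : G, j ≠ 1 ∧ j * j = 1 ∧ j * x = x * j ∧ j * w = w * j := by
  set g := x * w with hg
  have hxi : x⁻¹ = x := inv_eq_of_mul_eq_one_left hx
  have hwi : w⁻¹ = w := inv_eq_of_mul_eq_one_left hw
  have hgx : x * g * x⁻¹ = g⁻¹ := by
    rw [hg, mul_inv_rev, hxi, hwi]
    calc x * (x * w) * x = (x * x) * w * x := by group
      _ = w * x := by rw [hx, one_mul]
  have hgw : w * g * w⁻¹ = g⁻¹ := by
    rw [hg, mul_inv_rev, hxi, hwi]
    calc w * (x * w) * w = w * x * (w * w) := by group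
      _ = w * x := by rw [hw, mul_one]
  have hgxp : ∀ i : ℕ, x * g ^ i * x⁻¹ = (g ^ i)⁻¹ := by
    intro i
    induction i with
    | zero => simp
    | succ i ih =>
      calc x * g ^ (i + 1) * x⁻¹ = (x * g ^ i * x⁻¹) * (x * g * x⁻¹) := by rw [pow_succ]; group
        _ = (g ^ i)⁻¹ * g⁻¹ := by rw [ih, hgx]
        _ = (g ^ (i + 1))⁻¹ := by rw [pow_succ']; group
  have hgwp : ∀ i : ℕ, w * g ^ i * w⁻¹ = (g ^ i)⁻¹ := by
    intro i
    induction i with
    | zero => simp
    | succ i ih =>
      calc w * g ^ (i + 1) * w⁻¹ = (w * g ^ i * w⁻¹) * (w * g * w⁻¹) := by rw [pow_succ]; group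
        _ = (g ^ i)⁻¹ * g⁻¹ := by rw [ih, hgw]
        _ = (g ^ (i + 1))⁻¹ := by rw [pow_succ']; group
  have hk : 0 < orderOf g := orderOf_pos g
  rcases Nat.even_or_odd' (orderOf g) with ⟨m, hm | hm⟩
  · -- even order
    right
    have hm0 : 0 < m := by omega
    refine ⟨g ^ m, ?_, ?_, ?_, ?_⟩
    · exact pow_ne_one_of_lt_orderOf hm0.ne' (by omega)
    · rw [← pow_add, ← two_mul, ← hm, pow_orderOf_eq_one]
    · have hjj : g ^ m * g ^ m = 1 := by rw [← pow_add, ← two_mul, ← hm, pow_orderOf_eq_one]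
      have hji : (g ^ m)⁻¹ = g ^ m := inv_eq_of_mul_eq_one_left hjj
      have := hgxp m
      rw [hji] at this
      calc g ^ m * x = (x * g ^ m * x⁻¹) * x := by rw [this]
        _ = x * g ^ m := by group
    · have hjj : g ^ m * g ^ m = 1 := by rw [← pow_add, ← two_mul, ← hm, pow_orderOf_eq_one]
      have hji : (g ^ m)⁻¹ = g ^ m := inv_eq_of_mul_eq_one_left hjj
      have := hgwp m
      rw [hji] at this
      calc g ^ m * w = (w * g ^ m * w⁻¹) * w := by rw [this]
        _ = w * g ^ m := by group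
  · -- odd order
    left
    refine ⟨g ^ m, ?_⟩
    have h1 : g ^ m * g ^ m * g = 1 := by
      rw [← pow_add, ← pow_succ, ← two_mul, ← hm, pow_orderOf_eq_one]
    have h2 : g ^ m * g ^ m = g⁻¹ := eq_inv_of_mul_eq_one_left h1
    have h3 := hgxp m
    calc g ^ m * x * (g ^ m)⁻¹ = g ^ m * (x * (g ^ m)⁻¹ * x⁻¹) * x := by group
      _ = g ^ m * (x * g ^ m * x⁻¹)⁻¹ * x := by group
      _ = g ^ m * g ^ m * x := by rw [h3, inv_inv]
      _ = g⁻¹ * x := by rw [h2]
      _ = w := by rw [hg, mul_inv_rev, hxi, hwi]; calc w * x * x = w * (x * x) := by group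
                                                            _ = w := by rw [hx, mul_one]

end V4CentA

end Cfsg.Agent.Lib.Helper9
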