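import Mathlib
import Cfsg.Agent.Lib.Helper9.V4CentA

set_option autoImplicit false

namespace Cfsg.Agent.Lib.Helper9

section V4CentB
variable {G : Type*} [Group G]

theorem v4_card_centralizer_conj [Finite G] (g x : G) :
    Nat.card (Subgroup.centralizer ({g * x * g⁻¹} : Set G)) =
      Nat.card (Subgroup.centralizer ({x} : Set G)) := by
  have h : Subgroup.centralizer ({g * x * g⁻¹} : Set G) =
      (Subgroup.centralizer ({x} : Set G)).map (MulAut.conj g).toMonoidHom := by
    ext c
    rw [Subgroup.mem_centralizer_singleton_iff, Subgroup.mem_map]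
    constructor
    · intro hc
      refine ⟨g⁻¹ * c * g, ?_, ?_⟩
      · rw [Subgroup.mem_centralizer_singleton_iff]
        calc g⁻¹ * c * g * x = g⁻¹ * (c * (g * x * g⁻¹)) * g := by group
          _ = g⁻¹ * ((g * x * g⁻¹) * c) * g := by rw [hc]
          _ = x * (g⁻¹ * c * g) := by group
      · simp [MulAut.conj_apply, mul_assoc]
    · rintro ⟨d, hd, rfl⟩
      rw [Subgroup.mem_centralizer_singleton_iff] at hd
      simp only [MulEquiv.coe_toMonoidHom, MulAut.conj_apply]
      calc g * d * g⁻¹ * (g * x * g⁻¹) = g * (d * x) * g⁻¹ := by group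
        _ = g * (x * d) * g⁻¹ := by rw [hd]
        _ = g * x * g⁻¹ * (g * d * g⁻¹) := by group
  rw [h]
  exact Subgroup.card_map_of_injective (MulAut.conj g).injective

/-- a nontrivial normal elementary abelian 2-subgroup has order 2 or 4 when `|C(x)| = 4` -/
theorem v4_card_normal_elem [Finite G] (x : G) (hx2 : x * x = 1)
    (hV4 : Nat.card (Subgroup.centralizer ({x} : Set G)) = 4)
    (J : Subgroup G) (hJn : J.Normal) (hJcomm : ∀ a ∈ J, ∀ b ∈ J, a * b = b * a)
    (hJsq : ∀ a ∈ J, a * a = 1) (hJ1 : J ≠ ⊥) : Nat.card J = 2 ∨ Nat.card J = 4 := by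
  classical
  have hxi : x⁻¹ = x := inv_eq_of_mul_eq_one_left hx2
  have hxV : x ∈ Subgroup.centralizer ({x} : Set G) := by
    rw [Subgroup.mem_centralizer_singleton_iff]
  have hJc1 : Nat.card J ≠ 1 := fun h => hJ1 (Subgroup.card_eq_one.mp h)
  have hJpos : 0 < Nat.card J := Nat.card_pos
  by_cases hxJ : x ∈ J
  · have hle : J ≤ Subgroup.centralizer ({x} : Set G) := by
      intro a ha
      rw [Subgroup.mem_centralizer_singleton_iff]
      exact hJcomm a ha x hxJ
    have hdvd : Nat.card J ∣ 4 := hV4 ▸ Subgroup.card_dvd_of_le hle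
    have hle4 : Nat.card J ≤ 4 := Nat.le_of_dvd (by norm_num) hdvd
    interval_cases h : Nat.card J
    · exact absurd rfl hJc1
    · left; rfl
    · norm_num at hdvd
    · right; rfl
  · -- x ∉ J
    set K := J ⊓ Subgroup.centralizer ({x} : Set G) with hK
    have hKle : K ≤ Subgroup.centralizer ({x} : Set G) := inf_le_right
    have hKdvd : Nat.card K ∣ 4 := hV4 ▸ Subgroup.card_dvd_of_le hKle
    have hKne : Nat.card K ≠ 4 := by
      intro h
      have : K = Subgroup.centralizer ({x} : Set G) :=
        Subgroup.eq_of_le_of_card_ge hKle (by rw [h, hV4])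
      apply hxJ
      have hxK : x ∈ K := by rw [this]; exact hxV
      exact (Subgroup.mem_inf.mp hxK).1
    have hK2 : Nat.card K ≤ 2 := by
      have hle4 : Nat.card K ≤ 4 := Nat.le_of_dvd (by norm_num) hKdvd
      interval_cases h : Nat.card K
      · omega
      · omega
      · omega
      · norm_num at hKdvd
      · exact absurd rfl hKne
    have hconjJ : ∀ a : ↥J, x * (a : G) * x⁻¹ ∈ J := fun a => hJn.conj_mem a a.2 x
    let φ : ↥J →* ↥J :=
      { toFun := fun a => ⟨(a : G) * (x * (a : G) * x⁻¹), J.mul_mem a.2 (hconjJ a)⟩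
        map_one' := by
          apply Subtype.ext
          simp
        map_mul' := by
          intro a b
          apply Subtype.ext
          show ((a : G) * (b : G)) * (x * ((a : G) * (b : G)) * x⁻¹) =
            ((a : G) * (x * (a : G) * x⁻¹)) * ((b : G) * (x * (b : G) * x⁻¹))
          have h1 := hJcomm (b : G) b.2 (x * (a : G) * x⁻¹) (hconjJ a)
          calc ((a : G) * (b : G)) * (x * ((a : G) * (b : G)) * x⁻¹)
              = (a : G) * ((b : G) * (x * (a : G) * x⁻¹)) * (x * (b : G) * x⁻¹) := by group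
            _ = (a : G) * ((x * (a : G) * x⁻¹) * (b : G)) * (x * (b : G) * x⁻¹) := by rw [h1]
            _ = ((a : G) * (x * (a : G) * x⁻¹)) * ((b : G) * (x * (b : G) * x⁻¹)) := by group }
    have hφ : ∀ a : ↥J, ((φ a : ↥J) : G) = (a : G) * (x * (a : G) * x⁻¹) := fun a => rfl
    -- kernel embeds in K
    have hker : Nat.card φ.ker ≤ Nat.card K := by
      have hmem : ∀ a : φ.ker, ((a : ↥J) : G) ∈ K := by
        intro a
        have ha : φ (a : ↥J) = 1 := a.2
        have ha' : ((a : ↥J) : G) * (x * ((a : ↥J) : G) * x⁻¹) = 1 := by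
          rw [← hφ, ha]; rfl
        have hsq := hJsq _ (a : ↥J).2
        have heq : x * ((a : ↥J) : G) * x⁻¹ = ((a : ↥J) : G) := by
          have h1 : x * ((a : ↥J) : G) * x⁻¹ = (((a : ↥J) : G))⁻¹ :=
            (inv_eq_of_mul_eq_one_right ha').symm
          rw [h1]; exact inv_eq_of_mul_eq_one_left hsq
        rw [hK, Subgroup.mem_inf]
        refine ⟨(a : ↥J).2, ?_⟩
        rw [Subgroup.mem_centralizer_singleton_iff]
        calc ((a : ↥J) : G) * x = (x * ((a : ↥J) : G) * x⁻¹) * x := by rw [heq]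
          _ = x * ((a : ↥J) : G) := by group
      refine Nat.card_le_card_of_injective (fun a : φ.ker => (⟨((a : ↥J) : G), hmem a⟩ : K)) ?_
      intro a b hab
      have h1 : ((a : ↥J) : G) = ((b : ↥J) : G) := by
        have h0 := Subtype.ext_iff.mp hab
        exact h0
      exact Subtype.ext (Subtype.ext h1)
    have hrange : Nat.card φ.range ≤ Nat.card K := by
      have hmem : ∀ b : φ.range, ((b : ↥J) : G) ∈ K := by
        intro b
        obtain ⟨a, ha⟩ := b.2
        rw [hK, Subgroup.mem_inf]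
        refine ⟨(b : ↥J).2, ?_⟩
        rw [Subgroup.mem_centralizer_singleton_iff, ← ha, hφ]
        have h1 := hJcomm (a : G) a.2 (x * (a : G) * x⁻¹) (hconjJ a)
        calc (a : G) * (x * (a : G) * x⁻¹) * x = ((x * (a : G) * x⁻¹) * (a : G)) * x := by rw [h1]
          _ = x * (a : G) * (x⁻¹ * (a : G) * x) := by group
          _ = x * (a : G) * (x * (a : G) * x⁻¹) := by rw [hxi]
          _ = x * ((a : G) * (x * (a : G) * x⁻¹)) := by group
      refine Nat.card_le_card_of_injective
        (fun b : φ.range => (⟨((b : ↥J) : G), hmem b⟩ : K)) ?_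
      intro a b hab
      have h1 : ((a : ↥J) : G) = ((b : ↥J) : G) := by
        have h0 := Subtype.ext_iff.mp hab
        exact h0
      exact Subtype.ext (Subtype.ext h1)
    have hmul : Nat.card φ.ker * Nat.card φ.range = Nat.card J := by
      rw [← Subgroup.index_ker]; exact Subgroup.card_mul_index φ.ker
    have hk1 : 0 < Nat.card φ.ker := Nat.card_pos
    have hr1 : 0 < Nat.card φ.range := Nat.card_pos
    have hk2 : Nat.card φ.ker ≤ 2 := hker.trans hK2
    have hr2 : Nat.card φ.range ≤ 2 := hrange.trans hK2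
    rw [← hmul] at hJc1 ⊢
    generalize Nat.card φ.ker = kk at *
    generalize Nat.card φ.range = rr at *
    interval_cases kk <;> interval_cases rr <;> omega

/-- case where `C(x)` is not a Sylow 2-subgroup: a normal elementary abelian 2-subgroup of
order 2 or 4 -/
theorem v4b_main [Finite G] (x : G) (hx2 : x * x = 1) (hx1 : x ≠ 1)
    (hV4 : Nat.card (Subgroup.centralizer ({x} : Set G)) = 4)
    (hVe : ∀ c ∈ Subgroup.centralizer ({x} : Set G), c * c = 1)
    (t : G) (htV : t ∉ Subgroup.centralizer ({x} : Set G))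
    (htn : ∀ v, v ∈ Subgroup.centralizer ({x} : Set G) ↔
      t * v * t⁻¹ ∈ Subgroup.centralizer ({x} : Set G))
    (k : ℕ) (htk : t ^ (2 ^ k) = 1) :
    ∃ E : Subgroup G, E.Normal ∧ Cfsg.IsElementaryAbelian 2 E ∧
      (Nat.card E = 2 ∨ Nat.card E = 4) := by
  classical
  set V := Subgroup.centralizer ({x} : Set G) with hV
  have hxV : x ∈ V := by rw [hV, Subgroup.mem_centralizer_singleton_iff]
  have hcomm : ∀ {a b : G}, a ∈ V → b ∈ V → a * b = b * a := fun ha hb => v4_comm_of_sq hVe ha hb
  have hxi : x⁻¹ = x := inv_eq_of_mul_eq_one_left hx2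
  -- y = t x t⁻¹
  obtain ⟨y, hy⟩ : ∃ y : G, y = t * x * t⁻¹ := ⟨_, rfl⟩
  have hyV : y ∈ V := by rw [hy]; exact (htn x).mp hxV
  have hy1 : y ≠ 1 := by
    intro h
    apply hx1
    calc x = t⁻¹ * (t * x * t⁻¹) * t := by group
      _ = 1 := by rw [← hy, h]; group
  have hyx : y ≠ x := by
    intro h
    apply htV
    rw [hV, Subgroup.mem_centralizer_singleton_iff]
    calc t * x = (t * x * t⁻¹) * t := by group
      _ = x * t := by rw [← hy, h]
  have hy2 : y * y = 1 := hVe y hyV
  have henum := v4_enum hV4 hxV hyV hx1 hy1 hyx hx2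
  -- y' = t y t⁻¹
  have hy'V : t * y * t⁻¹ ∈ V := (htn y).mp hyV
  have hy'x : t * y * t⁻¹ = x := by
    rcases henum _ hy'V with h | h | h | h
    · exfalso
      apply hy1
      calc y = t⁻¹ * (t * y * t⁻¹) * t := by group
        _ = 1 := by rw [h]; group
    · exact h
    · exfalso
      apply hyx
      have : t * y * t⁻¹ = t * x * t⁻¹ := by rw [h, hy]
      calc y = t⁻¹ * (t * y * t⁻¹) * t := by group
        _ = t⁻¹ * (t * x * t⁻¹) * t := by rw [this]
        _ = x := by group
    · exfalso
      -- 3-cycle: t^3 centralizes x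
      have h3 : t * (x * y) * t⁻¹ = x := by
        calc t * (x * y) * t⁻¹ = (t * x * t⁻¹) * (t * y * t⁻¹) := by group
          _ = y * (x * y) := by rw [h, ← hy]
          _ = x * (y * y) := by rw [hcomm hyV (V.mul_mem hxV hyV)]; group
          _ = x := by rw [hy2, mul_one]
      have ht3 : t ^ 3 * x = x * t ^ 3 := by
        have : t ^ 3 * x * (t ^ 3)⁻¹ = x := by
          calc t ^ 3 * x * (t ^ 3)⁻¹ = t * (t * (t * x * t⁻¹) * t⁻¹) * t⁻¹ := by
                rw [pow_succ, pow_two]; group
            _ = t * (t * y * t⁻¹) * t⁻¹ := by rw [← hy]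
            _ = t * (x * y) * t⁻¹ := by rw [h]
            _ = x := h3
        calc t ^ 3 * x = (t ^ 3 * x * (t ^ 3)⁻¹) * t ^ 3 := by group
          _ = x * t ^ 3 := by rw [this]
      have ht3V : t ^ 3 ∈ V := by
        rw [hV, Subgroup.mem_centralizer_singleton_iff]; exact ht3
      have ht6 : t ^ 6 = 1 := by
        have := hVe _ ht3V
        rw [← pow_add] at this
        exact this
      have ho1 : orderOf t ∣ 6 := orderOf_dvd_of_pow_eq_one ht6
      have ho2 : orderOf t ∣ 2 ^ k := orderOf_dvd_of_pow_eq_one htk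
      have ho3 : orderOf t ∣ 2 := by
        obtain ⟨j, _, hj⟩ := (Nat.dvd_prime_pow Nat.prime_two).mp ho2
        rw [hj] at ho1 ⊢
        rcases j with _ | _ | j
        · simp
        · simp
        · exfalso
          have h4 : 2 ^ 2 ∣ 6 := (pow_dvd_pow 2 (by omega : 2 ≤ j + 1 + 1)).trans ho1
          norm_num at h4
      have ht2 : t ^ 2 = 1 := orderOf_dvd_iff_pow_eq_one.mp ho3
      have : t * y * t⁻¹ = x := by
        calc t * y * t⁻¹ = t ^ 2 * x * (t ^ 2)⁻¹ := by rw [hy, pow_two]; group
          _ = x := by rw [ht2]; group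
      rw [this] at h
      apply hy1
      calc y = x⁻¹ * (x * y) := by group
        _ = 1 := by rw [← h]; group
  -- z = x y
  obtain ⟨z, hz⟩ : ∃ z : G, z = x * y := ⟨_, rfl⟩
  have henum' : ∀ v ∈ V, v = 1 ∨ v = x ∨ v = y ∨ v = z := by rw [hz]; exact henum
  have hzV : z ∈ V := by rw [hz]; exact V.mul_mem hxV hyV
  have hz1 : z ≠ 1 := by
    intro h
    apply hyx
    calc y = x * x * y := by rw [hx2, one_mul]
      _ = x * (x * y) := by group
      _ = x := by rw [← hz, h, mul_one]
  have hzx : z ≠ x := by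
    intro h
    apply hy1
    calc y = x⁻¹ * (x * y) := by group
      _ = 1 := by rw [← hz, h]; group
  have hz2 : z * z = 1 := hVe z hzV
  have htz : t * z * t⁻¹ = z := by
    calc t * z * t⁻¹ = (t * x * t⁻¹) * (t * y * t⁻¹) := by rw [hz]; group
      _ = y * x := by rw [hy'x, ← hy]
      _ = z := by rw [hz, hcomm hyV hxV]
  have htzc : t ∈ Subgroup.centralizer ({z} : Set G) := by
    rw [Subgroup.mem_centralizer_singleton_iff]
    calc t * z = (t * z * t⁻¹) * t := by group
      _ = z * t := by rw [htz]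
  -- z is not conjugate to x
  have hznx : ∀ g : G, g * x * g⁻¹ ≠ z := by
    intro g hg
    have hc : Nat.card (Subgroup.centralizer ({z} : Set G)) = 4 := by
      rw [← hg, v4_card_centralizer_conj, hV4]
    have hle : V ≤ Subgroup.centralizer ({z} : Set G) := by
      intro v hv
      rw [Subgroup.mem_centralizer_singleton_iff]
      exact hcomm hv hzV
    have heq : V = Subgroup.centralizer ({z} : Set G) :=
      Subgroup.eq_of_le_of_card_ge hle (by rw [hc, hV4])
    apply htV
    rw [heq]; exact htzc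
  -- C(y) = V
  have hCy : Subgroup.centralizer ({y} : Set G) = V := by
    have hc : Nat.card (Subgroup.centralizer ({y} : Set G)) = 4 := by
      rw [hy, v4_card_centralizer_conj, hV4]
    have hle : V ≤ Subgroup.centralizer ({y} : Set G) := by
      intro v hv
      rw [Subgroup.mem_centralizer_singleton_iff]
      exact hcomm hv hyV
    exact (Subgroup.eq_of_le_of_card_ge hle (by rw [hc, hV4])).symm
  -- every conjugate of z commutes with z
  have hkey : ∀ h : G, (h * z * h⁻¹) * z = z * (h * z * h⁻¹) := by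
    intro h
    obtain ⟨w, hw⟩ : ∃ w : G, w = h * z * h⁻¹ := ⟨_, rfl⟩
    rw [← hw]
    have hw2 : w * w = 1 := by
      calc w * w = h * (z * z) * h⁻¹ := by rw [hw]; group
        _ = 1 := by rw [hz2]; group
    rcases v4_invol_pair x w hx2 hw2 with ⟨d, hd⟩ | ⟨j, hj1, hj2, hjx, hjw⟩
    · exfalso
      apply hznx (h⁻¹ * d)
      calc h⁻¹ * d * x * (h⁻¹ * d)⁻¹ = h⁻¹ * (d * x * d⁻¹) * h := by group
        _ = h⁻¹ * (h * z * h⁻¹) * h := by rw [hd, hw]
        _ = z := by group
    · have hjV : j ∈ V := by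
        rw [hV, Subgroup.mem_centralizer_singleton_iff]; exact hjx
      have hwV_of : ∀ c : G, c ∈ V → Subgroup.centralizer ({c} : Set G) = V → j = c →
          w * z = z * w := by
        intro c _ hc hjc
        have : w ∈ Subgroup.centralizer ({c} : Set G) := by
          rw [Subgroup.mem_centralizer_singleton_iff, ← hjc]; exact hjw.symm
        rw [hc] at this
        exact hcomm this hzV
      rcases henum' j hjV with h1 | h1 | h1 | h1
      · exact absurd h1 hj1
      · exact hwV_of x hxV rfl h1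
      · exact hwV_of y hyV hCy h1
      · -- j = z
        rw [← h1]; exact hjw.symm
  have hkey2 : ∀ g h : G, (g * z * g⁻¹) * (h * z * h⁻¹) = (h * z * h⁻¹) * (g * z * g⁻¹) := by
    intro g h
    have := hkey (g⁻¹ * h)
    calc (g * z * g⁻¹) * (h * z * h⁻¹)
        = g * (z * ((g⁻¹ * h) * z * (g⁻¹ * h)⁻¹)) * g⁻¹ := by group
      _ = g * (((g⁻¹ * h) * z * (g⁻¹ * h)⁻¹) * z) * g⁻¹ := by rw [this]
      _ = (h * z * h⁻¹) * (g * z * g⁻¹) := by group
  -- the normal closure
  obtain ⟨J, hJ⟩ : ∃ J : Subgroup G, J = Subgroup.normalClosure ({z} : Set G) := ⟨_, rfl⟩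
  have hgen : ∀ w ∈ Group.conjugatesOfSet ({z} : Set G), ∃ h : G, w = h * z * h⁻¹ := by
    intro w hw
    rw [Group.mem_conjugatesOfSet_iff] at hw
    obtain ⟨a, ha, hconj⟩ := hw
    rw [Set.mem_singleton_iff] at ha
    rw [isConj_iff] at hconj
    obtain ⟨c, hc⟩ := hconj
    exact ⟨c, by rw [← hc, ha]⟩
  have hJcomm : ∀ a ∈ J, ∀ b ∈ J, a * b = b * a := by
    have hsub : Group.conjugatesOfSet ({z} : Set G) ⊆
        (Subgroup.centralizer (Group.conjugatesOfSet ({z} : Set G)) : Set G) := by
      intro w hw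
      rw [SetLike.mem_coe, Subgroup.mem_centralizer_iff]
      intro w' hw'
      obtain ⟨g, rfl⟩ := hgen w hw
      obtain ⟨h, rfl⟩ := hgen w' hw'
      exact hkey2 h g
    have hle : J ≤ Subgroup.centralizer (J : Set G) := by
      rw [hJ, Subgroup.normalClosure, Subgroup.centralizer_closure]
      exact (Subgroup.closure_le _).mpr hsub
    intro a ha b hb
    exact ((Subgroup.mem_centralizer_iff.mp (hle hb)) a ha)
  have hJsq : ∀ a ∈ J, a * a = 1 := by
    have hJle : ∀ a ∈ Subgroup.closure (Group.conjugatesOfSet ({z} : Set G)), a ∈ J := by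
      intro a ha; rw [hJ]; exact ha
    intro a ha
    rw [hJ, Subgroup.normalClosure] at ha
    induction ha using Subgroup.closure_induction with
    | mem w hw =>
      obtain ⟨h, rfl⟩ := hgen w hw
      calc h * z * h⁻¹ * (h * z * h⁻¹) = h * (z * z) * h⁻¹ := by group
        _ = 1 := by rw [hz2]; group
    | one => simp
    | mul a b ha hb iha ihb =>
      have hab := hJcomm a (hJle a ha) b (hJle b hb)
      calc a * b * (a * b) = a * (b * a) * b := by group
        _ = a * (a * b) * b := by rw [hab]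
        _ = (a * a) * (b * b) := by group
        _ = 1 := by rw [iha, ihb, mul_one]
    | inv a ha iha =>
      calc a⁻¹ * a⁻¹ = (a * a)⁻¹ := by group
        _ = 1 := by rw [iha, inv_one]
  have hzJ : z ∈ J := by rw [hJ]; exact Subgroup.subset_normalClosure (Set.mem_singleton z)
  have hJn : J.Normal := by rw [hJ]; exact Subgroup.normalClosure_normal
  refine ⟨J, hJn, ⟨⟨⟨fun a b => Subtype.ext (hJcomm a a.2 b b.2)⟩⟩, ?_⟩, ?_⟩
  · intro a ha
    rw [pow_two]; exact hJsq a ha
  · -- the order of J
    apply v4_card_normal_elem x hx2 hV4 J hJn hJcomm hJsq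
    intro h
    apply hz1
    have : z ∈ (⊥ : Subgroup G) := h ▸ hzJ
    exact Subgroup.mem_bot.mp this

end V4CentB

end Cfsg.Agent.Lib.Helper9
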