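import Mathlib
import Cfsg.Agent.Lib.Helper9.V4CentB

set_option autoImplicit false

namespace Cfsg.Agent.Lib.Helper9

section V4CentC
variable {G : Type*} [Group G]

/-- a fixed-point-free involution inverts a finite normal subgroup -/
theorem v4_inv_of_fpf [Finite G] (N : Subgroup G) (hN : N.Normal) (v : G) (hv2 : v * v = 1)
    (hfix : ∀ k ∈ N, k * v = v * k → k = 1) : ∀ k ∈ N, v * k * v⁻¹ = k⁻¹ := by
  have hvi : v⁻¹ = v := inv_eq_of_mul_eq_one_left hv2
  let f : ↥N → ↥N := fun k => ⟨(k : G)⁻¹ * (v * (k : G) * v⁻¹),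
    N.mul_mem (N.inv_mem k.2) (hN.conj_mem k k.2 v)⟩
  have hf : Function.Injective f := by
    intro k l hkl
    have h1 : (k : G)⁻¹ * (v * (k : G) * v⁻¹) = (l : G)⁻¹ * (v * (l : G) * v⁻¹) :=
      Subtype.ext_iff.mp hkl
    have h2 : ((l : G) * (k : G)⁻¹) * v = v * ((l : G) * (k : G)⁻¹) := by
      calc ((l : G) * (k : G)⁻¹) * v
          = (l : G) * ((k : G)⁻¹ * (v * (k : G) * v⁻¹)) * v * (k : G)⁻¹ := by group
        _ = (l : G) * ((l : G)⁻¹ * (v * (l : G) * v⁻¹)) * v * (k : G)⁻¹ := by rw [h1]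
        _ = v * ((l : G) * (k : G)⁻¹) := by group
    have h3 := hfix _ (N.mul_mem l.2 (N.inv_mem k.2)) h2
    apply Subtype.ext
    have : (l : G) = (k : G) := by
      calc (l : G) = ((l : G) * (k : G)⁻¹) * (k : G) := by group
        _ = (k : G) := by rw [h3, one_mul]
    exact this.symm
  have hs : Function.Surjective f := Finite.injective_iff_surjective.mp hf
  intro m hm
  obtain ⟨k, hk⟩ := hs ⟨m, hm⟩
  have hk' : (k : G)⁻¹ * (v * (k : G) * v⁻¹) = m := Subtype.ext_iff.mp hk
  rw [← hk']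
  calc v * ((k : G)⁻¹ * (v * (k : G) * v⁻¹)) * v⁻¹
      = (v * (k : G)⁻¹ * v⁻¹) * ((v * v) * (k : G) * (v⁻¹ * v⁻¹)) := by group
    _ = (v * (k : G)⁻¹ * v⁻¹) * (k : G) := by rw [hvi, hv2]; group
    _ = ((k : G)⁻¹ * (v * (k : G) * v⁻¹))⁻¹ := by group

/-- an element of `N(V) ∖ V` acts as a 3-cycle on the involutions of the Sylow subgroup `V` -/
theorem v4a_cycle [Finite G] (x : G) (hx2 : x * x = 1) (hx1 : x ≠ 1)
    (hV4 : Nat.card (Subgroup.centralizer ({x} : Set G)) = 4)
    (hVe : ∀ c ∈ Subgroup.centralizer ({x} : Set G), c * c = 1)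
    (S : Sylow 2 G) (hS : (S : Subgroup G) = Subgroup.centralizer ({x} : Set G))
    (t : G) (htV : t ∉ Subgroup.centralizer ({x} : Set G))
    (htn : ∀ v, v ∈ Subgroup.centralizer ({x} : Set G) ↔
      t * v * t⁻¹ ∈ Subgroup.centralizer ({x} : Set G)) :
    t * x * t⁻¹ ∈ Subgroup.centralizer ({x} : Set G) ∧ t * x * t⁻¹ ≠ 1 ∧ t * x * t⁻¹ ≠ x ∧
      t * (t * x * t⁻¹) * t⁻¹ = x * (t * x * t⁻¹) ∧ t * (x * (t * x * t⁻¹)) * t⁻¹ = x := by
  classical
  set V := Subgroup.centralizer ({x} : Set G) with hV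
  have hxV : x ∈ V := by rw [hV, Subgroup.mem_centralizer_singleton_iff]
  have hcomm : ∀ {a b : G}, a ∈ V → b ∈ V → a * b = b * a := fun ha hb => v4_comm_of_sq hVe ha hb
  obtain ⟨y, hy⟩ : ∃ y : G, y = t * x * t⁻¹ := ⟨_, rfl⟩
  rw [← hy]
  have hyV : y ∈ V := by rw [hy]; exact (htn x).mp hxV
  have hy1 : y ≠ 1 := by
    intro h
    apply hx1
    calc x = t⁻¹ * (t * x * t⁻¹) * t := by group
      _ = 1 := by rw [← hy, h]; group
  have hyx : y ≠ x := by
    intro h
    apply htV
    rw [hV, Subgroup.mem_centralizer_singleton_iff]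
    calc t * x = (t * x * t⁻¹) * t := by group
      _ = x * t := by rw [← hy, h]
  have hy2 : y * y = 1 := hVe y hyV
  have henum := v4_enum hV4 hxV hyV hx1 hy1 hyx hx2
  have hy'V : t * y * t⁻¹ ∈ V := (htn y).mp hyV
  have hy' : t * y * t⁻¹ = x * y := by
    rcases henum _ hy'V with h | h | h | h
    · exfalso
      apply hy1
      calc y = t⁻¹ * (t * y * t⁻¹) * t := by group
        _ = 1 := by rw [h]; group
    · exfalso
      -- t² centralizes x, so t is a 2-element normalizing the Sylow subgroup V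
      have ht2 : t ^ 2 * x = x * t ^ 2 := by
        have : t ^ 2 * x * (t ^ 2)⁻¹ = x := by
          calc t ^ 2 * x * (t ^ 2)⁻¹ = t * (t * x * t⁻¹) * t⁻¹ := by rw [pow_two]; group
            _ = x := by rw [← hy, h]
        calc t ^ 2 * x = (t ^ 2 * x * (t ^ 2)⁻¹) * t ^ 2 := by group
          _ = x * t ^ 2 := by rw [this]
      have ht2V : t ^ 2 ∈ V := by
        rw [hV, Subgroup.mem_centralizer_singleton_iff]; exact ht2
      have ht4 : t ^ 4 = 1 := by
        have := hVe _ ht2V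
        rw [← pow_add] at this
        exact this
      have hpg : IsPGroup 2 (Subgroup.zpowers t) := by
        have ho : orderOf t ∣ 2 ^ 2 := orderOf_dvd_of_pow_eq_one ht4
        obtain ⟨j, _, hj⟩ := (Nat.dvd_prime_pow Nat.prime_two).mp ho
        apply IsPGroup.of_card (n := j)
        rw [Nat.card_zpowers, hj]
      have hle : Subgroup.zpowers t ≤ Subgroup.normalizer ((S : Subgroup G) : Set G) := by
        rw [Subgroup.zpowers_le, Subgroup.mem_normalizer_iff]
        intro v
        have := htn v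
        rw [← hS] at this
        exact this
      have hsup : IsPGroup 2 (Subgroup.zpowers t ⊔ (S : Subgroup G) : Subgroup G) :=
        IsPGroup.to_sup_of_normal_right' hpg S.isPGroup' hle
      have heq := S.is_maximal' hsup le_sup_right
      apply htV
      have : t ∈ Subgroup.zpowers t ⊔ (S : Subgroup G) :=
        Subgroup.mem_sup_left (Subgroup.mem_zpowers t)
      rw [heq, hS] at this
      exact this
    · exfalso
      apply hyx
      have : t * y * t⁻¹ = t * x * t⁻¹ := by rw [h, hy]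
      calc y = t⁻¹ * (t * y * t⁻¹) * t := by group
        _ = t⁻¹ * (t * x * t⁻¹) * t := by rw [this]
        _ = x := by group
    · exact h
  refine ⟨hyV, hy1, hyx, hy', ?_⟩
  calc t * (x * y) * t⁻¹ = (t * x * t⁻¹) * (t * y * t⁻¹) := by group
    _ = y * (x * y) := by rw [hy', ← hy]
    _ = x * (y * y) := by rw [hcomm hyV (V.mul_mem hxV hyV)]; group
    _ = x := by rw [hy2, mul_one]

end V4CentC

end Cfsg.Agent.Lib.Helper9
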