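import Mathlib
import Cfsg.Agent.Lib.Helper9.V4CentC

set_option autoImplicit false

namespace Cfsg.Agent.Lib.Helper9

section V4CentD
variable {G : Type*} [Group G]

/-- a normal subgroup meeting the Sylow four-group `V = C(x)` trivially is trivial -/
theorem v4a_trivial_of_inf [Finite G] (x : G) (hx2 : x * x = 1) (hx1 : x ≠ 1)
    (hV4 : Nat.card (Subgroup.centralizer ({x} : Set G)) = 4)
    (hVe : ∀ c ∈ Subgroup.centralizer ({x} : Set G), c * c = 1)
    (S : Sylow 2 G) (hS : (S : Subgroup G) = Subgroup.centralizer ({x} : Set G))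
    (t : G) (htV : t ∉ Subgroup.centralizer ({x} : Set G))
    (htn : ∀ v, v ∈ Subgroup.centralizer ({x} : Set G) ↔
      t * v * t⁻¹ ∈ Subgroup.centralizer ({x} : Set G))
    (N : Subgroup G) (hN : N.Normal) (hNV : N ⊓ Subgroup.centralizer ({x} : Set G) = ⊥) :
    N = ⊥ := by
  obtain ⟨hyV, hy1, hyx, hy', hz'⟩ := v4a_cycle x hx2 hx1 hV4 hVe S hS t htV htn
  obtain ⟨y, hy⟩ : ∃ y : G, y = t * x * t⁻¹ := ⟨_, rfl⟩
  rw [← hy] at hyV hy1 hyx hy' hz'
  have hy2 : y * y = 1 := hVe y hyV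
  have hfx : ∀ k ∈ N, k * x = x * k → k = 1 := by
    intro k hk hkx
    have : k ∈ N ⊓ Subgroup.centralizer ({x} : Set G) :=
      Subgroup.mem_inf.mpr ⟨hk, Subgroup.mem_centralizer_singleton_iff.mpr hkx⟩
    rw [hNV] at this
    exact Subgroup.mem_bot.mp this
  -- conjugation transports fixed-point-freeness
  have htrans : ∀ a b : G, t * a * t⁻¹ = b → (∀ k ∈ N, k * a = a * k → k = 1) →
      ∀ k ∈ N, k * b = b * k → k = 1 := by
    intro a b hab ha k hk hkb
    have h1 : t⁻¹ * k * t ∈ N := by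
      have := hN.conj_mem k hk t⁻¹
      rwa [inv_inv] at this
    have h2 : (t⁻¹ * k * t) * a = a * (t⁻¹ * k * t) := by
      calc (t⁻¹ * k * t) * a = t⁻¹ * (k * (t * a * t⁻¹)) * t := by group
        _ = t⁻¹ * ((t * a * t⁻¹) * k) * t := by rw [hab, hkb]
        _ = a * (t⁻¹ * k * t) := by group
    have h3 := ha _ h1 h2
    calc k = t * (t⁻¹ * k * t) * t⁻¹ := by group
      _ = 1 := by rw [h3]; group
  have hfy : ∀ k ∈ N, k * y = y * k → k = 1 := htrans x y hy.symm hfx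
  have hfz : ∀ k ∈ N, k * (x * y) = (x * y) * k → k = 1 := htrans y (x * y) hy' hfy
  have hix := v4_inv_of_fpf N hN x hx2 hfx
  have hiy := v4_inv_of_fpf N hN y hy2 hfy
  rw [Subgroup.eq_bot_iff_forall]
  intro k hk
  apply hfz k hk
  have h1 : y * k * y⁻¹ = k⁻¹ := hiy k hk
  have h2 : x * k⁻¹ * x⁻¹ = (k⁻¹)⁻¹ := hix k⁻¹ (N.inv_mem hk)
  have h3 : (x * y) * k * (x * y)⁻¹ = k := by
    calc (x * y) * k * (x * y)⁻¹ = x * (y * k * y⁻¹) * x⁻¹ := by group
      _ = k := by rw [h1, h2, inv_inv]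
  calc k * (x * y) = ((x * y) * k * (x * y)⁻¹) * (x * y) := by rw [h3]
    _ = (x * y) * k := by group

/-- a normal subgroup meeting `V` nontrivially contains `V` -/
theorem v4a_le_of_inf [Finite G] (x : G) (hx2 : x * x = 1) (hx1 : x ≠ 1)
    (hV4 : Nat.card (Subgroup.centralizer ({x} : Set G)) = 4)
    (hVe : ∀ c ∈ Subgroup.centralizer ({x} : Set G), c * c = 1)
    (S : Sylow 2 G) (hS : (S : Subgroup G) = Subgroup.centralizer ({x} : Set G))
    (t : G) (htV : t ∉ Subgroup.centralizer ({x} : Set G))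
    (htn : ∀ v, v ∈ Subgroup.centralizer ({x} : Set G) ↔
      t * v * t⁻¹ ∈ Subgroup.centralizer ({x} : Set G))
    (N : Subgroup G) (hN : N.Normal) (hNV : N ⊓ Subgroup.centralizer ({x} : Set G) ≠ ⊥) :
    Subgroup.centralizer ({x} : Set G) ≤ N := by
  obtain ⟨hyV, hy1, hyx, hy', hz'⟩ := v4a_cycle x hx2 hx1 hV4 hVe S hS t htV htn
  obtain ⟨y, hy⟩ : ∃ y : G, y = t * x * t⁻¹ := ⟨_, rfl⟩
  rw [← hy] at hyV hy1 hyx hy' hz'
  have hxV : x ∈ Subgroup.centralizer ({x} : Set G) := by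
    rw [Subgroup.mem_centralizer_singleton_iff]
  have henum := v4_enum hV4 hxV hyV hx1 hy1 hyx hx2
  rw [Ne, Subgroup.eq_bot_iff_forall] at hNV
  push Not at hNV
  obtain ⟨v, hv, hv1⟩ := hNV
  obtain ⟨hvN, hvV⟩ := Subgroup.mem_inf.mp hv
  have hxN : x ∈ N := by
    rcases henum v hvV with h | h | h | h
    · exact absurd h hv1
    · rw [← h]; exact hvN
    · have : t⁻¹ * y * t ∈ N := by
        have := hN.conj_mem y (h ▸ hvN) t⁻¹
        rwa [inv_inv] at this
      have hx' : t⁻¹ * y * t = x := by rw [hy]; group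
      rw [← hx']; exact this
    · have := hN.conj_mem (x * y) (h ▸ hvN) t
      rw [hz'] at this
      exact this
  have hyN : y ∈ N := by rw [hy]; exact hN.conj_mem x hxN t
  intro w hw
  rcases henum w hw with h | h | h | h
  · rw [h]; exact N.one_mem
  · rw [h]; exact hxN
  · rw [h]; exact hyN
  · rw [h]; exact N.mul_mem hxN hyN

end V4CentD

end Cfsg.Agent.Lib.Helper9
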