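import Mathlib
import Cfsg.Agent.Lib.Helper9.V4CentD

set_option autoImplicit false

namespace Cfsg.Agent.Lib.Helper9

section V4CentE
variable {G : Type*} [Group G]

/-- Burnside's transfer theorem inside a normal subgroup `N ≥ S`, with the normal
2-complement of `N` shown to be normal in `G` -/
theorem v4a_burnside_sub [Finite G] (N : Subgroup G) (hN : N.Normal) (S : Sylow 2 G)
    (hSN : (S : Subgroup G) ≤ N) (hab : ∀ a ∈ (S : Subgroup G), ∀ b ∈ (S : Subgroup G), a * b = b * a)
    (hno : ∀ r ∈ N, r ∈ Subgroup.normalizer ((S : Subgroup G) : Set G) → r ∈ (S : Subgroup G)) :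
    ∃ K : Subgroup G, K.Normal ∧ K ≤ N ∧ K ⊓ (S : Subgroup G) = ⊥ ∧
      Nat.card N = Nat.card K * Nat.card (S : Subgroup G) := by
  classical
  haveI : Fact (Nat.Prime 2) := ⟨Nat.prime_two⟩
  set P : Sylow 2 ↥N := S.subtype hSN with hP
  have hPcoe : (P : Subgroup ↥N) = (S : Subgroup G).subgroupOf N := S.coe_subtype hSN
  have hmemP : ∀ n : ↥N, n ∈ (P : Subgroup ↥N) ↔ (n : G) ∈ (S : Subgroup G) := by
    intro n
    rw [hPcoe, Subgroup.mem_subgroupOf]
  have hnorm : Subgroup.normalizer ((P : Subgroup ↥N) : Set ↥N) ≤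
      Subgroup.centralizer ((P : Subgroup ↥N) : Set ↥N) := by
    intro n hn
    rw [Subgroup.mem_normalizer_iff] at hn
    have hnG : (n : G) ∈ Subgroup.normalizer ((S : Subgroup G) : Set G) := by
      rw [Subgroup.mem_normalizer_iff]
      intro v
      constructor
      · intro hv
        have := (hn ⟨v, hSN hv⟩).mp ((hmemP _).mpr hv)
        exact (hmemP _).mp this
      · intro hv
        have hvN : v ∈ N := by
          have h1 : (n : G)⁻¹ * ((n : G) * v * (n : G)⁻¹) * (n : G) ∈ N :=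
            N.mul_mem (N.mul_mem (N.inv_mem n.2) (hSN hv)) n.2
          have h2 : (n : G)⁻¹ * ((n : G) * v * (n : G)⁻¹) * (n : G) = v := by group
          rwa [h2] at h1
        have := (hn ⟨v, hvN⟩).mpr ((hmemP _).mpr hv)
        exact (hmemP _).mp this
    have hnS : (n : G) ∈ (S : Subgroup G) := hno n n.2 hnG
    rw [Subgroup.mem_centralizer_iff]
    intro h hh
    apply Subtype.ext
    exact hab h ((hmemP h).mp hh) n hnS
  have hcompl := MonoidHom.ker_transferSylow_isComplement' P hnorm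
  have hodd := MonoidHom.not_dvd_card_ker_transferSylow P hnorm
  set K₀ : Subgroup ↥N := (MonoidHom.transferSylow P hnorm).ker with hK₀
  have hK₀n : K₀.Normal := MonoidHom.normal_ker _
  have hcardP : Nat.card (P : Subgroup ↥N) = Nat.card (S : Subgroup G) := by
    rw [hPcoe]
    exact Nat.card_congr (Subgroup.subgroupOfEquivOfLe hSN).toEquiv
  have hcard : Nat.card K₀ * Nat.card (S : Subgroup G) = Nat.card N := by
    rw [← hcardP]; exact hcompl.card_mul_card
  have hindex : K₀.index = Nat.card (S : Subgroup G) := by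
    rw [← hcardP]; exact hcompl.symm.index_eq_card
  obtain ⟨e, he⟩ := IsPGroup.iff_card.mp S.isPGroup'
  -- characterization of K₀: elements of N killed by the odd number |K₀|
  have hchar : ∀ n : ↥N, n ^ Nat.card K₀ = 1 → n ∈ K₀ := by
    intro n hn
    have h1 : ((n : ↥N ⧸ K₀)) ^ Nat.card K₀ = 1 := by
      rw [← QuotientGroup.mk_pow, hn]; rfl
    have h2 : orderOf (n : ↥N ⧸ K₀) ∣ Nat.card K₀ := orderOf_dvd_of_pow_eq_one h1
    have h3 : orderOf (n : ↥N ⧸ K₀) ∣ 2 ^ e := by
      have : Nat.card (↥N ⧸ K₀) = 2 ^ e := by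
        rw [← he, ← hindex]; rfl
      rw [← this]; exact orderOf_dvd_natCard _
    have hcop : Nat.Coprime (Nat.card K₀) (2 ^ e) :=
      Nat.Coprime.pow_right e ((Nat.Prime.coprime_iff_not_dvd Nat.prime_two).mpr hodd).symm
    have h4 : orderOf (n : ↥N ⧸ K₀) = 1 :=
      Nat.eq_one_of_dvd_coprimes hcop h2 h3
    rw [orderOf_eq_one_iff] at h4
    exact (QuotientGroup.eq_one_iff n).mp h4
  have hcardK : Nat.card (K₀.map N.subtype) = Nat.card K₀ :=
    Subgroup.card_map_of_injective N.subtype_injective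
  refine ⟨K₀.map N.subtype, ⟨?_⟩, Subgroup.map_subtype_le K₀, ?_, ?_⟩
  · -- normality in G
    intro k' hk' g
    obtain ⟨k, hk, rfl⟩ := Subgroup.mem_map.mp hk'
    have hkpow : k ^ Nat.card K₀ = 1 := by
      have h1 : (⟨k, hk⟩ : K₀) ^ Nat.card K₀ = 1 := pow_card_eq_one'
      have h2 : ((⟨k, hk⟩ : K₀) ^ Nat.card K₀ : K₀).1 = (1 : K₀).1 := by rw [h1]
      rw [Subgroup.coe_pow, Subgroup.coe_one] at h2
      exact h2
    set k₁ : ↥N := ⟨g * (k : G) * g⁻¹, hN.conj_mem k k.2 g⟩ with hk₁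
    have hk₁pow : k₁ ^ Nat.card K₀ = 1 := by
      apply Subtype.ext
      rw [Subgroup.coe_pow, Subgroup.coe_one, hk₁]
      show (g * (k : G) * g⁻¹) ^ Nat.card K₀ = 1
      rw [conj_pow]
      have : ((k : G)) ^ Nat.card K₀ = 1 := by
        have := congrArg (Subtype.val) hkpow
        simpa using this
      rw [this]; group
    have hk₁K : k₁ ∈ K₀ := hchar k₁ hk₁pow
    exact Subgroup.mem_map.mpr ⟨k₁, hk₁K, rfl⟩
  · -- trivial intersection with S
    rw [Subgroup.eq_bot_iff_forall]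
    intro a ha
    obtain ⟨haK, haS⟩ := Subgroup.mem_inf.mp ha
    obtain ⟨k, hk, rfl⟩ := Subgroup.mem_map.mp haK
    have hkP : k ∈ (P : Subgroup ↥N) := (hmemP k).mpr haS
    have := Subgroup.disjoint_def.mp hcompl.disjoint hk hkP
    rw [this]; rfl
  · rw [hcardK, hcard]

end V4CentE

end Cfsg.Agent.Lib.Helper9
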