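import Mathlib
import Cfsg.Agent.Lib.Helper9.V4CentE

set_option autoImplicit false

namespace Cfsg.Agent.Lib.Helper9

section V4CentF
variable {G : Type*} [Group G]

theorem v4_conj_eq {a b x : G} (h : a * x * a⁻¹ = b * x * b⁻¹) :
    (b⁻¹ * a) * x * (b⁻¹ * a)⁻¹ = x := by
  calc (b⁻¹ * a) * x * (b⁻¹ * a)⁻¹ = b⁻¹ * (a * x * a⁻¹) * b := by group
    _ = b⁻¹ * (b * x * b⁻¹) * b := by rw [h]
    _ = x := by group

/-- a normal subgroup containing the Sylow four-group `V = C(x)` is everything -/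
theorem v4a_top_of_le [Finite G] (x : G) (hx2 : x * x = 1) (hx1 : x ≠ 1)
    (hV4 : Nat.card (Subgroup.centralizer ({x} : Set G)) = 4)
    (hVe : ∀ c ∈ Subgroup.centralizer ({x} : Set G), c * c = 1)
    (S : Sylow 2 G) (hS : (S : Subgroup G) = Subgroup.centralizer ({x} : Set G))
    (hne : ∀ E : Subgroup G, E.Normal → Cfsg.IsElementaryAbelian 2 E →
      Nat.card ↥E ≠ 2 ∧ Nat.card ↥E ≠ 4)
    (t : G) (htV : t ∉ Subgroup.centralizer ({x} : Set G))
    (htn : ∀ v, v ∈ Subgroup.centralizer ({x} : Set G) ↔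
      t * v * t⁻¹ ∈ Subgroup.centralizer ({x} : Set G))
    (N : Subgroup G) (hN : N.Normal) (hVN : Subgroup.centralizer ({x} : Set G) ≤ N) :
    N = ⊤ := by
  classical
  haveI : Fact (Nat.Prime 2) := ⟨Nat.prime_two⟩
  haveI := hN
  have hxV : x ∈ Subgroup.centralizer ({x} : Set G) := by
    rw [Subgroup.mem_centralizer_singleton_iff]
  have hSN : (S : Subgroup G) ≤ N := hS ▸ hVN
  have hcomm : ∀ {a b : G}, a ∈ Subgroup.centralizer ({x} : Set G) →
      b ∈ Subgroup.centralizer ({x} : Set G) → a * b = b * a :=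
    fun ha hb => v4_comm_of_sq hVe ha hb
  by_cases hex : ∃ r ∈ N, r ∈ Subgroup.normalizer ((S : Subgroup G) : Set G) ∧
      r ∉ (S : Subgroup G)
  · obtain ⟨r, hrN, hrn, hrS⟩ := hex
    have hrV : r ∉ Subgroup.centralizer ({x} : Set G) := hS ▸ hrS
    have hrn' : ∀ v, v ∈ Subgroup.centralizer ({x} : Set G) ↔
        r * v * r⁻¹ ∈ Subgroup.centralizer ({x} : Set G) := by
      intro v
      have := (Subgroup.mem_normalizer_iff.mp hrn) v
      rw [hS] at this
      exact this
    obtain ⟨hyV, hy1, hyx, hy', hz'⟩ := v4a_cycle x hx2 hx1 hV4 hVe S hS r hrV hrn'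
    obtain ⟨y, hy⟩ : ∃ y : G, y = r * x * r⁻¹ := ⟨_, rfl⟩
    rw [← hy] at hyV hy1 hyx hy' hz'
    have henum := v4_enum hV4 hxV hyV hx1 hy1 hyx hx2
    have hle : Subgroup.normalizer ((S : Subgroup G) : Set G) ≤ N := by
      intro n hn
      have hn' := (Subgroup.mem_normalizer_iff.mp hn) x
      rw [hS] at hn'
      have hnx : n * x * n⁻¹ ∈ Subgroup.centralizer ({x} : Set G) := hn'.mp hxV
      have hcent : ∀ c : G, c * x * c⁻¹ = x → c ∈ N := by
        intro c hc
        apply hVN
        rw [Subgroup.mem_centralizer_singleton_iff]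
        calc c * x = (c * x * c⁻¹) * c := by group
          _ = x * c := by rw [hc]
      rcases henum _ hnx with h | h | h | h
      · exfalso
        apply hx1
        calc x = n⁻¹ * (n * x * n⁻¹) * n := by group
          _ = 1 := by rw [h]; group
      · exact hcent n h
      · have h1 : (r⁻¹ * n) * x * (r⁻¹ * n)⁻¹ = x := v4_conj_eq (by rw [h, hy])
        have h2 := hcent _ h1
        have h3 : r * (r⁻¹ * n) ∈ N := N.mul_mem hrN h2
        have h4 : r * (r⁻¹ * n) = n := by group
        rwa [h4] at h3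
      · have h0 : (r * r) * x * (r * r)⁻¹ = x * y := by
          calc (r * r) * x * (r * r)⁻¹ = r * (r * x * r⁻¹) * r⁻¹ := by group
            _ = x * y := by rw [← hy, hy']
        have h1 : ((r * r)⁻¹ * n) * x * ((r * r)⁻¹ * n)⁻¹ = x := v4_conj_eq (by rw [h, h0])
        have h2 := hcent _ h1
        have h3 : (r * r) * ((r * r)⁻¹ * n) ∈ N := N.mul_mem (N.mul_mem hrN hrN) h2
        have h4 : (r * r) * ((r * r)⁻¹ * n) = n := by group
        rwa [h4] at h3
    have hfr := Sylow.normalizer_sup_eq_top' S hSN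
    rw [← hfr]
    exact (sup_eq_right.mpr hle).symm
  · push Not at hex
    exfalso
    have hab : ∀ a ∈ (S : Subgroup G), ∀ b ∈ (S : Subgroup G), a * b = b * a := by
      intro a ha b hb
      rw [hS] at ha hb
      exact hcomm ha hb
    obtain ⟨K, hKn, hKN, hKS, hcard⟩ := v4a_burnside_sub N hN S hSN hab
      (fun r hr hrn => hex r hr hrn)
    rw [hS] at hKS
    have hK := v4a_trivial_of_inf x hx2 hx1 hV4 hVe S hS t htV htn K hKn hKS
    have hNcard : Nat.card N = 4 := by
      rw [hcard, hK, Subgroup.card_bot, one_mul, hS, hV4]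
    have hNV : Subgroup.centralizer ({x} : Set G) = N :=
      Subgroup.eq_of_le_of_card_ge hVN (by rw [hNcard, hV4])
    have hVn : (Subgroup.centralizer ({x} : Set G)).Normal := hNV ▸ hN
    have hel : Cfsg.IsElementaryAbelian 2 (Subgroup.centralizer ({x} : Set G)) := by
      refine ⟨⟨⟨fun a b => Subtype.ext (hcomm a.2 b.2)⟩⟩, ?_⟩
      intro a ha
      rw [pow_two]; exact hVe a ha
    exact (hne _ hVn hel).2 hV4

/-- under the hypotheses, with `V = C(x)` a Sylow 2-subgroup, `G` is simple -/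
theorem v4a_simple [Finite G] (x : G) (hx2 : x * x = 1) (hx1 : x ≠ 1)
    (hV4 : Nat.card (Subgroup.centralizer ({x} : Set G)) = 4)
    (hVe : ∀ c ∈ Subgroup.centralizer ({x} : Set G), c * c = 1)
    (S : Sylow 2 G) (hS : (S : Subgroup G) = Subgroup.centralizer ({x} : Set G))
    (hnc : ¬ Cfsg.HasNormalPComplement 2 G)
    (hne : ∀ E : Subgroup G, E.Normal → Cfsg.IsElementaryAbelian 2 E →
      Nat.card ↥E ≠ 2 ∧ Nat.card ↥E ≠ 4) : IsSimpleGroup G := by
  classical
  haveI : Fact (Nat.Prime 2) := ⟨Nat.prime_two⟩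
  have hcomm : ∀ {a b : G}, a ∈ Subgroup.centralizer ({x} : Set G) →
      b ∈ Subgroup.centralizer ({x} : Set G) → a * b = b * a :=
    fun ha hb => v4_comm_of_sq hVe ha hb
  -- an element of N(V) outside V, by Burnside's transfer theorem
  have hex : ∃ t ∈ Subgroup.normalizer ((S : Subgroup G) : Set G), t ∉ (S : Subgroup G) := by
    by_contra hno
    push Not at hno
    apply hnc
    have hP : Subgroup.normalizer ((S : Subgroup G) : Set G) ≤
        Subgroup.centralizer ((S : Subgroup G) : Set G) := by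
      intro n hn
      have hnS := hno n hn
      rw [Subgroup.mem_centralizer_iff]
      intro h hh
      rw [SetLike.mem_coe, hS] at hh
      rw [hS] at hnS
      exact hcomm hh hnS
    exact ⟨S, (MonoidHom.transferSylow S hP).ker, MonoidHom.normal_ker _,
      MonoidHom.ker_transferSylow_isComplement' S hP⟩
  obtain ⟨t, htn0, htS⟩ := hex
  have htV : t ∉ Subgroup.centralizer ({x} : Set G) := hS ▸ htS
  have htn : ∀ v, v ∈ Subgroup.centralizer ({x} : Set G) ↔
      t * v * t⁻¹ ∈ Subgroup.centralizer ({x} : Set G) := by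
    intro v
    have := (Subgroup.mem_normalizer_iff.mp htn0) v
    rw [hS] at this
    exact this
  haveI : Nontrivial G := ⟨⟨x, 1, hx1⟩⟩
  refine ⟨fun N hN => ?_⟩
  by_cases hNV : N ⊓ Subgroup.centralizer ({x} : Set G) = ⊥
  · left
    exact v4a_trivial_of_inf x hx2 hx1 hV4 hVe S hS t htV htn N hN hNV
  · right
    have hle := v4a_le_of_inf x hx2 hx1 hV4 hVe S hS t htV htn N hN hNV
    exact v4a_top_of_le x hx2 hx1 hV4 hVe S hS hne t htV htn N hN hle

end V4CentF

end Cfsg.Agent.Lib.Helper9
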