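import Mathlib
import Cfsg.Agent.Lib.Helper21.OmegaLemma
import Cfsg.Agent.Lib.Helper22.Basic

set_option autoImplicit false

namespace Cfsg.Agent.Lib.Helper9

section OddAut1
variable {X : Type*} [Group X]

/-- relative version of `Sylow.exists_subgroup_card_pow_prime_le` -/
theorem oa_exists_between [Finite X] (p : ℕ) [Fact p.Prime] {i m k : ℕ} (H F : Subgroup X)
    (hHF : H ≤ F) (hH : Nat.card H = p ^ i) (hF : Nat.card F = p ^ k) (him : i ≤ m) (hmk : m ≤ k) :
    ∃ K : Subgroup X, H ≤ K ∧ K ≤ F ∧ Nat.card K = p ^ m := by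
  have h1 : p ^ m ∣ Nat.card F := by rw [hF]; exact pow_dvd_pow p hmk
  have h2 : Nat.card (H.subgroupOf F) = p ^ i := by
    rw [← hH]; exact Nat.card_congr (Subgroup.subgroupOfEquivOfLe hHF).toEquiv
  obtain ⟨K, hK, hHK⟩ := Sylow.exists_subgroup_card_pow_prime_le p h1 (H.subgroupOf F) h2 him
  refine ⟨K.map F.subtype, ?_, ?_, ?_⟩
  · intro x hx
    exact ⟨⟨x, hHF hx⟩, hHK (Subgroup.mem_subgroupOf.mpr hx), rfl⟩
  · rintro _ ⟨y, -, rfl⟩
    exact y.2
  · rw [← hK]
    exact Nat.card_congr (K.equivMapOfInjective F.subtype F.subtype_injective).symm.toEquiv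

/-- fixed points of conjugation by an element of prime power order on a stable set of size prime
to the prime -/
theorem oa_fixed_point [Finite X] (q e : ℕ) [hq : Fact q.Prime] (g : X) (hg : g ^ q ^ e = 1)
    (Y : Set X) (hY : ∀ y ∈ Y, g * y * g⁻¹ ∈ Y) (hcard : ¬ q ∣ Y.ncard) :
    ∃ y ∈ Y, g * y * g⁻¹ = y := by
  classical
  haveI : Fintype Y := Fintype.ofFinite Y
  let f : Function.End Y := fun y => ⟨g * y.1 * g⁻¹, hY y.1 y.2⟩
  have hf : ∀ k : ℕ, ∀ y : Y, ((f ^ k) y).1 = g ^ k * y.1 * (g ^ k)⁻¹ := by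
    intro k
    induction k with
    | zero => intro y; rw [pow_zero, pow_zero]; show y.1 = _; simp
    | succ k ih =>
      intro y
      rw [pow_succ']
      show g * ((f ^ k) y).1 * g⁻¹ = _
      rw [ih, pow_succ']
      group
  have hfq : f ^ q ^ e = 1 := by
    funext y
    apply Subtype.ext
    rw [hf, hg]
    show _ = y.1
    simp
  have h1 := Equiv.Perm.card_fixedPoints_modEq (p := q) (n := e) hfq
  have h2 : Fintype.card Y = Y.ncard := by
    rw [← Nat.card_eq_fintype_card, Nat.card_coe_set_eq]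
  by_contra hne
  push Not at hne
  have h3 : IsEmpty (Function.fixedPoints f) := by
    refine ⟨fun y => ?_⟩
    have := y.2
    apply hne y.1.1 y.1.2
    have h4 : f y.1 = y.1 := this
    exact congrArg Subtype.val h4
  rw [Fintype.card_eq_zero_iff.mpr h3, h2] at h1
  exact hcard ((Nat.modEq_zero_iff_dvd).mp h1)

end OddAut1

end Cfsg.Agent.Lib.Helper9
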