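import Mathlib
import Cfsg.Prelude.Def_GeometricClasses
import Cfsg.Agent.Lib.Helper27.ASC.Defs
import Cfsg.Agent.Lib.Helper19.ASG.Defs
import Cfsg.Agent.Lib.Helper9.ASGD2T.Defs
import Cfsg.Agent.Lib.Helper9.ASGD2TGRP
import Cfsg.Agent.Lib.Helper1.ASGD2TCSIMPLE
import Cfsg.Agent.Lib.Helper1.ASGD2TENUM
import Cfsg.Agent.Lib.Helper11.ASGD2TPTMUL
import Cfsg.Agent.Lib.Helper11.ASGD2TTWO
import Cfsg.Agent.Lib.Helper11.ASGD2TTNORMcore
import Cfsg.Agent.Lib.helper23.ASGD2TTSTD
import Cfsg.Agent.Lib.Helper29.ASGD2TFACTOR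
import Cfsg.Agent.Lib.Helper29.ASGD2TTBASIS
import Cfsg.Agent.Lib.Helper19.ASGD2TTHETA
import Cfsg.Agent.Lib.Helper9.ASGD2TASM1
import Cfsg.Agent.Lib.Helper9.ASGD2TASM2
import Cfsg.Agent.Lib.Helper11.ASCSIMPLEcore
import Cfsg.Agent.Lib.Helper18.ASCFORMS

set_option autoImplicit false
set_option linter.unusedVariables false
set_option maxHeartbeats 1000000

/-!
# Project ASG, block D2T : assembly of `perfect_case` (verbatim interface statement of `Helper19/ASG/Skel.lean.txt`)
-/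

namespace Cfsg.Agent.Lib.Helper19.ASG

open Cfsg Cfsg.Geo Cfsg.Agent.Lib.Helper27.ASC
open scoped MatrixGroups Matrix commutatorElement

variable {n : ℕ} {F : Type*} [Field F] [Fintype F]

/-- the tensor-induced case -/
theorem asgd2tasm_tensor (hn : 3 ≤ n) {H N M : Subgroup (GL (Fin n) F)} (hH : Irr H) (hD : AllNormalAbsIrr H)
    (hN : MinNonscalar N H) (hperf : ⁅N, N⁆ = N) (hM : MinNonscalar M N) (hMN : M ≠ N) : InClass H := by
  classical
  have hn0 : 0 < n := by omega
  have hNA : AbsIrr N := (hD N hN.1).resolve_left hN.2.1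
  obtain ⟨hjoin, hMperf⟩ := conj_join hN hperf hM
  obtain ⟨t, X, g, hXinj, hXg, ⟨i₀, hi₀⟩, hXperm⟩ := enum_conj H M
  -- the conjugates
  have hXmin : ∀ i, MinNonscalar (X i) N := by
    intro i
    rw [(hXg i).2]
    exact ascsimple_cj_min hN.1 hM (hXg i).1
  have hXperf : ∀ i, ⁅X i, X i⁆ = X i := by
    intro i
    rw [(hXg i).2, ← Subgroup.map_commutator, hMperf]
  have hXcomm : ∀ i j, i ≠ j → ∀ a ∈ X i, ∀ b ∈ X j, a * b = b * a := by
    intro i j hij
    rcases min_commute (hXmin i) (hXmin j) (hXperf i) with h | h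
    · exact absurd (hXinj h) hij
    · exact h
  have hXsup : (⨆ i, X i) = N := by
    apply le_antisymm
    · exact iSup_le fun i => (hXmin i).1.1
    · rw [← hjoin]
      refine iSup_le fun h => ?_
      obtain ⟨π, hπ⟩ := hXperm h h.2
      have := hπ i₀
      rw [hi₀] at this
      rw [this]
      exact le_iSup X (π i₀)
  have ht2 : 2 ≤ t := by
    by_contra hlt
    have ht1 : t = 1 := by
      have : 0 < t := Fin.pos i₀
      omega
    subst ht1
    apply hMN
    rw [← hXsup, ← hi₀]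
    apply le_antisymm
    · exact le_iSup X i₀
    · refine iSup_le fun i => ?_
      rw [Subsingleton.elim i i₀]
  have ht0 : 0 < t := by omega
  -- the centre of the commutant of `M` is scalar
  have hZ : ∀ z ∈ centAlg M, (∀ c ∈ centAlg M, z * c = c * z) →
      ∃ r : F, z = r • (1 : Matrix (Fin n) (Fin n) F) := by
    intro z hz hzc
    apply asgd2tasm_scalar_of_comm hNA X hXsup z
    intro i b hb
    by_cases hi : i = i₀
    · subst hi
      rw [hi₀] at hb
      exact ((asgd2tasm_mem_centAlg M z).mp hz b hb).symm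
    · apply hzc
      rw [asgd2tasm_mem_centAlg]
      intro x hx
      have hx' : x ∈ X i₀ := by rw [hi₀]; exact hx
      have h1 := hXcomm i i₀ hi b hb x hx'
      have h2 := congrArg (fun u : GL (Fin n) F => (u : Matrix (Fin n) (Fin n) F)) h1
      simpa only [Units.val_mul] using h2.symm
  obtain ⟨k, ⟨φ⟩⟩ := cent_matrix_of_centre hn0 hNA.1 hM.1 hZ
  obtain ⟨m, θ₀, hθ₀⟩ := factor_alg hn0 φ
  -- the factor algebras
  let θ : Fin t → (Matrix (Fin m) (Fin m) F →ₐ[F] Matrix (Fin n) (Fin n) F) := fun i => cjHom (g i) θ₀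
  have hθmem : ∀ i a, θ i a ∈ dcomm (X i) := by
    intro i a
    rw [(hXg i).2, asgd2tasm_dcomm_conj, ← hθ₀]
    refine ⟨a, ?_⟩
    show θ₀ a = _
    rw [show θ i a = (g i : Matrix (Fin n) (Fin n) F) * θ₀ a *
      (((g i)⁻¹ : GL (Fin n) F) : Matrix (Fin n) (Fin n) F) from rfl]
    simp only [mul_assoc, Units.inv_mul, mul_one, Units.inv_mul_cancel_left]
  have hθrange : ∀ i Y, Y ∈ dcomm (X i) → ∃ a, Y = θ i a := by
    intro i Y hY
    rw [(hXg i).2, asgd2tasm_dcomm_conj, ← hθ₀] at hY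
    obtain ⟨a, ha⟩ := hY
    refine ⟨a, ?_⟩
    show Y = (g i : Matrix (Fin n) (Fin n) F) * θ₀ a * (((g i)⁻¹ : GL (Fin n) F) : Matrix (Fin n) (Fin n) F)
    have ha' : θ₀ a = (((g i)⁻¹ : GL (Fin n) F) : Matrix (Fin n) (Fin n) F) * Y *
        (g i : Matrix (Fin n) (Fin n) F) := ha
    rw [ha']
    simp only [mul_assoc, Units.mul_inv, mul_one, Units.mul_inv_cancel_left]
  have hXθ : ∀ i, ∀ x ∈ X i, ∃ a, (x : Matrix (Fin n) (Fin n) F) = θ i a := fun i x hx =>
    hθrange i _ (asgd2tasm_le_dcomm (X i) x hx)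
  have hdc : ∀ i j, i ≠ j → ∀ P ∈ dcomm (X i), ∀ Q ∈ dcomm (X j), P * Q = Q * P := by
    intro i j hij P hP Q hQ
    have hPc : P ∈ centAlg (X j) := by
      rw [asgd2tasm_mem_centAlg]
      intro b hb
      have hbc : (b : Matrix (Fin n) (Fin n) F) ∈ centAlg (X i) := by
        rw [asgd2tasm_mem_centAlg]
        intro a ha
        have h1 := hXcomm i j hij a ha b hb
        have h2 := congrArg (fun u : GL (Fin n) F => (u : Matrix (Fin n) (Fin n) F)) h1
        simpa only [Units.val_mul] using h2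
      exact (asgd2tasm_mem_dcomm (X i) P).mp hP _ hbc
    exact (asgd2tasm_mem_dcomm (X j) Q).mp hQ P hPc
  have hθcomm : ∀ i j, i ≠ j → ∀ a b, θ i a * θ j b = θ j b * θ i a := fun i j hij a b =>
    hdc i j hij _ (hθmem i a) _ (hθmem j b)
  have hθcent : ∀ Y : Matrix (Fin n) (Fin n) F, (∀ i a, Y * θ i a = θ i a * Y) →
      ∃ c : F, Y = c • (1 : Matrix (Fin n) (Fin n) F) := by
    intro Y hY
    apply asgd2tasm_scalar_of_comm hNA X hXsup Y
    intro i b hb
    obtain ⟨a, ha⟩ := hXθ i b hb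
    rw [ha]
    exact hY i a
  -- the tensor basis
  obtain ⟨Θ, hΘ⟩ := big_hom θ hθcomm
  obtain ⟨e, B, hB⟩ := tensor_basis hn0 Θ (fun Y hY => hθcent Y fun i a => by rw [← hΘ]; exact hY _)
  have hθB : ∀ i a, θ i a = (B : Matrix (Fin n) (Fin n) F) *
      Matrix.reindex e.symm e.symm (ptMat (Pi.mulSingle i a)) *
      ((B⁻¹ : GL (Fin n) F) : Matrix (Fin n) (Fin n) F) := fun i a => by rw [← hΘ, hB]
  -- `H` lies in the tensor-wreath group
  have hle : H ≤ tensorWreathSubgroup m t e B := by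
    intro h hh
    obtain ⟨π, hπ⟩ := hXperm h hh
    apply asgd2ttnorm_core (fun u π' hu => wreath_std ht0 u π' hu) e B h π
    intro i a
    rw [← hθB]
    have h1 : (h : Matrix (Fin n) (Fin n) F) * θ i a * ((h⁻¹ : GL (Fin n) F) : Matrix (Fin n) (Fin n) F) ∈
        dcomm (X (π i)) := by
      rw [← hπ i, asgd2tasm_dcomm_conj]
      have e1 : ((h⁻¹ : GL (Fin n) F) : Matrix (Fin n) (Fin n) F) *
          ((h : Matrix (Fin n) (Fin n) F) * θ i a * ((h⁻¹ : GL (Fin n) F) : Matrix (Fin n) (Fin n) F)) *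
          (h : Matrix (Fin n) (Fin n) F) = θ i a := by
        simp only [mul_assoc, Units.inv_mul, mul_one, Units.inv_mul_cancel_left]
      rw [e1]
      exact hθmem i a
    obtain ⟨a', ha'⟩ := hθrange (π i) _ h1
    exact ⟨a', by rw [ha', hθB]⟩
  -- the factors have dimension at least 2
  have hm2 : 2 ≤ m := by
    by_contra hlt
    have hm1 : m ≤ 1 := by omega
    apply hM.2.1
    intro x hx
    have hx' : x ∈ X i₀ := by rw [hi₀]; exact hx
    obtain ⟨a, ha⟩ := hXθ i₀ x hx'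
    obtain ⟨r, hr⟩ := asgd2tasm_small_scalar hm1 a
    have hxr : (x : Matrix (Fin n) (Fin n) F) = r • (1 : Matrix (Fin n) (Fin n) F) := by
      rw [ha, hr, map_smul, map_one]
    have hr0 : r ≠ 0 := by
      rintro rfl
      rw [zero_smul] at hxr
      have h1 : (1 : Matrix (Fin n) (Fin n) F) = 0 := by
        have := x.inv_mul
        rw [hxr, mul_zero] at this
        exact this.symm
      have : Nontrivial (Matrix (Fin n) (Fin n) F) := by
        have : Nonempty (Fin n) := ⟨⟨0, hn0⟩⟩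
        infer_instance
      exact one_ne_zero h1
    rw [mem_scalars_iff]
    exact ⟨Units.mk0 r hr0, hxr⟩
  rcases Nat.lt_or_ge m 3 with hm3 | hm3
  swap
  · exact inClass_of_wreath e B hm3 ht2 hle
  -- factors of dimension 2 : a fixed form
  have hm : m = 2 := by omega
  subst hm
  have hθinj : ∀ i, Function.Injective (θ i) := by
    intro i a b hab
    rw [hθB, hθB] at hab
    have h1 : Matrix.reindex e.symm e.symm (ptMat (Pi.mulSingle i a) : Matrix (Fin t → Fin 2) (Fin t → Fin 2) F) =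
        Matrix.reindex e.symm e.symm (ptMat (Pi.mulSingle i b)) := by
      have h2 := congrArg (fun T => ((B⁻¹ : GL (Fin n) F) : Matrix (Fin n) (Fin n) F) * T *
        (B : Matrix (Fin n) (Fin n) F)) hab
      simpa only [mul_assoc, Units.inv_mul_cancel_left, Units.inv_mul, mul_one] using h2
    exact ptMat_single_injective i a b ((Matrix.reindex e.symm e.symm).injective h1)
  have hXSL : ∀ i, X i ≤ asgd2tasmSL (θ i) := fun i =>
    asgd2tasm_perfect_le_SL (θ i) (hθinj i) (X i) (hXperf i) (hXθ i)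
  have hforms := forms_dichotomy hn hN.1 hNA
  rcases hforms with h | ⟨hq, hs, -⟩
  · exact h
  exfalso
  rcases two_forms ht0 e B with ⟨f, hf, hfix⟩ | ⟨Q, hQ, hfix⟩
  · apply hs
    refine ⟨f, hf, ?_⟩
    have hle' : N ≤ asgd2tasmIso f := by
      rw [← hXsup]
      refine iSup_le fun i x hx => ?_
      obtain ⟨a, ha, hxa⟩ := hXSL i hx
      intro u v
      rw [hxa, hθB]
      exact hfix i a ha u v
    rintro _ ⟨x, hx, rfl⟩ u v
    exact hle' hx u v
  · apply hq
    refine ⟨Q, hQ, ?_⟩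
    have hle' : N ≤ asgd2tasmQIso Q := by
      rw [← hXsup]
      refine iSup_le fun i x hx => ?_
      obtain ⟨a, ha, hxa⟩ := hXSL i hx
      intro v
      rw [hxa, hθB]
      exact hfix i a ha v
    rintro _ ⟨x, hx, rfl⟩ v
    exact hle' hx v

/-- D2T -/
theorem perfect_case (hn : 3 ≤ n) {H N : Subgroup (GL (Fin n) F)} (hH : Irr H) (hD : AllNormalAbsIrr H)
    (hN : MinNonscalar N H) (hperf : ⁅N, N⁆ = N) :
    InClass H ∨ (IsSimpleGroup (N ⧸ (scalars (Fin n) F).subgroupOf N) ∧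
      ¬ IsMulCommutative (N ⧸ (scalars (Fin n) F).subgroupOf N)) := by
  obtain ⟨M, hM⟩ := exists_minNonscalar N hN.2.1
  by_cases hMN : M = N
  · right
    rw [hMN] at hM
    exact simple_of_min hN.2.1 hperf hM
  · left
    exact asgd2tasm_tensor hn hH hD hN hperf hM hMN

end Cfsg.Agent.Lib.Helper19.ASG
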