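import Mathlib
import Cfsg.Prelude.Def_Classical
import Cfsg.Prelude.Def_GeometricClasses
import Cfsg.Agent.Lib.Helper19.O9U.Defs
import Cfsg.Agent.Lib.helper8.MEOO1
import Cfsg.Agent.Lib.Helper9.MEOO6
import Cfsg.Agent.Lib.Helper11.MEOO3

set_option autoImplicit false

/-!
# Project O9U (designer helper19), row G1 (helper9): the characteristic polynomial of an element of `Ω_{2d+1}(q)` satisfies
`χ.reverse = -χ`.
-/

namespace Cfsg.Agent.Lib.Helper19.O9U

open Polynomial Matrix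

/-- the (skew-)reciprocity of the characteristic polynomial of a matrix with `N B Nᵀ = B`, `det B ≠ 0`, `det N = 1` -/
theorem o9ug1_core {F : Type*} [Field F] {ι : Type} [Fintype ι] [DecidableEq ι]
    (N B : Matrix ι ι F) (hB : B.det ≠ 0) (hN : N * B * Nᵀ = B) (hdet : N.det = 1) :
    N.charpoly.reverse = (-1) ^ Fintype.card ι * N.charpoly := by
  rw [Matrix.reverse_charpoly]
  unfold Matrix.charpolyRev
  set P : Matrix ι ι F →+* Matrix ι ι F[X] := (C : F →+* F[X]).mapMatrix with hP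
  have hPmap : ∀ K : Matrix ι ι F, K.map C = P K := fun K => rfl
  have hrel : P N * P B * P Nᵀ = P B := by
    rw [← map_mul, ← map_mul, hN]
  have key : (1 - (X : F[X]) • P N) * (P B * P Nᵀ) = -(P B * charmatrix Nᵀ) := by
    have h1 : (1 - (X : F[X]) • P N) * (P B * P Nᵀ) =
        P B * P Nᵀ - (X : F[X]) • (P N * P B * P Nᵀ) := by
      rw [sub_mul, one_mul, Matrix.smul_mul, ← mul_assoc]
    rw [h1, hrel]
    unfold charmatrix
    rw [mul_sub, neg_sub]
    congr 1
    ext i j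
    simp [Matrix.mul_apply, Matrix.scalar_apply, Matrix.diagonal_apply, mul_comm]
  have hdetP : ∀ K : Matrix ι ι F, (P K).det = C K.det := by
    intro K
    exact (RingHom.map_det (C : F →+* F[X]) K).symm
  have h2 := congrArg Matrix.det key
  rw [Matrix.det_mul, Matrix.det_mul, Matrix.det_neg, Matrix.det_mul, hdetP, hdetP,
    Matrix.det_transpose, hdet, map_one, mul_one] at h2
  have hCB : (C B.det : F[X]) ≠ 0 := by
    rw [Ne, C_eq_zero]; exact hB
  have h4 : (1 - (X : F[X]) • P N).det = (-1) ^ Fintype.card ι * (charmatrix Nᵀ).det := by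
    apply mul_left_cancel₀ hCB
    rw [mul_comm, h2]
    ring
  rw [hPmap, h4]
  congr 1
  exact Matrix.charpoly_transpose N

/-- the same for `Mᵀ B M = B` -/
theorem o9ug1_core' {F : Type*} [Field F] {ι : Type} [Fintype ι] [DecidableEq ι]
    (M B : Matrix ι ι F) (hB : B.det ≠ 0) (hM : Mᵀ * B * M = B) (hdet : M.det = 1) :
    M.charpoly.reverse = (-1) ^ Fintype.card ι * M.charpoly := by
  have h := o9ug1_core Mᵀ B hB (by rw [Matrix.transpose_transpose]; exact hM)
    (by rw [Matrix.det_transpose]; exact hdet)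
  rw [Matrix.charpoly_transpose] at h
  exact h

/-- G1 [M] -/
theorem charpoly_reverse9 {F : Type*} [Field F] (h2 : (2 : F) ≠ 0) (d : ℕ)
    (x : GL (Unit ⊕ (Fin d ⊕ Fin d)) F) (hx : x ∈ Cfsg.Geo.omegaGL (Cfsg.quadFormOdd d F)) :
    (x : Matrix (Unit ⊕ (Fin d ⊕ Fin d)) (Unit ⊕ (Fin d ⊕ Fin d)) F).charpoly.reverse =
      -(x : Matrix (Unit ⊕ (Fin d ⊕ Fin d)) (Unit ⊕ (Fin d ⊕ Fin d)) F).charpoly := by
  unfold Cfsg.Geo.omegaGL at hx
  rw [Subgroup.mem_map] at hx
  obtain ⟨y, hy, rfl⟩ := hx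
  obtain ⟨B, hB, hpol⟩ := Cfsg.Agent.Lib.Helper1.MEO.polar_odd d F h2
  have hdet := Cfsg.Agent.Lib.Helper1.MEO.det_eq_one_of_mem_omega (Cfsg.quadFormOdd d F) y hy
  have hgram := Cfsg.Agent.Lib.Helper1.MEO.gram_of_isometry (Cfsg.quadFormOdd d F) B hpol
    (y : GL (Unit ⊕ (Fin d ⊕ Fin d)) F) y.2
  have h := o9ug1_core' _ B hB hgram hdet
  have hc : ((-1 : F[X]) ^ Fintype.card (Unit ⊕ (Fin d ⊕ Fin d))) = -1 := by
    rw [Fintype.card_sum, Fintype.card_sum, Fintype.card_fin, Fintype.card_unit, pow_add, pow_one,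
      ← two_mul, pow_mul]
    simp
  rw [hc] at h
  rw [show ((Cfsg.isometryGroup F (Cfsg.quadFormOdd d F)).subtype y : GL _ F) = (y : GL _ F) from rfl, h]
  ring

end Cfsg.Agent.Lib.Helper19.O9U
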