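import Mathlib
import Cfsg.Agent.Lib.Helper19.O9U.Defs
import Cfsg.Agent.Lib.Helper19.O9URASSOC

set_option autoImplicit false

/-!
# Project O9U (designer helper19), row PEELPM (helper9): peeling `(X - 1) ^ a (X + 1) ^ c` off a polynomial with `χ.reverse = -χ`.
-/

namespace Cfsg.Agent.Lib.Helper19.O9U

open Polynomial

/-- `reverse` commutes with powers over a domain -/
theorem o9upeelpm_reverse_pow {F : Type*} [Field F] (f : F[X]) (j : ℕ) :
    (f ^ j).reverse = f.reverse ^ j := by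
  induction j with
  | zero => rw [pow_zero, pow_zero, ← C_1, reverse_C]
  | succ j ih => rw [pow_succ, pow_succ, reverse_mul_of_domain, ih]

theorem o9upeelpm_reverse_X {F : Type*} [Field F] : (X : F[X]).reverse = 1 := by
  have h1 := reverse_mul_X (1 : F[X])
  rw [one_mul] at h1
  rw [h1, ← C_1, reverse_C]

/-- `X + 1` is self-reciprocal -/
theorem o9upeelpm_reverse_X_add_one {F : Type*} [Field F] :
    (X + 1 : F[X]).reverse = X + 1 := by
  have h : (X + 1 : F[X]) = X + C 1 := by rw [map_one]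
  rw [h, reverse_add_C, o9upeelpm_reverse_X, natDegree_X, pow_one, C_1, one_mul, add_comm]

/-- `(X - 1).reverse = -(X - 1)` -/
theorem o9upeelpm_reverse_X_sub_one {F : Type*} [Field F] :
    (X - 1 : F[X]).reverse = -(X - 1) := by
  have h : (X - 1 : F[X]) = X + C (-1) := by rw [map_neg, map_one, sub_eq_add_neg]
  rw [h, reverse_add_C, o9upeelpm_reverse_X, natDegree_X, pow_one, map_neg, C_1]
  ring

/-- PEELPM [M] -/
theorem peel_pm {F : Type*} [Field F] (h2 : (2 : F) ≠ 0) (χ : F[X]) (hχ : χ ≠ 0) (hr : χ.reverse = -χ)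
    (hd : Odd χ.natDegree) :
    ∃ (a c : ℕ) (ρ : F[X]), χ = (X - 1) ^ a * ((X + 1) ^ c * ρ) ∧ Odd a ∧ Even c ∧ ρ.eval 1 ≠ 0 ∧
      ρ.eval (-1) ≠ 0 ∧ ρ.reverse = ρ ∧ Even ρ.natDegree := by
  obtain ⟨χ₁, h1, hnd1⟩ := exists_eq_pow_rootMultiplicity_mul_and_not_dvd χ hχ (1 : F)
  set a := rootMultiplicity (1 : F) χ with ha
  have hX1 : (X - C (1 : F) : F[X]) = X - 1 := by rw [map_one]
  rw [hX1] at h1 hnd1
  have hχ₁ : χ₁ ≠ 0 := by
    rintro rfl
    rw [mul_zero] at h1
    exact hχ h1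
  obtain ⟨ρ, h3, hnd2⟩ := exists_eq_pow_rootMultiplicity_mul_and_not_dvd χ₁ hχ₁ (-1 : F)
  set c := rootMultiplicity (-1 : F) χ₁ with hc
  have hX2 : (X - C (-1 : F) : F[X]) = X + 1 := by rw [map_neg, map_one, sub_neg_eq_add]
  rw [hX2] at h3 hnd2
  have hρm1 : ρ.eval (-1) ≠ 0 := by
    intro h0
    apply hnd2
    rw [← hX2]
    exact dvd_iff_isRoot.mpr h0
  have hρ1 : ρ.eval 1 ≠ 0 := by
    intro h0
    apply hnd1
    have : (X - C (1 : F)) ∣ ρ := dvd_iff_isRoot.mpr h0
    rw [hX1] at this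
    rw [h3]
    exact dvd_mul_of_dvd_right this _
  have hρ0 : ρ ≠ 0 := by
    rintro rfl
    exact hρ1 eval_zero
  have hA0 : ((X - 1 : F[X]) ^ a) ≠ 0 := pow_ne_zero _ (by rw [← hX1]; exact X_sub_C_ne_zero 1)
  have hC0 : ((X + 1 : F[X]) ^ c) ≠ 0 := pow_ne_zero _ (by rw [← hX2]; exact X_sub_C_ne_zero (-1))
  have hχe : χ = (X - 1) ^ a * ((X + 1) ^ c * ρ) := by rw [← h3]; exact h1
  -- the reverse
  have hrev : χ.reverse = (-1) ^ a * ((X - 1) ^ a * ((X + 1) ^ c * ρ.reverse)) := by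
    rw [hχe, reverse_mul_of_domain, reverse_mul_of_domain, o9upeelpm_reverse_pow,
      o9upeelpm_reverse_pow, o9upeelpm_reverse_X_sub_one, o9upeelpm_reverse_X_add_one, neg_pow]
    ring
  have hρr : (-1 : F[X]) ^ a * ρ.reverse = -ρ := by
    have h5 : (X - 1 : F[X]) ^ a * ((X + 1) ^ c * ((-1) ^ a * ρ.reverse)) =
        (X - 1) ^ a * ((X + 1) ^ c * (-ρ)) := by
      have : (X - 1 : F[X]) ^ a * ((X + 1) ^ c * ((-1) ^ a * ρ.reverse)) = χ.reverse := by
        rw [hrev]; ring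
      rw [this, hr]
      conv_lhs => rw [hχe]
      ring
    exact mul_left_cancel₀ hC0 (mul_left_cancel₀ hA0 h5)
  -- `a` is odd
  have haodd : Odd a := by
    by_contra hev
    rw [Nat.not_odd_iff_even] at hev
    rw [hev.neg_one_pow, one_mul] at hρr
    have := congrArg (eval 1) hρr
    rw [o9urassoc_eval_one, eval_neg] at this
    apply hρ1
    have h6 : (2 : F) * ρ.eval 1 = 0 := by linear_combination this
    rcases mul_eq_zero.1 h6 with h | h
    · exact absurd h h2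
    · exact h
  have hρrev : ρ.reverse = ρ := by
    rw [haodd.neg_one_pow] at hρr
    have : -ρ.reverse = -ρ := by rw [← hρr]; ring
    exact neg_injective this
  have hρev : Even ρ.natDegree := selfrec_even9 h2 ρ hρrev hρm1
  have hdeg : χ.natDegree = a + (c + ρ.natDegree) := by
    rw [hχe, natDegree_mul hA0 (mul_ne_zero hC0 hρ0), natDegree_mul hC0 hρ0, natDegree_pow,
      natDegree_pow]
    have e1 : (X - 1 : F[X]).natDegree = 1 := by rw [← hX1]; exact natDegree_X_sub_C 1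
    have e2 : (X + 1 : F[X]).natDegree = 1 := by rw [← hX2]; exact natDegree_X_sub_C (-1)
    rw [e1, e2, mul_one, mul_one]
  have hcev : Even c := by
    rw [hdeg] at hd
    rcases Nat.even_or_odd c with h | h
    · exact h
    · exfalso
      have h7 : Even (a + (c + ρ.natDegree)) := haodd.add_odd (h.add_even hρev)
      exact (Nat.not_even_iff_odd.2 hd) h7
  exact ⟨a, c, ρ, hχe, haodd, hcev, hρ1, hρm1, hρrev, hρev⟩

end Cfsg.Agent.Lib.Helper19.O9U
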