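import Mathlib
import Cfsg.Agent.Lib.helper3.S5953.Defs
import Cfsg.Agent.Lib.Lead.HermCount
import Cfsg.Agent.Lib.Helper20.S5953T1
import Cfsg.Agent.Lib.helper8.S5953T3
import Cfsg.Agent.Lib.Helper25.S5953T4
import Cfsg.Agent.Lib.Helper9.S5953T8
import Cfsg.Prelude.Def_LieClassical

/-!
# Project S5953, row T7 (helper9): split a non-degenerate invariant `U` off a non-degenerate invariant `N`
-/

set_option autoImplicit false

namespace Cfsg.Agent.Lib.helper3.S5953

open Polynomial Module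

/-- T7 [M] PEELND. -/
theorem peel_nd {F : Type*} [Field F] [Fintype F] {q n : ℕ} (hF : Fintype.card F = q ^ 2)
    {r : ℕ} (hr : 0 < r) {z : F} {x : Module.End F (Fin n → F)} (h : HCtx q r z x)
    (N U : Submodule F (Fin n → F)) (hN : HInv x N) (hNnd : HND q N) (hUN : U ≤ N)
    (hU : HInv x U) (hUnd : HND q U) :
    ∃ N' : Submodule F (Fin n → F), N' ≤ N ∧ HInv x N' ∧ HND q N' ∧ HOrth q U N' ∧ Disjoint U N' ∧
      finrank F N' + finrank F U = finrank F N := by
  have hq := Cfsg.Agent.Lib.Lead.two_le_q hF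
  have hdim := perp_dim hF N U hNnd hUN
  have hpinv := perp_inv hr h U hU
  have hdisj : Disjoint U (N ⊓ hperp q U) := by
    rw [Submodule.disjoint_def]
    intro v hvU hv
    exact hUnd v hvU (fun w hw => hv.2 w hw)
  have hsup : U ⊔ (N ⊓ hperp q U) = N := by
    apply Submodule.eq_of_le_of_finrank_eq (sup_le hUN inf_le_left)
    have h1 := Submodule.finrank_sup_add_finrank_inf_eq U (N ⊓ hperp q U)
    rw [disjoint_iff.mp hdisj, finrank_bot] at h1
    omega
  refine ⟨N ⊓ hperp q U, inf_le_left, ?_, ?_, ?_, hdisj, hdim⟩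
  · intro w hw
    exact ⟨hN w hw.1, hpinv w hw.2⟩
  · -- non-degenerate
    intro u hu hall
    apply hNnd u hu.1
    intro w hw
    rw [← hsup] at hw
    obtain ⟨a, ha, b, hb, rfl⟩ := Submodule.mem_sup.mp hw
    rw [s5953t8_add_right hF, hu.2 a ha, hall b hb, add_zero]
  · intro u hu w hw
    rw [hermI_conj hF w u, hw.2 u hu, zero_pow (by omega)]

end Cfsg.Agent.Lib.helper3.S5953
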