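import Mathlib

/-! O'Nan–Scott core, part 4: Scott's lemma on subdirect products of nonabelian simple groups. -/

namespace Cfsg.Agent.Lib.Helper9

open Subgroup

section Scott

variable {ι : Type*} {T : Type*} [Group T]

/-- restriction of the `i`-th projection to `D` -/
def scPr (D : Subgroup (ι → T)) (i : ι) : D →* T := (Pi.evalMonoidHom (fun _ => T) i).comp D.subtype

theorem scPr_apply (D : Subgroup (ι → T)) (i : ι) (d : D) : scPr D i d = (d : ι → T) i := rfl

/-- same kernel -/
def scRel (D : Subgroup (ι → T)) (i j : ι) : Prop := (scPr D i).ker = (scPr D j).ker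

theorem scRel_iff (D : Subgroup (ι → T)) (i j : ι) :
    scRel D i j ↔ ∀ d ∈ D, d i = 1 ↔ d j = 1 := by
  unfold scRel
  constructor
  · intro h d hd
    have h1 : (⟨d, hd⟩ : D) ∈ (scPr D i).ker ↔ (⟨d, hd⟩ : D) ∈ (scPr D j).ker := by rw [h]
    simpa [MonoidHom.mem_ker, scPr_apply] using h1
  · intro h
    ext ⟨d, hd⟩
    simpa [MonoidHom.mem_ker, scPr_apply] using h d hd

theorem scRel_refl (D : Subgroup (ι → T)) (i : ι) : scRel D i i := rfl

theorem scRel_symm {D : Subgroup (ι → T)} {i j : ι} (h : scRel D i j) : scRel D j i := h.symm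

theorem scRel_trans {D : Subgroup (ι → T)} {i j k : ι} (h : scRel D i j) (h' : scRel D j k) :
    scRel D i k := h.trans h'

variable (D : Subgroup (ι → T)) (hsurj : ∀ i t, ∃ d ∈ D, d i = t)

include hsurj in
theorem scPr_surjective (i : ι) : Function.Surjective (scPr D i) := by
  intro t
  obtain ⟨d, hd, hdt⟩ := hsurj i t
  exact ⟨⟨d, hd⟩, hdt⟩

/-- the transition isomorphism between related coordinates -/
noncomputable def scPhi {i j : ι} (h : scRel D i j) : T ≃* T :=
  (QuotientGroup.quotientKerEquivOfSurjective (scPr D i) (scPr_surjective D hsurj i)).symm.trans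
    ((QuotientGroup.quotientMulEquivOfEq h).trans
      (QuotientGroup.quotientKerEquivOfSurjective (scPr D j) (scPr_surjective D hsurj j)))

theorem scPhi_apply {i j : ι} (h : scRel D i j) {d : ι → T} (hd : d ∈ D) :
    scPhi D hsurj h (d i) = d j := by
  unfold scPhi
  have h1 : (QuotientGroup.quotientKerEquivOfSurjective (scPr D i)
      (scPr_surjective D hsurj i)).symm (d i) = QuotientGroup.mk (⟨d, hd⟩ : D) := by
    rw [MulEquiv.symm_apply_eq]
    rfl
  rw [MulEquiv.trans_apply, h1, MulEquiv.trans_apply]
  rfl

theorem scPhi_refl (i : ι) (t : T) : scPhi D hsurj (scRel_refl D i) t = t := by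
  obtain ⟨d, hd, rfl⟩ := hsurj i t
  exact scPhi_apply D hsurj _ hd

/-- elements of `D` vanishing on the coordinates in `J` -/
def scL (J : Finset ι) : Subgroup D where
  carrier := {d | ∀ j ∈ J, (d : ι → T) j = 1}
  one_mem' := fun j _ => rfl
  mul_mem' := by
    intro a b ha hb j hj
    have h1 := ha j hj
    have h2 := hb j hj
    simp only [Subgroup.coe_mul, Pi.mul_apply, h1, h2, mul_one]
  inv_mem' := by
    intro a ha j hj
    have h1 := ha j hj
    simp only [Subgroup.coe_inv, Pi.inv_apply, h1, inv_one]

theorem mem_scL {J : Finset ι} {d : D} : d ∈ scL D J ↔ ∀ j ∈ J, (d : ι → T) j = 1 := Iff.rfl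

instance scL_normal (J : Finset ι) : (scL D J).Normal := by
  refine ⟨fun d hd g => ?_⟩
  intro j hj
  have h1 := hd j hj
  simp only [Subgroup.coe_mul, Subgroup.coe_inv, Pi.mul_apply, Pi.inv_apply, h1, mul_one,
    mul_inv_cancel]

variable [IsSimpleGroup T] (hZ : ∀ x : T, (∀ t, x * t = t * x) → x = 1)

include hsurj hZ in
theorem scott_key [DecidableEq ι] (i : ι) (J : Finset ι) (hJ : ∀ j ∈ J, ¬ scRel D i j) :
    (scL D J).map (scPr D i) = ⊤ := by
  induction J using Finset.induction_on with
  | empty =>
    rw [eq_top_iff]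
    intro t _
    obtain ⟨d, hd, hdt⟩ := hsurj i t
    exact ⟨⟨d, hd⟩, fun j hj => absurd hj (Finset.notMem_empty j), hdt⟩
  | insert j₀ J hj₀ ih =>
    have ih' := ih (fun j hj => hJ j (Finset.mem_insert_of_mem hj))
    have hnr : ¬ scRel D i j₀ := hJ j₀ (Finset.mem_insert_self _ _)
    haveI hAn : ((scL D (insert j₀ J)).map (scPr D i)).Normal :=
      Subgroup.Normal.map (scL_normal D _) _ (scPr_surjective D hsurj i)
    rcases hAn.eq_bot_or_eq_top with hA | hA
    · exfalso
      apply hnr
      rw [scRel_iff]
      -- (a)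
      have ha : ∀ x ∈ D, x j₀ = 1 → x i = 1 := by
        intro x hx hxj
        apply hZ
        intro s
        have hs : s ∈ (scL D J).map (scPr D i) := by rw [ih']; trivial
        obtain ⟨l, hl, hls⟩ := hs
        let xx : D := ⟨x, hx⟩
        have hc : l * xx * l⁻¹ * xx⁻¹ ∈ scL D (insert j₀ J) := by
          intro j hj
          rw [Finset.mem_insert] at hj
          rcases hj with rfl | hj
          · simp only [Subgroup.coe_mul, Subgroup.coe_inv, Pi.mul_apply, Pi.inv_apply, xx, hxj]
            simp
          · have := hl j hj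
            simp only [Subgroup.coe_mul, Subgroup.coe_inv, Pi.mul_apply, Pi.inv_apply, this]
            simp
        have hc2 : scPr D i (l * xx * l⁻¹ * xx⁻¹) ∈ (scL D (insert j₀ J)).map (scPr D i) :=
          ⟨_, hc, rfl⟩
        rw [hA, Subgroup.mem_bot] at hc2
        rw [map_mul, map_mul, map_mul, map_inv, map_inv, hls] at hc2
        have hxx : scPr D i xx = x i := rfl
        rw [hxx] at hc2
        have : s * x i = x i * s := by
          have h3 : s * x i * s⁻¹ * (x i)⁻¹ * (x i * s) = x i * s := by rw [hc2, one_mul]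
          rw [← h3]; group
        exact this.symm
      -- (b)
      let L0 : Subgroup D := (scPr D i).ker
      haveI hBn : (L0.map (scPr D j₀)).Normal :=
        Subgroup.Normal.map (MonoidHom.normal_ker _) _ (scPr_surjective D hsurj j₀)
      intro d hd
      constructor
      · intro hdi
        rcases hBn.eq_bot_or_eq_top with hB | hB
        · have : scPr D j₀ ⟨d, hd⟩ ∈ L0.map (scPr D j₀) := ⟨⟨d, hd⟩, hdi, rfl⟩
          rw [hB, Subgroup.mem_bot] at this
          exact this
        · exfalso
          -- every element of D has trivial i-coordinate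
          have hall : ∀ e ∈ D, e i = 1 := by
            intro e he
            have : e j₀ ∈ L0.map (scPr D j₀) := by rw [hB]; trivial
            obtain ⟨y, hy, hyj⟩ := this
            have hyi : (y : ι → T) i = 1 := hy
            have h1 : (e * (y : ι → T)⁻¹) i = 1 := by
              apply ha _ (D.mul_mem he (D.inv_mem y.2))
              have : (y : ι → T) j₀ = e j₀ := hyj
              simp [this]
            simpa [hyi] using h1
          obtain ⟨t, ht⟩ := exists_ne (1 : T)
          obtain ⟨e, he, het⟩ := hsurj i t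
          exact ht (het ▸ hall e he)
      · exact ha d hd
    · exact hA

include hZ in
theorem scott_mem [Fintype ι] [DecidableEq ι] (g : ι → T)
    (hg : ∀ i j (h : scRel D i j), g j = scPhi D hsurj h (g i)) : g ∈ D := by
  classical
  have key : ∀ S : Finset ι, ∃ d ∈ D, ∀ j, ((∃ s ∈ S, scRel D s j) → d j = g j) ∧
      ((¬ ∃ s ∈ S, scRel D s j) → d j = 1) := by
    intro S
    induction S using Finset.induction_on with
    | empty =>
      refine ⟨1, D.one_mem, fun j => ⟨?_, fun _ => rfl⟩⟩
      rintro ⟨s, hs, _⟩
      exact absurd hs (Finset.notMem_empty s)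
    | insert i S hi ih =>
      obtain ⟨d, hd, hdj⟩ := ih
      by_cases hex : ∃ s ∈ S, scRel D s i
      · obtain ⟨s0, hs0, hs0i⟩ := hex
        refine ⟨d, hd, fun j => ?_⟩
        have hiff : (∃ s ∈ insert i S, scRel D s j) ↔ (∃ s ∈ S, scRel D s j) := by
          constructor
          · rintro ⟨s, hs, hsj⟩
            rw [Finset.mem_insert] at hs
            rcases hs with rfl | hs
            · exact ⟨s0, hs0, scRel_trans hs0i hsj⟩
            · exact ⟨s, hs, hsj⟩
          · rintro ⟨s, hs, hsj⟩
            exact ⟨s, Finset.mem_insert_of_mem hs, hsj⟩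
        rw [hiff]
        exact hdj j
      · -- the new class
        have hk := scott_key D hsurj hZ i (Finset.univ.filter (fun j => ¬ scRel D i j))
          (fun j hj => (Finset.mem_filter.1 hj).2)
        have hgi : g i ∈ (scL D (Finset.univ.filter (fun j => ¬ scRel D i j))).map (scPr D i) := by
          rw [hk]; trivial
        obtain ⟨di, hdi, hdii⟩ := hgi
        have hdii' : (di : ι → T) i = g i := hdii
        have h1 : ∀ j, scRel D i j → (di : ι → T) j = g j := by
          intro j hij
          rw [hg i j hij, ← hdii', scPhi_apply D hsurj hij di.2]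
        have h2 : ∀ j, ¬ scRel D i j → (di : ι → T) j = 1 := by
          intro j hij
          exact hdi j (Finset.mem_filter.2 ⟨Finset.mem_univ _, hij⟩)
        refine ⟨d * di, D.mul_mem hd di.2, fun j => ?_⟩
        by_cases hij : scRel D i j
        · have hno : ¬ ∃ s ∈ S, scRel D s j := by
            rintro ⟨s, hs, hsj⟩
            exact hex ⟨s, hs, scRel_trans hsj (scRel_symm hij)⟩
          refine ⟨fun _ => ?_, fun hn => ?_⟩
          · rw [Pi.mul_apply, (hdj j).2 hno, h1 j hij, one_mul]
          · exact absurd ⟨i, Finset.mem_insert_self _ _, hij⟩ hn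
        · have hiff : (∃ s ∈ insert i S, scRel D s j) ↔ (∃ s ∈ S, scRel D s j) := by
            constructor
            · rintro ⟨s, hs, hsj⟩
              rw [Finset.mem_insert] at hs
              rcases hs with rfl | hs
              · exact absurd hsj hij
              · exact ⟨s, hs, hsj⟩
            · rintro ⟨s, hs, hsj⟩
              exact ⟨s, Finset.mem_insert_of_mem hs, hsj⟩
          rw [hiff, Pi.mul_apply, h2 j hij, mul_one]
          exact hdj j
  obtain ⟨d, hd, hdj⟩ := key Finset.univ
  have : d = g := by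
    funext j
    exact (hdj j).1 ⟨j, Finset.mem_univ _, scRel_refl D j⟩
  rw [← this]; exact hd

include hsurj hZ in
theorem scott_main [Fintype ι] [DecidableEq ι] :
    ∃ (c : ι → ι) (τ : ι → T ≃* T), (∀ i, c (c i) = c i) ∧ (∀ i j, c i = c j ↔ scRel D i j) ∧
      (∀ i t, τ (c i) t = t) ∧ (∀ g : ι → T, g ∈ D ↔ ∀ i, g i = τ i (g (c i))) := by
  classical
  let st : Setoid ι := ⟨scRel D, ⟨scRel_refl D, scRel_symm, scRel_trans⟩⟩
  let c : ι → ι := fun i => (Quotient.mk st i).out
  have hc1 : ∀ i, scRel D (c i) i := fun i => Quotient.mk_out (s := st) i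
  have hc2 : ∀ i j, c i = c j ↔ scRel D i j := by
    intro i j
    constructor
    · intro h
      have h1 := hc1 i
      have h2 := hc1 j
      rw [h] at h1
      exact scRel_trans (scRel_symm h1) h2
    · intro h
      have : Quotient.mk st i = Quotient.mk st j := Quotient.sound h
      simp only [c, this]
  have hc3 : ∀ i, c (c i) = c i := fun i => (hc2 _ _).2 (hc1 i)
  refine ⟨c, fun i => scPhi D hsurj (hc1 i), hc3, hc2, ?_, ?_⟩
  · intro i t
    obtain ⟨d, hd, hdt⟩ := hsurj (c (c i)) t
    rw [← hdt, scPhi_apply D hsurj _ hd]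
    rw [hc3]
  · intro g
    constructor
    · intro hg i
      exact (scPhi_apply D hsurj (hc1 i) hg).symm
    · intro hg
      apply scott_mem D hsurj hZ
      intro i j h
      have hcij : c i = c j := (hc2 i j).2 h
      obtain ⟨d, hd, hdt⟩ := hsurj (c j) (g (c j))
      have hdi : d (c i) = g (c i) := by rw [hcij]; exact hdt
      have e1 : g i = d i := by
        rw [hg i, ← hdi, scPhi_apply D hsurj _ hd]
      have e2 : g j = d j := by
        rw [hg j, ← hdt, scPhi_apply D hsurj _ hd]
      rw [e1, e2, scPhi_apply D hsurj h hd]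

end Scott

end Cfsg.Agent.Lib.Helper9
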