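import Mathlib

/-! O'Nan–Scott core, part 1: minimal `N`-invariant subgroups of a minimal normal subgroup. -/

namespace Cfsg.Agent.Lib.Helper9

open Subgroup

variable {G : Type*} [Group G]

/-- `T` is contained in `N` and normalised by `N`. -/
def OsInv (N T : Subgroup G) : Prop :=
  T ≤ N ∧ ∀ n ∈ N, ∀ t ∈ T, n * t * n⁻¹ ∈ T

/-- the conjugate subgroup `g T g⁻¹` -/
def osConj (g : G) (T : Subgroup G) : Subgroup G := T.map (MulAut.conj g).toMonoidHom

theorem mem_osConj {g x : G} {T : Subgroup G} : x ∈ osConj g T ↔ g⁻¹ * x * g ∈ T := by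
  unfold osConj
  constructor
  · rintro ⟨t, ht, rfl⟩
    simpa [mul_assoc] using ht
  · intro h
    exact ⟨g⁻¹ * x * g, h, by simp [mul_assoc]⟩

theorem osConj_one (T : Subgroup G) : osConj 1 T = T := by
  ext x; simp [mem_osConj]

theorem osConj_mul (g h : G) (T : Subgroup G) : osConj (g * h) T = osConj g (osConj h T) := by
  ext x; simp [mem_osConj, mul_assoc]

theorem osConj_mono {g : G} {A B : Subgroup G} (h : A ≤ B) : osConj g A ≤ osConj g B := by
  intro x hx; rw [mem_osConj] at hx ⊢; exact h hx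

theorem osConj_eq_bot {g : G} {T : Subgroup G} : osConj g T = ⊥ ↔ T = ⊥ := by
  unfold osConj
  exact (Subgroup.map_eq_bot_iff_of_injective _ (MulAut.conj g).injective)

theorem osConj_inv_le {g : G} {A B : Subgroup G} (h : A ≤ osConj g B) : osConj g⁻¹ A ≤ B := by
  intro x hx
  rw [mem_osConj] at hx
  have := h hx
  rw [mem_osConj] at this
  simpa [mul_assoc] using this

theorem osConj_normal {g : G} {N : Subgroup G} [N.Normal] : osConj g N = N := by
  ext x
  rw [mem_osConj]
  constructor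
  · intro h
    have := ‹N.Normal›.conj_mem _ h g
    simpa [mul_assoc] using this
  · intro h
    have := ‹N.Normal›.conj_mem _ h g⁻¹
    simpa [mul_assoc] using this

theorem osInv_conj {N T : Subgroup G} [N.Normal] (g : G) (h : OsInv N T) :
    OsInv N (osConj g T) := by
  refine ⟨?_, ?_⟩
  · have h0 : osConj g T ≤ osConj g N := osConj_mono (g := g) h.1
    rwa [osConj_normal (N := N)] at h0
  · intro n hn t ht
    rw [mem_osConj] at ht ⊢
    have h1 : g⁻¹ * n * g ∈ N := by
      have := ‹N.Normal›.conj_mem _ hn g⁻¹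
      simpa [mul_assoc] using this
    have := h.2 _ h1 _ ht
    convert this using 1
    group

theorem osInv_inf {N A B : Subgroup G} (hA : OsInv N A) (hB : OsInv N B) : OsInv N (A ⊓ B) :=
  ⟨inf_le_left.trans hA.1, fun n hn t ht => ⟨hA.2 n hn t ht.1, hB.2 n hn t ht.2⟩⟩

/-- minimal nontrivial `N`-invariant subgroup -/
def OsMin (N T : Subgroup G) : Prop :=
  T ≠ ⊥ ∧ OsInv N T ∧ ∀ A : Subgroup G, A ≠ ⊥ → OsInv N A → A ≤ T → A = T

theorem exists_osMin [Finite G] (N : Subgroup G) (hN : N ≠ ⊥) : ∃ T, OsMin N T := by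
  have hex : ∃ A : Subgroup G, A ≠ ⊥ ∧ OsInv N A :=
    ⟨N, hN, le_refl _, fun n hn t ht => N.mul_mem (N.mul_mem hn ht) (N.inv_mem hn)⟩
  obtain ⟨T, hT⟩ := exists_minimal_of_wellFoundedLT (fun A : Subgroup G => A ≠ ⊥ ∧ OsInv N A) hex
  refine ⟨T, hT.1.1, hT.1.2, fun A hA hAi hle => ?_⟩
  exact le_antisymm hle (hT.2 ⟨hA, hAi⟩ hle)

theorem osMin_conj {N T : Subgroup G} [N.Normal] (g : G) (h : OsMin N T) :
    OsMin N (osConj g T) := by
  refine ⟨fun hb => h.1 (osConj_eq_bot.1 hb), osInv_conj g h.2.1, fun A hA hAi hle => ?_⟩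
  have h1 : osConj g⁻¹ A = T := by
    refine h.2.2 _ (fun hb => hA (osConj_eq_bot.1 hb)) (osInv_conj g⁻¹ hAi) (osConj_inv_le hle)
  rw [← h1, ← osConj_mul]; simp [osConj_one]

theorem osMin_eq_or_disjoint {N A B : Subgroup G} (hA : OsMin N A) (hB : OsMin N B) :
    A = B ∨ A ⊓ B = ⊥ := by
  by_cases h : A ⊓ B = ⊥
  · exact Or.inr h
  · left
    have h1 := hA.2.2 _ h (osInv_inf hA.2.1 hB.2.1) inf_le_left
    have h2 := hB.2.2 _ h (osInv_inf hA.2.1 hB.2.1) inf_le_right
    rw [← h1, h2]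

theorem osMin_commute {N A B : Subgroup G} (hA : OsMin N A) (hB : OsMin N B) (hne : A ≠ B)
    {a b : G} (ha : a ∈ A) (hb : b ∈ B) : Commute a b := by
  have hd : A ⊓ B = ⊥ := (osMin_eq_or_disjoint hA hB).resolve_left hne
  have h1 : a * b * a⁻¹ * b⁻¹ ∈ A ⊓ B := by
    refine ⟨?_, ?_⟩
    · have : b * a⁻¹ * b⁻¹ ∈ A := hA.2.1.2 b (hB.2.1.1 hb) _ (A.inv_mem ha)
      have h3 := A.mul_mem ha this
      have h4 : a * b * a⁻¹ * b⁻¹ = a * (b * a⁻¹ * b⁻¹) := by group
      rw [h4]; exact h3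
    · have : a * b * a⁻¹ ∈ B := hB.2.1.2 a (hA.2.1.1 ha) _ hb
      exact B.mul_mem this (B.inv_mem hb)
  rw [hd, Subgroup.mem_bot] at h1
  have : a * b = b * a := by
    have h2 : a * b * a⁻¹ * b⁻¹ * (b * a) = b * a := by rw [h1, one_mul]
    rw [← h2]; group
  exact this

/-- The conjugates of a minimal invariant subgroup generate `N`. -/
theorem osMin_iSup_conj {N T : Subgroup G} [N.Normal]
    (hmin : ∀ M : Subgroup G, M.Normal → M ≤ N → M = ⊥ ∨ M = N) (h : OsMin N T) :
    (⨆ g : G, osConj g T) = N := by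
  apply le_antisymm
  · refine iSup_le fun g => ?_
    exact (osMin_conj g h).2.1.1
  · have hn : (Subgroup.normalClosure (T : Set G)) = N := by
      rcases hmin _ Subgroup.normalClosure_normal
        (Subgroup.normalClosure_le_normal h.2.1.1) with h0 | h0
      · exfalso
        apply h.1
        rw [eq_bot_iff, ← h0]
        exact Subgroup.le_normalClosure
      · exact h0
    rw [← hn, Subgroup.normalClosure, Subgroup.closure_le]
    rintro x hx
    rw [Group.mem_conjugatesOfSet_iff] at hx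
    obtain ⟨t, ht, hc⟩ := hx
    rw [isConj_iff] at hc
    obtain ⟨c, rfl⟩ := hc
    have : c * t * c⁻¹ ∈ osConj c T := by
      rw [mem_osConj]; simpa [mul_assoc] using ht
    exact (le_iSup (fun g : G => osConj g T) c) this

end Cfsg.Agent.Lib.Helper9
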