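import Mathlib
import Cfsg.Agent.Lib.Helper9.OS1

/-! O'Nan–Scott core, part 2: a minimal normal nonabelian subgroup is a direct product of
conjugates of a simple group; coordinates. -/

namespace Cfsg.Agent.Lib.Helper9

open Subgroup

variable {G : Type*} [Group G]

/-- all conjugates of `T` generate an abelian group if `T` is abelian and the distinct conjugates
commute -/
theorem os_nonabelian {N T : Subgroup G} [N.Normal]
    (hmin : ∀ M : Subgroup G, M.Normal → M ≤ N → M = ⊥ ∨ M = N) (h : OsMin N T)
    (hnab : ¬ IsMulCommutative N) : ∃ a ∈ T, ∃ b ∈ T, a * b ≠ b * a := by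
  by_contra hcon
  push Not at hcon
  apply hnab
  have hW := osMin_iSup_conj hmin h
  -- any two elements of conjugates commute
  have hc : ∀ g g' : G, ∀ x ∈ osConj g T, ∀ y ∈ osConj g' T, x * y = y * x := by
    intro g g' x hx y hy
    by_cases he : osConj g T = osConj g' T
    · rw [← he] at hy
      rw [mem_osConj] at hx hy
      have := hcon _ hx _ hy
      have h2 : g * (g⁻¹ * x * g * (g⁻¹ * y * g)) * g⁻¹ = g * (g⁻¹ * y * g * (g⁻¹ * x * g)) * g⁻¹ := by
        rw [this]
      simpa [mul_assoc] using h2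
    · exact osMin_commute (osMin_conj g h) (osMin_conj g' h) he hx hy
  have h1 : ∀ g : G, osConj g T ≤ Subgroup.centralizer (N : Set G) := by
    intro g x hx
    rw [Subgroup.mem_centralizer_iff]
    intro y hy
    have h2 : N ≤ Subgroup.centralizer ({x} : Set G) := by
      rw [← hW]
      refine iSup_le fun g' => ?_
      intro z hz
      rw [Subgroup.mem_centralizer_singleton_iff]
      exact hc g' g z hz x hx
    have := h2 hy
    rw [Subgroup.mem_centralizer_singleton_iff] at this
    exact this
  have h3 : N ≤ Subgroup.centralizer (N : Set G) := by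
    conv_lhs => rw [← hW]
    exact iSup_le h1
  refine ⟨⟨fun a b => ?_⟩⟩
  apply Subtype.ext
  have := h3 a.2
  rw [Subgroup.mem_centralizer_iff] at this
  exact (this b b.2).symm

/-- the centre of a nonabelian minimal invariant subgroup is trivial -/
theorem os_center_trivial {N T : Subgroup G} (h : OsMin N T)
    (hna : ∃ a ∈ T, ∃ b ∈ T, a * b ≠ b * a) {x : G} (hx : x ∈ T)
    (hc : ∀ t ∈ T, x * t = t * x) : x = 1 := by
  let Z : Subgroup G := T ⊓ Subgroup.centralizer (T : Set G)
  have hZinv : OsInv N Z := by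
    refine ⟨inf_le_left.trans h.2.1.1, ?_⟩
    intro n hn t ht
    have ht1 := (Subgroup.mem_inf.1 ht).1
    have ht2 := (Subgroup.mem_inf.1 ht).2
    refine Subgroup.mem_inf.2 ⟨h.2.1.2 n hn t ht1, ?_⟩
    rw [Subgroup.mem_centralizer_iff]
    intro s hs
    have hs' : n⁻¹ * s * n ∈ T := by
      have := h.2.1.2 n⁻¹ (N.inv_mem hn) s hs
      simpa using this
    have h2 := ht2
    rw [Subgroup.mem_centralizer_iff] at h2
    have h3 := h2 _ hs'
    have : s * (n * t * n⁻¹) = n * ((n⁻¹ * s * n) * t) * n⁻¹ := by group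
    rw [this, h3]; group
  have hxZ : x ∈ Z := by
    refine Subgroup.mem_inf.2 ⟨hx, ?_⟩
    rw [Subgroup.mem_centralizer_iff]
    intro t ht; exact (hc t ht).symm
  by_cases hZ : Z = ⊥
  · rw [hZ, Subgroup.mem_bot] at hxZ; exact hxZ
  · exfalso
    have hZT : Z = T := h.2.2 Z hZ hZinv inf_le_left
    obtain ⟨a, ha, b, hb, hab⟩ := hna
    apply hab
    have : a ∈ Z := hZT ▸ ha
    have h2 := (Subgroup.mem_inf.1 this).2
    rw [Subgroup.mem_centralizer_iff] at h2
    exact (h2 b hb).symm

/-- A minimal invariant nonabelian subgroup is simple. -/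
theorem os_simple {N T : Subgroup G} [N.Normal]
    (hmin : ∀ M : Subgroup G, M.Normal → M ≤ N → M = ⊥ ∨ M = N) (h : OsMin N T)
    (hna : ∃ a ∈ T, ∃ b ∈ T, a * b ≠ b * a) : IsSimpleGroup T := by
  have hW := osMin_iSup_conj hmin h
  haveI : Nontrivial T := by
    obtain ⟨a, ha, b, hb, hab⟩ := hna
    refine ⟨⟨⟨a, ha⟩, 1, ?_⟩⟩
    intro h1
    apply hab
    have : a = 1 := congrArg Subtype.val h1
    rw [this]; simp
  refine ⟨fun A hA => ?_⟩
  let A' : Subgroup G := A.map T.subtype
  have hA'T : A' ≤ T := by
    rintro x ⟨a, _, rfl⟩; exact a.2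
  have hinv : OsInv N A' := by
    refine ⟨hA'T.trans h.2.1.1, ?_⟩
    have hle : N ≤ Subgroup.normalizer (A' : Set G) := by
      rw [← hW]
      refine iSup_le fun g => ?_
      by_cases he : osConj g T = T
      · rw [he]
        intro t ht
        rw [Subgroup.mem_normalizer_iff]
        intro x
        constructor
        · rintro ⟨a, ha, rfl⟩
          refine ⟨⟨t, ht⟩ * a * ⟨t, ht⟩⁻¹, hA.conj_mem a ha _, by simp⟩
        · rintro ⟨a, ha, hax⟩
          refine ⟨⟨t, ht⟩⁻¹ * a * ⟨t, ht⟩, ?_, ?_⟩
          · have := hA.conj_mem a ha ⟨t, ht⟩⁻¹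
            simpa using this
          · have h5 : T.subtype (⟨t, ht⟩⁻¹ * a * ⟨t, ht⟩) = t⁻¹ * (T.subtype a) * t := by simp
            rw [h5, hax]; group
      · intro s hs
        rw [Subgroup.mem_normalizer_iff]
        intro x
        have hcomm : ∀ y ∈ A', s * y * s⁻¹ = y := by
          intro y hy
          have := osMin_commute (osMin_conj g h) h he hs (hA'T hy)
          rw [this.eq]; group
        constructor
        · intro hx; rw [hcomm x hx]; exact hx
        · intro hx
          have hc2 := osMin_commute (osMin_conj g h) h he hs (hA'T hx)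
          have e : s * (s * x * s⁻¹) = (s * x * s⁻¹) * s := hc2.eq
          have e3 : s * x * s⁻¹ = x := by
            have e4 : s * (s * x * s⁻¹) = s * x := by rw [e]; group
            exact mul_left_cancel e4
          rw [← e3]; exact hx
    intro n hn t ht
    have := hle hn
    rw [Subgroup.mem_normalizer_iff] at this
    exact (this t).1 ht
  by_cases hb : A' = ⊥
  · left
    rw [eq_bot_iff]
    intro a ha
    have : T.subtype a ∈ A' := ⟨a, ha, rfl⟩
    rw [hb, Subgroup.mem_bot] at this
    rw [Subgroup.mem_bot]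
    exact Subtype.ext this
  · right
    have hAT : A' = T := h.2.2 A' hb hinv hA'T
    rw [eq_top_iff]
    intro t _
    have hh : (t : G) ∈ A' := by rw [hAT]; exact t.2
    obtain ⟨a, ha, hat⟩ := hh
    have : a = t := Subtype.ext hat
    rwa [← this]

end Cfsg.Agent.Lib.Helper9
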