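import Mathlib
import Cfsg.Agent.Lib.Helper9.OS2

/-! O'Nan–Scott core, part 3: frames and coordinates. -/

namespace Cfsg.Agent.Lib.Helper9

open Subgroup

variable {G : Type*} [Group G]

/-- A frame for a minimal normal nonabelian subgroup `N`: a simple subgroup `T` and elements
`h i` such that the `h i T (h i)⁻¹` are exactly the distinct conjugates of `T`. -/
structure OsFrame (N : Subgroup G) where
  T : Subgroup G
  m : ℕ
  h : Fin m → G
  min : OsMin N T
  na : ∃ a ∈ T, ∃ b ∈ T, a * b ≠ b * a
  inj : Function.Injective (fun i => osConj (h i) T)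
  surj : ∀ g, ∃ i, osConj g T = osConj (h i) T
  sup : (⨆ i, osConj (h i) T) = N

theorem exists_osFrame [Finite G] (N : Subgroup G) [N.Normal] (hN : N ≠ ⊥)
    (hmin : ∀ M : Subgroup G, M.Normal → M ≤ N → M = ⊥ ∨ M = N)
    (hnab : ¬ IsMulCommutative N) : Nonempty (OsFrame N) := by
  obtain ⟨T, hT⟩ := exists_osMin N hN
  have hna := os_nonabelian hmin hT hnab
  let C : Set (Subgroup G) := Set.range (fun g => osConj g T)
  let b : C ≃ Fin (Nat.card C) := Finite.equivFin C
  have hex : ∀ i : Fin (Nat.card C), ∃ g, osConj g T = (b.symm i).1 := fun i => (b.symm i).2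
  let h : Fin (Nat.card C) → G := fun i => Classical.choose (hex i)
  have hh : ∀ i, osConj (h i) T = (b.symm i).1 := fun i => Classical.choose_spec (hex i)
  have hsurj : ∀ g, ∃ i, osConj g T = osConj (h i) T := by
    intro g
    refine ⟨b ⟨osConj g T, ⟨g, rfl⟩⟩, ?_⟩
    rw [hh, Equiv.symm_apply_apply]
  refine ⟨⟨T, Nat.card C, h, hT, hna, ?_, hsurj, ?_⟩⟩
  · intro i j hij
    simp only [hh] at hij
    have := Subtype.ext hij
    exact b.symm.injective this
  · rw [← osMin_iSup_conj hmin hT]
    apply le_antisymm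
    · exact iSup_le fun i => le_iSup (fun g => osConj g T) (h i)
    · refine iSup_le fun g => ?_
      obtain ⟨i, hi⟩ := hsurj g
      rw [hi]
      exact le_iSup (fun i => osConj (h i) T) i

namespace OsFrame

variable {N : Subgroup G} (F : OsFrame N)

/-- the `i`-th factor -/
def fac (i : Fin F.m) : Subgroup G := osConj (F.h i) F.T

theorem fac_min [N.Normal] (i : Fin F.m) : OsMin N (F.fac i) := osMin_conj _ F.min

theorem fac_le [N.Normal] (i : Fin F.m) : F.fac i ≤ N := (F.fac_min i).2.1.1

theorem fac_commute [N.Normal] {i j : Fin F.m} (hij : i ≠ j) {a b : G} (ha : a ∈ F.fac i)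
    (hb : b ∈ F.fac j) : Commute a b :=
  osMin_commute (F.fac_min i) (F.fac_min j) (fun h => hij (F.inj h)) ha hb

/-- the embedding of `T` onto the `i`-th factor -/
def cj (i : Fin F.m) : F.T →* G := (MulAut.conj (F.h i)).toMonoidHom.comp F.T.subtype

theorem cj_apply (i : Fin F.m) (t : F.T) : F.cj i t = F.h i * t * (F.h i)⁻¹ := by
  simp [cj]

theorem cj_injective (i : Fin F.m) : Function.Injective (F.cj i) := by
  intro a b hab
  rw [cj_apply, cj_apply] at hab
  have : (a : G) = b := by
    have h1 := mul_left_cancel (mul_right_cancel hab)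
    exact h1
  exact Subtype.ext this

theorem cj_range (i : Fin F.m) : (F.cj i).range = F.fac i := by
  ext x
  rw [fac, mem_osConj]
  constructor
  · rintro ⟨t, rfl⟩
    rw [cj_apply]
    have : (F.h i)⁻¹ * (F.h i * ↑t * (F.h i)⁻¹) * F.h i = t := by group
    rw [this]; exact t.2
  · intro hx
    refine ⟨⟨_, hx⟩, ?_⟩
    rw [cj_apply]; simp [mul_assoc]

theorem cj_mem (i : Fin F.m) (t : F.T) : F.cj i t ∈ F.fac i := by
  rw [← cj_range]; exact ⟨t, rfl⟩

theorem cj_comm [N.Normal] : Pairwise fun i j => ∀ x y, Commute (F.cj i x) (F.cj j y) := by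
  intro i j hij x y
  exact F.fac_commute hij (F.cj_mem i x) (F.cj_mem j y)

/-- the coordinate map `T^m → G` -/
noncomputable def psi [N.Normal] : (Fin F.m → F.T) →* G :=
  MonoidHom.noncommPiCoprod F.cj F.cj_comm

theorem psi_mulSingle [N.Normal] (i : Fin F.m) (t : F.T) :
    F.psi (Pi.mulSingle i t) = F.cj i t := by
  unfold psi
  exact MonoidHom.noncommPiCoprod_mulSingle F.cj i t

theorem psi_range [N.Normal] : F.psi.range = N := by
  unfold psi
  rw [MonoidHom.noncommPiCoprod_range]
  simp only [cj_range]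
  exact F.sup

/-- an element of a factor centralising it is trivial -/
theorem fac_center [N.Normal] (i : Fin F.m) {x : G} (hx : x ∈ F.fac i)
    (hc : ∀ t ∈ F.fac i, x * t = t * x) : x = 1 := by
  refine os_center_trivial (F.fac_min i) ?_ hx hc
  obtain ⟨a, ha, b, hb, hab⟩ := F.na
  refine ⟨F.cj i ⟨a, ha⟩, F.cj_mem i _, F.cj i ⟨b, hb⟩, F.cj_mem i _, ?_⟩
  intro h
  apply hab
  rw [← map_mul, ← map_mul] at h
  have := F.cj_injective i h
  exact congrArg Subtype.val this

theorem indep [N.Normal] : iSupIndep fun i => (F.cj i).range := by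
  intro i
  rw [disjoint_iff_inf_le]
  rintro x ⟨hx1, hx2⟩
  rw [Subgroup.mem_bot]
  simp only [cj_range] at hx1 hx2
  have hx1' : x ∈ F.fac i := hx1
  refine F.fac_center i hx1' ?_
  intro t ht
  have hle : (⨆ j, ⨆ (_ : j ≠ i), F.fac j) ≤ Subgroup.centralizer ({t} : Set G) := by
    refine iSup_le fun j => iSup_le fun hj => ?_
    intro y hy
    rw [Subgroup.mem_centralizer_singleton_iff]
    exact (F.fac_commute hj hy ht).eq
  have := hle hx2
  rw [Subgroup.mem_centralizer_singleton_iff] at this
  exact this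

theorem psi_injective [N.Normal] : Function.Injective F.psi := by
  unfold psi
  exact MonoidHom.injective_noncommPiCoprod_of_iSupIndep F.cj F.indep F.cj_injective

theorem psi_mem [N.Normal] (f : Fin F.m → F.T) : F.psi f ∈ N := by
  have h1 := F.psi_range
  have h2 : F.psi f ∈ F.psi.range := ⟨f, rfl⟩
  rwa [h1] at h2

theorem psi_cod_bij [N.Normal] : Function.Bijective (F.psi.codRestrict N F.psi_mem) := by
  refine ⟨fun a b hab => F.psi_injective (congrArg Subtype.val hab), fun n => ?_⟩
  have h1 := F.psi_range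
  have h2 : (n : G) ∈ F.psi.range := by rw [h1]; exact n.2
  obtain ⟨f, hf⟩ := h2
  exact ⟨f, Subtype.ext hf⟩

/-- coordinates on `N` -/
noncomputable def coord [N.Normal] : N ≃* (Fin F.m → F.T) :=
  (MulEquiv.ofBijective (F.psi.codRestrict N F.psi_mem) F.psi_cod_bij).symm

theorem psi_coord [N.Normal] (n : N) : F.psi (F.coord n) = n := by
  have := (MulEquiv.ofBijective (F.psi.codRestrict N F.psi_mem) F.psi_cod_bij).apply_symm_apply n
  exact congrArg Subtype.val this

theorem coord_psi [N.Normal] (f : Fin F.m → F.T) : F.coord ⟨F.psi f, F.psi_mem f⟩ = f := by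
  apply F.psi_injective
  rw [psi_coord]

theorem m_pos [N.Normal] (hN : N ≠ ⊥) : 0 < F.m := by
  by_contra h
  have h0 : F.m = 0 := by omega
  apply hN
  rw [← F.sup, eq_bot_iff]
  refine iSup_le fun i => ?_
  exact absurd i.2 (by omega)

end OsFrame

end Cfsg.Agent.Lib.Helper9
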