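import Mathlib
import Cfsg.Agent.Lib.Helper9.OS3

/-! O'Nan–Scott core, part 5: the conjugation action in coordinates. -/

namespace Cfsg.Agent.Lib.Helper9

open Subgroup

variable {G : Type*} [Group G]

/-- conjugation by an element normalising `T`, as an endomorphism of `T` -/
def osAut (T : Subgroup G) (u : G) (hu : osConj u T = T) : T →* T where
  toFun t := ⟨u * t * u⁻¹, by
    have : u * ↑t * u⁻¹ ∈ osConj u T := by
      rw [mem_osConj]
      have e : u⁻¹ * (u * ↑t * u⁻¹) * u = t := by group
      rw [e]; exact t.2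
    rwa [hu] at this⟩
  map_one' := by ext; simp
  map_mul' a b := by ext; simp [mul_assoc]

theorem osAut_apply (T : Subgroup G) (u : G) (hu : osConj u T = T) (t : T) :
    (osAut T u hu t : G) = u * t * u⁻¹ := rfl

theorem osAut_injective (T : Subgroup G) (u : G) (hu : osConj u T = T) :
    Function.Injective (osAut T u hu) := by
  intro a b hab
  have := congrArg Subtype.val hab
  rw [osAut_apply, osAut_apply] at this
  exact Subtype.ext (mul_left_cancel (mul_right_cancel this))

theorem osAut_surjective (T : Subgroup G) (u : G) (hu : osConj u T = T) :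
    Function.Surjective (osAut T u hu) := by
  intro s
  have h1 : (s : G) ∈ osConj u T := by rw [hu]; exact s.2
  rw [mem_osConj] at h1
  refine ⟨⟨_, h1⟩, ?_⟩
  apply Subtype.ext
  rw [osAut_apply]
  group

namespace OsFrame

variable {N : Subgroup G} (F : OsFrame N)

/-- the permutation of the factors induced by `g` -/
noncomputable def sg (g : G) (i : Fin F.m) : Fin F.m := Classical.choose (F.surj (g * F.h i))

theorem sg_spec (g : G) (i : Fin F.m) :
    osConj (g * F.h i) F.T = osConj (F.h (F.sg g i)) F.T :=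
  Classical.choose_spec (F.surj (g * F.h i))

theorem fac_sg (g : G) (i : Fin F.m) : F.fac (F.sg g i) = osConj g (F.fac i) := by
  unfold fac
  rw [← F.sg_spec, osConj_mul]

theorem sg_injective (g : G) : Function.Injective (F.sg g) := by
  intro i j hij
  apply F.inj
  have h1 := F.fac_sg g i
  have h2 := F.fac_sg g j
  rw [hij, h2] at h1
  -- osConj g (fac j) = osConj g (fac i)
  have h3 : osConj g⁻¹ (osConj g (F.fac j)) = osConj g⁻¹ (osConj g (F.fac i)) := by rw [h1]
  rw [← osConj_mul, ← osConj_mul] at h3
  simp only [inv_mul_cancel, osConj_one] at h3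
  exact h3.symm

/-- the permutation as an `Equiv` -/
noncomputable def sgE (g : G) : Fin F.m ≃ Fin F.m :=
  Equiv.ofBijective (F.sg g) ⟨F.sg_injective g, Finite.injective_iff_surjective.1 (F.sg_injective g)⟩

theorem sgE_apply (g : G) (i : Fin F.m) : F.sgE g i = F.sg g i := rfl

/-- the normalising element -/
noncomputable def uu (g : G) (i : Fin F.m) : G := (F.h (F.sg g i))⁻¹ * g * F.h i

theorem uu_norm (g : G) (i : Fin F.m) : osConj (F.uu g i) F.T = F.T := by
  unfold uu
  rw [mul_assoc, osConj_mul, F.sg_spec, ← osConj_mul]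
  simp [osConj_one]

/-- the twisting endomorphisms -/
noncomputable def al (g : G) (i : Fin F.m) : F.T →* F.T := osAut F.T (F.uu g i) (F.uu_norm g i)

theorem al_injective (g : G) (i : Fin F.m) : Function.Injective (F.al g i) :=
  osAut_injective _ _ _

theorem al_surjective (g : G) (i : Fin F.m) : Function.Surjective (F.al g i) :=
  osAut_surjective _ _ _

theorem cj_al (g : G) (i : Fin F.m) (t : F.T) :
    F.cj (F.sg g i) (F.al g i t) = g * F.cj i t * g⁻¹ := by
  rw [cj_apply, cj_apply]
  unfold al
  rw [osAut_apply]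
  unfold uu
  group

/-- the action on coordinates -/
noncomputable def gam (g : G) : (Fin F.m → F.T) →* (Fin F.m → F.T) :=
  MonoidHom.pi (fun j => (F.al g ((F.sgE g).symm j)).comp
    (Pi.evalMonoidHom (fun _ => F.T) ((F.sgE g).symm j)))

theorem gam_apply (g : G) (f : Fin F.m → F.T) (j : Fin F.m) :
    F.gam g f j = F.al g ((F.sgE g).symm j) (f ((F.sgE g).symm j)) := rfl

theorem gam_sg (g : G) (f : Fin F.m → F.T) (i : Fin F.m) :
    F.gam g f (F.sg g i) = F.al g i (f i) := by
  rw [gam_apply]
  have : (F.sgE g).symm (F.sg g i) = i := by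
    rw [← sgE_apply, Equiv.symm_apply_apply]
  rw [this]

theorem gam_mulSingle (g : G) (i : Fin F.m) (t : F.T) :
    F.gam g (Pi.mulSingle i t) = Pi.mulSingle (F.sg g i) (F.al g i t) := by
  funext j
  rw [gam_apply]
  by_cases hj : j = F.sg g i
  · subst hj
    have : (F.sgE g).symm (F.sg g i) = i := by
      rw [← sgE_apply, Equiv.symm_apply_apply]
    rw [this]
    simp
  · have hne : (F.sgE g).symm j ≠ i := by
      intro h
      apply hj
      rw [← h, ← sgE_apply, Equiv.apply_symm_apply]
    rw [Pi.mulSingle_eq_of_ne hne, Pi.mulSingle_eq_of_ne hj, map_one]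

theorem psi_gam [N.Normal] (g : G) (f : Fin F.m → F.T) :
    F.psi (F.gam g f) = g * F.psi f * g⁻¹ := by
  have h : F.psi.comp (F.gam g) = (MulAut.conj g).toMonoidHom.comp F.psi := by
    apply MonoidHom.pi_ext
    intro i t
    simp only [MonoidHom.comp_apply]
    rw [gam_mulSingle, psi_mulSingle, psi_mulSingle, cj_al]
    simp
  have := DFunLike.congr_fun h f
  simpa using this

/-- conjugation on `N` in coordinates -/
theorem coord_conj [N.Normal] (g : G) (n : N) (hn : g * (n : G) * g⁻¹ ∈ N) :
    F.coord ⟨g * n * g⁻¹, hn⟩ = F.gam g (F.coord n) := by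
  apply F.psi_injective
  rw [psi_coord, psi_gam, psi_coord]

theorem coord_conj_sg [N.Normal] (g : G) (n : N) (hn : g * (n : G) * g⁻¹ ∈ N) (i : Fin F.m) :
    F.coord ⟨g * n * g⁻¹, hn⟩ (F.sg g i) = F.al g i (F.coord n i) := by
  rw [coord_conj, gam_sg]

end OsFrame

end Cfsg.Agent.Lib.Helper9
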