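import Mathlib
import Cfsg.Agent.Lib.Helper9.OS4
import Cfsg.Agent.Lib.Helper9.OS5

/-! O'Nan–Scott core, part 6: the point stabiliser in coordinates, case A. -/

namespace Cfsg.Agent.Lib.Helper9

open Subgroup

variable {G : Type*} [Group G]

theorem os_exists_mul {N : Subgroup G} [N.Normal] (K : Subgroup G) (hK : IsCoatom K)
    (hNK : ¬ N ≤ K) (g : G) : ∃ k ∈ K, ∃ n ∈ N, k * n = g := by
  have h1 : K ⊔ N = ⊤ := by
    apply hK.2
    refine lt_of_le_of_ne le_sup_left ?_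
    intro h
    apply hNK
    have h2 : N ≤ K ⊔ N := le_sup_right
    rw [← h] at h2
    exact h2
  have : g ∈ K ⊔ N := by rw [h1]; trivial
  exact Subgroup.mem_sup_of_normal_right.1 this

namespace OsFrame

variable {N : Subgroup G} [N.Normal] (F : OsFrame N) (K : Subgroup G)

theorem osConj_fac_of_mem (i : Fin F.m) {n : G} (hn : n ∈ N) : osConj n (F.fac i) = F.fac i := by
  have hinv := (F.fac_min i).2.1.2
  ext x
  rw [mem_osConj]
  constructor
  · intro hx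
    have := hinv n hn _ hx
    have e : n * (n⁻¹ * x * n) * n⁻¹ = x := by group
    rwa [e] at this
  · intro hx
    have := hinv n⁻¹ (N.inv_mem hn) _ hx
    simpa using this

/-- `K` is transitive on the factors -/
theorem sg_trans (hK : IsCoatom K) (hNK : ¬ N ≤ K) (i j : Fin F.m) : ∃ k ∈ K, F.sg k i = j := by
  obtain ⟨k, hk, n, hn, hkn⟩ := os_exists_mul K hK hNK (F.h j * (F.h i)⁻¹)
  refine ⟨k, hk, ?_⟩
  apply F.inj
  change F.fac (F.sg k i) = F.fac j
  rw [fac_sg]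
  have h1 : osConj (k * n) (F.fac i) = F.fac j := by
    rw [hkn]
    unfold fac
    rw [← osConj_mul]
    congr 1
    group
  rw [osConj_mul, F.osConj_fac_of_mem i hn] at h1
  exact h1

/-- the image of `K ⊓ N` in coordinates -/
noncomputable def Dp : Subgroup (Fin F.m → F.T) := (K.comap F.psi)

theorem mem_Dp {f : Fin F.m → F.T} : f ∈ F.Dp K ↔ F.psi f ∈ K := Iff.rfl

theorem coord_mem_Dp (n : N) : F.coord n ∈ F.Dp K ↔ (n : G) ∈ K := by
  rw [mem_Dp, psi_coord]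

theorem gam_mem_Dp {k : G} (hk : k ∈ K) {f : Fin F.m → F.T} (hf : f ∈ F.Dp K) :
    F.gam k f ∈ F.Dp K := by
  rw [mem_Dp] at hf ⊢
  rw [psi_gam]
  exact K.mul_mem (K.mul_mem hk hf) (K.inv_mem hk)

/-- the projections of `Dp` -/
noncomputable def Rr (i : Fin F.m) : Subgroup F.T :=
  (F.Dp K).map (Pi.evalMonoidHom (fun _ => F.T) i)

theorem mem_Rr {i : Fin F.m} {t : F.T} : t ∈ F.Rr K i ↔ ∃ f ∈ F.Dp K, f i = t := by
  unfold Rr
  rw [Subgroup.mem_map]
  rfl

theorem al_mem_Rr {k : G} (hk : k ∈ K) {i : Fin F.m} {t : F.T} (ht : t ∈ F.Rr K i) :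
    F.al k i t ∈ F.Rr K (F.sg k i) := by
  rw [mem_Rr] at ht ⊢
  obtain ⟨f, hf, rfl⟩ := ht
  exact ⟨F.gam k f, F.gam_mem_Dp K hk hf, F.gam_sg k f i⟩

theorem Rr_top_sg {k : G} (hk : k ∈ K) {i : Fin F.m} (h : F.Rr K i = ⊤) :
    F.Rr K (F.sg k i) = ⊤ := by
  rw [eq_top_iff]
  intro t _
  obtain ⟨s, rfl⟩ := F.al_surjective k i t
  apply F.al_mem_Rr K hk
  rw [h]; trivial

theorem Rr_top_all (hK : IsCoatom K) (hNK : ¬ N ≤ K) {i : Fin F.m} (h : F.Rr K i = ⊤)
    (j : Fin F.m) : F.Rr K j = ⊤ := by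
  obtain ⟨k, hk, rfl⟩ := F.sg_trans K hK hNK i j
  exact F.Rr_top_sg K hk h

/-- the product of the projections, inside `G` -/
noncomputable def Rp : Subgroup G := (Subgroup.pi Set.univ (F.Rr K)).map F.psi

theorem mem_Rp {x : G} : x ∈ F.Rp K ↔ ∃ f : Fin F.m → F.T, (∀ i, f i ∈ F.Rr K i) ∧ F.psi f = x := by
  unfold Rp
  rw [Subgroup.mem_map]
  constructor
  · rintro ⟨f, hf, rfl⟩
    exact ⟨f, fun i => hf i (Set.mem_univ i), rfl⟩
  · rintro ⟨f, hf, rfl⟩
    exact ⟨f, fun i _ => hf i, rfl⟩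

theorem Rp_le : F.Rp K ≤ N := by
  intro x hx
  rw [mem_Rp] at hx
  obtain ⟨f, _, rfl⟩ := hx
  exact F.psi_mem f

theorem inf_le_Rp : K ⊓ N ≤ F.Rp K := by
  intro x hx
  rw [mem_Rp]
  refine ⟨F.coord ⟨x, hx.2⟩, fun i => ?_, F.psi_coord _⟩
  rw [mem_Rr]
  exact ⟨F.coord ⟨x, hx.2⟩, (F.coord_mem_Dp K _).2 hx.1, rfl⟩

theorem Rp_conj {k : G} (hk : k ∈ K) {x : G} (hx : x ∈ F.Rp K) : k * x * k⁻¹ ∈ F.Rp K := by
  rw [mem_Rp] at hx ⊢
  obtain ⟨f, hf, rfl⟩ := hx
  refine ⟨F.gam k f, fun j => ?_, F.psi_gam k f⟩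
  have hj : F.sg k ((F.sgE k).symm j) = j := by
    rw [← sgE_apply, Equiv.apply_symm_apply]
  rw [gam_apply]
  have := F.al_mem_Rr K hk (hf ((F.sgE k).symm j))
  rwa [hj] at this

/-- every element of `K ⊔ Rp` is a product -/
theorem sup_Rp_mul {x : G} (hx : x ∈ K ⊔ F.Rp K) : ∃ k ∈ K, ∃ r ∈ F.Rp K, k * r = x := by
  rw [sup_eq_closure] at hx
  refine closure_induction ?_ ?_ ?_ ?_ hx
  · rintro x (hx | hx)
    · exact ⟨x, hx, 1, (F.Rp K).one_mem, by simp⟩
    · exact ⟨1, K.one_mem, x, hx, by simp⟩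
  · exact ⟨1, K.one_mem, 1, (F.Rp K).one_mem, by simp⟩
  · rintro _ _ _ _ ⟨y₁, hy₁, z₁, hz₁, rfl⟩ ⟨y₂, hy₂, z₂, hz₂, rfl⟩
    refine ⟨y₁ * y₂, K.mul_mem hy₁ hy₂, (y₂⁻¹ * z₁ * y₂) * z₂, (F.Rp K).mul_mem ?_ hz₂, by
      simp [mul_assoc]⟩
    have := F.Rp_conj K (K.inv_mem hy₂) hz₁
    simpa using this
  · rintro _ _ ⟨y, hy, z, hz, rfl⟩
    exact ⟨y⁻¹, K.inv_mem hy, y * z⁻¹ * y⁻¹, F.Rp_conj K hy ((F.Rp K).inv_mem hz), by
      simp [mul_assoc]⟩

set_option maxHeartbeats 800000 in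
/-- Case A: if the projections are proper, `K ⊓ N` is their product. -/
theorem caseA (hK : IsCoatom K) (hNK : ¬ N ≤ K) (hR : ∀ i, F.Rr K i ≠ ⊤) (n : N) :
    (n : G) ∈ K ↔ ∀ i, F.coord n i ∈ F.Rr K i := by
  constructor
  · intro hn i
    rw [mem_Rr]
    exact ⟨F.coord n, (F.coord_mem_Dp K n).2 hn, rfl⟩
  · intro hn
    have hle : F.Rp K ≤ K := by
      by_contra hcon
      have h1 : K ⊔ F.Rp K = ⊤ := by
        apply hK.2
        refine lt_of_le_of_ne le_sup_left ?_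
        intro h
        apply hcon
        have h2 : F.Rp K ≤ K ⊔ F.Rp K := le_sup_right
        rw [← h] at h2
        exact h2
      -- then N ≤ Rp
      have h2 : N ≤ F.Rp K := by
        intro x hx
        have hx' : x ∈ K ⊔ F.Rp K := by rw [h1]; trivial
        obtain ⟨k, hk, r, hr, hkr⟩ := F.sup_Rp_mul K hx'
        have hkN : k ∈ N := by
          have e1 : k = x * r⁻¹ := by rw [← hkr, mul_assoc, mul_inv_cancel, mul_one]
          rw [e1]
          exact N.mul_mem hx (N.inv_mem (F.Rp_le K hr))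
        have hkR : k ∈ F.Rp K := F.inf_le_Rp K ⟨hk, hkN⟩
        rw [← hkr]
        exact (F.Rp K).mul_mem hkR hr
      -- so all projections are everything
      obtain ⟨i0⟩ : Nonempty (Fin F.m) := by
        by_contra hne
        rw [not_nonempty_iff] at hne
        apply hNK
        intro x hx
        have hx1 : x = 1 := by
          have h5 : F.psi (F.coord ⟨x, hx⟩) = x := F.psi_coord ⟨x, hx⟩
          have h6 : F.coord ⟨x, hx⟩ = 1 := by
            funext i; exact (hne.false i).elim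
          rw [h6, map_one] at h5
          exact h5.symm
        rw [hx1]; exact K.one_mem
      apply hR i0
      rw [eq_top_iff]
      intro t _
      have h3 : F.psi (Pi.mulSingle i0 t) ∈ F.Rp K := h2 (F.psi_mem _)
      rw [mem_Rp] at h3
      obtain ⟨f, hf, hfe⟩ := h3
      have := F.psi_injective hfe
      have h4 := hf i0
      rw [this] at h4
      simpa using h4
    have : F.psi (F.coord n) ∈ F.Rp K := by
      rw [mem_Rp]
      exact ⟨F.coord n, hn, rfl⟩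
    rw [psi_coord] at this
    exact hle this

end OsFrame

end Cfsg.Agent.Lib.Helper9
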