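import Mathlib
import Cfsg.Agent.Lib.Helper9.OS6

/-! O'Nan–Scott core, part 7: case B and the dichotomy. -/

namespace Cfsg.Agent.Lib.Helper9

open Subgroup

variable {G : Type*} [Group G]

namespace OsFrame

variable {N : Subgroup G} [N.Normal] (F : OsFrame N) (K : Subgroup G)

theorem gam_gam_inv {k : G} (f : Fin F.m → F.T) : F.gam k (F.gam k⁻¹ f) = f := by
  apply F.psi_injective
  rw [psi_gam, psi_gam]
  group

theorem sg_inv_sg (k : G) (x : Fin F.m) : F.sg k⁻¹ (F.sg k x) = x := by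
  apply F.inj
  change F.fac (F.sg k⁻¹ (F.sg k x)) = F.fac x
  rw [fac_sg, fac_sg, ← osConj_mul]
  simp [osConj_one]

theorem scRel_sg {k : G} (hk : k ∈ K) {a b : Fin F.m} (h : scRel (F.Dp K) a b) :
    scRel (F.Dp K) (F.sg k a) (F.sg k b) := by
  rw [scRel_iff] at h ⊢
  intro d hd
  have hf : F.gam k⁻¹ d ∈ F.Dp K := F.gam_mem_Dp K (K.inv_mem hk) hd
  have hd' : d = F.gam k (F.gam k⁻¹ d) := (F.gam_gam_inv d).symm
  have e1 : ∀ x, d (F.sg k x) = 1 ↔ F.gam k⁻¹ d x = 1 := by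
    intro x
    conv_lhs => rw [hd', gam_sg]
    constructor
    · intro h1
      apply F.al_injective k x
      rw [h1, map_one]
    · intro h1
      rw [h1, map_one]
  rw [e1, e1]
  exact h _ hf

theorem scRel_sg_iff {k : G} (hk : k ∈ K) (a b : Fin F.m) :
    scRel (F.Dp K) a b ↔ scRel (F.Dp K) (F.sg k a) (F.sg k b) := by
  constructor
  · exact F.scRel_sg K hk
  · intro h
    have := F.scRel_sg K (K.inv_mem hk) h
    rwa [sg_inv_sg, sg_inv_sg] at this

set_option maxHeartbeats 800000 in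
/-- Case B: if the projections are onto, `K ⊓ N` is a product of diagonals. -/
theorem caseB [Finite G] (hmin : ∀ M : Subgroup G, M.Normal → M ≤ N → M = ⊥ ∨ M = N)
    (hK : IsCoatom K) (hNK : ¬ N ≤ K) (hR : ∀ i, F.Rr K i = ⊤) (i0 : Fin F.m) :
    ∃ (e : N ≃* (Fin F.m → F.T)) (k0 : ℕ) (c : Fin F.m → Fin F.m), 2 ≤ k0 ∧
      (∀ j, Nat.card {i // c i = j} = k0 ∨ Nat.card {i // c i = j} = 0) ∧
      ∀ n : N, (n : G) ∈ K ↔ ∀ i j, c i = c j → e n i = e n j := by
  haveI : IsSimpleGroup F.T := os_simple hmin F.min F.na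
  have hZ : ∀ x : F.T, (∀ t, x * t = t * x) → x = 1 := by
    intro x hx
    have := os_center_trivial F.min F.na x.2 (fun t ht => by
      have := hx ⟨t, ht⟩
      exact congrArg Subtype.val this)
    exact Subtype.ext this
  have hsurj : ∀ i t, ∃ d ∈ F.Dp K, d i = t := by
    intro i t
    have : t ∈ F.Rr K i := by rw [hR i]; trivial
    exact F.mem_Rr K |>.1 this
  obtain ⟨c, τ, hc3, hc2, hτ, hmem⟩ := scott_main (F.Dp K) hsurj hZ
  -- class sizes
  have hsize : ∀ i j : Fin F.m, Nat.card {x // c x = c i} = Nat.card {x // c x = c j} := by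
    intro i j
    obtain ⟨k, hk, hkj⟩ := F.sg_trans K hK hNK i j
    apply Nat.card_congr
    refine Equiv.subtypeEquiv (F.sgE k) ?_
    intro x
    rw [sgE_apply, hc2, hc2, ← hkj]
    exact F.scRel_sg_iff K hk x i
  have hτs : ∀ i t, (τ (c i)).symm t = t := by
    intro i t
    rw [MulEquiv.symm_apply_eq, hτ]
  refine ⟨F.coord.trans (MulEquiv.piCongrRight (fun i => (τ i).symm)),
    Nat.card {x // c x = c i0}, c, ?_, ?_, ?_⟩
  · -- 2 ≤ k0
    by_contra hlt
    have hpos : 0 < Nat.card {x // c x = c i0} := by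
      haveI : Nonempty {x // c x = c i0} := ⟨⟨i0, rfl⟩⟩
      exact Nat.card_pos
    have h1 : Nat.card {x // c x = c i0} = 1 := by omega
    have hci : ∀ i, c i = i := by
      intro i
      have h2 : Nat.card {x // c x = c i} = 1 := by rw [hsize i i0, h1]
      have h3 : Subsingleton {x // c x = c i} := (Nat.card_eq_one_iff_unique.1 h2).1
      have := h3.elim ⟨c i, hc3 i⟩ ⟨i, rfl⟩
      exact congrArg Subtype.val this
    apply hNK
    intro x hx
    have : F.coord ⟨x, hx⟩ ∈ F.Dp K := by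
      rw [hmem]
      intro i
      have := hτ i (F.coord ⟨x, hx⟩ (c i))
      rw [hci i] at this ⊢
      exact this.symm
    exact (F.coord_mem_Dp K ⟨x, hx⟩).1 this
  · intro j
    by_cases hj : c j = j
    · left
      rw [← hj]
      have : Nat.card {i // c i = c j} = Nat.card {x // c x = c i0} := hsize j i0
      rw [hj] at this ⊢
      exact this
    · right
      rw [Nat.card_eq_zero]
      left
      refine ⟨fun ⟨i, hi⟩ => hj ?_⟩
      rw [← hi, hc3]
  · intro n
    rw [← F.coord_mem_Dp K n, hmem]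
    have he : ∀ i, (F.coord.trans (MulEquiv.piCongrRight (fun i => (τ i).symm))) n i
        = (τ i).symm (F.coord n i) := fun i => rfl
    constructor
    · intro h i j hij
      rw [he, he, h i, h j, MulEquiv.symm_apply_apply, MulEquiv.symm_apply_apply, hij]
    · intro h i
      have h1 := h i (c i) (hc3 i).symm
      rw [he, he, hτs] at h1
      rw [← h1, MulEquiv.apply_symm_apply]

/-- the dichotomy, with `T` a subgroup -/
theorem dichotomy [Finite G] (hmin : ∀ M : Subgroup G, M.Normal → M ≤ N → M = ⊥ ∨ M = N)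
    (hN : N ≠ ⊥) (hK : IsCoatom K) (hNK : ¬ N ≤ K) :
    ∃ (e : N ≃* (Fin F.m → F.T)),
      (∃ R : Fin F.m → Subgroup F.T, (∀ i, R i ≠ ⊤) ∧ ∀ n : N, (n : G) ∈ K ↔ ∀ i, e n i ∈ R i) ∨
      (∃ (k0 : ℕ) (c : Fin F.m → Fin F.m), 2 ≤ k0 ∧
        (∀ j, Nat.card {i // c i = j} = k0 ∨ Nat.card {i // c i = j} = 0) ∧
        ∀ n : N, (n : G) ∈ K ↔ ∀ i j, c i = c j → e n i = e n j) := by
  have hm := F.m_pos hN
  by_cases hR : ∃ i, F.Rr K i = ⊤
  · obtain ⟨i, hi⟩ := hR
    have hall := F.Rr_top_all K hK hNK hi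
    obtain ⟨e, k0, c, h1, h2, h3⟩ := F.caseB K hmin hK hNK hall ⟨0, hm⟩
    exact ⟨e, Or.inr ⟨k0, c, h1, h2, h3⟩⟩
  · push Not at hR
    exact ⟨F.coord, Or.inl ⟨F.Rr K, hR, F.caseA K hK hNK hR⟩⟩

end OsFrame

end Cfsg.Agent.Lib.Helper9
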