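import Mathlib
import Cfsg.Agent.Lib.Helper9.OS7

/-! O'Nan–Scott core, part 8: transport to a small type. -/

namespace Cfsg.Agent.Lib.Helper9

open Subgroup

variable {G : Type*} [Group G]

/-- a copy of `Fin k` without algebraic structure -/
def OsT (k : ℕ) : Type := Fin k

theorem os_final [Finite G] (N : Subgroup G) [N.Normal] (hN : N ≠ ⊥)
    (hmin : ∀ M : Subgroup G, M.Normal → M ≤ N → M = ⊥ ∨ M = N)
    (hnab : ¬ IsMulCommutative N) (K : Subgroup G) (hK : IsCoatom K) (hNK : ¬ N ≤ K) :
    ∃ (T : Type) (_ : Group T) (m : ℕ) (e : N ≃* (Fin m → T)), IsSimpleGroup T ∧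
      ¬ IsMulCommutative T ∧ 0 < m ∧
      ((∃ R : Fin m → Subgroup T, (∀ i, R i ≠ ⊤) ∧ ∀ n : N, (n : G) ∈ K ↔ ∀ i, e n i ∈ R i) ∨
       (∃ (k : ℕ) (c : Fin m → Fin m), 2 ≤ k ∧
        (∀ j : Fin m, Nat.card {i : Fin m // c i = j} = k ∨ Nat.card {i : Fin m // c i = j} = 0) ∧
        ∀ n : N, (n : G) ∈ K ↔ ∀ i j : Fin m, c i = c j → e n i = e n j)) := by
  obtain ⟨F⟩ := exists_osFrame N hN hmin hnab
  haveI hsimp : IsSimpleGroup F.T := os_simple hmin F.min F.na
  obtain ⟨e0, hdich⟩ := F.dichotomy K hmin hN hK hNK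
  let q : OsT (Nat.card F.T) ≃ F.T := (Finite.equivFin F.T).symm
  letI inst : Group (OsT (Nat.card F.T)) := q.group
  let me : OsT (Nat.card F.T) ≃* F.T := q.mulEquiv
  let e : N ≃* (Fin F.m → OsT (Nat.card F.T)) :=
    e0.trans (MulEquiv.piCongrRight (fun _ => me.symm))
  have he : ∀ n i, e n i = me.symm (e0 n i) := fun n i => rfl
  refine ⟨OsT (Nat.card F.T), inst, F.m, e, ?_, ?_, F.m_pos hN, ?_⟩
  · exact me.isSimpleGroup
  · intro hcomm
    obtain ⟨a, ha, b, hb, hab⟩ := F.na
    apply hab
    have h1 := hcomm.is_comm.comm (me.symm ⟨a, ha⟩) (me.symm ⟨b, hb⟩)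
    rw [← map_mul, ← map_mul] at h1
    have h2 := me.symm.injective h1
    exact congrArg Subtype.val h2
  · rcases hdich with ⟨R, hR, hmem⟩ | ⟨k0, c, hk0, hc, hmem⟩
    · left
      refine ⟨fun i => (R i).map me.symm.toMonoidHom, fun i htop => hR i ?_, fun n => ?_⟩
      · rw [eq_top_iff]
        intro t _
        have htop' : (R i).map me.symm.toMonoidHom = ⊤ := htop
        have : me.symm t ∈ (R i).map me.symm.toMonoidHom := by rw [htop']; trivial
        obtain ⟨s, hs, hst⟩ := this
        have : s = t := me.symm.injective hst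
        rwa [← this]
      · rw [hmem]
        constructor
        · intro h i
          rw [he]
          exact ⟨_, h i, rfl⟩
        · intro h i
          have := h i
          rw [he] at this
          obtain ⟨s, hs, hst⟩ := this
          have : s = e0 n i := me.symm.injective hst
          rwa [← this]
    · right
      refine ⟨k0, c, hk0, hc, fun n => ?_⟩
      rw [hmem]
      constructor
      · intro h i j hij
        rw [he, he, h i j hij]
      · intro h i j hij
        have := h i j hij
        rw [he, he] at this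
        exact me.symm.injective this

end Cfsg.Agent.Lib.Helper9
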