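import Mathlib
import Cfsg.Agent.Lib.Helper18.OCT.Defs
import Cfsg.Agent.Lib.Helper29.OCGD1
import Cfsg.Agent.Lib.Helper29.OCGD2
import Cfsg.Agent.Lib.helper7.OCGD7
import Cfsg.Agent.Lib.helper15.OCGD0

/-!
# OCG rows D9 (`card_RGrp`) and D10 (`card_DZ`), helper9.  Verbatim statements of `Helper18/OCT/Skel.lean.txt`.
Neither needs D3: the determinant maps the generators of `DGrp δ` into the units of `2`-power order.
-/

set_option autoImplicit false

namespace Cfsg.Agent.Lib.Helper18.OCT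

open Cfsg.Lie Matrix
open scoped MatrixGroups

section D

variable {F : Type*} [Field F]

/-- the units of `2`-power order -/
def ocgd9_mu (F : Type*) [Field F] : Subgroup Fˣ where
  carrier := {t | ∃ k : ℕ, t ^ (2 ^ k) = 1}
  mul_mem' := by
    rintro a b ⟨k, hk⟩ ⟨l, hl⟩
    refine ⟨k + l, ?_⟩
    rw [mul_pow, pow_add, pow_mul, hk, one_pow, mul_comm (2 ^ k) (2 ^ l), pow_mul, hl, one_pow,
      one_mul]
  one_mem' := ⟨0, by simp⟩
  inv_mem' := by
    rintro a ⟨k, hk⟩
    exact ⟨k, by rw [inv_pow, hk, inv_one]⟩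

theorem ocgd9_mem_mu (t : Fˣ) : t ∈ ocgd9_mu F ↔ ∃ k : ℕ, t ^ (2 ^ k) = 1 := Iff.rfl

/-- `det` maps `DGrp δ` into the units of `2`-power order -/
theorem ocgd9_det_mem (δ : F) (g : GL (Fin 2) F) (hg : g ∈ DGrp δ) :
    Matrix.GeneralLinearGroup.det g ∈ ocgd9_mu F := by
  have h : DGrp δ ≤ (ocgd9_mu F).comap Matrix.GeneralLinearGroup.det := by
    unfold DGrp
    rw [Subgroup.closure_le]
    rintro x (hx | hx)
    · obtain ⟨k, hk⟩ := hx.2
      show Matrix.GeneralLinearGroup.det x ∈ ocgd9_mu F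
      refine ⟨k, ?_⟩
      rw [← map_pow, hk, map_one]
    · rw [Set.mem_singleton_iff] at hx
      subst hx
      show Matrix.GeneralLinearGroup.det (phiGL : GL (Fin 2) F) ∈ ocgd9_mu F
      refine ⟨1, ?_⟩
      rw [pow_one, sq, ← map_mul, ocgd2_phi_sq, map_one]
  exact h hg

theorem ocgd9_pow_kmat (h2 : (2 : F) ≠ 0) (t : F) (n : ℕ) :
    (kmat 1 ((t + 1) / 2) ((t - 1) / 2)) ^ n = kmat 1 ((t ^ n + 1) / 2) ((t ^ n - 1) / 2) := by
  induction n with
  | zero =>
    rw [pow_zero, pow_zero, ← ocgd1_kmat_one (1 : F)]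
    congr 1
    · field_simp
      ring
    · simp
  | succ n ih =>
    rw [pow_succ, ih, ocgd1_kmat_mul]
    congr 1
    · field_simp
      ring
    · field_simp
      ring

/-- `-1` a square: every unit of `2`-power order is the determinant of an element of `ASet 1` -/
theorem ocgd9_exists_sq (h2 : (2 : F) ≠ 0) (t : Fˣ) (ht : t ∈ ocgd9_mu F) :
    ∃ g ∈ ASet (1 : F), Matrix.GeneralLinearGroup.det g = t := by
  obtain ⟨k, hk⟩ := ht
  have hdet : (kmat (1 : F) (((t : F) + 1) / 2) (((t : F) - 1) / 2)).det = t := by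
    rw [ocgd1_kmat_det]
    field_simp
    ring
  have hne : (kmat (1 : F) (((t : F) + 1) / 2) (((t : F) - 1) / 2)).det ≠ 0 := by
    rw [hdet]
    exact t.ne_zero
  refine ⟨Matrix.GeneralLinearGroup.mkOfDetNeZero _ hne, ⟨⟨_, _, rfl⟩, k, ?_⟩, ?_⟩
  · apply Units.ext
    rw [Units.val_pow_eq_pow_val, Units.val_one]
    show (kmat (1 : F) (((t : F) + 1) / 2) (((t : F) - 1) / 2)) ^ (2 ^ k) = 1
    have e : (t : F) ^ (2 ^ k) = 1 := by
      rw [← Units.val_pow_eq_pow_val, hk, Units.val_one]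
    rw [ocgd9_pow_kmat h2, e, ← ocgd1_kmat_one (1 : F)]
    congr 1
    · field_simp
      ring
    · simp
  · apply Units.ext
    exact hdet

/-- `-1` not a square: the only elements of `2`-power order are `±1` -/
theorem ocgd9_pm_one (hns : ¬ IsSquare (-1 : F)) (k : ℕ) :
    ∀ t : F, t ^ (2 ^ k) = 1 → t = 1 ∨ t = -1 := by
  induction k with
  | zero =>
    intro t ht
    left
    simpa using ht
  | succ k ih =>
    intro t ht
    rw [pow_succ, mul_comm, pow_mul] at ht
    rcases ih (t ^ 2) ht with h | h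
    · rw [sq] at h
      exact mul_self_eq_one_iff.1 h
    · exfalso
      apply hns
      exact ⟨t, by rw [← h, sq]⟩

theorem ocgd9_exists (h2 : (2 : F) ≠ 0) (t : Fˣ) (ht : t ∈ ocgd9_mu F) :
    ∃ g ∈ DGrp (delta F), Matrix.GeneralLinearGroup.det g = t := by
  by_cases hs : IsSquare (-1 : F)
  · rw [ocgd0_pos hs]
    obtain ⟨g, hg, hdet⟩ := ocgd9_exists_sq h2 t ht
    exact ⟨g, Subgroup.subset_closure (Or.inl hg), hdet⟩
  · obtain ⟨k, hk⟩ := ht
    have e : (t : F) ^ (2 ^ k) = 1 := by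
      rw [← Units.val_pow_eq_pow_val, hk, Units.val_one]
    rcases ocgd9_pm_one hs k (t : F) e with h | h
    · refine ⟨1, Subgroup.one_mem _, ?_⟩
      rw [map_one]
      apply Units.ext
      rw [Units.val_one, h]
    · refine ⟨phiGL, Subgroup.subset_closure (Or.inr rfl), ?_⟩
      apply Units.ext
      rw [h]
      exact ocgd2_phi_det

theorem ocgd9_card_mu [Fintype F] {q : ℕ} (hq : Fintype.card F = q) :
    Nat.card (ocgd9_mu F) = 2 ^ (q - 1).factorization 2 := by
  have h := card_two_part (⊤ : Subgroup Fˣ) (fun g _ h _ => mul_comm g h)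
  rw [Subgroup.card_top, Nat.card_units, Nat.card_eq_fintype_card (α := F), hq] at h
  rw [← h]
  apply Nat.card_congr
  exact Equiv.subtypeEquivRight (fun t => ⟨fun ht => ⟨Subgroup.mem_top t, ht⟩, fun ht => ht.2⟩)

/-- D9 [M]. -/
theorem card_RGrp [Fintype F] {q : ℕ} (hq : Fintype.card F = q) (h2 : (2 : F) ≠ 0) :
    Nat.card (RGrp (delta F)) * 2 ^ (q - 1).factorization 2 = Nat.card (DGrp (delta F)) := by
  classical
  let f : ↥(DGrp (delta F)) →* Fˣ :=
    (Matrix.GeneralLinearGroup.det : GL (Fin 2) F →* Fˣ).comp (DGrp (delta F)).subtype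
  have hker : f.ker = (RGrp (delta F)).subgroupOf (DGrp (delta F)) := by
    unfold RGrp SLker
    rw [Subgroup.inf_subgroupOf_left]
    rfl
  have hrange : f.range = ocgd9_mu F := by
    apply le_antisymm
    · rintro _ ⟨g, rfl⟩
      exact ocgd9_det_mem (delta F) g.1 g.2
    · intro t ht
      obtain ⟨g, hg, hdet⟩ := ocgd9_exists h2 t ht
      exact ⟨⟨g, hg⟩, hdet⟩
  have h1 := Subgroup.card_mul_index f.ker
  rw [Subgroup.index_ker, hker, hrange, ocgd9_card_mu hq] at h1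
  have h3 : Nat.card ((RGrp (delta F)).subgroupOf (DGrp (delta F))) = Nat.card (RGrp (delta F)) :=
    Nat.card_congr (Subgroup.subgroupOfEquivOfLe (inf_le_left : RGrp (delta F) ≤ DGrp (delta F))).toEquiv
  rw [h3] at h1
  exact h1

theorem ocgd10_scalar_inj : Function.Injective (Matrix.GeneralLinearGroup.scalar (Fin 2) : Fˣ →* GL (Fin 2) F) := by
  intro a b hab
  have h := congrArg (fun g : GL (Fin 2) F => (g : Matrix (Fin 2) (Fin 2) F) 0 0) hab
  simp only [Matrix.GeneralLinearGroup.coe_scalar, Matrix.scalar_apply, Matrix.diagonal_apply_eq] at h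
  exact Units.ext h

theorem ocgd10_scalar_coe (δ : F) (t : Fˣ) :
    ((Matrix.GeneralLinearGroup.scalar (Fin 2) t : GL (Fin 2) F) : Matrix (Fin 2) (Fin 2) F) =
      kmat δ (t : F) 0 := by
  rw [Matrix.GeneralLinearGroup.coe_scalar]
  ext i j
  fin_cases i <;> fin_cases j <;> simp [kmat]

theorem ocgd10_scalar_det (t : Fˣ) :
    Matrix.GeneralLinearGroup.det (Matrix.GeneralLinearGroup.scalar (Fin 2) t : GL (Fin 2) F) = t ^ 2 := by
  apply Units.ext
  rw [Matrix.GeneralLinearGroup.val_det_apply, ocgd10_scalar_coe (0 : F), ocgd1_kmat_det, Units.val_pow_eq_pow_val]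
  ring

/-- D10 [M]. -/
theorem card_DZ [Fintype F] {q : ℕ} (hq : Fintype.card F = q) (h2 : (2 : F) ≠ 0) (δ : F) :
    Nat.card (DGrp δ ⊓ ZGrp F : Subgroup (GL (Fin 2) F)) = 2 ^ (q - 1).factorization 2 := by
  classical
  rw [← ocgd9_card_mu hq]
  symm
  have hmem : ∀ t : Fˣ, t ∈ ocgd9_mu F →
      Matrix.GeneralLinearGroup.scalar (Fin 2) t ∈ (DGrp δ ⊓ ZGrp F : Subgroup (GL (Fin 2) F)) := by
    intro t ht
    obtain ⟨k, hk⟩ := ht
    constructor
    · apply Subgroup.subset_closure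
      left
      refine ⟨⟨(t : F), 0, ocgd10_scalar_coe δ t⟩, k, ?_⟩
      rw [← map_pow, hk, map_one]
    · show _ ∈ Subgroup.center (GL (Fin 2) F)
      rw [Matrix.GeneralLinearGroup.center_eq_range_scalar]
      exact ⟨t, rfl⟩
  apply Nat.card_congr
  refine Equiv.ofBijective (fun t => ⟨Matrix.GeneralLinearGroup.scalar (Fin 2) t.1, hmem t.1 t.2⟩) ⟨?_, ?_⟩
  · intro a b hab
    apply Subtype.ext
    apply ocgd10_scalar_inj
    exact congrArg Subtype.val hab
  · rintro ⟨g, hgD, hgZ⟩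
    have hgZ' : g ∈ Subgroup.center (GL (Fin 2) F) := hgZ
    rw [Matrix.GeneralLinearGroup.center_eq_range_scalar] at hgZ'
    obtain ⟨t, rfl⟩ := hgZ'
    have hdet := ocgd9_det_mem δ _ hgD
    rw [ocgd10_scalar_det] at hdet
    obtain ⟨k, hk⟩ := hdet
    have ht : t ∈ ocgd9_mu F := ⟨k + 1, by rw [pow_succ, mul_comm, pow_mul, hk]⟩
    exact ⟨⟨t, ht⟩, rfl⟩

end D

end Cfsg.Agent.Lib.Helper18.OCT
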