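import Mathlib
import Cfsg.Agent.Lib.helper7.SAP.Defs

/-!
Project SAP (S2284 + S2297, designer helper7), row PERM8 (`glue_perm`): core with the statements of PERM4
(`th_pt`, `th_ps`) and PERM5 (`nh_po`, `nh_pe`, `nh_ps`) as hypotheses.
-/

namespace Cfsg.Agent.Lib.helper7.SAP

open Equiv

universe u

section perm
variable (p k l : ℕ)

theorem sapperm8_ah_pow (i : ℕ) :
    (ah p k) ^ i = Equiv.sumCongr (Equiv.sumCongr (Equiv.addRight ((i : ℕ) : ZMod p)) (Equiv.refl (Fin 2)))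
      (Equiv.refl (Fin k)) := by
  induction i with
  | zero =>
    ext x
    rcases x with (x | x) | x <;> simp
  | succ n ih =>
    rw [pow_succ, ih]
    ext x
    rcases x with (x | x) | x <;> simp [ah, add_assoc, add_comm]

theorem sapperm8_ah_pow_po (i : ℕ) (x : ZMod p) : ((ah p k) ^ i) (po x) = po (x + (i : ZMod p)) := by
  rw [sapperm8_ah_pow]
  rfl

theorem sapperm8_ah_pow_inv_po (i : ℕ) (x : ZMod p) :
    ((ah p k) ^ i)⁻¹ (po x) = po (x - (i : ZMod p)) := by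
  rw [Equiv.Perm.inv_eq_iff_eq, sapperm8_ah_pow_po, sub_add_cancel]

theorem sapperm8_ah_pow_ps (i : ℕ) (c : Fin 2) :
    ((ah p k) ^ i) (Sum.inl (Sum.inr c)) = Sum.inl (Sum.inr c) := by
  rw [sapperm8_ah_pow]
  rfl

theorem sapperm8_ah_pow_inv_ps (i : ℕ) (c : Fin 2) :
    ((ah p k) ^ i)⁻¹ (Sum.inl (Sum.inr c)) = Sum.inl (Sum.inr c) := by
  rw [Equiv.Perm.inv_eq_iff_eq, sapperm8_ah_pow_ps]

theorem sapperm8_ah_pow_pe (i : ℕ) (j : Fin k) : ((ah p k) ^ i) (pe j) = pe j := by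
  rw [sapperm8_ah_pow]
  rfl

theorem sapperm8_ah_pow_inv_pe (i : ℕ) (j : Fin k) : ((ah p k) ^ i)⁻¹ (pe j) = pe j := by
  rw [Equiv.Perm.inv_eq_iff_eq, sapperm8_ah_pow_pe]

/-- the conjugate `β' = a^l β a^-l` on the old points -/
theorem sapperm8_B_po (r : (ZMod p)ˣ) (x : ZMod p) :
    ((ah p k) ^ l * bh k r * ((ah p k) ^ l)⁻¹) (po x) =
      po ((r : ZMod p) * (x - (l : ZMod p)) + (l : ZMod p)) := by
  rw [Equiv.Perm.mul_apply, Equiv.Perm.mul_apply, sapperm8_ah_pow_inv_po]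
  have : bh k r (po (x - (l : ZMod p)) : Pt p k) = po ((r : ZMod p) * (x - (l : ZMod p))) := rfl
  rw [this, sapperm8_ah_pow_po]

theorem sapperm8_B_pe (r : (ZMod p)ˣ) (j : Fin k) :
    ((ah p k) ^ l * bh k r * ((ah p k) ^ l)⁻¹) (pe j) = pe j := by
  rw [Equiv.Perm.mul_apply, Equiv.Perm.mul_apply, sapperm8_ah_pow_inv_pe]
  have : bh k r (pe j : Pt p k) = pe j := rfl
  rw [this, sapperm8_ah_pow_pe]

theorem sapperm8_B_ps1 (r : (ZMod p)ˣ) :
    ((ah p k) ^ l * bh k r * ((ah p k) ^ l)⁻¹) (ps1 : Pt p k) = ps2 := by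
  rw [Equiv.Perm.mul_apply, Equiv.Perm.mul_apply]
  unfold ps1 ps2
  rw [sapperm8_ah_pow_inv_ps]
  have : bh k r (Sum.inl (Sum.inr 0) : Pt p k) = Sum.inl (Sum.inr 1) := by
    simp [bh]
  rw [this, sapperm8_ah_pow_ps]

theorem sapperm8_B_ps2 (r : (ZMod p)ˣ) :
    ((ah p k) ^ l * bh k r * ((ah p k) ^ l)⁻¹) (ps2 : Pt p k) = ps1 := by
  rw [Equiv.Perm.mul_apply, Equiv.Perm.mul_apply]
  unfold ps1 ps2
  rw [sapperm8_ah_pow_inv_ps]
  have : bh k r (Sum.inl (Sum.inr 1) : Pt p k) = Sum.inl (Sum.inr 0) := by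
    simp [bh]
  rw [this, sapperm8_ah_pow_ps]

/-- `θ̂ = nh⁻¹ th` on the old points -/
theorem sapperm8_theta_po [NeZero p]
    (hth_pt : ∀ y : Ix p k, th p k l (pt y) = pt (tauI p k l y))
    (hnh_po : ∀ x : ZMod p, nh p k l (po x) = po (nuI p l x))
    (hnh_pe : ∀ j : Fin k, nh p k l (pe j) = pe j)
    (x : ZMod p) :
    ((nh p k l)⁻¹ * th p k l) (po x) =
      if h : x.val = l ∧ 0 < k then pe ⟨0, h.2⟩ else po x := by
  rw [Equiv.Perm.mul_apply]
  have h1 := hth_pt (Sum.inl x)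
  have h1' : th p k l (po x) = pt (tauI p k l (Sum.inl x)) := h1
  rw [h1', Equiv.Perm.inv_eq_iff_eq]
  by_cases hA : 1 ≤ x.val ∧ x.val < l
  · have hne : ¬ (x.val = l ∧ 0 < k) := fun h => by omega
    rw [dif_neg hne, hnh_po]
    simp only [tauI, nuI, if_pos hA]
    rfl
  · by_cases hB : x.val = l
    · by_cases hk : 0 < k
      · rw [dif_pos ⟨hB, hk⟩, hnh_pe]
        simp only [tauI, if_neg hA, if_pos hB, dif_pos hk]
        rfl
      · have hne : ¬ (x.val = l ∧ 0 < k) := fun h => hk h.2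
        rw [dif_neg hne, hnh_po]
        simp only [tauI, nuI, if_neg hA, if_pos hB, dif_neg hk]
        rfl
    · have hne : ¬ (x.val = l ∧ 0 < k) := fun h => hB h.1
      rw [dif_neg hne, hnh_po]
      simp only [tauI, nuI, if_neg hA, if_neg hB]
      rfl

/-- `θ̂ = nh⁻¹ th` on the new points -/
theorem sapperm8_theta_pe [NeZero p] (hlp : l + 1 ≤ p) (hl : 1 ≤ l)
    (hth_pt : ∀ y : Ix p k, th p k l (pt y) = pt (tauI p k l y))
    (hnh_po : ∀ x : ZMod p, nh p k l (po x) = po (nuI p l x))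
    (hnh_pe : ∀ j : Fin k, nh p k l (pe j) = pe j)
    (j : Fin k) :
    ((nh p k l)⁻¹ * th p k l) (pe j) =
      if h : j.val + 1 < k then pe ⟨j.val + 1, h⟩ else po ((l : ℕ) : ZMod p) := by
  rw [Equiv.Perm.mul_apply]
  have h1 : th p k l (pe j) = pt (tauI p k l (Sum.inr j)) := hth_pt (Sum.inr j)
  rw [h1, Equiv.Perm.inv_eq_iff_eq]
  have hlval : ((l : ℕ) : ZMod p).val = l := ZMod.val_natCast_of_lt (by omega)
  by_cases h : j.val + 1 < k
  · rw [dif_pos h, hnh_pe]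
    simp only [tauI, dif_pos h]
    rfl
  · rw [dif_neg h, hnh_po]
    have hA : ¬ (1 ≤ ((l : ℕ) : ZMod p).val ∧ ((l : ℕ) : ZMod p).val < l) := by
      rw [hlval]; omega
    simp only [tauI, nuI, dif_neg h, if_neg hA, if_pos hlval]
    rfl

theorem sapperm8_theta_ps1 [NeZero p]
    (hth_ps : th p k l ps1 = ps1 ∧ th p k l ps2 = ps2)
    (hnh_ps : nh p k l ps1 = (if Even l then ps2 else ps1) ∧ nh p k l ps2 = (if Even l then ps1 else ps2)) :
    ((nh p k l)⁻¹ * th p k l) (ps1 : Pt p k) = if Even l then ps2 else ps1 := by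
  rw [Equiv.Perm.mul_apply, hth_ps.1, Equiv.Perm.inv_eq_iff_eq]
  by_cases h : Even l
  · rw [if_pos h, hnh_ps.2, if_pos h]
  · rw [if_neg h, hnh_ps.1, if_neg h]

theorem sapperm8_theta_ps2 [NeZero p]
    (hth_ps : th p k l ps1 = ps1 ∧ th p k l ps2 = ps2)
    (hnh_ps : nh p k l ps1 = (if Even l then ps2 else ps1) ∧ nh p k l ps2 = (if Even l then ps1 else ps2)) :
    ((nh p k l)⁻¹ * th p k l) (ps2 : Pt p k) = if Even l then ps1 else ps2 := by
  rw [Equiv.Perm.mul_apply, hth_ps.2, Equiv.Perm.inv_eq_iff_eq]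
  by_cases h : Even l
  · rw [if_pos h, hnh_ps.1, if_pos h]
  · rw [if_neg h, hnh_ps.2, if_neg h]

/-- PERM8 core: the gluing relation in `Perm (Pt p k)`, from the pointwise formulas of PERM4 and PERM5. -/
theorem sapperm8_core [NeZero p] (hlp : l + 1 ≤ p) (hl : 1 ≤ l) (r : (ZMod p)ˣ)
    (hth_pt : ∀ y : Ix p k, th p k l (pt y) = pt (tauI p k l y))
    (hth_ps : th p k l ps1 = ps1 ∧ th p k l ps2 = ps2)
    (hnh_po : ∀ x : ZMod p, nh p k l (po x) = po (nuI p l x))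
    (hnh_pe : ∀ j : Fin k, nh p k l (pe j) = pe j)
    (hnh_ps : nh p k l ps1 = (if Even l then ps2 else ps1) ∧ nh p k l ps2 = (if Even l then ps1 else ps2)) :
    ((nh p k l)⁻¹ * th p k l) * ((ah p k) ^ l * bh k r * ((ah p k) ^ l)⁻¹) =
      ((ah p k) ^ l * bh k r * ((ah p k) ^ l)⁻¹) * ((nh p k l)⁻¹ * th p k l) := by
  have hlval : ((l : ℕ) : ZMod p).val = l := ZMod.val_natCast_of_lt (by omega)
  ext y
  rw [Equiv.Perm.mul_apply, Equiv.Perm.mul_apply]
  rcases y with (x | c) | j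
  · -- old point
    show ((nh p k l)⁻¹ * th p k l) (((ah p k) ^ l * bh k r * ((ah p k) ^ l)⁻¹) (po x)) =
      ((ah p k) ^ l * bh k r * ((ah p k) ^ l)⁻¹) (((nh p k l)⁻¹ * th p k l) (po x))
    rw [sapperm8_B_po, sapperm8_theta_po p k l hth_pt hnh_po hnh_pe,
      sapperm8_theta_po p k l hth_pt hnh_po hnh_pe]
    by_cases hx : x = ((l : ℕ) : ZMod p)
    · subst hx
      rw [sub_self, mul_zero, zero_add]
      by_cases hk : 0 < k
      · rw [dif_pos ⟨hlval, hk⟩, sapperm8_B_pe]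
      · have hne : ¬ (((l : ℕ) : ZMod p).val = l ∧ 0 < k) := fun h => hk h.2
        rw [dif_neg hne, sapperm8_B_po, sub_self, mul_zero, zero_add]
    · have hxv : x.val ≠ l := by
        intro h
        apply hx
        rw [← h, ZMod.natCast_zmod_val]
      have hne : ¬ (x.val = l ∧ 0 < k) := fun h => hxv h.1
      have hx' : ((r : ZMod p) * (x - (l : ZMod p)) + (l : ZMod p)).val ≠ l := by
        intro h
        have h2 : (r : ZMod p) * (x - (l : ZMod p)) + (l : ZMod p) = ((l : ℕ) : ZMod p) := by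
          have h0 := ZMod.natCast_zmod_val ((r : ZMod p) * (x - (l : ZMod p)) + (l : ZMod p))
          rw [h] at h0
          exact h0.symm
        have h3 : (r : ZMod p) * (x - (l : ZMod p)) = 0 := by
          have := congrArg (fun t => t - ((l : ℕ) : ZMod p)) h2
          simpa using this
        have h4 : x - (l : ZMod p) = 0 := by
          have := congrArg (fun t => ((r⁻¹ : (ZMod p)ˣ) : ZMod p) * t) h3
          simpa [← mul_assoc] using this
        exact hx (sub_eq_zero.mp h4)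
      have hne' : ¬ (((r : ZMod p) * (x - (l : ZMod p)) + (l : ZMod p)).val = l ∧ 0 < k) :=
        fun h => hx' h.1
      rw [dif_neg hne, dif_neg hne', sapperm8_B_po]
  · -- special points
    fin_cases c
    · show ((nh p k l)⁻¹ * th p k l) (((ah p k) ^ l * bh k r * ((ah p k) ^ l)⁻¹) ps1) =
        ((ah p k) ^ l * bh k r * ((ah p k) ^ l)⁻¹) (((nh p k l)⁻¹ * th p k l) ps1)
      rw [sapperm8_B_ps1, sapperm8_theta_ps1 p k l hth_ps hnh_ps, sapperm8_theta_ps2 p k l hth_ps hnh_ps]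
      by_cases h : Even l
      · rw [if_pos h, if_pos h, sapperm8_B_ps2]
      · rw [if_neg h, if_neg h, sapperm8_B_ps1]
    · show ((nh p k l)⁻¹ * th p k l) (((ah p k) ^ l * bh k r * ((ah p k) ^ l)⁻¹) ps2) =
        ((ah p k) ^ l * bh k r * ((ah p k) ^ l)⁻¹) (((nh p k l)⁻¹ * th p k l) ps2)
      rw [sapperm8_B_ps2, sapperm8_theta_ps1 p k l hth_ps hnh_ps, sapperm8_theta_ps2 p k l hth_ps hnh_ps]
      by_cases h : Even l
      · rw [if_pos h, if_pos h, sapperm8_B_ps1]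
      · rw [if_neg h, if_neg h, sapperm8_B_ps2]
  · -- new point
    show ((nh p k l)⁻¹ * th p k l) (((ah p k) ^ l * bh k r * ((ah p k) ^ l)⁻¹) (pe j)) =
      ((ah p k) ^ l * bh k r * ((ah p k) ^ l)⁻¹) (((nh p k l)⁻¹ * th p k l) (pe j))
    rw [sapperm8_B_pe, sapperm8_theta_pe p k l hlp hl hth_pt hnh_po hnh_pe]
    by_cases h : j.val + 1 < k
    · rw [dif_pos h, sapperm8_B_pe]
    · rw [dif_neg h, sapperm8_B_po, sub_self, mul_zero, zero_add]

end perm

end Cfsg.Agent.Lib.helper7.SAP
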