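import Mathlib
import Cfsg.Agent.Lib.helper7.SAP.Defs

/-!
Project SAP (S2284 + S2297, designer helper7), row PERM9 (`gh_pow`, `gh_pow_ez`, `gh_pow_et`): cores with the
statements of PERM6 (`th_pow`, `th_comm_zh0`) as hypotheses.
-/

namespace Cfsg.Agent.Lib.helper7.SAP

open Equiv

universe u

theorem sapperm9_c3_pow {α : Type*} [DecidableEq α] [Fintype α] (y s t : α) (hys : y ≠ s) (hyt : y ≠ t) (hst : s ≠ t) :
    (c3 y s t) ^ 3 = 1 := by
  have h3 : (c3 y s t).IsThreeCycle := by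
    unfold c3
    rw [swap_comm y s]
    exact Equiv.Perm.isThreeCycle_swap_mul_swap_same hys.symm hst hyt
  have := h3.orderOf
  rw [← this]
  exact pow_orderOf_eq_one _

theorem sapperm9_zh_pow (p k : ℕ) [NeZero p] (y : Ix p k) : (zh y) ^ 3 = 1 := by
  unfold zh
  apply sapperm9_c3_pow
  · cases y <;> simp [pt, po, pe, ps1]
  · cases y <;> simp [pt, po, pe, ps2]
  · simp [ps1, ps2]

section perm
variable (p k l : ℕ)

theorem sapperm9_gh_pow_core
    (hcomm : th p k l * zh (Sum.inl 0) = zh (Sum.inl 0 : Ix p k) * th p k l) (e : ℕ) :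
    (zh (Sum.inl 0 : Ix p k) * th p k l) ^ e = (zh (Sum.inl 0 : Ix p k)) ^ e * (th p k l) ^ e := by
  have hc : Commute (zh (Sum.inl 0 : Ix p k)) (th p k l) := hcomm.symm
  exact hc.mul_pow e

theorem sapperm9_gh_pow_ez_core [NeZero p]
    (hcomm : th p k l * zh (Sum.inl 0) = zh (Sum.inl 0 : Ix p k) * th p k l)
    (hpow : (th p k l) ^ (l + k) = 1)
    (ez : ℕ) (h3 : ez % 3 = 1) (hm : (l + k) ∣ ez) :
    (zh (Sum.inl 0 : Ix p k) * th p k l) ^ ez = zh (Sum.inl 0 : Ix p k) := by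
  rw [sapperm9_gh_pow_core p k l hcomm]
  obtain ⟨c, rfl⟩ := hm
  rw [pow_mul (th p k l), hpow, one_pow, mul_one]
  rw [pow_eq_pow_mod _ (sapperm9_zh_pow p k (Sum.inl 0)), h3, pow_one]

theorem sapperm9_gh_pow_et_core [NeZero p]
    (hcomm : th p k l * zh (Sum.inl 0) = zh (Sum.inl 0 : Ix p k) * th p k l)
    (hpow : (th p k l) ^ (l + k) = 1)
    (et : ℕ) (h3 : 3 ∣ et) (hm : et % (l + k) = 1 % (l + k)) :
    (zh (Sum.inl 0 : Ix p k) * th p k l) ^ et = th p k l := by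
  rw [sapperm9_gh_pow_core p k l hcomm]
  obtain ⟨c, rfl⟩ := h3
  rw [pow_mul (zh (Sum.inl 0 : Ix p k)), sapperm9_zh_pow, one_pow, one_mul]
  rw [pow_eq_pow_mod _ hpow, hm, ← pow_eq_pow_mod _ hpow, pow_one]

end perm

end Cfsg.Agent.Lib.helper7.SAP
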