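import Mathlib
import Cfsg.Agent.Lib.Helper20.GLO.Defs
import Cfsg.Agent.Lib.Helper20.GLO.DefsP
import Cfsg.Agent.Lib.Helper9.GLOP12core
import Cfsg.Agent.Lib.Helper16.GLOP10
import Cfsg.Agent.Lib.helper6.GLOY8

/-!
# Project GLO (designer helper20, S2291), row P12 (helper9), VERBATIM: `glo_pres_core`
= `glop12_core` on P10 `pres_target` (`Helper16.GLOP10`) and Y8 `iso_of_glue` (`helper6.GLOY8`).
-/

set_option autoImplicit false

namespace Cfsg.Agent.Lib.Helper20.GLO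

open Cfsg.Agent.Lib.helper3.STC (ng ab)
open Cfsg.Agent.Lib.helper3.SPM (Pts pe sgm sn sig2 ptsFin pe2 evN)
open Cfsg.Agent.Lib.Helper20.GLE (lamC lamP)
open Cfsg.Agent.Lib.Helper27.STU
open Cfsg.Agent.Lib.helper17.SLP (cm)

universe u v w x v' y

section P

variable {F : Type u} [Field F] [StarRing F] {L : Type x} [Group L] {ι : Type w} [Fintype ι] [DecidableEq ι] {k l : ℕ}
  (S₂ : SysU F True (Fin 2) L) (swL : L)

/-- P12 [M-L]  model GLE P12 (`Helper9/GLEP12core.lean` + its verbatim wrapper): assembly. -/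
theorem glo_pres_core (hF : Hyp F) (hU : UFacts S₂ swL) (p : Pts ι) (relsN : Finset (FreeGroup (Fin k)))
    (eN : PresentedGroup (↑relsN : Set (FreeGroup (Fin k))) ≃* Equiv.Perm ι)
    (relsL : Finset (FreeGroup (Fin l))) (eL : PresentedGroup (↑relsL : Set (FreeGroup (Fin l))) ≃* L)
    {nb : ℕ} (b : Fin nb → L) (hb : ∀ i, b i ∈ B1 S₂) (hB : (B1 S₂ : Set L) ⊆ Subgroup.closure (Set.range b))
    {M : Type v'} [Group M] (S₀ : SysU F True ι M) {V : Type y} [AddCommGroup V] [Module F V] (R₀ : S₀.Rep V)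
    (hgen₀ : S₀.XQ (fun _ _ => True) = ⊤)
    (ν₀ : Equiv.Perm ι →* M) (lam₀ : L →* M) (hglue₀ : Glue S₂ swL p ν₀ lam₀)
    (hxs₀ : ∀ a b t, ab a ≠ ab b → xrs S₂ p ν₀ lam₀ a b t = S₀.xs a b t)
    (hxl₀ : ∀ a ξ, xrl S₂ p ν₀ lam₀ a ξ = S₀.xl a ξ)
    (hinj : ∀ (G : Type) [Group G] (S : SysU F True ι G) (R : S.Rep V), S.XQ (fun _ _ => True) = ⊤ → Function.Injective R.φ) :
    ∃ rels : Finset (FreeGroup (Fin (k + l))), rels.card ≤ relsN.card + relsL.card + (if p.o3 = none then 5 + 3 * nb else 6 + 3 * nb) ∧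
      Nonempty (PresentedGroup (↑rels : Set (FreeGroup (Fin (k + l)))) ≃* M) :=
  glop12_core S₂ swL p relsN eN relsL eL b hB ν₀ lam₀
    (fun gL wN hwN hLM wL hwL c d c' d' hc hd hc' hd' =>
      pres_target S₂ swL p gL (↑relsN : Set (FreeGroup (Fin k))) eN wN hwN relsL hLM wL hwL c d c' d' b
        hc hd hc' hd' hb ν₀ lam₀ hglue₀)
    (fun G _ ν lam H hgen π hν hlam =>
      iso_of_glue S₂ swL p ν lam hF H hU hgen S₀ R₀ hgen₀ π
        (fun a b t hab => by rw [hν, hlam]; exact hxs₀ a b t hab)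
        (fun a ξ => by rw [hν, hlam]; exact hxl₀ a ξ)
        (fun S R h => hinj G S R h))

end P

end Cfsg.Agent.Lib.Helper20.GLO
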