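import Mathlib
import Cfsg.Agent.Lib.Helper20.GLO.Defs
import Cfsg.Agent.Lib.Helper20.GLO.DefsP
import Cfsg.Agent.Lib.Helper20.GLO.DefsM
import Cfsg.Agent.Lib.Helper27.STU.Frob
import Cfsg.Agent.Lib.Helper19.MODMain
import Cfsg.Agent.Lib.Helper20.GLOM9
import Cfsg.Agent.Lib.Helper20.GLOU2
import Cfsg.Agent.Lib.Helper20.GLOU4
import Cfsg.Agent.Lib.Helper24.STUM3
import Cfsg.Agent.Lib.Helper16.STUH4
import Cfsg.Agent.Lib.Helper9.SPX.Bridge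

/-!
# Project GLO (designer helper20, S2291), rows P13 + P14 (helper9): cores of `glue_odd_of_gens` and `glue_odd`

`glop14_core`: from the statements of GLO M15 `glue_M` (`hM15`), STU K3 `SysU.Rep.injective` (`hK3`) and GLO P12 `glo_pres_core` (`hP12`, at
`L = SU₅(q)`, `ι = Fin m`, `M = SU_{2m+1}(q)`, `V = Fin (2 m + 1) → F`, `k = 2`); everything else is imported: MOD (`exists_ctx sys rep sys_gen`),
block M (`xrs_M xrl_M sw_mon_M`), block U (`ufacts_of`), STU M4 / H4 (`hW_all hH_all`), `frobStar_hyp`,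
`S_m` on two generators with at most six relators (`Helper9.SPX.sym_two_gen`).
`glop13_core`: the same with `B1_gen4` (`nb = 4`).
-/

set_option autoImplicit false

namespace Cfsg.Agent.Lib.Helper20.GLO

open Cfsg.Agent.Lib.helper3.STC (ng ab)
open Cfsg.Agent.Lib.helper3.SPM (Pts pe sgm sn sig2 ptsFin pe2 evN)
open Cfsg.Agent.Lib.Helper20.GLE (lamC lamP)
open Cfsg.Agent.Lib.Helper27.STU
open Cfsg.Agent.Lib.helper17.SLP (cm)
open Cfsg.Agent.Lib.Helper19.MOD (Ctx sys rep sys_gen exists_ctx)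

universe u

/-- core of P14 -/
theorem glop14_core {F : Type u} [Field F] [Fintype F] {q : ℕ} (hF : Fintype.card F = q ^ 2) (m : ℕ) (hm : 3 ≤ m)
    {l : ℕ} (relsL : Finset (FreeGroup (Fin l)))
    (eL : PresentedGroup (↑relsL : Set (FreeGroup (Fin l))) ≃* ↥(Cfsg.SU 5 F q)) (nb : ℕ)
    (hb : letI := frobStar hF
      ∀ C₂ : Cfsg.Agent.Lib.Helper19.MOD.Ctx F 5 q 2 True, ∃ b : Fin nb → ↥(Cfsg.SU 5 F q),
        (∀ i, b i ∈ B1 (Cfsg.Agent.Lib.Helper19.MOD.sys C₂)) ∧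
          (B1 (Cfsg.Agent.Lib.Helper19.MOD.sys C₂) : Set ↥(Cfsg.SU 5 F q)) ⊆ Subgroup.closure (Set.range b))
    (hM15 : letI := frobStar hF
      ∀ (C : Ctx F (2 * m + 1) q m True) (C₂ : Ctx F 5 q 2 True) (p : Pts (Fin m))
      (S₀ : SysU F True (Fin m) ↥(Cfsg.SU (2 * m + 1) F q)), (∀ a b t, S₀.xs a b t = C.xsE a b t) →
      (∀ a ξ, S₀.xl a ξ = C.xlE a ξ) →
      ∀ (S₂ : SysU F True (Fin 2) ↥(Cfsg.SU 5 F q)), (∀ a b t, S₂.xs a b t = C₂.xsE a b t) →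
      (∀ a ξ, S₂.xl a ξ = C₂.xlE a ξ) →
      Glue S₂ (nuM C₂ (Equiv.swap 0 1)) p (nuM C) (lamM C C₂ p))
    (hK3 : letI := frobStar hF
      ∀ (G : Type) [Group G] (S : SysU F True (Fin m) G) (R : S.Rep (Fin (2 * m + 1) → F)),
        S.XQ (fun _ _ => True) = ⊤ → Function.Injective R.φ)
    (hP12 : letI := frobStar hF
      ∀ (S₂ : SysU F True (Fin 2) ↥(Cfsg.SU 5 F q)) (swL : ↥(Cfsg.SU 5 F q)), Hyp F → UFacts S₂ swL →
      ∀ (p : Pts (Fin m)) (relsN : Finset (FreeGroup (Fin 2)))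
      (_ : PresentedGroup (↑relsN : Set (FreeGroup (Fin 2))) ≃* Equiv.Perm (Fin m))
      (relsL : Finset (FreeGroup (Fin l))) (_ : PresentedGroup (↑relsL : Set (FreeGroup (Fin l))) ≃* ↥(Cfsg.SU 5 F q))
      (b : Fin nb → ↥(Cfsg.SU 5 F q)), (∀ i, b i ∈ B1 S₂) →
      ((B1 S₂ : Set ↥(Cfsg.SU 5 F q)) ⊆ Subgroup.closure (Set.range b)) →
      ∀ (S₀ : SysU F True (Fin m) ↥(Cfsg.SU (2 * m + 1) F q)) (_ : S₀.Rep (Fin (2 * m + 1) → F)),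
      S₀.XQ (fun _ _ => True) = ⊤ →
      ∀ (ν₀ : Equiv.Perm (Fin m) →* ↥(Cfsg.SU (2 * m + 1) F q)) (lam₀ : ↥(Cfsg.SU 5 F q) →* ↥(Cfsg.SU (2 * m + 1) F q)),
      Glue S₂ swL p ν₀ lam₀ →
      (∀ a b t, ab a ≠ ab b → xrs S₂ p ν₀ lam₀ a b t = S₀.xs a b t) →
      (∀ a ξ, xrl S₂ p ν₀ lam₀ a ξ = S₀.xl a ξ) →
      (∀ (G : Type) [Group G] (S : SysU F True (Fin m) G) (R : S.Rep (Fin (2 * m + 1) → F)),
        S.XQ (fun _ _ => True) = ⊤ → Function.Injective R.φ) →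
      ∃ rels : Finset (FreeGroup (Fin (2 + l))),
        rels.card ≤ relsN.card + relsL.card + (if p.o3 = none then 5 + 3 * nb else 6 + 3 * nb) ∧
        Nonempty (PresentedGroup (↑rels : Set (FreeGroup (Fin (2 + l)))) ≃* ↥(Cfsg.SU (2 * m + 1) F q))) :
    ∃ (k : ℕ) (R : Finset (FreeGroup (Fin k))), R.card ≤ 6 + relsL.card + (6 + 3 * nb) ∧
      Nonempty (PresentedGroup (↑R : Set (FreeGroup (Fin k))) ≃* ↥(Cfsg.SU (2 * m + 1) F q)) := by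
  classical
  letI := frobStar hF
  have hHyp : Hyp F := frobStar_hyp hF
  obtain ⟨C⟩ := exists_ctx hF (2 * m + 1) m True (Or.inr ⟨trivial, rfl⟩)
  obtain ⟨C₂⟩ := exists_ctx hF 5 2 True (Or.inr ⟨trivial, rfl⟩)
  obtain ⟨relsN, hN, ⟨eN⟩⟩ := Cfsg.Agent.Lib.Helper9.SPX.sym_two_gen m hm
  have hN6 : relsN.card ≤ 6 := by
    split_ifs at hN <;> omega
  set S₀ := sys C with hS₀
  set S₂ := sys C₂ with hS₂
  have hgen₀ : S₀.XQ (fun _ _ => True) = ⊤ := sys_gen C hF (by omega)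
  have hgen₂ : S₂.XQ (fun _ _ => True) = ⊤ := sys_gen C₂ hF (by norm_num)
  have hW : S₂.HW := SysU.hW_all S₂
  have hH : S₂.HH := SysU.hH_all S₂ hW
  have hsw : S₂.IsMon (nuM C₂ (Equiv.swap 0 1)) (sgm (Equiv.swap 0 1)) (fun _ => 1) 1 :=
    sw_mon_M C₂ S₂ (fun _ _ _ => rfl) (fun _ _ => rfl)
  have hU : UFacts S₂ (nuM C₂ (Equiv.swap 0 1)) := ufacts_of S₂ _ hHyp hsw hgen₂ hW hH
  obtain ⟨b, hb1, hB⟩ := hb C₂
  set p := ptsFin m hm with hp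
  have hglue : Glue S₂ (nuM C₂ (Equiv.swap 0 1)) p (nuM C) (lamM C C₂ p) :=
    hM15 C C₂ p S₀ (fun _ _ _ => rfl) (fun _ _ => rfl) S₂ (fun _ _ _ => rfl) (fun _ _ => rfl)
  obtain ⟨rels, hcard, hiso⟩ := hP12 S₂ (nuM C₂ (Equiv.swap 0 1)) hHyp hU p relsN eN relsL eL b hb1 hB S₀ (rep C) hgen₀
    (nuM C) (lamM C C₂ p) hglue
    (fun a b t hab => xrs_M C C₂ p S₂ (fun _ _ _ => rfl) hab t)
    (fun a ξ => xrl_M C C₂ p S₂ (fun _ _ => rfl) a ξ) hK3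
  refine ⟨2 + l, rels, ?_, hiso⟩
  have h29 : (if p.o3 = none then 5 + 3 * nb else 6 + 3 * nb) ≤ 6 + 3 * nb := by split_ifs <;> omega
  omega

/-- the generators of `B1` for P13: `B1_gen4` -/
theorem glop13_gens {F : Type u} [Field F] [Fintype F] {q : ℕ} (hF : Fintype.card F = q ^ 2) :
    letI := frobStar hF
    ∀ C₂ : Cfsg.Agent.Lib.Helper19.MOD.Ctx F 5 q 2 True, ∃ b : Fin 4 → ↥(Cfsg.SU 5 F q),
      (∀ i, b i ∈ B1 (Cfsg.Agent.Lib.Helper19.MOD.sys C₂)) ∧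
        (B1 (Cfsg.Agent.Lib.Helper19.MOD.sys C₂) : Set ↥(Cfsg.SU 5 F q)) ⊆ Subgroup.closure (Set.range b) := by
  letI := frobStar hF
  intro C₂
  have hW : (sys C₂).HW := SysU.hW_all (sys C₂)
  have hH : (sys C₂).HH := SysU.hH_all (sys C₂) hW
  exact B1_gen4 (sys C₂) (frobStar_hyp hF) hW hH

end Cfsg.Agent.Lib.Helper20.GLO
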