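import Mathlib
import Cfsg.Agent.Lib.Helper20.GLO.Defs
import Cfsg.Agent.Lib.Helper20.GLO.DefsP
import Cfsg.Agent.Lib.Helper20.GLO.DefsM
import Cfsg.Agent.Lib.Helper27.STU.Frob
import Cfsg.Agent.Lib.Helper9.GLOP12
import Cfsg.Agent.Lib.Helper9.GLOP13core
import Cfsg.Agent.Lib.Helper18.STUK2
import Cfsg.Agent.Lib.Helper21.GLOM15

/-!
# Project GLO (designer helper20, S2291), rows P13 + P14 (helper9), VERBATIM: `glue_odd` = THE END THEOREM of block GLO-II, and `glue_odd_of_gens`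
= `glop14_core` on GLO M15 `glue_M` (`Helper21.GLOM15`), STU K3 `SysU.Rep.injective` (`Helper18.STUK2`) and P12 `glo_pres_core` (`Helper9.GLOP12`).
-/

set_option autoImplicit false

namespace Cfsg.Agent.Lib.Helper20.GLO

open Cfsg.Agent.Lib.helper3.STC (ng ab)
open Cfsg.Agent.Lib.helper3.SPM (Pts pe sgm sn sig2 ptsFin pe2 evN)
open Cfsg.Agent.Lib.Helper20.GLE (lamC lamP)
open Cfsg.Agent.Lib.Helper27.STU
open Cfsg.Agent.Lib.helper17.SLP (cm)

universe u v w x v' y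

/-- P14 [S-M]  the variant of P13 for a given generating family of the `SU₃(q)` on the index `1`. -/
theorem glue_odd_of_gens {F : Type u} [Field F] [Fintype F] {q : ℕ} (hF : Fintype.card F = q ^ 2) (m : ℕ) (hm : 3 ≤ m)
    {l : ℕ} (relsL : Finset (FreeGroup (Fin l)))
    (eL : PresentedGroup (↑relsL : Set (FreeGroup (Fin l))) ≃* ↥(Cfsg.SU 5 F q)) (nb : ℕ)
    (hb : letI := frobStar hF
      ∀ C₂ : Cfsg.Agent.Lib.Helper19.MOD.Ctx F 5 q 2 True, ∃ b : Fin nb → ↥(Cfsg.SU 5 F q),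
        (∀ i, b i ∈ B1 (Cfsg.Agent.Lib.Helper19.MOD.sys C₂)) ∧
          (B1 (Cfsg.Agent.Lib.Helper19.MOD.sys C₂) : Set ↥(Cfsg.SU 5 F q)) ⊆ Subgroup.closure (Set.range b)) :
    ∃ (k : ℕ) (R : Finset (FreeGroup (Fin k))), R.card ≤ 6 + relsL.card + (6 + 3 * nb) ∧
      Nonempty (PresentedGroup (↑R : Set (FreeGroup (Fin k))) ≃* ↥(Cfsg.SU (2 * m + 1) F q)) :=
  glop14_core hF m hm relsL eL nb hb
    (by
      letI := frobStar hF
      exact fun C C₂ p S₀ h₀s h₀l S₂ h₂s h₂l => glue_M C C₂ p S₀ h₀s h₀l S₂ h₂s h₂l)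
    (by
      letI := frobStar hF
      exact fun G _ S R hgen => SysU.Rep.injective (frobStar_hyp hF) R hgen)
    (by
      letI := frobStar hF
      exact fun S₂ swL hHyp hU p relsN eN relsL eL b hb hB S₀ R₀ hgen₀ ν₀ lam₀ hglue hxs hxl hinj =>
        glo_pres_core S₂ swL hHyp hU p relsN eN relsL eL b hb hB S₀ R₀ hgen₀ ν₀ lam₀ hglue hxs hxl hinj)

/-- P13 [M]  **the end theorem of block GLO-II**. -/
theorem glue_odd {F : Type u} [Field F] [Fintype F] {q : ℕ} (hF : Fintype.card F = q ^ 2) (m : ℕ) (hm : 3 ≤ m)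
    {l : ℕ} (relsL : Finset (FreeGroup (Fin l)))
    (eL : PresentedGroup (↑relsL : Set (FreeGroup (Fin l))) ≃* ↥(Cfsg.SU 5 F q)) :
    ∃ (k : ℕ) (R : Finset (FreeGroup (Fin k))), R.card ≤ 6 + relsL.card + 18 ∧
      Nonempty (PresentedGroup (↑R : Set (FreeGroup (Fin k))) ≃* ↥(Cfsg.SU (2 * m + 1) F q)) :=
  glue_odd_of_gens hF m hm relsL eL 4 (glop13_gens hF)

end Cfsg.Agent.Lib.Helper20.GLO
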