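import Cfsg.Agent.Lib.Helper9.UT.Defs
import Cfsg.Agent.Lib.Helper20.UTTV

/-!
# Project UT, piece DICHA: one step of the dichotomy lemma
-/

set_option autoImplicit false

open Cfsg

namespace Cfsg.Agent.Lib.Helper9.UT

open Matrix Cfsg.Agent.Lib.Helper29.ExtrL Cfsg.Agent.Lib.Helper28.UMax

variable {n q : ℕ} {F : Type*} [Field F] [Fintype F] {σ : F ≃+* F}
  {M : Subgroup (Matrix.GeneralLinearGroup (Fin n) F)}

theorem utdicha_tij_mulVec {i j : Fin n} (u : Fˣ) (v : Fin n → F) :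
    ((Tij i j u : Matrix.GeneralLinearGroup (Fin n) F) : Matrix (Fin n) (Fin n) F) *ᵥ v =
      fun l => (((if l = i then u else if l = j then u⁻¹ else 1 : Fˣ)) : F) * v l := by
  funext l
  unfold Tij
  rw [dg_val, Matrix.mulVec_diagonal]

theorem utdicha_tij_mem (S : UF n q σ) {i j : Fin n} (hij : i ≠ j) (u : Fˣ)
    (hu : (u : F) * σ (u : F) = 1) : Tij i j u ∈ SUg n F q := by
  rw [mem_SUg_iff]
  refine ⟨fun x y => ?_, det_Tij hij u⟩
  rw [utdicha_tij_mulVec, utdicha_tij_mulVec, herm_apply S, herm_apply S]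
  apply Finset.sum_congr rfl
  intro l _
  have hu' : ((u⁻¹ : Fˣ) : F) * σ ((u⁻¹ : Fˣ) : F) = 1 := by
    have h1 : ((u⁻¹ : Fˣ) : F) = (u : F)⁻¹ := by simp
    rw [h1, map_inv₀, ← mul_inv, hu, inv_one]
  by_cases hli : l = i
  · simp only [hli, if_true]
    rw [map_mul]
    linear_combination (x i * σ (y i)) * hu
  · by_cases hlj : l = j
    · simp only [hlj, if_neg (Ne.symm hij), if_true]
      rw [map_mul]
      linear_combination (x j * σ (y j)) * hu'
    · simp only [hli, hlj, if_false, Units.val_one, one_mul]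

theorem utdicha_tij_mem_M (S : UTS n q σ M) {i j : Fin n} (hij : i ≠ j) (u : Fˣ)
    (hu : (u : F) * σ (u : F) = 1) : Tij i j u ∈ M :=
  S.hN _ (utdicha_tij_mem S.toUF hij u hu) (isMono_dg _)

/-- the action of `Tij i j u` on a vector with `w j = 0` -/
theorem utdicha_tij_w {i j : Fin n} (hij : i ≠ j) (u : Fˣ) (w : Fin n → F) (hj : w j = 0) :
    ((Tij i j u : Matrix.GeneralLinearGroup (Fin n) F) : Matrix (Fin n) (Fin n) F) *ᵥ w =
      w + (((u : F) - 1) * w i) • Pi.single i (1 : F) := by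
  rw [utdicha_tij_mulVec]
  funext l
  by_cases hli : l = i
  · subst hli
    simp only [if_true, Pi.add_apply, Pi.smul_apply, Pi.single_eq_same, smul_eq_mul, mul_one]
    ring
  · by_cases hlj : l = j
    · subst hlj
      simp [hli, hj]
    · simp [hli, hlj]

/-- DICHA -/
theorem dich_step (S : UTS n q σ M) {t : Matrix.GeneralLinearGroup (Fin n) F} (ht : t ∈ M)
    {w : Fin n → F} {c : F} (hw : Cfsg.hermForm n F q w w = 0) (hc : σ c = -c)
    (hT : IsTv n q t w c) {i j : Fin n} (hi : w i ≠ 0) (hj : w j = 0) (x : F)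
    (hx : x * σ x = 1) :
    ∃ t' ∈ M, IsTv n q t' w
      (c * ((1 + σ c * (w i * σ (w i)) * (x - 1)) * σ (1 + σ c * (w i * σ (w i)) * (x - 1)))) := by
  have hf := S.hU
  have hij : i ≠ j := by
    rintro rfl
    exact hi hj
  have hx0 : x ≠ 0 := by
    rintro rfl
    rw [zero_mul] at hx
    exact zero_ne_one hx
  set ν : F := w i * σ (w i) with hν
  have hν0 : ν ≠ 0 := mul_ne_zero hi (fun h => hi ((map_eq_zero σ).1 h))
  set γ : F := σ c * ν with hγ
  set B : F := 1 + γ * (x - 1) with hB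
  -- the torus element
  set xu : Fˣ := Units.mk0 x hx0 with hxu
  have hxuv : (xu : F) = x := rfl
  have hdM : Tij i j xu ∈ M := utdicha_tij_mem_M S hij xu (by rw [hxuv]; exact hx)
  have hdS : Tij i j xu ∈ SUg n F q := S.hMS hdM
  set d : Matrix.GeneralLinearGroup (Fin n) F := Tij i j xu with hd
  have hdw : (d : Matrix (Fin n) (Fin n) F) *ᵥ w = w + ((x - 1) * w i) • Pi.single i (1 : F) := by
    rw [hd, utdicha_tij_w hij xu w hj, hxuv]
  -- f(e_i, w) and f(w, e_i)
  have hfei : Cfsg.hermForm n F q (Pi.single i (1 : F)) w = σ (w i) := by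
    rw [herm_single_left S.toUF, one_mul]
  have hfwe : Cfsg.hermForm n F q w (Pi.single i (1 : F)) = w i := by
    rw [herm_single_right S.toUF, map_one, mul_one]
  have hfee : Cfsg.hermForm n F q (Pi.single i (1 : F)) (Pi.single i (1 : F)) = 1 := by
    rw [herm_single_left S.toUF, Pi.single_eq_same, map_one, one_mul]
  -- t1
  have ht1 : IsTv n q (d * t * d⁻¹) ((d : Matrix (Fin n) (Fin n) F) *ᵥ w) c := tv_conj S.toUF hdS hT
  have ht1M : d * t * d⁻¹ ∈ M := M.mul_mem (M.mul_mem hdM ht) (M.inv_mem hdM)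
  -- t2
  have htS : t ∈ SUg n F q := S.hMS ht
  have ht2 : IsTv n q (t * (d * t * d⁻¹) * t⁻¹)
      ((t : Matrix (Fin n) (Fin n) F) *ᵥ ((d : Matrix (Fin n) (Fin n) F) *ᵥ w)) c :=
    tv_conj S.toUF htS ht1
  have ht2M : t * (d * t * d⁻¹) * t⁻¹ ∈ M := M.mul_mem (M.mul_mem ht ht1M) (M.inv_mem ht)
  -- compute t (d w)
  have hfdw : Cfsg.hermForm n F q ((d : Matrix (Fin n) (Fin n) F) *ᵥ w) w = (x - 1) * ν := by
    rw [hdw, hf.add_left, hf.smul_left, hw, hfei, hν]
    ring
  have htdw : (t : Matrix (Fin n) (Fin n) F) *ᵥ ((d : Matrix (Fin n) (Fin n) F) *ᵥ w) =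
      B • w + ((x - 1) * w i) • Pi.single i (1 : F) := by
    rw [hT, Cfsg.Agent.Lib.Helper28.UForm.f_smul_right hf, hfdw, hdw, hB, hγ]
    module
  -- isotropy of t (d w)
  have hiso : Cfsg.hermForm n F q (B • w + ((x - 1) * w i) • Pi.single i (1 : F))
      (B • w + ((x - 1) * w i) • Pi.single i (1 : F)) = 0 := by
    rw [← htdw, iso_of_mem S ht, iso_of_mem S hdM, hw]
  have hexp : ∀ a b : F, Cfsg.hermForm n F q (a • w + b • Pi.single i (1 : F))
      (a • w + b • Pi.single i (1 : F)) = a * σ b * w i + b * σ a * σ (w i) + b * σ b := by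
    intro a b
    simp only [hf.add_left, Cfsg.Agent.Lib.Helper28.UForm.f_add_right hf, hf.smul_left,
      Cfsg.Agent.Lib.Helper28.UForm.f_smul_right hf, hw, hfwe, hfei, hfee]
    ring
  have hB0 : B ≠ 0 := by
    intro h0
    rw [hexp, h0, map_zero] at hiso
    have h1 : ((x - 1) * w i) * σ ((x - 1) * w i) = 0 := by linear_combination hiso
    have h2 : (x - 1) * w i = 0 := by
      rcases mul_eq_zero.1 h1 with h | h
      · exact h
      · exact (map_eq_zero σ).1 h
    have h3 : x = 1 := by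
      rcases mul_eq_zero.1 h2 with h | h
      · exact sub_eq_zero.1 h
      · exact absurd h hi
    rw [hB, h3, sub_self, mul_zero, add_zero] at h0
    exact one_ne_zero h0
  set x' : F := 1 + (x - 1) / B with hx'
  have hBx' : B * (x' - 1) = x - 1 := by
    rw [hx']
    field_simp
    ring
  have hx'N : x' * σ x' = 1 := by
    have h1 : Cfsg.hermForm n F q (w + ((x' - 1) * w i) • Pi.single i (1 : F))
        (w + ((x' - 1) * w i) • Pi.single i (1 : F)) = 0 := by
      have e : B • w + ((x - 1) * w i) • Pi.single i (1 : F) =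
          B • (w + ((x' - 1) * w i) • Pi.single i (1 : F)) := by
        rw [smul_add, smul_smul, ← mul_assoc, hBx']
      rw [e, hf.smul_left, Cfsg.Agent.Lib.Helper28.UForm.f_smul_right hf] at hiso
      have hσB : σ B ≠ 0 := fun h => hB0 ((map_eq_zero σ).1 h)
      rcases mul_eq_zero.1 hiso with h | h
      · exact absurd h hB0
      · rcases mul_eq_zero.1 h with h' | h'
        · exact absurd h' hσB
        · exact h'
    have h2 := hexp 1 ((x' - 1) * w i)
    rw [one_smul, h1, map_one, map_mul, map_sub, map_one] at h2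
    have h3 : ν * (x' * σ x' - 1) = 0 := by
      rw [hν]
      linear_combination -h2
    rcases mul_eq_zero.1 h3 with h | h
    · exact absurd h hν0
    · exact sub_eq_zero.1 h
  have hx'0 : x' ≠ 0 := by
    intro h
    rw [h, zero_mul] at hx'N
    exact zero_ne_one hx'N
  set x'u : Fˣ := Units.mk0 x' hx'0 with hx'u
  have hx'uv : (x'u : F) = x' := rfl
  have hd'M : Tij i j x'u ∈ M := utdicha_tij_mem_M S hij x'u (by rw [hx'uv]; exact hx'N)
  have hd'S : Tij i j x'u ∈ SUg n F q := S.hMS hd'M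
  set d' : Matrix.GeneralLinearGroup (Fin n) F := Tij i j x'u with hd'
  have hd'w : (d' : Matrix (Fin n) (Fin n) F) *ᵥ w =
      w + ((x' - 1) * w i) • Pi.single i (1 : F) := by
    rw [hd', utdicha_tij_w hij x'u w hj, hx'uv]
  have htdw' : (t : Matrix (Fin n) (Fin n) F) *ᵥ ((d : Matrix (Fin n) (Fin n) F) *ᵥ w) =
      B • ((d' : Matrix (Fin n) (Fin n) F) *ᵥ w) := by
    rw [htdw, hd'w, smul_add, smul_smul, ← mul_assoc, hBx']
  rw [htdw'] at ht2
  have ht2' := tv_smul S.toUF ht2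
  have hd'iS : d'⁻¹ ∈ SUg n F q := (SUg n F q).inv_mem hd'S
  have ht3 := tv_conj S.toUF hd'iS ht2'
  rw [Cfsg.Agent.S5643.inv_mv, inv_inv] at ht3
  exact ⟨d'⁻¹ * (t * (d * t * d⁻¹) * t⁻¹) * d', M.mul_mem (M.mul_mem (M.inv_mem hd'M) ht2M) hd'M,
    ht3⟩

end Cfsg.Agent.Lib.Helper9.UT
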