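import Mathlib
import Cfsg.Agent.Lib.helper3.SPM.Defs
import Cfsg.Agent.Lib.helper3.SPM.Defs2
import Cfsg.Agent.Lib.Helper24.STCI1
import Cfsg.Agent.Lib.Helper20.SPMA1
import Cfsg.Agent.Lib.Helper29.SPMA4
import Cfsg.Agent.Lib.Helper25.SPME3
import Cfsg.Agent.Lib.Helper25.SPME6

/-!
# Project SPM (designer helper3, S2292/S2296), rows E7 + E8 (helper9): cores

`spme7_core` = `xr_pair` from the statement of E5 `xr_pair_short` as a hypothesis (E6 `xr_pair_long` is landed: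
`Helper25.SPME6`); `spme8_core` = `lamC_xr` from the statement of `xr_pair`.
-/

set_option autoImplicit false

namespace Cfsg.Agent.Lib.helper3.SPM

open Cfsg.Agent.Lib.helper3.STC Cfsg.Agent.Lib.helper3.STC.Mat Cfsg.Agent.Lib.helper17.SLP

universe u v w v'

section main
variable {F : Type u} [Field F] {ι : Type w} [Fintype ι] [DecidableEq ι] {G : Type v} [Group G]
  (p : Pts ι) (ν : Equiv.Perm ι →* G) (lam : Sp4 F →* G)

/-- E7 core: `xr_pair` from the statement of E5 `xr_pair_short`. -/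
theorem spme7_core (H : Glue p ν lam) (hS : SpFacts F) {i j : ι} (hij : i ≠ j)
    (hshort : ∀ {a' b' : Fin 2 ⊕ Fin 2}, ab a' ≠ ab b' → ∀ t : F,
      lamP p ν lam i j (tm a' b' t) = xr p ν lam (pe2 i j a') (pe2 i j b') t)
    {a' b' : Fin 2 ⊕ Fin 2} (hab' : a' ≠ b') (t : F) :
    lamP p ν lam i j (tm a' b' t) = xr p ν lam (pe2 i j a') (pe2 i j b') t := by
  by_cases h : ab a' = ab b'
  · rcases ab_eq_iff.mp h with h1 | h1
    · exact absurd h1 hab'
    · have hb : b' = ng a' := by rw [h1, ng_ng]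
      subst hb
      rw [pe2_ng]
      exact xr_pair_long p ν lam H hS hij a' t
  · exact hshort h t

/-- E8 core: `lamC_xr` from the statement of E7 `xr_pair`. -/
theorem spme8_core (H : Glue p ν lam) (hS : SpFacts F) (σ : Equiv.Perm ι)
    (hpair : ∀ {i j : ι}, i ≠ j → ∀ {a' b' : Fin 2 ⊕ Fin 2}, a' ≠ b' → ∀ t : F,
      lamP p ν lam i j (tm a' b' t) = xr p ν lam (pe2 i j a') (pe2 i j b') t)
    {a' b' : Fin 2 ⊕ Fin 2} (hab' : a' ≠ b') (t : F) :
    lamC ν lam σ (tm a' b' t) = xr p ν lam (sgm σ (pe p a')) (sgm σ (pe p b')) t := by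
  have hne : σ p.o0 ≠ σ p.o1 := fun h => p.h01 (σ.injective h)
  have h0 : σ p.o0 = sig2 p (σ p.o0) (σ p.o1) p.o0 := (sig2_o0 p hne).symm
  have h1 : σ p.o1 = sig2 p (σ p.o0) (σ p.o1) p.o1 := (sig2_o1 p hne).symm
  rw [lamC_congr p ν lam H hS h0 h1 (tm a' b' t)]
  have := hpair hne hab' t
  unfold lamP at this
  rw [this, pe_eq_pe2, pe_eq_pe2, sgm_pe2, sgm_pe2]

end main

end Cfsg.Agent.Lib.helper3.SPM
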