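import Mathlib
import Cfsg.Agent.Lib.helper3.SPM.Defs
import Cfsg.Agent.Lib.helper3.SPM.Defs2
import Cfsg.Agent.Lib.Helper24.STCI1
import Cfsg.Agent.Lib.Helper20.SPMA1
import Cfsg.Agent.Lib.Helper29.SPMA3
import Cfsg.Agent.Lib.Helper12.SPMT2

/-!
# Project SPM (designer helper3, S2292/S2296), rows T6 + T7 (helper9): cores

`spmt6_core` = `d3_signs` from the statements of T5 `d3_base`, T4 `wl_pair`, T3 `LB_comm` (T2 `wr_mem_LB` imported);
`spmt7_core` = `d3_gen` from the statements of `d3_signs`, E9 `xr_conj`, T1 `LB_conj` (A2 `exists_perm3` imported).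
-/

set_option autoImplicit false

namespace Cfsg.Agent.Lib.helper3.SPM

open Cfsg.Agent.Lib.helper3.STC Cfsg.Agent.Lib.helper3.STC.Mat Cfsg.Agent.Lib.helper17.SLP

universe u v w v'

section main
variable {F : Type u} [Field F] {ι : Type w} [Fintype ι] [DecidableEq ι] {G : Type v} [Group G]
  (p : Pts ι) (ν : Equiv.Perm ι →* G) (lam : Sp4 F →* G)

omit [Fintype ι] in
/-- the coefficients of the long Weyl element with parameter `1` do not vanish -/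
theorem spmt6_dwl_ne (c x : ι ⊕ ι) : dwl c (1 : F) x ≠ 0 := by
  unfold dwl
  split_ifs <;> simp

/-- one conjugation step -/
theorem spmt6_step {k : ι} (hk : k ≠ p.o2)
    (hcomm : ∀ {i k : ι}, i ≠ k → ∀ {g g' : G}, g ∈ LB p ν lam i → g' ∈ LB p ν lam k → Commute g g')
    {a b a' b' : ι ⊕ ι} {c : F} (hc : c ≠ 0)
    (hw : ∀ t : F, wr p ν lam (Sum.inl k) (Sum.inr k) 1 * xr p ν lam a b t * (wr p ν lam (Sum.inl k) (Sum.inr k) 1)⁻¹ =
      xr p ν lam a' b' (c * t))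
    (h : ∀ (t : F) {g : G}, g ∈ LB p ν lam p.o2 → Commute (xr p ν lam a b t) g)
    (t : F) {g : G} (hg : g ∈ LB p ν lam p.o2) : Commute (xr p ν lam a' b' t) g := by
  have hwm : wr p ν lam (Sum.inl k) (Sum.inr k) 1 ∈ LB p ν lam k := wr_mem_LB p ν lam (Sum.inl k) 1
  have h1 : Commute (wr p ν lam (Sum.inl k) (Sum.inr k) 1) g := hcomm hk hwm hg
  have h2 : xr p ν lam a' b' t =
      wr p ν lam (Sum.inl k) (Sum.inr k) 1 * xr p ν lam a b (c⁻¹ * t) * (wr p ν lam (Sum.inl k) (Sum.inr k) 1)⁻¹ := by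
    rw [hw, ← mul_assoc, mul_inv_cancel₀ hc, one_mul]
  rw [h2]
  exact (h1.mul_left (h (c⁻¹ * t) hg)).mul_left h1.inv_left

/-- T6 core: `d3_signs` from the statements of T5, T4, T3. -/
theorem spmt6_core
    (hbase : ∀ (t : F) {g : G}, g ∈ LB p ν lam p.o2 → Commute (xr p ν lam (Sum.inl p.o0) (Sum.inl p.o1) t) g)
    (hwl : ∀ {k j : ι}, k ≠ j → ∀ {u : F}, u ≠ 0 → ∀ {a b : ι ⊕ ι}, a ≠ b → (ab a = k ∨ ab a = j) → (ab b = k ∨ ab b = j) →
      ∀ t : F, wr p ν lam (Sum.inl k) (Sum.inr k) u * xr p ν lam a b t * (wr p ν lam (Sum.inl k) (Sum.inr k) u)⁻¹ =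
        xr p ν lam (Equiv.swap (Sum.inl k) (Sum.inr k) a) (Equiv.swap (Sum.inl k) (Sum.inr k) b)
          (dwl (Sum.inl k) u a * (dwl (Sum.inl k) u b)⁻¹ * t))
    (hcomm : ∀ {i k : ι}, i ≠ k → ∀ {g g' : G}, g ∈ LB p ν lam i → g' ∈ LB p ν lam k → Commute g g')
    {a b : ι ⊕ ι} (ha : ab a = p.o0) (hb : ab b = p.o1) (t : F) {g : G}
    (hg : g ∈ LB p ν lam p.o2) : Commute (xr p ν lam a b t) g := by
  have h01 := p.h01
  have h10 : p.o1 ≠ p.o0 := fun h => p.h01 h.symm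
  -- the general step: conjugation by the long Weyl element of the index `k ∈ {o0, o1}`
  have step : ∀ {k j : ι}, k ≠ j → k ≠ p.o2 → ∀ {a b : ι ⊕ ι}, a ≠ b → (ab a = k ∨ ab a = j) → (ab b = k ∨ ab b = j) →
      (∀ (t : F) {g : G}, g ∈ LB p ν lam p.o2 → Commute (xr p ν lam a b t) g) →
      ∀ (t : F) {g : G}, g ∈ LB p ν lam p.o2 →
        Commute (xr p ν lam (Equiv.swap (Sum.inl k) (Sum.inr k) a) (Equiv.swap (Sum.inl k) (Sum.inr k) b) t) g := by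
    intro k j hkj hk2 a b hab hak hbk h t g hg
    have hc : dwl (Sum.inl k) (1 : F) a * (dwl (Sum.inl k) (1 : F) b)⁻¹ ≠ 0 :=
      mul_ne_zero (spmt6_dwl_ne _ _) (inv_ne_zero (spmt6_dwl_ne _ _))
    exact spmt6_step p ν lam hk2 hcomm hc (hwl hkj one_ne_zero hab hak hbk) h t hg
  -- the four sign patterns
  have hll := hbase
  have hne_ll : (Sum.inl p.o0 : ι ⊕ ι) ≠ Sum.inl p.o1 := fun h => h01 (Sum.inl.inj h)
  have hrl : ∀ (t : F) {g : G}, g ∈ LB p ν lam p.o2 → Commute (xr p ν lam (Sum.inr p.o0) (Sum.inl p.o1) t) g := by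
    have := step (k := p.o0) (j := p.o1) h01 p.h02 hne_ll (Or.inl rfl) (Or.inr rfl) hll
    rw [Equiv.swap_apply_left, Equiv.swap_apply_of_ne_of_ne hne_ll.symm (by simp)] at this
    exact this
  have hne_rl : (Sum.inr p.o0 : ι ⊕ ι) ≠ Sum.inl p.o1 := by simp
  have hlr : ∀ (t : F) {g : G}, g ∈ LB p ν lam p.o2 → Commute (xr p ν lam (Sum.inl p.o0) (Sum.inr p.o1) t) g := by
    have := step (k := p.o1) (j := p.o0) h10 p.h12 hne_ll (Or.inr rfl) (Or.inl rfl) hll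
    rw [Equiv.swap_apply_left, Equiv.swap_apply_of_ne_of_ne hne_ll (by simp)] at this
    exact this
  have hrr : ∀ (t : F) {g : G}, g ∈ LB p ν lam p.o2 → Commute (xr p ν lam (Sum.inr p.o0) (Sum.inr p.o1) t) g := by
    have := step (k := p.o1) (j := p.o0) h10 p.h12 hne_rl (Or.inr rfl) (Or.inl rfl) hrl
    rw [Equiv.swap_apply_left, Equiv.swap_apply_of_ne_of_ne hne_rl (fun h => h01 (Sum.inr.inj h))] at this
    exact this
  rcases a with i | i <;> rcases b with j | j <;> simp only [ab] at ha hb <;> subst ha <;> subst hb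
  · exact hll t hg
  · exact hlr t hg
  · exact hrl t hg
  · exact hrr t hg

/-- T7 core: `d3_gen` from the statements of T6, E9, T1. -/
theorem spmt7_core
    (hsigns : ∀ {a b : ι ⊕ ι}, ab a = p.o0 → ab b = p.o1 → ∀ (t : F) {g : G}, g ∈ LB p ν lam p.o2 →
      Commute (xr p ν lam a b t) g)
    (hconj : ∀ (σ : Equiv.Perm ι) {a b : ι ⊕ ι}, a ≠ b → ∀ t : F,
      ν σ * xr p ν lam a b t * (ν σ)⁻¹ = xr p ν lam (sgm σ a) (sgm σ b) t)
    (hLB : ∀ (σ : Equiv.Perm ι) (k : ι) {g : G}, g ∈ LB p ν lam k → ν σ * g * (ν σ)⁻¹ ∈ LB p ν lam (σ k))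
    {a b : ι ⊕ ι} (hab : ab a ≠ ab b) {k : ι} (hka : k ≠ ab a) (hkb : k ≠ ab b)
    (t : F) {g : G} (hg : g ∈ LB p ν lam k) : Commute (xr p ν lam a b t) g := by
  obtain ⟨σ, h0, h1, h2⟩ := exists_perm3 p hab (Ne.symm hka) (Ne.symm hkb)
  have ha0 : ab (sgm σ⁻¹ a) = p.o0 := by
    rw [ab_sgm, ← h0]; exact σ.symm_apply_apply _
  have hb0 : ab (sgm σ⁻¹ b) = p.o1 := by
    rw [ab_sgm, ← h1]; exact σ.symm_apply_apply _
  have hk0 : σ⁻¹ k = p.o2 := by rw [← h2]; exact σ.symm_apply_apply _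
  have hg0 : ν σ⁻¹ * g * (ν σ⁻¹)⁻¹ ∈ LB p ν lam p.o2 := by
    have := hLB σ⁻¹ k hg
    rwa [hk0] at this
  have hne : sgm σ⁻¹ a ≠ sgm σ⁻¹ b := by
    intro h
    apply hab
    rw [(sgm σ⁻¹).injective h]
  have hc := hsigns ha0 hb0 t hg0
  have hx : xr p ν lam a b t = ν σ * xr p ν lam (sgm σ⁻¹ a) (sgm σ⁻¹ b) t * (ν σ)⁻¹ := by
    rw [hconj σ hne t, ← Equiv.Perm.mul_apply, ← Equiv.Perm.mul_apply, ← sgm_mul, mul_inv_cancel, sgm_one]
    rfl
  have hgg : g = ν σ * (ν σ⁻¹ * g * (ν σ⁻¹)⁻¹) * (ν σ)⁻¹ := by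
    rw [map_inv]; group
  rw [hx, hgg]
  -- conjugation preserves commutation
  have key : ∀ (c x y : G), Commute x y → Commute (c * x * c⁻¹) (c * y * c⁻¹) := by
    intro c x y hxy
    unfold Commute SemiconjBy at *
    calc c * x * c⁻¹ * (c * y * c⁻¹) = c * (x * y) * c⁻¹ := by group
      _ = c * (y * x) * c⁻¹ := by rw [hxy]
      _ = c * y * c⁻¹ * (c * x * c⁻¹) := by group
  exact key _ _ _ hc

end main

end Cfsg.Agent.Lib.helper3.SPM
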