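import Mathlib
import Cfsg.Agent.Lib.helper3.SPM.Defs
import Cfsg.Agent.Lib.helper3.SPM.Defs2
import Cfsg.Agent.Lib.helper3.SPMX

/-!
# Project SPM (designer helper3, S2292/S2296), rows E7 E8 T6 T7 (helper9), VERBATIM:
`xr_pair`, `lamC_xr`, `d3_signs`, `d3_gen` = the express versions `spmx_*` of `helper3.SPMX`
(which are my cores `spme7_core spme8_core spmt6_core spmt7_core` applied to the landed deps).
-/

set_option autoImplicit false

namespace Cfsg.Agent.Lib.helper3.SPM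

open Cfsg.Agent.Lib.helper3.STC Cfsg.Agent.Lib.helper3.STC.Mat Cfsg.Agent.Lib.helper17.SLP

universe u v w v'

section main
variable {F : Type u} [Field F] {ι : Type w} [Fintype ι] [DecidableEq ι] {G : Type v} [Group G]
  (p : Pts ι) (ν : Equiv.Perm ι →* G) (lam : Sp4 F →* G)

/-- E7 [S]  E5 + E6. -/
theorem xr_pair (H : Glue p ν lam) (hS : SpFacts F) {i j : ι} (hij : i ≠ j) {a' b' : Fin 2 ⊕ Fin 2} (hab' : a' ≠ b') (t : F) :
    lamP p ν lam i j (tm a' b' t) = xr p ν lam (pe2 i j a') (pe2 i j b') t :=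
  spmx_xr_pair p ν lam H hS hij hab' t

/-- E8 [S-M] -/
theorem lamC_xr (H : Glue p ν lam) (hS : SpFacts F) (σ : Equiv.Perm ι) {a' b' : Fin 2 ⊕ Fin 2} (hab' : a' ≠ b') (t : F) :
    lamC ν lam σ (tm a' b' t) = xr p ν lam (sgm σ (pe p a')) (sgm σ (pe p b')) t :=
  spmx_lamC_xr p ν lam H hS σ hab' t

/-- T6 [M] -/
theorem d3_signs [Finite F] (H : Glue p ν lam) (hS : SpFacts F) {a b : ι ⊕ ι} (ha : ab a = p.o0) (hb : ab b = p.o1) (t : F) {g : G}
    (hg : g ∈ LB p ν lam p.o2) : Commute (xr p ν lam a b t) g :=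
  spmx_d3_signs p ν lam H hS ha hb t hg

/-- T7 [S-M] -/
theorem d3_gen [Finite F] (H : Glue p ν lam) (hS : SpFacts F) {a b : ι ⊕ ι} (hab : ab a ≠ ab b) {k : ι} (hka : k ≠ ab a) (hkb : k ≠ ab b)
    (t : F) {g : G} (hg : g ∈ LB p ν lam k) : Commute (xr p ν lam a b t) g :=
  spmx_d3_gen p ν lam H hS hab hka hkb t hg

end main

end Cfsg.Agent.Lib.helper3.SPM
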