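import Cfsg.Agent.Lib.Helper1.TSNTDefs

/-!
# TS NT world, `a ≥ 4`: the local stabiliser lemma behind HTI (helper9)

`tshti_core`: an element `γ ∈ M` which stabilises `L_u = u ⊗ B` and fixes pointwise a set `Wp` with
`L_u^⊥ = Wp + L_u`, `Wp` containing no non-zero pure tensor line `u₁ ⊗ B`-element, is an `A`-transvection
`X_u(e • 1) = t_u(e) ⊗ 1` (uses `StabA M`).
-/

set_option autoImplicit false
set_option linter.unusedSectionVars false
set_option linter.unusedVariables false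

namespace Cfsg.Agent.Lib.Helper21.TS

open Matrix
open scoped Kronecker
open Cfsg.Agent.Lib.helper7.TP

variable {ι : Type*} [Fintype ι] [DecidableEq ι] {a b : ℕ} {F : Type*} [Field F]
  {J1 : Matrix (Fin a) (Fin a) F} {J2 : Matrix (Fin b) (Fin b) F}

theorem tshti_zero_of_bf {J : Matrix ι ι F} (hdet : J.det ≠ 0) {v : ι → F}
    (h : ∀ x, bf J x v = 0) : v = 0 := by
  by_contra hv
  obtain ⟨x, hx⟩ := bf_nondeg' hdet hv
  exact hx (h x)

/-- `x, z ∈ u^⊥` with `f(z, x) ≠ 0` (`a ≥ 3`). -/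
theorem tshti_pair {J : Matrix (Fin a) (Fin a) F} (hJ : Jᵀ = -J) (hdet : J.det ≠ 0) (ha : 3 ≤ a)
    {u : Fin a → F} (hu : u ≠ 0) :
    ∃ x z : Fin a → F, bf J x u = 0 ∧ bf J z u = 0 ∧ bf J z x ≠ 0 := by
  obtain ⟨u', hu'⟩ := bf_nondeg hdet hu
  set f : (Fin a → F) →ₗ[F] (Fin 2 → F) :=
    Matrix.mulVecLin (Matrix.of fun (k : Fin 2) (j : Fin a) =>
      if k = 0 then (J *ᵥ u) j else (J *ᵥ u') j) with hf
  have hker : LinearMap.ker f ≠ ⊥ := by
    apply LinearMap.ker_ne_bot_of_finrank_lt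
    rw [Module.finrank_fin_fun, Module.finrank_fin_fun]
    omega
  obtain ⟨x, hx, hx0⟩ := (Submodule.ne_bot_iff _).mp hker
  have h0 := congrFun (LinearMap.mem_ker.mp hx) 0
  have h1 := congrFun (LinearMap.mem_ker.mp hx) 1
  rw [hf, Matrix.mulVecLin_apply] at h0 h1
  simp only [Matrix.mulVec, Matrix.of_apply, Pi.zero_apply, if_true] at h0
  simp only [Matrix.mulVec, Matrix.of_apply, Pi.zero_apply, one_ne_zero, if_false] at h1
  have hxu : bf J x u = 0 := by
    simp only [bf]; rw [dotProduct_comm]; exact h0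
  have hxu' : bf J x u' = 0 := by
    simp only [bf]; rw [dotProduct_comm]; exact h1
  obtain ⟨z₀, hz₀⟩ := bf_nondeg' hdet hx0
  have hu'u : bf J u' u ≠ 0 := by
    rw [bf_alt hJ]; exact neg_ne_zero.mpr hu'
  have hu'x : bf J u' x = 0 := by
    rw [bf_alt hJ, hxu', neg_zero]
  refine ⟨x, z₀ - (bf J z₀ u / bf J u' u) • u', hxu, ?_, ?_⟩
  · rw [bf_sub_left, bf_smul_left, div_mul_cancel₀ _ hu'u, sub_self]
  · rw [bf_sub_left, bf_smul_left, hu'x, mul_zero, sub_zero]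
    exact hz₀

theorem tshti_ten_eq {v u : Fin a → F} {y y'' : Fin b → F} (hy : y ≠ 0)
    (h : ten v y = ten u y'') : ∃ e : F, v = e • u := by
  obtain ⟨j, hj⟩ := Function.ne_iff.mp hy
  simp only [Pi.zero_apply] at hj
  refine ⟨y'' j / y j, ?_⟩
  funext i
  have := congrFun h (i, j)
  simp only [ten] at this
  simp only [Pi.smul_apply, smul_eq_mul]
  field_simp
  linear_combination this

theorem tshti_ten_zero {u : Fin a → F} {y : Fin b → F} (hu : u ≠ 0) (h : ten u y = 0) : y = 0 := by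
  obtain ⟨i, hi⟩ := Function.ne_iff.mp hu
  simp only [Pi.zero_apply] at hi
  funext j
  have := congrFun h (i, j)
  simp only [ten, Pi.zero_apply] at this
  rcases mul_eq_zero.mp this with h1 | h1
  · exact (hi h1).elim
  · exact h1

theorem tshti_ten_sub_left (u u' : Fin a → F) (w : Fin b → F) : ten (u - u') w = ten u w - ten u' w := by
  funext p; simp only [ten, Pi.sub_apply]; ring

theorem tshti_ten_sub_right (u : Fin a → F) (w w' : Fin b → F) : ten u (w - w') = ten u w - ten u w' := by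
  funext p; simp only [ten, Pi.sub_apply]; ring

/-- `(u^⊥)^⊥ = F u`. -/
theorem tshti_dperp {J : Matrix (Fin a) (Fin a) F} (hJ : Jᵀ = -J) (hdet : J.det ≠ 0)
    {u r : Fin a → F} (hu : u ≠ 0) (h : ∀ x, bf J x u = 0 → bf J x r = 0) : ∃ t : F, r = t • u := by
  obtain ⟨u', hu'⟩ := bf_nondeg' hdet hu
  refine ⟨bf J u' r / bf J u' u, ?_⟩
  have h0 : r - (bf J u' r / bf J u' u) • u = 0 := by
    apply tshti_zero_of_bf hdet
    intro x
    have hx₀ : bf J (x - (bf J x u / bf J u' u) • u') u = 0 := by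
      rw [bf_sub_left, bf_smul_left, div_mul_cancel₀ _ hu', sub_self]
    have h1 := h _ hx₀
    rw [bf_sub_left, bf_smul_left] at h1
    rw [bf_sub_right, bf_smul_right]
    field_simp
    field_simp at h1
    linear_combination h1
  exact sub_eq_zero.mp h0

/-- the local stabiliser lemma. -/
theorem tshti_coreK (C : Ctx J1 J2) (ha : 3 ≤ a) (hb : 1 ≤ b)
    (u : Fin a → F) (hu : u ≠ 0) (Wp : Set (Fin a × Fin b → F))
    (hW2 : ∀ v : Fin a × Fin b → F, (∀ y, bf (JV J1 J2) v (ten u y) = 0) →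
      ∃ y₀ : Fin b → F, v - ten u y₀ ∈ Wp)
    (hW3 : ∀ u1 : Fin a → F, u1 ≠ 0 → ∀ y : Fin b → F, ten u1 y ∈ Wp → y = 0)
    (γ : Matrix.GeneralLinearGroup (Fin a × Fin b) F) (hγK : γ ∈ K0 a b F) (hγS : γ ∈ SpV J1 J2)
    (hγL : ∀ y : Fin b → F, ∃ y' : Fin b → F,
      (γ : Matrix (Fin a × Fin b) (Fin a × Fin b) F) *ᵥ ten u y = ten u y')
    (hγW : ∀ v ∈ Wp, (γ : Matrix (Fin a × Fin b) (Fin a × Fin b) F) *ᵥ v = v) :
    ∃ e : F, (γ : Matrix (Fin a × Fin b) (Fin a × Fin b) F) =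
      XAm J1 u (e • (1 : Matrix (Fin b) (Fin b) F)) := by
  obtain ⟨α, β, hαβ⟩ := (mem_K0 γ).mp hγK
  have hγten : ∀ (x : Fin a → F) (y : Fin b → F),
      (γ : Matrix (Fin a × Fin b) (Fin a × Fin b) F) *ᵥ ten x y =
        ten ((α : Matrix (Fin a) (Fin a) F) *ᵥ x) ((β : Matrix (Fin b) (Fin b) F) *ᵥ y) := by
    intro x y; rw [hαβ, kron_mulVec_ten]
  have huu : bf J1 u u = 0 := bf_self_alt C.alt C.two u
  -- a non-zero vector of `B`
  obtain ⟨y1, hy1⟩ : ∃ y1 : Fin b → F, y1 ≠ 0 := by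
    refine ⟨fun _ => 1, ?_⟩
    intro h
    have := congrFun h ⟨0, by omega⟩
    simp at this
  -- Step A
  have hA : ∀ x : Fin a → F, bf J1 x u = 0 → ∀ y : Fin b → F, ∃ y'' : Fin b → F,
      ten ((α : Matrix (Fin a) (Fin a) F) *ᵥ x) ((β : Matrix (Fin b) (Fin b) F) *ᵥ y) =
        ten x y + ten u y'' := by
    intro x hx y
    have hperp : ∀ y', bf (JV J1 J2) (ten x y) (ten u y') = 0 := by
      intro y'; rw [bf_JV_ten, hx, zero_mul]
    obtain ⟨y₀, hy₀⟩ := hW2 _ hperp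
    obtain ⟨y₀', hy₀'⟩ := hγL y₀
    have h1 := hγW _ hy₀
    rw [Matrix.mulVec_sub, hy₀', hγten] at h1
    refine ⟨y₀' - y₀, ?_⟩
    rw [tshti_ten_sub_right]
    linear_combination (norm := module) h1
  -- Step B : `β` is a scalar
  obtain ⟨x, z, hxu, hzu, hzx⟩ := tshti_pair C.alt C.det1 ha hu
  have hB : ∀ y : Fin b → F,
      bf J1 z ((α : Matrix (Fin a) (Fin a) F) *ᵥ x) • ((β : Matrix (Fin b) (Fin b) F) *ᵥ y) =
        bf J1 z x • y := by
    intro y
    obtain ⟨y'', h⟩ := hA x hxu y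
    have h0 : bf J1 z ((α : Matrix (Fin a) (Fin a) F) *ᵥ x) • ((β : Matrix (Fin b) (Fin b) F) *ᵥ y) -
        bf J1 z x • y = 0 := by
      apply tshti_zero_of_bf C.det2
      intro y₁
      have h2 := congrArg (fun v => bf (JV J1 J2) (ten z y₁) v) h
      simp only [bf_add_right, bf_JV_ten, hzu, zero_mul, add_zero] at h2
      rw [bf_sub_right, bf_smul_right, bf_smul_right, h2, sub_self]
    exact sub_eq_zero.mp h0
  have hc1 : bf J1 z ((α : Matrix (Fin a) (Fin a) F) *ᵥ x) ≠ 0 := by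
    intro h0
    have := hB y1
    rw [h0, zero_smul] at this
    rcases smul_eq_zero.mp this.symm with h1 | h1
    · exact hzx h1
    · exact hy1 h1
  set μ : F := bf J1 z x / bf J1 z ((α : Matrix (Fin a) (Fin a) F) *ᵥ x) with hμ
  have hμ0 : μ ≠ 0 := div_ne_zero hzx hc1
  have hβ : ∀ y : Fin b → F, (β : Matrix (Fin b) (Fin b) F) *ᵥ y = μ • y := by
    intro y
    have := hB y
    rw [hμ, div_eq_inv_mul, ← smul_smul, ← this, smul_smul, inv_mul_cancel₀ hc1, one_smul]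
  -- Step C
  set α₁ : Matrix (Fin a) (Fin a) F := μ • (α : Matrix (Fin a) (Fin a) F) with hα₁
  have hγten' : ∀ (x : Fin a → F) (y : Fin b → F),
      (γ : Matrix (Fin a × Fin b) (Fin a × Fin b) F) *ᵥ ten x y = ten (α₁ *ᵥ x) y := by
    intro x y
    rw [hγten, hβ, ten_smul_right, hα₁, Matrix.smul_mulVec, ten_smul_left]
  have hε : ∀ x : Fin a → F, bf J1 x u = 0 → ∃ e : F, α₁ *ᵥ x = x + e • u := by
    intro x hx
    obtain ⟨y'', h⟩ := hA x hx y1
    rw [← hγten, hγten'] at h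
    have h2 : ten (α₁ *ᵥ x - x) y1 = ten u y'' := by
      rw [tshti_ten_sub_left, h]; abel
    obtain ⟨e, he⟩ := tshti_ten_eq hy1 h2
    exact ⟨e, by rw [← he]; abel⟩
  obtain ⟨d', hd'⟩ := hε u huu
  -- Step D
  have hD : ∀ (x : Fin a → F) (e : F), bf J1 x u = 0 → α₁ *ᵥ x = x + e • u →
      ∀ y : Fin b → F, ∃ y₀ : Fin b → F, ten x y - ten u y₀ ∈ Wp ∧ e • y = d' • y₀ := by
    intro x e hx hxe y
    have hperp : ∀ y', bf (JV J1 J2) (ten x y) (ten u y') = 0 := by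
      intro y'; rw [bf_JV_ten, hx, zero_mul]
    obtain ⟨y₀, hy₀⟩ := hW2 _ hperp
    refine ⟨y₀, hy₀, ?_⟩
    have h1 := hγW _ hy₀
    rw [Matrix.mulVec_sub, hγten', hγten', hxe, hd'] at h1
    have h2 : ten u (e • y - d' • y₀) = 0 := by
      rw [tshti_ten_sub_right, ten_smul_right, ten_smul_right]
      rw [ten_add_left, ten_add_left, ten_smul_left, ten_smul_left] at h1
      linear_combination (norm := module) h1
    exact sub_eq_zero.mp (tshti_ten_zero hu h2)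
  by_cases hd0 : d' = 0
  · -- `α₁` is the identity on `u^⊥`
    have hfix : ∀ x : Fin a → F, bf J1 x u = 0 → α₁ *ᵥ x = x := by
      intro x hx
      obtain ⟨e, he⟩ := hε x hx
      obtain ⟨y₀, _, h2⟩ := hD x e hx he y1
      rw [hd0, zero_smul] at h2
      rcases smul_eq_zero.mp h2 with h3 | h3
      · rw [he, h3, zero_smul, add_zero]
      · exact (hy1 h3).elim
    -- `α₁` is an isometry
    obtain ⟨y2, hy2⟩ := bf_nondeg C.det2 hy1
    have hiso : ∀ x x' : Fin a → F, bf J1 (α₁ *ᵥ x) (α₁ *ᵥ x') = bf J1 x x' := by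
      intro x x'
      have h1 := (mem_Iso_iff_bf (JV J1 J2) γ).mp hγS (ten x y1) (ten x' y2)
      rw [hγten', hγten', bf_JV_ten, bf_JV_ten] at h1
      exact mul_right_cancel₀ hy2 h1
    obtain ⟨u', hu'⟩ := bf_nondeg C.det1 hu
    have hu'u : bf J1 u' u ≠ 0 := by
      rw [bf_alt C.alt]; exact neg_ne_zero.mpr hu'
    obtain ⟨t, ht⟩ := tshti_dperp C.alt C.det1 hu (r := α₁ *ᵥ u' - u') (by
      intro x hx
      have h1 := hiso x u'
      rw [hfix x hx] at h1
      rw [bf_sub_right, h1, sub_self])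
    have hu'α : α₁ *ᵥ u' = u' + t • u := by rw [← ht]; abel
    refine ⟨t / bf J1 u u', ?_⟩
    have hα₁tv : α₁ = tvm J1 u (t / bf J1 u u') := by
      rw [Matrix.ext_iff_mulVec]
      intro x
      have hx₀ : bf J1 (x - (bf J1 x u / bf J1 u' u) • u') u = 0 := by
        rw [bf_sub_left, bf_smul_left, div_mul_cancel₀ _ hu'u, sub_self]
      have hdec : x = (x - (bf J1 x u / bf J1 u' u) • u') + (bf J1 x u / bf J1 u' u) • u' := by abel
      rw [tvm_mulVec]
      conv_lhs => rw [hdec]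
      rw [Matrix.mulVec_add, Matrix.mulVec_smul, hfix _ hx₀, hu'α]
      have e1 : bf J1 u x = -bf J1 x u := bf_alt C.alt u x
      have e2 : bf J1 u' u = -bf J1 u u' := bf_alt C.alt u' u
      rw [e1, e2]
      have hne : bf J1 u u' ≠ 0 := hu'
      have hcoef : bf J1 x u / -bf J1 u u' * t = t / bf J1 u u' * -bf J1 x u := by
        field_simp
      rw [smul_add, smul_smul, hcoef]
      abel
    rw [XAm_scalar, ← hα₁tv, hαβ]
    have hβ1 : (β : Matrix (Fin b) (Fin b) F) = μ • (1 : Matrix (Fin b) (Fin b) F) := by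
      rw [Matrix.ext_iff_mulVec]
      intro y
      rw [hβ, Matrix.smul_mulVec, Matrix.one_mulVec]
    rw [hβ1, hα₁, Matrix.kronecker_smul, Matrix.smul_kronecker]
  · -- `d' ≠ 0`: a pure tensor line inside `Wp`
    exfalso
    obtain ⟨e, he⟩ := hε x hxu
    obtain ⟨y₀, hy₀, h2⟩ := hD x e hxu he y1
    have hy₀' : y₀ = (e / d') • y1 := by
      rw [div_eq_inv_mul, ← smul_smul, h2, smul_smul, inv_mul_cancel₀ hd0, one_smul]
    have hmem : ten (x - (e / d') • u) y1 ∈ Wp := by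
      rw [tshti_ten_sub_left, ten_smul_left, ← ten_smul_right, ← hy₀']
      exact hy₀
    have hu1 : x - (e / d') • u ≠ 0 := by
      intro h0
      have hx' : x = (e / d') • u := sub_eq_zero.mp h0
      apply hzx
      rw [hx', bf_smul_right, hzu, mul_zero]
    exact hy1 (hW3 _ hu1 y1 hmem)

/-- the version with `StabA M`. -/
theorem tshti_core (C : Ctx J1 J2) (ha : 3 ≤ a) (hb : 1 ≤ b)
    {M : Subgroup (Matrix.GeneralLinearGroup (Fin a × Fin b) F)} (hMS : M ≤ SpV J1 J2)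
    (hStab : StabA M) (u : Fin a → F) (hu : u ≠ 0) (Wp : Set (Fin a × Fin b → F))
    (hW2 : ∀ v : Fin a × Fin b → F, (∀ y, bf (JV J1 J2) v (ten u y) = 0) →
      ∃ y₀ : Fin b → F, v - ten u y₀ ∈ Wp)
    (hW3 : ∀ u1 : Fin a → F, u1 ≠ 0 → ∀ y : Fin b → F, ten u1 y ∈ Wp → y = 0)
    (γ : Matrix.GeneralLinearGroup (Fin a × Fin b) F) (hγM : γ ∈ M)
    (hγL : ∀ y : Fin b → F, ∃ y' : Fin b → F,
      (γ : Matrix (Fin a × Fin b) (Fin a × Fin b) F) *ᵥ ten u y = ten u y')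
    (hγW : ∀ v ∈ Wp, (γ : Matrix (Fin a × Fin b) (Fin a × Fin b) F) *ᵥ v = v) :
    ∃ e : F, (γ : Matrix (Fin a × Fin b) (Fin a × Fin b) F) =
      XAm J1 u (e • (1 : Matrix (Fin b) (Fin b) F)) :=
  tshti_coreK C ha hb u hu Wp hW2 hW3 γ (hStab γ hγM u u hu hu hγL) (hMS hγM) hγL hγW

end Cfsg.Agent.Lib.Helper21.TS
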