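import Mathlib
import Cfsg.Agent.Lib.helper3.BSZ.Defs

set_option autoImplicit false

/-!
# Project BSZ (designer helper3), rows G02 `main_zero`, G03 `main_sz` (helper9): cores on the
statements of G01 `main_step`, A01 `binary_bot`, B07 `sylCen_binary`.
-/

namespace Cfsg.Agent.Lib.helper3.BSZ

open Cfsg Cfsg.Agent.Lib.helper3

/-- G02 on the statement of G01 (at universe 0) -/
theorem bszg02_core
    (hstep : ∀ (m : ℕ) (F : Type) [Field F] [Fintype F] (hF : Fintype.card F = 2 ^ (2 * m + 1))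
      (_ : 1 ≤ m)
      (_ : ∀ (K : Type) [Field K] [Fintype K] (k : ℕ), Fintype.card K = 2 ^ (2 * k + 1) → 1 ≤ k →
        k < m → ∀ H' : Subgroup (Sz K k), H' ≠ ⊤ → BinH H' → (H' = ⊥ ∨ IsSylCen H'))
      (H : Subgroup (Sz F m)), H ≠ ⊤ → BinH H → (H = ⊥ ∨ IsSylCen H)) :
    ∀ (m : ℕ) (K : Type) [Field K] [Fintype K], Fintype.card K = 2 ^ (2 * m + 1) → 1 ≤ m →
      ∀ H : Subgroup (Sz K m), H ≠ ⊤ → BinH H → (H = ⊥ ∨ IsSylCen H) := by
  intro m
  induction m using Nat.strong_induction_on with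
  | _ m ih =>
    intro K _ _ hK hm H hH hB
    exact hstep m K hK hm (fun K' _ _ k hK' hk hkm => ih k hkm K' hK' hk) H hH hB

/-- G03 on the statements of the cited rows -/
theorem bszg03_core {F : Type*} [Field F] [Fintype F] {m : ℕ}
    (hF : Fintype.card F = 2 ^ (2 * m + 1)) (hm : 1 ≤ m) (H : Subgroup (Sz F m)) (hH : H ≠ ⊤)
    (hstep : (∀ (K : Type) [Field K] [Fintype K] (k : ℕ), Fintype.card K = 2 ^ (2 * k + 1) → 1 ≤ k →
        k < m → ∀ H' : Subgroup (Sz K k), H' ≠ ⊤ → BinH H' → (H' = ⊥ ∨ IsSylCen H')) →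
      H ≠ ⊤ → BinH H → (H = ⊥ ∨ IsSylCen H))
    (hzero : ∀ (m : ℕ) (K : Type) [Field K] [Fintype K], Fintype.card K = 2 ^ (2 * m + 1) → 1 ≤ m →
      ∀ H : Subgroup (Sz K m), H ≠ ⊤ → BinH H → (H = ⊥ ∨ IsSylCen H))
    (hbot : BinH (⊥ : Subgroup (Sz F m)))
    (hcen : IsSylCen H → BinH H) :
    BinH H ↔ (H = ⊥ ∨ IsSylCen H) := by
  constructor
  · intro hB
    exact hstep (fun K _ _ k hK hk _ => hzero k K hK hk) hH hB
  · rintro (rfl | h)
    · exact hbot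
    · exact hcen h

end Cfsg.Agent.Lib.helper3.BSZ
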