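import Mathlib
import Cfsg.Agent.Lib.helper3.BSZ.Defs
import Cfsg.Agent.Lib.Helper9.BSZG02core
import Cfsg.Agent.Lib.helper3.BSZG01
import Cfsg.Agent.Lib.Helper5.BSZA01
import Cfsg.Agent.Lib.Helper11.BSZB06

set_option autoImplicit false

/-!
# Project BSZ (designer helper3), rows G02 `main_zero`, G03 `main_sz` (helper9), verbatim.
-/

namespace Cfsg.Agent.Lib.helper3.BSZ

open Cfsg Cfsg.Agent.Lib.helper3

variable {F : Type*} [Field F] [Fintype F] {m : ℕ}

/-- G02 [S] (cites G01): strong induction on `m` in universe `0`. -/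
theorem main_zero : ∀ (m : ℕ) (K : Type) [Field K] [Fintype K], Fintype.card K = 2 ^ (2 * m + 1) → 1 ≤ m →
    ∀ H : Subgroup (Sz K m), H ≠ ⊤ → BinH H → (H = ⊥ ∨ IsSylCen H) :=
  bszg02_core (fun _ _ _ _ hF hm IH H hH hB => main_step hF hm IH H hH hB)

/-- G03 [S] (cites A01, B07, G01, G02). -/
theorem main_sz (hF : Fintype.card F = 2 ^ (2 * m + 1)) (hm : 1 ≤ m) (H : Subgroup (Sz F m)) (hH : H ≠ ⊤) :
    BinH H ↔ (H = ⊥ ∨ IsSylCen H) :=
  bszg03_core hF hm H hH (fun IH hH hB => main_step hF hm IH H hH hB) main_zero binary_bot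
    (fun h => sylCen_binary hF hm h)

end Cfsg.Agent.Lib.helper3.BSZ
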