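import Mathlib
import Cfsg.Prelude.Def_CaseTheorems
import Cfsg.Agent.Lib.Helper9.CycNorm2

set_option autoImplicit false

namespace Cfsg.Agent.Lib.Helper9

section CycNorm3
variable {P : Type*} [Group P]

/-- an elementary abelian subgroup of order `p²` is not cyclic -/
theorem cn_not_cyclic_of_ea {p : ℕ} [hp : Fact p.Prime] (U : Subgroup P)
    (hU : Cfsg.IsElementaryAbelian p U) (hUc : Nat.card U = p ^ 2) : ¬ IsCyclic U := by
  intro hcyc
  obtain ⟨e, he⟩ := (Subgroup.isCyclic_iff_exists_zpowers_eq_top U).mp hcyc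
  have heU : e ∈ U := he ▸ Subgroup.mem_zpowers e
  have h1 : orderOf e ∣ p := orderOf_dvd_of_pow_eq_one (hU.2 e heU)
  have h2 : Nat.card U = orderOf e := by rw [← he, Nat.card_zpowers]
  have h3 := Nat.le_of_dvd hp.out.pos h1
  have := hp.out.one_lt
  rw [hUc] at h2
  nlinarith

theorem cn_main_two [Finite P] (hP : IsPGroup 2 P)
    (hn : ∀ A : Subgroup P, A.Normal → IsMulCommutative A → IsCyclic A)
    (hm : ∃ B : Subgroup P, IsMulCommutative B ∧ ¬ IsCyclic B) :
    (∃ n : ℕ, Nonempty (P ≃* QuaternionGroup n)) ∨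
      (∃ n : ℕ, 8 ≤ n ∧ Nonempty (P ≃* DihedralGroup n)) ∨ Cfsg.IsQuasiDihedral P := by
  haveI : Fact (Nat.Prime 2) := ⟨Nat.prime_two⟩
  haveI hnil : Group.IsNilpotent P := hP.isNilpotent
  obtain ⟨B₀, hB₀c, hB₀nc⟩ := hm
  have hno4 : ¬ ∃ U : Subgroup P, U.Normal ∧ Cfsg.IsElementaryAbelian 2 U ∧
      Nat.card U = 2 ^ 2 := by
    rintro ⟨U, hUn, hUea, hUc⟩
    exact cn_not_cyclic_of_ea U hUea hUc (hn U hUn hUea.1)
  obtain ⟨A, hAmem, hAmax⟩ :=
    (Set.toFinite {A : Subgroup P | A.Normal ∧ IsMulCommutative A}).exists_maximal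
      ⟨⊥, inferInstance, inferInstance⟩
  obtain ⟨hAn, hAcomm⟩ := hAmem
  haveI := hAn
  have hCA : Subgroup.centralizer (A : Set P) = A :=
    Cfsg.Agent.Lib.Helper1.centralizer_eq_self_of_max_abelian_normal A (by
      intro M hMn hMc hAM
      exact le_antisymm (hAmax ⟨hMn, hMc⟩ hAM) hAM)
  have hAc : ∀ a ∈ A, ∀ b ∈ A, a * b = b * a :=
    (Cfsg.Agent.Lib.Helper1.isMulCommutative_subgroup_iff A).mp hAcomm
  have hAcyc : IsCyclic A := hn A hAn hAcomm
  obtain ⟨a, haA⟩ := (Subgroup.isCyclic_iff_exists_zpowers_eq_top A).mp hAcyc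
  obtain ⟨n, hord⟩ := (IsPGroup.iff_orderOf.mp hP) a
  have hAcard : Nat.card A = 2 ^ n := by rw [← haA, Nat.card_zpowers, hord]
  -- `A ≠ ⊤`
  have hAtop : A ≠ ⊤ := by
    intro h
    apply hB₀nc
    haveI : IsCyclic P := isCyclic_iff_exists_zpowers_eq_top.mpr ⟨a, haA.trans h⟩
    exact Subgroup.isCyclic B₀
  have haA' : a ∈ A := haA ▸ Subgroup.mem_zpowers a
  -- elements centralizing `a` lie in `A`
  have hcent_a : ∀ g : P, g * a = a * g → g ∈ A := by
    intro g hg
    rw [← hCA, Subgroup.mem_centralizer_iff]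
    intro u hu
    rw [← haA] at hu
    obtain ⟨i, rfl⟩ := Subgroup.mem_zpowers_iff.mp hu
    exact ((show Commute g a from hg).zpow_right i).eq.symm
  -- `n ≥ 2`
  have hn2 : 2 ≤ n := by
    by_contra hlt
    apply hAtop
    rw [eq_top_iff]
    intro g _
    apply hcent_a
    have hga : g * a * g⁻¹ ∈ A := hAn.conj_mem a haA' g
    have ha2 : a * a = 1 := by
      have : n = 0 ∨ n = 1 := by omega
      rcases this with h | h
      · rw [h, pow_zero, orderOf_eq_one_iff] at hord; rw [hord]; simp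
      · rw [h, pow_one] at hord
        rw [← pow_two, ← hord]; exact pow_orderOf_eq_one a
    rw [← haA] at hga
    have ha2' : a ^ 2 = 1 := by rw [pow_two]; exact ha2
    rcases Cfsg.Agent.Lib.Helper18.E8C.zpowers_eq_of_sq ha2' hga with h | h
    · have : a = 1 := by
        have : a = g⁻¹ * (g * a * g⁻¹) * g := by group
        rw [this, h]; group
      rw [this]; simp
    · calc g * a = (g * a * g⁻¹) * g := by group
        _ = a * g := by rw [h]
  set z := a ^ 2 ^ (n - 1) with hz
  set b := a ^ 2 ^ (n - 2) with hb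
  have hzA : z ∈ A := A.pow_mem haA' _
  have hbA : b ∈ A := A.pow_mem haA' _
  have hz1 : z ≠ 1 := cn_pow_half_ne_one a n (by omega) hord
  have hzz : z * z = 1 := by
    have := cn_pow_half_sq a n (by omega) hord
    rwa [pow_two] at this
  have hbb : b * b = z := cn_quarter_sq a n hn2
  have hb4 : b ^ 4 = 1 := by
    calc b ^ 4 = (b * b) * (b * b) := by rw [show (4 : ℕ) = 2 + 2 from rfl, pow_add, pow_two]
      _ = 1 := by rw [hbb, hzz]
  have hbb1 : b * b ≠ 1 := by rw [hbb]; exact hz1
  have huniq : ∀ v ∈ A, v * v = 1 → v = 1 ∨ v = z := by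
    intro v hv
    rw [← haA] at hv
    exact cn_uniq_invol a n (by omega) hord v hv
  have hfour : ∀ v ∈ A, v ^ 4 = 1 → v ∈ Subgroup.zpowers b := by
    intro v hv
    rw [← haA] at hv
    exact cn_mem_of_pow_four a n hn2 hord v hv
  -- conjugates of `b`
  have hconjb : ∀ g : P, g * b * g⁻¹ = b ∨ g * b * g⁻¹ = b⁻¹ := by
    intro g
    have h1 : g * b * g⁻¹ ∈ A := hAn.conj_mem b hbA g
    have h2 : (g * b * g⁻¹) ^ 4 = 1 := by rw [conj_pow, hb4]; group
    have h3 : (g * b * g⁻¹) * (g * b * g⁻¹) ≠ 1 := by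
      intro h
      apply hbb1
      have : b * b = g⁻¹ * ((g * b * g⁻¹) * (g * b * g⁻¹)) * g := by group
      rw [this, h]; group
    exact cn_gen_of_order_four b hb4 _ (hfour _ h1 h2) h3
  -- the centralizer of `b`
  set C := Subgroup.centralizer ({b} : Set P) with hC
  have hmemC : ∀ g : P, g ∈ C ↔ g * b = b * g := fun g => Subgroup.mem_centralizer_singleton_iff
  have hAC : A ≤ C := by
    intro u hu
    rw [hmemC]
    exact hAc u hu b hbA
  have hCn : C.Normal := by
    constructor
    intro c hc g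
    rw [hmemC] at hc ⊢
    have hcb : c * b⁻¹ = b⁻¹ * c := by
      have : c * b⁻¹ = b⁻¹ * (b * c) * b⁻¹ := by group
      rw [this, ← hc]; group
    have key : ∀ d : P, c * d = d * c → (g * c * g⁻¹) * (g * d * g⁻¹) = (g * d * g⁻¹) * (g * c * g⁻¹) := by
      intro d hd
      calc (g * c * g⁻¹) * (g * d * g⁻¹) = g * (c * d) * g⁻¹ := by group
        _ = g * (d * c) * g⁻¹ := by rw [hd]
        _ = (g * d * g⁻¹) * (g * c * g⁻¹) := by group
    rcases hconjb g⁻¹ with h | h
    · have h' : g * b * g⁻¹ = b := by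
        calc g * b * g⁻¹ = g * (g⁻¹ * b * g⁻¹⁻¹) * g⁻¹ := by rw [h]
          _ = b := by group
      have := key b hc
      rwa [h'] at this
    · have h' : g * b⁻¹ * g⁻¹ = b := by
        calc g * b⁻¹ * g⁻¹ = g * (g⁻¹ * b * g⁻¹⁻¹) * g⁻¹ := by rw [h]
          _ = b := by group
      have := key b⁻¹ hcb
      rwa [h'] at this
  -- `C = A`
  have hCA' : C = A := by
    by_contra hne
    haveI := hCn
    obtain ⟨x, hxC, hxA, hx2, hxc⟩ := cn_exists_central_mod hP C A hAC (Ne.symm hne)
    rw [hmemC] at hxC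
    have hx2' : x * x ∈ A := by rw [← pow_two]; exact hx2
    -- `x` centralizes the elements of order dividing 4
    have hx4 : ∀ v ∈ A, v ^ 4 = 1 → x * v = v * x := by
      intro v hv hv4
      obtain ⟨i, rfl⟩ := Subgroup.mem_zpowers_iff.mp (hfour v hv hv4)
      exact ((show Commute x b from hxC).zpow_right i).eq
    -- the commutator `u = a⁻¹ x a x⁻¹`
    set u := a⁻¹ * (x * a * x⁻¹) with hu
    have huA : u ∈ A := A.mul_mem (A.inv_mem haA') (hAn.conj_mem a haA' x)
    have hxa : x * a * x⁻¹ = a * u := by rw [hu]; group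
    have hxu : x * u * x⁻¹ = u⁻¹ := by
      have h1 : (x * x) * a = a * (x * x) := hAc _ hx2' a haA'
      have h2 : x * (a * u) * x⁻¹ = a := by
        rw [← hxa]
        calc x * (x * a * x⁻¹) * x⁻¹ = ((x * x) * a) * (x⁻¹ * x⁻¹) := by group
          _ = (a * (x * x)) * (x⁻¹ * x⁻¹) := by rw [h1]
          _ = a := by group
      have h3 : x * (a * u) * x⁻¹ = (x * a * x⁻¹) * (x * u * x⁻¹) := by group
      rw [h3, hxa] at h2
      have : x * u * x⁻¹ = (a * u)⁻¹ * (a * u * (x * u * x⁻¹)) := by group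
      rw [h2] at this
      rw [this]
      group
    have huu : u * u = 1 := by
      by_contra huu
      obtain ⟨j, hj1, hj2⟩ := Cfsg.Agent.Lib.Helper18.NormalFour.exists_order_four hP u huu
      have hvA : u ^ j ∈ A := A.pow_mem huA j
      have hv4 : (u ^ j) ^ 4 = 1 := by
        rw [show (4 : ℕ) = 2 + 2 from rfl, pow_add, pow_two]; exact hj2
      have h1 := hx4 _ hvA hv4
      have h2 : x * u ^ j * x⁻¹ = (u ^ j)⁻¹ := by
        rw [← conj_pow, hxu, inv_pow]
      apply hj1
      have h3 : x * u ^ j * x⁻¹ = u ^ j := by rw [h1]; group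
      rw [h3] at h2
      calc u ^ j * u ^ j = u ^ j * (u ^ j)⁻¹ := by rw [← h2]
        _ = 1 := mul_inv_cancel _
    have hu1 : u ≠ 1 := by
      intro h
      apply hxA
      apply hcent_a
      rw [h, mul_one] at hxa
      calc x * a = (x * a * x⁻¹) * x := by group
        _ = a * x := by rw [hxa]
    have huz : u = z := (huniq u huA huu).resolve_left hu1
    rw [huz] at hxa
    -- action on all of `A`
    have hzc : ∀ t ∈ A, z * t = t * z := fun t ht => hAc z hzA t ht
    have hxt : ∀ t ∈ A, x * t * x⁻¹ = t ∨ x * t * x⁻¹ = t * z := by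
      intro t ht
      rw [← haA] at ht
      obtain ⟨i, rfl⟩ := Subgroup.mem_zpowers_iff.mp ht
      have h1 : x * a ^ i * x⁻¹ = (a * z) ^ i := by
        rw [← hxa]
        have := map_zpow (MulAut.conj x) a i
        simp only [MulAut.conj_apply] at this
        exact this
      have haz : Commute a z := (hAc a haA' z hzA)
      rw [h1, haz.mul_zpow]
      have hz2 : z ^ 2 = 1 := by rw [pow_two]; exact hzz
      rcases Cfsg.Agent.Lib.Helper18.E8C.zpowers_eq_of_sq hz2 (Subgroup.zpow_mem_zpowers z i)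
        with h | h
      · left; rw [h, mul_one]
      · right; rw [h]
    -- `x²` is a square in `A`
    obtain ⟨r, hrA, hxr⟩ : ∃ r ∈ A, x * x = r * r := by
      have h1 := hx2'
      rw [← haA] at h1
      obtain ⟨i, hi⟩ := Subgroup.mem_zpowers_iff.mp h1
      have h2 : x * a ^ i * x⁻¹ = (a * z) ^ i := by
        rw [← hxa]
        have := map_zpow (MulAut.conj x) a i
        simp only [MulAut.conj_apply] at this
        exact this
      have haz : Commute a z := (hAc a haA' z hzA)
      rw [haz.mul_zpow, hi] at h2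
      have h3 : x * (x * x) * x⁻¹ = x * x := by group
      rw [h3] at h2
      have h4 : z ^ i = 1 := by
        have : z ^ i = (x * x)⁻¹ * (x * x * z ^ i) := by group
        rw [this, ← h2]; group
      have hoz : orderOf z = 2 := orderOf_eq_prime (by rw [pow_two]; exact hzz) hz1
      have h5 : ((orderOf z : ℕ) : ℤ) ∣ i := orderOf_dvd_iff_zpow_eq_one.mpr h4
      rw [hoz] at h5
      obtain ⟨k, rfl⟩ := h5
      refine ⟨a ^ k, A.zpow_mem haA' k, ?_⟩
      rw [← hi, ← zpow_add]
      congr 1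
      push_cast
      ring
    exact hno4 (cn_four_of_modular A hAc z b hzA hz1 hbA hbb hzz huniq x hxA hx4 hxt r hrA hxr hxc)
  -- index two
  have hhalf := Cfsg.Agent.Lib.Helper18.NormalFour.half_card (⊤ : Subgroup P) C (by
    intro g _ h _ hg hh
    rw [hmemC] at hg hh ⊢
    have h1 : g * b * g⁻¹ = b⁻¹ := (hconjb g).resolve_left (fun h => hg (by
      calc g * b = (g * b * g⁻¹) * g := by group
        _ = b * g := by rw [h]))
    have h2 : h * b * h⁻¹ = b⁻¹ := (hconjb h).resolve_left (fun h' => hh (by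
      calc h * b = (h * b * h⁻¹) * h := by group
        _ = b * h := by rw [h']))
    have h3 : (g * h) * b * (g * h)⁻¹ = b := by
      calc (g * h) * b * (g * h)⁻¹ = g * (h * b * h⁻¹) * g⁻¹ := by group
        _ = g * b⁻¹ * g⁻¹ := by rw [h2]
        _ = (g * b * g⁻¹)⁻¹ := by group
        _ = b := by rw [h1, inv_inv]
    calc (g * h) * b = ((g * h) * b * (g * h)⁻¹) * (g * h) := by group
      _ = b * (g * h) := by rw [h3])
  have hcardP : Nat.card P ≤ 2 * 2 ^ n := by
    have : Nat.card (⊤ : Subgroup P) = Nat.card P := Subgroup.card_top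
    rw [top_inf_eq, hCA', hAcard, this] at hhalf
    exact hhalf
  have hidx : A.index = 2 := by
    have h1 := Subgroup.card_mul_index A
    rw [hAcard] at h1
    have h2 : A.index ≠ 1 := fun h => hAtop (Subgroup.index_eq_one.mp h)
    have h3 : A.index ≠ 0 := Subgroup.index_ne_zero_of_finite
    have h4 : 2 ^ n * A.index ≤ 2 * 2 ^ n := by rw [h1]; exact hcardP
    have h5 : 0 < 2 ^ n := by positivity
    have h6 : A.index ≤ 2 := by
      by_contra hcon
      push Not at hcon
      have : 2 ^ n * 3 ≤ 2 ^ n * A.index := Nat.mul_le_mul_left _ hcon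
      omega
    omega
  have hcardP' : Nat.card P = 2 ^ (n + 1) := by
    rw [← Subgroup.card_mul_index A, hAcard, hidx, pow_succ]
  obtain ⟨g, hg⟩ : ∃ g : P, g ∉ A := by
    by_contra hall
    push Not at hall
    exact hAtop (eq_top_iff.mpr (fun x _ => hall x))
  have hgC : ¬ g * b = b * g := by
    rw [← hmemC, hCA']; exact hg
  -- the centralizer of `g` in `A` has order at most 2
  have hcent : Nat.card ↥(Subgroup.zpowers a ⊓ Subgroup.centralizer ({g} : Set P)) ≤ 2 := by
    have hle : Subgroup.zpowers a ⊓ Subgroup.centralizer ({g} : Set P) ≤ Subgroup.zpowers z := by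
      rintro v ⟨hvA, hvg⟩
      have hvA' : v ∈ A := haA ▸ hvA
      have hvg' : v * g = g * v := Subgroup.mem_centralizer_singleton_iff.mp hvg
      have hvv : v * v = 1 := by
        by_contra hvv
        obtain ⟨j, hj1, hj2⟩ := Cfsg.Agent.Lib.Helper18.NormalFour.exists_order_four hP v hvv
        have hwA : v ^ j ∈ A := A.pow_mem hvA' j
        have hw4 : (v ^ j) ^ 4 = 1 := by
          rw [show (4 : ℕ) = 2 + 2 from rfl, pow_add, pow_two]; exact hj2
        have hwg : Commute (v ^ j) g := (show Commute v g from hvg').pow_left j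
        rcases cn_gen_of_order_four b hb4 _ (hfour _ hwA hw4) hj1 with h | h
        · rw [h] at hwg
          exact hgC hwg.eq.symm
        · rw [h] at hwg
          exact hgC (Commute.inv_left_iff.mp hwg).eq.symm
      rcases huniq v hvA' hvv with h | h
      · rw [h]; exact Subgroup.one_mem _
      · rw [h]; exact Subgroup.mem_zpowers z
    have hzc : Nat.card (Subgroup.zpowers z) = 2 := by
      rw [Nat.card_zpowers]
      exact orderOf_eq_prime (by rw [pow_two]; exact hzz) hz1
    exact (Subgroup.card_le_of_le hle).trans hzc.le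
  have hidx' : (Subgroup.zpowers a).index = 2 := by rw [haA]; exact hidx
  have hg' : g ∉ Subgroup.zpowers a := by rw [haA]; exact hg
  -- exclude `n = 2`
  have hn3 : 3 ≤ n := by
    by_contra hlt
    have hn2' : n = 2 := by omega
    rw [hn2'] at hcardP'
    -- `B₀` is normal
    have hdvd : Nat.card B₀ ∣ 8 := by
      have := Subgroup.card_subgroup_dvd_card B₀
      rw [hcardP'] at this
      exact this
    have hB₀n : B₀.Normal := by
      have hmul := Subgroup.card_mul_index B₀
      rw [hcardP'] at hmul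
      have h8 : Nat.card B₀ ∈ Nat.divisors 8 := Nat.mem_divisors.mpr ⟨hdvd, by norm_num⟩
      have hdiv : Nat.divisors 8 = {1, 2, 4, 8} := by decide
      rw [hdiv] at h8
      simp only [Finset.mem_insert, Finset.mem_singleton] at h8
      rcases h8 with h | h | h | h
      · exfalso; apply hB₀nc
        have : B₀ = ⊥ := Subgroup.card_eq_one.mp h
        rw [this]; infer_instance
      · exfalso; apply hB₀nc
        exact isCyclic_of_prime_card (p := 2) h
      · apply Subgroup.normal_of_index_eq_two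
        rw [h] at hmul
        omega
      · have : B₀ = ⊤ := Subgroup.eq_top_of_card_eq _ (by rw [h, hcardP']; norm_num)
        rw [this]; infer_instance
    exact hB₀nc (hn B₀ hB₀n hB₀c)
  obtain ⟨hwo, hcases, hgg, hgc⟩ :=
    Cfsg.Agent.Lib.Helper24.tk_facts a g n (by omega) hord hidx' hg' hcent
  rcases hgc with hgc | hgc
  · rcases hgg with hgg | hgg
    · right; left
      obtain ⟨k, ⟨e⟩⟩ := Cfsg.Agent.Lib.Helper24.tk_dihedral a g n (by omega) hord hidx' hg' hgg hgc
      refine ⟨2 ^ (k + 2), ?_, ⟨e⟩⟩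
      have h1 := Nat.card_congr e.toEquiv
      rw [DihedralGroup.nat_card, hcardP'] at h1
      have h2 : 2 ^ (n + 1) = 2 ^ (k + 3) := by rw [h1]; ring
      have h3 : n + 1 = k + 3 := Nat.pow_right_injective (le_refl 2) h2
      have h4 : 1 ≤ k := by omega
      calc 8 = 2 ^ 3 := by norm_num
        _ ≤ 2 ^ (k + 2) := Nat.pow_le_pow_right (by norm_num) (by omega)
    · left
      obtain ⟨k, hk⟩ := Cfsg.Agent.Lib.Helper24.tk_quaternion a g n (by omega) hord hidx' hg' hgg hgc
      exact ⟨_, hk⟩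
  · right; right
    obtain ⟨k, hk1, x, y, hx, hy, hxy⟩ :=
      Cfsg.Agent.Lib.Helper24.tk_semidihedral a g n (by omega) hord hidx' hg' hwo hcases hgg hgc
    exact ⟨k + 3, by omega, hk1, x, y, hx, hy, hxy⟩

theorem cn_main [Finite P] (p : ℕ) [hp : Fact p.Prime] (hP : IsPGroup p P)
    (hn : ∀ A : Subgroup P, A.Normal → IsMulCommutative A → IsCyclic A)
    (hm : ∃ B : Subgroup P, IsMulCommutative B ∧ ¬ IsCyclic B) :
    p = 2 ∧ ((∃ n : ℕ, Nonempty (P ≃* QuaternionGroup n)) ∨
      (∃ n : ℕ, 8 ≤ n ∧ Nonempty (P ≃* DihedralGroup n)) ∨ Cfsg.IsQuasiDihedral P) := by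
  have hp2 : p = 2 := by
    by_contra hp2
    obtain ⟨B₀, hB₀c, hB₀nc⟩ := hm
    have hnc : ¬ IsCyclic P := fun h => hB₀nc (Subgroup.isCyclic B₀)
    obtain ⟨U, hUn, hUea, hUc⟩ := Cfsg.Agent.Lib.Helper24.nr_main hp2 hP hnc
    exact cn_not_cyclic_of_ea U hUea hUc (hn U hUn hUea.1)
  subst hp2
  exact ⟨rfl, cn_main_two hP hn hm⟩

end CycNorm3

end Cfsg.Agent.Lib.Helper9
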