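import Mathlib
import Cfsg.Agent.Lib.Helper24.MNP.Defs
import Cfsg.Agent.Lib.Helper26.MNPF2
import Cfsg.Agent.Lib.Helper21.MNPF9

/-!
# MNP row F10 (helper9): `form_zero_odd`.
-/

set_option autoImplicit false

namespace Cfsg.Agent.Lib.Helper24.MNP

universe u

section F

variable {K : Type u} [Field K] [Finite K] {p q : ℕ} [Fact p.Prime] [Fact q.Prime] [CharP K p]

section Form

variable {Z : Type u} [AddCommGroup Z] (β : K → K → Z)

omit [Finite K] in
theorem mnpf10_zero_left (hadd1 : ∀ x x' y, β (x + x') y = β x y + β x' y) (y : K) :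
    β 0 y = 0 := by
  have h := hadd1 0 0 y
  rw [add_zero] at h
  exact left_eq_add.mp h

omit [Finite K] in
theorem mnpf10_zero_right (hadd2 : ∀ x y y', β x (y + y') = β x y + β x y') (x : K) :
    β x 0 = 0 := by
  have h := hadd2 x 0 0
  rw [add_zero] at h
  exact left_eq_add.mp h

omit [Finite K] in
theorem mnpf10_neg_left (hadd1 : ∀ x x' y, β (x + x') y = β x y + β x' y) (x y : K) :
    β (-x) y = -β x y := by
  have h := hadd1 x (-x) y
  rw [add_neg_cancel, mnpf10_zero_left β hadd1] at h
  exact eq_neg_of_add_eq_zero_right h.symm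

omit [Finite K] in
theorem mnpf10_neg_right (hadd2 : ∀ x y y', β x (y + y') = β x y + β x y') (x y : K) :
    β x (-y) = -β x y := by
  have h := hadd2 x y (-y)
  rw [add_neg_cancel, mnpf10_zero_right β hadd2] at h
  exact eq_neg_of_add_eq_zero_right h.symm

omit [Finite K] in
/-- natural-number scalars move across the form -/
theorem mnpf10_nat (hadd1 : ∀ x x' y, β (x + x') y = β x y + β x' y)
    (hadd2 : ∀ x y y', β x (y + y') = β x y + β x y') (n : ℕ) (x y : K) :
    β ((n : K) * x) y = β x ((n : K) * y) := by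
  induction n with
  | zero =>
    rw [Nat.cast_zero, zero_mul, zero_mul, mnpf10_zero_left β hadd1, mnpf10_zero_right β hadd2]
  | succ n ih =>
    rw [Nat.cast_succ, add_mul, add_mul, one_mul, one_mul, hadd1, hadd2, ih]

omit [Finite K] in
/-- polynomials over the prime field in `ζ` move across the form as polynomials in `ζ⁻¹` -/
theorem mnpf10_poly (hadd1 : ∀ x x' y, β (x + x') y = β x y + β x' y)
    (hadd2 : ∀ x y y', β x (y + y') = β x y + β x y') (ζ : K) (hζ0 : ζ ≠ 0)
    (hinv : ∀ x y, β (ζ * x) (ζ * y) = β x y) (g : Polynomial (ZMod p)) :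
    ∀ x y : K, β (Polynomial.eval₂ (ZMod.castHom (dvd_refl p) K) ζ g * x) y =
      β x (Polynomial.eval₂ (ZMod.castHom (dvd_refl p) K) ζ⁻¹ g * y) := by
  induction g using Polynomial.induction_on with
  | C c =>
    intro x y
    rw [Polynomial.eval₂_C, Polynomial.eval₂_C]
    have hc : (ZMod.castHom (dvd_refl p) K) c = ((c.val : ℕ) : K) := by
      conv_lhs => rw [← ZMod.natCast_zmod_val c]
      rw [map_natCast]
    rw [hc]
    exact mnpf10_nat β hadd1 hadd2 _ x y
  | add f g hf hg =>
    intro x y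
    rw [Polynomial.eval₂_add, Polynomial.eval₂_add, add_mul, add_mul, hadd1, hadd2, hf, hg]
  | monomial n c ih =>
    intro x y
    have hstep : ∀ z : K, Polynomial.eval₂ (ZMod.castHom (dvd_refl p) K) z
        (Polynomial.C c * Polynomial.X ^ (n + 1)) =
        Polynomial.eval₂ (ZMod.castHom (dvd_refl p) K) z (Polynomial.C c * Polynomial.X ^ n) * z := by
      intro z
      rw [pow_succ, ← mul_assoc, Polynomial.eval₂_mul, Polynomial.eval₂_X]
    rw [hstep ζ, hstep ζ⁻¹, mul_assoc, ih (ζ * x) y]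
    have h1 : Polynomial.eval₂ (ZMod.castHom (dvd_refl p) K) ζ⁻¹
        (Polynomial.C c * Polynomial.X ^ n) * y =
        ζ * (Polynomial.eval₂ (ZMod.castHom (dvd_refl p) K) ζ⁻¹
          (Polynomial.C c * Polynomial.X ^ n) * ζ⁻¹ * y) := by
      field_simp
    rw [h1, hinv]

end Form

/-- F10 [M]. -/
theorem form_zero_odd (hpq : p ≠ q) {a : ℕ} (hK : Nat.card K = p ^ a)
    (ha : a = orderOf (p : ZMod q)) (hodd : a % 2 = 1) (ζ : K) (hζ : orderOf ζ = q)
    {Z : Type u} [AddCommGroup Z] (β : K → K → Z)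
    (hadd1 : ∀ x x' y, β (x + x') y = β x y + β x' y) (hadd2 : ∀ x y y', β x (y + y') = β x y + β x y')
    (halt : ∀ x, β x x = 0) (hinv : ∀ x y, β (ζ * x) (ζ * y) = β x y) : ∀ x y, β x y = 0 := by
  have hq : q.Prime := Fact.out
  have hζ0 : ζ ≠ 0 := by
    rintro rfl
    have h0 : orderOf (0 : K) = 0 := by
      rw [orderOf_eq_zero_iff']
      intro n hn
      rw [zero_pow hn.ne']
      exact zero_ne_one
    rw [h0] at hζ
    exact hq.ne_zero hζ.symm
  by_cases hq2 : q = 2
  · -- `ζ = -1`, `K` is spanned by `1`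
    have hζ2 : ζ ^ 2 = 1 := by rw [← hq2, ← hζ]; exact pow_orderOf_eq_one ζ
    have hζ1 : ζ ≠ 1 := by
      rintro rfl
      rw [orderOf_one] at hζ
      omega
    have hζm : ζ = -1 := by
      have h : (ζ - 1) * (ζ + 1) = 0 := by linear_combination hζ2
      rcases mul_eq_zero.mp h with h1 | h1
      · exact absurd (sub_eq_zero.mp h1) hζ1
      · exact eq_neg_of_add_eq_zero_left h1
    have hspan := span_zeta hpq hK ha ζ hζ
    have hpow : ∀ j : ℕ, ζ ^ j = 1 ∨ ζ ^ j = -1 := by
      intro j
      rw [hζm]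
      exact neg_one_pow_eq_or K j
    -- first `β x 1 = 0` for all `x`
    have h11 : β 1 1 = 0 := halt 1
    have hB : ∀ x : K, β x 1 = 0 := by
      intro x
      have hx : x ∈ AddSubgroup.closure (Set.range fun j : ℕ => ζ ^ j) := by
        rw [hspan]; trivial
      induction hx using AddSubgroup.closure_induction with
      | mem x hx =>
        obtain ⟨j, rfl⟩ := hx
        show β (ζ ^ j) 1 = 0
        rcases hpow j with h | h
        · rw [h]; exact h11
        · rw [h, mnpf10_neg_left β hadd1, h11, neg_zero]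
      | zero => exact mnpf10_zero_left β hadd1 1
      | add x y _ _ hx hy => rw [hadd1, hx, hy, add_zero]
      | neg x _ hx => rw [mnpf10_neg_left β hadd1, hx, neg_zero]
    intro x y
    have hy : y ∈ AddSubgroup.closure (Set.range fun j : ℕ => ζ ^ j) := by
      rw [hspan]; trivial
    induction hy using AddSubgroup.closure_induction with
    | mem y hy =>
      obtain ⟨j, rfl⟩ := hy
      show β x (ζ ^ j) = 0
      rcases hpow j with h | h
      · rw [h]; exact hB x
      · rw [h, mnpf10_neg_right β hadd2, hB x, neg_zero]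
    | zero => exact mnpf10_zero_right β hadd2 x
    | add y y' _ _ hy hy' => rw [hadd2, hy, hy', add_zero]
    | neg y _ hy => rw [mnpf10_neg_right β hadd2, hy, neg_zero]
  · obtain ⟨g, hg0, hg1⟩ := exists_sep_poly hpq hq2 hK ha hodd ζ hζ
    intro x y
    have h := mnpf10_poly β hadd1 hadd2 ζ hζ0 hinv g x
      ((Polynomial.eval₂ (ZMod.castHom (dvd_refl p) K) ζ⁻¹ g)⁻¹ * y)
    rw [hg0, zero_mul, mnpf10_zero_left β hadd1, ← mul_assoc, mul_inv_cancel₀ hg1, one_mul] at h
    exact h.symm

end F

end Cfsg.Agent.Lib.Helper24.MNP
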