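import Mathlib
import Cfsg.Agent.Lib.helper8.OME.Defs
import Cfsg.Agent.Lib.Helper13.OTS.Defs
import Cfsg.Agent.Lib.Helper27.OTSHJARITH
import Cfsg.Agent.Lib.helper7.OTSCOUNTDVD
import Cfsg.Agent.Lib.helper4.OTSSTDP

set_option autoImplicit false
set_option linter.unusedVariables false

/-!
# OME row TSCNTM (`ome_ts_count_ch`), helper9: `r ∣ #TSm(h)` gives `CHm i d h`
(OTS `q_count_dvd` + `q_hj_arith` + `q_std_minus`, `ε = -1`).
-/

namespace Cfsg.Agent.Lib.helper8.OME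

open Polynomial Module Cfsg.Agent.Lib.Helper13.S5955 Cfsg.Agent.Lib.helper15.S5972
  Cfsg.Agent.Lib.Helper18.OPE
open scoped Matrix

theorem ome_ts_count_ch {F : Type*} [Field F] [Fintype F] {p : ℕ} [Fact p.Prime] [CharP F p]
    (d h : ℕ) (hh : h + 1 ≤ d) (a b : F)
    (hab : ∀ x y : F, x ^ 2 + a * x * y + b * y ^ 2 = 0 → x = 0 ∧ y = 0)
    (r : ℕ) [Fact r.Prime] (hr2 : r ≠ 2) (i : ℕ)
    (hi : i = orderOf ((Fintype.card F : ℕ) : ZMod r))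
    (hr : r ∣ Nat.card (TSm d h F a b)) : CHm i d h := by
  have hd : 1 ≤ d := by omega
  have hstd := Cfsg.Agent.Lib.Helper13.OTS.q_std_minus (F := F) d hd a b hab
  obtain ⟨_, hj⟩ := Cfsg.Agent.Lib.Helper13.OTS.q_count_dvd (p := p)
    (Cfsg.Agent.Lib.Helper16.qfMinus (d - 1) F a b) d (-1) hstd h hh r hr
  obtain ⟨j, hjh, hj'⟩ :=
    Cfsg.Agent.Lib.Helper13.OTS.q_hj_arith (Fintype.card F) r d h i (-1) hr2 (Or.inr rfl) hi hh hj
  refine ⟨j, hjh, ?_⟩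
  rcases hj' with ⟨h1, _⟩ | ⟨_, h2⟩
  · exact absurd h1 (by decide)
  · exact h2

end Cfsg.Agent.Lib.helper8.OME
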