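import Mathlib
import Cfsg.Prelude.Def_GeometricClasses
import Cfsg.Prelude.Def_ClassicalGeometry
import Cfsg.Agent.Lib.Helper22.S6002.Defs
import Cfsg.Agent.Lib.Helper1.SPXC6ORDa

/-!
# Project S6002, row S1 (helper9): the frozen hypotheses give the abstract context `ECtx R`
-/

set_option autoImplicit false
set_option linter.unusedVariables false
set_option linter.unusedSectionVars false
open scoped MatrixGroups

namespace Cfsg.Agent.Lib.Helper22.S6002

variable {ι : Type} [Fintype ι] [DecidableEq ι] {F : Type*} [Field F]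

/-- S1 [M]. -/
theorem ectx_of_hyp [Fintype F] (h2 : (2 : F) ≠ 0) (R : Subgroup (GL ι F))
    (hRs : Cfsg.Geo.IsSymplecticTypeGroup 2 R)
    (hRi : Cfsg.Geo.ActsAbsolutelyIrreducibly (Cfsg.Geo.matrixSet R))
    (hR5 : Nat.card R = 2 ^ 5) (hRZ : Nat.card (Subgroup.center R) = 2) : ECtx R := by
  classical
  have hRfin : Finite R := Nat.finite_of_card_ne_zero (by rw [hR5]; norm_num)
  have hne : Nonempty ι := by
    by_contra hcon
    rw [not_nonempty_iff] at hcon
    haveI : Subsingleton (GL ι F) := ⟨fun a b => Units.ext (Subsingleton.elim _ _)⟩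
    haveI : Subsingleton R := inferInstance
    have : Nat.card R = 1 := Nat.card_unique
    omega
  obtain ⟨i0⟩ := hne
  have hexp : ∀ x : R, x ^ 4 = 1 := by
    intro x
    have h := Monoid.pow_exponent_eq_one x
    rw [hRs.exponent_eq] at h
    exact h
  have hcl := Cfsg.Agent.Lib.Helper1.spxc6ord_class_two hRs.pGroup hRs.cyclic_of_characteristic
    hexp hRZ
  -- central elements are `±1`
  have hcen : ∀ a ∈ R, (∀ b ∈ R, a * b = b * a) → a = 1 ∨ a = -1 := by
    intro a ha hcomm
    obtain ⟨c, hc⟩ := hRi.2 (a : Matrix ι ι F) (by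
      rintro s ⟨y, hy, rfl⟩
      have := congrArg (fun g : GL ι F => (g : Matrix ι ι F)) (hcomm y hy)
      simpa using this)
    have hmem : (⟨a, ha⟩ : R) ∈ Subgroup.center R := by
      rw [Subgroup.mem_center_iff]
      intro g
      apply Subtype.ext
      exact (hcomm g.1 g.2).symm
    have hpow : (⟨⟨a, ha⟩, hmem⟩ : Subgroup.center R) ^ 2 = 1 := by
      have := pow_card_eq_one' (G := Subgroup.center R) (x := ⟨⟨a, ha⟩, hmem⟩)
      rw [hRZ] at this
      exact this
    have haa : a * a = 1 := by
      have h1 := congrArg (fun x : Subgroup.center R => ((x : R) : GL ι F)) hpow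
      simp only [pow_two] at h1
      exact h1
    have hcc : c * c = 1 := by
      have h1 := congrArg (fun g : GL ι F => (g : Matrix ι ι F) i0 i0) haa
      simp only [Units.val_mul, Units.val_one, hc, Matrix.smul_mul, Matrix.one_mul,
        Matrix.smul_apply, Matrix.one_apply_eq, smul_eq_mul, mul_one] at h1
      exact h1
    rcases mul_self_eq_one_iff.mp hcc with h | h
    · left
      apply Units.ext
      rw [hc, h, one_smul, Units.val_one]
    · right
      apply Units.ext
      rw [hc, h, neg_smul, one_smul, Units.val_neg, Units.val_one]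
  -- `-1 ∈ R`
  have hneg : (-1 : GL ι F) ∈ R := by
    obtain ⟨z, hz1, -⟩ := (Nat.card_eq_two_iff' (1 : Subgroup.center R)).mp hRZ
    have hzc : ∀ b ∈ R, ((z : R) : GL ι F) * b = b * ((z : R) : GL ι F) := by
      intro b hb
      have := (Subgroup.mem_center_iff.mp z.2) ⟨b, hb⟩
      exact (congrArg Subtype.val this).symm
    rcases hcen _ (z : R).2 hzc with h | h
    · exfalso
      apply hz1
      apply Subtype.ext
      apply Subtype.ext
      exact h
    · rw [← h]
      exact (z : R).2
  -- commutators are `±1`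
  have hcomm : ∀ a ∈ R, ∀ b ∈ R, a * b = b * a ∨ a * b = -(b * a) := by
    intro a ha b hb
    have hc := hcl ⟨a, ha⟩ ⟨b, hb⟩
    have hcR : a * b * a⁻¹ * b⁻¹ ∈ R := R.mul_mem (R.mul_mem (R.mul_mem ha hb) (R.inv_mem ha)) (R.inv_mem hb)
    have hcc : ∀ g ∈ R, (a * b * a⁻¹ * b⁻¹) * g = g * (a * b * a⁻¹ * b⁻¹) := by
      intro g hg
      have := (Subgroup.mem_center_iff.mp hc) ⟨g, hg⟩
      exact (congrArg Subtype.val this).symm
    rcases hcen _ hcR hcc with h | h
    · left
      have : a * b = (a * b * a⁻¹ * b⁻¹) * (b * a) := by group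
      rw [this, h, one_mul]
    · right
      have : a * b = (a * b * a⁻¹ * b⁻¹) * (b * a) := by group
      rw [this, h, neg_mul, one_mul]
  refine ⟨h2, by rw [hR5]; norm_num, hneg, hcomm, ?_, hcen, ?_⟩
  · -- squares
    intro a ha
    apply hcen (a * a) (R.mul_mem ha ha)
    intro b hb
    rcases hcomm a ha b hb with h | h
    · calc a * a * b = a * (a * b) := by group
        _ = a * (b * a) := by rw [h]
        _ = (a * b) * a := by group
        _ = (b * a) * a := by rw [h]
        _ = b * (a * a) := by group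
    · calc a * a * b = a * (a * b) := by group
        _ = a * (-(b * a)) := by rw [h]
        _ = -((a * b) * a) := by rw [mul_neg, mul_assoc]
        _ = -((-(b * a)) * a) := by rw [h]
        _ = b * (a * a) := by rw [neg_mul, neg_neg, mul_assoc]
  · intro M hM
    apply hRi.2 M
    rintro s ⟨y, hy, rfl⟩
    exact hM y hy

end Cfsg.Agent.Lib.Helper22.S6002
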