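import Mathlib
import Cfsg.Prelude.Def_GeometricClasses
import Cfsg.Prelude.Def_ClassicalGeometry
import Cfsg.Agent.Lib.Helper22.S6002.Defs

/-!
# Project S6002, row S2 (helper9): minus type gives `NoKlein`
-/

set_option autoImplicit false
set_option linter.unusedVariables false
set_option linter.unusedSectionVars false
open scoped MatrixGroups

namespace Cfsg.Agent.Lib.Helper22.S6002

variable {ι : Type} [Fintype ι] [DecidableEq ι] {F : Type*} [Field F]

/-- `1 ≠ -1` in `GL(ι, F)` when `R` has 32 elements and `2 ≠ 0` -/
theorem s6002s2_one_ne_neg {R : Subgroup (GL ι F)} (hE : ECtx R) : (1 : GL ι F) ≠ -1 := by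
  intro h
  by_cases hne : Nonempty ι
  · obtain ⟨i⟩ := hne
    have h1 := congrArg (fun g : GL ι F => (g : Matrix ι ι F) i i) h
    simp only [Units.val_one, Units.val_neg, Matrix.one_apply_eq, Matrix.neg_apply] at h1
    apply hE.two
    have : (2 : F) = 1 + 1 := by norm_num
    rw [this]
    nth_rewrite 1 [h1]
    ring
  · rw [not_nonempty_iff] at hne
    haveI : Subsingleton (GL ι F) := ⟨fun a b => Units.ext (Subsingleton.elim _ _)⟩
    haveI : Subsingleton R := inferInstance
    have : Nat.card R = 1 := Nat.card_unique
    have := hE.card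
    omega

/-- S2 [S-M]. -/
theorem noklein_of_minus {R : Subgroup (GL ι F)} (hE : ECtx R) (hRm : Cfsg.Geo.IsOfMinusType 2 R) :
    NoKlein R := by
  classical
  intro a ha b hb haa hbb hab
  by_contra hcon
  push Not at hcon
  obtain ⟨ha1, ham1, hb1, hbm1, hab', hamb⟩ := hcon
  have h1m := s6002s2_one_ne_neg hE
  have hRfin : Finite R := Nat.finite_of_card_ne_zero (by rw [hE.card]; norm_num)
  -- the subgroup `H = ⟨-1, a, b⟩`
  set k : Set (GL ι F) := {-1, a, b} with hk
  have hkcomm : ∀ x ∈ k, ∀ y ∈ k, x * y = y * x := by
    intro x hx y hy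
    simp only [hk, Set.mem_insert_iff, Set.mem_singleton_iff] at hx hy
    rcases hx with rfl | rfl | rfl <;> rcases hy with rfl | rfl | rfl
    · rfl
    · rw [neg_mul, mul_neg, one_mul, mul_one]
    · rw [neg_mul, mul_neg, one_mul, mul_one]
    · rw [neg_mul, mul_neg, one_mul, mul_one]
    · rfl
    · exact hab
    · rw [neg_mul, mul_neg, one_mul, mul_one]
    · exact hab.symm
    · rfl
  set H : Subgroup (GL ι F) := Subgroup.closure k with hH
  have hHR : H ≤ R := by
    rw [hH, Subgroup.closure_le]
    intro x hx
    simp only [hk, Set.mem_insert_iff, Set.mem_singleton_iff] at hx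
    rcases hx with rfl | rfl | rfl
    · exact hE.neg
    · exact ha
    · exact hb
  have hHcomm : ∀ x ∈ H, ∀ y ∈ H, x * y = y * x := by
    intro x hx y hy
    have := (Subgroup.closureCommGroupOfComm hkcomm).mul_comm ⟨x, hx⟩ ⟨y, hy⟩
    exact congrArg Subtype.val this
  have hHsq : ∀ x ∈ H, x * x = 1 := by
    intro x hx
    induction hx using Subgroup.closure_induction with
    | mem x hx =>
      simp only [hk, Set.mem_insert_iff, Set.mem_singleton_iff] at hx
      rcases hx with rfl | rfl | rfl
      · rw [neg_mul, mul_neg, one_mul, neg_neg]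
      · exact haa
      · exact hbb
    | one => rw [one_mul]
    | mul x y hx hy hxx hyy =>
      have hc := hHcomm x hx y hy
      calc x * y * (x * y) = x * (y * x) * y := by group
        _ = x * (x * y) * y := by rw [← hc]
        _ = (x * x) * (y * y) := by group
        _ = 1 := by rw [hxx, hyy, one_mul]
    | inv x hx hxx =>
      rw [← mul_inv_rev, hxx, inv_one]
  -- the subgroup of `↥R`
  set A : Subgroup R := H.subgroupOf R with hA
  have hAcomm : IsMulCommutative A := by
    refine ⟨⟨fun x y => ?_⟩⟩
    apply Subtype.ext
    apply Subtype.ext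
    have hx : ((x : R) : GL ι F) ∈ H := Subgroup.mem_subgroupOf.mp x.2
    have hy : ((y : R) : GL ι F) ∈ H := Subgroup.mem_subgroupOf.mp y.2
    exact hHcomm _ hx _ hy
  have hAsq : ∀ x ∈ A, x * x = 1 := by
    intro x hx
    apply Subtype.ext
    exact hHsq _ (Subgroup.mem_subgroupOf.mp hx)
  have hlt := hRm A hAcomm hAsq
  have hcardA : Nat.card A = Nat.card H :=
    Nat.card_congr (Subgroup.subgroupOfEquivOfLe hHR).toEquiv
  have hdvd : Nat.card H ∣ 2 ^ 5 := by
    have := Subgroup.card_dvd_of_le hHR
    rw [hE.card] at this
    exact this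
  -- five distinct elements of `H`
  have hmemk : ∀ x ∈ k, x ∈ H := fun x hx => Subgroup.subset_closure hx
  have hm1 : (-1 : GL ι F) ∈ H := hmemk _ (by simp [hk])
  have haH : a ∈ H := hmemk _ (by simp [hk])
  have hbH : b ∈ H := hmemk _ (by simp [hk])
  have hnaH : -a ∈ H := by
    have := H.mul_mem hm1 haH
    rwa [neg_mul, one_mul] at this
  have hana : a ≠ -a := by
    intro h
    apply h1m
    have := congrArg (fun x => x * a) h
    beta_reduce at this
    rw [haa, neg_mul, haa] at this
    exact this
  have hfive : 5 ≤ Nat.card H := by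
    have hsub : (({1, -1, a, -a, b} : Finset (GL ι F)) : Set (GL ι F)) ⊆ (H : Set (GL ι F)) := by
      intro x hx
      simp only [Finset.coe_insert, Finset.coe_singleton, Set.mem_insert_iff,
        Set.mem_singleton_iff] at hx
      rcases hx with rfl | rfl | rfl | rfl | rfl
      · exact H.one_mem
      · exact hm1
      · exact haH
      · exact hnaH
      · exact hbH
    have hHfin : (H : Set (GL ι F)).Finite := by
      have : Finite H := Finite.of_injective (Subgroup.inclusion hHR) (Subgroup.inclusion_injective hHR)
      exact Set.toFinite _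
    have h1 := Set.ncard_le_ncard hsub hHfin
    rw [Set.ncard_coe_finset] at h1
    have h2 : ({1, -1, a, -a, b} : Finset (GL ι F)).card = 5 := by
      rw [Finset.card_insert_of_notMem, Finset.card_insert_of_notMem, Finset.card_insert_of_notMem,
        Finset.card_insert_of_notMem, Finset.card_singleton]
      · simp only [Finset.mem_singleton]
        intro h
        apply hamb
        rw [← h, neg_neg]
      · simp only [Finset.mem_insert, Finset.mem_singleton, not_or]
        exact ⟨hana, hab'⟩
      · simp only [Finset.mem_insert, Finset.mem_singleton, not_or]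
        refine ⟨fun h => ham1 h.symm, ?_, fun h => hbm1 h.symm⟩
        intro h
        apply ha1
        have := congrArg (fun x => -x) h
        simp only [neg_neg] at this
        exact this.symm
      · simp only [Finset.mem_insert, Finset.mem_singleton, not_or]
        refine ⟨h1m, fun h => ha1 h.symm, ?_, fun h => hb1 h.symm⟩
        intro h
        apply ham1
        have := congrArg (fun x => -x) h
        simp only [neg_neg] at this
        exact this.symm
    rw [h2] at h1
    rw [← Nat.card_coe_set_eq] at h1
    exact h1
  obtain ⟨j, hj, hjH⟩ := (Nat.dvd_prime_pow Nat.prime_two).mp hdvd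
  rw [hcardA, hjH] at hlt
  rw [hjH] at hfive
  interval_cases j <;> omega

end Cfsg.Agent.Lib.Helper22.S6002
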