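import Mathlib
import Cfsg.Agent.Lib.helper7.SAP.Defs
import Cfsg.Agent.Lib.helper6.SAPPERM6
import Cfsg.Agent.Lib.Helper9.SAPPERM9core

/-!
Project SAP (S2284 + S2297, designer helper7), row PERM9: verbatim `gh_pow`, `gh_pow_ez`, `gh_pow_et`
(cores in `SAPPERM9core`, PERM6 of helper6).
-/

namespace Cfsg.Agent.Lib.helper7.SAP

open Equiv

universe u

section perm
variable (p k l : ℕ)

/-- PERM9 [S-M]: the merged generator `g = z τ`. -/
theorem gh_pow [NeZero p] (hlp : l + 1 ≤ p) (e : ℕ) :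
    (zh (Sum.inl 0 : Ix p k) * th p k l) ^ e = (zh (Sum.inl 0 : Ix p k)) ^ e * (th p k l) ^ e :=
  sapperm9_gh_pow_core p k l (th_comm_zh0 p k l hlp) e

theorem gh_pow_ez [NeZero p] (hlp : l + 1 ≤ p) (ez : ℕ) (h3 : ez % 3 = 1) (hm : (l + k) ∣ ez) :
    (zh (Sum.inl 0 : Ix p k) * th p k l) ^ ez = zh (Sum.inl 0 : Ix p k) :=
  sapperm9_gh_pow_ez_core p k l (th_comm_zh0 p k l hlp) (th_pow p k l hlp) ez h3 hm

theorem gh_pow_et [NeZero p] (hlp : l + 1 ≤ p) (et : ℕ) (h3 : 3 ∣ et) (hm : et % (l + k) = 1 % (l + k)) :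
    (zh (Sum.inl 0 : Ix p k) * th p k l) ^ et = th p k l :=
  sapperm9_gh_pow_et_core p k l (th_comm_zh0 p k l hlp) (th_pow p k l hlp) et h3 hm

end perm

end Cfsg.Agent.Lib.helper7.SAP
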