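import Mathlib
import Cfsg.Agent.Lib.Helper24.SU3M.Defs
import Cfsg.Agent.Lib.Helper9.SU3MA5core
import Cfsg.Agent.Lib.Helper24.SU3MA4
import Cfsg.Agent.Lib.Helper22.SU3MA1

/-!
# Project SU3M (designer helper24; S2089), rows A5 A6 A7 (helper9), VERBATIM:
`su3_stem_ker_trivial`, `su3_mult_trivial`, `psu3_mult` = the cores of `Helper9.SU3MA5core` on A4 `su3_no_prime` (`Helper24.SU3MA4`) and A1 `su_perfect` (`Helper22.SU3MA1`).
-/

set_option autoImplicit false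

namespace Cfsg.Agent.Lib.Helper24.SU3M

open Cfsg.Agent.Lib.Helper19.U3P Cfsg.Agent.Lib.Helper25.SU3P Cfsg.Agent.Lib.helper14.SU3J Cfsg.Agent.Lib.helper7.Ce Matrix Polynomial

universe u

section A

variable {F : Type u} [Field F] [Fintype F] {q : ℕ}

/-- A5 [S]  `helper3.stem_ker_trivial_of_primes` with `su3_no_prime`. -/
theorem su3_stem_ker_trivial (hF : Fintype.card F = q ^ 2) (hq : 3 ≤ q) {Γ : Type*} [Group Γ] [Finite Γ] (π : Γ →* ↥(Cfsg.SU 3 F q))
    (hsurj : Function.Surjective π) (hcen : π.ker ≤ Subgroup.center Γ) (hder : π.ker ≤ commutator Γ) : ∀ z ∈ π.ker, z = 1 :=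
  su3ma5_core π (fun r _ z hz hzr => su3_no_prime hF hq π hsurj hcen hder r z hz hzr)

/-- A6 [S]  as `Cfsg/Agent/S2117.lean`: `Cfsg.Agent.Lib.Helper21.exists_trivial_stem` and `su3_stem_ker_trivial`. -/
theorem su3_mult_trivial (hF : Fintype.card F = q ^ 2) (hq : 3 ≤ q) : Cfsg.HasCyclicSchurMultiplier ↥(Cfsg.SU 3 F q) 1 :=
  su3ma6_core (fun _ _ _ π hsurj hcen hder => su3_stem_ker_trivial hF hq π hsurj hcen hder)

/-- A7 [S]  `psu_mult` with `su3_mult_trivial`, `su_perfect`. -/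
theorem psu3_mult (hF : Fintype.card F = q ^ 2) (hq : 3 ≤ q) : Cfsg.HasCyclicSchurMultiplier (Cfsg.PSU 3 F q) (Nat.gcd 3 (q + 1)) :=
  su3ma7_core hF (su3_mult_trivial hF hq) (su_perfect hF 3 (le_refl 3) (fun h => by omega))

end A

end Cfsg.Agent.Lib.Helper24.SU3M
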