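import Mathlib
import Cfsg.Agent.Lib.helper17.T3.DefsC
import Cfsg.Agent.Lib.helper3.SL2Mult
import Cfsg.Agent.Lib.helper23.CEUE1

/-!
# Family T3 (S2110), project T3C (designer helper17), row A5 `f8_bilin` (helper9), verbatim from `helper17/T3/SkelC.lean.txt`
-/

set_option autoImplicit false

namespace Cfsg.Agent.Lib.helper17.T3

open Cfsg.Agent.Lib.helper15.St2 Cfsg.Agent.Lib.helper7.Ce Matrix

/-- the field with `8` elements has characteristic `2` -/
theorem t3ca5_two {K : Type*} [Field K] [Finite K] (hK : Nat.card K = 8) : (2 : K) = 0 := by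
  classical
  have : Fintype K := Fintype.ofFinite K
  obtain ⟨p, hp⟩ := CharP.exists K
  have := hp
  obtain ⟨n, hpp, hn⟩ := FiniteField.card K p
  rw [← Nat.card_eq_fintype_card, hK] at hn
  have hdvd : p ∣ 2 ^ 3 := by
    have : p ∣ p ^ (n : ℕ) := dvd_pow_self p n.pos.ne'
    rw [← hn] at this
    exact this
  have hp2 : p = 2 := (Nat.prime_dvd_prime_iff_eq hpp Nat.prime_two).mp (hpp.dvd_of_dvd_pow hdvd)
  subst hp2
  have := CharP.cast_eq_zero K 2
  exact_mod_cast this

/-- an element with `w ^ 3 = w + 1` -/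
theorem t3ca5_exists_w {K : Type*} [Field K] [Finite K] (hK : Nat.card K = 8) :
    ∃ w : K, w ≠ 0 ∧ w ≠ 1 ∧ w ^ 3 = w + 1 := by
  classical
  have : Fintype K := Fintype.ofFinite K
  have h2 := t3ca5_two hK
  have hcard : Fintype.card K = 8 := by rw [← Nat.card_eq_fintype_card]; exact hK
  -- an element different from zero and one
  have hex : ∃ x : K, x ≠ 0 ∧ x ≠ 1 := by
    by_contra hcon
    push Not at hcon
    have hsub : (Finset.univ : Finset K) ⊆ {0, 1} := by
      intro x _
      by_cases hx : x = 0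
      · simp [hx]
      · simp [hcon x hx]
    have h1 := Finset.card_le_card hsub
    rw [Finset.card_univ, hcard] at h1
    have h3 : ({0, 1} : Finset K).card ≤ 2 := Finset.card_le_two
    omega
  obtain ⟨x, hx0, hx1⟩ := hex
  have h7 : x ^ 7 = 1 := by
    have := FiniteField.pow_card_sub_one_eq_one x hx0
    rw [hcard] at this
    exact this
  have hfac : (x - 1) * ((x ^ 3 - x - 1) * (x ^ 3 - x ^ 2 - 1)) = 0 := by
    linear_combination h7 + (-x ^ 6 + x ^ 4 - x ^ 5 + x ^ 2 + x ^ 3 - x) * h2 + (x - x ^ 2 - x ^ 4 + x ^ 5) * h2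
  rcases mul_eq_zero.mp hfac with h | h
  · exact absurd (sub_eq_zero.mp h) hx1
  · rcases mul_eq_zero.mp h with h | h
    · exact ⟨x, hx0, hx1, by linear_combination h⟩
    · refine ⟨x⁻¹, inv_ne_zero hx0, fun h1 => hx1 (by rw [← inv_inv x, h1, inv_one]), ?_⟩
      have hx3 : x ^ 3 ≠ 0 := pow_ne_zero 3 hx0
      field_simp
      linear_combination (-1 : K) * h + (-x ^ 3 + 1 + x ^ 2) * h2 + (-1 - 2 * x ^ 2 + x ^ 3) * h2

/-- [A5] [M] the field with `8` elements: a bi-additive map with commuting values, invariant under the diagonal action of `K^×` and symmetric, is trivial. -/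
theorem f8_bilin {K : Type*} [Field K] [Finite K] (hK : Nat.card K = 8) {Γ : Type*} [Group Γ] (B : K → K → Γ)
    (hcomm : ∀ s t s' t', B s t * B s' t' = B s' t' * B s t)
    (hl : ∀ s s' t, B (s + s') t = B s t * B s' t) (hr : ∀ s t t', B s (t + t') = B s t * B s t')
    (hd : ∀ a s t, a ≠ 0 → B (a * s) (a * t) = B s t) (hs : ∀ s t, B s t = B t s) : ∀ s t, B s t = 1 := by
  classical
  have h2 := t3ca5_two hK
  obtain ⟨w, hw0, hw1, hw3⟩ := t3ca5_exists_w hK
  -- `φ w = B 1 w`
  have hφadd : ∀ a b : K, B 1 (a + b) = B 1 a * B 1 b := fun a b => hr 1 a b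
  have hφ0 : B 1 (0 : K) = 1 := by
    have h := hφadd 0 0
    rw [add_zero] at h
    exact left_eq_mul.mp h
  have hφsq : ∀ a : K, B 1 a * B 1 a = 1 := fun a => by
    rw [← hφadd, show a + a = 0 by linear_combination a * h2, hφ0]
  have hφinv : ∀ a : K, a ≠ 0 → B 1 a = B 1 a⁻¹ := fun a ha => by
    have h := hd a⁻¹ a 1 (inv_ne_zero ha)
    rw [inv_mul_cancel₀ ha, mul_one] at h
    rw [h, hs]
  have hφc : ∀ a b : K, B 1 a * B 1 b = B 1 b * B 1 a := fun a b => hcomm 1 a 1 b
  -- inverses of `w`, `w ^ 2`, `w + 1`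
  have hi1 : w⁻¹ = w ^ 2 + 1 := by
    apply inv_eq_of_mul_eq_one_right
    linear_combination hw3 + w * h2
  have hi2 : (w ^ 2)⁻¹ = w ^ 2 + w + 1 := by
    apply inv_eq_of_mul_eq_one_right
    linear_combination (w + 1) * hw3 + (w ^ 2 + w) * h2
  have hi3 : (w + 1)⁻¹ = w ^ 2 + w := by
    apply inv_eq_of_mul_eq_one_right
    linear_combination hw3 + (w ^ 2 + w) * h2
  have hw20 : w ^ 2 ≠ 0 := pow_ne_zero 2 hw0
  have hw10 : w + 1 ≠ 0 := by
    intro h
    apply hw1
    linear_combination h - h2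
  -- the three relations
  have e1 : B 1 w = B 1 (w ^ 2) * B 1 1 := by
    rw [hφinv w hw0, hi1, hφadd]
  have e2 : B 1 w * B 1 1 = 1 := by
    have h := hφinv (w ^ 2) hw20
    rw [hi2, hφadd, hφadd, mul_assoc] at h
    exact (left_eq_mul.mp h)
  have e3 : B 1 (w ^ 2) * B 1 w = 1 := by
    have h := hφinv (w + 1) hw10
    rw [hi3, hφadd, hφadd, e2] at h
    exact h.symm
  have f2 : B 1 (w ^ 2) = 1 := by
    have h : B 1 w * B 1 w = B 1 (w ^ 2) * (B 1 1 * B 1 w) := by
      rw [← mul_assoc, ← e1]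
    rw [hφsq, hφc 1 w, e2, mul_one] at h
    exact h.symm
  have f1 : B 1 w = 1 := by rw [f2, one_mul] at e3; exact e3
  have f0 : B 1 (1 : K) = 1 := by rw [f1, one_mul] at e2; exact e2
  -- every nonzero element is a power of `w`
  have hφpow : ∀ r : ℕ, r < 7 → B 1 (w ^ r) = 1 := by
    intro r hr
    interval_cases r
    · rw [pow_zero]; exact f0
    · rw [pow_one]; exact f1
    · exact f2
    · rw [hw3, hφadd, f1, f0, mul_one]
    · rw [show w ^ 4 = w ^ 2 + w by linear_combination w * hw3, hφadd, f2, f1, mul_one]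
    · rw [show w ^ 5 = w ^ 2 + w + 1 by linear_combination (w ^ 2 + 1) * hw3, hφadd, hφadd, f2, f1, f0, mul_one,
        mul_one]
    · rw [show w ^ 6 = w ^ 2 + 1 by linear_combination (w ^ 3 + w + 1) * hw3 + w * h2, hφadd, f2, f0, mul_one]
  have h7 : w ^ 7 = 1 := by
    linear_combination (w ^ 4 + w ^ 2 + w + 1) * hw3 + (w ^ 2 + w) * h2
  have hφall : ∀ y : K, B 1 y = 1 := by
    intro y
    by_cases hy : y = 0
    · rw [hy]; exact hφ0
    · have hcardu : Nat.card Kˣ = 7 := by rw [Nat.card_units, hK]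
      have : Fact (Nat.Prime 7) := ⟨by norm_num⟩
      have hu1 : Units.mk0 w hw0 ≠ 1 := by
        intro h
        apply hw1
        have := congrArg Units.val h
        simpa using this
      obtain ⟨k, hk⟩ := mem_powers_of_prime_card hcardu (g' := Units.mk0 y hy) hu1
      have hk' : w ^ k = y := by
        have := congrArg Units.val hk
        simpa using this
      rw [← hk', ← Nat.div_add_mod k 7, pow_add, pow_mul, h7, one_pow, one_mul]
      exact hφpow _ (Nat.mod_lt _ (by norm_num))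
  intro s t
  by_cases hs0 : s = 0
  · have h := hl 0 0 t
    rw [add_zero] at h
    rw [hs0]
    exact left_eq_mul.mp h
  · have h := hd s⁻¹ s t (inv_ne_zero hs0)
    rw [inv_mul_cancel₀ hs0] at h
    rw [← h]
    exact hφall _

end Cfsg.Agent.Lib.helper17.T3
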