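import Mathlib
import Cfsg.Prelude.Def_GeometricClasses
import Cfsg.Agent.Lib.Helper27.ASC.Defs

/-!
# Project ASC (helper27), piece F34: `(r, q) = (3, 4)`: the normaliser of a field subalgebra of degree 3
meets `SL_3(4)` inside a subfield group over `F₂`.
-/

set_option autoImplicit false
set_option linter.unusedVariables false

namespace Cfsg.Agent.Lib.Helper27.ASC

open Cfsg Cfsg.Geo
open scoped MatrixGroups Matrix

variable {F : Type*} [Field F] [Fintype F]

/-- the prime subfield `{0, 1}` in characteristic 2 -/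
def ascf34_F0 (h2 : (2 : F) = 0) : Subfield F where
  carrier := {x | x = 0 ∨ x = 1}
  mul_mem' := by
    rintro a b (rfl | rfl) (rfl | rfl) <;> simp
  one_mem' := Or.inr rfl
  add_mem' := by
    rintro a b (rfl | rfl) (rfl | rfl)
    · left; simp
    · right; simp
    · right; simp
    · left
      show (1 : F) + 1 = 0
      rw [one_add_one_eq_two]; exact h2
  zero_mem' := Or.inl rfl
  neg_mem' := by
    rintro a (rfl | rfl)
    · left; simp
    · right
      show -(1 : F) = 1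
      have : (1 : F) + 1 = 0 := by rw [one_add_one_eq_two]; exact h2
      exact neg_eq_of_add_eq_zero_left this
  inv_mem' := by
    rintro a (rfl | rfl)
    · left; simp
    · right; simp

theorem ascf34_mem_F0 (h2 : (2 : F) = 0) (x : F) : x ∈ ascf34_F0 h2 ↔ x = 0 ∨ x = 1 := Iff.rfl

theorem ascf34_card_F0 (h2 : (2 : F) = 0) : Nat.card (ascf34_F0 h2) = 2 := by
  rw [Nat.card_eq_two_iff]
  refine ⟨⟨0, Or.inl rfl⟩, ⟨1, Or.inr rfl⟩, ?_, ?_⟩
  · intro h
    have := congrArg Subtype.val h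
    exact zero_ne_one this
  · ext ⟨x, hx⟩
    simp only [Set.mem_insert_iff, Set.mem_singleton_iff, Set.mem_univ, iff_true]
    rcases hx with rfl | rfl
    · left; rfl
    · right; rfl

theorem ascf34_two (hq : Fintype.card F = 4) : (2 : F) = 0 := by
  have h4 : ((4 : ℕ) : F) = 0 := by rw [← hq]; exact Nat.cast_card_eq_zero F
  have h5 : (2 : F) * 2 = 0 := by
    have : ((4 : ℕ) : F) = 2 * 2 := by norm_num
    rw [← this]; exact h4
  exact mul_self_eq_zero.mp h5

/-! ### the field `K` -/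

theorem ascf34_isField (K : Subalgebra F (Matrix (Fin 3) (Fin 3) F))
    (hK : IsFieldSubalgebra 3 K) : IsField K where
  exists_pair_ne := by
    refine ⟨0, 1, ?_⟩
    intro h
    have h1 : ((0 : K) : Matrix (Fin 3) (Fin 3) F) = ((1 : K) : Matrix (Fin 3) (Fin 3) F) :=
      congrArg Subtype.val h
    have h2 := congrFun (congrFun h1 0) 0
    simp at h2
  mul_comm := fun x y => Subtype.ext (hK.comm x x.2 y y.2)
  mul_inv_cancel := by
    intro a ha
    obtain ⟨y, hy, h⟩ := hK.inv a a.2 (by intro h0; exact ha (Subtype.ext h0))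
    exact ⟨⟨y, hy⟩, Subtype.ext h⟩

/-- evaluation at a vector -/
def ascf34_ev (K : Subalgebra F (Matrix (Fin 3) (Fin 3) F)) (v : Fin 3 → F) :
    K →ₗ[F] (Fin 3 → F) where
  toFun x := (x : Matrix (Fin 3) (Fin 3) F).mulVec v
  map_add' x y := by simp [Matrix.add_mulVec]
  map_smul' c x := by simp [Matrix.smul_mulVec]

theorem ascf34_ev_apply (K : Subalgebra F (Matrix (Fin 3) (Fin 3) F)) (v : Fin 3 → F) (x : K) :
    ascf34_ev K v x = (x : Matrix (Fin 3) (Fin 3) F).mulVec v := rfl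

theorem ascf34_ev_inj (K : Subalgebra F (Matrix (Fin 3) (Fin 3) F))
    (hK : IsFieldSubalgebra 3 K) (v : Fin 3 → F) (hv : v ≠ 0) :
    Function.Injective (ascf34_ev K v) := by
  rw [injective_iff_map_eq_zero]
  intro x hx
  by_contra hx0
  have hx0' : (x : Matrix (Fin 3) (Fin 3) F) ≠ 0 := fun h => hx0 (Subtype.ext h)
  obtain ⟨y, hy, hxy⟩ := hK.inv x x.2 hx0'
  have hyx : y * (x : Matrix (Fin 3) (Fin 3) F) = 1 := by
    rw [hK.comm y hy x x.2]; exact hxy
  apply hv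
  have h1 : (y * (x : Matrix (Fin 3) (Fin 3) F)).mulVec v = v := by rw [hyx, Matrix.one_mulVec]
  rw [← h1, ← Matrix.mulVec_mulVec]
  rw [ascf34_ev_apply] at hx
  rw [hx, Matrix.mulVec_zero]

theorem ascf34_ev_surj (K : Subalgebra F (Matrix (Fin 3) (Fin 3) F))
    (hK : IsFieldSubalgebra 3 K) (v : Fin 3 → F) (hv : v ≠ 0) :
    Function.Surjective (ascf34_ev K v) := by
  have hfin : Module.finrank F K = Module.finrank F (Fin 3 → F) := by
    rw [hK.finrank_eq, Module.finrank_fin_fun]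
  exact (LinearMap.injective_iff_surjective_of_finrank_eq_finrank hfin).mp
    (ascf34_ev_inj K hK v hv)

theorem ascf34_card_K (hq : Fintype.card F = 4) (K : Subalgebra F (Matrix (Fin 3) (Fin 3) F))
    (hK : IsFieldSubalgebra 3 K) : Nat.card K = 64 := by
  classical
  haveI : Fintype K := Fintype.ofFinite _
  rw [Nat.card_eq_fintype_card, Module.card_eq_pow_finrank (K := F) (V := K), hq, hK.finrank_eq]
  norm_num

/-- `det k = k ^ 21` for `k ∈ K` -/
theorem ascf34_det_eq (hq : Fintype.card F = 4) (K : Subalgebra F (Matrix (Fin 3) (Fin 3) F))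
    (hK : IsFieldSubalgebra 3 K) (k : K) :
    algebraMap F K (Matrix.det (k : Matrix (Fin 3) (Fin 3) F)) = k ^ 21 := by
  classical
  letI : Field K := (ascf34_isField K hK).toField
  have hv : (Pi.single 0 1 : Fin 3 → F) ≠ 0 := by
    intro h
    have := congrFun h 0
    simp at this
  set v : Fin 3 → F := Pi.single 0 1 with hvdef
  let e : K ≃ₗ[F] (Fin 3 → F) :=
    LinearEquiv.ofBijective (ascf34_ev K v) ⟨ascf34_ev_inj K hK v hv, ascf34_ev_surj K hK v hv⟩
  have hconj : Matrix.toLin' (k : Matrix (Fin 3) (Fin 3) F) =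
      (e : K →ₗ[F] (Fin 3 → F)) ∘ₗ (Algebra.lmul F K k) ∘ₗ (e.symm : (Fin 3 → F) →ₗ[F] K) := by
    apply LinearMap.ext
    intro w
    obtain ⟨x, rfl⟩ := e.surjective w
    simp only [LinearMap.comp_apply, LinearEquiv.coe_coe, LinearEquiv.symm_apply_apply]
    show (k : Matrix (Fin 3) (Fin 3) F).mulVec ((x : Matrix (Fin 3) (Fin 3) F).mulVec v) =
      ((k * x : K) : Matrix (Fin 3) (Fin 3) F).mulVec v
    rw [Matrix.mulVec_mulVec]
    rfl
  have hdet : Matrix.det (k : Matrix (Fin 3) (Fin 3) F) = Algebra.norm F k := by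
    rw [Algebra.norm_apply, ← LinearMap.det_toLin', hconj, LinearMap.det_conj]
  rw [hdet, FiniteField.algebraMap_norm_eq_pow, ascf34_card_K hq K hK, Nat.card_eq_fintype_card, hq]

/-- an element of order 7 -/
theorem ascf34_exists_theta (hq : Fintype.card F = 4)
    (K : Subalgebra F (Matrix (Fin 3) (Fin 3) F)) (hK : IsFieldSubalgebra 3 K) :
    ∃ θ : K, θ ^ 7 = 1 ∧ θ ≠ 1 := by
  classical
  letI : Field K := (ascf34_isField K hK).toField
  haveI : Fintype K := Fintype.ofFinite _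
  haveI : Fact (Nat.Prime 7) := ⟨by norm_num⟩
  have hcard : Nat.card Kˣ = 63 := by
    rw [Nat.card_eq_fintype_card, Fintype.card_units, ← Nat.card_eq_fintype_card,
      ascf34_card_K hq K hK]
  obtain ⟨u, hu⟩ := exists_prime_orderOf_dvd_card' (G := Kˣ) 7 (by rw [hcard]; norm_num)
  refine ⟨(u : K), ?_, ?_⟩
  · have h1 : u ^ 7 = 1 := by rw [← hu]; exact pow_orderOf_eq_one u
    have h2 := congrArg (fun w : Kˣ => (w : K)) h1
    simpa using h2
  · intro h1
    have h2 : u = 1 := Units.ext h1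
    rw [h2, orderOf_one] at hu
    norm_num at hu

/-- `1, θ, θ²` are linearly independent over `F` -/
theorem ascf34_li (hq : Fintype.card F = 4)
    (K : Subalgebra F (Matrix (Fin 3) (Fin 3) F)) (hK : IsFieldSubalgebra 3 K)
    (θ : K) (h7 : θ ^ 7 = 1) (h1 : θ ≠ 1) :
    LinearIndependent F (fun i : Fin 3 => θ ^ (i : ℕ)) := by
  classical
  letI : Field K := (ascf34_isField K hK).toField
  haveI : Module.Finite F K := Module.finite_of_finrank_pos (by rw [hK.finrank_eq]; norm_num)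
  have hint : IsIntegral F θ := Algebra.IsIntegral.isIntegral θ
  have hdvd : (minpoly F θ).natDegree ∣ 3 := by
    have := minpoly.degree_dvd (K := F) (L := K) hint
    rwa [hK.finrank_eq] at this
  rcases (Nat.dvd_prime Nat.prime_three).mp hdvd with hd | hd
  · exfalso
    obtain ⟨c, hc⟩ := minpoly.natDegree_eq_one_iff.mp hd
    have hc0 : c ≠ 0 := by
      intro h0
      rw [h0, map_zero] at hc
      rw [← hc] at h7
      norm_num at h7
    have hc3 : c ^ 3 = 1 := by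
      have := FiniteField.pow_card_sub_one_eq_one c hc0
      rwa [hq] at this
    have hθ3 : θ ^ 3 = 1 := by rw [← hc, ← map_pow, hc3, map_one]
    apply h1
    calc θ = θ ^ 7 * ((θ ^ 3) ^ 2)⁻¹ := by
            rw [hθ3, one_pow, inv_one, mul_one]
            have : θ ^ 7 = (θ ^ 3) ^ 2 * θ := by ring
            rw [this, hθ3, one_pow, one_mul]
      _ = 1 := by rw [h7, hθ3, one_pow, inv_one, mul_one]
  · have hli := linearIndependent_pow (K := F) θ
    have := hli.comp (Fin.cast hd.symm) (Fin.cast_injective _)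
    exact this

/-- elements of `K` with `x ^ 8 = x` have coordinates in `{0, 1}` w.r.t. `1, θ, θ²` -/
theorem ascf34_coords (hq : Fintype.card F = 4)
    (K : Subalgebra F (Matrix (Fin 3) (Fin 3) F)) (hK : IsFieldSubalgebra 3 K)
    (θ : K) (h7 : θ ^ 7 = 1)
    (hli : LinearIndependent F (fun i : Fin 3 => θ ^ (i : ℕ))) (x : K) (hx : x ^ 8 = x) :
    ∃ c : Fin 3 → F, (∀ i, c i = 0 ∨ c i = 1) ∧ x = ∑ i, c i • θ ^ (i : ℕ) := by
  classical
  letI : Field K := (ascf34_isField K hK).toField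
  haveI : Module.Finite F K := Module.finite_of_finrank_pos (by rw [hK.finrank_eq]; norm_num)
  haveI : Fact (Nat.Prime 2) := ⟨Nat.prime_two⟩
  haveI : CharP F 2 := (CharP.charP_iff_prime_eq_zero Nat.prime_two).mpr (by
    have := ascf34_two hq
    exact_mod_cast this)
  haveI : CharP K 2 := charP_of_injective_algebraMap (algebraMap F K).injective 2
  have hspan : Submodule.span F (Set.range (fun i : Fin 3 => θ ^ (i : ℕ))) = ⊤ :=
    hli.span_eq_top_of_card_eq_finrank' (by rw [hK.finrank_eq]; rfl)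
  have hxmem : x ∈ Submodule.span F (Set.range (fun i : Fin 3 => θ ^ (i : ℕ))) := by
    rw [hspan]; trivial
  obtain ⟨c, hc⟩ := (Submodule.mem_span_range_iff_exists_fun F).mp hxmem
  refine ⟨c, ?_, hc.symm⟩
  have hθ8 : θ ^ 8 = θ := by
    have : θ ^ 8 = θ ^ 7 * θ := by ring
    rw [this, h7, one_mul]
  have hx8 : x ^ 8 = ∑ i : Fin 3, (c i ^ 2) • θ ^ (i : ℕ) := by
    have h8 : (8 : ℕ) = 2 ^ 3 := by norm_num
    rw [← hc, h8, sum_pow_char_pow]
    refine Finset.sum_congr rfl fun i _ => ?_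
    rw [smul_pow, ← h8]
    have h1 : c i ^ 8 = c i ^ 2 := by
      have h4 : c i ^ 4 = c i := by
        have := FiniteField.pow_card (c i)
        rwa [hq] at this
      have : c i ^ 8 = (c i ^ 4) ^ 2 := by ring
      rw [this, h4]
    have h2 : (θ ^ (i : ℕ)) ^ 8 = θ ^ (i : ℕ) := by
      rw [← pow_mul, mul_comm, pow_mul, hθ8]
    rw [h1, h2]
  have hzero : ∑ i : Fin 3, (c i ^ 2 - c i) • θ ^ (i : ℕ) = 0 := by
    simp only [sub_smul, Finset.sum_sub_distrib]
    rw [← hx8, hc, hx, sub_self]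
  intro i
  have hci := Fintype.linearIndependent_iff.mp hli (fun i => c i ^ 2 - c i) hzero i
  have h2 : c i * (c i - 1) = 0 := by
    have h3 : c i * (c i - 1) = c i ^ 2 - c i := by ring
    rw [h3]; exact hci
  rcases mul_eq_zero.mp h2 with h | h
  · left; exact h
  · right; exact sub_eq_zero.mp h

/-- a matrix mapping each basis vector `θ^j v` to some `y v` with `y^8 = y` is, in the basis
`v, θ v, θ² v`, a `0/1` matrix -/
theorem ascf34_F2mat (hq : Fintype.card F = 4)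
    (K : Subalgebra F (Matrix (Fin 3) (Fin 3) F)) (hK : IsFieldSubalgebra 3 K)
    (θ : K) (h7 : θ ^ 7 = 1)
    (hli : LinearIndependent F (fun i : Fin 3 => θ ^ (i : ℕ))) (v : Fin 3 → F)
    (Pm : Matrix (Fin 3) (Fin 3) F)
    (hPm : ∀ i j, Pm i j = ((θ ^ (j : ℕ) : K) : Matrix (Fin 3) (Fin 3) F).mulVec v i)
    (h : Matrix (Fin 3) (Fin 3) F)
    (hh : ∀ j : Fin 3, ∃ y : K, y ^ 8 = y ∧
      h.mulVec (((θ ^ (j : ℕ) : K) : Matrix (Fin 3) (Fin 3) F).mulVec v) =
        (y : Matrix (Fin 3) (Fin 3) F).mulVec v) :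
    ∃ C : Matrix (Fin 3) (Fin 3) F, (∀ i j, C i j = 0 ∨ C i j = 1) ∧ h * Pm = Pm * C := by
  classical
  choose y hy8 hy using hh
  choose c hc01 hc using fun j => ascf34_coords hq K hK θ h7 hli (y j) (hy8 j)
  refine ⟨Matrix.of fun i j => c j i, fun i j => hc01 j i, ?_⟩
  ext a j
  have hcol : (fun b => Pm b j) = ((θ ^ (j : ℕ) : K) : Matrix (Fin 3) (Fin 3) F).mulVec v := by
    funext b; exact hPm b j
  have h1 : (h * Pm) a j = (h.mulVec (fun b => Pm b j)) a := by
    simp [Matrix.mul_apply, Matrix.mulVec, dotProduct]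
  rw [h1, hcol, hy j]
  have h2 : (y j : Matrix (Fin 3) (Fin 3) F).mulVec v = ascf34_ev K v (y j) := rfl
  rw [h2, hc j, map_sum]
  simp only [map_smul, Finset.sum_apply, Pi.smul_apply, smul_eq_mul, Matrix.mul_apply,
    Matrix.of_apply]
  refine Finset.sum_congr rfl fun i _ => ?_
  rw [ascf34_ev_apply, hPm a i, mul_comm]

/-- a `0/1` matrix has determinant `0` or `1` -/
theorem ascf34_det01 (h2 : (2 : F) = 0) (C : Matrix (Fin 3) (Fin 3) F)
    (hC : ∀ i j, C i j = 0 ∨ C i j = 1) : C.det = 0 ∨ C.det = 1 := by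
  let C₀ : Matrix (Fin 3) (Fin 3) (ascf34_F0 h2) := Matrix.of fun i j => ⟨C i j, hC i j⟩
  have h1 : C = (ascf34_F0 h2).subtype.mapMatrix C₀ := by
    ext i j; rfl
  have h3 : C.det = (ascf34_F0 h2).subtype (C₀.det) := by
    rw [h1, ← RingHom.map_det]
  rw [h3]
  exact (C₀.det).2

/-- cube roots of unity in `K` are scalars -/
theorem ascf34_cube_root (hq : Fintype.card F = 4)
    (K : Subalgebra F (Matrix (Fin 3) (Fin 3) F)) (hK : IsFieldSubalgebra 3 K)
    (a : K) (ha : a ^ 3 = 1) : ∃ c : F, c ≠ 0 ∧ a = algebraMap F K c := by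
  classical
  letI : Field K := (ascf34_isField K hK).toField
  have hex : ∃ ω : F, ω ≠ 0 ∧ ω ≠ 1 := by
    by_contra hcon
    push Not at hcon
    have hsub : (Finset.univ : Finset F) ⊆ {0, 1} := by
      intro x _
      by_cases hx : x = 0
      · simp [hx]
      · simp [hcon x hx]
    have := Finset.card_le_card hsub
    rw [Finset.card_univ, hq] at this
    have h2 : ({0, 1} : Finset F).card ≤ 2 := Finset.card_le_two
    omega
  obtain ⟨ω, hω0, hω1⟩ := hex
  have hω3 : ω ^ 3 = 1 := by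
    have := FiniteField.pow_card_sub_one_eq_one ω hω0
    rwa [hq] at this
  have hω : ω ^ 2 + ω + 1 = 0 := by
    have h1 : (ω - 1) * (ω ^ 2 + ω + 1) = 0 := by
      have : (ω - 1) * (ω ^ 2 + ω + 1) = ω ^ 3 - 1 := by ring
      rw [this, hω3, sub_self]
    rcases mul_eq_zero.mp h1 with h | h
    · exact absurd (sub_eq_zero.mp h) hω1
    · exact h
  set w : K := algebraMap F K ω with hw
  have hw2 : w ^ 2 + w + 1 = 0 := by
    rw [hw, ← map_pow, ← map_add, ← map_one (algebraMap F K), ← map_add, hω, map_zero]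
  have hprod : (a - 1) * (a - w) * (a - w ^ 2) = 0 := by
    linear_combination ha + (-a ^ 2 + w * a - (w - 1)) * hw2
  rcases mul_eq_zero.mp hprod with h | h
  · rcases mul_eq_zero.mp h with h | h
    · exact ⟨1, one_ne_zero, by rw [map_one]; exact sub_eq_zero.mp h⟩
    · exact ⟨ω, hω0, sub_eq_zero.mp h⟩
  · refine ⟨ω ^ 2, pow_ne_zero 2 hω0, ?_⟩
    rw [map_pow]
    exact sub_eq_zero.mp h

theorem ascf34_conj_pow {R : Type*} [Monoid R] (a b x : R) (hab : a * b = 1) (hba : b * a = 1)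
    (n : ℕ) : (a * x * b) ^ n = a * x ^ n * b := by
  induction n with
  | zero => simp [hab]
  | succ n ih =>
    rw [pow_succ, ih, pow_succ]
    calc a * x ^ n * b * (a * x * b) = a * x ^ n * ((b * a) * x) * b := by simp only [mul_assoc]
      _ = a * (x ^ n * x) * b := by rw [hba, one_mul]; simp only [mul_assoc]

/-- **F34**: for `(r, q) = (3, 4)` the normaliser of a field subalgebra of degree 3 meets `SL_3(4)`
inside a subfield group over `F₂` -/
theorem field_34 (hq : Fintype.card F = 4) (K : Subalgebra F (Matrix (Fin 3) (Fin 3) F))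
    (hK : IsFieldSubalgebra 3 K) :
    ∃ (F₀ : Subfield F) (P : GL (Fin 3) F), Fintype.card F = Nat.card F₀ ^ 2 ∧
      subalgebraNormalizer K ⊓ specialLinear (Fin 3) F ≤ subfieldSubgroup F₀ P := by
  classical
  have h2 := ascf34_two hq
  obtain ⟨θ, h7, hθ1⟩ := ascf34_exists_theta hq K hK
  have hli := ascf34_li hq K hK θ h7 hθ1
  have hθ8 : θ ^ 8 = θ := by
    rw [pow_succ, h7, one_mul]
  obtain ⟨v, hvdef⟩ : ∃ v : Fin 3 → F, v = Pi.single 0 1 := ⟨_, rfl⟩
  have hv : v ≠ 0 := by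
    intro h
    have := congrFun h 0
    rw [hvdef] at this
    simp at this
  obtain ⟨Pm, hPm⟩ : ∃ Pm : Matrix (Fin 3) (Fin 3) F,
      ∀ i j, Pm i j = ((θ ^ (j : ℕ) : K) : Matrix (Fin 3) (Fin 3) F).mulVec v i :=
    ⟨Matrix.of fun i j => ((θ ^ (j : ℕ) : K) : Matrix (Fin 3) (Fin 3) F).mulVec v i,
      fun i j => rfl⟩
  have hPu : IsUnit Pm := by
    rw [← Matrix.linearIndependent_cols_iff_isUnit]
    have h1 : LinearIndependent F (fun j : Fin 3 => ascf34_ev K v (θ ^ (j : ℕ))) :=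
      hli.map' (ascf34_ev K v) (LinearMap.ker_eq_bot.mpr (ascf34_ev_inj K hK v hv))
    have h3 : Pm.col = fun j : Fin 3 => ascf34_ev K v (θ ^ (j : ℕ)) := by
      funext j i
      exact hPm i j
    rw [h3]; exact h1
  have hPdet : Pm.det ≠ 0 := ((Matrix.isUnit_iff_isUnit_det Pm).mp hPu).ne_zero
  obtain ⟨P, hP⟩ := hPu
  refine ⟨ascf34_F0 h2, P, ?_, ?_⟩
  · rw [hq, ascf34_card_F0]; norm_num
  intro g hg
  obtain ⟨hgN, hgS⟩ := Subgroup.mem_inf.mp hg
  obtain ⟨gm, hgm⟩ : ∃ gm : Matrix (Fin 3) (Fin 3) F, gm = (g : Matrix (Fin 3) (Fin 3) F) :=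
    ⟨_, rfl⟩
  obtain ⟨gi, hgi⟩ : ∃ gi : Matrix (Fin 3) (Fin 3) F,
      gi = ((g⁻¹ : GL (Fin 3) F) : Matrix (Fin 3) (Fin 3) F) := ⟨_, rfl⟩
  have hgmgi : gm * gi = 1 := by
    rw [hgm, hgi, ← Units.val_mul, mul_inv_cancel, Units.val_one]
  have hgigm : gi * gm = 1 := by
    rw [hgm, hgi, ← Units.val_mul, inv_mul_cancel, Units.val_one]
  have hN : ∀ k : Matrix (Fin 3) (Fin 3) F, k ∈ K ↔ gm * k * gi ∈ K := by
    intro k; rw [hgm, hgi]; exact hgN k
  have hdet : gm.det = 1 := by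
    have h3 : Matrix.GeneralLinearGroup.det g = 1 := hgS
    have h4 := congrArg Units.val h3
    rw [Matrix.GeneralLinearGroup.val_det_apply, Units.val_one] at h4
    rw [hgm]; exact h4
  have hτmem : ∀ x : K, gm * (x : Matrix (Fin 3) (Fin 3) F) * gi ∈ K := fun x => (hN x).mp x.2
  obtain ⟨τ, hτ⟩ : ∃ τ : K → K, ∀ x : K,
      ((τ x : K) : Matrix (Fin 3) (Fin 3) F) = gm * (x : Matrix (Fin 3) (Fin 3) F) * gi :=
    ⟨fun x => ⟨_, hτmem x⟩, fun x => rfl⟩
  have hτ8 : ∀ x : K, x ^ 8 = x → (τ x) ^ 8 = τ x := by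
    intro x hx
    apply Subtype.ext
    rw [Subalgebra.coe_pow, hτ, ascf34_conj_pow gm gi _ hgmgi hgigm 8, ← Subalgebra.coe_pow, hx]
  obtain ⟨k, hk⟩ := ascf34_ev_surj K hK v hv (gm.mulVec v)
  rw [ascf34_ev_apply] at hk
  have hgv : gm.mulVec v ≠ 0 := by
    intro h0
    apply hv
    have : gi.mulVec (gm.mulVec v) = v := by
      rw [Matrix.mulVec_mulVec, hgigm, Matrix.one_mulVec]
    rw [← this, h0, Matrix.mulVec_zero]
  have hk0 : (k : Matrix (Fin 3) (Fin 3) F) ≠ 0 := by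
    intro h0
    apply hgv
    rw [← hk, h0, Matrix.zero_mulVec]
  obtain ⟨k', hk'K, hkk'⟩ := hK.inv k k.2 hk0
  have hk'k : k' * (k : Matrix (Fin 3) (Fin 3) F) = 1 := by
    rw [hK.comm k' hk'K k k.2]; exact hkk'
  obtain ⟨g', hg'⟩ : ∃ g' : Matrix (Fin 3) (Fin 3) F, g' = k' * gm := ⟨_, rfl⟩
  have hg'v : g'.mulVec v = v := by
    rw [hg', ← Matrix.mulVec_mulVec, ← hk, Matrix.mulVec_mulVec, hk'k, Matrix.one_mulVec]
  have hg'x : ∀ x : K, g' * (x : Matrix (Fin 3) (Fin 3) F) =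
      (τ x : Matrix (Fin 3) (Fin 3) F) * g' := by
    intro x
    rw [hg', hτ]
    have h1 : gm * (x : Matrix (Fin 3) (Fin 3) F) * gi * (k' * gm) =
        k' * (gm * (x : Matrix (Fin 3) (Fin 3) F) * gi) * gm := by
      rw [← mul_assoc, hK.comm _ (hτmem x) k' hk'K]
    rw [h1]
    simp only [mul_assoc]
    rw [hgigm, mul_one]
  have hg'xv : ∀ x : K, g'.mulVec ((x : Matrix (Fin 3) (Fin 3) F).mulVec v) =
      (τ x : Matrix (Fin 3) (Fin 3) F).mulVec v := by
    intro x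
    rw [Matrix.mulVec_mulVec, hg'x, ← Matrix.mulVec_mulVec, hg'v]
  have hθj8 : ∀ j : Fin 3, (θ ^ (j : ℕ)) ^ 8 = θ ^ (j : ℕ) := by
    intro j; rw [← pow_mul, mul_comm, pow_mul, hθ8]
  obtain ⟨C1, hC1, hC1eq⟩ := ascf34_F2mat hq K hK θ h7 hli v Pm hPm g'
    (fun j => ⟨τ (θ ^ (j : ℕ)), hτ8 _ (hθj8 j), hg'xv _⟩)
  have hdetg'C1 : g'.det = C1.det := by
    have := congrArg Matrix.det hC1eq
    rw [Matrix.det_mul, Matrix.det_mul, mul_comm] at this
    exact mul_left_cancel₀ hPdet this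
  have hdetg' : g'.det = k'.det := by rw [hg', Matrix.det_mul, hdet, mul_one]
  have hdetkk' : (k : Matrix (Fin 3) (Fin 3) F).det * k'.det = 1 := by
    rw [← Matrix.det_mul, hkk', Matrix.det_one]
  have hdetk' : k'.det = 1 := by
    rcases ascf34_det01 h2 C1 hC1 with h0 | h1
    · exfalso
      rw [← hdetg'C1, hdetg'] at h0
      rw [h0, mul_zero] at hdetkk'
      exact zero_ne_one hdetkk'
    · rw [← hdetg'C1, hdetg'] at h1; exact h1
  have hdetk : (k : Matrix (Fin 3) (Fin 3) F).det = 1 := by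
    rw [hdetk', mul_one] at hdetkk'; exact hdetkk'
  have hk21 : k ^ 21 = 1 := by rw [← ascf34_det_eq hq K hK k, hdetk, map_one]
  obtain ⟨c, hc0, hac⟩ := ascf34_cube_root hq K hK (k ^ 7) (by rw [← pow_mul]; exact hk21)
  have hb8 : (k ^ 15) ^ 8 = k ^ 15 := by
    rw [← pow_mul]
    have : k ^ (15 * 8) = (k ^ 21) ^ 5 * k ^ 15 := by rw [← pow_mul, ← pow_add]
    rw [this, hk21, one_pow, one_mul]
  have hab : k ^ 7 * k ^ 15 = k := by
    rw [← pow_add]
    have : k ^ (7 + 15) = k ^ 21 * k := by rw [← pow_succ]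
    rw [this, hk21, one_mul]
  have hamat : ((k ^ 7 : K) : Matrix (Fin 3) (Fin 3) F) =
      c • (1 : Matrix (Fin 3) (Fin 3) F) := by
    rw [hac, Algebra.algebraMap_eq_smul_one]
    rfl
  obtain ⟨bm, hbm⟩ : ∃ bm : Matrix (Fin 3) (Fin 3) F,
      bm = ((k ^ 15 : K) : Matrix (Fin 3) (Fin 3) F) := ⟨_, rfl⟩
  have hcomm : ∀ x y : K, Commute x y := fun x y => Subtype.ext (hK.comm x x.2 y y.2)
  obtain ⟨C2, hC2, hC2eq⟩ := ascf34_F2mat hq K hK θ h7 hli v Pm hPm (bm * g')
    (fun j => ⟨k ^ 15 * τ (θ ^ (j : ℕ)), by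
        rw [(hcomm _ _).mul_pow, hb8, hτ8 _ (hθj8 j)], by
        rw [← Matrix.mulVec_mulVec, hg'xv, Matrix.mulVec_mulVec, hbm]; rfl⟩)
  have hdetb : bm.det = 1 := by rw [hbm, Subalgebra.coe_pow, Matrix.det_pow, hdetk, one_pow]
  have hdetC2 : C2.det = 1 := by
    have := congrArg Matrix.det hC2eq
    rw [Matrix.det_mul, Matrix.det_mul, Matrix.det_mul, hdetb, hdetg', hdetk', one_mul,
      one_mul] at this
    have h5 : Pm.det * 1 = Pm.det * C2.det := by rw [mul_one]; exact this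
    exact (mul_left_cancel₀ hPdet h5).symm
  have hgmk : gm = (k : Matrix (Fin 3) (Fin 3) F) * g' := by
    rw [hg', ← mul_assoc, hkk', one_mul]
  have hkab : (k : Matrix (Fin 3) (Fin 3) F) = (c • (1 : Matrix (Fin 3) (Fin 3) F)) * bm := by
    rw [← hamat, hbm, ← Subalgebra.coe_mul, hab]
  have hgmPm : gm * Pm = Pm * (C2 * (c • (1 : Matrix (Fin 3) (Fin 3) F))) := by
    calc gm * Pm = (c • (1 : Matrix (Fin 3) (Fin 3) F)) * ((bm * g') * Pm) := by
          rw [hgmk, hkab]; simp only [mul_assoc]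
      _ = (c • (1 : Matrix (Fin 3) (Fin 3) F)) * (Pm * C2) := by rw [hC2eq]
      _ = Pm * (C2 * (c • (1 : Matrix (Fin 3) (Fin 3) F))) := by
          simp only [Matrix.smul_mul, Matrix.mul_smul, Matrix.one_mul, Matrix.mul_one]
  -- the `F₂`-matrix and the scalar
  obtain ⟨C2₀, hC2map⟩ : ∃ C2₀ : Matrix (Fin 3) (Fin 3) (ascf34_F0 h2),
      (ascf34_F0 h2).subtype.mapMatrix C2₀ = C2 :=
    ⟨Matrix.of fun i j => ⟨C2 i j, hC2 i j⟩, by ext i j; rfl⟩
  have hdetC2₀ : C2₀.det ≠ 0 := by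
    intro h0
    have h6 : C2.det = (ascf34_F0 h2).subtype (C2₀.det) := by
      rw [← hC2map, ← RingHom.map_det]
    rw [h0, map_zero, hdetC2] at h6
    exact one_ne_zero h6
  obtain ⟨x, hxmem, hx⟩ : ∃ x : GL (Fin 3) F,
      x ∈ (Matrix.GeneralLinearGroup.map ((ascf34_F0 h2).subtype : (ascf34_F0 h2) →+* F)).range ∧
      (x : Matrix (Fin 3) (Fin 3) F) = C2 := by
    refine ⟨Matrix.GeneralLinearGroup.map (ascf34_F0 h2).subtype
      (Matrix.GeneralLinearGroup.mkOfDetNeZero C2₀ hdetC2₀), ⟨_, rfl⟩, ?_⟩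
    rw [← hC2map]
    rfl
  obtain ⟨s, hsmem, hs⟩ : ∃ s : GL (Fin 3) F, s ∈ scalars (Fin 3) F ∧
      (s : Matrix (Fin 3) (Fin 3) F) = c • (1 : Matrix (Fin 3) (Fin 3) F) := by
    have hdets : (c • (1 : Matrix (Fin 3) (Fin 3) F)).det ≠ 0 := by
      rw [Matrix.det_smul, Matrix.det_one, mul_one]; exact pow_ne_zero _ hc0
    refine ⟨Matrix.GeneralLinearGroup.mkOfDetNeZero _ hdets, ?_, rfl⟩
    exact (mem_scalars_iff _).mpr ⟨Units.mk0 c hc0, rfl⟩
  show g ∈ Subgroup.map (MulAut.conj P).toMonoidHom _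
  refine Subgroup.mem_map.mpr ⟨x * s, Subgroup.mul_mem_sup hxmem hsmem, ?_⟩
  rw [MulEquiv.coe_toMonoidHom, MulAut.conj_apply, mul_inv_eq_iff_eq_mul]
  apply Units.ext
  rw [Units.val_mul, Units.val_mul, Units.val_mul, hP, hx, hs, ← hgm, hgmPm]

end Cfsg.Agent.Lib.Helper27.ASC
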