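import Mathlib
import Cfsg.Agent.Lib.Helper28.CD3.Defs

/-!
# CD3 piece DICH1 (Isaacs Lemma 12.3, group-theoretic part)
-/

set_option autoImplicit false
open scoped commutatorElement

namespace Cfsg.Agent.Lib.Helper28.CD3

universe u

/-- the derived subgroup is abelian -/
theorem cd3dich1_abelian (X : Type u) [Group X] [Finite X] (hs : Group.IsSolvable X)
    (hna : commutator X ≠ ⊥)
    (hq : ∀ N : Subgroup X, N.Normal → N ≠ ⊥ → commutator X ≤ N) :
    ∀ x ∈ commutator X, ∀ y ∈ commutator X, x * y = y * x := by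
  set V := commutator X with hV
  have hVn : V.Normal := inferInstance
  have h1 : ⁅V, V⁆ = ⊥ := by
    by_contra hne
    have hn : (⁅V, V⁆ : Subgroup X).Normal := Subgroup.commutator_normal V V
    have hle : V ≤ ⁅V, V⁆ := hq _ hn hne
    have hle2 : ⁅V, V⁆ ≤ V := Subgroup.commutator_le_left V V
    have heq : ⁅V, V⁆ = V := le_antisymm hle2 hle
    have : Nontrivial V := (Subgroup.nontrivial_iff_ne_bot V).mpr hna
    have hlt := Group.IsSolvable.commutator_lt_top_of_nontrivial V
    apply hlt.ne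
    apply Subgroup.map_injective V.subtype_injective
    rw [Subgroup.map_subtype_commutator, heq, ← MonoidHom.range_eq_map, Subgroup.range_subtype]
  intro x hx y hy
  have : ⁅x, y⁆ ∈ (⁅V, V⁆ : Subgroup X) := Subgroup.commutator_mem_commutator hx hy
  rw [h1, Subgroup.mem_bot] at this
  exact commutatorElement_eq_one_iff_mul_comm.mp this

/-- the derived subgroup has prime exponent -/
theorem cd3dich1_exponent (X : Type u) [Group X] [Finite X]
    (hna : commutator X ≠ ⊥)
    (hq : ∀ N : Subgroup X, N.Normal → N ≠ ⊥ → commutator X ≤ N)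
    (hab : ∀ x ∈ commutator X, ∀ y ∈ commutator X, x * y = y * x) :
    ∃ p : ℕ, p.Prime ∧ p ∣ Nat.card (commutator X) ∧ ∀ d ∈ commutator X, d ^ p = 1 := by
  set V := commutator X with hV
  have hVn : V.Normal := inferInstance
  have hcard : Nat.card V ≠ 1 := by
    intro h
    exact hna (Subgroup.card_eq_one.mp h)
  obtain ⟨p, hp, hpd⟩ := Nat.exists_prime_and_dvd hcard
  have : Fact p.Prime := ⟨hp⟩
  obtain ⟨x, hx⟩ := exists_prime_orderOf_dvd_card' p hpd
  refine ⟨p, hp, hpd, ?_⟩
  let Ω : Subgroup X :=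
    { carrier := {d | d ∈ V ∧ d ^ p = 1}
      one_mem' := ⟨V.one_mem, one_pow p⟩
      mul_mem' := by
        rintro a b ⟨ha, ha1⟩ ⟨hb, hb1⟩
        refine ⟨V.mul_mem ha hb, ?_⟩
        have hc : Commute a b := hab a ha b hb
        rw [hc.mul_pow, ha1, hb1, one_mul]
      inv_mem' := by
        rintro a ⟨ha, ha1⟩
        exact ⟨V.inv_mem ha, by rw [inv_pow, ha1, inv_one]⟩ }
  have hΩn : Ω.Normal := by
    refine ⟨fun n hn g => ?_⟩
    obtain ⟨hn1, hn2⟩ := hn
    refine ⟨hVn.conj_mem n hn1 g, ?_⟩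
    rw [conj_pow, hn2, mul_one, mul_inv_cancel]
  have hΩne : Ω ≠ ⊥ := by
    intro h
    have hxΩ : (x : X) ∈ Ω := by
      refine ⟨x.2, ?_⟩
      rw [← Subgroup.coe_pow, ← hx, pow_orderOf_eq_one, Subgroup.coe_one]
    rw [h, Subgroup.mem_bot] at hxΩ
    have : x = 1 := Subtype.ext hxΩ
    rw [this, orderOf_one] at hx
    exact hp.one_lt.ne hx
  intro d hd
  exact (hq Ω hΩn hΩne hd).2

/-- the case of a nontrivial centre -/
theorem cd3dich1_central (X : Type u) [Group X] [Finite X]
    (hq : ∀ N : Subgroup X, N.Normal → N ≠ ⊥ → commutator X ≤ N)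
    (p : ℕ) (hp : p.Prime) (hpd : p ∣ Nat.card (commutator X))
    (hexp : ∀ d ∈ commutator X, d ^ p = 1)
    (hZ : Subgroup.center X ≠ ⊥) : IsPGroup p X := by
  set V := commutator X with hV
  have hVZ : V ≤ Subgroup.center X := hq _ inferInstance hZ
  have hne : Nat.card X ≠ 0 := Nat.card_pos.ne'
  have key : ∀ {r : ℕ}, r.Prime → r ∣ Nat.card X → r = p := by
    intro r hr hrd
    by_contra hrp
    have : Fact r.Prime := ⟨hr⟩
    obtain ⟨x, hx⟩ := exists_prime_orderOf_dvd_card' r hrd
    have hxc : x ∈ Subgroup.center X := by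
      rw [Subgroup.mem_center_iff]
      intro g
      set c := ⁅x⁻¹, g⁆ with hc
      have hcV : c ∈ V := by
        rw [hV, commutator_def]
        exact Subgroup.commutator_mem_commutator (Subgroup.mem_top _) (Subgroup.mem_top _)
      have hcZ : c ∈ Subgroup.center X := hVZ hcV
      have hcomm : Commute x c := Subgroup.mem_center_iff.mp hcZ x
      have e1 : g * x * g⁻¹ = x * c := by
        rw [hc, commutatorElement_def]; group
      have e2 : (x * c) ^ r = c ^ r := by
        rw [hcomm.mul_pow, ← hx, pow_orderOf_eq_one, one_mul]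
      have e3 : (g * x * g⁻¹) ^ r = 1 := by
        rw [conj_pow, ← hx, pow_orderOf_eq_one, mul_one, mul_inv_cancel]
      rw [e1, e2] at e3
      have h1 : orderOf c ∣ r := orderOf_dvd_of_pow_eq_one e3
      have h2 : orderOf c ∣ p := orderOf_dvd_of_pow_eq_one (hexp c hcV)
      have h3 : orderOf c = 1 :=
        Nat.eq_one_of_dvd_coprimes ((Nat.coprime_primes hr hp).mpr hrp) h1 h2
      have h4 : c = 1 := orderOf_eq_one_iff.mp h3
      rw [h4, mul_one] at e1
      calc g * x = (g * x * g⁻¹) * g := by group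
        _ = x * g := by rw [e1]
    have hNn : (Subgroup.zpowers x).Normal := by
      refine ⟨fun n hn g => ?_⟩
      obtain ⟨k, rfl⟩ := Subgroup.mem_zpowers_iff.mp hn
      have hk : x ^ k ∈ Subgroup.center X := (Subgroup.center X).zpow_mem hxc k
      have : g * x ^ k * g⁻¹ = x ^ k := by
        rw [(Subgroup.mem_center_iff.mp hk g), mul_inv_cancel_right]
      rw [this]
      exact Subgroup.zpow_mem_zpowers x k
    have hNne : Subgroup.zpowers x ≠ ⊥ := by
      intro h
      rw [Subgroup.zpowers_eq_bot] at h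
      rw [h, orderOf_one] at hx
      exact hr.one_lt.ne hx
    have hle : V ≤ Subgroup.zpowers x := hq _ hNn hNne
    have hdvd : Nat.card V ∣ Nat.card (Subgroup.zpowers x) := Subgroup.card_dvd_of_le hle
    rw [Nat.card_zpowers, hx] at hdvd
    have : p ∣ r := dvd_trans hpd hdvd
    exact hrp ((Nat.prime_dvd_prime_iff_eq hp hr).mp this).symm
  have := Nat.eq_prime_pow_of_unique_prime_dvd hne key
  have hp' : Fact p.Prime := ⟨hp⟩
  exact IsPGroup.of_card this

/-- normality of `C_V(g)` forces: `g` centralizes some nontrivial element of `V` only if it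
centralizes `V`. -/
theorem cd3dich1_key (X : Type u) [Group X] [Finite X]
    (hq : ∀ N : Subgroup X, N.Normal → N ≠ ⊥ → commutator X ≤ N)
    (hab : ∀ x ∈ commutator X, ∀ y ∈ commutator X, x * y = y * x)
    (g : X) (h : ∃ d ∈ commutator X, d ≠ 1 ∧ g * d = d * g) :
    ∀ v ∈ commutator X, g * v = v * g := by
  set V := commutator X with hV
  have hVn : V.Normal := inferInstance
  let C : Subgroup X := V ⊓ Subgroup.centralizer {g}
  have hCmem : ∀ d, d ∈ C ↔ d ∈ V ∧ g * d = d * g := by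
    intro d
    show d ∈ V ⊓ Subgroup.centralizer {g} ↔ _
    rw [Subgroup.mem_inf, Subgroup.mem_centralizer_iff]
    constructor
    · rintro ⟨h1, h2⟩
      exact ⟨h1, h2 g rfl⟩
    · rintro ⟨h1, h2⟩
      refine ⟨h1, ?_⟩
      intro y hy
      rw [Set.mem_singleton_iff] at hy
      rw [hy]; exact h2
  have hCn : C.Normal := by
    refine ⟨fun n hn x => ?_⟩
    rw [hCmem] at hn ⊢
    obtain ⟨hn1, hn2⟩ := hn
    refine ⟨hVn.conj_mem n hn1 x, ?_⟩
    set w := x * n * x⁻¹ with hw
    set c' := ⁅g⁻¹, x⁆ with hc'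
    have hc'V : c' ∈ V := by
      rw [hV, commutator_def]
      exact Subgroup.commutator_mem_commutator (Subgroup.mem_top _) (Subgroup.mem_top _)
    have hwV : w ∈ V := hVn.conj_mem n hn1 x
    have h1 : Commute (x * g * x⁻¹) w := by
      show x * g * x⁻¹ * w = w * (x * g * x⁻¹)
      rw [hw]
      calc x * g * x⁻¹ * (x * n * x⁻¹) = x * (g * n) * x⁻¹ := by group
        _ = x * (n * g) * x⁻¹ := by rw [hn2]
        _ = x * n * x⁻¹ * (x * g * x⁻¹) := by group
    have h2 : Commute c' w := hab c' hc'V w hwV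
    have h3 : Commute (x * g * x⁻¹ * c'⁻¹) w := h1.mul_left h2.inv_left
    have e : x * g * x⁻¹ * c'⁻¹ = g := by
      rw [hc', commutatorElement_def]; group
    rw [e] at h3
    exact h3
  have hCne : C ≠ ⊥ := by
    obtain ⟨d, hd, hd1, hd2⟩ := h
    intro hbot
    have : d ∈ C := (hCmem d).mpr ⟨hd, hd2⟩
    rw [hbot, Subgroup.mem_bot] at this
    exact hd1 this
  intro v hv
  exact ((hCmem v).mp (hq C hCn hCne hv)).2

/-- with trivial centre, the centralizer of the derived subgroup is the derived subgroup -/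
theorem cd3dich1_cent (X : Type u) [Group X] [Finite X]
    (hna : commutator X ≠ ⊥)
    (hq : ∀ N : Subgroup X, N.Normal → N ≠ ⊥ → commutator X ≤ N)
    (hab : ∀ x ∈ commutator X, ∀ y ∈ commutator X, x * y = y * x)
    (hZ : Subgroup.center X = ⊥) (k : X) (hk : ∀ v ∈ commutator X, k * v = v * k) :
    k ∈ commutator X := by
  set V := commutator X with hV
  have hVn : V.Normal := inferInstance
  have hcomm : ∀ a b : X, ⁅a, b⁆ ∈ V := by
    intro a b
    rw [hV, commutator_def]
    exact Subgroup.commutator_mem_commutator (Subgroup.mem_top _) (Subgroup.mem_top _)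
  -- an element `g0` acting fixed-point-freely on `V`
  obtain ⟨v0, hv0, hv01⟩ : ∃ v0 ∈ V, v0 ≠ 1 := by
    by_contra hcon
    push Not at hcon
    apply hna
    rw [Subgroup.eq_bot_iff_forall]
    exact hcon
  have hv0c : v0 ∉ Subgroup.center X := by
    rw [hZ, Subgroup.mem_bot]; exact hv01
  obtain ⟨g0, hg0⟩ : ∃ g0 : X, g0 * v0 ≠ v0 * g0 := by
    by_contra hcon
    push Not at hcon
    exact hv0c (Subgroup.mem_center_iff.mpr hcon)
  have hfp : ∀ d ∈ V, g0 * d = d * g0 → d = 1 := by
    intro d hd hdc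
    by_contra hd1
    exact hg0 (cd3dich1_key X hq hab g0 ⟨d, hd, hd1, hdc⟩ v0 hv0)
  -- the map `v ↦ ⁅v, g0⁆` is a bijection of `V`
  let φ : V → V := fun v => ⟨⁅(v : X), g0⁆, hcomm _ _⟩
  have hφinj : Function.Injective φ := by
    intro v1 v2 h12
    have h1 : ⁅(v1 : X), g0⁆ = ⁅(v2 : X), g0⁆ := congrArg Subtype.val h12
    rw [commutatorElement_def, commutatorElement_def] at h1
    have h2 : (v1 : X) * g0 * (v1 : X)⁻¹ = (v2 : X) * g0 * (v2 : X)⁻¹ := mul_right_cancel h1
    have h3 : g0 * ((v2 : X)⁻¹ * v1) = ((v2 : X)⁻¹ * v1) * g0 := by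
      calc g0 * ((v2 : X)⁻¹ * v1) = (v2 : X)⁻¹ * ((v2 : X) * g0 * (v2 : X)⁻¹) * v1 := by group
        _ = (v2 : X)⁻¹ * ((v1 : X) * g0 * (v1 : X)⁻¹) * v1 := by rw [h2]
        _ = ((v2 : X)⁻¹ * v1) * g0 := by group
    have h4 := hfp _ (V.mul_mem (V.inv_mem v2.2) v1.2) h3
    apply Subtype.ext
    exact (inv_mul_eq_one.mp h4).symm
  have hφsurj : Function.Surjective φ := Finite.injective_iff_surjective.mp hφinj
  obtain ⟨v, hv⟩ := hφsurj ⟨⁅k, g0⁆, hcomm _ _⟩
  have hv1 : ⁅(v : X), g0⁆ = ⁅k, g0⁆ := congrArg Subtype.val hv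
  rw [commutatorElement_def, commutatorElement_def] at hv1
  have hv2 : (v : X) * g0 * (v : X)⁻¹ = k * g0 * k⁻¹ := mul_right_cancel hv1
  set c := (v : X)⁻¹ * k with hc
  have hcg0 : g0 * c = c * g0 := by
    rw [hc]
    calc g0 * ((v : X)⁻¹ * k) = (v : X)⁻¹ * ((v : X) * g0 * (v : X)⁻¹) * k := by group
      _ = (v : X)⁻¹ * (k * g0 * k⁻¹) * k := by rw [hv2]
      _ = (v : X)⁻¹ * k * g0 := by group
  have hcV : ∀ u ∈ V, c * u = u * c := by
    intro u hu
    have h1 : Commute (v : X)⁻¹ u := (hab _ (V.inv_mem v.2) u hu)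
    have h2 : Commute k u := hk u hu
    exact h1.mul_left h2
  have hcZ : c ∈ Subgroup.center X := by
    rw [Subgroup.mem_center_iff]
    intro g'
    set w := ⁅c, g'⁆ with hw
    set u := ⁅g0, g'⁆ with hu
    have hwV : w ∈ V := hcomm _ _
    have huV : u ∈ V := hcomm _ _
    have hgc : g0 * c * g0⁻¹ = c := by rw [hcg0, mul_inv_cancel_right]
    have hug : g0 * g' * g0⁻¹ = u * g' := by
      rw [hu, commutatorElement_def]; group
    have e1 : g0 * w * g0⁻¹ = c * (u * g') * c⁻¹ * (u * g')⁻¹ := by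
      calc g0 * w * g0⁻¹ = (g0 * c * g0⁻¹) * (g0 * g' * g0⁻¹) * (g0 * c * g0⁻¹)⁻¹ *
            (g0 * g' * g0⁻¹)⁻¹ := by rw [hw, commutatorElement_def]; group
        _ = c * (u * g') * c⁻¹ * (u * g')⁻¹ := by rw [hgc, hug]
    have e2 : c * (u * g') * c⁻¹ * (u * g')⁻¹ = u * w * u⁻¹ := by
      calc c * (u * g') * c⁻¹ * (u * g')⁻¹ = (c * u) * g' * c⁻¹ * g'⁻¹ * u⁻¹ := by group
        _ = (u * c) * g' * c⁻¹ * g'⁻¹ * u⁻¹ := by rw [hcV u huV]
        _ = u * w * u⁻¹ := by rw [hw, commutatorElement_def]; group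
    have e3 : u * w * u⁻¹ = w := by
      rw [hab u huV w hwV, mul_inv_cancel_right]
    have e4 : g0 * w = w * g0 := by
      calc g0 * w = (g0 * w * g0⁻¹) * g0 := by group
        _ = w * g0 := by rw [e1, e2, e3]
    have hw1 : w = 1 := hfp w hwV e4
    rw [hw, commutatorElement_eq_one_iff_mul_comm] at hw1
    exact hw1.symm
  rw [hZ, Subgroup.mem_bot] at hcZ
  have : k = v := by
    rw [hc] at hcZ
    exact (inv_mul_eq_one.mp hcZ).symm
  rw [this]
  exact v.2

-- piece DICH1 (pure group theory, Isaacs Lemma 12.3)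
theorem dich_group (X : Type u) [Group X] [Finite X] (hs : Group.IsSolvable X)
    (hna : commutator X ≠ ⊥)
    (hq : ∀ N : Subgroup X, N.Normal → N ≠ ⊥ → commutator X ≤ N) :
    (∃ p : ℕ, p.Prime ∧ IsPGroup p X) ∨
    (∃ p : ℕ, p.Prime ∧ IsPGroup p (commutator X) ∧ ¬ p ∣ (commutator X).index ∧
      (∀ x ∈ commutator X, ∀ y ∈ commutator X, x * y = y * x) ∧
      (∀ g : X, g ∉ commutator X → ∀ d ∈ commutator X, g * d = d * g → d = 1)) := by
  have hab := cd3dich1_abelian X hs hna hq
  obtain ⟨p, hp, hpd, hexp⟩ := cd3dich1_exponent X hna hq hab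
  have hp' : Fact p.Prime := ⟨hp⟩
  by_cases hZ : Subgroup.center X = ⊥
  · right
    have hVn : (commutator X).Normal := inferInstance
    have hVp : IsPGroup p (commutator X) := by
      intro d
      refine ⟨1, ?_⟩
      apply Subtype.ext
      rw [pow_one, Subgroup.coe_pow, hexp d d.2, Subgroup.coe_one]
    have hfpf : ∀ g : X, g ∉ commutator X → ∀ d ∈ commutator X, g * d = d * g → d = 1 := by
      intro g hg d hd hdc
      by_contra hd1
      exact hg (cd3dich1_cent X hna hq hab hZ g (cd3dich1_key X hq hab g ⟨d, hd, hd1, hdc⟩))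
    refine ⟨p, hp, hVp, ?_, hab, hfpf⟩
    intro hpi
    rw [Subgroup.index_eq_card] at hpi
    obtain ⟨gb, hgb⟩ := exists_prime_orderOf_dvd_card' p hpi
    obtain ⟨g, rfl⟩ := QuotientGroup.mk_surjective gb
    have hgV : g ∉ commutator X := by
      intro hg
      have : (g : X ⧸ commutator X) = 1 := (QuotientGroup.eq_one_iff g).mpr hg
      rw [this, orderOf_one] at hgb
      exact hp.one_lt.ne hgb
    have hgp : g ^ p ∈ commutator X := by
      rw [← QuotientGroup.eq_one_iff, QuotientGroup.mk_pow, ← hgb, pow_orderOf_eq_one]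
    have hgpp : g ^ (p ^ 2) = 1 := by
      rw [pow_two, pow_mul]
      exact hexp _ hgp
    have hQ : IsPGroup p (Subgroup.zpowers g) := by
      have h1 : orderOf g ∣ p ^ 2 := orderOf_dvd_of_pow_eq_one hgpp
      obtain ⟨j, -, hj⟩ := (Nat.dvd_prime_pow hp).mp h1
      apply IsPGroup.of_card (n := j)
      rw [Nat.card_zpowers, hj]
    let f : Subgroup.zpowers g →* MulAut (commutator X) :=
      (MulAut.conjNormal).comp (Subgroup.zpowers g).subtype
    let _ : MulAction (Subgroup.zpowers g) (commutator X) := MulAction.compHom _ f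
    have hsmul : ∀ (y : Subgroup.zpowers g) (v : commutator X),
        ((y • v : commutator X) : X) = (y : X) * v * (y : X)⁻¹ := by
      intro y v
      show ((MulAut.conjNormal (y : X) : MulAut (commutator X)) v : X) = _
      rw [MulAut.conjNormal_apply]
    have h1fix : (1 : commutator X) ∈ MulAction.fixedPoints (Subgroup.zpowers g) (commutator X) := by
      intro y
      apply Subtype.ext
      rw [hsmul]; simp
    obtain ⟨b, hb, hb1⟩ := hQ.exists_fixed_point_of_prime_dvd_card_of_fixed_point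
      (commutator X) hpd h1fix
    have hb2 := hb ⟨g, Subgroup.mem_zpowers g⟩
    have hb3 : g * (b : X) * g⁻¹ = b := by
      have := congrArg Subtype.val hb2
      rwa [hsmul] at this
    have hb4 : g * (b : X) = (b : X) * g := by
      calc g * (b : X) = (g * (b : X) * g⁻¹) * g := by group
        _ = (b : X) * g := by rw [hb3]
    have hb5 := hfpf g hgV b b.2 hb4
    exact hb1 (Subtype.ext hb5.symm)
  · left
    exact ⟨p, hp, cd3dich1_central X hq p hp hpd hexp hZ⟩

end Cfsg.Agent.Lib.Helper28.CD3
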