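import Mathlib
import Cfsg.Agent.Lib.Helper19.SPD.Defs
import Cfsg.Agent.Lib.helper6.Symp

/-!
# Project SPD (S5961, leader helper19): rows ODINJ, ODPERM, ODMAP (helper9), verbatim.
-/

set_option autoImplicit false
set_option linter.unusedVariables false
set_option linter.unusedSectionVars false

namespace Cfsg.Agent.Lib.Helper19.SPD

open Polynomial

variable {F : Type*} [Field F] {d : ℕ}

/-- ODINJ [S]: the members of an `IsOD` family are distinct. -/
theorem od_inj {a t : ℕ} (D : Fin t → Submodule F (Fin d ⊕ Fin d → F)) (hD : IsOD a D) : Function.Injective D := by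
  apply hD.1.indep.injective
  intro j hj
  have h1 := hD.1.finrank_eq j
  rw [hj, finrank_bot] at h1
  have h2 := hD.1.pos
  omega

/-- ODPERM [S]: `IsOD` is invariant under permutation of the index set. -/
theorem od_perm {a t : ℕ} (D : Fin t → Submodule F (Fin d ⊕ Fin d → F)) (σ : Equiv.Perm (Fin t)) (hD : IsOD a D) :
    IsOD a (D ∘ σ) := by
  refine ⟨⟨hD.1.two_le, hD.1.pos, fun i => hD.1.finrank_eq (σ i), hD.1.indep.comp σ.injective, ?_⟩,
    fun j => hD.2.1 (σ j), fun j j' hne => hD.2.2 (σ j) (σ j') (σ.injective.ne hne)⟩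
  rw [← hD.1.iSup_eq_top]
  exact σ.iSup_comp (g := D)

/-- the linear equivalence of a symplectic matrix. -/
noncomputable def spdodEquiv (x : ↥(Matrix.symplecticGroup (Fin d) F)) :
    (Fin d ⊕ Fin d → F) ≃ₗ[F] (Fin d ⊕ Fin d → F) :=
  LinearEquiv.ofLinearMap (Matrix.toLin' (x : Matrix (Fin d ⊕ Fin d) (Fin d ⊕ Fin d) F))
    (Matrix.toLin' ((x⁻¹ : ↥(Matrix.symplecticGroup (Fin d) F)) :
      Matrix (Fin d ⊕ Fin d) (Fin d ⊕ Fin d) F))
    (by
      rw [← Matrix.toLin'_mul]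
      have : (x : Matrix (Fin d ⊕ Fin d) (Fin d ⊕ Fin d) F) *
          ((x⁻¹ : ↥(Matrix.symplecticGroup (Fin d) F)) :
            Matrix (Fin d ⊕ Fin d) (Fin d ⊕ Fin d) F) = 1 :=
        congrArg Subtype.val (mul_inv_cancel x)
      rw [this, Matrix.toLin'_one])
    (by
      rw [← Matrix.toLin'_mul]
      have : ((x⁻¹ : ↥(Matrix.symplecticGroup (Fin d) F)) :
            Matrix (Fin d ⊕ Fin d) (Fin d ⊕ Fin d) F) *
          (x : Matrix (Fin d ⊕ Fin d) (Fin d ⊕ Fin d) F) = 1 :=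
        congrArg Subtype.val (inv_mul_cancel x)
      rw [this, Matrix.toLin'_one])

theorem spdod_map_eq (x : ↥(Matrix.symplecticGroup (Fin d) F))
    (W : Submodule F (Fin d ⊕ Fin d → F)) :
    W.map (Matrix.toLin' (x : Matrix (Fin d ⊕ Fin d) (Fin d ⊕ Fin d) F)) =
      Submodule.orderIsoMapComap (spdodEquiv x) W := rfl

theorem spdod_form (x : ↥(Matrix.symplecticGroup (Fin d) F)) (u v : Fin d ⊕ Fin d → F) :
    Cfsg.sympForm d F (Matrix.toLin' (x : Matrix (Fin d ⊕ Fin d) (Fin d ⊕ Fin d) F) u)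
      (Matrix.toLin' (x : Matrix (Fin d ⊕ Fin d) (Fin d ⊕ Fin d) F) v) = Cfsg.sympForm d F u v := by
  rw [Matrix.toLin'_apply, Matrix.toLin'_apply]
  exact (Cfsg.Agent.Lib.helper6.mem_symplecticGroup_iff_sympForm d _).mp x.2 u v

/-- ODMAP [M]: `IsOD` is invariant under the symplectic group. -/
theorem od_map {a t : ℕ} (D : Fin t → Submodule F (Fin d ⊕ Fin d → F)) (hD : IsOD a D)
    (x : ↥(Matrix.symplecticGroup (Fin d) F)) :
    IsOD a (fun j => (D j).map (Matrix.toLin' (x : Matrix (Fin d ⊕ Fin d) (Fin d ⊕ Fin d) F))) := by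
  have hinj : Function.Injective (Matrix.toLin' (x : Matrix (Fin d ⊕ Fin d) (Fin d ⊕ Fin d) F)) :=
    (spdodEquiv x).injective
  refine ⟨⟨hD.1.two_le, hD.1.pos, ?_, ?_, ?_⟩, ?_, ?_⟩
  · intro i
    rw [← hD.1.finrank_eq i]
    exact (LinearEquiv.finrank_eq (Submodule.equivMapOfInjective _ hinj (D i))).symm
  · have := hD.1.indep.map_orderIso (Submodule.orderIsoMapComap (spdodEquiv x))
    exact this
  · have h1 : (⨆ j, (D j).map (Matrix.toLin' (x : Matrix (Fin d ⊕ Fin d) (Fin d ⊕ Fin d) F))) =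
        (iSup D).map (Matrix.toLin' (x : Matrix (Fin d ⊕ Fin d) (Fin d ⊕ Fin d) F)) :=
      (Submodule.map_iSup _ _).symm
    rw [h1, hD.1.iSup_eq_top, Submodule.map_top, LinearMap.range_eq_top]
    exact (spdodEquiv x).surjective
  · intro j u' hu' hu'0
    obtain ⟨u, hu, rfl⟩ := (Submodule.mem_map).mp hu'
    have hu0 : u ≠ 0 := by
      rintro rfl
      exact hu'0 (map_zero _)
    obtain ⟨v, hv, hne⟩ := hD.2.1 j u hu hu0
    exact ⟨_, Submodule.mem_map_of_mem hv, by rw [spdod_form]; exact hne⟩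
  · intro j j' hne u' hu' v' hv'
    obtain ⟨u, hu, rfl⟩ := (Submodule.mem_map).mp hu'
    obtain ⟨v, hv, rfl⟩ := (Submodule.mem_map).mp hv'
    rw [spdod_form]
    exact hD.2.2 j j' hne u hu v hv

end Cfsg.Agent.Lib.Helper19.SPD
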