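import Mathlib
import Cfsg.Agent.Lib.helper17.T3.DefsC
import Cfsg.Agent.Lib.helper3.SL2Mult
import Cfsg.Agent.Lib.helper23.CEUE1

/-!
# Family T3 (S2110), project T3C (designer helper17), row A4 `Cub.exists_sub_theta` (helper9), verbatim from `helper17/T3/SkelC.lean.txt`
-/

set_option autoImplicit false

namespace Cfsg.Agent.Lib.helper17.T3

open Cfsg.Agent.Lib.helper15.St2 Cfsg.Agent.Lib.helper7.Ce Matrix

variable {F K : Type*} [Field F] [Field K] [Algebra F K]

namespace Cub

variable (C : Cub F K)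

/-- [A4] [M] additive Hilbert 90 by counting. -/
theorem exists_sub_theta [Finite K] (hC : C.Good) (x : K) (hx : C.tr x = 0) : ∃ y : K, x = y - C.θ y := by
  classical
  let θa : K →+ K := C.θ.toAddMonoidHom
  let δ : K →+ K := AddMonoidHom.id K - θa
  let τ : K →+ K := AddMonoidHom.id K + θa + θa.comp θa
  have hδ : ∀ y, δ y = y - C.θ y := fun y => rfl
  have hτ : ∀ y, τ y = y + C.θ y + C.θ (C.θ y) := fun y => rfl
  have hle : δ.range ≤ τ.ker := by
    rintro _ ⟨y, rfl⟩
    rw [AddMonoidHom.mem_ker, hτ, hδ, map_sub, map_sub, C.θ3]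
    abel
  have hkerδ : (δ.ker : Set K) = Set.range (algebraMap F K) := by
    ext y
    constructor
    · intro hy
      have h0 : y - C.θ y = 0 := hy
      obtain ⟨c, hc⟩ := hC.fix y (sub_eq_zero.mp h0).symm
      exact ⟨c, hc⟩
    · rintro ⟨c, rfl⟩
      show δ _ = 0
      rw [hδ, C.θF, sub_self]
  have hrangeτ : (τ.range : Set K) = Set.range (algebraMap F K) := by
    ext z
    constructor
    · rintro ⟨y, rfl⟩
      exact ⟨C.tr y, by rw [C.htr, hτ]⟩
    · rintro ⟨c, rfl⟩
      obtain ⟨y, hy⟩ := hC.tr_surj c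
      exact ⟨y, by rw [hτ, ← C.htr, hy]⟩
  have hcard1 : Nat.card K = Nat.card δ.range * Nat.card δ.ker := by
    rw [AddSubgroup.card_eq_card_quotient_mul_card_addSubgroup δ.ker,
      Nat.card_congr (QuotientAddGroup.quotientKerEquivRange δ).toEquiv]
  have hcard2 : Nat.card K = Nat.card τ.range * Nat.card τ.ker := by
    rw [AddSubgroup.card_eq_card_quotient_mul_card_addSubgroup τ.ker,
      Nat.card_congr (QuotientAddGroup.quotientKerEquivRange τ).toEquiv]
  have heq : Nat.card δ.ker = Nat.card τ.range :=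
    Nat.card_congr (Equiv.setCongr (hkerδ.trans hrangeτ.symm))
  have hpos : 0 < Nat.card τ.range := Nat.card_pos
  have hcard3 : Nat.card τ.ker = Nat.card δ.range := by
    have h1 : Nat.card δ.range * Nat.card τ.range = Nat.card τ.range * Nat.card τ.ker := by
      rw [← hcard2, ← heq, ← hcard1]
    have h2 : Nat.card τ.range * Nat.card δ.range = Nat.card τ.range * Nat.card τ.ker := by
      rw [mul_comm]; exact h1
    exact (Nat.eq_of_mul_eq_mul_left hpos h2).symm
  have hrk : δ.range = τ.ker := AddSubgroup.eq_of_le_of_card_ge hle (le_of_eq hcard3)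
  have hxk : x ∈ τ.ker := by
    rw [AddMonoidHom.mem_ker, hτ, ← C.htr, hx, map_zero]
  rw [← hrk] at hxk
  obtain ⟨y, hy⟩ := hxk
  exact ⟨y, hy.symm⟩

end Cub

end Cfsg.Agent.Lib.helper17.T3
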