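import Mathlib
import Cfsg.Prelude.Def_Transfer
import Cfsg.Agent.Lib.Helper9.SylowConj

set_option autoImplicit false

namespace Cfsg.Agent.Lib.Helper9

theorem weaklyClosed_conj_eq {G : Type*} [Group G] [Finite G] {p : ℕ} [Fact p.Prime]
    {T : Sylow p G} {W : Subgroup G} (hW : Cfsg.IsWeaklyClosed W (T : Subgroup G))
    (R : Subgroup G) (hR : IsPGroup p R) (hWR : W ≤ R) (c : G)
    (hc : ∀ w ∈ W, c * w * c⁻¹ ∈ R) : W.map (MulAut.conj c).toMonoidHom = W := by
  obtain ⟨k, hk⟩ := exists_sylow_conj_le T R hR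
  have h1 : W.map (MulAut.conj k).toMonoidHom = W :=
    hW.2 k ((map_conj_le_iff _ _ _).2 fun w hw => hk w (hWR hw))
  have h2 : W.map (MulAut.conj (k * c)).toMonoidHom = W := by
    apply hW.2 (k * c)
    rw [map_conj_le_iff]
    intro w hw
    have := hk _ (hc w hw)
    simpa [mul_assoc] using this
  rw [map_conj_mul] at h2
  have h3 := (map_conj_eq_iff W k).1 h1
  calc W.map (MulAut.conj c).toMonoidHom
      = ((W.map (MulAut.conj c).toMonoidHom).map (MulAut.conj k).toMonoidHom).map
          (MulAut.conj k⁻¹).toMonoidHom := by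
        rw [map_conj_inv_map_conj]
    _ = W := by rw [h2, h3]

end Cfsg.Agent.Lib.Helper9
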