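import Mathlib
import Cfsg.Agent.Lib.Helper21.BSQ.Defs

/-!
# BSQ rows A8 (`prod_conj`) and K1 (`abelian_of_inf_bot`), verbatim from the BSQ skeleton of helper21.
-/

set_option autoImplicit false

namespace Cfsg.Agent.Lib.Helper21.BSQ

universe u

variable {G : Type u} [Group G]

/-- A8. -/
theorem prod_conj (A B S H S' H' : Subgroup G) (hS : S ≤ A) (hH : H ≤ A)
    (hA : ∀ a ∈ A, ∃ s ∈ S, ∃ h ∈ H, a = s * h) (hS' : S' ≤ B) (hH' : H' ≤ B)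
    (hB : ∀ b ∈ B, ∃ s ∈ S', ∃ h ∈ H', b = s * h) (g : G)
    (hgS : S' = S.map (MulAut.conj g).toMonoidHom)
    (hgH : H' = H.map (MulAut.conj g).toMonoidHom) :
    B = A.map (MulAut.conj g).toMonoidHom := by
  apply le_antisymm
  · intro b hb
    obtain ⟨s', hs', h', hh', rfl⟩ := hB b hb
    rw [hgS] at hs'
    rw [hgH] at hh'
    obtain ⟨s, hs, hs2⟩ := hs'
    obtain ⟨h, hh, hh2⟩ := hh'
    refine ⟨s * h, A.mul_mem (hS hs) (hH hh), ?_⟩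
    rw [map_mul, hs2, hh2]
  · rintro _ ⟨a, ha, rfl⟩
    obtain ⟨s, hs, h, hh, rfl⟩ := hA a ha
    rw [map_mul]
    refine B.mul_mem (hS' ?_) (hH' ?_)
    · rw [hgS]
      exact ⟨s, hs, rfl⟩
    · rw [hgH]
      exact ⟨h, hh, rfl⟩

/-- K1. -/
theorem abelian_of_inf_bot (N H A : Subgroup G) (hHA : H ≤ A)
    (hA : ∀ x ∈ A, ∀ y ∈ A, x * y * x⁻¹ * y⁻¹ ∈ N) (hHN : H ⊓ N = ⊥) : IsMulCommutative ↥H := by
  refine ⟨⟨fun x y => ?_⟩⟩
  have h1 : (x : G) * y * (x : G)⁻¹ * (y : G)⁻¹ ∈ H ⊓ N :=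
    ⟨H.mul_mem (H.mul_mem (H.mul_mem x.2 y.2) (H.inv_mem x.2)) (H.inv_mem y.2),
      hA x (hHA x.2) y (hHA y.2)⟩
  rw [hHN, Subgroup.mem_bot] at h1
  apply Subtype.ext
  have h2 : (x : G) * y = y * x := by
    calc (x : G) * y = ((x : G) * y * (x : G)⁻¹ * (y : G)⁻¹) * (y * x) := by group
      _ = y * x := by rw [h1, one_mul]
  simpa using h2

end Cfsg.Agent.Lib.Helper21.BSQ
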