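import Mathlib
import Cfsg.Prelude.Def_GeometricClasses
import Cfsg.Agent.Lib.Helper27.ASC.Defs
import Cfsg.Agent.Lib.helper23.ASCO.Defs
import Cfsg.Agent.Lib.Helper19.ASG.Defs
import Cfsg.Agent.Lib.Helper1.ASGCLIF3
import Cfsg.Agent.Lib.Helper25.ASO.Defs
import Cfsg.Agent.Lib.helper23.ASE.Defs
import Cfsg.Agent.Lib.Helper27.E10P.Defs
import Cfsg.Agent.Lib.Helper1.NPNP3

set_option autoImplicit false
set_option linter.unusedVariables false
set_option linter.unusedSectionVars false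

/-!
# Project E10P, piece HALVES : `m` odd, `|F|` odd, plus type: the two halves are isometric iff `-1` is a square
(wrapper of block NP, piece NP3 `halves_plus_iff`)
-/

namespace Cfsg.Agent.Lib.Helper27.E10P

open Cfsg Cfsg.Geo Cfsg.Agent.Lib.Helper27.ASC Cfsg.Agent.Lib.helper23.ASCO Cfsg.Agent.Lib.Helper19.ASG
  Cfsg.Agent.Lib.Helper25.ASO Cfsg.Agent.Lib.helper23.ASE
open scoped MatrixGroups Matrix Kronecker

variable {n : ℕ} {F : Type*} [Field F] [Fintype F]

/-- HALVES -/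
theorem halves_iso_iff {m : ℕ} (hn : n = 2 * m) (hm : Odd m) (h2 : (2 : F) ≠ 0) (Q : QuadraticForm F (Fin n → F))
    (hQ : (QuadraticMap.polarBilin Q).Nondegenerate) (hplus : IsPlusTypeOn (⇑Q) ⊤)
    (D : Fin 2 → Submodule F (Fin n → F)) (hD : IsNondegenerateMDecomposition (QuadraticMap.polar (⇑Q)) m D) :
    AreIsometricFor (⇑Q) (D 0) (D 1) ↔ IsSquare (-1 : F) :=
  (Cfsg.Agent.Lib.Helper9.NotPlus.halves_plus_iff h2 Q hQ hm D hD).mp hplus

end Cfsg.Agent.Lib.Helper27.E10P
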