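import Mathlib
import Cfsg.Prelude.Def_GeometricClasses
import Cfsg.Agent.Lib.Helper27.ASC.Defs
import Cfsg.Agent.Lib.helper23.ASCO.Defs
import Cfsg.Agent.Lib.Helper19.ASG.Defs
import Cfsg.Agent.Lib.Helper1.ASGCLIF3
import Cfsg.Agent.Lib.Helper25.ASO.Defs
import Cfsg.Agent.Lib.helper23.ASE.Defs
import Cfsg.Agent.Lib.Helper27.E10P.Defs
import Cfsg.Agent.Lib.Helper9.NPNP1
import Cfsg.Agent.Lib.Helper9.NPNP3Bcore
import Cfsg.Agent.Lib.Helper22.NPNP2core

set_option autoImplicit false
set_option linter.unusedVariables false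
set_option linter.unusedSectionVars false

/-!
# Project E10P, piece LINES : `n = 2 m`, `m` odd, plus type, an orthogonal frame of isometric lines: `-1` is a square
(block NP: pair the lines up into `m` anisotropic planes `c (x² + y²)`, NP1)
-/

namespace Cfsg.Agent.Lib.Helper27.E10P

open Cfsg Cfsg.Geo Cfsg.Agent.Lib.Helper27.ASC Cfsg.Agent.Lib.helper23.ASCO Cfsg.Agent.Lib.Helper19.ASG
  Cfsg.Agent.Lib.Helper25.ASO Cfsg.Agent.Lib.helper23.ASE
open scoped MatrixGroups Matrix Kronecker

variable {n : ℕ} {F : Type*} [Field F] [Fintype F]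

/-- generators of an orthogonal frame of isometric lines: `D i = span {d i}`, `Q (d i) = c ≠ 0`, `2 ≠ 0` -/
theorem e10plines_gens (Q : QuadraticForm F (Fin n → F)) {t : ℕ} (D : Fin t → Submodule F (Fin n → F))
    (hD : IsOrthogonalMDecomposition (⇑Q) 1 D) :
    (2 : F) ≠ 0 ∧ ∃ (d : Fin t → (Fin n → F)) (c : F), c ≠ 0 ∧ (∀ i, Q (d i) = c) ∧
      (∀ i, D i = Submodule.span F {d i}) ∧
      (∀ i j, i ≠ j → QuadraticMap.polar (⇑Q) (d i) (d j) = 0) := by
  classical
  have ht : 2 ≤ t := hD.decomp.decomp.two_le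
  let i0 : Fin t := ⟨0, by omega⟩
  have hfr : ∀ i, Module.finrank F (D i) = 1 := hD.decomp.decomp.finrank_eq
  -- a generator of `D i0`
  obtain ⟨w0, hw0⟩ := finrank_eq_one_iff'.mp (hfr i0)
  have hw00 : (w0 : Fin n → F) ≠ 0 := fun h => hw0.1 (Subtype.ext h)
  -- non-degeneracy gives `2 Q w0 ≠ 0`
  obtain ⟨⟨x, hx, hxw⟩, -⟩ := hD.decomp.nondegenerate i0 (w0 : Fin n → F) w0.2 hw00
  obtain ⟨a, ha⟩ := hw0.2 ⟨x, hx⟩
  have hxa : x = a • (w0 : Fin n → F) := by
    have := congrArg Subtype.val ha
    simpa using this.symm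
  rw [hxa, QuadraticMap.polar_smul_left, QuadraticMap.polar_self, smul_eq_mul, two_nsmul, ← two_mul] at hxw
  have h2 : (2 : F) ≠ 0 := fun h => hxw (by rw [h]; ring)
  have hc : Q (w0 : Fin n → F) ≠ 0 := fun h => hxw (by rw [h]; ring)
  refine ⟨h2, ?_⟩
  -- the other generators
  have hiso := fun i => hD.isometric i0 i
  choose e he using hiso
  refine ⟨fun i => ((e i w0 : D i) : Fin n → F), Q (w0 : Fin n → F), hc, fun i => he i w0, ?_, ?_⟩
  · intro i
    have hne : e i w0 ≠ 0 := fun h => hw0.1 ((e i).map_eq_zero_iff.mp h)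
    have hne' : ((e i w0 : D i) : Fin n → F) ≠ 0 := fun h => hne (Subtype.ext h)
    apply le_antisymm
    · intro y hy
      obtain ⟨b, hb⟩ := (finrank_eq_one_iff_of_nonzero' (e i w0) hne).mp (hfr i) ⟨y, hy⟩
      rw [Submodule.mem_span_singleton]
      refine ⟨b, ?_⟩
      have := congrArg Subtype.val hb
      simpa using this
    · rw [Submodule.span_singleton_le_iff_mem]
      exact (e i w0).2
  · intro i j hij
    exact hD.decomp.orthogonal i j hij _ (e i w0).2 _ (e j w0).2

/-- LINES -/
theorem lines_neg_one_sq {m : ℕ} (hn : n = 2 * m) (hm : Odd m) (Q : QuadraticForm F (Fin n → F))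
    (hQ : (QuadraticMap.polarBilin Q).Nondegenerate) (hplus : IsPlusTypeOn (⇑Q) ⊤) {t : ℕ}
    (D : Fin t → Submodule F (Fin n → F)) (hD : IsOrthogonalMDecomposition (⇑Q) 1 D) : IsSquare (-1 : F) := by
  classical
  by_contra hns
  obtain ⟨h2, d, c, hc, hdQ, hDd, hdorth⟩ := e10plines_gens Q D hD
  have htn : t * 1 = n := Cfsg.Agent.Lib.Helper28.Ld.card_eq D hD.decomp.decomp
  -- the form on a pair of frame vectors
  have hpair : ∀ i j, i ≠ j → ∀ x y : F, Q (x • d i + y • d j) = c * (x ^ 2 + y ^ 2) := by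
    intro i j hij x y
    rw [QuadraticMap.map_add Q, QuadraticMap.map_smul, QuadraticMap.map_smul, QuadraticMap.polar_smul_left,
      QuadraticMap.polar_smul_right, hdorth i j hij, hdQ, hdQ]
    simp only [smul_eq_mul]
    ring
  have haniso_pair : ∀ i j, i ≠ j → ∀ v ∈ Submodule.span F {d i, d j}, v ≠ 0 → Q v ≠ 0 := by
    intro i j hij v hv hv0 hQv
    obtain ⟨x, y, rfl⟩ := Submodule.mem_span_pair.mp hv
    rw [hpair i j hij] at hQv
    have hxy : x ^ 2 + y ^ 2 = 0 := (mul_eq_zero.mp hQv).resolve_left hc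
    by_cases hy : y = 0
    · subst hy
      have hx : x = 0 := by
        have : x ^ 2 = 0 := by linear_combination hxy
        exact pow_eq_zero_iff (by norm_num) |>.mp this
      subst hx
      simp at hv0
    · apply hns
      refine ⟨x / y, ?_⟩
      field_simp
      linear_combination -hxy
  -- pairing the indices
  have hcard : Fintype.card (Fin t) = Fintype.card (Fin m × Fin 2) := by
    rw [Fintype.card_fin, Fintype.card_prod, Fintype.card_fin, Fintype.card_fin]
    omega
  let e : Fin t ≃ Fin m × Fin 2 := Fintype.equivOfCardEq hcard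
  let a : Fin m → Fin t := fun j => e.symm (j, 0)
  let b : Fin m → Fin t := fun j => e.symm (j, 1)
  have hab : ∀ j j', a j ≠ b j' := by
    intro j j' h
    have := e.symm.injective h
    simp at this
  have haa : ∀ j j', j ≠ j' → a j ≠ a j' := by
    intro j j' hjj h
    have := e.symm.injective h
    simp at this
    exact hjj this
  have hbb : ∀ j j', j ≠ j' → b j ≠ b j' := by
    intro j j' hjj h
    have := e.symm.injective h
    simp at this
    exact hjj this
  let P : Fin m → Submodule F (Fin n → F) := fun j => Submodule.span F {d (a j), d (b j)}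
  have hPaniso : ∀ j, ∀ v ∈ P j, v ≠ 0 → Q v ≠ 0 := fun j => haniso_pair _ _ (hab j j)
  -- the two generators of a plane are linearly independent
  have hli : ∀ j, LinearIndependent F ![d (a j), d (b j)] := by
    intro j
    apply Cfsg.Agent.Lib.Helper9.NotPlus.npnp3b_linindep h2 Q
    · intro i i' hii
      fin_cases i <;> fin_cases i'
      · exact absurd rfl hii
      · exact hdorth _ _ (hab j j)
      · exact hdorth _ _ (hab j j).symm
      · exact absurd rfl hii
    · intro i
      fin_cases i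
      · show Q (d (a j)) ≠ 0
        rw [hdQ]; exact hc
      · show Q (d (b j)) ≠ 0
        rw [hdQ]; exact hc
  have hPfr : ∀ j, Module.finrank F (P j) = 2 := by
    intro j
    have h1 := finrank_span_eq_card (hli j)
    have h2' : Set.range ![d (a j), d (b j)] = {d (a j), d (b j)} := by
      ext v
      simp only [Set.mem_range, Set.mem_insert_iff, Set.mem_singleton_iff]
      constructor
      · rintro ⟨i, rfl⟩
        fin_cases i
        · exact Or.inl rfl
        · exact Or.inr rfl
      · rintro (rfl | rfl)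
        · exact ⟨0, rfl⟩
        · exact ⟨1, rfl⟩
    rw [h2'] at h1
    rw [h1, Fintype.card_fin]
  have hPorth : ∀ j j', j ≠ j' → AreOrthogonalFor (QuadraticMap.polar (⇑Q)) (P j) (P j') := by
    intro j j' hjj u hu v hv
    obtain ⟨x, y, rfl⟩ := Submodule.mem_span_pair.mp hu
    obtain ⟨x', y', rfl⟩ := Submodule.mem_span_pair.mp hv
    simp only [QuadraticMap.polar_add_left, QuadraticMap.polar_add_right, QuadraticMap.polar_smul_left,
      QuadraticMap.polar_smul_right, hdorth _ _ (haa j j' hjj), hdorth _ _ (hab j j'),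
      hdorth _ _ (hab j' j).symm, hdorth _ _ (hbb j j' hjj)]
    simp
  have hPnd : ∀ j, IsNondegenerateOn (QuadraticMap.polar (⇑Q)) (P j) := fun j =>
    Cfsg.Agent.Lib.Helper9.NotPlus.np2_aniso_nd Q (P j) (hPaniso j) (by rw [hPfr])
  -- `m = 1` : the space itself is an anisotropic plane
  by_cases hm1 : m = 1
  · subst hm1
    obtain ⟨U, -, hU, hUd⟩ := hplus
    rw [finrank_top, Module.finrank_fintype_fun_eq_card, Fintype.card_fin] at hUd
    have hU1 : Module.finrank F U = 1 := by omega
    obtain ⟨u, hu⟩ := finrank_eq_one_iff'.mp hU1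
    have hu0 : (u : Fin n → F) ≠ 0 := fun h => hu.1 (Subtype.ext h)
    have hutop : (u : Fin n → F) ∈ P 0 := by
      have htop : P 0 = ⊤ := by
        apply Submodule.eq_top_of_finrank_eq
        rw [hPfr, Module.finrank_fintype_fun_eq_card, Fintype.card_fin]
        omega
      rw [htop]
      exact Submodule.mem_top
    exact hPaniso 0 _ hutop hu0 (hU _ u.2)
  have hm2 : 2 ≤ m := by
    obtain ⟨k, hk⟩ := hm
    omega
  have hPdec : IsNondegenerateMDecomposition (QuadraticMap.polar (⇑Q)) 2 P := by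
    refine ⟨⟨hm2, by norm_num, hPfr, Cfsg.Agent.Lib.Helper9.NotPlus.np2_indep Q P hPnd hPorth, ?_⟩, hPnd, hPorth⟩
    rw [eq_top_iff, ← hD.decomp.decomp.iSup_eq_top]
    apply iSup_le
    intro i
    rw [hDd i, Submodule.span_singleton_le_iff_mem]
    apply Submodule.mem_iSup_of_mem (e i).1
    have hi : i = a (e i).1 ∨ i = b (e i).1 := by
      have h2' : ∀ r : Fin 2, r = 0 ∨ r = 1 := by decide
      rcases h2' (e i).2 with h | h
      · left
        show i = e.symm ((e i).1, 0)
        rw [← h, Prod.mk.eta, Equiv.symm_apply_apply]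
      · right
        show i = e.symm ((e i).1, 1)
        rw [← h, Prod.mk.eta, Equiv.symm_apply_apply]
    rcases hi with hi | hi
    · have hdi : d i = d (a (e i).1) := congrArg d hi
      rw [hdi]
      exact Submodule.subset_span (by simp)
    · have hdi : d i = d (b (e i).1) := congrArg d hi
      rw [hdi]
      exact Submodule.subset_span (by simp)
  -- the planes are pairwise isometric
  have hsim : ∀ j j', ∃ (σ : P j ≃ₗ[F] P j') (c' : F), c' ≠ 0 ∧
      ∀ w : P j, Q ((σ w : P j') : Fin n → F) = c' * Q (w : Fin n → F) := by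
    intro j j'
    have hmem : ∀ (j : Fin m) (i : Fin 2), ![d (a j), d (b j)] i ∈ P j := by
      intro j i
      fin_cases i
      · exact Submodule.subset_span (by simp)
      · exact Submodule.subset_span (by simp)
    have horth2 : ∀ (j : Fin m) (i i' : Fin 2), i ≠ i' →
        QuadraticMap.polar (⇑Q) (![d (a j), d (b j)] i) (![d (a j), d (b j)] i') = 0 := by
      intro j i i' hii
      fin_cases i <;> fin_cases i'
      · exact absurd rfl hii
      · exact hdorth _ _ (hab j j)
      · exact hdorth _ _ (hab j j).symm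
      · exact absurd rfl hii
    have hval2 : ∀ (j : Fin m) (i : Fin 2), Q (![d (a j), d (b j)] i) = c := by
      intro j i
      fin_cases i
      · exact hdQ _
      · exact hdQ _
    obtain ⟨σ, hσ⟩ := Cfsg.Agent.Lib.Helper9.NotPlus.npnp3b_similar_of_bases h2 Q (P j) (P j')
      ![d (a j), d (b j)] ![d (a j'), d (b j')] (hmem j) (hmem j')
      (by rw [Fintype.card_fin, hPfr]) (by rw [Fintype.card_fin, hPfr]) (horth2 j) (horth2 j')
      (fun i => by rw [hval2]; exact hc) 1 one_ne_zero (fun i => by rw [hval2, hval2, one_mul])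
    exact ⟨σ, 1, one_ne_zero, hσ⟩
  exact Cfsg.Agent.Lib.Helper9.NotPlus.not_plus_of_odd_aniso_planes Q hm P hPdec hPaniso hsim hplus

end Cfsg.Agent.Lib.Helper27.E10P
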