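import Mathlib
import Cfsg.Prelude.Def_GeometricClasses
import Cfsg.Agent.Lib.Helper27.ASC.Defs
import Cfsg.Agent.Lib.helper23.ASCO.Defs
import Cfsg.Agent.Lib.Helper19.ASG.Defs
import Cfsg.Agent.Lib.Helper1.ASGCLIF3
import Cfsg.Agent.Lib.Helper25.ASO.Defs
import Cfsg.Agent.Lib.helper23.ASE.Defs
import Cfsg.Agent.Lib.Helper27.E10P.Defs
import Cfsg.Agent.Lib.Helper9.NPNP1

set_option autoImplicit false
set_option linter.unusedVariables false
set_option linter.unusedSectionVars false

/-!
# Project E10P, piece PLANESPLUS : an odd number of orthogonal isometric planes in a space of plus type are of plus type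
(block NP, piece NP1)
-/

namespace Cfsg.Agent.Lib.Helper27.E10P

open Cfsg Cfsg.Geo Cfsg.Agent.Lib.Helper27.ASC Cfsg.Agent.Lib.helper23.ASCO Cfsg.Agent.Lib.Helper19.ASG
  Cfsg.Agent.Lib.Helper25.ASO Cfsg.Agent.Lib.helper23.ASE
open scoped MatrixGroups Matrix Kronecker

variable {n : ℕ} {F : Type*} [Field F] [Fintype F]

/-- plus type is transported by an isometry -/
theorem e10pplanesplus_iso (Q : QuadraticForm F (Fin n → F)) (W W' : Submodule F (Fin n → F))
    (h : AreIsometricFor (⇑Q) W W') (hp : IsPlusTypeOn (⇑Q) W) : IsPlusTypeOn (⇑Q) W' := by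
  obtain ⟨e, he⟩ := h
  obtain ⟨U, hUW, hU, hd⟩ := hp
  -- `U` as a submodule of `W`, its image under `e`, back in the ambient space
  let U₁ : Submodule F W := Submodule.comap W.subtype U
  let U₂ : Submodule F W' := U₁.map (e : W →ₗ[F] W')
  refine ⟨U₂.map W'.subtype, ?_, ?_, ?_⟩
  · rintro _ ⟨x, -, rfl⟩
    exact x.2
  · rintro _ ⟨x, ⟨y, hy, rfl⟩, rfl⟩
    show Q (((e y : W') : Fin n → F)) = 0
    rw [he]
    exact hU _ hy
  · have h1 : Module.finrank F (U₂.map W'.subtype) = Module.finrank F U₂ :=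
      Submodule.finrank_map_subtype_eq W' U₂
    have h2 : Module.finrank F U₂ = Module.finrank F U₁ :=
      LinearEquiv.finrank_map_eq e U₁
    have h3 : Module.finrank F (U₁.map W.subtype) = Module.finrank F U₁ :=
      Submodule.finrank_map_subtype_eq W U₁
    have h4 : U₁.map W.subtype = U := by
      rw [Submodule.map_comap_subtype]
      exact inf_eq_right.mpr hUW
    rw [h4] at h3
    rw [h1, h2, ← h3, hd]
    exact LinearEquiv.finrank_eq e

/-- PLANESPLUS -/
theorem planes_plus (Q : QuadraticForm F (Fin n → F)) (hQ : (QuadraticMap.polarBilin Q).Nondegenerate)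
    (hplus : IsPlusTypeOn (⇑Q) ⊤) {t : ℕ} (ht : Odd t) (D : Fin t → Submodule F (Fin n → F))
    (hD : IsOrthogonalMDecomposition (⇑Q) 2 D) : ∀ i, IsPlusTypeOn (⇑Q) (D i) := by
  intro i
  by_contra hi
  apply Cfsg.Agent.Lib.Helper9.NotPlus.not_plus_of_odd_minus_planes Q ht D hD ?_ hplus
  intro j hj
  exact hi (e10pplanesplus_iso Q (D j) (D i) (hD.isometric j i) hj)

end Cfsg.Agent.Lib.Helper27.E10P
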