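import Mathlib
import Cfsg.Prelude.Def_GeometricClasses
import Cfsg.Agent.Lib.Helper27.ASC.Defs
import Cfsg.Agent.Lib.helper23.ASCO.Defs
import Cfsg.Agent.Lib.Helper19.ASG.Defs
import Cfsg.Agent.Lib.Helper1.ASGCLIF3
import Cfsg.Agent.Lib.Helper25.ASO.Defs
import Cfsg.Agent.Lib.helper23.ASE.Defs
import Cfsg.Agent.Lib.Helper27.E10P.Defs
import Cfsg.Agent.Lib.Helper22.NPNP2

set_option autoImplicit false
set_option linter.unusedVariables false
set_option linter.unusedSectionVars false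

/-!
# Project E10P, piece UNITNP : a degree-2 field acting by similarities forces minus type when `n / 2` is odd
(wrapper of block NP, piece NP2 = `Helper22.NPNP2` `not_plus_of_unitary`)
-/

namespace Cfsg.Agent.Lib.Helper27.E10P

open Cfsg Cfsg.Geo Cfsg.Agent.Lib.Helper27.ASC Cfsg.Agent.Lib.helper23.ASCO Cfsg.Agent.Lib.Helper19.ASG
  Cfsg.Agent.Lib.Helper25.ASO Cfsg.Agent.Lib.helper23.ASE
open scoped MatrixGroups Matrix Kronecker

variable {n : ℕ} {F : Type*} [Field F] [Fintype F]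

/-- UNITNP -/
theorem unitary_not_plus {m : ℕ} (hn : n = 2 * m) (hm : Odd m) (Q : QuadraticForm F (Fin n → F))
    (hQ : (QuadraticMap.polarBilin Q).Nondegenerate)
    (K : Subalgebra F (Matrix (Fin n) (Fin n) F)) (hK : IsFieldSubalgebra 2 K)
    (hadj : IsAdjointClosedFor (QuadraticMap.polar (⇑Q)) K)
    (hnsa : ¬ IsSelfAdjointFor (QuadraticMap.polar (⇑Q)) K)
    (hsim : ∀ k ∈ K, ∃ c : F, ∀ v : Fin n → F, Q (k *ᵥ v) = c * Q v) : ¬ IsPlusTypeOn (⇑Q) ⊤ :=
  Cfsg.Agent.Lib.Helper9.NotPlus.not_plus_of_unitary Q hQ hn hm K hK hsim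

end Cfsg.Agent.Lib.Helper27.E10P
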