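import Mathlib
import Cfsg.Agent.Lib.helper7.NCV.Defs

/-!
# NCV row A8 (helper9): `center_le_stab`, `center_le_cen`.
-/

set_option autoImplicit false

namespace Cfsg.Agent.Lib.helper7.NCV

open Matrix

universe u

variable {F : Type u} [Field F] {n : ℕ}

/-- **A8a.** Scalars stabilise every line
(`Matrix.GeneralLinearGroup.mem_center_iff_val_mem_range_scalar`). -/
theorem center_le_stab (v : Fin n → F) : Subgroup.center (GL (Fin n) F) ≤ stab v := by
  intro x hx
  obtain ⟨a, ha⟩ := Matrix.GeneralLinearGroup.mem_center_iff_val_mem_range_scalar.mp hx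
  refine ⟨a, ?_⟩
  have h : (x : Matrix (Fin n) (Fin n) F) = Matrix.scalar (Fin n) a := ha.symm
  rw [h, Matrix.scalar_apply]
  ext i
  simp [Matrix.mulVec_diagonal]

/-- **A8b.** -/
theorem center_le_cen (g : Matrix (Fin 2) (Fin 2) F) :
    Subgroup.center (GL (Fin 2) F) ≤ cen g := by
  intro x hx
  obtain ⟨a, ha⟩ := Matrix.GeneralLinearGroup.mem_center_iff_val_mem_range_scalar.mp hx
  rw [mem_cen]
  have h : (x : Matrix (Fin 2) (Fin 2) F) = Matrix.scalar (Fin 2) a := ha.symm
  rw [h]
  exact (Matrix.scalar_commute a (fun r => Commute.all a r) g).eq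

end Cfsg.Agent.Lib.helper7.NCV
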