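import Cfsg.Agent.Lib.Helper27.TS2.Defs
import Cfsg.Agent.Lib.helper6.TSSIEG

/-!
# TS2 PAPP (core): property (P) from the Sylow trick (helper9)
`ts2papp_core` = the statement of `papp_two` with the statement of `sylow_trick` (for the ambient `GL`) as a hypothesis.
-/

set_option autoImplicit false
set_option linter.unusedSectionVars false
set_option linter.unusedVariables false

namespace Cfsg.Agent.Lib.Helper21.TS

open Matrix
open scoped Kronecker
open Cfsg.Agent.Lib.helper7.TP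

variable {a b : ℕ} {F : Type*} [Field F]

theorem ts2papp_XAm_pow (J1 : Matrix (Fin a) (Fin a) F) (u : Fin a → F) (hu : bf J1 u u = 0)
    (η : Matrix (Fin b) (Fin b) F) (n : ℕ) : XAm J1 u η ^ n = XAm J1 u ((n : F) • η) := by
  induction n with
  | zero => rw [pow_zero, Nat.cast_zero, zero_smul, XAm_zero]
  | succ n ih =>
    rw [pow_succ, ih, XAm_mul J1 u hu, Nat.cast_succ, add_smul, one_smul]

theorem ts2papp_one_kron_pow (S : Matrix (Fin b) (Fin b) F) (n : ℕ) :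
    ((1 : Matrix (Fin a) (Fin a) F) ⊗ₖ S) ^ n = (1 : Matrix (Fin a) (Fin a) F) ⊗ₖ (S ^ n) := by
  induction n with
  | zero => rw [pow_zero, pow_zero, Matrix.one_kronecker_one]
  | succ n ih => rw [pow_succ, ih, ← Matrix.mul_kronecker_mul, Matrix.one_mul, pow_succ]

/-- `(1 ⊗ S) v` row by row. -/
theorem ts2papp_one_kron_mulVec (S : Matrix (Fin b) (Fin b) F) (v : Fin a × Fin b → F) (i : Fin a)
    (j : Fin b) :
    (((1 : Matrix (Fin a) (Fin a) F) ⊗ₖ S) *ᵥ v) (i, j) = (S *ᵥ fun j' => v (i, j')) j := by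
  simp only [Matrix.mulVec, dotProduct, Matrix.kroneckerMap_apply, Fintype.sum_prod_type,
    Matrix.one_apply]
  rw [Finset.sum_eq_single i]
  · simp
  · intro i' _ hi'
    simp [Ne.symm hi']
  · intro h; exact (h (Finset.mem_univ i)).elim

variable {J1 : Matrix (Fin 2) (Fin 2) F} {J2 : Matrix (Fin b) (Fin b) F}
  {M : Subgroup (Matrix.GeneralLinearGroup (Fin 2 × Fin b) F)}

theorem ts2papp_core [Fintype F] (p : ℕ) [Fact p.Prime] [CharP F p] (C : Ctx J1 J2) (hb : 3 ≤ b)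
    (hsyl : ∀ (T M' : Subgroup (Matrix.GeneralLinearGroup (Fin 2 × Fin b) F))
      (x r g : Matrix.GeneralLinearGroup (Fin 2 × Fin b) F), x ∈ T → x ∈ M' → r ∈ M' → g ∈ M' →
      (∃ k : ℕ, x ^ p ^ k = 1) → (∃ k : ℕ, r ^ p ^ k = 1) →
      (∀ v ∈ M', v * x * v⁻¹ ∈ T → v ∈ T) → (∀ h ∈ M', h * r * h⁻¹ ∈ T → h ∈ T) →
      ∃ d ∈ Subgroup.closure ({r, g * x * g⁻¹} :
        Set (Matrix.GeneralLinearGroup (Fin 2 × Fin b) F)), d * g ∈ T)
    (hT0 : T0 J1 J2 ≤ M) (hMS : M ≤ SpV J1 J2) (ufA : UfpA J1 J2 M) (ufB : UfpB J1 J2 M)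
    (g : Matrix.GeneralLinearGroup (Fin 2 × Fin b) F) (hg : g ∈ M) {u : Fin 2 → F} (hu : u ≠ 0)
    {w m : Fin b → F} (hw : w ≠ 0) (hw0 : bf J2 w w = 0) (hwm : bf J2 w m = 0) (hm : bf J2 m m ≠ 0) :
    ∃ u₁ : Fin 2 → F, u₁ ≠ 0 ∧ ∀ z : Fin b → F,
      (∀ i, bf J2 (fun j => ((g : Matrix (Fin 2 × Fin b) (Fin 2 × Fin b) F) *ᵥ ten u z) (i, j)) w = 0) →
      (∀ i, bf J2 (fun j => ((g : Matrix (Fin 2 × Fin b) (Fin 2 × Fin b) F) *ᵥ ten u z) (i, j)) m = 0) →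
      ∃ z' : Fin b → F, (g : Matrix (Fin 2 × Fin b) (Fin 2 × Fin b) F) *ᵥ ten u z = ten u₁ z' := by
  have huu : bf J1 u u = 0 := bf_self_alt C.alt C.two u
  have hp0 : ((p : ℕ) : F) = 0 := CharP.cast_eq_zero F p
  -- the `A`-root element
  set x : Matrix.GeneralLinearGroup (Fin 2 × Fin b) F :=
    XAG J1 u huu ((1 : F) • (1 : Matrix (Fin b) (Fin b) F)) with hxdef
  have hxcoe : (x : Matrix (Fin 2 × Fin b) (Fin 2 × Fin b) F) =
      XAm J1 u ((1 : F) • (1 : Matrix (Fin b) (Fin b) F)) := rfl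
  have hxeq : x = kronG (tvG J1 u huu 1) (1 : Matrix.GeneralLinearGroup (Fin b) F) := by
    apply Units.ext
    rw [hxcoe, kronG_coe, XAm_scalar, tvG_coe, Units.val_one]
  have hxT : x ∈ T0 J1 J2 := by
    rw [hxeq]
    exact kronG_mem_T0 (tvG_mem_Iso C.alt u huu 1) (Subgroup.one_mem _)
  have hxM : x ∈ M := hT0 hxT
  have hxp : ∃ k : ℕ, x ^ p ^ k = 1 := by
    refine ⟨1, ?_⟩
    apply Units.ext
    rw [pow_one, Units.val_pow_eq_pow_val, hxcoe, ts2papp_XAm_pow J1 u huu, hp0, zero_smul, XAm_zero,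
      Units.val_one]
  -- the Siegel element
  obtain ⟨Gp, hGp, hGI, hGz⟩ := rw_pgroup p C.sym C.two hw0
  obtain ⟨ρ, hρG, hρ⟩ := hGz m hwm
  set r : Matrix.GeneralLinearGroup (Fin 2 × Fin b) F :=
    kronG (1 : Matrix.GeneralLinearGroup (Fin 2) F) ρ with hrdef
  have hrcoe : (r : Matrix (Fin 2 × Fin b) (Fin 2 × Fin b) F) =
      (1 : Matrix (Fin 2) (Fin 2) F) ⊗ₖ sieg J2 w m := by
    rw [hrdef, kronG_coe, Units.val_one, hρ]
  have hrT : r ∈ T0 J1 J2 := kronG_mem_T0 (Subgroup.one_mem _) (hGI hρG)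
  have hrM : r ∈ M := hT0 hrT
  have hrp : ∃ k : ℕ, r ^ p ^ k = 1 := by
    refine ⟨1, ?_⟩
    apply Units.ext
    rw [pow_one, Units.val_pow_eq_pow_val, hrcoe, ts2papp_one_kron_pow,
      tssieg_pow C.sym C.two hw0 hwm, hp0, zero_smul, tssieg_zero, Matrix.one_kronecker_one,
      Units.val_one]
  -- the Sylow trick
  obtain ⟨d, hd, hdg⟩ := hsyl (T0 J1 J2) M x r g hxT hxM hrM hg hxp hrp
    (fun v hv hvx => ufA u 1 x hu one_ne_zero hxcoe v hv hvx)
    (fun h hh hhr => ufB w m r hw hw0 hwm hm hrcoe h hh hhr)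
  obtain ⟨α, β, hαβ⟩ := (mem_K0 (d * g)).mp (Subgroup.mem_inf.mp hdg).1
  have hαu : (α : Matrix (Fin 2) (Fin 2) F) *ᵥ u ≠ 0 := by
    intro h0
    apply hu
    have : ((α⁻¹ : Matrix.GeneralLinearGroup (Fin 2) F) : Matrix (Fin 2) (Fin 2) F) *ᵥ
        ((α : Matrix (Fin 2) (Fin 2) F) *ᵥ u) = u := by
      rw [Matrix.mulVec_mulVec, ← Units.val_mul, inv_mul_cancel, Units.val_one, Matrix.one_mulVec]
    rw [← this, h0, Matrix.mulVec_zero]
  refine ⟨(α : Matrix (Fin 2) (Fin 2) F) *ᵥ u, hαu, ?_⟩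
  intro z hzw hzm
  set s : Fin 2 × Fin b → F := (g : Matrix (Fin 2 × Fin b) (Fin 2 × Fin b) F) *ᵥ ten u z with hs
  -- `r` fixes `s`
  have hrs : (r : Matrix (Fin 2 × Fin b) (Fin 2 × Fin b) F) *ᵥ s = s := by
    funext ⟨i, j⟩
    rw [hrcoe, ts2papp_one_kron_mulVec, sieg_mulVec]
    have h1 : bf J2 w (fun j' => s (i, j')) = 0 := by rw [bf_symm C.sym]; exact hzw i
    have h2 : bf J2 m (fun j' => s (i, j')) = 0 := by rw [bf_symm C.sym]; exact hzm i
    rw [h1, h2]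
    simp
  -- `g x g⁻¹` fixes `s`
  have hys : ((g * x * g⁻¹ : Matrix.GeneralLinearGroup (Fin 2 × Fin b) F) :
      Matrix (Fin 2 × Fin b) (Fin 2 × Fin b) F) *ᵥ s = s := by
    have hgi : ((g⁻¹ : Matrix.GeneralLinearGroup (Fin 2 × Fin b) F) :
        Matrix (Fin 2 × Fin b) (Fin 2 × Fin b) F) *ᵥ s = ten u z := by
      rw [hs, Matrix.mulVec_mulVec, ← Units.val_mul, inv_mul_cancel, Units.val_one, Matrix.one_mulVec]
    rw [Units.val_mul, Units.val_mul, ← Matrix.mulVec_mulVec, ← Matrix.mulVec_mulVec, hgi, hxcoe,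
      XAm_mulVec_ten, huu, zero_smul, add_zero]
  -- every element of the closure fixes `s`
  have hfix : ∀ d' ∈ Subgroup.closure ({r, g * x * g⁻¹} :
      Set (Matrix.GeneralLinearGroup (Fin 2 × Fin b) F)),
      (d' : Matrix (Fin 2 × Fin b) (Fin 2 × Fin b) F) *ᵥ s = s := by
    intro d' hd'
    induction hd' using Subgroup.closure_induction with
    | mem y hy =>
      rcases hy with rfl | hy
      · exact hrs
      · rw [Set.mem_singleton_iff] at hy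
        rw [hy]; exact hys
    | one => rw [Units.val_one, Matrix.one_mulVec]
    | mul y y' _ _ ihy ihy' => rw [Units.val_mul, ← Matrix.mulVec_mulVec, ihy', ihy]
    | inv y _ ihy =>
      have : ((y⁻¹ : Matrix.GeneralLinearGroup (Fin 2 × Fin b) F) :
          Matrix (Fin 2 × Fin b) (Fin 2 × Fin b) F) *ᵥ
          ((y : Matrix (Fin 2 × Fin b) (Fin 2 × Fin b) F) *ᵥ s) = s := by
        rw [Matrix.mulVec_mulVec, ← Units.val_mul, inv_mul_cancel, Units.val_one, Matrix.one_mulVec]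
      rw [ihy] at this
      exact this
  refine ⟨(β : Matrix (Fin b) (Fin b) F) *ᵥ z, ?_⟩
  have h1 := hfix d hd
  rw [hs, Matrix.mulVec_mulVec, ← Units.val_mul, hαβ, kron_mulVec_ten] at h1
  exact h1.symm

end Cfsg.Agent.Lib.Helper21.TS
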