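import Cfsg.Agent.Lib.Helper27.TS2GRP
import Cfsg.Agent.Lib.Helper9.TS2PAPPcore

/-!
# TS2 PAPP: `papp_two` (verbatim) = `ts2papp_core` + `sylow_trick` (helper9)
-/

set_option autoImplicit false
set_option linter.unusedSectionVars false
set_option linter.unusedVariables false

namespace Cfsg.Agent.Lib.Helper21.TS

open Matrix
open scoped Kronecker
open Cfsg.Agent.Lib.helper7.TP

variable {a b : ℕ} {F : Type*} [Field F]

variable {J1 : Matrix (Fin 2) (Fin 2) F} {J2 : Matrix (Fin b) (Fin b) F}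
  {M : Subgroup (Matrix.GeneralLinearGroup (Fin 2 × Fin b) F)}

/-- PAPP [M]. property (P): for `g ∈ M`, `S = g (u ⊗ B)` and a Siegel pair `(w, m)`, `S ∩ (A ⊗ ⟨w,m⟩^⊥)` lies in one `A`-line. -/
theorem papp_two [Fintype F] (p : ℕ) [Fact p.Prime] [CharP F p] (C : Ctx J1 J2) (hb : 3 ≤ b)
    (hT0 : T0 J1 J2 ≤ M) (hMS : M ≤ SpV J1 J2) (ufA : UfpA J1 J2 M) (ufB : UfpB J1 J2 M)
    (g : Matrix.GeneralLinearGroup (Fin 2 × Fin b) F) (hg : g ∈ M) {u : Fin 2 → F} (hu : u ≠ 0)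
    {w m : Fin b → F} (hw : w ≠ 0) (hw0 : bf J2 w w = 0) (hwm : bf J2 w m = 0) (hm : bf J2 m m ≠ 0) :
    ∃ u₁ : Fin 2 → F, u₁ ≠ 0 ∧ ∀ z : Fin b → F,
      (∀ i, bf J2 (fun j => ((g : Matrix (Fin 2 × Fin b) (Fin 2 × Fin b) F) *ᵥ ten u z) (i, j)) w = 0) →
      (∀ i, bf J2 (fun j => ((g : Matrix (Fin 2 × Fin b) (Fin 2 × Fin b) F) *ᵥ ten u z) (i, j)) m = 0) →
      ∃ z' : Fin b → F, (g : Matrix (Fin 2 × Fin b) (Fin 2 × Fin b) F) *ᵥ ten u z = ten u₁ z' :=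
  ts2papp_core p C hb
    (fun T M' x r g hxT hxM hrM hg hx hr ufx ufr =>
      sylow_trick p T M' x r g hxT hxM hrM hg hx hr ufx ufr)
    hT0 hMS ufA ufB g hg hu hw hw0 hwm hm

end Cfsg.Agent.Lib.Helper21.TS
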