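import Cfsg.Agent.Lib.Helper21.TS.Basic
import Cfsg.Agent.Lib.Helper28.Transport
import Cfsg.Agent.S5646

/-!
# Project TS (S5666), pieces TRISO (`ts_iso`) and TRTV (`ts_tv`): transfer between the model
`Sp(V)`, `V = F^(Fin a × Fin b)` with the form `JV J1 J2`, and the concrete `spGL m F`.
-/

set_option autoImplicit false
set_option linter.unusedSectionVars false
set_option linter.unusedVariables false

namespace Cfsg.Agent.Lib.Helper21.TS

open Matrix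
open scoped Kronecker
open Cfsg.Agent.Lib.helper7.TP

variable {a b : ℕ} {F : Type*} [Field F]
  {J1 : Matrix (Fin a) (Fin a) F} {J2 : Matrix (Fin b) (Fin b) F}

/-- the transported element acts through `g` in the coordinates `ψ x = P (x ∘ e)` -/
theorem tstriso_tmap_mulVec {ι : Type} [Fintype ι] [DecidableEq ι] (e : ι ≃ Fin a × Fin b)
    (P : Matrix.GeneralLinearGroup ι F) (g : Matrix.GeneralLinearGroup (Fin a × Fin b) F)
    (x : Fin a × Fin b → F) :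
    ((Cfsg.Agent.Lib.Helper28.Transport.tmap e.symm P g : Matrix.GeneralLinearGroup ι F) :
        Matrix ι ι F) *ᵥ ((P : Matrix ι ι F) *ᵥ (x ∘ e))
      = (P : Matrix ι ι F) *ᵥ (((g : Matrix (Fin a × Fin b) (Fin a × Fin b) F) *ᵥ x) ∘ e) := by
  change ((MulAut.conj P (Cfsg.Geo.glReindex e.symm g) : Matrix.GeneralLinearGroup ι F) :
        Matrix ι ι F) *ᵥ _ = _
  rw [MulAut.conj_apply, Units.val_mul, Units.val_mul, ← Matrix.mulVec_mulVec, ← Matrix.mulVec_mulVec,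
    Matrix.mulVec_mulVec _ _ (P : Matrix ι ι F), ← Units.val_mul, inv_mul_cancel, Units.val_one,
    Matrix.one_mulVec, Cfsg.Agent.Lib.Helper28.Transport.reindex_coe]
  congr 1
  rw [Matrix.reindex_apply, Matrix.submatrix_mulVec_equiv]
  simp [Function.comp_assoc]

/-- `ψ` is onto -/
theorem tstriso_psi_surj {ι : Type} [Fintype ι] [DecidableEq ι] (e : ι ≃ Fin a × Fin b)
    (P : Matrix.GeneralLinearGroup ι F) (u : ι → F) :
    ∃ x : Fin a × Fin b → F, u = (P : Matrix ι ι F) *ᵥ (x ∘ e) := by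
  refine ⟨(((P⁻¹ : Matrix.GeneralLinearGroup ι F) : Matrix ι ι F) *ᵥ u) ∘ e.symm, ?_⟩
  have h1 : ((((P⁻¹ : Matrix.GeneralLinearGroup ι F) : Matrix ι ι F) *ᵥ u) ∘ e.symm) ∘ e =
      ((P⁻¹ : Matrix.GeneralLinearGroup ι F) : Matrix ι ι F) *ᵥ u := by
    funext i
    simp
  rw [h1, Matrix.mulVec_mulVec, ← Units.val_mul, mul_inv_cancel, Units.val_one, Matrix.one_mulVec]

/-- TRISO [M]. `φ⁻¹ (Sp_2m) = Sp(V)`. -/
theorem ts_iso {m : ℕ} (e : (Fin m ⊕ Fin m) ≃ Fin a × Fin b)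
    (P : Matrix.GeneralLinearGroup (Fin m ⊕ Fin m) F) {c : F} (hc : c ≠ 0)
    (hT : ∀ x y : Fin a × Fin b → F,
      Cfsg.sympForm m F ((P : Matrix (Fin m ⊕ Fin m) (Fin m ⊕ Fin m) F) *ᵥ (x ∘ e))
        ((P : Matrix (Fin m ⊕ Fin m) (Fin m ⊕ Fin m) F) *ᵥ (y ∘ e)) = c * bf (JV J1 J2) x y)
    (g : Matrix.GeneralLinearGroup (Fin a × Fin b) F) :
    g ∈ SpV J1 J2 ↔ Cfsg.Agent.Lib.Helper28.Transport.tmap e.symm P g ∈ Cfsg.spGL m F := by
  unfold SpV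
  rw [mem_Iso_iff_bf, Cfsg.Agent.S5646.mem_spGL_iff]
  constructor
  · intro h u v
    obtain ⟨x, rfl⟩ := tstriso_psi_surj e P u
    obtain ⟨y, rfl⟩ := tstriso_psi_surj e P v
    rw [tstriso_tmap_mulVec, tstriso_tmap_mulVec, hT, hT, h]
  · intro h x y
    have h1 := h ((P : Matrix (Fin m ⊕ Fin m) (Fin m ⊕ Fin m) F) *ᵥ (x ∘ e))
      ((P : Matrix (Fin m ⊕ Fin m) (Fin m ⊕ Fin m) F) *ᵥ (y ∘ e))
    rw [tstriso_tmap_mulVec, tstriso_tmap_mulVec, hT, hT] at h1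
    exact mul_left_cancel₀ hc h1

/-- TRTV [M]. every concrete symplectic transvection is the image of a model transvection. -/
theorem ts_tv {m : ℕ} (C : Ctx J1 J2) (e : (Fin m ⊕ Fin m) ≃ Fin a × Fin b)
    (P : Matrix.GeneralLinearGroup (Fin m ⊕ Fin m) F) {c : F} (hc : c ≠ 0)
    (hT : ∀ x y : Fin a × Fin b → F,
      Cfsg.sympForm m F ((P : Matrix (Fin m ⊕ Fin m) (Fin m ⊕ Fin m) F) *ᵥ (x ∘ e))
        ((P : Matrix (Fin m ⊕ Fin m) (Fin m ⊕ Fin m) F) *ᵥ (y ∘ e)) = c * bf (JV J1 J2) x y)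
    (v' : Fin m ⊕ Fin m → F) (c' : F) :
    ∃ (v : Fin a × Fin b → F) (c₁ : F), ∀ g : Matrix.GeneralLinearGroup (Fin a × Fin b) F,
      (g : Matrix (Fin a × Fin b) (Fin a × Fin b) F) = tvm (JV J1 J2) v c₁ →
      ((Cfsg.Agent.Lib.Helper28.Transport.tmap e.symm P g : Matrix.GeneralLinearGroup (Fin m ⊕ Fin m) F) :
        Matrix (Fin m ⊕ Fin m) (Fin m ⊕ Fin m) F) = Cfsg.sympTransvection m v' c' := by
  obtain ⟨v, rfl⟩ := tstriso_psi_surj e P v'
  refine ⟨v, -(c' * c), ?_⟩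
  intro g hg
  rw [Matrix.ext_iff_mulVec]
  intro u
  obtain ⟨x, rfl⟩ := tstriso_psi_surj e P u
  rw [tstriso_tmap_mulVec, hg, tvm_mulVec, Cfsg.Agent.Lib.helper6.sympTransvection_mulVec, hT,
    bf_alt (JV_transpose C.alt C.sym) v x]
  have h1 : (x + (-(c' * c) * -bf (JV J1 J2) x v) • v) ∘ e =
      x ∘ e + (c' * (c * bf (JV J1 J2) x v)) • (v ∘ e) := by
    funext i
    simp only [Function.comp_apply, Pi.add_apply, Pi.smul_apply, smul_eq_mul]
    ring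
  rw [h1, Matrix.mulVec_add, Matrix.mulVec_smul]

end Cfsg.Agent.Lib.Helper21.TS
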