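import Mathlib
import Cfsg.Agent.Lib.Helper28.BP2.Defs
import Cfsg.Agent.Lib.Helper13.BP2U1
import Cfsg.Agent.Lib.helper4.BP2U2
import Cfsg.Agent.Lib.helper15.SL2Torus

set_option autoImplicit false

/-!
# Project BP2 (S5736, designer helper28), row D1 (helper9): `comm_of_inter`, verbatim.

Extras (own names, `bp2d1_`): lifting commutation from `PSL₂(F)` to `SL₂(F)`.
-/

namespace Cfsg.Agent.Lib.Helper28.BP2

open Cfsg.Agent.Lib.helper14

universe u v w

section StepD

variable {F : Type u} [Field F]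

/-- a matrix of `SL₂(F)` that is scalar lies in the kernel of `pr`. -/
theorem bp2d1_pr_eq_one_of_scalar (g : SL2 F) (c : F)
    (h : (g : Matrix (Fin 2) (Fin 2) F) = c • (1 : Matrix (Fin 2) (Fin 2) F)) : pr F g = 1 := by
  have hc : c ^ 2 = 1 := by
    have hd : (g : Matrix (Fin 2) (Fin 2) F).det = 1 := g.2
    rw [h, Matrix.det_smul, Matrix.det_one, mul_one, Fintype.card_fin] at hd
    exact hd
  rcases sq_eq_one_iff.mp hc with rfl | rfl
  · have : g = 1 := by
      apply Subtype.ext
      rw [h, one_smul]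
      rfl
    rw [this, map_one]
  · have : g = -1 := by
      apply Subtype.ext
      rw [h, Matrix.SpecialLinearGroup.coe_neg, Matrix.SpecialLinearGroup.coe_one, neg_smul,
        one_smul]
    rw [← map_one (pr F), pr_eq_iff]
    right
    exact this

/-- a lift of a nontrivial element of `PSL₂(F)` is not scalar. -/
theorem bp2d1_nonscalar (g : SL2 F) (h1 : pr F g ≠ 1) :
    ∀ c : F, (g : Matrix (Fin 2) (Fin 2) F) ≠ c • (1 : Matrix (Fin 2) (Fin 2) F) :=
  fun c h => h1 (bp2d1_pr_eq_one_of_scalar g c h)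

/-- trace zero lifts have square `1` in `PSL₂(F)`. -/
theorem bp2d1_sq_of_trace_zero (h : SL2 F)
    (ht : (h : Matrix (Fin 2) (Fin 2) F).trace = 0) : (pr F h) ^ 2 = 1 := by
  rw [← map_pow]
  apply bp2d1_pr_eq_one_of_scalar (h ^ 2) (-1)
  rw [pow_two, Matrix.SpecialLinearGroup.coe_mul, Cfsg.Agent.Lib.helper15.m2_sq _ h.2, ht,
    zero_smul, zero_sub, neg_smul, one_smul]

/-- commuting in `PSL₂(F)` lifts to commuting in `SL₂(F)` when the square of the second element is
not trivial. -/
theorem bp2d1_lift_comm (g h : SL2 F) (hc : Commute (pr F g) (pr F h))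
    (hne : (pr F h) ^ 2 ≠ 1) : g * h = h * g := by
  have h1 : pr F (g * h * g⁻¹) = pr F h := by
    rw [map_mul, map_mul, map_inv, hc.eq, mul_inv_cancel_right]
  have key : g * h * g⁻¹ = h := by
    rcases (pr_eq_iff _ _).mp h1 with h2 | h2
    · exact h2
    · by_cases h20 : (2 : F) = 0
      · have hneg : (-h : SL2 F) = h := by
          apply Subtype.ext
          rw [Matrix.SpecialLinearGroup.coe_neg]
          ext i j
          rw [Matrix.neg_apply]
          have : (2 : F) * (h : Matrix (Fin 2) (Fin 2) F) i j = 0 := by rw [h20, zero_mul]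
          linear_combination -this
        rw [h2, hneg]
      · exfalso
        apply hne
        apply bp2d1_sq_of_trace_zero
        have h3 := Cfsg.Agent.Lib.helper15.conj_trace g h
        rw [h2, Matrix.SpecialLinearGroup.coe_neg, Matrix.trace_neg] at h3
        have : (2 : F) * (h : Matrix (Fin 2) (Fin 2) F).trace = 0 := by linear_combination -h3
        rcases mul_eq_zero.mp this with h4 | h4
        · exact absurd h4 h20
        · exact h4
  calc g * h = g * h * g⁻¹ * g := by group
    _ = h * g := by rw [key]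

/-- an element of odd order whose square is trivial is trivial. -/
theorem bp2d1_eq_one_of_sq {G : Type v} [Group G] (a h : G) (hodd : Odd (orderOf a))
    (hha : h ∈ Subgroup.zpowers a) (h2 : h ^ 2 = 1) : h = 1 := by
  have hd1 : orderOf h ∣ orderOf a := orderOf_dvd_of_mem_zpowers hha
  have hd2 : orderOf h ∣ 2 := orderOf_dvd_of_pow_eq_one h2
  have hcop : Nat.Coprime (orderOf a) 2 := Nat.Coprime.symm (Nat.coprime_two_left.mpr hodd)
  have : orderOf h ∣ Nat.gcd (orderOf a) 2 := Nat.dvd_gcd hd1 hd2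
  rw [hcop.gcd_eq_one, Nat.dvd_one] at this
  exact orderOf_eq_one_iff.mp this

variable [Fintype F]

/-- **D1**.  `h ≠ 1` of odd order: a lift `h'` is not scalar and `x' h' x'⁻¹ = - h'` would give
`tr h' = 0`, `h² = 1`; so `C_G(h)` is the image of `C_{SL₂}(h')`, which is abelian
(`Cfsg.Agent.Lib.helper15.centralizer_comm`). -/
theorem comm_of_inter (a x h : PSL2 F) (hodd : Odd (orderOf a)) (hh1 : h ≠ 1)
    (hha : h ∈ Subgroup.zpowers a) (hhx : h ∈ Subgroup.zpowers (x * a * x⁻¹)) :
    Commute a (x * a * x⁻¹) := by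
  obtain ⟨a', rfl⟩ := pr_surjective a
  obtain ⟨x', rfl⟩ := pr_surjective x
  obtain ⟨h', rfl⟩ := pr_surjective h
  have hsq : (pr F h') ^ 2 ≠ 1 := fun h2 => hh1 (bp2d1_eq_one_of_sq _ _ hodd hha h2)
  have hns := bp2d1_nonscalar h' hh1
  -- `a` and `x a x⁻¹` commute with `h`
  have hca : Commute (pr F a') (pr F h') := by
    obtain ⟨k, hk⟩ := Subgroup.mem_zpowers_iff.mp hha
    rw [← hk]
    exact (Commute.refl _).zpow_right k
  have hcb : Commute (pr F (x' * a' * x'⁻¹)) (pr F h') := by
    obtain ⟨k, hk⟩ := Subgroup.mem_zpowers_iff.mp hhx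
    rw [← hk, map_mul, map_mul, map_inv]
    exact (Commute.refl _).zpow_right k
  have h1 := bp2d1_lift_comm a' h' hca hsq
  have h2 := bp2d1_lift_comm (x' * a' * x'⁻¹) h' hcb hsq
  have h3 : a' * (x' * a' * x'⁻¹) = (x' * a' * x'⁻¹) * a' := by
    apply Cfsg.Agent.Lib.helper15.centralizer_comm h' hns
    · rw [Subgroup.mem_centralizer_singleton_iff]
      exact h1
    · rw [Subgroup.mem_centralizer_singleton_iff]
      exact h2
  have h4 := congrArg (pr F) h3
  rw [map_mul, map_mul] at h4
  rw [map_mul, map_mul, map_inv] at h4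
  exact h4

end StepD

end Cfsg.Agent.Lib.Helper28.BP2
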