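import Mathlib
import Cfsg.Agent.Lib.Helper28.BP2.Defs
import Cfsg.Agent.Lib.Helper9.BP2D1

set_option autoImplicit false

/-!
# Project BP2 (S5736, designer helper28), row D2 (helper9): `conj_comm_eq`, verbatim.
-/

namespace Cfsg.Agent.Lib.Helper28.BP2

open Cfsg.Agent.Lib.helper14

universe u v w

section StepD

variable {F : Type u} [Field F]

/-- `tr² = 4` forces `a ^ p = 1` in `PSL₂(F)`. -/
theorem bp2d2_pow_char (p : ℕ) [Fact p.Prime] [CharP F p] (g : SL2 F)
    (ht : (g : Matrix (Fin 2) (Fin 2) F).trace ^ 2 = 4) : (pr F g) ^ p = 1 := by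
  obtain ⟨l, hl, hl1⟩ : ∃ l : F, l ^ 2 - (g : Matrix (Fin 2) (Fin 2) F).trace * l + 1 = 0 ∧
      l ^ 2 = 1 := by
    by_cases h20 : (2 : F) = 0
    · refine ⟨1, ?_, one_pow _⟩
      have h40 : (4 : F) = 0 := by
        have : (4 : F) = 2 * 2 := by norm_num
        rw [this, h20, zero_mul]
      rw [h40] at ht
      have ht0 : (g : Matrix (Fin 2) (Fin 2) F).trace = 0 := pow_eq_zero_iff (two_ne_zero) |>.mp ht
      rw [ht0]
      linear_combination h20
    · refine ⟨(g : Matrix (Fin 2) (Fin 2) F).trace / 2, ?_, ?_⟩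
      · field_simp
        linear_combination -ht
      · field_simp
        linear_combination ht
  have h1 := Cfsg.Agent.Lib.helper15.m2_pow_char_of_double_root p
    (g : Matrix (Fin 2) (Fin 2) F) g.2 l hl hl1
  rw [← map_pow]
  apply bp2d1_pr_eq_one_of_scalar (g ^ p) (l ^ p)
  rw [Matrix.SpecialLinearGroup.coe_pow]
  exact h1

variable [Fintype F]

/-- **D2**.  Lifts `a'`, `b' = x' a' x'⁻¹` commute (anticommuting gives `tr a' = 0`);
`b' = u + v a'`, `tr b' = tr a' = τ`, `det b' = 1`, `τ² ≠ 4` (else `a' = ± unipotent`):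
`b' = a'` or `b' = τ - a' = a'⁻¹`. -/
theorem conj_comm_eq (p : ℕ) [Fact p.Prime] [CharP F p] (a x : PSL2 F) (hodd : Odd (orderOf a))
    (hp : ¬ p ∣ orderOf a) (ha1 : a ≠ 1) (hc : Commute a (x * a * x⁻¹)) :
    x * a * x⁻¹ = a ∨ x * a * x⁻¹ = a⁻¹ := by
  obtain ⟨a', rfl⟩ := pr_surjective a
  obtain ⟨x', rfl⟩ := pr_surjective x
  have hsq : (pr F a') ^ 2 ≠ 1 := fun h2 =>
    ha1 (bp2d1_eq_one_of_sq _ _ hodd (Subgroup.mem_zpowers _) h2)
  have hns := bp2d1_nonscalar a' ha1
  have hcb : Commute (pr F (x' * a' * x'⁻¹)) (pr F a') := by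
    rw [map_mul, map_mul, map_inv]
    exact hc.symm
  have h1 := bp2d1_lift_comm (x' * a' * x'⁻¹) a' hcb hsq
  have hmem : x' * a' * x'⁻¹ ∈
      Subgroup.centralizer ({a'} : Set (Matrix.SpecialLinearGroup (Fin 2) F)) := by
    rw [Subgroup.mem_centralizer_singleton_iff]
    exact h1
  have htr := Cfsg.Agent.Lib.helper15.conj_trace x' a'
  have ht4 : (a' : Matrix (Fin 2) (Fin 2) F).trace ^ 2 ≠ 4 := by
    intro ht
    have h2 := bp2d2_pow_char p a' ht
    have h3 : orderOf (pr F a') ∣ p := orderOf_dvd_of_pow_eq_one h2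
    rcases (Nat.dvd_prime (Fact.out : p.Prime)).mp h3 with h4 | h4
    · exact ha1 (orderOf_eq_one_iff.mp h4)
    · exact hp (by rw [h4])
  have key : x' * a' * x'⁻¹ = a' ∨ x' * a' * x'⁻¹ = a'⁻¹ := by
    by_cases h20 : (2 : F) = 0
    · obtain ⟨⟨c, d⟩, hcd⟩ := Cfsg.Agent.Lib.helper15.exists_coords a' hns _ hmem
      simp only at hcd
      obtain ⟨t, ht⟩ : ∃ t, t = (a' : Matrix (Fin 2) (Fin 2) F).trace := ⟨_, rfl⟩
      have hdet : ((x' * a' * x'⁻¹ : SL2 F) : Matrix (Fin 2) (Fin 2) F).det = 1 :=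
        (x' * a' * x'⁻¹).2
      rw [hcd, Cfsg.Agent.Lib.helper15.m2_det_lin _ a'.2, ← ht] at hdet
      rw [hcd, Matrix.trace_add, Matrix.trace_smul, Matrix.trace_smul, Matrix.trace_one,
        Fintype.card_fin, ← ht] at htr
      simp only [smul_eq_mul, Nat.cast_ofNat] at htr
      rw [← ht] at ht4
      have h40 : (4 : F) = 0 := by
        have : (4 : F) = 2 * 2 := by norm_num
        rw [this, h20, zero_mul]
      have ht0 : t ≠ 0 := by
        intro h0
        apply ht4
        rw [h0, h40]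
        ring
      have hd1 : d = 1 := by
        have : t * (d - 1) = 0 := by linear_combination htr - c * h20
        rcases mul_eq_zero.mp this with h | h
        · exact absurd h ht0
        · exact sub_eq_zero.mp h
      subst hd1
      have hc0 : c * (c + t) = 0 := by linear_combination hdet
      rcases mul_eq_zero.mp hc0 with h | h
      · left
        apply Subtype.ext
        rw [hcd, h, zero_smul, zero_add, one_smul]
      · right
        apply Subtype.ext
        rw [hcd, Cfsg.Agent.Lib.helper15.inv_coe_eq, ← ht, one_smul]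
        have hct : c = t := by linear_combination h - t * h20
        rw [hct]
        have h2a : (a' : Matrix (Fin 2) (Fin 2) F) + (a' : Matrix (Fin 2) (Fin 2) F) = 0 := by
          rw [← two_smul F, h20, zero_smul]
        rw [sub_eq_add_neg]
        congr 1
        exact eq_neg_of_add_eq_zero_left h2a
    · exact Cfsg.Agent.Lib.helper15.eq_or_eq_inv_of_trace h20 a' hns ht4 _ hmem htr
  rcases key with h | h
  · left
    have := congrArg (pr F) h
    rw [map_mul, map_mul, map_inv] at this
    exact this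
  · right
    have := congrArg (pr F) h
    rw [map_mul, map_mul, map_inv, map_inv] at this
    exact this

end StepD

end Cfsg.Agent.Lib.Helper28.BP2
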