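import Mathlib
import Cfsg.Agent.Lib.Helper28.BP2.Defs
import Cfsg.Agent.Lib.Helper9.BP2D2
import Cfsg.Agent.Lib.helper15.BP2T7

set_option autoImplicit false

/-!
# Project BP2 (S5736, designer helper28), row D3 (helper9): `not_binS_cyclic`, verbatim.
-/

namespace Cfsg.Agent.Lib.Helper28.BP2

open Cfsg.Agent.Lib.helper14

universe u v w

section StepD

/-- `h ∈ ⟨a⟩` and `w⁻¹ h w ∈ ⟨a⟩` give `h ∈ ⟨w a w⁻¹⟩`. -/
theorem bp2d3_mem_conj {G : Type v} [Group G] (a w h : G)
    (h2 : w⁻¹ * h * w ∈ Subgroup.zpowers a) : h ∈ Subgroup.zpowers (w * a * w⁻¹) := by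
  obtain ⟨k, hk⟩ := Subgroup.mem_zpowers_iff.mp h2
  rw [Subgroup.mem_zpowers_iff]
  refine ⟨k, ?_⟩
  rw [conj_zpow, hk]
  group

variable {F : Type u} [Field F] [Fintype F]

/-- the symmetric core of D3: one conjugate is `a^{±1}`. -/
theorem bp2d3_aux (p : ℕ) [Fact p.Prime] [CharP F p] (a w z : PSL2 F)
    (hodd : Odd (orderOf a)) (hp : ¬ p ∣ orderOf a) (h3 : a ^ 3 ≠ 1)
    (hw : w * a * w⁻¹ = a ∨ w * a * w⁻¹ = a⁻¹)
    (hprod : a = (w * a * w⁻¹) * (z * a * z⁻¹) ∨ a = (z * a * z⁻¹) * (w * a * w⁻¹)) : False := by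
  have ha1 : a ≠ 1 := by
    intro h
    apply h3
    rw [h, one_pow]
  rcases hw with hw | hw
  · -- `b = a`, so `c = 1`
    rw [hw] at hprod
    have hc1 : z * a * z⁻¹ = 1 := by
      rcases hprod with h | h
      · exact (mul_eq_left.mp h.symm)
      · exact (mul_eq_right.mp h.symm)
    apply ha1
    have : a = z⁻¹ * (z * a * z⁻¹) * z := by group
    rw [this, hc1]
    group
  · -- `b = a⁻¹`, so `c = a²`
    rw [hw] at hprod
    have hc2 : z * a * z⁻¹ = a ^ 2 := by
      rcases hprod with h | h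
      · calc z * a * z⁻¹ = a * (a⁻¹ * (z * a * z⁻¹)) := by group
          _ = a * a := by rw [← h]
          _ = a ^ 2 := (pow_two a).symm
      · calc z * a * z⁻¹ = ((z * a * z⁻¹) * a⁻¹) * a := by group
          _ = a * a := by rw [← h]
          _ = a ^ 2 := (pow_two a).symm
    have hcomm : Commute a (z * a * z⁻¹) := by
      rw [hc2]
      exact (Commute.refl a).pow_right 2
    rcases conj_comm_eq p a z hodd hp ha1 hcomm with h | h
    · rw [hc2] at h
      apply ha1
      have : a * a = a * 1 := by rw [← pow_two, h, mul_one]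
      exact mul_left_cancel this
    · rw [hc2] at h
      apply h3
      calc a ^ 3 = a ^ 2 * a := pow_succ a 2
        _ = 1 := by rw [h, inv_mul_cancel]

/-- **D3**.  T7 with `b = u a u⁻¹`, `c = v a v⁻¹`: a nontrivial element in `H ∩ u H u⁻¹` makes
`b = a^{±1}` (D1, D2), then `c = b⁻¹ a ∈ H` commutes with `a`, `c = a^{±1}`, and `a = b c` gives
`a = 1` or `a³ = 1`. -/
theorem not_binS_cyclic (p : ℕ) [Fact p.Prime] [CharP F p] (a u v : PSL2 F)
    (hodd : Odd (orderOf a)) (hp : ¬ p ∣ orderOf a) (h3 : a ^ 3 ≠ 1)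
    (hprod : a = (u * a * u⁻¹) * (v * a * v⁻¹)) : ¬ BinS (Subgroup.zpowers a) := by
  have ha1 : a ≠ 1 := by
    intro h
    apply h3
    rw [h, one_pow]
  apply not_binS_of_triple (Subgroup.zpowers a) a (u * a * u⁻¹) (v * a * v⁻¹) u v
    (Subgroup.mem_zpowers a) ?_ ?_ hprod
  · intro h₁ h₂ hh1 hh1u hh2 hh2v hprod2
    by_cases h11 : h₁ = 1
    · -- `a = h₂`
      have ha2 : a = h₂ := by rw [hprod2, h11, one_mul]
      rw [← ha2] at hh2v
      have hmem := bp2d3_mem_conj a v a hh2v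
      have hcomm := comm_of_inter a v a hodd ha1 (Subgroup.mem_zpowers a) hmem
      have hv := conj_comm_eq p a v hodd hp ha1 hcomm
      exact bp2d3_aux p a v u hodd hp h3 hv (Or.inr hprod)
    · have hmem := bp2d3_mem_conj a u h₁ hh1u
      have hcomm := comm_of_inter a u h₁ hodd h11 hh1 hmem
      have hu := conj_comm_eq p a u hodd hp ha1 hcomm
      exact bp2d3_aux p a u v hodd hp h3 hu (Or.inl hprod)
  · have : u⁻¹ * (u * a * u⁻¹) * u = a := by group
    rw [this]
    exact Subgroup.mem_zpowers a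
  · have : v⁻¹ * (v * a * v⁻¹) * v = a := by group
    rw [this]
    exact Subgroup.mem_zpowers a

end StepD

end Cfsg.Agent.Lib.Helper28.BP2
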