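import Mathlib
import Cfsg.Agent.Lib.Helper5.UNI.Defs
import Cfsg.Agent.Lib.helper8.ChevCnt2

/-!
# UNI row C3A (helper9): `uni_inv_step`.
-/

set_option autoImplicit false

namespace Cfsg.Agent.Lib.Helper5.UNI

open Cfsg.Lie Cfsg.Lie.ChevalleyDatum Cfsg.Agent.Lib.helper8

section Chevalley

universe u

/-- second clause of the table check: the coroot vector of a fundamental root is a unit vector -/
theorem unic3a_tab_simple (D : ChevalleyDatum) (hT : uniTabChk D = true) (j : ℕ) (hj : j < D.rank)
    (i : ℕ) (hi : i < D.rank) :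
    (D.coroot.getD (D.simple j) #[]).getD i 0 = if i = j then 1 else 0 := by
  unfold uniTabChk at hT
  simp only [Bool.and_eq_true, List.all_eq_true, List.mem_range, decide_eq_true_eq] at hT
  exact hT.1.2 j hj i hi

/-- a fundamental root of `J` lies in `Φ_J` -/
theorem unic3a_simple_sub (D : ChevalleyDatum) (hBN : H8BN D) (hT : uniTabChk D = true) (J : Set ℕ)
    (a : ℕ) (ha : a < D.rank) (haJ : a ∈ J) : D.InRootSub J (D.simple a) := by
  refine ⟨(h8simple_pos D hBN a ha).1, ?_⟩
  intro i hi hiJ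
  rw [unic3a_tab_simple D hT a ha i hi, if_neg]
  rintro rfl
  exact hiJ haJ

/-- the reflection in a fundamental root of `J` preserves `Φ_J` -/
theorem unic3a_refl_sub (D : ChevalleyDatum) (hA : H8ReflAll D) (J : Set ℕ)
    (a : ℕ) (ha : a < D.rank) (haJ : a ∈ J) (s : ℕ) (hs : D.InRootSub J s) :
    D.InRootSub J (D.reflectRoot a s) := by
  obtain ⟨η, hR⟩ := h8reflAll_spec D hA a ha
  refine ⟨hR.lt s hs.1, ?_⟩
  intro i hi hiJ
  rw [hR.tc2 i hi s hs.1, if_neg, sub_zero]
  · exact hs.2 i hi hiJ
  · rintro rfl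
    exact hiJ haJ

theorem unic3a_finite (D : ChevalleyDatum) (J : Set ℕ) (w : List ℕ) :
    Finite {s : ℕ // D.IsPosRoot s ∧ D.InRootSub J s ∧ D.IsNegRoot (h8sW D w s)} := by
  have h : {s : ℕ | D.IsPosRoot s ∧ D.InRootSub J s ∧ D.IsNegRoot (h8sW D w s)}.Finite :=
    (Set.finite_lt_nat D.nroots).subset (fun s hs => hs.1.1)
  exact h.to_subtype

/-- C3a: one more inverted root: if `w` sends the fundamental root `a ∈ J` to a positive root, then
`w ++ [a]` inverts exactly one more positive root of `Φ_J` than `w` -/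
theorem uni_inv_step (D : ChevalleyDatum) (hB : H8Base.{u} D) (hA : H8ReflAll D) (hBN : H8BN D)
    (hO2 : H8Ord2 D) (hT : uniTabChk D = true) (J : Set ℕ) (w : List ℕ)
    (hw : ∀ i ∈ w, i < D.rank ∧ i ∈ J)
    (a : ℕ) (ha : a < D.rank) (haJ : a ∈ J) (hpos : D.IsPosRoot (h8sW D w (D.simple a))) :
    invCount D J (w ++ [a]) = invCount D J w + 1 := by
  obtain ⟨η, hR⟩ := h8reflAll_spec D hA a ha
  have hw' : ∀ i ∈ w, i < D.rank := fun i hi => (hw i hi).1
  have hαpos := h8simple_pos D hBN a ha
  have hαJ := unic3a_simple_sub D hBN hT J a ha haJ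
  have hstep : ∀ s, h8sW D (w ++ [a]) s = h8sW D w (D.reflectRoot a s) := by
    intro s
    rw [h8sW_append]
    rfl
  have hαneg : D.IsNegRoot (h8sW D w (D.reflectRoot a (D.simple a))) := by
    rw [h8reflectRoot_simple, h8sW_neg D hA w hw' _ hαpos.1]
    exact h8neg_of_pos D hB hO2 _ hpos
  have hne_of : ∀ t, D.IsNegRoot (h8sW D w t) → t ≠ D.simple a := by
    rintro t ht rfl
    exact h8pos_not_neg D hB hBN _ hpos ht
  have := unic3a_finite D J w
  unfold invCount
  rw [← Finite.card_option]
  refine Nat.card_congr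
    { toFun := fun s => if h : s.1 = D.simple a then none else
        some ⟨D.reflectRoot a s.1,
          (h8spChk_spec D a (hBN.sp a ha) s.1 s.2.1 h).1,
          unic3a_refl_sub D hA J a ha haJ s.1 s.2.2.1,
          by have := s.2.2.2; rw [hstep] at this; exact this⟩
      invFun := fun o => match o with
        | none => ⟨D.simple a, hαpos, hαJ, by rw [hstep]; exact hαneg⟩
        | some t => ⟨D.reflectRoot a t.1,
            (h8spChk_spec D a (hBN.sp a ha) t.1 t.2.1 (hne_of _ t.2.2.2)).1,
            unic3a_refl_sub D hA J a ha haJ t.1 t.2.2.1,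
            by rw [hstep, hR.invol _ t.2.1.1]; exact t.2.2.2⟩
      left_inv := ?_
      right_inv := ?_ }
  · intro s
    by_cases h : s.1 = D.simple a
    · simp only [h, dif_pos]
      exact Subtype.ext h.symm
    · simp only [h, dif_neg, not_false_eq_true]
      exact Subtype.ext (hR.invol _ s.2.1.1)
  · intro o
    cases o with
    | none => simp
    | some t =>
      have h2 := (h8spChk_spec D a (hBN.sp a ha) t.1 t.2.1 (hne_of _ t.2.2.2)).2
      simp only [h2, dif_neg, not_false_eq_true]
      congr 1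
      exact Subtype.ext (hR.invol _ t.2.1.1)

end Chevalley

end Cfsg.Agent.Lib.Helper5.UNI
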