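import Mathlib
import Cfsg.Prelude.Def_Blocks
import Cfsg.Agent.Lib.Helper24.JD3

/-!
# Project BLI (helper29), piece NORM: operator norm from the eigenvalues of one element
-/

set_option autoImplicit false
set_option linter.unusedVariables false
set_option linter.style.haveILetI false

namespace Cfsg.Agent.Lib.Helper29.BLI

open scoped ComplexConjugate InnerProductSpace

open Cfsg.Agent.Lib.Helper24 Cfsg.Agent.Lib.Helper29

/-- NORM (operator norm from the eigenvalues of one element) -/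
theorem bli_norm {G : Type*} [Group G] [Finite G] {V : Type*} [NormedAddCommGroup V]
    [InnerProductSpace ℂ V] [FiniteDimensional ℂ V]
    (U : G →* (V →L[ℂ] V)) (hU : ∀ g v, ‖U g v‖ = ‖v‖) (x : G) (k : ℕ) (c : ℂ) (r : ℝ) (hr : 0 < r)
    (h : ∀ lam : ℂ, (∃ v : V, v ≠ 0 ∧ U x v = lam • v) → ‖lam ^ k - c‖ < r) :
    ‖U (x ^ k) - c • (1 : V →L[ℂ] V)‖ < r := by
  classical
  obtain ⟨K, hK⟩ : ∃ K : Subgroup G, K = Subgroup.zpowers x := ⟨_, rfl⟩
  have hKcomm : ∀ a b : K, a * b = b * a := by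
    subst hK
    rintro ⟨a, ha⟩ ⟨b, hb⟩
    obtain ⟨i, rfl⟩ := Subgroup.mem_zpowers_iff.mp ha
    obtain ⟨j, rfl⟩ := Subgroup.mem_zpowers_iff.mp hb
    apply Subtype.ext
    show x ^ i * x ^ j = x ^ j * x ^ i
    rw [← zpow_add, ← zpow_add, add_comm]
  haveI : Fintype G := Fintype.ofFinite G
  haveI : Fintype K := Fintype.ofFinite K
  haveI : Finite (K →* ℂˣ) := Nat.finite_of_card_ne_zero (by
    rw [afd_card_dual hKcomm]
    exact Nat.card_pos.ne')
  haveI : Fintype (K →* ℂˣ) := Fintype.ofFinite _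
  have hxK : x ∈ K := by rw [hK]; exact Subgroup.mem_zpowers x
  obtain ⟨R, hR⟩ : ∃ R : K →* (V →L[ℂ] V), R = U.comp K.subtype := ⟨_, rfl⟩
  have hRv : ∀ w : K, R w = U (w : G) := by
    intro w; rw [hR]; rfl
  have hRn : ∀ (w : K) (v : V), ‖R w v‖ = ‖v‖ := by
    intro w v; rw [hRv]; exact hU _ v
  have key := jd_norm_lt hKcomm R hRn (⟨x, hxK⟩ ^ k) c r hr (by
    intro η hη
    have hex : ∃ v : V, jdProj R η v ≠ 0 := by
      by_contra hcon
      push Not at hcon
      apply hη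
      ext v
      simpa using hcon v
    obtain ⟨v, hv⟩ := hex
    have he := jd_proj_eigen R η ⟨x, hxK⟩ v
    rw [hRv] at he
    have h1 := h ((η ⟨x, hxK⟩ : ℂˣ) : ℂ) ⟨jdProj R η v, hv, he⟩
    rw [map_pow, Units.val_pow_eq_pow_val]
    exact h1)
  rw [hRv] at key
  exact key

end Cfsg.Agent.Lib.Helper29.BLI
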