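import Mathlib
import Cfsg.Agent.Lib.helper8.A7R.Defs
import Cfsg.Agent.Lib.helper8.SylowBasic
import Cfsg.Agent.Lib.helper8.Burnside
import Cfsg.Agent.Lib.Helper22.A7RG3
import Cfsg.Agent.S1003

set_option autoImplicit false
set_option linter.unusedVariables false
set_option linter.style.haveILetI false

namespace Cfsg.Agent.Lib.helper8.A7R

open Subgroup
open Cfsg.Agent.Lib.helper8

universe u

variable {G : Type u} [Group G]

/-- the action of a simple group on its Sylow `p`-subgroups is faithful as soon as there are at least two of them -/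
theorem a7rb01_faithful [Finite G] [IsSimpleGroup G] (p : ℕ) [hp : Fact p.Prime]
    (h1 : Nat.card (Sylow p G) ≠ 1) :
    Function.Injective (MulAction.toPermHom G (Sylow p G)) := by
  rw [← MonoidHom.ker_eq_bot_iff]
  rcases IsSimpleGroup.eq_bot_or_eq_top_of_normal (MulAction.toPermHom G (Sylow p G)).ker
    inferInstance with h | h
  · exact h
  · exfalso
    apply h1
    obtain ⟨S⟩ : Nonempty (Sylow p G) := inferInstance
    rw [Nat.card_eq_one_iff_unique]
    refine ⟨⟨fun P Q => ?_⟩, ⟨S⟩⟩
    obtain ⟨g, rfl⟩ := MulAction.exists_smul_eq G P Q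
    have hg : g ∈ (MulAction.toPermHom G (Sylow p G)).ker := by rw [h]; exact mem_top g
    rw [MonoidHom.mem_ker] at hg
    have := congrArg (fun σ : Equiv.Perm (Sylow p G) => σ P) hg
    simpa using this.symm

/-- a faithful action on `n` points of a group with an element of order `p q` forces `p + q ≤ n` -/
theorem a7rb01_degree {X : Type u} [MulAction G X] [Finite X] (n : ℕ) (hX : Nat.card X = n)
    (hinj : Function.Injective (MulAction.toPermHom G X)) (g : G) (p q : ℕ) (hp : p.Prime)
    (hq : q.Prime) (hpq : p ≠ q) (hg : orderOf g = p * q) : p + q ≤ n := by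
  classical
  have e : X ≃ Fin n := Finite.equivFinOfCardEq hX
  have h1 : orderOf (MulAction.toPermHom G X g) = p * q := by
    rw [orderOf_injective _ hinj, hg]
  have h2 : orderOf (e.permCongrHom (MulAction.toPermHom G X g)) = p * q := by
    rw [MulEquiv.orderOf_eq, h1]
  have := order_pq_degree (e.permCongrHom (MulAction.toPermHom G X g)) p q hp hq hpq h2
  simpa using this

/-- in a simple group of order `s m`, `s ∤ m`, if `q ∣ |C(S)|` for a Sylow `s`-subgroup `S` (`q ≠ s` prime) there is an element of order `s q` -/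
theorem a7rb01_order_sq [Finite G] (s m q : ℕ) [hs : Fact s.Prime] [hq : Fact q.Prime] (hsq : s ≠ q)
    (hG : Nat.card G = s ^ 1 * m) (hm : ¬ s ∣ m) (S : Sylow s G)
    (hdvd : q ∣ Nat.card (centralizer ((S : Subgroup G) : Set G))) :
    ∃ g : G, orderOf g = s * q := by
  have hSc : Nat.card (S : Subgroup G) = s := by
    have := h8_sylow_card s 1 m hG hm S
    rwa [pow_one] at this
  obtain ⟨c, hc⟩ := exists_prime_orderOf_dvd_card' q hdvd
  have hs1 : 1 < Nat.card (S : Subgroup G) := by rw [hSc]; exact hs.out.one_lt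
  haveI : Nontrivial (S : Subgroup G) := (Finite.one_lt_card_iff_nontrivial).1 hs1
  obtain ⟨z, hz⟩ := exists_ne (1 : (S : Subgroup G))
  have hzo : orderOf (z : G) = s := by
    have h1 : orderOf z ∣ s := by
      have := orderOf_dvd_natCard z
      rwa [hSc] at this
    rcases (Nat.dvd_prime hs.out).1 h1 with h | h
    · exact absurd (orderOf_eq_one_iff.1 h) hz
    · rw [Subgroup.orderOf_coe]; exact h
  have hco : orderOf (c : G) = q := by rw [Subgroup.orderOf_coe]; exact hc
  have hcomm : Commute (z : G) (c : G) := by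
    have := c.2
    rw [mem_centralizer_iff] at this
    exact this z z.2
  refine ⟨(z : G) * (c : G), ?_⟩
  rw [hcomm.orderOf_mul_eq_mul_orderOf_of_coprime, hzo, hco]
  rw [hzo, hco]
  exact (Nat.coprime_primes hs.out hq.out).2 hsq

/-- B01 [M]: `n_7 ≠ 8`. -/
theorem n7_ne_8 (hS : Std G) : Nat.card (Sylow 7 G) ≠ 8 := by
  intro h8
  haveI := hS.finite
  haveI := hS.simple
  haveI : Fact (Nat.Prime 7) := ⟨by norm_num⟩
  haveI : Fact (Nat.Prime 5) := ⟨by norm_num⟩
  have hG7 : Nat.card G = 7 ^ 1 * 360 := by rw [hS.card]; norm_num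
  obtain ⟨S⟩ : Nonempty (Sylow 7 G) := inferInstance
  obtain ⟨e1, e2, e3⟩ := Cfsg.Agent.S1003.cent_card 7 360 hG7 (by norm_num) (by norm_num) S
  rw [hS.card, h8] at e1
  obtain ⟨d, hd⟩ : ∃ d, d = (centralizer ((S : Subgroup G) : Set G)).relIndex
      (normalizer ((S : Subgroup G) : Set G)) := ⟨_, rfl⟩
  rw [← hd] at e1 e2 e3
  have h5 : 5 ∣ Nat.card (centralizer ((S : Subgroup G) : Set G)) := by
    have hd6 : d ≤ 6 := Nat.le_of_dvd (by norm_num) e3
    have hcd : Nat.card (centralizer ((S : Subgroup G) : Set G)) * d = 315 := by omega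
    have hdpos : 0 < d := by
      rcases Nat.eq_zero_or_pos d with h0 | h0
      · rw [h0, mul_zero] at hcd
        omega
      · exact h0
    interval_cases d
    · exact absurd rfl e2
    · omega
    · exact ⟨21, by omega⟩
    · omega
    · omega
    · omega
  obtain ⟨g, hg⟩ := a7rb01_order_sq 7 360 5 (by norm_num) hG7 (by norm_num) S h5
  have hinj := a7rb01_faithful (G := G) 7 (by rw [h8]; norm_num)
  have := a7rb01_degree 8 h8 hinj g 7 5 (by norm_num) (by norm_num) (by norm_num) hg
  omega

end Cfsg.Agent.Lib.helper8.A7R
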