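import Mathlib
import Cfsg.Agent.Lib.helper8.A7R.Defs
import Cfsg.Agent.Lib.helper8.SylowBasic
import Cfsg.Agent.Lib.helper8.SylowConj
import Cfsg.Agent.Lib.helper8.SubgroupCard
import Cfsg.Agent.Lib.helper8.Burnside
import Cfsg.Agent.Lib.helper8.Parity
import Cfsg.Agent.Lib.helper8.SimpleEmbed
import Cfsg.Agent.S1003

set_option autoImplicit false
set_option linter.unusedVariables false
set_option linter.style.haveILetI false

namespace Cfsg.Agent.Lib.helper8.A7R

open Subgroup
open Cfsg.Agent.Lib.helper8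

universe u v

variable {G : Type u} [Group G]

/-- the fixed points of an element `t` that normalizes a subgroup `A` acting regularly on the complement of a point `P`:
`A` fixes `P`, acts freely on the other points, `|X| = |A| + 1`, `t` fixes `P` and one more point `Q0`.
Then `t` has exactly `|C_A(t)| + 1` fixed points. -/
theorem a7rb03_fixed_count {X : Type v} [MulAction G X] [Finite X]
    (P : X) (A : Subgroup G) (t : G)
    (hAP : ∀ a ∈ A, a • P = P)
    (hfree : ∀ a ∈ A, ∀ Q : X, Q ≠ P → a • Q = Q → a = 1)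
    (hcard : Nat.card X = Nat.card A + 1)
    (htA : ∀ a ∈ A, t * a * t⁻¹ ∈ A)
    (Q0 : X) (hQ0 : Q0 ≠ P) (htQ0 : t • Q0 = Q0) (htP : t • P = P) :
    Nat.card (MulAction.fixedBy X t) = Nat.card (A ⊓ Cz t : Subgroup G) + 1 := by
  classical
  haveI : Finite A := by
    apply Nat.finite_of_card_ne_zero
    intro h0
    rw [h0] at hcard
    have : Subsingleton X := (Nat.card_eq_one_iff_unique.1 hcard).1
    exact hQ0 (Subsingleton.elim _ _)
  haveI : Finite (A ⊓ Cz t : Subgroup G) :=
    Finite.of_injective (fun b : (A ⊓ Cz t : Subgroup G) => (⟨b, b.2.1⟩ : A))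
      (fun b c h => Subtype.ext (congrArg (fun x : A => (x : G)) h))
  -- the key cancellation
  have hcancel : ∀ a ∈ A, ∀ b ∈ A, a • Q0 = b • Q0 → a = b := by
    intro a ha b hb hab
    have h1 : (b⁻¹ * a) • Q0 = Q0 := by
      rw [mul_smul, hab, inv_smul_smul]
    have := hfree (b⁻¹ * a) (A.mul_mem (A.inv_mem hb) ha) Q0 hQ0 h1
    calc a = b * (b⁻¹ * a) := by group
      _ = b := by rw [this, mul_one]
  have hneP : ∀ a ∈ A, a • Q0 ≠ P := by
    intro a ha h
    apply hQ0
    have : a⁻¹ • (a • Q0) = a⁻¹ • P := by rw [h]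
    rw [inv_smul_smul, hAP _ (A.inv_mem ha)] at this
    exact this
  -- the parametrization of X
  let Φ : Option A → X := fun o => match o with
    | none => P
    | some a => (a : G) • Q0
  have hΦinj : Function.Injective Φ := by
    intro o o' h
    match o, o' with
    | none, none => rfl
    | none, some a => exact absurd h.symm (hneP a a.2)
    | some a, none => exact absurd h (hneP a a.2)
    | some a, some b =>
      have := hcancel a a.2 b b.2 h
      rw [Subtype.ext this]
  have hΦbij : Function.Bijective Φ := by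
    apply hΦinj.bijective_of_nat_card_le
    rw [Finite.card_option, hcard]
  -- the parametrization of the fixed points
  have hfix : ∀ b : (A ⊓ Cz t : Subgroup G), (b : G) • Q0 ∈ MulAction.fixedBy X t := by
    intro b
    rw [MulAction.mem_fixedBy]
    have hb : (b : G) ∈ centralizer ({t} : Set G) := b.2.2
    rw [mem_centralizer_iff] at hb
    have := hb t rfl
    rw [← mul_smul, this, mul_smul, htQ0]
  let Ψ : Option (A ⊓ Cz t : Subgroup G) → MulAction.fixedBy X t := fun o => match o with
    | none => ⟨P, htP⟩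
    | some b => ⟨(b : G) • Q0, hfix b⟩
  have hΨinj : Function.Injective Ψ := by
    intro o o' h
    match o, o' with
    | none, none => rfl
    | none, some b => exact absurd (congrArg Subtype.val h).symm (hneP b b.2.1)
    | some b, none => exact absurd (congrArg Subtype.val h) (hneP b b.2.1)
    | some b, some c =>
      have := hcancel b b.2.1 c c.2.1 (congrArg Subtype.val h)
      rw [Subtype.ext this]
  have hΨsurj : Function.Surjective Ψ := by
    rintro ⟨Q, hQ⟩
    rw [MulAction.mem_fixedBy] at hQ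
    obtain ⟨o, ho⟩ := hΦbij.2 Q
    match o, ho with
    | none, ho => exact ⟨none, Subtype.ext ho⟩
    | some a, ho =>
      have ho' : (a : G) • Q0 = Q := ho
      have h1 : (t * a * t⁻¹) • Q0 = (a : G) • Q0 := by
        rw [mul_smul, mul_smul]
        have : t⁻¹ • Q0 = Q0 := by
          conv_lhs => rw [← htQ0]
          rw [inv_smul_smul]
        rw [this, ho', hQ]
      have h2 := hcancel _ (htA a a.2) _ a.2 h1
      have hmem : (a : G) ∈ (A ⊓ Cz t : Subgroup G) := by
        refine ⟨a.2, ?_⟩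
        show (a : G) ∈ centralizer ({t} : Set G)
        rw [mem_centralizer_iff]
        intro x hx
        rw [Set.mem_singleton_iff] at hx
        rw [hx]
        calc t * (a : G) = (t * a * t⁻¹) * t := by group
          _ = a * t := by rw [h2]
      exact ⟨some ⟨a, hmem⟩, Subtype.ext ho'⟩
  have hΨ : Function.Bijective Ψ := ⟨hΨinj, hΨsurj⟩
  rw [← Nat.card_congr (Equiv.ofBijective Ψ hΨ), Finite.card_option]

/-- a Sylow subgroup of prime order is contained in its centralizer -/
theorem a7rb03_sylow_le_cent [Finite G] (s m : ℕ) [hs : Fact s.Prime]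
    (hG : Nat.card G = s ^ 1 * m) (hm : ¬ s ∣ m) (S : Sylow s G) :
    (S : Subgroup G) ≤ Cs (S : Subgroup G) := by
  have hSc : Nat.card (S : Subgroup G) = s := by
    have := h8_sylow_card s 1 m hG hm S
    rwa [pow_one] at this
  haveI : IsCyclic (S : Subgroup G) := isCyclic_of_prime_card hSc
  intro x hx
  rw [mem_centralizer_iff]
  intro y hy
  have := (IsCyclic.isMulCommutative (α := (S : Subgroup G))).is_comm.comm ⟨y, hy⟩ ⟨x, hx⟩
  exact congrArg Subtype.val this

/-- if `n_7 = 36` then `|C(P_7)| = 35`, `|N(P_7) : C(P_7)| = 2`, `|N(P_7)| = 70` -/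
theorem a7rb03_cent (hS : Std G) (h : Nat.card (Sylow 7 G) = 36) (P : Sylow 7 G) :
    Nat.card (Cs (P : Subgroup G)) = 35 ∧ (Cs (P : Subgroup G)).relIndex (Nz (P : Subgroup G)) = 2 ∧
      Nat.card (Nz (P : Subgroup G)) = 70 := by
  haveI := hS.finite
  haveI := hS.simple
  haveI : Fact (Nat.Prime 7) := ⟨by norm_num⟩
  have hG7 : Nat.card G = 7 ^ 1 * 360 := by rw [hS.card]; norm_num
  obtain ⟨e1, e2, e3⟩ := Cfsg.Agent.S1003.cent_card 7 360 hG7 (by norm_num) (by norm_num) P
  have eN := h8_card_normalizer_sylow 7 P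
  rw [hS.card, h] at e1 eN
  obtain ⟨d, hd⟩ : ∃ d, d = (centralizer ((P : Subgroup G) : Set G)).relIndex
      (normalizer ((P : Subgroup G) : Set G)) := ⟨_, rfl⟩
  rw [← hd] at e1 e2 e3
  have h7 : 7 ∣ Nat.card (centralizer ((P : Subgroup G) : Set G)) := by
    have := Subgroup.card_dvd_of_le (a7rb03_sylow_le_cent 7 360 hG7 (by norm_num) P)
    have hSc := h8_sylow_card 7 1 360 hG7 (by norm_num) P
    rw [pow_one] at hSc
    rwa [hSc] at this
  obtain ⟨c, hc⟩ := h7
  have hd6 : d ≤ 6 := Nat.le_of_dvd (by norm_num) e3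
  have hcd : c * d = 10 := by
    rw [hc] at e1
    nlinarith
  have hdpos : 0 < d := by
    rcases Nat.eq_zero_or_pos d with h0 | h0
    · rw [h0, mul_zero] at hcd
      omega
    · exact h0
  have hd2 : d = 2 := by
    interval_cases d
    · exact absurd rfl e2
    · rfl
    · omega
    · omega
    · omega
    · omega
  refine ⟨?_, ?_, ?_⟩
  rotate_left 2
  · show Nat.card (normalizer ((P : Subgroup G) : Set G)) = 70
    omega
  · show Nat.card (centralizer ((P : Subgroup G) : Set G)) = 35
    rw [hc]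
    rw [hd2] at hcd
    omega
  · show (centralizer ((P : Subgroup G) : Set G)).relIndex (normalizer ((P : Subgroup G) : Set G)) = 2
    rw [← hd, hd2]

/-- an element of order 7 normalizing a Sylow 7-subgroup lies in it -/
theorem a7rb03_mem7 [Finite G] (P : Sylow 7 G) (z : G) (hz : orderOf z = 7)
    (hzN : z ∈ Nz (P : Subgroup G)) : z ∈ (P : Subgroup G) := by
  haveI : Fact (Nat.Prime 7) := ⟨by norm_num⟩
  exact h8_mem_sylow_of_mem_normalizer 7 P z 1 (by rw [hz, pow_one]) hzN

/-- an element of order 7 of a Sylow 7-subgroup generates it -/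
theorem a7rb03_gen7 (hS : Std G) (P : Sylow 7 G) (z : G) (hz : orderOf z = 7)
    (hzP : z ∈ (P : Subgroup G)) : zpowers z = (P : Subgroup G) := by
  haveI := hS.finite
  haveI : Fact (Nat.Prime 7) := ⟨by norm_num⟩
  have hG7 : Nat.card G = 7 ^ 1 * 360 := by rw [hS.card]; norm_num
  have hSc := h8_sylow_card 7 1 360 hG7 (by norm_num) P
  rw [pow_one] at hSc
  apply h8_zpowers_eq_of_prime_card 7 (by norm_num) (P : Subgroup G) hSc z hzP
  rintro rfl
  rw [orderOf_one] at hz
  omega

/-- if an element of order 7 normalizes a Sylow 5-subgroup `R` then `|N(R)| = 70` -/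
theorem a7rb03_n5 (hS : Std G) (R : Sylow 5 G) (z : G) (hz : orderOf z = 7)
    (hzR : z ∈ Nz (R : Subgroup G)) : Nat.card (Nz (R : Subgroup G)) = 70 := by
  haveI := hS.finite
  haveI := hS.simple
  haveI : Fact (Nat.Prime 5) := ⟨by norm_num⟩
  have hG5 : Nat.card G = 5 ^ 1 * 504 := by rw [hS.card]; norm_num
  have hmem := h8_nsylow_mem 5 1 504 hG5 (by norm_num)
  have hne1 := h8_simple_nsylow_ne_one 5 1 504 hG5 (by norm_num) one_pos (by norm_num)
  have hset : (Nat.divisors 504).filter (fun d => d % 5 = 1) = {1, 6, 21, 36, 56, 126} := by decide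
  rw [hset] at hmem
  simp only [Finset.mem_insert, Finset.mem_singleton] at hmem
  have eN := h8_card_normalizer_sylow 5 R
  rw [hS.card] at eN
  have h7 : 7 ∣ Nat.card (Nz (R : Subgroup G)) := by
    rw [← hz]
    exact Subgroup.orderOf_dvd_natCard _ hzR
  obtain ⟨c, hc⟩ := h7
  have eN' : Nat.card (normalizer ((R : Subgroup G) : Set G)) = 7 * c := hc
  rw [eN'] at eN
  show Nat.card (normalizer ((R : Subgroup G) : Set G)) = 70
  rcases hmem with h | h | h | h | h | h
  · exact absurd h hne1
  · exfalso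
    have hidx := h8_nsylow_eq_index_normalizer 5 R
    rw [h] at hidx
    have hnc : ¬ IsMulCommutative G := h8_not_comm_of_card (by rw [hS.card]; norm_num)
    have htop : normalizer ((R : Subgroup G) : Set G) ≠ ⊤ := by
      intro ht
      rw [ht, index_top] at hidx
      omega
    have := h8_simple_two_mul_card_dvd_factorial hnc _ htop
    rw [← hidx, hS.card] at this
    revert this
    decide
  · rw [h] at eN; omega
  · rw [h] at eN; omega
  · rw [h] at eN; omega
  · rw [h] at eN; omega

/-- an element commuting with `a` normalizes `⟨a⟩` -/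
theorem a7rb03_comm_normalizes (a x : G) (h : x * a = a * x) : x ∈ Nz (zpowers a) := by
  apply centralizer_le_normalizer
  rw [zpowers_eq_closure, centralizer_closure, mem_centralizer_iff]
  intro y hy
  rw [Set.mem_singleton_iff] at hy
  rw [hy, h]

/-- freeness: if `n_7 = 36`, a nontrivial element of `C(P)` normalizes no other Sylow 7-subgroup -/
theorem a7rb03_free (hS : Std G) (h : Nat.card (Sylow 7 G) = 36) (P Q : Sylow 7 G) (hQP : Q ≠ P)
    (a : G) (ha : a ∈ Cs (P : Subgroup G)) (haQ : a ∈ Nz (Q : Subgroup G)) : a = 1 := by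
  haveI := hS.finite
  haveI := hS.simple
  haveI : Fact (Nat.Prime 7) := ⟨by norm_num⟩
  haveI : Fact (Nat.Prime 5) := ⟨by norm_num⟩
  by_contra ha1
  obtain ⟨hC35, hrel, hN70⟩ := a7rb03_cent hS h P
  obtain ⟨hC35Q, hrelQ, hN70Q⟩ := a7rb03_cent hS h Q
  have hCN : Cs (P : Subgroup G) ≤ Nz (P : Subgroup G) := centralizer_le_normalizer _
  have hord : orderOf a ∣ 35 := by
    rw [← hC35]
    exact Subgroup.orderOf_dvd_natCard _ ha
  have hord0 : orderOf a ≠ 0 := fun h0 => by rw [h0] at hord; omega
  have hord1 : orderOf a ≠ 1 := fun h1 => ha1 (orderOf_eq_one_iff.1 h1)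
  by_cases h7 : 7 ∣ orderOf a
  · -- a power of order 7 lies in both P and Q
    have hz : orderOf (a ^ (orderOf a / 7)) = 7 := orderOf_pow_orderOf_div hord0 h7
    have hzP : a ^ (orderOf a / 7) ∈ (P : Subgroup G) :=
      a7rb03_mem7 P _ hz (hCN (pow_mem ha _))
    have hzQ : a ^ (orderOf a / 7) ∈ (Q : Subgroup G) :=
      a7rb03_mem7 Q _ hz (pow_mem haQ _)
    apply hQP
    apply Sylow.ext
    rw [← a7rb03_gen7 hS P _ hz hzP, ← a7rb03_gen7 hS Q _ hz hzQ]
  · -- `a` has order 5
    have ho5 : orderOf a = 5 := by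
      have hle : orderOf a ≤ 35 := Nat.le_of_dvd (by norm_num) hord
      have hpos : 0 < orderOf a := Nat.pos_of_ne_zero hord0
      interval_cases hh : orderOf a <;> simp_all <;> omega
    -- `a` centralizes `Q`
    have haCQ : a ∈ Cs (Q : Subgroup G) := by
      have hidx : ((Cs (Q : Subgroup G)).subgroupOf (Nz (Q : Subgroup G))).index = 2 := hrelQ
      have := sq_mem_of_index_two hidx (⟨a, haQ⟩ : Nz (Q : Subgroup G))
      rw [mem_subgroupOf] at this
      have h2 : a ^ 2 ∈ Cs (Q : Subgroup G) := this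
      have h5 : a ^ 5 = 1 := by rw [← ho5]; exact pow_orderOf_eq_one a
      have : a = (a ^ 2) ^ 3 := by
        calc a = a ^ 5 * a := by rw [h5, one_mul]
          _ = (a ^ 2) ^ 3 := by group
      rw [this]
      exact pow_mem h2 3
    -- the Sylow 5-subgroup generated by `a`
    have hG5 : Nat.card G = 5 ^ 1 * 504 := by rw [hS.card]; norm_num
    have hpg : IsPGroup 5 (zpowers a) :=
      IsPGroup.of_card (n := 1) (by rw [Nat.card_zpowers, ho5, pow_one])
    obtain ⟨R, hR⟩ := hpg.exists_le_sylow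
    have hRc : Nat.card (R : Subgroup G) = 5 := by
      have := h8_sylow_card 5 1 504 hG5 (by norm_num) R
      rwa [pow_one] at this
    have hRe : zpowers a = (R : Subgroup G) :=
      eq_of_le_of_card_ge hR (by rw [Nat.card_zpowers, ho5, hRc])
    have hPR : (P : Subgroup G) ≤ Nz (R : Subgroup G) := by
      intro x hx
      rw [← hRe]
      apply a7rb03_comm_normalizes
      rw [mem_centralizer_iff] at ha
      exact ha x hx
    have hQR : (Q : Subgroup G) ≤ Nz (R : Subgroup G) := by
      intro x hx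
      rw [← hRe]
      apply a7rb03_comm_normalizes
      rw [mem_centralizer_iff] at haCQ
      exact haCQ x hx
    -- an element of order 7 in P
    have hG7 : Nat.card G = 7 ^ 1 * 360 := by rw [hS.card]; norm_num
    have hPc : Nat.card (P : Subgroup G) = 7 := by
      have := h8_sylow_card 7 1 360 hG7 (by norm_num) P
      rwa [pow_one] at this
    obtain ⟨z, hz⟩ := exists_prime_orderOf_dvd_card' (G := (P : Subgroup G)) 7 (by rw [hPc])
    have hz' : orderOf (z : G) = 7 := by rw [Subgroup.orderOf_coe]; exact hz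
    have hNR := a7rb03_n5 hS R z hz' (hPR z.2)
    obtain ⟨h8, hdvd⟩ := h8_nsylow_subgroup_ge 7 P Q (Ne.symm hQP) (Nz (R : Subgroup G)) hPR hQR
    have hmod := h8_nsylow_mod (G := Nz (R : Subgroup G)) 7
    rw [hPc] at hdvd
    have hNR' : Nat.card (Nz (R : Subgroup G)) = 70 := hNR
    rw [hNR'] at hdvd
    have hdvd' : Nat.card (Sylow 7 (Nz (R : Subgroup G))) ∣ 10 :=
      Nat.dvd_of_mul_dvd_mul_left (by norm_num : 0 < 7) (by simpa using hdvd)
    have : Nat.card (Sylow 7 (Nz (R : Subgroup G))) ≤ 10 := Nat.le_of_dvd (by norm_num) hdvd'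
    interval_cases hh : Nat.card (Sylow 7 (Nz (R : Subgroup G))) <;> omega

/-- `n_7 = 36` is impossible: an involution of `N(P_7)` would have 2 or 6 fixed points on the 36 Sylow 7-subgroups, an odd permutation -/
theorem a7rb03_false (hS : Std G) (h : Nat.card (Sylow 7 G) = 36) : False := by
  haveI := hS.finite
  haveI := hS.simple
  haveI : Fact (Nat.Prime 7) := ⟨by norm_num⟩
  haveI : Fact (Nat.Prime 2) := ⟨by norm_num⟩
  obtain ⟨P⟩ : Nonempty (Sylow 7 G) := inferInstance
  obtain ⟨hC35, hrel, hN70⟩ := a7rb03_cent hS h P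
  have hCN : Cs (P : Subgroup G) ≤ Nz (P : Subgroup G) := centralizer_le_normalizer _
  -- an involution of `N(P)`
  obtain ⟨t', ht'⟩ := exists_prime_orderOf_dvd_card' (G := Nz (P : Subgroup G)) 2
    (by rw [hN70]; norm_num)
  obtain ⟨t, htN, ht2⟩ : ∃ t : G, t ∈ Nz (P : Subgroup G) ∧ orderOf t = 2 :=
    ⟨(t' : G), t'.2, by rw [Subgroup.orderOf_coe]; exact ht'⟩
  have htsq : t ^ 2 = 1 := by rw [← ht2]; exact pow_orderOf_eq_one t
  have hnc : ¬ IsMulCommutative G := h8_not_comm_of_card (by rw [hS.card]; norm_num)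
  have hpar := h8_simple_involution_fixed (X := Sylow 7 G) hnc t htsq
  rw [h] at hpar
  have htP : t • P = P := Sylow.smul_eq_iff_mem_normalizer.2 htN
  have hle : Nat.card (MulAction.fixedBy (Sylow 7 G) t) ≤ 36 := by
    rw [← h]
    exact Nat.card_le_card_of_injective (fun x => (x : Sylow 7 G)) Subtype.val_injective
  -- a second fixed point
  obtain ⟨Q0, hQ0, htQ0⟩ : ∃ Q0 : Sylow 7 G, Q0 ≠ P ∧ t • Q0 = Q0 := by
    by_contra hno
    push_neg at hno
    have h1 : Nat.card (MulAction.fixedBy (Sylow 7 G) t) = 1 := by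
      rw [Nat.card_eq_one_iff_unique]
      refine ⟨⟨fun x y => ?_⟩, ⟨⟨P, htP⟩⟩⟩
      have hx : (x : Sylow 7 G) = P := by
        by_contra hx
        exact hno x hx x.2
      have hy : (y : Sylow 7 G) = P := by
        by_contra hy
        exact hno y hy y.2
      exact Subtype.ext (hx.trans hy.symm)
    rw [h1] at hpar
    omega
  -- `t` normalizes `C(P)`
  have htA : ∀ a ∈ Cs (P : Subgroup G), t * a * t⁻¹ ∈ Cs (P : Subgroup G) := by
    intro a ha
    rw [mem_centralizer_iff] at ha ⊢
    intro x hx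
    have hx' : t⁻¹ * x * t ∈ (P : Subgroup G) := by
      have := (mem_normalizer_iff.1 (inv_mem htN) x).1 hx
      simpa using this
    have := ha _ hx'
    calc x * (t * a * t⁻¹) = t * ((t⁻¹ * x * t) * a) * t⁻¹ := by group
      _ = t * (a * (t⁻¹ * x * t)) * t⁻¹ := by rw [this]
      _ = t * a * t⁻¹ * x := by group
  have hcount := a7rb03_fixed_count (X := Sylow 7 G) P (Cs (P : Subgroup G)) t
    (fun a ha => Sylow.smul_eq_iff_mem_normalizer.2 (hCN ha))
    (fun a ha Q hQ haQ => a7rb03_free hS h P Q hQ a ha (Sylow.smul_eq_iff_mem_normalizer.1 haQ))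
    (by rw [h, hC35]) htA Q0 hQ0 htQ0 htP
  -- `|C_A(t)|` divides 35 and is prime to 7
  have hdvd : Nat.card (Cs (P : Subgroup G) ⊓ Cz t : Subgroup G) ∣ 35 := by
    rw [← hC35]
    exact Subgroup.card_dvd_of_le inf_le_left
  have hn7 : ¬ 7 ∣ Nat.card (Cs (P : Subgroup G) ⊓ Cz t : Subgroup G) := by
    intro h7
    obtain ⟨z, hz⟩ := exists_prime_orderOf_dvd_card' 7 h7
    have hz' : orderOf (z : G) = 7 := by rw [Subgroup.orderOf_coe]; exact hz
    have hzP : (z : G) ∈ (P : Subgroup G) := a7rb03_mem7 P _ hz' (hCN z.2.1)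
    have hgen := a7rb03_gen7 hS P _ hz' hzP
    have hzt : (z : G) ∈ centralizer ({t} : Set G) := z.2.2
    rw [mem_centralizer_iff] at hzt
    have htz := hzt t rfl
    have htC : t ∈ Cs (P : Subgroup G) := by
      show t ∈ centralizer ((P : Subgroup G) : Set G)
      rw [← hgen, zpowers_eq_closure, centralizer_closure, mem_centralizer_iff]
      intro y hy
      rw [Set.mem_singleton_iff] at hy
      rw [hy]
      exact htz.symm
    have := Subgroup.orderOf_dvd_natCard _ htC
    rw [ht2, hC35] at this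
    omega
  have hle35 : Nat.card (Cs (P : Subgroup G) ⊓ Cz t : Subgroup G) ≤ 35 :=
    Nat.le_of_dvd (by norm_num) hdvd
  rw [hcount] at hpar
  interval_cases hh : Nat.card (Cs (P : Subgroup G) ⊓ Cz t : Subgroup G) <;> omega

/-- B03 [L]: if `n_7 = 36` there is an involution `u` with `|C(u)| = 4` (in fact `n_7 = 36` is contradictory). -/
theorem n7_36_inv (hS : Std G) (h : Nat.card (Sylow 7 G) = 36) :
    ∃ u : G, orderOf u = 2 ∧ Nat.card (Cz u) = 4 :=
  (a7rb03_false hS h).elim

end Cfsg.Agent.Lib.helper8.A7R
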