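import Mathlib
import Cfsg.Prelude.Def_GeometricClasses
import Cfsg.Agent.Lib.Helper27.ASC.Defs
import Cfsg.Agent.Lib.Helper19.ASG.Defs
import Cfsg.Agent.Lib.Helper26.ASGD1.Defs

set_option autoImplicit false
set_option linter.unusedVariables false
set_option linter.unusedSectionVars false

/-!
# Project ASG, block D1, piece CORE : `R = {y ∈ N ⊔ Z | y ^ k = 1}`
-/

namespace Cfsg.Agent.Lib.Helper19.ASG

open Cfsg Cfsg.Geo Cfsg.Agent.Lib.Helper27.ASC
open scoped MatrixGroups Matrix commutatorElement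

/-! ### the power formula in class 2 -/

/-- `y x = c x y` with `c` central: `y ^ k x = c ^ k x y ^ k` -/
theorem asgd1core_pow_comm {G : Type*} [Group G] (x y c : G) (hc : ∀ g : G, c * g = g * c)
    (hyx : y * x = c * x * y) (k : ℕ) : y ^ k * x = c ^ k * x * y ^ k := by
  have hcc : ∀ (j : ℕ) (g : G), c ^ j * g = g * c ^ j := fun j g =>
    ((show Commute c g from hc g).pow_left j)
  induction k with
  | zero => simp
  | succ k ih =>
    calc y ^ (k + 1) * x = y * (y ^ k * x) := by rw [pow_succ', mul_assoc]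
      _ = y * (c ^ k * x * y ^ k) := by rw [ih]
      _ = (y * c ^ k) * x * y ^ k := by simp only [mul_assoc]
      _ = (c ^ k * y) * x * y ^ k := by rw [hcc k y]
      _ = c ^ k * (y * x) * y ^ k := by simp only [mul_assoc]
      _ = c ^ k * (c * x * y) * y ^ k := by rw [hyx]
      _ = (c ^ k * c) * x * (y * y ^ k) := by simp only [mul_assoc]
      _ = c ^ (k + 1) * x * y ^ (k + 1) := by rw [← pow_succ, ← pow_succ']

/-- `y x = c x y` with `c` central: `(x y) ^ k = c ^ (k choose 2) x ^ k y ^ k` -/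
theorem asgd1core_mul_pow {G : Type*} [Group G] (x y c : G) (hc : ∀ g : G, c * g = g * c)
    (hyx : y * x = c * x * y) (k : ℕ) : (x * y) ^ k = c ^ (k.choose 2) * x ^ k * y ^ k := by
  have hcc : ∀ (j : ℕ) (g : G), c ^ j * g = g * c ^ j := fun j g =>
    ((show Commute c g from hc g).pow_left j)
  induction k with
  | zero => simp
  | succ k ih =>
    have hch : (k + 1).choose 2 = k.choose 2 + k := by
      rw [Nat.choose_succ_succ' k 1, Nat.choose_one_right, add_comm]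
    calc (x * y) ^ (k + 1) = (x * y) ^ k * (x * y) := pow_succ _ _
      _ = c ^ (k.choose 2) * x ^ k * y ^ k * (x * y) := by rw [ih]
      _ = c ^ (k.choose 2) * x ^ k * (y ^ k * x) * y := by simp only [mul_assoc]
      _ = c ^ (k.choose 2) * x ^ k * (c ^ k * x * y ^ k) * y := by rw [asgd1core_pow_comm x y c hc hyx k]
      _ = c ^ (k.choose 2) * (x ^ k * c ^ k) * x * y ^ k * y := by simp only [mul_assoc]
      _ = c ^ (k.choose 2) * (c ^ k * x ^ k) * x * y ^ k * y := by rw [hcc k (x ^ k)]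
      _ = (c ^ (k.choose 2) * c ^ k) * (x ^ k * x) * (y ^ k * y) := by simp only [mul_assoc]
      _ = c ^ ((k + 1).choose 2) * x ^ (k + 1) * y ^ (k + 1) := by
          rw [← pow_add, ← pow_succ, ← pow_succ, hch]

/-- `r ∣ (k choose 2)` for `k = r * gcd(2, r)` -/
theorem asgd1core_dvd_choose {r : ℕ} (hr : r.Prime) : r ∣ (r * Nat.gcd 2 r).choose 2 := by
  by_cases h2 : r = 2
  · subst h2
    decide
  · have hg : Nat.gcd 2 r = 1 := by
      rw [Nat.coprime_comm.mp ((Nat.coprime_primes hr Nat.prime_two).mpr h2)]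
    rw [hg, mul_one]
    have h3 : 2 < r := by
      have := hr.two_le
      omega
    exact hr.dvd_choose_self (by norm_num) h3

variable {n : ℕ} {F : Type*} [Field F] [Fintype F]

/-- scalars are central -/
theorem asgd1core_scalar_central {z : GL (Fin n) F} (hz : z ∈ scalars (Fin n) F) (g : GL (Fin n) F) :
    z * g = g * z := by
  obtain ⟨c, rfl⟩ := (mem_scalars_iff_d1scal z).mp hz
  exact d1scal_comm c g

/-- `N ⊔ Z` is abelian modulo `Z` -/
theorem asgd1core_comm_sup {N : Subgroup (GL (Fin n) F)} (hab : ⁅N, N⁆ ≤ scalars (Fin n) F)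
    {g₁ g₂ : GL (Fin n) F} (h₁ : g₁ ∈ N ⊔ scalars (Fin n) F) (h₂ : g₂ ∈ N ⊔ scalars (Fin n) F) :
    ⁅g₁, g₂⁆ ∈ scalars (Fin n) F := by
  have hZn : (scalars (Fin n) F).Normal := scalars_normal
  obtain ⟨x₁, hx₁, z₁, hz₁, rfl⟩ := Subgroup.mem_sup_of_normal_right.mp h₁
  obtain ⟨x₂, hx₂, z₂, hz₂, rfl⟩ := Subgroup.mem_sup_of_normal_right.mp h₂
  have e1 : QuotientGroup.mk' (scalars (Fin n) F) z₁ = 1 := (QuotientGroup.eq_one_iff _).mpr hz₁
  have e2 : QuotientGroup.mk' (scalars (Fin n) F) z₂ = 1 := (QuotientGroup.eq_one_iff _).mpr hz₂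
  have e3 : QuotientGroup.mk' (scalars (Fin n) F) ⁅x₁, x₂⁆ = 1 :=
    (QuotientGroup.eq_one_iff _).mpr (hab (Subgroup.commutator_mem_commutator hx₁ hx₂))
  have e4 : QuotientGroup.mk' (scalars (Fin n) F) ⁅x₁ * z₁, x₂ * z₂⁆ = 1 := by
    rw [map_commutatorElement, map_mul, map_mul, e1, e2, mul_one, mul_one, ← map_commutatorElement, e3]
  exact (QuotientGroup.eq_one_iff _).mp e4

/-- `r`-th powers of `N ⊔ Z` are scalar -/
theorem asgd1core_pow_sup {N : Subgroup (GL (Fin n) F)} {r : ℕ} (hel : ∀ x ∈ N, x ^ r ∈ scalars (Fin n) F)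
    {g : GL (Fin n) F} (hg : g ∈ N ⊔ scalars (Fin n) F) : g ^ r ∈ scalars (Fin n) F := by
  have hZn : (scalars (Fin n) F).Normal := scalars_normal
  obtain ⟨x, hx, z, hz, rfl⟩ := Subgroup.mem_sup_of_normal_right.mp hg
  have hc : Commute x z := (asgd1core_scalar_central hz x).symm
  rw [hc.mul_pow]
  exact (scalars (Fin n) F).mul_mem (hel x hx) ((scalars (Fin n) F).pow_mem hz r)

/-- `y ↦ y ^ k` is multiplicative on `N ⊔ Z` -/
theorem asgd1core_mul_pow_sup {N : Subgroup (GL (Fin n) F)} (hab : ⁅N, N⁆ ≤ scalars (Fin n) F) {r : ℕ}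
    (hr : r.Prime) (hel : ∀ x ∈ N, x ^ r ∈ scalars (Fin n) F) {x y : GL (Fin n) F}
    (hx : x ∈ N ⊔ scalars (Fin n) F) (hy : y ∈ N ⊔ scalars (Fin n) F) :
    (x * y) ^ (r * Nat.gcd 2 r) = x ^ (r * Nat.gcd 2 r) * y ^ (r * Nat.gcd 2 r) := by
  set c : GL (Fin n) F := ⁅y, x⁆ with hcdef
  have hcZ : c ∈ scalars (Fin n) F := asgd1core_comm_sup hab hy hx
  have hc : ∀ g : GL (Fin n) F, c * g = g * c := asgd1core_scalar_central hcZ
  have hyx : y * x = c * x * y := by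
    rw [hcdef, commutatorElement_def]; group
  have hcr : c ^ r = 1 := by
    have h1 := asgd1core_pow_comm x y c hc hyx r
    have h2 : y ^ r * x = x * y ^ r := asgd1core_scalar_central (asgd1core_pow_sup hel hy) x
    rw [h2, mul_assoc] at h1
    exact (mul_eq_right.mp h1.symm)
  obtain ⟨q, hq⟩ := asgd1core_dvd_choose hr
  rw [asgd1core_mul_pow x y c hc hyx, hq, pow_mul, hcr, one_pow, one_mul]

/-- D1-CORE -/
theorem d1_core {H N : Subgroup (GL (Fin n) F)} (hNH : NormalIn N H) (hA : AbsIrr N)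
    (hab : ⁅N, N⁆ ≤ scalars (Fin n) F) {r : ℕ} (hr : r.Prime) (hel : ∀ x ∈ N, x ^ r ∈ scalars (Fin n) F)
    (hpow : ∀ x ∈ N, ∃ c : Fˣ, (d1scal c * x) ^ (r * Nat.gcd 2 r) = 1) :
    ∃ R : Subgroup (GL (Fin n) F), D1Core r (r * Nat.gcd 2 r) R ∧ D1NormBy R H ∧
      R ⊔ scalars (Fin n) F = N ⊔ scalars (Fin n) F := by
  have hZn : (scalars (Fin n) F).Normal := scalars_normal
  let R : Subgroup (GL (Fin n) F) :=
    { carrier := {y | y ∈ N ⊔ scalars (Fin n) F ∧ y ^ (r * Nat.gcd 2 r) = 1}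
      mul_mem' := by
        rintro x y ⟨hx, hx1⟩ ⟨hy, hy1⟩
        refine ⟨(N ⊔ scalars (Fin n) F).mul_mem hx hy, ?_⟩
        rw [asgd1core_mul_pow_sup hab hr hel hx hy, hx1, hy1, one_mul]
      one_mem' := ⟨(N ⊔ scalars (Fin n) F).one_mem, one_pow _⟩
      inv_mem' := by
        rintro x ⟨hx, hx1⟩
        exact ⟨(N ⊔ scalars (Fin n) F).inv_mem hx, by rw [inv_pow, hx1, inv_one]⟩ }
  have hRmem : ∀ y, y ∈ R ↔ y ∈ N ⊔ scalars (Fin n) F ∧ y ^ (r * Nat.gcd 2 r) = 1 := fun y => Iff.rfl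
  have hRle : R ≤ N ⊔ scalars (Fin n) F := fun y hy => hy.1
  -- every element of `N` is a scalar multiple of an element of `R`
  have hNR : ∀ x ∈ N, ∃ c : Fˣ, d1scal c * x ∈ R := by
    intro x hx
    obtain ⟨c, hc⟩ := hpow x hx
    refine ⟨c, ?_, hc⟩
    rw [d1scal_comm]
    exact Subgroup.mul_mem_sup hx (d1scal_mem c)
  have hNRmat : ∀ x ∈ N, ∃ (c : Fˣ) (y : GL (Fin n) F), y ∈ R ∧
      (x : Matrix (Fin n) (Fin n) F) = ((c⁻¹ : Fˣ) : F) • (y : Matrix (Fin n) (Fin n) F) := by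
    intro x hx
    obtain ⟨c, hc⟩ := hNR x hx
    refine ⟨c, _, hc, ?_⟩
    rw [Units.val_mul, d1scal_coe, Matrix.smul_mul, Matrix.one_mul, smul_smul, Units.inv_mul, one_smul]
  refine ⟨R, ⟨hr, rfl, ⟨?_, ?_⟩, ?_, fun y hy => hy.2, ?_⟩, ?_, ?_⟩
  · -- irreducible
    intro W hW
    apply hA.1 W
    rintro _ ⟨x, hx, rfl⟩
    obtain ⟨c, y, hy, hxy⟩ := hNRmat x hx
    show Submodule.map (Matrix.toLin' (x : Matrix (Fin n) (Fin n) F)) W ≤ W
    rw [hxy]
    rintro _ ⟨w, hw, rfl⟩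
    have h1 : Matrix.toLin' (y : Matrix (Fin n) (Fin n) F) w ∈ W := hW _ ⟨y, hy, rfl⟩ ⟨w, hw, rfl⟩
    rw [Matrix.toLin'_apply] at h1 ⊢
    rw [Matrix.smul_mulVec]
    exact W.smul_mem _ h1
  · -- scalar commutant
    intro M hM
    apply hA.2 M
    rintro _ ⟨x, hx, rfl⟩
    obtain ⟨c, y, hy, hxy⟩ := hNRmat x hx
    show M * (x : Matrix (Fin n) (Fin n) F) = (x : Matrix (Fin n) (Fin n) F) * M
    rw [hxy, Matrix.mul_smul, Matrix.smul_mul, hM _ ⟨y, hy, rfl⟩]
  · -- class 2 modulo scalars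
    rw [Subgroup.commutator_le]
    intro x hx y hy
    exact asgd1core_comm_sup hab (hRle hx) (hRle hy)
  · -- roots of unity
    intro c hc
    refine ⟨Subgroup.mem_sup_right (d1scal_mem c), ?_⟩
    rw [← d1scal_pow, hc, d1scal_one]
  · -- normalised by `H`
    intro h hh y hy
    refine ⟨?_, ?_⟩
    · obtain ⟨x, hx, z, hz, rfl⟩ := Subgroup.mem_sup_of_normal_right.mp hy.1
      have e : h * (x * z) * h⁻¹ = (h * x * h⁻¹) * (h * z * h⁻¹) := by group
      rw [e]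
      exact Subgroup.mul_mem_sup (hNH.2 h hh x hx) (hZn.conj_mem z hz h)
    · rw [conj_pow, hy.2, mul_one, mul_inv_cancel]
  · -- `R Z = N Z`
    apply le_antisymm
    · exact sup_le hRle le_sup_right
    · refine sup_le ?_ le_sup_right
      intro x hx
      obtain ⟨c, hc⟩ := hNR x hx
      have e : x = (d1scal c * x) * (d1scal c)⁻¹ := by
        rw [d1scal_comm]; group
      rw [e]
      exact Subgroup.mul_mem_sup hc ((scalars (Fin n) F).inv_mem (d1scal_mem c))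

end Cfsg.Agent.Lib.Helper19.ASG
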