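import Mathlib
import Cfsg.Prelude.Def_GeometricClasses
import Cfsg.Agent.Lib.Helper27.ASC.Defs
import Cfsg.Agent.Lib.Helper19.ASG.Defs
import Cfsg.Agent.Lib.Helper18.ASP.Defs
import Cfsg.Agent.Lib.Helper18.ASPADJ
import Cfsg.Agent.Lib.Helper9.ASGD2T.Defs
import Cfsg.Agent.Lib.Helper9.ASGD2TF.Defs
import Cfsg.Agent.Lib.helper8.ASPC.Defs
import Cfsg.Agent.Lib.Helper9.ASPCEVQ1
import Cfsg.Agent.Lib.Helper11.ASGD2TPTMUL
import Cfsg.Agent.Lib.Helper13.ASPD2TSPFORM
import Cfsg.Agent.Lib.Helper22.ASPCFG

set_option autoImplicit false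
set_option linter.unusedVariables false
set_option linter.unusedSectionVars false
set_option maxHeartbeats 1000000

/-!
# Project ASP (S5662), block D2T, piece D2T-SPEVEN (backup copy under a private name: the row belongs to helper1)
`aspd2tspevenb_even_quad` = the statement of `sp_even_quad`.
-/

namespace Cfsg.Agent.Lib.Helper18.ASP

open Cfsg Cfsg.Geo Cfsg.Agent.Lib.Helper27.ASC Cfsg.Agent.Lib.Helper19.ASG
open scoped MatrixGroups Matrix

variable {n : ℕ} {F : Type*} [Field F] [Fintype F]

/-- an additive function, homogeneous of degree 2, vanishing on the standard basis is zero -/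
theorem aspd2tspevenb_zero (D : (Fin n → F) → F) (hadd : ∀ x y, D (x + y) = D x + D y)
    (hsm : ∀ (c : F) x, D (c • x) = c ^ 2 * D x) (hb : ∀ p : Fin n, D (Pi.single p 1) = 0) : ∀ w, D w = 0 := by
  classical
  have h0 : D 0 = 0 := by
    have h := hadd 0 0
    rw [add_zero] at h
    exact left_eq_add.mp h
  have hsum : ∀ (s : Finset (Fin n)) (g : Fin n → (Fin n → F)), D (∑ p ∈ s, g p) = ∑ p ∈ s, D (g p) := by
    intro s g
    induction s using Finset.induction_on with
    | empty => simpa using h0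
    | insert a s ha ih => rw [Finset.sum_insert ha, Finset.sum_insert ha, hadd, ih]
  intro w
  have hw : w = ∑ p : Fin n, w p • (Pi.single p (1 : F) : Fin n → F) := by
    funext q
    rw [Finset.sum_apply, Finset.sum_eq_single q]
    · simp
    · intro p _ hpq
      simp [hpq.symm]
    · intro h; exact absurd (Finset.mem_univ q) h
  rw [hw, hsum]
  refine Finset.sum_eq_zero fun p _ => ?_
  rw [hsm, hb, mul_zero]

/-- the transpose of a one-factor pure tensor -/
theorem aspd2tspevenb_single_transpose {k t : ℕ} (i : Fin t) (a : Matrix (Fin k) (Fin k) F) :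
    (ptMat (Pi.mulSingle i a))ᵀ = ptMat (Pi.mulSingle i aᵀ) := by
  classical
  ext x y
  rw [Matrix.transpose_apply, ptMat_apply, ptMat_apply]
  refine Finset.prod_congr rfl fun j _ => ?_
  by_cases hj : j = i
  · subst hj
    rw [Pi.mulSingle_eq_same, Pi.mulSingle_eq_same, Matrix.transpose_apply]
  · rw [Pi.mulSingle_eq_of_ne hj, Pi.mulSingle_eq_of_ne hj, Matrix.one_apply, Matrix.one_apply]
    by_cases hxy : x j = y j
    · rw [if_pos hxy, if_pos hxy.symm]
    · rw [if_neg hxy, if_neg (fun h => hxy h.symm)]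

/-- a factor isometry preserves the tensor power Gram matrix -/
theorem aspd2tspevenb_inv {k t : ℕ} (e : Fin n ≃ (Fin t → Fin k)) (A a : Matrix (Fin k) (Fin k) F)
    (haA : aᵀ * A * a = A) (i : Fin t) (c : F) :
    (Matrix.reindex e.symm e.symm (ptMat (Pi.mulSingle i a)))ᵀ *
      (c • Matrix.reindex e.symm e.symm (ptMat (fun _ : Fin t => A))) *
      Matrix.reindex e.symm e.symm (ptMat (Pi.mulSingle i a)) =
      c • Matrix.reindex e.symm e.symm (ptMat (fun _ : Fin t => A)) := by
  classical
  have h1 : (ptMat (Pi.mulSingle i a))ᵀ * ptMat (fun _ : Fin t => A) * ptMat (Pi.mulSingle i a) =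
      ptMat (fun _ : Fin t => A) := by
    rw [aspd2tspevenb_single_transpose, ← ptMat_mul, ← ptMat_mul]
    congr 1
    funext j
    by_cases hj : j = i
    · subst hj
      simp only [Pi.mul_apply, Pi.mulSingle_eq_same]
      exact haA
    · simp only [Pi.mul_apply, Pi.mulSingle_eq_of_ne hj, one_mul, mul_one]
  simp only [Matrix.reindex_apply, Equiv.symm_symm, Matrix.transpose_submatrix, Matrix.mul_smul, Matrix.smul_mul]
  rw [Matrix.submatrix_mul_equiv, Matrix.submatrix_mul_equiv, h1]

/-- D2T-SPEVEN (backup) -/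
theorem aspd2tspevenb_even_quad (h2 : (2 : F) = 0) (f : (Fin n → F) → (Fin n → F) → F) (hf : IsSymplecticForm f)
    {k t : ℕ} (ht : 2 ≤ t) (e : Fin n ≃ (Fin t → Fin k)) (B : GL (Fin n) F) (A : Matrix (Fin k) (Fin k) F)
    (hAd : ∀ p, A p p = 0) (c : F)
    (hgram : (B : Matrix (Fin n) (Fin n) F)ᵀ * ascformGram f * (B : Matrix (Fin n) (Fin n) F) =
      c • Matrix.reindex e.symm e.symm (ptMat (fun _ : Fin t => A))) :
    ∃ Q : (Fin n → F) → F, IsNondegenerateQuadraticForm Q ∧
      ∀ (i : Fin t) (a : Matrix (Fin k) (Fin k) F), aᵀ * A * a = A →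
        ∀ v : Fin n → F, Q (tensorFac e B i a *ᵥ v) = Q v := by
  classical
  set G := ascformGram f with hGdef
  set Gh : Matrix (Fin n) (Fin n) F := (B : Matrix (Fin n) (Fin n) F)ᵀ * G * (B : Matrix (Fin n) (Fin n) F) with hGh
  have hneg : ∀ x : F, -x = x := by
    intro x
    apply neg_eq_of_add_eq_zero_right
    rw [← two_mul, h2, zero_mul]
  have hBB : (B : Matrix (Fin n) (Fin n) F) * ((B⁻¹ : GL (Fin n) F) : Matrix (Fin n) (Fin n) F) = 1 := by
    rw [← Units.val_mul, mul_inv_cancel, Units.val_one]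
  have hBB' : ((B⁻¹ : GL (Fin n) F) : Matrix (Fin n) (Fin n) F) * (B : Matrix (Fin n) (Fin n) F) = 1 := by
    rw [← Units.val_mul, inv_mul_cancel, Units.val_one]
  -- the Gram matrix in the new coordinates
  have hform : ∀ w w' : Fin n → F, formOfGram id Gh w w' =
      f ((B : Matrix (Fin n) (Fin n) F) *ᵥ w) ((B : Matrix (Fin n) (Fin n) F) *ᵥ w') := by
    intro w w'
    rw [spc_formOfGram_eq_dot, aspadj_gram hf, aspd2tspform_dot]
  have hGhs : Ghᵀ = Gh := by
    rw [hGh, Matrix.transpose_mul, Matrix.transpose_mul, Matrix.transpose_transpose, aspadj_gram_transpose hf,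
      Matrix.neg_mul, Matrix.mul_neg, Matrix.mul_assoc]
    ext p q
    rw [Matrix.neg_apply, hneg]
  have hGh0 : ∀ p, Gh p p = 0 := by
    intro p
    have h1 : Gh p p = formOfGram id Gh (Pi.single p 1) (Pi.single p 1) := by
      rw [spc_formOfGram_eq_dot, Matrix.mulVec_single_one, single_one_dotProduct]
      rfl
    rw [h1, hform]
    exact hf.alternating _
  have hentry : ∀ p q, Gh p q = c * ∏ j, A (e p j) (e q j) := by
    intro p q
    rw [hgram]
    simp [Matrix.reindex_apply, ptMat_apply]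
  -- the quadratic form in coordinates
  have hpolar : ∀ w w' : Fin n → F, formOfGram id (upperPart Gh) (w + w') (w + w') -
      formOfGram id (upperPart Gh) w w - formOfGram id (upperPart Gh) w' w' = formOfGram id Gh w w' := by
    intro w w'
    rw [aspcevq1_polar]
    have hM : upperPart Gh + (upperPart Gh)ᵀ = Gh := by
      ext p q
      rw [Matrix.add_apply, Matrix.transpose_apply, aspcevq1_upper Gh hGhs hGh0]
    rw [hM]
  have hhom : ∀ (r : F) (w : Fin n → F), formOfGram id (upperPart Gh) (r • w) (r • w) =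
      r ^ 2 * formOfGram id (upperPart Gh) w w := by
    intro r w
    unfold formOfGram
    rw [Finset.mul_sum]
    refine Finset.sum_congr rfl fun a _ => ?_
    rw [Finset.mul_sum]
    refine Finset.sum_congr rfl fun b _ => ?_
    simp only [Pi.smul_apply, smul_eq_mul, id]; ring
  have hpolfun : QuadraticMap.polar (fun v : Fin n → F => formOfGram id (upperPart Gh)
      (((B⁻¹ : GL (Fin n) F) : Matrix (Fin n) (Fin n) F) *ᵥ v)
      (((B⁻¹ : GL (Fin n) F) : Matrix (Fin n) (Fin n) F) *ᵥ v)) = f := by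
    funext u v
    show formOfGram id (upperPart Gh) (((B⁻¹ : GL (Fin n) F) : Matrix (Fin n) (Fin n) F) *ᵥ (u + v))
      (((B⁻¹ : GL (Fin n) F) : Matrix (Fin n) (Fin n) F) *ᵥ (u + v)) -
      formOfGram id (upperPart Gh) (((B⁻¹ : GL (Fin n) F) : Matrix (Fin n) (Fin n) F) *ᵥ u)
        (((B⁻¹ : GL (Fin n) F) : Matrix (Fin n) (Fin n) F) *ᵥ u) -
      formOfGram id (upperPart Gh) (((B⁻¹ : GL (Fin n) F) : Matrix (Fin n) (Fin n) F) *ᵥ v)
        (((B⁻¹ : GL (Fin n) F) : Matrix (Fin n) (Fin n) F) *ᵥ v) = f u v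
    rw [Matrix.mulVec_add, hpolar, hform, Matrix.mulVec_mulVec, Matrix.mulVec_mulVec, hBB, Matrix.one_mulVec,
      Matrix.one_mulVec]
  refine ⟨fun v : Fin n → F => formOfGram id (upperPart Gh)
      (((B⁻¹ : GL (Fin n) F) : Matrix (Fin n) (Fin n) F) *ᵥ v)
      (((B⁻¹ : GL (Fin n) F) : Matrix (Fin n) (Fin n) F) *ᵥ v), ⟨?_, ?_, ?_⟩, ?_⟩
  · intro r v
    show formOfGram id (upperPart Gh) (((B⁻¹ : GL (Fin n) F) : Matrix (Fin n) (Fin n) F) *ᵥ (r • v))
      (((B⁻¹ : GL (Fin n) F) : Matrix (Fin n) (Fin n) F) *ᵥ (r • v)) = _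
    rw [Matrix.mulVec_smul, hhom]
  · rw [hpolfun]; exact hf.bilinear
  · rw [hpolfun]; exact hf.nondegenerate
  · intro i a haA v
    set M : Matrix (Fin n) (Fin n) F := Matrix.reindex e.symm e.symm (ptMat (Pi.mulSingle i a)) with hM
    have hco : ((B⁻¹ : GL (Fin n) F) : Matrix (Fin n) (Fin n) F) *ᵥ (tensorFac e B i a *ᵥ v) =
        M *ᵥ (((B⁻¹ : GL (Fin n) F) : Matrix (Fin n) (Fin n) F) *ᵥ v) := by
      rw [tensorFac_def, Matrix.mulVec_mulVec, Matrix.mulVec_mulVec, ← Matrix.mul_assoc, ← Matrix.mul_assoc, hBB',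
        Matrix.one_mul]
    show formOfGram id (upperPart Gh) (((B⁻¹ : GL (Fin n) F) : Matrix (Fin n) (Fin n) F) *ᵥ (tensorFac e B i a *ᵥ v))
      (((B⁻¹ : GL (Fin n) F) : Matrix (Fin n) (Fin n) F) *ᵥ (tensorFac e B i a *ᵥ v)) =
      formOfGram id (upperPart Gh) (((B⁻¹ : GL (Fin n) F) : Matrix (Fin n) (Fin n) F) *ᵥ v)
        (((B⁻¹ : GL (Fin n) F) : Matrix (Fin n) (Fin n) F) *ᵥ v)
    rw [hco]
    have hD := aspd2tspevenb_zero (fun w => formOfGram id (upperPart Gh) (M *ᵥ w) (M *ᵥ w) -
      formOfGram id (upperPart Gh) w w) ?_ ?_ ?_ (((B⁻¹ : GL (Fin n) F) : Matrix (Fin n) (Fin n) F) *ᵥ v)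
    · exact sub_eq_zero.mp hD
    · intro x y
      have h1 : formOfGram id Gh (M *ᵥ x) (M *ᵥ y) = formOfGram id Gh x y := by
        rw [spc_formOfGram_eq_dot, spc_formOfGram_eq_dot, aspd2tspform_dot]
        have h3 : Mᵀ * Gh * M = Gh := by
          rw [hgram, hM]
          exact aspd2tspevenb_inv e A a haA i c
        rw [h3]
      have h4 := hpolar (M *ᵥ x) (M *ᵥ y)
      have h5 := hpolar x y
      rw [h1] at h4
      show formOfGram id (upperPart Gh) _ _ - _ = _
      rw [Matrix.mulVec_add]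
      linear_combination h4 - h5
    · intro r x
      show formOfGram id (upperPart Gh) _ _ - _ = _
      rw [Matrix.mulVec_smul, hhom, hhom]; ring
    · intro p
      show formOfGram id (upperPart Gh) _ _ - _ = _
      have h1 : formOfGram id (upperPart Gh) (Pi.single p 1) (Pi.single p 1) = 0 := by
        rw [spc_formOfGram_eq_dot, Matrix.mulVec_single_one, single_one_dotProduct]
        show upperPart Gh p p = 0
        rw [upperPart_apply, if_neg (lt_irrefl _)]
      rw [h1, sub_zero, Matrix.mulVec_single_one]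
      unfold formOfGram
      refine Finset.sum_eq_zero fun q _ => Finset.sum_eq_zero fun q' _ => ?_
      simp only [Matrix.col_apply, id]
      rw [upperPart_apply]
      by_cases hlt : q < q'
      · rw [if_pos hlt]
        have hMq : ∀ r, M r p = if ∀ j, j ≠ i → e r j = e p j then a (e r i) (e p i) else 0 := by
          intro r
          rw [hM]
          simp only [Matrix.reindex_apply, Equiv.symm_symm, Matrix.submatrix_apply]
          exact asgd2tptmul_single_apply i a (e r) (e p)
        rw [hMq q, hMq q']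
        by_cases hq : ∀ j, j ≠ i → e q j = e p j
        · by_cases hq' : ∀ j, j ≠ i → e q' j = e p j
          · -- a diagonal factor vanishes
            obtain ⟨j₀, hj₀⟩ : ∃ j₀ : Fin t, j₀ ≠ i := by
              by_cases hi : i.val = 0
              · refine ⟨⟨1, by omega⟩, fun h => ?_⟩
                have := congrArg Fin.val h
                simp at this
                omega
              · refine ⟨⟨0, by omega⟩, fun h => ?_⟩
                have := congrArg Fin.val h
                simp at this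
                omega
            have h0 : Gh q q' = 0 := by
              rw [hentry]
              have : ∏ j, A (e q j) (e q' j) = 0 := by
                apply Finset.prod_eq_zero (Finset.mem_univ j₀)
                rw [hq j₀ hj₀, hq' j₀ hj₀]
                exact hAd _
              rw [this, mul_zero]
            rw [h0, mul_zero, zero_mul]
          · rw [if_neg hq', mul_zero]
        · rw [if_neg hq, zero_mul, zero_mul]
      · rw [if_neg hlt, mul_zero, zero_mul]

end Cfsg.Agent.Lib.Helper18.ASP
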