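import Mathlib
import Cfsg.Agent.Lib.Lead.BCG.Defs
import Cfsg.Agent.Lib.helper17.BCGOMEGA

set_option autoImplicit false
set_option linter.unusedVariables false

/-!
# Project BCG (designer lead), row L1 (`ino_iff`), helper9: restatement of helper17's `bcgomega_iff`.
-/

namespace Cfsg.Agent.Lib.Lead.BCG

open Polynomial Module Matrix Cfsg.Agent.Lib.Helper13.S5955 Cfsg.Agent.Lib.helper15.S5972
  Cfsg.Agent.Lib.Helper18.ONE Cfsg.Agent.Lib.Lead.BCS

theorem ino_iff {F : Type*} [Field F] [Fintype F] (h2 : (2 : F) ≠ 0) (d : ℕ) (hd : 3 ≤ d) (N : ℕ) :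
    N ∈ Set.range (orderOf : Cfsg.POmega F (Cfsg.quadFormOdd d F) → ℕ) ↔ InO d F N :=
  Cfsg.Agent.Lib.helper17.BCGOMEGA.bcgomega_iff h2 d hd N

end Cfsg.Agent.Lib.Lead.BCG
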