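import Mathlib
import Cfsg.Agent.Lib.Lead.BCG.Defs
import Cfsg.Agent.Lib.helper17.BCGPSP

set_option autoImplicit false
set_option linter.unusedVariables false

/-!
# Project BCG (designer lead), row L4 (`ins_fix`), helper9: restatement of helper17's `bcgpsp_order_mk`.
-/

namespace Cfsg.Agent.Lib.Lead.BCG

open Polynomial Module Matrix Cfsg.Agent.Lib.Helper13.S5955 Cfsg.Agent.Lib.helper15.S5972
  Cfsg.Agent.Lib.Helper18.ONE Cfsg.Agent.Lib.Lead.BCS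

theorem ins_fix {F : Type*} [Field F] (h2 : (2 : F) ≠ 0) (d : ℕ) (hd : 1 ≤ d)
    (x : Matrix.symplecticGroup (Fin d) F) (u : Fin d ⊕ Fin d → F) (hu : u ≠ 0)
    (hxu : (x : Matrix (Fin d ⊕ Fin d) (Fin d ⊕ Fin d) F) *ᵥ u = u) :
    orderOf x ∈ Set.range (orderOf : Cfsg.PSp d F → ℕ) :=
  ⟨(QuotientGroup.mk x : Cfsg.PSp d F),
    Cfsg.Agent.Lib.helper17.BCGPSP.bcgpsp_order_mk h2 d hd x u hu hxu⟩

end Cfsg.Agent.Lib.Lead.BCG
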