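import Mathlib
import Cfsg.Prelude.Def_ChevStructure
import Cfsg.Prelude.Def_LieTypes
import Cfsg.Prelude.Def_ChevB2
import Cfsg.Agent.Lib.helper8.BTT.Defs
import Cfsg.Agent.Lib.Helper9.BTTROOT3h9

/-!
# BTT ROOT3 (verbatim): root coordinates
-/

set_option autoImplicit false

namespace Cfsg.Agent.Lib.helper8.BTT

open Cfsg.Lie Cfsg.Lie.ChevalleyDatum

universe u

section root
variable (D : ChevalleyDatum)

/-- ROOT3 [M-H]: root coordinates (see header; `κ j r = g_j(r) / g_j(p_j)`; the identity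
`A_{p_i, r} = Σ_j κ_j(r) A_{p_i, p_j}` is a table check, `decide +kernel` per datum). -/
theorem root_coords (hD : D ∈ [chevG2, chevB2, chevD4, chevF4, chevE6, chevE7, chevE8])
    : ∃ κ : ℕ → ℕ → ℝ,
    (∀ L ∈ levE D, ∀ r < D.nroots,
      lv D L r = ∑ j ∈ Finset.range D.rank, κ j r * lv D L (D.simple j)) ∧
    (∀ r, D.IsPosRoot r → ∀ j < D.rank, 0 ≤ κ j r) ∧
    (∀ r < D.nroots, ∀ j < D.rank, (κ j r = 0 ↔ (D.coroot.getD r #[]).getD j 0 = 0)) :=
  bttroot3_h9_root_coords D hD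

end root

end Cfsg.Agent.Lib.helper8.BTT
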