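import Mathlib

set_option autoImplicit false

namespace Cfsg.Agent.Lib.Helper9

open scoped Pointwise

section
variable {G α : Type*} [Group G] [MulAction G α]

/-- A nontrivial normal subgroup of a faithful 2-transitive group is transitive. -/
theorem b2t_trans [FaithfulSMul G α]
    (h2 : ∀ a b c d : α, a ≠ b → c ≠ d → ∃ g : G, g • a = c ∧ g • b = d)
    (N : Subgroup G) [hNn : N.Normal] (hN : N ≠ ⊥) (c d : α) : ∃ n ∈ N, n • c = d := by
  by_cases hcd : c = d
  · exact ⟨1, N.one_mem, by rw [one_smul, hcd]⟩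
  obtain ⟨n, hn, hn1⟩ : ∃ n ∈ N, n ≠ 1 := by
    by_contra hcon
    push Not at hcon
    exact hN ((Subgroup.eq_bot_iff_forall _).2 hcon)
  obtain ⟨a, ha⟩ : ∃ a : α, n • a ≠ a := by
    by_contra hcon
    push Not at hcon
    exact hn1 (FaithfulSMul.eq_of_smul_eq_smul (α := α) (fun a => by rw [hcon a, one_smul]))
  obtain ⟨g, hg1, hg2⟩ := h2 a (n • a) c d (Ne.symm ha) hcd
  refine ⟨g * n * g⁻¹, hNn.conj_mem n hn g, ?_⟩
  rw [mul_smul, mul_smul, ← hg1, inv_smul_smul, hg2]

/-- In the regular case, all nonidentity elements of `N` are conjugate. -/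
theorem b2t_regular_conj
    (h2 : ∀ a b c d : α, a ≠ b → c ≠ d → ∃ g : G, g • a = c ∧ g • b = d)
    (N : Subgroup G) [hNn : N.Normal] (a : α) (hreg : ∀ n ∈ N, n • a = a → n = 1)
    {n m : G} (hn : n ∈ N) (hm : m ∈ N) (hn1 : n ≠ 1) (hm1 : m ≠ 1) :
    ∃ g : G, g * n * g⁻¹ = m := by
  have h1 : a ≠ n • a := fun h => hn1 (hreg n hn h.symm)
  have h1' : a ≠ m • a := fun h => hm1 (hreg m hm h.symm)
  obtain ⟨g, hg1, hg2⟩ := h2 a (n • a) a (m • a) h1 h1'
  refine ⟨g, ?_⟩
  have hga : g⁻¹ • a = a := by rw [inv_smul_eq_iff, hg1]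
  have hfix : (m⁻¹ * (g * n * g⁻¹)) • a = a := by
    rw [mul_smul, mul_smul, mul_smul, hga, hg2, inv_smul_smul]
  have := hreg _ (N.mul_mem (N.inv_mem hm) (hNn.conj_mem n hn g)) hfix
  exact (inv_mul_eq_one.1 this).symm

/-- The regular case of Burnside's theorem. -/
theorem b2t_regular_case [Finite G] [FaithfulSMul G α]
    (h2 : ∀ a b c d : α, a ≠ b → c ≠ d → ∃ g : G, g • a = c ∧ g • b = d)
    (N : Subgroup G) [hNn : N.Normal] (hN : N ≠ ⊥)
    (hmin : ∀ M : Subgroup G, M.Normal → M ≤ N → M = ⊥ ∨ M = N)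
    (a : α) (hreg : ∀ n ∈ N, n • a = a → n = 1) :
    IsMulCommutative N ∧ (∃ p : ℕ, p.Prime ∧ ∀ n ∈ N, n ^ p = 1) ∧
      ∀ b : α, MulAction.stabilizer N b = ⊥ := by
  have htr := b2t_trans h2 N hN
  -- exponent p
  haveI : Nontrivial N := (Subgroup.nontrivial_iff_ne_bot N).2 hN
  have hcard : Nat.card N ≠ 1 := by
    intro h
    have := (Nat.card_eq_one_iff_unique.1 h).1
    exact not_subsingleton N this
  set p := (Nat.card N).minFac with hp
  have hpp : p.Prime := Nat.minFac_prime hcard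
  haveI : Fact p.Prime := ⟨hpp⟩
  obtain ⟨x, hx⟩ := exists_prime_orderOf_dvd_card' (G := N) p (Nat.minFac_dvd _)
  have hx1 : (x : G) ≠ 1 := by
    intro h
    have : x = 1 := Subtype.ext h
    rw [this, orderOf_one] at hx
    exact hpp.one_lt.ne hx
  have hxp : (x : G) ^ p = 1 := by
    have : x ^ p = 1 := by rw [← hx]; exact pow_orderOf_eq_one x
    have := congrArg (Subtype.val) this
    simpa using this
  have hexp : ∀ n ∈ N, n ^ p = 1 := by
    intro n hn
    by_cases hn1 : n = 1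
    · rw [hn1, one_pow]
    obtain ⟨g, hg⟩ := b2t_regular_conj h2 N a hreg x.2 hn hx1 hn1
    rw [← hg, conj_pow, hxp, mul_one, mul_inv_cancel]
  have hPG : IsPGroup p N := by
    intro y
    refine ⟨1, ?_⟩
    rw [pow_one]
    exact Subtype.ext (by simpa using hexp y.1 y.2)
  -- commutative
  have hcomm : ∀ x ∈ N, ∀ y ∈ N, x * y = y * x := by
    haveI := hPG.center_nontrivial
    obtain ⟨z, hz⟩ := exists_ne (1 : Subgroup.center N)
    have hZn : (N ⊓ Subgroup.centralizer (N : Set G)).Normal := inferInstance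
    have hz' : (z : N).1 ∈ N ⊓ Subgroup.centralizer (N : Set G) := by
      refine ⟨(z : N).2, ?_⟩
      show (z : N).1 ∈ Subgroup.centralizer (N : Set G)
      rw [Subgroup.mem_centralizer_iff]
      intro y hy
      have := (Subgroup.mem_center_iff.1 z.2) ⟨y, hy⟩
      have := congrArg Subtype.val this
      simpa using this
    have hZ1 : N ⊓ Subgroup.centralizer (N : Set G) ≠ ⊥ := by
      intro h
      rw [h, Subgroup.mem_bot] at hz'
      exact hz (Subtype.ext (Subtype.ext hz'))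
    have hZ := (hmin _ hZn inf_le_left).resolve_left hZ1
    intro x hx y hy
    have : x ∈ N ⊓ Subgroup.centralizer (N : Set G) := by rw [hZ]; exact hx
    exact ((Subgroup.mem_centralizer_iff.1 this.2) y hy).symm
  refine ⟨⟨⟨fun x y => Subtype.ext (hcomm x.1 x.2 y.1 y.2)⟩⟩, ⟨p, hpp, hexp⟩, ?_⟩
  intro b
  rw [Subgroup.eq_bot_iff_forall]
  intro y hy
  obtain ⟨m, hm, hmb⟩ := htr a b
  have hyb : (y : G) • b = b := hy
  have : (m⁻¹ * (y : G) * m) • a = a := by
    rw [mul_smul, mul_smul, hmb, hyb, ← hmb, inv_smul_smul]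
  have h1 := hreg _ (by simpa using hNn.conj_mem y.1 y.2 m⁻¹) this
  have : (y : G) = 1 := by
    have := congrArg (fun t => m * t * m⁻¹) h1
    simpa [mul_assoc] using this
  exact Subtype.ext this

end

end Cfsg.Agent.Lib.Helper9
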