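import Mathlib

set_option autoImplicit false

namespace Cfsg.Agent.Lib.Helper9

open scoped Pointwise

section
variable {G α : Type*} [Group G] [MulAction G α]

/-- Elementary form of "`B` is a block for the subgroup `N`". -/
def b2tBlock (N : Subgroup G) (B : Set α) : Prop :=
  ∀ n ∈ N, n • B = B ∨ Disjoint (n • B) B

theorem b2tBlock_iff_isBlock (N : Subgroup G) (B : Set α) :
    b2tBlock N B ↔ MulAction.IsBlock N B := by
  rw [MulAction.isBlock_iff_smul_eq_or_disjoint]
  constructor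
  · intro h g
    exact h g.1 g.2
  · intro h n hn
    exact h ⟨n, hn⟩

theorem b2tBlock_smul (N : Subgroup G) [hNn : N.Normal] {B : Set α} (hB : b2tBlock N B) (g : G) :
    b2tBlock N (g • B) := by
  intro n hn
  have hm : g⁻¹ * n * g ∈ N := by simpa using hNn.conj_mem n hn g⁻¹
  have hng : n • g • B = g • (g⁻¹ * n * g) • B := by
    rw [smul_smul, smul_smul]
    congr 1
    group
  rcases hB _ hm with h | h
  · left
    rw [hng, h]
  · right
    rw [hng]
    exact (Set.disjoint_smul_set (a := g)).2 h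

theorem b2tBlock_inter (N : Subgroup G) {B C : Set α} (hB : b2tBlock N B) (hC : b2tBlock N C) :
    b2tBlock N (B ∩ C) := by
  intro n hn
  rw [Set.smul_set_inter]
  rcases hB n hn with h | h
  · rcases hC n hn with h' | h'
    · left; rw [h, h']
    · right
      exact h'.mono Set.inter_subset_right Set.inter_subset_right
  · right
    exact h.mono Set.inter_subset_left Set.inter_subset_left

/-- If a minimal nontrivial block of the normal subgroup `N` of the 2-transitive group `G`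
exists, then two-point stabilizers in `N` are trivial. -/
theorem b2t_two_point_stab [Finite α] [FaithfulSMul G α]
    (h2 : ∀ a b c d : α, a ≠ b → c ≠ d → ∃ g : G, g • a = c ∧ g • b = d)
    (N : Subgroup G) [hNn : N.Normal] (B : Set α) (hB : b2tBlock N B)
    (hBns : ¬ B.Subsingleton) (hBu : B ≠ Set.univ)
    (hBmin : ∀ C : Set α, b2tBlock N C → ¬ C.Subsingleton → C ≠ Set.univ → B.ncard ≤ C.ncard)
    {a b : α} (hab : a ≠ b) {n : G} (hn : n ∈ N) (hna : n • a = a) (hnb : n • b = b) :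
    n = 1 := by
  -- lines
  have L1 : ∀ g : G, b2tBlock N (g • B) ∧ g • B ≠ Set.univ ∧ (g • B).ncard = B.ncard := by
    intro g
    refine ⟨b2tBlock_smul N hB g, ?_, Set.ncard_smul_set g B⟩
    intro h
    apply hBu
    have := congrArg (fun S => g⁻¹ • S) h
    simpa using this
  have L2 : ∀ x y : α, x ≠ y → ∃ g : G, x ∈ g • B ∧ y ∈ g • B := by
    intro x y hxy
    obtain ⟨u, hu, v, hv, huv⟩ := Set.not_subsingleton_iff.1 hBns
    obtain ⟨g, hg1, hg2⟩ := h2 u v x y huv hxy
    exact ⟨g, hg1 ▸ Set.smul_mem_smul_set hu, hg2 ▸ Set.smul_mem_smul_set hv⟩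
  have L3 : ∀ g₁ g₂ : G, ∀ x y : α, x ≠ y → x ∈ g₁ • B → y ∈ g₁ • B → x ∈ g₂ • B → y ∈ g₂ • B →
      g₁ • B = g₂ • B := by
    intro g₁ g₂ x y hxy hx1 hy1 hx2 hy2
    have hC : b2tBlock N (g₁ • B ∩ g₂ • B) := b2tBlock_inter N (L1 g₁).1 (L1 g₂).1
    have hCns : ¬ (g₁ • B ∩ g₂ • B).Subsingleton := by
      rw [Set.not_subsingleton_iff]
      exact ⟨x, ⟨hx1, hx2⟩, y, ⟨hy1, hy2⟩, hxy⟩
    have hCu : g₁ • B ∩ g₂ • B ≠ Set.univ := by
      intro h
      apply (L1 g₁).2.1
      rw [Set.eq_univ_iff_forall] at h ⊢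
      exact fun z => (h z).1
    have hle := hBmin _ hC hCns hCu
    have e1 : g₁ • B ∩ g₂ • B = g₁ • B :=
      Set.eq_of_subset_of_ncard_le Set.inter_subset_left (by rw [(L1 g₁).2.2]; exact hle)
        (Set.toFinite _)
    have e2 : g₁ • B ∩ g₂ • B = g₂ • B :=
      Set.eq_of_subset_of_ncard_le Set.inter_subset_right (by rw [(L1 g₂).2.2]; exact hle)
        (Set.toFinite _)
    rw [← e1, e2]
  have Stab : ∀ g : G, ∀ x ∈ g • B, ∀ m ∈ N, m • x = x → m • g • B = g • B := by
    intro g x hx m hm hmx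
    rcases (L1 g).1 m hm with h | h
    · exact h
    · exfalso
      have : x ∈ m • g • B := by
        rw [← hmx]; exact Set.smul_mem_smul_set hx
      exact (Set.disjoint_left.1 h) this hx
  have ClaimA : ∀ x y : α, x ≠ y → ∀ g : G, x ∈ g • B → y ∈ g • B → ∀ m ∈ N, m • x = x →
      m • y = y → ∀ z, z ∉ g • B → m • z = z := by
    intro x y hxy g hx hy m hm hmx hmy z hz
    have hzx : x ≠ z := fun h => hz (h ▸ hx)
    have hzy : y ≠ z := fun h => hz (h ▸ hy)
    obtain ⟨g₁, hx1, hz1⟩ := L2 x z hzx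
    obtain ⟨g₂, hy2, hz2⟩ := L2 y z hzy
    have s1 := Stab g₁ x hx1 m hm hmx
    have s2 := Stab g₂ y hy2 m hm hmy
    have hmz1 : m • z ∈ g₁ • B := by rw [← s1]; exact Set.smul_mem_smul_set hz1
    have hmz2 : m • z ∈ g₂ • B := by rw [← s2]; exact Set.smul_mem_smul_set hz2
    by_contra hne
    have e12 : g₁ • B = g₂ • B := L3 g₁ g₂ (m • z) z hne hmz1 hz1 hmz2 hz2
    have e1 : g₁ • B = g • B := L3 g₁ g x y hxy hx1 (e12 ▸ hy2) hx hy
    exact hz (e1 ▸ hz1)
  obtain ⟨g, ha, hb⟩ := L2 a b hab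
  obtain ⟨c, hc⟩ := (Set.ne_univ_iff_exists_notMem _).1 (L1 g).2.1
  have hnc : n • c = c := ClaimA a b hab g ha hb n hn hna hnb c hc
  have hac : a ≠ c := fun h => hc (h ▸ ha)
  obtain ⟨g', ha', hc'⟩ := L2 a c hac
  apply FaithfulSMul.eq_of_smul_eq_smul (α := α)
  intro x
  rw [one_smul]
  by_cases hx : x ∈ g • B
  · by_cases hx' : x ∈ g' • B
    · by_cases hxa : x = a
      · rw [hxa, hna]
      · exfalso
        have := L3 g g' x a hxa hx ha hx' ha'
        exact hc (this ▸ hc')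
    · exact ClaimA a c hac g' ha' hc' n hn hna hnc x hx'
  · exact ClaimA a b hab g ha hb n hn hna hnb x hx

end

end Cfsg.Agent.Lib.Helper9
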