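import Mathlib
import Cfsg.Agent.Lib.Helper1.FrobeniusThm
import Cfsg.Agent.Lib.Helper9.Burnside1
import Cfsg.Agent.Lib.Helper9.Burnside2

set_option autoImplicit false

namespace Cfsg.Agent.Lib.Helper9

open scoped Pointwise

theorem b2t_mem_conj {G : Type*} [Group G] (H : Subgroup G) (g x : G) :
    x ∈ MulAut.conj g • H ↔ g⁻¹ * x * g ∈ H := by
  rw [Subgroup.mem_pointwise_smul_iff_inv_smul_mem, MulAut.smul_def, ← map_inv,
    MulAut.conj_apply, inv_inv]

section
variable {G α : Type*} [Group G] [MulAction G α]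

/-- A transitive nonregular normal subgroup `N` with trivial two-point stabilizers cannot be a
minimal normal subgroup: its Frobenius kernel is a smaller normal subgroup. -/
theorem b2t_frob_contra [Finite G] [FaithfulSMul G α]
    (N : Subgroup G) [hNn : N.Normal]
    (hmin : ∀ M : Subgroup G, M.Normal → M ≤ N → M = ⊥ ∨ M = N)
    (htr : ∀ c d : α, ∃ n ∈ N, n • c = d)
    (a : α) (hnonreg : ∃ n ∈ N, n • a = a ∧ n ≠ 1)
    (hfix : ∀ b c : α, b ≠ c → ∀ n ∈ N, n • b = b → n • c = c → n = 1) : False := by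
  obtain ⟨n₀, hn₀, hn₀a, hn₀1⟩ := hnonreg
  set H : Subgroup N := MulAction.stabilizer N a with hHdef
  have hmemH : ∀ x : N, x ∈ H ↔ (x : G) • a = a := fun x => Iff.rfl
  have hH1 : H ≠ ⊥ := by
    intro h
    have : (⟨n₀, hn₀⟩ : N) ∈ H := hn₀a
    rw [h, Subgroup.mem_bot] at this
    exact hn₀1 (congrArg Subtype.val this)
  obtain ⟨x₀, hx₀⟩ : ∃ x : α, n₀ • x ≠ x := by
    by_contra hcon
    push Not at hcon
    exact hn₀1 (FaithfulSMul.eq_of_smul_eq_smul (α := α) (fun a => by rw [hcon a, one_smul]))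
  have hx₀a : x₀ ≠ a := fun h => hx₀ (h ▸ hn₀a)
  have hH2 : H ≠ ⊤ := by
    intro h
    obtain ⟨m, hm, hma⟩ := htr a x₀
    have : (⟨m, hm⟩ : N) ∈ H := by rw [h]; exact Subgroup.mem_top _
    rw [hmemH] at this
    exact hx₀a (hma ▸ this)
  have hH3 : ∀ g : N, g ∉ H → H ⊓ (MulAut.conj g • H) = ⊥ := by
    intro g hg
    rw [Subgroup.eq_bot_iff_forall]
    intro x hx
    have h1 : (x : G) • a = a := hx.1
    have h2 : x ∈ MulAut.conj g • H := hx.2
    rw [b2t_mem_conj, hmemH] at h2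
    have h2' : (x : G) • ((g : G) • a) = (g : G) • a := by
      have : ((g : G)⁻¹ * (x : G) * (g : G)) • a = a := by simpa using h2
      rw [mul_smul, mul_smul, inv_smul_eq_iff] at this
      exact this
    have hga : a ≠ (g : G) • a := fun h => hg ((hmemH g).2 h.symm)
    exact Subtype.ext (hfix a _ hga x.1 x.2 h1 h2')
  obtain ⟨K, hK, hKn, hKc⟩ := Cfsg.Agent.Lib.Helper1.frobenius_theorem H ⟨hH1, hH2, hH3⟩
  have hmemK : ∀ x : N, x ∈ K ↔ x = 1 ∨ ∀ b : α, (x : G) • b ≠ b := by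
    intro x
    have : x ∈ K ↔ x ∈ Cfsg.frobeniusKernel H := by rw [← hK]; rfl
    rw [this]
    constructor
    · rintro (h | h)
      · left; exact h
      · right
        intro b hb
        obtain ⟨m, hm, hmb⟩ := htr a b
        apply h ⟨m, hm⟩
        rw [b2t_mem_conj, hmemH]
        show (m⁻¹ * (x : G) * m) • a = a
        rw [mul_smul, mul_smul, hmb, hb, ← hmb, inv_smul_smul]
    · rintro (h | h)
      · left; exact h
      · right
        intro g hg
        rw [b2t_mem_conj, hmemH] at hg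
        have : ((g : G)⁻¹ * (x : G) * (g : G)) • a = a := by simpa using hg
        rw [mul_smul, mul_smul, inv_smul_eq_iff] at this
        exact h _ this
  have hK'n : (K.map N.subtype).Normal := by
    refine ⟨fun y hy g => ?_⟩
    obtain ⟨k, hk, rfl⟩ := hy
    refine ⟨⟨g * (k : G) * g⁻¹, hNn.conj_mem k.1 k.2 g⟩, ?_, rfl⟩
    have hk' := (hmemK k).1 hk
    show _ ∈ K
    rw [hmemK]
    rcases hk' with h | h
    · left
      apply Subtype.ext
      show g * (k : G) * g⁻¹ = 1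
      rw [h]; simp
    · right
      intro b hb
      apply h (g⁻¹ • b)
      have hb' : (g * (k : G) * g⁻¹) • b = b := hb
      rw [mul_smul, mul_smul] at hb'
      exact (smul_eq_iff_eq_inv_smul g).1 hb'
  have hK'le : K.map N.subtype ≤ N := by
    rintro y ⟨k, _, rfl⟩
    exact k.2
  rcases hmin _ hK'n hK'le with h | h
  · have : K = ⊥ := by
      rwa [Subgroup.map_eq_bot_iff_of_injective _ N.subtype_injective] at h
    rw [this, Subgroup.isComplement'_bot_left] at hKc
    exact hH2 hKc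
  · have : K = ⊤ := by
      rw [Subgroup.eq_top_iff']
      intro x
      have : (x : G) ∈ K.map N.subtype := by rw [h]; exact x.2
      obtain ⟨k, hk, hkx⟩ := this
      have : k = x := Subtype.ext hkx
      exact this ▸ hk
    rw [this, Subgroup.isComplement'_top_left] at hKc
    exact hH1 hKc

/-- In the nonregular case, `N` has only trivial blocks. -/
theorem b2t_prim [Finite G] [Finite α] [FaithfulSMul G α]
    (h2 : ∀ a b c d : α, a ≠ b → c ≠ d → ∃ g : G, g • a = c ∧ g • b = d)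
    (N : Subgroup G) [hNn : N.Normal] (hN : N ≠ ⊥)
    (hmin : ∀ M : Subgroup G, M.Normal → M ≤ N → M = ⊥ ∨ M = N)
    (a : α) (hnonreg : ∃ n ∈ N, n • a = a ∧ n ≠ 1) :
    ∀ B : Set α, b2tBlock N B → B.Subsingleton ∨ B = Set.univ := by
  by_contra hcon
  push Not at hcon
  obtain ⟨B₀, hB₀, hB₀s, hB₀u⟩ := hcon
  rw [← Set.not_subsingleton_iff] at hB₀s
  have hex : ∃ k : ℕ, ∃ B : Set α, (b2tBlock N B ∧ ¬ B.Subsingleton ∧ B ≠ Set.univ) ∧
      B.ncard = k := ⟨_, B₀, ⟨hB₀, hB₀s, hB₀u⟩, rfl⟩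
  classical
  obtain ⟨B, ⟨hB, hBs, hBu⟩, hBk⟩ := Nat.find_spec hex
  have hBmin : ∀ C : Set α, b2tBlock N C → ¬ C.Subsingleton → C ≠ Set.univ →
      B.ncard ≤ C.ncard := by
    intro C h1 h2' h3
    rw [hBk]
    exact Nat.find_min' hex ⟨C, ⟨h1, h2', h3⟩, rfl⟩
  exact b2t_frob_contra N hmin (b2t_trans h2 N hN) a hnonreg
    (fun b c hbc n hn hnb hnc => b2t_two_point_stab h2 N B hB hBs hBu hBmin hbc hn hnb hnc)

end

end Cfsg.Agent.Lib.Helper9
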