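import Mathlib
import Cfsg.Agent.Lib.Helper1.Fitting
import Cfsg.Agent.Lib.Helper9.Burnside3

set_option autoImplicit false

namespace Cfsg.Agent.Lib.Helper9

open scoped Pointwise

section
variable {G α : Type*} [Group G] [MulAction G α]

theorem b2t_le_normalizer (N M : Subgroup G)
    (hMn : ∀ n ∈ N, ∀ x ∈ M, n * x * n⁻¹ ∈ M) : N ≤ Subgroup.normalizer (M : Set G) := by
  intro n hn
  rw [Subgroup.mem_normalizer_iff]
  intro h
  constructor
  · exact hMn n hn h
  · intro hh
    have := hMn n⁻¹ (N.inv_mem hn) _ hh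
    simpa [mul_assoc] using this

/-- A nontrivial subgroup `M ≤ N` normalized by `N` is transitive when `N` is primitive. -/
theorem b2t_sub_trans [FaithfulSMul G α] (N : Subgroup G)
    (htr : ∀ c d : α, ∃ n ∈ N, n • c = d)
    (hprim : ∀ B : Set α, b2tBlock N B → B.Subsingleton ∨ B = Set.univ)
    (M : Subgroup G) (hMN : M ≤ N) (hMn : ∀ n ∈ N, ∀ x ∈ M, n * x * n⁻¹ ∈ M) (hM1 : M ≠ ⊥)
    (c d : α) : ∃ m ∈ M, m • c = d := by
  haveI : MulAction.IsPretransitive N α :=
    ⟨fun c d => let ⟨n, hn, h⟩ := htr c d; ⟨⟨n, hn⟩, h⟩⟩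
  haveI : MulAction.IsPreprimitive N α :=
    ⟨fun {B} hB => hprim B ((b2tBlock_iff_isBlock N B).2 hB)⟩
  haveI : (M.subgroupOf N).Normal :=
    (Subgroup.normal_subgroupOf_iff_le_normalizer hMN).2 (b2t_le_normalizer N M hMn)
  have hfp : MulAction.fixedPoints (M.subgroupOf N) α ≠ Set.univ := by
    intro h
    apply hM1
    rw [Subgroup.eq_bot_iff_forall]
    intro m hm
    apply FaithfulSMul.eq_of_smul_eq_smul (α := α)
    intro x
    rw [one_smul]
    have hx : x ∈ MulAction.fixedPoints (M.subgroupOf N) α := by rw [h]; exact Set.mem_univ _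
    exact hx ⟨⟨m, hMN hm⟩, Subgroup.mem_subgroupOf.2 hm⟩
  haveI := MulAction.IsQuasiPreprimitive.isPretransitive_of_normal (G := N) (X := α)
    (N := M.subgroupOf N) hfp
  obtain ⟨m, hm⟩ := MulAction.exists_smul_eq (M.subgroupOf N) c d
  exact ⟨m.1.1, Subgroup.mem_subgroupOf.1 m.2, hm⟩

theorem b2t_centralizer_semiregular [FaithfulSMul G α] (M : Subgroup G)
    (htrM : ∀ c d : α, ∃ m ∈ M, m • c = d) (y : G) (hy : ∀ m ∈ M, m * y = y * m)
    (a : α) (hya : y • a = a) : y = 1 := by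
  apply FaithfulSMul.eq_of_smul_eq_smul (α := α)
  intro b
  obtain ⟨m, hm, rfl⟩ := htrM a b
  rw [one_smul, ← mul_smul, ← hy m hm, mul_smul, hya]

theorem b2t_card_regular (M : Subgroup G)
    (htrM : ∀ c d : α, ∃ m ∈ M, m • c = d) (a : α) (hsr : ∀ m ∈ M, m • a = a → m = 1) :
    Nat.card M = Nat.card α := by
  apply Nat.card_eq_of_bijective (fun m : M => (m : G) • a)
  constructor
  · intro m₁ m₂ h
    have h' : (m₁ : G) • a = (m₂ : G) • a := h
    have : ((m₂ : G)⁻¹ * (m₁ : G)) • a = a := by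
      rw [mul_smul, h', inv_smul_smul]
    have := hsr _ (M.mul_mem (M.inv_mem m₂.2) m₁.2) this
    exact Subtype.ext (inv_mul_eq_one.1 this).symm
  · intro b
    obtain ⟨m, hm, h⟩ := htrM a b
    exact ⟨⟨m, hm⟩, h⟩

/-- If a nontrivial `M ≤ N`, normalized by `N`, has order prime to `r`, then the minimal normal
subgroup `N` of `G` has order prime to `r`. -/
theorem b2t_coprime [Finite G] (N : Subgroup G) [hNn : N.Normal]
    (hmin : ∀ M : Subgroup G, M.Normal → M ≤ N → M = ⊥ ∨ M = N)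
    (M : Subgroup G) (hMN : M ≤ N) (hMn : ∀ n ∈ N, ∀ x ∈ M, n * x * n⁻¹ ∈ M) (hM1 : M ≠ ⊥)
    (r : ℕ) (hr : (Nat.card M).Coprime r) : (Nat.card N).Coprime r := by
  set T : Subgroup G := (Cfsg.pPrimeCore r N).map N.subtype with hT
  have hconj : ∀ g : G, ∀ x ∈ M, g * x * g⁻¹ ∈ T := by
    intro g x hx
    set Mg : Subgroup G := MulAut.conj g • M with hMg
    have hMgN : Mg ≤ N := by
      intro y hy
      rw [hMg, b2t_mem_conj] at hy
      have := hNn.conj_mem _ (hMN hy) g
      simpa [mul_assoc] using this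
    have hMgn : ∀ n ∈ N, ∀ y ∈ Mg, n * y * n⁻¹ ∈ Mg := by
      intro n hn y hy
      rw [hMg, b2t_mem_conj] at hy ⊢
      have hn' : g⁻¹ * n * g ∈ N := by simpa using hNn.conj_mem n hn g⁻¹
      have := hMn _ hn' _ hy
      have e : g⁻¹ * (n * y * n⁻¹) * g = g⁻¹ * n * g * (g⁻¹ * y * g) * (g⁻¹ * n * g)⁻¹ := by
        group
      rw [e]; exact this
    haveI : (Mg.subgroupOf N).Normal :=
      (Subgroup.normal_subgroupOf_iff_le_normalizer hMgN).2 (b2t_le_normalizer N Mg hMgn)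
    have hcard : Nat.card (Mg.subgroupOf N) = Nat.card M := by
      rw [Nat.card_congr (Subgroup.subgroupOfEquivOfLe hMgN).toEquiv]
      exact (Nat.card_congr (Subgroup.equivSMul (MulAut.conj g) M).toEquiv).symm
    have hle := Cfsg.Agent.Lib.Helper1.le_pPrimeCore (G := N) (p := r) (N := Mg.subgroupOf N)
      inferInstance (by rw [hcard]; exact hr)
    have hxg : g * x * g⁻¹ ∈ Mg := by
      rw [hMg, b2t_mem_conj]
      simpa [mul_assoc] using hx
    refine ⟨⟨g * x * g⁻¹, hMgN hxg⟩, hle (Subgroup.mem_subgroupOf.2 hxg), rfl⟩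
  have hncl : Subgroup.normalClosure (M : Set G) ≤ T := by
    rw [Subgroup.normalClosure, Subgroup.closure_le]
    intro y hy
    rw [Group.mem_conjugatesOfSet_iff] at hy
    obtain ⟨x, hx, hxy⟩ := hy
    rw [isConj_iff] at hxy
    obtain ⟨g, rfl⟩ := hxy
    exact hconj g x hx
  have hnclN : Subgroup.normalClosure (M : Set G) ≤ N := Subgroup.normalClosure_le_normal hMN
  have hncl1 : Subgroup.normalClosure (M : Set G) ≠ ⊥ := by
    intro h
    apply hM1
    rw [eq_bot_iff, ← h]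
    exact Subgroup.subset_normalClosure
  have hnclEq := (hmin _ Subgroup.normalClosure_normal hnclN).resolve_left hncl1
  have hNT : N ≤ T := hnclEq ▸ hncl
  have hTN : T ≤ N := by
    rintro y ⟨k, _, rfl⟩
    exact k.2
  have hTeq : T = N := le_antisymm hTN hNT
  have hcardT : Nat.card T = Nat.card (Cfsg.pPrimeCore r N) :=
    Subgroup.card_map_of_injective N.subtype_injective
  rw [← hTeq, hcardT]
  exact Cfsg.Agent.Lib.Helper1.pPrimeCore_card_coprime r

end

end Cfsg.Agent.Lib.Helper9
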