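import Mathlib
import Cfsg.Agent.Lib.Helper9.Burnside4

set_option autoImplicit false

namespace Cfsg.Agent.Lib.Helper9

open scoped Pointwise

section
variable {G α : Type*} [Group G] [MulAction G α]

/-- The orbits of `N_a` on `α ∖ {a}` have a common size `c ≠ 1` dividing `|N|` and `|α| - 1`. -/
theorem b2t_orbit_count [Finite G] [Finite α] [FaithfulSMul G α]
    (h2 : ∀ a b c d : α, a ≠ b → c ≠ d → ∃ g : G, g • a = c ∧ g • b = d)
    (N : Subgroup G) [hNn : N.Normal] (a : α) (hnonreg : ∃ n ∈ N, n • a = a ∧ n ≠ 1) :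
    ∃ c : ℕ, c ≠ 1 ∧ c ∣ Nat.card N ∧ c ∣ Nat.card α - 1 := by
  obtain ⟨n₀, hn₀, hn₀a, hn₀1⟩ := hnonreg
  set H : Subgroup G := N ⊓ MulAction.stabilizer G a with hH
  have hO : ∀ b x : α, x ∈ MulAction.orbit H b ↔ ∃ n ∈ N, n • a = a ∧ n • b = x := by
    intro b x
    constructor
    · rintro ⟨h, rfl⟩
      exact ⟨h.1, h.2.1, h.2.2, rfl⟩
    · rintro ⟨n, hn, hna, rfl⟩
      exact ⟨⟨n, hn, hna⟩, rfl⟩
  have hle : ∀ b b' : α, b ≠ a → b' ≠ a →
      (MulAction.orbit H b).ncard ≤ (MulAction.orbit H b').ncard := by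
    intro b b' hb hb'
    obtain ⟨g, hga, hgb⟩ := h2 a b a b' (Ne.symm hb) (Ne.symm hb')
    have hga' : g⁻¹ • a = a := by rw [inv_smul_eq_iff, hga]
    rw [← Set.ncard_smul_set g]
    apply Set.ncard_le_ncard _ (Set.toFinite _)
    rintro _ ⟨x, hx, rfl⟩
    rw [hO] at hx
    obtain ⟨n, hn, hna, rfl⟩ := hx
    show g • n • b ∈ _
    rw [hO]
    refine ⟨g * n * g⁻¹, hNn.conj_mem n hn g, ?_, ?_⟩
    · rw [mul_smul, mul_smul, hga', hna, hga]
    · rw [mul_smul, mul_smul, ← hgb, inv_smul_smul]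
  obtain ⟨x₀, hx₀⟩ : ∃ x : α, n₀ • x ≠ x := by
    by_contra hcon
    push Not at hcon
    exact hn₀1 (FaithfulSMul.eq_of_smul_eq_smul (α := α) (fun a => by rw [hcon a, one_smul]))
  have hx₀a : x₀ ≠ a := fun h => hx₀ (h ▸ hn₀a)
  set c := (MulAction.orbit H x₀).ncard with hc
  have hceq : ∀ b : α, b ≠ a → (MulAction.orbit H b).ncard = c := fun b hb =>
    le_antisymm (hle b x₀ hb hx₀a) (hle x₀ b hx₀a hb)
  refine ⟨c, ?_, ?_, ?_⟩
  · intro h1
    rw [hc, Set.ncard_eq_one] at h1
    obtain ⟨y, hy⟩ := h1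
    have e1 : x₀ = y := by
      have : x₀ ∈ MulAction.orbit H x₀ := MulAction.mem_orbit_self _
      rw [hy] at this; exact this
    have e2 : n₀ • x₀ = y := by
      have : n₀ • x₀ ∈ MulAction.orbit H x₀ := (hO _ _).2 ⟨n₀, hn₀, hn₀a, rfl⟩
      rw [hy] at this; exact this
    exact hx₀ (e2.trans e1.symm)
  · have h1 : c ∣ Nat.card H := by
      rw [hc, ← MulAction.index_stabilizer]
      exact Subgroup.index_dvd_card _
    exact h1.trans (Subgroup.card_dvd_of_le inf_le_left)
  · classical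
    haveI := Fintype.ofFinite α
    have hcard : (Finset.univ.erase a).card = Nat.card α - 1 := by
      rw [Finset.card_erase_of_mem (Finset.mem_univ a), Finset.card_univ, Nat.card_eq_fintype_card]
    rw [← hcard]
    have hsum := Finset.card_eq_sum_card_fiberwise (f := fun b : α => MulAction.orbit H b)
      (s := Finset.univ.erase a) (t := (Finset.univ.erase a).image (fun b => MulAction.orbit H b))
      (fun x hx => Finset.mem_coe.2 (Finset.mem_image_of_mem _ (Finset.mem_coe.1 hx)))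
    have hterm : ∀ S ∈ (Finset.univ.erase a).image (fun b : α => MulAction.orbit H b),
        ((Finset.univ.erase a).filter (fun x => MulAction.orbit H x = S)).card = c := by
      intro S hS
      rw [Finset.mem_image] at hS
      obtain ⟨b₀, hb₀, rfl⟩ := hS
      have hb₀a : b₀ ≠ a := Finset.ne_of_mem_erase hb₀
      rw [← hceq b₀ hb₀a, ← Set.ncard_coe_finset]
      congr 1
      ext x
      simp only [Finset.coe_filter, Finset.mem_erase, Finset.mem_univ, and_true, Set.mem_ofPred_eq]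
      constructor
      · rintro ⟨_, h⟩
        rw [← h]; exact MulAction.mem_orbit_self _
      · intro hx
        refine ⟨?_, MulAction.orbit_eq_iff.2 hx⟩
        intro hxa
        rw [hxa, hO] at hx
        obtain ⟨n, hn, hna, hnb⟩ := hx
        apply hb₀a
        rw [← hna] at hnb
        exact MulAction.injective n hnb
    rw [hsum, Finset.sum_congr rfl hterm, Finset.sum_const, smul_eq_mul]
    exact dvd_mul_left _ _

end

end Cfsg.Agent.Lib.Helper9
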