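import Mathlib
import Cfsg.Agent.Lib.Helper9.Burnside5

set_option autoImplicit false

namespace Cfsg.Agent.Lib.Helper9

open scoped Pointwise

section
variable {G α : Type*} [Group G] [MulAction G α]

theorem b2t_conj_sub (N : Subgroup G) [hNn : N.Normal] (M : Subgroup G) (hMN : M ≤ N)
    (hMn : ∀ n ∈ N, ∀ x ∈ M, n * x * n⁻¹ ∈ M) (g : G) :
    MulAut.conj g • M ≤ N ∧
      ∀ n ∈ N, ∀ y ∈ MulAut.conj g • M, n * y * n⁻¹ ∈ MulAut.conj g • M := by
  constructor
  · intro y hy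
    rw [b2t_mem_conj] at hy
    have := hNn.conj_mem _ (hMN hy) g
    simpa [mul_assoc] using this
  · intro n hn y hy
    rw [b2t_mem_conj] at hy ⊢
    have hn' : g⁻¹ * n * g ∈ N := by simpa using hNn.conj_mem n hn g⁻¹
    have := hMn _ hn' _ hy
    have e : g⁻¹ * (n * y * n⁻¹) * g = g⁻¹ * n * g * (g⁻¹ * y * g) * (g⁻¹ * n * g)⁻¹ := by
      group
    rw [e]; exact this

/-- In the nonregular case, the primitive group `N` is simple. -/
theorem b2t_simple [Finite G] [Finite α] [FaithfulSMul G α]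
    (h2 : ∀ a b c d : α, a ≠ b → c ≠ d → ∃ g : G, g • a = c ∧ g • b = d)
    (N : Subgroup G) [hNn : N.Normal] (hN : N ≠ ⊥)
    (hmin : ∀ M : Subgroup G, M.Normal → M ≤ N → M = ⊥ ∨ M = N)
    (a : α) (hnonreg : ∃ n ∈ N, n • a = a ∧ n ≠ 1)
    (hprim : ∀ B : Set α, b2tBlock N B → B.Subsingleton ∨ B = Set.univ) : IsSimpleGroup N := by
  have htr := b2t_trans h2 N hN
  haveI : Nontrivial N := (Subgroup.nontrivial_iff_ne_bot N).2 hN
  refine ⟨fun H0 hH0 => ?_⟩
  by_contra hcon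
  push Not at hcon
  obtain ⟨hH0b, hH0t⟩ := hcon
  let P : Subgroup G → Prop := fun M =>
    M ≤ N ∧ (∀ n ∈ N, ∀ x ∈ M, n * x * n⁻¹ ∈ M) ∧ M ≠ ⊥
  have hP0 : P (H0.map N.subtype) := by
    refine ⟨?_, ?_, ?_⟩
    · rintro y ⟨k, _, rfl⟩; exact k.2
    · rintro n hn _ ⟨k, hk, rfl⟩
      exact ⟨⟨n, hn⟩ * k * ⟨n, hn⟩⁻¹, hH0.conj_mem k hk ⟨n, hn⟩, rfl⟩
    · intro h
      rw [Subgroup.map_eq_bot_iff_of_injective _ N.subtype_injective] at h
      exact hH0b h
  have hcard0 : Nat.card (H0.map N.subtype) < Nat.card N := by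
    rw [Subgroup.card_map_of_injective N.subtype_injective]
    apply lt_of_le_of_ne (Subgroup.card_le_card_group H0)
    intro h
    exact hH0t ((Subgroup.card_eq_iff_eq_top H0).1 h)
  have hex : ∃ k : ℕ, ∃ M : Subgroup G, P M ∧ Nat.card M = k := ⟨_, _, hP0, rfl⟩
  classical
  obtain ⟨M, hPM, hMk⟩ := Nat.find_spec hex
  have hMmin : ∀ M' : Subgroup G, P M' → Nat.card M ≤ Nat.card M' := by
    intro M' hM'
    rw [hMk]
    exact Nat.find_min' hex ⟨M', hM', rfl⟩
  have hMlt : Nat.card M < Nat.card N := lt_of_le_of_lt (hMmin _ hP0) hcard0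
  obtain ⟨hMN, hMn, hM1⟩ := hPM
  have hcardconj : ∀ g : G, Nat.card (MulAut.conj g • M : Subgroup G) = Nat.card M := fun g =>
    (Nat.card_congr (Subgroup.equivSMul (MulAut.conj g) M).toEquiv).symm
  -- a conjugate different from M
  obtain ⟨g, hg⟩ : ∃ g : G, MulAut.conj g • M ≠ M := by
    by_contra hcon
    push Not at hcon
    have hMnorm : M.Normal := by
      refine ⟨fun x hx g => ?_⟩
      rw [← hcon g, b2t_mem_conj]
      simpa [mul_assoc] using hx
    rcases hmin M hMnorm hMN with h | h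
    · exact hM1 h
    · rw [h] at hMlt; exact lt_irrefl _ hMlt
  set Mg : Subgroup G := MulAut.conj g • M with hMg
  obtain ⟨hMgN, hMgn⟩ := b2t_conj_sub N M hMN hMn g
  have hMg1 : Mg ≠ ⊥ := by
    intro h
    have h1 := hcardconj g
    rw [← hMg, h, Subgroup.card_bot] at h1
    exact hM1 (Subgroup.card_eq_one.1 h1.symm)
  -- intersection trivial
  have hI : M ⊓ Mg = ⊥ := by
    by_contra hI1
    have hPI : P (M ⊓ Mg) := by
      refine ⟨inf_le_left.trans hMN, ?_, hI1⟩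
      intro n hn x hx
      exact ⟨hMn n hn x hx.1, hMgn n hn x hx.2⟩
    have h1 := hMmin _ hPI
    have e1 : M ⊓ Mg = M := Subgroup.eq_of_le_of_card_ge inf_le_left h1
    have h2' : M ≤ Mg := by rw [← e1]; exact inf_le_right
    have e2 : M = Mg := Subgroup.eq_of_le_of_card_ge h2' (by rw [hMg, hcardconj g])
    exact hg e2.symm
  have hcomm : ∀ x ∈ M, ∀ y ∈ Mg, x * y = y * x := by
    intro x hx y hy
    have h1 : x * y * x⁻¹ * y⁻¹ ∈ M ⊓ Mg := by
      constructor
      · have := M.mul_mem hx (hMn y (hMgN hy) x⁻¹ (M.inv_mem hx))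
        have e : x * y * x⁻¹ * y⁻¹ = x * (y * x⁻¹ * y⁻¹) := by group
        rw [e]; exact this
      · exact Mg.mul_mem (hMgn x (hMN hx) y hy) (Mg.inv_mem hy)
    rw [hI, Subgroup.mem_bot] at h1
    have h2' := mul_inv_eq_one.1 h1
    exact mul_inv_eq_iff_eq_mul.1 h2'
  have htrM := b2t_sub_trans N htr hprim M hMN hMn hM1
  have htrMg := b2t_sub_trans N htr hprim Mg hMgN hMgn hMg1
  have hsr : ∀ m ∈ M, m • a = a → m = 1 := fun m hm hma =>
    b2t_centralizer_semiregular Mg htrMg m (fun y hy => (hcomm m hm y hy).symm) a hma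
  have hcardM : Nat.card M = Nat.card α := b2t_card_regular M htrM a hsr
  obtain ⟨c, hc1, hcN, hcα⟩ := b2t_orbit_count h2 N a hnonreg
  have hrp : c.minFac.Prime := Nat.minFac_prime hc1
  have hrc : c.minFac ∣ c := Nat.minFac_dvd c
  have hpos : 0 < Nat.card α := by
    haveI : Nonempty α := ⟨a⟩
    exact Nat.card_pos
  have hnd : ¬ c.minFac ∣ Nat.card α := by
    intro h
    have h1 : c.minFac ∣ Nat.card α - (Nat.card α - 1) := Nat.dvd_sub h (hrc.trans hcα)
    have e : Nat.card α - (Nat.card α - 1) = 1 := by omega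
    rw [e] at h1
    exact hrp.one_lt.ne' (Nat.dvd_one.1 h1)
  have hcop : (Nat.card M).Coprime c.minFac := by
    rw [hcardM]
    exact ((Nat.Prime.coprime_iff_not_dvd hrp).2 hnd).symm
  have hcopN := b2t_coprime N hmin M hMN hMn hM1 c.minFac hcop
  exact (Nat.Prime.coprime_iff_not_dvd hrp).1 hcopN.symm (hrc.trans hcN)

/-- Burnside's theorem on minimal normal subgroups of 2-transitive groups, abstract form. -/
theorem b2t_main [Finite G] [Finite α] [FaithfulSMul G α]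
    (hG : MulAction.IsMultiplyPretransitive G α 2) (N : Subgroup G) [hNn : N.Normal]
    (hN : N ≠ ⊥) (hmin : ∀ M : Subgroup G, M.Normal → M ≤ N → M = ⊥ ∨ M = N) :
    (IsMulCommutative N ∧ (∃ p : ℕ, p.Prime ∧ ∀ n ∈ N, n ^ p = 1) ∧
        ∀ a : α, MulAction.stabilizer N a = ⊥) ∨
      (IsSimpleGroup N ∧ MulAction.IsPreprimitive N α) := by
  have h2 : ∀ a b c d : α, a ≠ b → c ≠ d → ∃ g : G, g • a = c ∧ g • b = d :=
    fun a b c d hab hcd => MulAction.is_two_pretransitive_iff.1 hG hab hcd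
  by_cases hreg : ∃ a : α, ∀ n ∈ N, n • a = a → n = 1
  · obtain ⟨a, ha⟩ := hreg
    exact Or.inl (b2t_regular_case h2 N hN hmin a ha)
  · push Not at hreg
    right
    have hne : Nonempty α := by
      by_contra hcon
      rw [not_nonempty_iff] at hcon
      apply hN
      rw [Subgroup.eq_bot_iff_forall]
      intro x _
      exact FaithfulSMul.eq_of_smul_eq_smul (α := α) (fun a => isEmptyElim a)
    obtain ⟨a⟩ := hne
    have hnonreg : ∃ n ∈ N, n • a = a ∧ n ≠ 1 := hreg a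
    have hprim := b2t_prim h2 N hN hmin a hnonreg
    refine ⟨b2t_simple h2 N hN hmin a hnonreg hprim, ?_⟩
    have htr := b2t_trans h2 N hN
    haveI : MulAction.IsPretransitive N α :=
      ⟨fun c d => let ⟨n, hn, h⟩ := htr c d; ⟨⟨n, hn⟩, h⟩⟩
    exact ⟨fun {B} hB => hprim B ((b2tBlock_iff_isBlock N B).2 hB)⟩

end

end Cfsg.Agent.Lib.Helper9
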