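import Mathlib
import Cfsg.Agent.Lib.Helper10.C3E.Defs

set_option autoImplicit false
set_option linter.unusedVariables false
set_option linter.unusedSectionVars false

/-!
# Project S5975, row LINDVD (helper9): the range of `g - c` is a `K`-subspace when `g` is `K`-linear
-/

namespace Cfsg.Agent.Lib.Helper10.C3E

open Module

variable {F K V : Type*} [Field F] [Field K] [Algebra F K] [AddCommGroup V] [Module F V] [Module K V]
  [IsScalarTower F K V]

/-- the range of `g - c` as a `K`-subspace -/
def c3elindvd_rangeK (g : V ≃ₗ[F] V) (h : Lin K g) (c : F) : Submodule K V where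
  carrier := {y | ∃ x, g x - c • x = y}
  add_mem' := by
    rintro _ _ ⟨x, rfl⟩ ⟨y, rfl⟩
    exact ⟨x + y, by rw [map_add, smul_add]; abel⟩
  zero_mem' := ⟨0, by simp⟩
  smul_mem' := by
    rintro a _ ⟨x, rfl⟩
    exact ⟨a • x, by rw [h, smul_sub, smul_comm c a x]⟩

theorem c3elindvd_restrict (g : V ≃ₗ[F] V) (h : Lin K g) (c : F) :
    (c3elindvd_rangeK g h c).restrictScalars F = LinearMap.range ((g : V →ₗ[F] V) - c • LinearMap.id) := by
  ext y
  simp only [Submodule.restrictScalars_mem, LinearMap.mem_range, LinearMap.sub_apply, LinearMap.smul_apply,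
    LinearMap.id_apply, LinearEquiv.coe_coe]
  rfl

/-- the same for any `K`-subspace: its `F`-dimension is a multiple of `[K : F]` -/
theorem c3elindvd_finrank [FiniteDimensional F K] [FiniteDimensional K V] (W : Submodule K V) :
    finrank F (W.restrictScalars F) = finrank F K * finrank K W := by
  rw [Module.finrank_mul_finrank F K W]
  rfl

/-- LINDVD : the range of `g - c` is a `K`-subspace when `g` is `K`-linear. -/
theorem c3e_lin_dvd [FiniteDimensional F K] [FiniteDimensional K V] (g : V ≃ₗ[F] V) (h : Lin K g) (c : F) :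
    finrank F K ∣ rk g c := by
  unfold rk
  rw [← c3elindvd_restrict g h c, c3elindvd_finrank]
  exact Dvd.intro _ rfl

end Cfsg.Agent.Lib.Helper10.C3E
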