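import Mathlib
import Cfsg.Agent.Lib.Helper9.C3QNEXh9

set_option autoImplicit false
set_option linter.unusedVariables false

/-!
# Project C3Q (designer helper10), row NEX (`n_ex`), verbatim wrapper of `c3qnex_h9` (helper9).
-/

namespace Cfsg.Agent.Lib.Helper10.C3Q

open Matrix Module Cfsg.Agent.Lib.Helper13.OTS Cfsg.Agent.Lib.Helper16

universe u

variable {F : Type u} [Field F] {ι : Type} [Fintype ι] [DecidableEq ι]

theorem n_ex [Fintype F] {p : ℕ} [Fact p.Prime] [CharP F p] (Qs : QuadraticForm F (ι → F)) (d : ℕ)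
    (τ : ℤ) (hs : QStd Qs d τ) (hd : 3 ≤ d) (r : ℕ) [Fact r.Prime] (hrp : r ≠ p) (hr2 : r ≠ 2)
    (i c : ℕ) (hi : i = orderOf ((Fintype.card F : ℕ) : ZMod r)) (hc : c = if Even i then i else 2 * i)
    (hex : c + FMin i c d τ ≤ 2 * d) :
    ∃ x : GL ι F, x ∈ Cfsg.Geo.omegaGL (⇑Qs) ∧ x ^ r = 1 ∧ ((x : Matrix ι ι F) - 1).rank = c :=
  c3qnex_h9 Qs d τ hs hd r hrp hr2 i c hi hc hex

end Cfsg.Agent.Lib.Helper10.C3Q
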