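import Mathlib
import Cfsg.Agent.Lib.Helper10.C6P.Defs
import Cfsg.Agent.Lib.Helper9.C6PE3core
import Cfsg.Agent.Lib.Helper27.C6PEROOT
import Cfsg.Agent.Lib.Helper11.C6PE3W

/-!
# Project C6P, row E3 (helper9): `suff_three`, verbatim.
-/

set_option autoImplicit false
set_option linter.unusedVariables false
set_option linter.unusedSectionVars false

namespace Cfsg.Agent.Lib.Helper10.C6P

open Polynomial Matrix

variable {F : Type*} [Field F]

section fin

variable [Fintype F] {p : ℕ} [Fact p.Prime] [CharP F p]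

/-- E3 [M]. -/
theorem suff_three (hF : Fintype.card F = p) (hp4 : p % 4 = 1) (hp3 : p % 3 = 2) {i : F} {R : Subgroup (GL (Fin 4) F)}
    (hctx : RCtx i R) (hstd : HasStd i R) : AllFix R 3 := by
  have hp : p.Prime := Fact.out
  have h3F : ((3 : ℕ) : F) ≠ 0 := by
    rw [Ne, CharP.cast_eq_zero_iff F p 3]
    intro hdvd
    have := (Nat.prime_dvd_prime_iff_eq hp Nat.prime_three).mp hdvd
    omega
  obtain ⟨⟨y1, hy1N, hy1r, hy1c⟩, ⟨y2, hy2N, hy2r, hy2c⟩⟩ := wit_three hF hp3 hstd hctx.two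
  have hgm : (X ^ 2 + X + 1 : F[X]).Monic := by monicity!
  have hgd : (X ^ 2 + X + 1 : F[X]).natDegree = 2 := by compute_degree!
  have hcop : Nat.Coprime 3 (p - 1) := by
    rw [Nat.Prime.coprime_iff_not_dvd Nat.prime_three]
    omega
  refine c6pe3_core R 3 (by norm_num) h3F (X ^ 2 + X + 1) hgm (irr_three hF hp3) ?_
    (fun z hz => exists_root hF 3 hcop z hz) ?_
  · rw [map_one]; ring
  · intro j k hjk hj4
    rw [hgd] at hjk
    have hcases : (j = 2 ∧ k = 1) ∨ (j = 0 ∧ k = 2) := by omega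
    rcases hcases with ⟨rfl, rfl⟩ | ⟨rfl, rfl⟩
    · exact ⟨y2, hy2N, hy2r, by rw [hy2c, pow_one]⟩
    · exact ⟨y1, hy1N, hy1r, by rw [hy1c, pow_zero, one_mul]⟩

end fin

end Cfsg.Agent.Lib.Helper10.C6P
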