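import Mathlib
import Cfsg.Agent.Lib.Helper10.C6P.Defs
import Cfsg.Agent.Lib.Helper9.C6PE3core
import Cfsg.Agent.Lib.Helper27.C6PEROOT
import Cfsg.Agent.Lib.Helper11.C6PE5W

/-!
# Project C6P, row E5 (helper9): `suff_five`, verbatim.
-/

set_option autoImplicit false
set_option linter.unusedVariables false
set_option linter.unusedSectionVars false

namespace Cfsg.Agent.Lib.Helper10.C6P

open Polynomial Matrix

variable {F : Type*} [Field F]

section fin

variable [Fintype F] {p : ℕ} [Fact p.Prime] [CharP F p]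

/-- E5 [M]. -/
theorem suff_five (hF : Fintype.card F = p) (hp4 : p % 4 = 1) (h5 : orderOf (p : ZMod 5) = 4) {i : F} {R : Subgroup (GL (Fin 4) F)}
    (hctx : RCtx i R) (hstd : HasStd i R) : AllFix R 5 := by
  have hp : p.Prime := Fact.out
  haveI : Fact (Nat.Prime 5) := ⟨Nat.prime_five⟩
  have hpow : (p : ZMod 5) ^ 4 = 1 := by
    have := pow_orderOf_eq_one (p : ZMod 5)
    rw [h5] at this
    exact this
  have hp5 : p ≠ 5 := by
    intro h
    rw [h] at hpow
    have h0 : ((5 : ℕ) : ZMod 5) = 0 := ZMod.natCast_self 5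
    rw [h0, zero_pow (by norm_num)] at hpow
    exact zero_ne_one hpow
  have h5F : ((5 : ℕ) : F) ≠ 0 := by
    rw [Ne, CharP.cast_eq_zero_iff F p 5]
    intro hdvd
    exact hp5 ((Nat.prime_dvd_prime_iff_eq hp Nat.prime_five).mp hdvd)
  have hmod : p % 5 ≠ 1 := by
    intro h
    have h1 : (p : ZMod 5) = 1 := by
      rw [← ZMod.natCast_mod, h, Nat.cast_one]
    rw [h1, orderOf_one] at h5
    omega
  have hcop : Nat.Coprime 5 (p - 1) := by
    rw [Nat.Prime.coprime_iff_not_dvd Nat.prime_five]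
    have := hp.two_le
    omega
  obtain ⟨y, hyN, hyr, hyc⟩ := wit_five hF h5 hstd hctx.two
  have hgd : (cyclotomic 5 F).natDegree = 4 := by
    rw [natDegree_cyclotomic, Nat.totient_prime Nat.prime_five]
  refine c6pe3_core R 5 (by norm_num) h5F (cyclotomic 5 F) (cyclotomic.monic 5 F) (irr_five hF h5) ?_
    (fun z hz => exists_root hF 5 hcop z hz) ?_
  · rw [map_one, mul_comm]
    exact cyclotomic_prime_mul_X_sub_one F 5
  · intro j k hjk hj4
    rw [hgd] at hjk
    have hcases : j = 0 ∧ k = 1 := by omega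
    obtain ⟨rfl, rfl⟩ := hcases
    exact ⟨y, hyN, hyr, by rw [hyc, pow_zero, one_mul, pow_one]⟩

end fin

end Cfsg.Agent.Lib.Helper10.C6P
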