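import Mathlib
import Cfsg.Agent.Lib.helper3.C6U.Defs
import Cfsg.Agent.Lib.Lead.C6PS3
import Cfsg.Agent.Lib.Lead.C6PS4

/-!
# Project C6U, row B3 (helper9): `RCtx i R` (transplant of Lead.C6PBCTX `rctx_of_std`)
-/

set_option autoImplicit false
set_option linter.unusedVariables false
set_option linter.unusedSectionVars false

namespace Cfsg.Agent.Lib.helper3.C6U

open Polynomial Matrix
open Cfsg.Agent.Lib.Helper10.C6P
open scoped MatrixGroups

variable {F : Type*} [Field F]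

section fin

variable [Fintype F] {p : ℕ} [Fact p.Prime] [CharP F p]

/-- B3 [M] : `RCtx i R`. -/
theorem rctx_u (R : Subgroup (GL (Fin 4) F)) (hS : Cfsg.Geo.IsSymplecticTypeGroup 2 R)
    (hA : Cfsg.Geo.ActsAbsolutelyIrreducibly (Cfsg.Geo.matrixSet R)) (hZ : Nat.card (Subgroup.center R) = 4)
    (hR6 : Nat.card R = 2 ^ 6) (h2 : (2 : F) ≠ 0) (i : F) (P : GL (Fin 4) F) (hi : i * i = -1)
    (hstd : ∀ g : GL (Fin 4) F, g ∈ R ↔ ∃ a b c d e : ℕ,
        (g : Matrix (Fin 4) (Fin 4) F) =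
          (P : Matrix (Fin 4) (Fin 4) F) * pauliM i a b c d e * ((P⁻¹ : GL (Fin 4) F) : Matrix (Fin 4) (Fin 4) F)) :
    RCtx i R := by
  obtain ⟨s1, s2, s3⟩ := s_center_scalar R hA hZ
  obtain ⟨-, s4⟩ := s_pm R hS hA hZ
  have hi4 : i ^ 4 = 1 := by
    have : i ^ 4 = (i * i) * (i * i) := by ring
    rw [this, hi]; ring
  refine ⟨hi, h2, ?_, s2 i hi4, s3, ?_, ?_, ?_, ?_, ?_⟩
  · rw [hR6]; norm_num
  · intro g hg hc
    exact (s1 g hg).mp (fun h hh => (hc h hh).symm)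
  · intro g hg h hh
    exact s4 h hh g hg
  · intro g hg hns
    exact s_anti R hS hA hZ g hg hns
  · intro M hM
    apply hA.2
    rintro s ⟨g, hg, rfl⟩
    exact hM g hg
  · intro W hW
    apply hA.1
    rintro s ⟨g, hg, rfl⟩
    exact hW g hg

end fin

end Cfsg.Agent.Lib.helper3.C6U
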