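import Mathlib
import Cfsg.Agent.Lib.helper3.C6U.Defs
import Cfsg.Agent.Lib.Helper5.C6PG0
import Cfsg.Agent.Lib.Helper10.C6PNBIG

/-!
# Project C6U, row G1 (helper9): no primes `r ∉ {2,3,5}` (Cauchy in `SU_4(p)` + Helper10 `no_big_prime`; port of Helper5.C6PGBIG)
-/

set_option autoImplicit false
set_option linter.unusedVariables false
set_option linter.unusedSectionVars false

namespace Cfsg.Agent.Lib.helper3.C6U

open Polynomial Matrix
open Cfsg.Agent.Lib.Helper10.C6P
open scoped MatrixGroups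

variable {F : Type*} [Field F]

section fin

variable [Fintype F] {p : ℕ} [Fact p.Prime] [CharP F p]

/-- G1 [M]. -/
theorem nec_big_u (hF : Fintype.card F = p ^ 2) {i : F} {R : Subgroup (GL (Fin 4) F)} (hctx : RCtx i R) (r : ℕ) [Fact r.Prime]
    (hr2 : r ≠ 2) (hr3 : r ≠ 3) (hr5 : r ≠ 5)
    (hdvd : r ∣ Nat.card (Cfsg.GU 4 F p ⊓ Cfsg.Geo.specialLinear (Fin 4) F : Subgroup (GL (Fin 4) F))) : ¬ AllFixU p R r := by
  have hrp : r.Prime := Fact.out
  obtain ⟨x, hx⟩ := exists_prime_orderOf_dvd_card' r hdvd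
  have hxr : ((x : GL (Fin 4) F)) ^ r = 1 := by
    have h1 : x ^ r = 1 := by rw [← hx]; exact pow_orderOf_eq_one x
    have := congrArg Subtype.val h1
    simpa using this
  have hxS : (x : GL (Fin 4) F) ∈ Cfsg.GU 4 F p ⊓ Cfsg.Geo.specialLinear (Fin 4) F := x.2
  have hxdet := c6pg_det_of_mem (x : GL (Fin 4) F) hxS.2
  have hns : ∀ c : F, ((x : GL (Fin 4) F) : M4 F) ≠ c • (1 : M4 F) := by
    intro c hc
    have hc4 : c ^ 4 = 1 := by
      rw [hc, Matrix.det_smul, Matrix.det_one, mul_one, Fintype.card_fin] at hxdet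
      exact hxdet
    have hcr : c ^ r = 1 := by
      have h1 := congrArg Units.val hxr
      rw [Units.val_pow_eq_pow_val, hc, _root_.smul_pow, one_pow, Units.val_one] at h1
      have h00 := congrFun (congrFun h1 0) 0
      simpa using h00
    have hc1 : c = 1 := by
      have hcop : Nat.Coprime 4 r := by
        have h2r : Nat.Coprime 2 r := (Nat.coprime_primes Nat.prime_two hrp).mpr (Ne.symm hr2)
        exact h2r.pow_left 2
      have h1 : orderOf c ∣ 1 := by
        rw [← Nat.Coprime.gcd_eq_one hcop]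
        exact Nat.dvd_gcd (orderOf_dvd_of_pow_eq_one hc4) (orderOf_dvd_of_pow_eq_one hcr)
      exact orderOf_eq_one_iff.mp (Nat.dvd_one.mp h1)
    have hx1 : x = 1 := by
      apply Subtype.ext
      apply Units.ext
      rw [hc, hc1, one_smul]; rfl
    rw [hx1, orderOf_one] at hx
    exact hrp.one_lt.ne hx
  intro hall
  obtain ⟨g, -, hgN⟩ := hall (x : GL (Fin 4) F) hxS ⟨1, by rw [hxr, one_smul]; rfl⟩ hns
  have hyr : (g⁻¹ * (x : GL (Fin 4) F) * g) ^ r = 1 := by
    rw [c6pg_pow_conj, hxr]; group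
  obtain ⟨c, hc⟩ := no_big_prime hctx (g⁻¹ * (x : GL (Fin 4) F) * g) hgN r hr2 hr3 hr5
    ⟨1, by rw [hyr, one_smul]; rfl⟩
  exact hns c (c6pg_scalar_of_conj g (x : GL (Fin 4) F) c hc)

end fin

end Cfsg.Agent.Lib.helper3.C6U
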