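import Mathlib
import Cfsg.Agent.Lib.Helper28.CD3.Defs
import Cfsg.Agent.Lib.Helper11.AbelianQuot

/-!
# CD3 piece COPACT: a `q'`-element fixing all linear characters of a normal `q`-subgroup `F`
centralizes `F`.
-/

set_option autoImplicit false
open scoped commutatorElement

namespace Cfsg.Agent.Lib.Helper28.CD3

universe u

/-- One step down the lower central series for an automorphism of coprime order that is trivial
modulo `L` and where `⁅L, ⊤⁆ = M`. -/
theorem cd3copact_step {F : Type*} [Group F] [Finite F] {q : ℕ} [Fact q.Prime]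
    (hF : IsPGroup q F) (φ : MulAut F) (hcop : (orderOf φ).Coprime q)
    (L M : Subgroup F) [hM : M.Normal] (hLM : ∀ y ∈ L, ∀ x : F, ⁅y, x⁆ ∈ M)
    (hLc : L ≤ commutator F) (ih : ∀ x, φ x * x⁻¹ ∈ L) : ∀ x, φ x * x⁻¹ ∈ M := by
  set π : F →* F ⧸ M := QuotientGroup.mk' M with hπ
  have hπ1 : ∀ z : F, π z = 1 ↔ z ∈ M := fun z => QuotientGroup.eq_one_iff z
  -- images of elements of `L` are central
  have hcent : ∀ y ∈ L, ∀ x : F, π x * π y = π y * π x := by
    intro y hy x
    have e : π y * π x * (π y)⁻¹ * (π x)⁻¹ = 1 := by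
      rw [← map_inv, ← map_inv, ← map_mul, ← map_mul, ← map_mul, hπ1, ← commutatorElement_def]
      exact hLM y hy x
    have e2 := mul_inv_eq_one.mp e
    exact (mul_inv_eq_iff_eq_mul.mp e2).symm
  let D : F →* F ⧸ M :=
    { toFun := fun x => π (φ x) * (π x)⁻¹
      map_one' := by simp
      map_mul' := by
        intro x y
        have hd : π (φ y) * (π y)⁻¹ = π (φ y * y⁻¹) := by rw [map_mul, map_inv]
        have hc := hcent (φ y * y⁻¹) (ih y) x⁻¹
        rw [map_inv] at hc
        calc π (φ (x * y)) * (π (x * y))⁻¹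
            = π (φ x) * (π (φ y) * (π y)⁻¹) * (π x)⁻¹ := by
              rw [map_mul, map_mul, map_mul, mul_inv_rev]; group
          _ = π (φ x) * ((π x)⁻¹ * π (φ y * y⁻¹)) := by rw [hd, mul_assoc, hc]
          _ = π (φ x) * (π x)⁻¹ * (π (φ y) * (π y)⁻¹) := by rw [hd, mul_assoc] }
  have hD : ∀ x, D x = π (φ x * x⁻¹) := by
    intro x
    show π (φ x) * (π x)⁻¹ = π (φ x * x⁻¹)
    rw [map_mul, map_inv]
  have hDc : ∀ a b : F, D a * D b = D b * D a := by
    intro a b
    rw [hD a, hD b]
    exact hcent _ (ih b) _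
  have hker : commutator F ≤ D.ker := by
    rw [commutator_def, Subgroup.commutator_le]
    intro a _ b _
    rw [MonoidHom.mem_ker, map_commutatorElement, commutatorElement_def, hDc a b]
    group
  have hL : ∀ y ∈ L, π (φ y) = π y := by
    intro y hy
    have h1 : D y = 1 := MonoidHom.mem_ker.mp (hker (hLc hy))
    have h2 : π (φ y) * (π y)⁻¹ = 1 := h1
    exact mul_inv_eq_one.mp h2
  have hDφ : ∀ x, D (φ x) = D x := by
    intro x
    rw [hD (φ x), hD x]
    have : φ (φ x) * (φ x)⁻¹ = φ (φ x * x⁻¹) := by rw [map_mul, map_inv]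
    rw [this]
    exact hL _ (ih x)
  have hπφ : ∀ x, π (φ x) = D x * π x := by
    intro x
    show π (φ x) = π (φ x) * (π x)⁻¹ * π x
    rw [inv_mul_cancel_right]
  have hpow : ∀ j : ℕ, ∀ x, π ((φ ^ j) x) = (D x) ^ j * π x := by
    intro j
    induction j with
    | zero => intro x; simp
    | succ j ihj =>
      intro x
      rw [pow_succ, MulAut.mul_apply, ihj (φ x), hDφ x, hπφ x, pow_succ, mul_assoc]
  intro x
  have h1 := hpow (orderOf φ) x
  rw [pow_orderOf_eq_one, MulAut.one_apply] at h1
  have h2 : (D x) ^ orderOf φ = 1 := by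
    have := mul_eq_right.mp h1.symm
    exact this
  have hQ : IsPGroup q (F ⧸ M) := hF.to_quotient M
  obtain ⟨n, hn⟩ := hQ (D x)
  have h3 : orderOf (D x) ∣ orderOf φ := orderOf_dvd_of_pow_eq_one h2
  have h4 : orderOf (D x) ∣ q ^ n := orderOf_dvd_of_pow_eq_one hn
  have h5 : orderOf (D x) = 1 :=
    Nat.eq_one_of_dvd_coprimes (Nat.Coprime.pow_right n hcop) h3 h4
  have h6 : D x = 1 := orderOf_eq_one_iff.mp h5
  rw [hD x, hπ1] at h6
  exact h6

/-- An automorphism of a finite `q`-group of order prime to `q` that is trivial modulo the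
derived subgroup is trivial. -/
theorem cd3copact_aut_trivial {F : Type*} [Group F] [Finite F] {q : ℕ} [Fact q.Prime]
    (hF : IsPGroup q F) (φ : MulAut F) (hcop : (orderOf φ).Coprime q)
    (h : ∀ x, φ x * x⁻¹ ∈ commutator F) : φ = 1 := by
  have hnil : Group.IsNilpotent F := hF.isNilpotent
  obtain ⟨c, hc⟩ := Subgroup.nilpotent_iff_lowerCentralSeries.mp hnil
  have key : ∀ i : ℕ, ∀ x, φ x * x⁻¹ ∈ (⊤ : Subgroup F).lowerCentralSeries (i + 1) := by
    intro i
    induction i with
    | zero =>
      intro x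
      rw [zero_add, Subgroup.top_lowerCentralSeries_one]
      exact h x
    | succ i ih =>
      apply cd3copact_step hF φ hcop ((⊤ : Subgroup F).lowerCentralSeries (i + 1))
        ((⊤ : Subgroup F).lowerCentralSeries (i + 1 + 1)) _ _ ih
      · intro y hy x
        rw [Subgroup.lowerCentralSeries_succ]
        exact Subgroup.commutator_mem_commutator hy (Subgroup.mem_top x)
      · rw [← Subgroup.top_lowerCentralSeries_one]
        exact Subgroup.lowerCentralSeries_antitone ⊤ (by omega)
  ext x
  have h1 := key c x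
  have h2 : (⊤ : Subgroup F).lowerCentralSeries (c + 1) ≤ ⊥ := by
    rw [← hc]
    exact Subgroup.lowerCentralSeries_antitone ⊤ (by omega)
  have h3 := h2 h1
  rw [Subgroup.mem_bot, mul_inv_eq_one] at h3
  rw [h3, MulAut.one_apply]

section partB
variable {G : Type u} [Group G] [Finite G]

-- piece COPACT
theorem centralizes_of_fix_lin (q : ℕ) (hq : q.Prime) (F : Subgroup G) [hFn : F.Normal]
    (hF : IsPGroup q F) (g : G) (hg : (orderOf g).Coprime q)
    (hfix : ∀ l : F →* ℂˣ, g ∈ linStab F l) : g ∈ Subgroup.centralizer (F : Set G) := by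
  classical
  have : Fact q.Prime := ⟨hq⟩
  have htriv : ∀ x : F, (MulAut.conjNormal g : MulAut F) x * x⁻¹ ∈ commutator F := by
    intro x
    by_contra hu
    obtain ⟨l, hl1, hl2⟩ := Cfsg.Agent.Lib.Helper11.exists_annih_ne_one (commutator F)
      (by
        intro a b
        rw [commutator_def]
        have : a * b * a⁻¹ * b⁻¹ = ⁅a, b⁆ := by rw [commutatorElement_def]
        rw [this]
        exact Subgroup.commutator_mem_commutator (Subgroup.mem_top a) (Subgroup.mem_top b))
      ((MulAut.conjNormal g : MulAut F) x * x⁻¹) hu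
    apply hl2
    have h1 := hfix l x
    have h2 : (MulAut.conjNormal g : MulAut F) x = ⟨g * x * g⁻¹, hFn.conj_mem x x.2 g⟩ := by
      apply Subtype.ext
      rw [MulAut.conjNormal_apply]
    rw [map_mul, h2, h1, map_inv, mul_inv_cancel]
  have hcop : (orderOf (MulAut.conjNormal g : MulAut F)).Coprime q := by
    apply Nat.Coprime.coprime_dvd_left _ hg
    apply orderOf_dvd_of_pow_eq_one
    rw [← map_pow, pow_orderOf_eq_one, map_one]
  have h1 : (MulAut.conjNormal g : MulAut F) = 1 :=
    cd3copact_aut_trivial hF _ hcop htriv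
  rw [Subgroup.mem_centralizer_iff]
  intro x hx
  have h2 : (MulAut.conjNormal g : MulAut F) ⟨x, hx⟩ = ⟨x, hx⟩ := by
    rw [h1, MulAut.one_apply]
  have h3 : g * x * g⁻¹ = x := by
    have := congrArg Subtype.val h2
    rwa [MulAut.conjNormal_apply] at this
  calc x * g = (g * x * g⁻¹) * g := by rw [h3]
    _ = g * x := by group

end partB

end Cfsg.Agent.Lib.Helper28.CD3
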