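import Mathlib
import Cfsg.Agent.Lib.Helper28.CD3.Defs
import Cfsg.Agent.Lib.Helper11.AbelianQuot
import Cfsg.Agent.Lib.Helper25.CharOrth
import Cfsg.Agent.Lib.Helper25.CharAbelian
import Cfsg.Agent.Lib.Helper25.CharLinear
import Cfsg.Agent.Lib.helper2.CharNat
import Cfsg.Agent.Lib.helper7.CharMul

/-!
# CD3 piece RHO1 (the regular character trick, step 1) and shared lemmas
-/

set_option autoImplicit false
open scoped commutatorElement ComplexConjugate

namespace Cfsg.Agent.Lib.Helper28.CD3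

universe u

open Cfsg.Agent.Lib.Helper25 Cfsg.Agent.Lib.helper2 Cfsg.Agent.Lib.helper7

/-- value at `1` of an irreducible character -/
theorem cd3rho1_one {G : Type u} [Group G] (χ : Cfsg.IrrCharacter G) :
    (χ : G → ℂ) 1 = (Cfsg.charDegree (χ : G → ℂ) : ℂ) := (charDegree_irr χ).1.symm

/-- the regular character: `∑ ξ(1) ξ(g) = |G|` if `g = 1`, else `0`. -/
theorem cd3rho1_reg {G : Type u} [Group G] [Fintype G] [Fintype (Cfsg.IrrCharacter G)]
    [DecidableEq G] (g : G) :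
    ∑ ξ : Cfsg.IrrCharacter G, (Cfsg.charDegree (ξ : G → ℂ) : ℂ) * (ξ : G → ℂ) g =
      if g = 1 then (Nat.card G : ℂ) else 0 := by
  classical
  have h := irr_column_orthogonality (G := G) g 1
  have h1 : ∀ ξ : Cfsg.IrrCharacter G, (ξ : G → ℂ) g * conj ((ξ : G → ℂ) 1) =
      (Cfsg.charDegree (ξ : G → ℂ) : ℂ) * (ξ : G → ℂ) g := by
    intro ξ
    rw [cd3rho1_one ξ, Complex.conj_natCast, mul_comm]
  rw [Finset.sum_congr rfl (fun ξ _ => h1 ξ)] at h
  rw [h]
  have h2 : IsConj 1 g ↔ g = 1 := isConj_one_right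
  have h3 : Subgroup.centralizer ({1} : Set G) = ⊤ := by
    rw [eq_top_iff]
    intro x _
    rw [Subgroup.mem_centralizer_iff]
    intro y hy
    rw [Set.mem_singleton_iff] at hy
    rw [hy, one_mul, mul_one]
  by_cases hg : g = 1
  · rw [if_pos hg, if_pos (h2.mpr hg), h3, Subgroup.card_top]
  · rw [if_neg hg, if_neg (fun hc => hg (h2.mp hc))]

/-- inner products against the regular character -/
theorem cd3rho1_inner_reg {G : Type u} [Group G] [Fintype G] [Fintype (Cfsg.IrrCharacter G)]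
    (a b : G → ℂ) :
    ∑ ξ : Cfsg.IrrCharacter G, (Cfsg.charDegree (ξ : G → ℂ) : ℂ) *
      Cfsg.classInner (a * (ξ : G → ℂ)) b = a 1 * conj (b 1) := by
  classical
  have hne : (Nat.card G : ℂ) ≠ 0 := by exact_mod_cast Nat.card_pos.ne'
  unfold Cfsg.classInner
  have h1 : ∀ ξ : Cfsg.IrrCharacter G, (Cfsg.charDegree (ξ : G → ℂ) : ℂ) *
      ((Nat.card G : ℂ)⁻¹ * ∑ g : G, (a * (ξ : G → ℂ)) g * conj (b g)) =
      ∑ g : G, (Nat.card G : ℂ)⁻¹ * (a g * conj (b g)) *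
        ((Cfsg.charDegree (ξ : G → ℂ) : ℂ) * (ξ : G → ℂ) g) := by
    intro ξ
    rw [Finset.mul_sum, Finset.mul_sum]
    apply Finset.sum_congr rfl
    intro g _
    rw [Pi.mul_apply]; ring
  rw [Finset.sum_congr rfl (fun ξ _ => h1 ξ), Finset.sum_comm]
  have h2 : ∀ g : G, ∑ ξ : Cfsg.IrrCharacter G, (Nat.card G : ℂ)⁻¹ * (a g * conj (b g)) *
        ((Cfsg.charDegree (ξ : G → ℂ) : ℂ) * (ξ : G → ℂ) g) =
      (Nat.card G : ℂ)⁻¹ * (a g * conj (b g)) * (if g = 1 then (Nat.card G : ℂ) else 0) := by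
    intro g
    rw [← Finset.mul_sum, cd3rho1_reg]
  rw [Finset.sum_congr rfl (fun g _ => h2 g)]
  rw [Finset.sum_eq_single (1 : G)]
  · rw [if_pos rfl]; field_simp
  · intro g _ hg
    rw [if_neg hg, mul_zero]
  · intro h; exact absurd (Finset.mem_univ _) h

/-- the three possible degrees -/
theorem cd3rho1_deg {G : Type u} [Group G] {m n : ℕ} (hcd : Cfsg.charDegrees G = {1, m, n})
    (ξ : Cfsg.IrrCharacter G) :
    Cfsg.charDegree (ξ : G → ℂ) = 1 ∨ Cfsg.charDegree (ξ : G → ℂ) = m ∨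
      Cfsg.charDegree (ξ : G → ℂ) = n := by
  have : Cfsg.charDegree (ξ : G → ℂ) ∈ Cfsg.charDegrees G := ⟨ξ, rfl⟩
  rw [hcd] at this
  simpa using this

/-- a linear character times an irreducible character is irreducible -/
theorem cd3rho1_lin_mul {G : Type u} [Group G] [Fintype G] (μ χ : Cfsg.IrrCharacter G)
    (hμ : Cfsg.charDegree (μ : G → ℂ) = 1) :
    Cfsg.IsIrrCharacter G ((μ : G → ℂ) * (χ : G → ℂ)) := by
  have h1 : (μ : G → ℂ) 1 = 1 := by rw [cd3rho1_one, hμ, Nat.cast_one]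
  have := Cfsg.Agent.Lib.Helper11.isIrr_linChar_mul (irrLinearHom μ h1) (χ : G → ℂ) χ.2
  exact this

/-- degree of a product with a linear character -/
theorem cd3rho1_lin_mul_deg {G : Type u} [Group G] (μ χ : Cfsg.IrrCharacter G)
    (hμ : Cfsg.charDegree (μ : G → ℂ) = 1) :
    Cfsg.charDegree ((μ : G → ℂ) * (χ : G → ℂ)) = Cfsg.charDegree (χ : G → ℂ) := by
  have h1 : (μ : G → ℂ) 1 = 1 := by rw [cd3rho1_one, hμ, Nat.cast_one]
  unfold Cfsg.charDegree
  rw [Pi.mul_apply, h1, one_mul]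

/-- `⟨χ ξ, χ'⟩` is a natural number -/
theorem cd3rho1_mult_nat {G : Type u} [Group G] [Fintype G] (χ ξ χ' : Cfsg.IrrCharacter G) :
    ∃ a : ℕ, Cfsg.classInner ((χ : G → ℂ) * (ξ : G → ℂ)) (χ' : G → ℂ) = (a : ℂ) :=
  classInner_character_nat (h7_isCharacter_mul (isCharacter_of_irr χ) (isCharacter_of_irr ξ))
    (isCharacter_of_irr χ')

/-- pure arithmetic: `m² = m c + n e`, `gcd(m,n) = 1`, `m < n` force `e = 0`. -/
theorem cd3rho1_arith {m n c e : ℕ} (hm : 1 < m) (hmn : m < n) (hcop : m.Coprime n)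
    (h : m * m = m * c + n * e) : e = 0 := by
  have h1 : m ∣ n * e := by
    have : m ∣ m * m := dvd_mul_right m m
    rw [h] at this
    exact (Nat.dvd_add_right (dvd_mul_right m c)).mp this
  have h2 : m ∣ e := hcop.dvd_of_dvd_mul_left h1
  obtain ⟨e', rfl⟩ := h2
  have h3 : m * m = m * (c + n * e') := by rw [h]; ring
  have h4 : m = c + n * e' := Nat.eq_of_mul_eq_mul_left (by omega) h3
  rcases Nat.eq_zero_or_pos e' with h5 | h5
  · rw [h5, mul_zero]
  · exfalso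
    have : n ≤ n * e' := Nat.le_mul_of_pos_right n h5
    omega

-- piece RHO1
theorem rho1 {G : Type u} [Group G] [Fintype G] {m n : ℕ} (hm : 1 < m) (hmn : m < n)
    (hcop : m.Coprime n) (hcd : Cfsg.charDegrees G = {1, m, n}) (χ χ' ψ : Cfsg.IrrCharacter G)
    (hχ : Cfsg.charDegree (χ : G → ℂ) = m) (hχ' : Cfsg.charDegree (χ' : G → ℂ) = m)
    (hψ : Cfsg.charDegree (ψ : G → ℂ) = n)
    (hne : ∀ μ : Cfsg.IrrCharacter G, Cfsg.charDegree (μ : G → ℂ) = 1 →
      (χ' : G → ℂ) ≠ (μ : G → ℂ) * (χ : G → ℂ)) :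
    Cfsg.classInner ((χ : G → ℂ) * (ψ : G → ℂ)) (χ' : G → ℂ) = 0 := by
  classical
  have : Fintype (Cfsg.IrrCharacter G) := Fintype.ofFinite _
  choose a ha using fun ξ : Cfsg.IrrCharacter G => cd3rho1_mult_nat χ ξ χ'
  have hsum : ∑ ξ : Cfsg.IrrCharacter G, Cfsg.charDegree (ξ : G → ℂ) * a ξ = m * m := by
    have h := cd3rho1_inner_reg (χ : G → ℂ) (χ' : G → ℂ)
    rw [cd3rho1_one χ, cd3rho1_one χ', hχ, hχ', Complex.conj_natCast] at h
    have h2 : ∀ ξ : Cfsg.IrrCharacter G, (Cfsg.charDegree (ξ : G → ℂ) : ℂ) *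
        Cfsg.classInner ((χ : G → ℂ) * (ξ : G → ℂ)) (χ' : G → ℂ) =
        ((Cfsg.charDegree (ξ : G → ℂ) * a ξ : ℕ) : ℂ) := by
      intro ξ
      rw [ha ξ]; push_cast; ring
    rw [Finset.sum_congr rfl (fun ξ _ => h2 ξ)] at h
    exact_mod_cast h
  have hlin : ∀ ξ : Cfsg.IrrCharacter G, Cfsg.charDegree (ξ : G → ℂ) = 1 → a ξ = 0 := by
    intro ξ hξ
    have hirr := cd3rho1_lin_mul ξ χ hξ
    have h1 := irr_classInner ⟨(ξ : G → ℂ) * (χ : G → ℂ), hirr⟩ χ'
    rw [if_neg] at h1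
    · have h2 : Cfsg.classInner ((χ : G → ℂ) * (ξ : G → ℂ)) (χ' : G → ℂ) = 0 := by
        rw [mul_comm]; exact h1
      rw [ha ξ] at h2
      exact_mod_cast h2
    · intro heq
      exact hne ξ hξ (congrArg Subtype.val heq).symm
  have hsplit : ∑ ξ : Cfsg.IrrCharacter G, Cfsg.charDegree (ξ : G → ℂ) * a ξ =
      m * (∑ ξ : Cfsg.IrrCharacter G, if Cfsg.charDegree (ξ : G → ℂ) = m then a ξ else 0) +
      n * (∑ ξ : Cfsg.IrrCharacter G, if Cfsg.charDegree (ξ : G → ℂ) = n then a ξ else 0) := by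
    rw [Finset.mul_sum, Finset.mul_sum, ← Finset.sum_add_distrib]
    apply Finset.sum_congr rfl
    intro ξ _
    rcases cd3rho1_deg hcd ξ with h | h | h
    · rw [hlin ξ h, h, if_neg (by omega), if_neg (by omega)]; simp
    · rw [h, if_pos rfl, if_neg (by omega), mul_zero, add_zero]
    · rw [h, if_pos rfl, if_neg (by omega), mul_zero, zero_add]
  rw [hsplit] at hsum
  have he := cd3rho1_arith hm hmn hcop hsum.symm
  have h1 := (Finset.sum_eq_zero_iff.mp he) ψ (Finset.mem_univ _)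
  rw [if_pos hψ] at h1
  rw [ha ψ, h1, Nat.cast_zero]

end Cfsg.Agent.Lib.Helper28.CD3
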