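import Mathlib
import Cfsg.Agent.Lib.helper7.CEC.Defs
import Cfsg.Agent.Lib.Helper24.STCI1

/-!
# CEC T3 (verbatim): two short roots at 60 degrees, Milnor's trick with a fourth index
-/

set_option autoImplicit false

namespace Cfsg.Agent.Lib.helper7.CEC

open Cfsg.Agent.Lib.helper15.St2 Cfsg.Agent.Lib.helper7.Ce Cfsg.Agent.Lib.helper3.STC

section T

variable {K : Type*} [Field K] {ι : Type*} {Γ G : Type*} [Group Γ] [Group G] {S : SysC K ι G} {σ : Γ →* G}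

/-- `ab a ≠ ab b` unpacked -/
theorem cect3_ne {a b : ι ⊕ ι} (h : ab a ≠ ab b) : a ≠ b ∧ a ≠ ng b ∧ b ≠ a ∧ b ≠ ng a := by
  refine ⟨?_, ?_, ?_, ?_⟩
  · rintro rfl; exact h rfl
  · intro e; exact h (ab_eq_iff.mpr (Or.inr e))
  · rintro rfl; exact h rfl
  · intro e
    apply h
    rw [e, ab_ng]

/-- `x a b t` is a commutator through a third index -/
theorem cect3_cm {a e b : ι ⊕ ι} (hae : ab a ≠ ab e) (heb : ab e ≠ ab b) (hab : ab a ≠ ab b) (t : K) :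
    S.x a b t = cm (S.x a e t) (S.x e b 1) := by
  obtain ⟨h1, h2, -, -⟩ := cect3_ne hae
  obtain ⟨h3, h4, -, -⟩ := cect3_ne heb
  obtain ⟨h5, h6, -, -⟩ := cect3_ne hab
  have := S.comm3 a e b h1 h2 h3 h4 h5 h6 t 1
  rw [mul_one] at this
  unfold cm
  exact this.symm

/-- T3 [S-M]  Milnor with a fourth index `e` (`h4 a b d`): `x a b t = cm (x a e t) (x e b 1)`, both factors commute with `x a d u`. -/
theorem t3r_milnor (h : IsCE σ) (h4 : I4 ι) :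
    ∀ a b d : ι ⊕ ι, ab a ≠ ab b → ab a ≠ ab d → ab b ≠ ab d → ∀ t u : K, CL σ (S.x a b t) (S.x a d u) := by
  intro a b d hab had hbd t u
  obtain ⟨e, hea, heb, hed⟩ := h4 a b d
  obtain ⟨ab1, ab2, ba1, ba2⟩ := cect3_ne hab
  obtain ⟨ad1, ad2, da1, da2⟩ := cect3_ne had
  obtain ⟨bd1, bd2, db1, db2⟩ := cect3_ne hbd
  obtain ⟨ea1, ea2, ae1, ae2⟩ := cect3_ne hea
  obtain ⟨eb1, eb2, be1, be2⟩ := cect3_ne heb
  obtain ⟨ed1, ed2, de1, de2⟩ := cect3_ne hed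
  rw [cect3_cm (S := S) (Ne.symm hea) heb hab t]
  apply h.milnor
  · exact S.comm a e a d ae1 ad1 ea1 ad1 ed2 (ne_ng a) t u
  · exact S.comm e b a d eb1 ad1 ba1 ed1 bd2 ea2 1 u

theorem t3c_milnor (h : IsCE σ) (h4 : I4 ι) :
    ∀ a b c : ι ⊕ ι, ab a ≠ ab b → ab c ≠ ab b → ab a ≠ ab c → ∀ t u : K, CL σ (S.x a b t) (S.x c b u) := by
  intro a b c hab hcb hac t u
  obtain ⟨e, hea, heb, hec⟩ := h4 a b c
  obtain ⟨ab1, ab2, ba1, ba2⟩ := cect3_ne hab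
  obtain ⟨cb1, cb2, bc1, bc2⟩ := cect3_ne hcb
  obtain ⟨ac1, ac2, ca1, ca2⟩ := cect3_ne hac
  obtain ⟨ea1, ea2, ae1, ae2⟩ := cect3_ne hea
  obtain ⟨eb1, eb2, be1, be2⟩ := cect3_ne heb
  obtain ⟨ec1, ec2, ce1, ce2⟩ := cect3_ne hec
  rw [cect3_cm (S := S) (Ne.symm hea) heb hab t]
  apply h.milnor
  · exact S.comm a e c b ae1 cb1 ec1 ab1 eb2 ac2 t u
  · exact S.comm e b c b eb1 cb1 bc1 eb1 (ne_ng b) ec2 1 u

end T

end Cfsg.Agent.Lib.helper7.CEC
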