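import Mathlib
import Cfsg.Agent.Lib.helper7.CEC.Defs
import Cfsg.Agent.Lib.Helper24.STCI1
import Cfsg.Agent.Lib.Helper22.STCF1
import Cfsg.Agent.Lib.Helper9.CECT3

/-!
# CEC T4 (verbatim): two short roots at 60 degrees, the torus trick
(with an own-name copy `cect4_CL_tor` of the G3 statement `CL_tor`)
-/

set_option autoImplicit false

namespace Cfsg.Agent.Lib.helper7.CEC

open Cfsg.Agent.Lib.helper15.St2 Cfsg.Agent.Lib.helper7.Ce Cfsg.Agent.Lib.helper3.STC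

section T

variable {K : Type*} [Field K] {ι : Type*} {Γ G : Type*} [Group Γ] [Group G] {S : SysC K ι G} {σ : Γ →* G}

/-- own-name copy of G3 `CL_tor` -/
theorem cect4_CL_tor (h : IsCE σ) {a b c d : ι ⊕ ι} (hab : a ≠ b) (hcd : c ≠ d) (g : G) (dd : ι ⊕ ι → K)
    (hg : S.IsMon g 1 dd)
    (hfix : dd a * (dd b)⁻¹ = 1) (hsc : dd c * (dd d)⁻¹ ≠ 1)
    (hcomm : ∀ t u, S.x a b t * S.x c d u = S.x c d u * S.x a b t) (t u : K) :
    CL σ (S.x a b t) (S.x c d u) := by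
  have key := h.torus (fun s => S.x c d s) (fun s s' => (S.add c d hcd s s').symm) (S.x a b t) g
    (dd c * (dd d)⁻¹) hsc (fun s => (hcomm t s).symm)
    (fun s => by
      have := hg.2 c d hcd s
      simpa using this)
    (by
      have := hg.2 a b hab t
      rw [hfix, one_mul] at this
      simpa using this)
  exact (key u).symm

theorem cect4_dhl_self [DecidableEq ι] (d : ι ⊕ ι) (v : K) : dhl d v d = v := by
  unfold dhl
  rw [if_pos rfl]

theorem cect4_dhl_of_ne [DecidableEq ι] {d a : ι ⊕ ι} (v : K) (h1 : a ≠ d) (h2 : a ≠ ng d) :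
    dhl d v a = 1 := by
  unfold dhl
  rw [if_neg h1, if_neg h2]

/-- T4 [S-M]  torus: `g := S.h d (ng d) v` fixes `x a b` and scales `x a d` by `v⁻¹` (`CL_tor`); for the column `g := S.h c (ng c) v` scales `x c b` by `v`. -/
theorem t3r_torus [DecidableEq ι] (h : IsCE σ) (hH : S.HH) (v : K) (hv0 : v ≠ 0) (hv1 : v ≠ 1) :
    ∀ a b d : ι ⊕ ι, ab a ≠ ab b → ab a ≠ ab d → ab b ≠ ab d → ∀ t u : K, CL σ (S.x a b t) (S.x a d u) := by
  intro a b d hab had hbd t u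
  obtain ⟨ab1, ab2, ba1, ba2⟩ := cect3_ne hab
  obtain ⟨ad1, ad2, da1, da2⟩ := cect3_ne had
  obtain ⟨bd1, bd2, db1, db2⟩ := cect3_ne hbd
  have hg := SysC.HH.long S hH d v hv0
  apply cect4_CL_tor h ab1 ad1 (S.h d (ng d) v) (dhl d v) hg
  · rw [cect4_dhl_of_ne v ad1 ad2, cect4_dhl_of_ne v bd1 bd2]
    simp
  · rw [cect4_dhl_of_ne v ad1 ad2, cect4_dhl_self, one_mul]
    intro hv
    apply hv1
    rw [← inv_inv v, hv, inv_one]
  · intro t u
    exact S.comm a b a d ab1 ad1 ba1 ad1 bd2 (ne_ng a) t u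

theorem t3c_torus [DecidableEq ι] (h : IsCE σ) (hH : S.HH) (v : K) (hv0 : v ≠ 0) (hv1 : v ≠ 1) :
    ∀ a b c : ι ⊕ ι, ab a ≠ ab b → ab c ≠ ab b → ab a ≠ ab c → ∀ t u : K, CL σ (S.x a b t) (S.x c b u) := by
  intro a b c hab hcb hac t u
  obtain ⟨ab1, ab2, ba1, ba2⟩ := cect3_ne hab
  obtain ⟨cb1, cb2, bc1, bc2⟩ := cect3_ne hcb
  obtain ⟨ac1, ac2, ca1, ca2⟩ := cect3_ne hac
  have hg := SysC.HH.long S hH c v hv0
  apply cect4_CL_tor h ab1 cb1 (S.h c (ng c) v) (dhl c v) hg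
  · rw [cect4_dhl_of_ne v ac1 ac2, cect4_dhl_of_ne v bc1 bc2]
    simp
  · rw [cect4_dhl_self, cect4_dhl_of_ne v bc1 bc2, inv_one, mul_one]
    exact hv1
  · intro t u
    exact S.comm a b c b ab1 cb1 bc1 ab1 (ne_ng b) ac2 t u

end T

end Cfsg.Agent.Lib.helper7.CEC
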