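import Mathlib
import Cfsg.Agent.Lib.Helper18.ClassGraph

set_option autoImplicit false

namespace Cfsg.Agent.Lib.Helper9

open Cfsg.Agent.Lib.Helper18.ClassGraph
open scoped Pointwise commutatorElement

variable {G : Type*} [Group G]

/-- a finite group is not the union of the conjugates of a proper subgroup -/
theorem cgd_eq_top_of_forall_conj [Finite G] (H : Subgroup G)
    (h : ∀ g : G, ∃ a : G, a⁻¹ * g * a ∈ H) : H = ⊤ := by
  classical
  haveI : Fintype G := Fintype.ofFinite G
  haveI : Fintype (G ⧸ H) := Fintype.ofFinite _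
  haveI : ∀ g : G, Fintype (MulAction.fixedBy (G ⧸ H) g) := fun g => Fintype.ofFinite _
  haveI : Fintype (Quotient (MulAction.orbitRel G (G ⧸ H))) := Fintype.ofFinite _
  have hB := MulAction.sum_card_fixedBy_eq_card_orbits_mul_card_group G (G ⧸ H)
  have horb : Fintype.card (Quotient (MulAction.orbitRel G (G ⧸ H))) = 1 := by
    haveI : Subsingleton (MulAction.orbitRel.Quotient G (G ⧸ H)) :=
      (MulAction.pretransitive_iff_subsingleton_quotient G (G ⧸ H)).1 inferInstance
    haveI : Nonempty (MulAction.orbitRel.Quotient G (G ⧸ H)) :=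
      ⟨Quotient.mk'' ((1 : G) : G ⧸ H)⟩
    exact Fintype.card_eq_one_iff.2 ⟨Quotient.mk'' ((1 : G) : G ⧸ H), fun y => Subsingleton.elim _ _⟩
  rw [horb, one_mul] at hB
  have hge : ∀ g : G, (if g = 1 then Fintype.card (G ⧸ H) else 1) ≤
      Fintype.card (MulAction.fixedBy (G ⧸ H) g) := by
    intro g
    split_ifs with hg
    · subst hg
      apply Fintype.card_le_of_injective (fun x : G ⧸ H => (⟨x, by simp⟩ :
        MulAction.fixedBy (G ⧸ H) (1 : G)))
      intro x y hxy
      exact congrArg Subtype.val hxy
    · obtain ⟨a, ha⟩ := h g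
      have : ((a : G) : G ⧸ H) ∈ MulAction.fixedBy (G ⧸ H) g := by
        rw [MulAction.mem_fixedBy]
        show ((g * a : G) : G ⧸ H) = (a : G ⧸ H)
        rw [QuotientGroup.eq]
        have : (g * a)⁻¹ * a = (a⁻¹ * g * a)⁻¹ := by group
        rw [this]
        exact H.inv_mem ha
      exact Fintype.card_pos_iff.2 ⟨⟨_, this⟩⟩
  have hsum := Finset.sum_le_sum (fun g (_ : g ∈ (Finset.univ : Finset G)) => hge g)
  rw [hB] at hsum
  rw [Finset.sum_ite, Finset.sum_const, Finset.sum_const] at hsum
  have hf1 : (Finset.filter (fun g : G => g = 1) Finset.univ).card = 1 := by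
    rw [Finset.filter_eq' Finset.univ (1 : G)]
    simp
  have hf2 : (Finset.filter (fun g : G => ¬ g = 1) Finset.univ).card = Fintype.card G - 1 := by
    have := Finset.card_filter_add_card_filter_not (s := (Finset.univ : Finset G)) (fun g : G => g = 1)
    rw [hf1, Finset.card_univ] at this
    omega
  rw [hf1, hf2] at hsum
  simp only [smul_eq_mul, one_mul, mul_one] at hsum
  have hpos : 0 < Fintype.card G := Fintype.card_pos
  have hidx : Fintype.card (G ⧸ H) ≤ 1 := by omega
  have : H.index = 1 := by
    have h1 : H.index = Fintype.card (G ⧸ H) := by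
      rw [Subgroup.index, Nat.card_eq_fintype_card]
    have h2 : H.index ≠ 0 := Subgroup.index_ne_zero_of_finite
    omega
  exact Subgroup.index_eq_one.1 this

/-- a finite set closed under right multiplication by a subgroup has size divisible by its order -/
theorem cgd_card_dvd_of_mul_closed [Finite G] (L : Subgroup G) (S : Set G)
    (h : ∀ s ∈ S, ∀ l ∈ L, s * l ∈ S) : Nat.card L ∣ S.ncard := by
  have h1 : (QuotientGroup.mk : G → G ⧸ L) ⁻¹' ((QuotientGroup.mk : G → G ⧸ L) '' S) = S := by
    rw [QuotientGroup.preimage_image_mk_eq_mul]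
    ext w
    constructor
    · rintro ⟨a, ha, b, hb, rfl⟩
      exact h a ha b hb
    · intro hw
      exact ⟨w, hw, 1, L.one_mem, mul_one w⟩
  have h2 := QuotientGroup.card_preimage_mk L ((QuotientGroup.mk : G → G ⧸ L) '' S)
  rw [h1] at h2
  rw [← Nat.card_coe_set_eq, h2]
  exact dvd_mul_right _ _

/-- commuting elements of coprime orders: both class sizes divide the class size of the product -/
theorem cgd_cs_dvd_cs_mul_of_coprime (u d : G) (hc : u * d = d * u)
    (hco : (orderOf u).Coprime (orderOf d)) : cs u ∣ cs (u * d) ∧ cs d ∣ cs (u * d) := by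
  have hcomm : Commute u d := hc
  have key : ∀ (a b : G), Commute a b → (orderOf a).Coprime (orderOf b) →
      Subgroup.centralizer ({a * b} : Set G) ≤ Subgroup.centralizer ({a} : Set G) := by
    intro a b hab hcop g hg
    rw [mem_cent] at hg ⊢
    have hg' : Commute g (a * b) := hg
    obtain ⟨m, hm⟩ := exists_pow_eq_self_of_coprime hcop.symm
    have h1 : (a * b) ^ (orderOf b) = a ^ (orderOf b) := by
      rw [hab.mul_pow, pow_orderOf_eq_one, mul_one]
    have h2 : ((a * b) ^ (orderOf b)) ^ m = a := by rw [h1, hm]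
    have h3 : Commute g (((a * b) ^ (orderOf b)) ^ m) := (hg'.pow_right _).pow_right _
    rw [h2] at h3
    exact h3
  constructor
  · exact Subgroup.index_dvd_of_le (key u d hcomm hco)
  · have := key d u hcomm.symm hco.symm
    rw [← hc] at this
    exact Subgroup.index_dvd_of_le this

/-- a subgroup of index prime to `q` contains a Sylow `q`-subgroup -/
theorem cgd_exists_sylow_le [Finite G] (q : ℕ) [hq : Fact q.Prime] (H : Subgroup G)
    (h : ¬ q ∣ H.index) : ∃ Q : Sylow q G, (Q : Subgroup G) ≤ H := by
  obtain ⟨P⟩ : Nonempty (Sylow q H) := inferInstance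
  have hcard : Nat.card ((P : Subgroup H).map H.subtype) = q ^ (Nat.card G).factorization q := by
    rw [Subgroup.card_map_of_injective H.subtype_injective, P.card_eq_multiplicity]
    congr 1
    have h1 : Nat.card G = Nat.card H * H.index := (H.card_mul_index).symm
    rw [h1, Nat.factorization_mul Nat.card_pos.ne' Subgroup.index_ne_zero_of_finite]
    simp [Nat.factorization_eq_zero_of_not_dvd h]
  refine ⟨Sylow.ofCard _ hcard, ?_⟩
  rw [Sylow.coe_ofCard]
  exact Subgroup.map_subtype_le _

end Cfsg.Agent.Lib.Helper9
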