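import Mathlib
import Cfsg.Agent.Lib.Helper9.CGDiamA

set_option autoImplicit false

namespace Cfsg.Agent.Lib.Helper9

open Cfsg.Agent.Lib.Helper18.ClassGraph
open scoped Pointwise commutatorElement

variable {G : Type*} [Group G]

/-- the local hypotheses around two far-apart primes `p`, `q` of the class-size graph, with `x₀` a
`p`-element (class size divisible by `p`) whose class is at least as big as all `q`-classes -/
structure CGDHyp (G : Type*) [Group G] (p q : ℕ) (Sp Sq : Set ℕ) (x₀ : G) : Prop where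
  hp : p.Prime
  hq : q.Prime
  hp1 : ∀ (g : G) (r : ℕ), r.Prime → p ∣ cs g → r ∣ cs g → r ∈ Sp
  hq1 : ∀ (g : G) (r : ℕ), r.Prime → q ∣ cs g → r ∣ cs g → r ∈ Sq
  hE : ∀ (g : G) (r s : ℕ), r.Prime → s.Prime → r ∈ Sp → s ∈ Sq → r ∣ cs g → s ∣ cs g → False
  hx : p ∣ cs x₀
  hmax : ∀ y : G, q ∣ cs y → cs y ≤ cs x₀

namespace CGDHyp

variable {p q : ℕ} {Sp Sq : Set ℕ} {x₀ : G}

theorem conj (h : CGDHyp G p q Sp Sq x₀) (a : G) : CGDHyp G p q Sp Sq (a * x₀ * a⁻¹) where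
  hp := h.hp
  hq := h.hq
  hp1 := h.hp1
  hq1 := h.hq1
  hE := h.hE
  hx := by rw [cs_conj]; exact h.hx
  hmax := by intro y hy; rw [cs_conj]; exact h.hmax y hy

/-- `g` has a class size divisible by some prime of `Sq` -/
def SeesQ (Sq : Set ℕ) (g : G) : Prop := ∃ s : ℕ, s.Prime ∧ s ∈ Sq ∧ s ∣ cs g

theorem seesQ_of_dvd (h : CGDHyp G p q Sp Sq x₀) {y : G} (hy : q ∣ cs y) : SeesQ Sq y :=
  ⟨q, h.hq, h.hq1 y q h.hq hy hy, hy⟩

theorem coprime_of_seesQ (h : CGDHyp G p q Sp Sq x₀) {g : G} (hg : SeesQ Sq g) :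
    (cs g).Coprime (cs x₀) := by
  obtain ⟨s, hs, hsS, hsd⟩ := hg
  apply Nat.coprime_of_dvd
  intro k hk h1 h2
  exact h.hE g k s hk hs (h.hp1 x₀ k hk h.hx h2) hsS h1 hsd

theorem coprime_of_dvd (h : CGDHyp G p q Sp Sq x₀) {y : G} (hy : q ∣ cs y) :
    (cs y).Coprime (cs x₀) := h.coprime_of_seesQ (h.seesQ_of_dvd hy)

theorem lt_of_dvd [Finite G] (h : CGDHyp G p q Sp Sq x₀) {y : G} (hy : q ∣ cs y) :
    cs y < cs x₀ := by
  rcases lt_or_eq_of_le (h.hmax y hy) with h1 | h1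
  · exact h1
  · exfalso
    have h2 := h.coprime_of_dvd hy
    rw [h1] at h2
    have h3 : cs x₀ = 1 := (Nat.coprime_self _).1 h2
    rw [h1, h3] at hy
    exact h.hq.one_lt.ne' (Nat.dvd_one.1 hy)

theorem cs_mul_eq [Finite G] (h : CGDHyp G p q Sp Sq x₀) {y : G} (hy : q ∣ cs y) :
    cs (y * x₀) = cs x₀ := by
  have hcop := h.coprime_of_dvd hy
  have hdvd := cs_mul_dvd y x₀ hcop
  have hle1 := cs_le_cs_mul y x₀ hcop
  have hle2 := cs_le_cs_mul' y x₀ hcop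
  have hlt := h.lt_of_dvd hy
  by_cases hc1 : (cs (y * x₀)).Coprime (cs y)
  · have h2 : cs (y * x₀) ∣ cs x₀ := hc1.dvd_of_dvd_mul_left hdvd
    have h3 := Nat.le_of_dvd (Nat.pos_of_ne_zero (cs_ne_zero x₀)) h2
    omega
  · by_cases hc2 : (cs (y * x₀)).Coprime (cs x₀)
    · exfalso
      have h2 : cs (y * x₀) ∣ cs y := hc2.dvd_of_dvd_mul_right hdvd
      have h3 := Nat.le_of_dvd (Nat.pos_of_ne_zero (cs_ne_zero y)) h2
      omega
    · exfalso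
      obtain ⟨s, hs, hs1, hs2⟩ := Nat.Prime.not_coprime_iff_dvd.1 hc1
      obtain ⟨r, hr, hr1, hr2⟩ := Nat.Prime.not_coprime_iff_dvd.1 hc2
      exact h.hE (y * x₀) r s hr hs (h.hp1 x₀ r hr h.hx hr2) (h.hq1 y s hs hy hs2) hr1 hs1

theorem comm_mem_St [Finite G] (h : CGDHyp G p q Sp Sq x₀) {y : G} (hy : q ∣ cs y) (a : G) :
    ⁅a, y⁆ ∈ St x₀ := by
  intro w hw
  obtain ⟨c, rfl⟩ := hw
  have h' := h.conj c
  have hy' : q ∣ cs y⁻¹ := by rw [cs_inv]; exact hy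
  have h1 : cs (y⁻¹ * (c * x₀ * c⁻¹)) = cs (c * x₀ * c⁻¹) := h'.cs_mul_eq hy'
  have hcop : (cs y).Coprime (cs (y⁻¹ * (c * x₀ * c⁻¹))) := by
    rw [h1]; exact h'.coprime_of_dvd hy
  obtain ⟨v, hv⟩ := conj_mul_of_coprime y (y⁻¹ * (c * x₀ * c⁻¹)) hcop a
  have h2 : ⁅a, y⁆ * (c * x₀ * c⁻¹) = v * (c * x₀ * c⁻¹) * v⁻¹ := by
    rw [commutatorElement_def]
    calc a * y * a⁻¹ * y⁻¹ * (c * x₀ * c⁻¹) = a * y * a⁻¹ * (y⁻¹ * (c * x₀ * c⁻¹)) := by group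
      _ = v * (y * (y⁻¹ * (c * x₀ * c⁻¹))) * v⁻¹ := hv
      _ = v * (c * x₀ * c⁻¹) * v⁻¹ := by group
  rw [h2]
  exact conj_mem_cls ⟨c, rfl⟩ v

theorem card_St_dvd [Finite G] (x₀ : G) : Nat.card (St x₀) ∣ cs x₀ :=
  card_dvd_of_le_St x₀ (St x₀) le_rfl

theorem St_le_centralizer [Finite G] {x₀ g : G} (hcop : (cs g).Coprime (cs x₀)) :
    St x₀ ≤ Subgroup.centralizer ({g} : Set G) := by
  rw [← Subgroup.relIndex_eq_one]
  have h1 : (Subgroup.centralizer ({g} : Set G)).relIndex (St x₀) ∣ cs g :=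
    relIndex_dvd_index_of_normal_right _ _
  have h2 : (Subgroup.centralizer ({g} : Set G)).relIndex (St x₀) ∣ cs x₀ :=
    (Subgroup.relIndex_dvd_card _ _).trans (card_St_dvd x₀)
  exact Nat.eq_one_of_dvd_coprimes hcop h1 h2

theorem conj_comm [Finite G] (h : CGDHyp G p q Sp Sq x₀) {y : G} (hy : q ∣ cs y) (a : G) :
    (a * y * a⁻¹) * y = y * (a * y * a⁻¹) := by
  have h1 : ⁅a, y⁆ ∈ Subgroup.centralizer ({y} : Set G) :=
    St_le_centralizer (h.coprime_of_dvd hy) (h.comm_mem_St hy a)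
  have h2 : ⁅a, y⁆ * y = y * ⁅a, y⁆ := mem_cent.1 h1
  have h3 : a * y * a⁻¹ = ⁅a, y⁆ * y := by rw [commutatorElement_def]; group
  rw [h3, h2, mul_assoc, h2]

/-- if `ℓ` is prime to `cs x₀`, then `d` and `d ^ ℓ` have the same centralizer (`q ∣ cs d`) -/
theorem centralizer_pow_eq [Finite G] (h : CGDHyp G p q Sp Sq x₀) {d : G} (hd : q ∣ cs d)
    (ℓ : ℕ) (hℓ : ℓ.Coprime (cs x₀)) :
    Subgroup.centralizer ({d ^ ℓ} : Set G) = Subgroup.centralizer ({d} : Set G) := by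
  apply le_antisymm
  · intro g hg
    rw [mem_cent] at hg ⊢
    have hm : ⁅g, d⁆ ∈ St x₀ := h.comm_mem_St hd g
    have hmc : ⁅g, d⁆ * d = d * ⁅g, d⁆ :=
      mem_cent.1 (St_le_centralizer (h.coprime_of_dvd hd) hm)
    have h3 : g * d * g⁻¹ = ⁅g, d⁆ * d := by rw [commutatorElement_def]; group
    have h4 : (g * d * g⁻¹) ^ ℓ = d ^ ℓ := by
      rw [conj_pow, hg]; group
    have h5 : (⁅g, d⁆ * d) ^ ℓ = ⁅g, d⁆ ^ ℓ * d ^ ℓ := (show Commute ⁅g, d⁆ d from hmc).mul_pow ℓ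
    rw [h3, h5] at h4
    have h6 : ⁅g, d⁆ ^ ℓ = 1 := by
      have := mul_right_cancel (b := d ^ ℓ) (a := ⁅g, d⁆ ^ ℓ) (c := 1) (by rw [h4, one_mul])
      exact this
    have h7 : orderOf ⁅g, d⁆ ∣ ℓ := orderOf_dvd_of_pow_eq_one h6
    have h8 : orderOf ⁅g, d⁆ ∣ cs x₀ :=
      (Subgroup.orderOf_dvd_natCard _ hm).trans (card_St_dvd x₀)
    have h9 : orderOf ⁅g, d⁆ = 1 := Nat.eq_one_of_dvd_coprimes hℓ h7 h8
    have h10 : ⁅g, d⁆ = 1 := orderOf_eq_one_iff.1 h9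
    rw [h10, one_mul] at h3
    calc g * d = g * d * g⁻¹ * g := by group
      _ = d * g := by rw [h3]
  · intro g hg
    rw [mem_cent] at hg ⊢
    exact (show Commute g d from hg).pow_right ℓ

/-- there is a `q`-element (class size divisible by `q`) all of whose order's prime divisors divide
`cs x₀` -/
theorem exists_good [Finite G] (h : CGDHyp G p q Sp Sq x₀) (d₀ : G) (hd₀ : q ∣ cs d₀) :
    ∃ d : G, q ∣ cs d ∧ ∀ ℓ : ℕ, ℓ.Prime → ℓ ∣ orderOf d → ℓ ∣ cs x₀ := by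
  haveI : Nonempty {d : G // q ∣ cs d} := ⟨⟨d₀, hd₀⟩⟩
  obtain ⟨⟨d, hd⟩, hmin⟩ := Finite.exists_min (fun t : {d : G // q ∣ cs d} => orderOf t.1)
  refine ⟨d, hd, ?_⟩
  intro ℓ hℓ hℓd
  by_contra hnd
  have hcop : ℓ.Coprime (cs x₀) := (Nat.Prime.coprime_iff_not_dvd hℓ).2 hnd
  have hcent := h.centralizer_pow_eq hd ℓ hcop
  have hcs : cs (d ^ ℓ) = cs d := by unfold cs; rw [hcent]
  have hd' : q ∣ cs (d ^ ℓ) := by rw [hcs]; exact hd
  have hle := hmin ⟨d ^ ℓ, hd'⟩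
  simp only at hle
  have hord : orderOf (d ^ ℓ) = orderOf d / ℓ := orderOf_pow_of_dvd hℓ.ne_zero hℓd
  have hpos : 0 < orderOf d := orderOf_pos d
  have hlt : orderOf d / ℓ < orderOf d := Nat.div_lt_self hpos hℓ.one_lt
  omega

end CGDHyp

end Cfsg.Agent.Lib.Helper9
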