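import Mathlib
import Cfsg.Agent.Lib.Helper9.CGDiamB

set_option autoImplicit false

namespace Cfsg.Agent.Lib.Helper9

open Cfsg.Agent.Lib.Helper18.ClassGraph
open scoped Pointwise commutatorElement

variable {G : Type*} [Group G]

namespace CGDHyp

variable {p q : ℕ} {Sp Sq : Set ℕ} {x₀ : G}

/-- the normal closure of a `q`-element is abelian -/
theorem normalClosure_comm [Finite G] (h : CGDHyp G p q Sp Sq x₀) {d : G} (hd : q ∣ cs d) :
    ∀ a ∈ Subgroup.normalClosure ({d} : Set G), ∀ b ∈ Subgroup.normalClosure ({d} : Set G),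
      a * b = b * a := by
  set S : Set G := Group.conjugatesOfSet ({d} : Set G) with hS
  have hgen : ∀ u ∈ S, ∃ c : G, u = c * d * c⁻¹ := by
    intro u hu
    rw [hS, Group.mem_conjugatesOfSet_iff] at hu
    obtain ⟨x, hx, hxu⟩ := hu
    rw [Set.mem_singleton_iff] at hx
    subst hx
    obtain ⟨c, hc⟩ := isConj_iff.1 hxu
    exact ⟨c, hc.symm⟩
  have hpair : ∀ u ∈ S, ∀ v ∈ S, u * v = v * u := by
    intro u hu v hv
    obtain ⟨c₁, rfl⟩ := hgen u hu
    obtain ⟨c₂, rfl⟩ := hgen v hv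
    have hu' : q ∣ cs (c₁ * d * c₁⁻¹) := by rw [cs_conj]; exact hd
    have := h.conj_comm hu' (c₂ * c₁⁻¹)
    have e : c₂ * c₁⁻¹ * (c₁ * d * c₁⁻¹) * (c₂ * c₁⁻¹)⁻¹ = c₂ * d * c₂⁻¹ := by group
    rw [e] at this
    exact this.symm
  have h1 : Subgroup.closure S ≤ Subgroup.centralizer S := by
    rw [Subgroup.closure_le]
    intro u hu
    rw [SetLike.mem_coe, Subgroup.mem_centralizer_iff]
    intro v hv
    exact hpair v hv u hu
  have h2 : Subgroup.closure S ≤ Subgroup.centralizer (Subgroup.closure S : Set G) := by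
    rw [Subgroup.closure_le]
    intro u hu
    rw [SetLike.mem_coe, Subgroup.mem_centralizer_iff]
    intro a ha
    have := Subgroup.mem_centralizer_iff.1 (h1 ha) u hu
    exact this.symm
  intro a ha b hb
  have hb' := h2 hb
  exact (Subgroup.mem_centralizer_iff.1 hb' a ha)

theorem pow_orderOf_eq_one_of_mem [Finite G] (h : CGDHyp G p q Sp Sq x₀) {d : G} (hd : q ∣ cs d) :
    ∀ a ∈ Subgroup.normalClosure ({d} : Set G), a ^ (orderOf d) = 1 := by
  have hcomm := h.normalClosure_comm hd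
  intro a ha
  unfold Subgroup.normalClosure at ha
  induction ha using Subgroup.closure_induction with
  | mem u hu =>
    rw [Group.mem_conjugatesOfSet_iff] at hu
    obtain ⟨x, hx, hxu⟩ := hu
    rw [Set.mem_singleton_iff] at hx
    subst hx
    obtain ⟨c, hc⟩ := isConj_iff.1 hxu
    rw [← hc, conj_pow, pow_orderOf_eq_one]
    group
  | one => exact one_pow _
  | mul u v hu hv hu1 hv1 =>
    have : Commute u v := hcomm u hu v hv
    rw [this.mul_pow, hu1, hv1, one_mul]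
  | inv u hu hu1 => rw [inv_pow, hu1, inv_one]

/-- primes dividing the order of the normal closure divide `cs x₀` -/
theorem prime_dvd_card_normalClosure [Finite G] (h : CGDHyp G p q Sp Sq x₀) {d : G}
    (hd : q ∣ cs d) (hgood : ∀ ℓ : ℕ, ℓ.Prime → ℓ ∣ orderOf d → ℓ ∣ cs x₀)
    (ℓ : ℕ) (hℓ : ℓ.Prime) (hdvd : ℓ ∣ Nat.card (Subgroup.normalClosure ({d} : Set G))) :
    ℓ ∣ cs x₀ := by
  haveI : Fact ℓ.Prime := ⟨hℓ⟩
  obtain ⟨y, hy⟩ := exists_prime_orderOf_dvd_card' ℓ hdvd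
  have h1 : (y : G) ^ (orderOf d) = 1 := h.pow_orderOf_eq_one_of_mem hd y y.2
  have h2 : orderOf (y : G) = ℓ := by rw [Subgroup.orderOf_coe, hy]
  have h3 : ℓ ∣ orderOf d := by rw [← h2]; exact orderOf_dvd_of_pow_eq_one h1
  exact hgood ℓ hℓ h3

/-- elements whose class size is prime to `cs x₀` ... in fact those "seeing" `Sq` centralize `Y` -/
theorem normalClosure_le_centralizer_of_coprime [Finite G] (h : CGDHyp G p q Sp Sq x₀) {d : G}
    (hd : q ∣ cs d) (hgood : ∀ ℓ : ℕ, ℓ.Prime → ℓ ∣ orderOf d → ℓ ∣ cs x₀)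
    {g : G} (hcop : (cs g).Coprime (cs x₀)) :
    Subgroup.normalClosure ({d} : Set G) ≤ Subgroup.centralizer ({g} : Set G) := by
  rw [← Subgroup.relIndex_eq_one]
  by_contra hne
  obtain ⟨ℓ, hℓ, hℓd⟩ := Nat.exists_prime_and_dvd hne
  have h1 : ℓ ∣ cs g := hℓd.trans (relIndex_dvd_index_of_normal_right _ _)
  have h2 : ℓ ∣ cs x₀ := h.prime_dvd_card_normalClosure hd hgood ℓ hℓ
    (hℓd.trans (Subgroup.relIndex_dvd_card _ _))
  have h3 : ℓ ∣ 1 := by
    have := Nat.dvd_gcd h1 h2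
    rwa [hcop] at this
  exact hℓ.one_lt.ne' (Nat.dvd_one.1 h3)

theorem mem_K_of_seesQ [Finite G] (h : CGDHyp G p q Sp Sq x₀) {d : G}
    (hd : q ∣ cs d) (hgood : ∀ ℓ : ℕ, ℓ.Prime → ℓ ∣ orderOf d → ℓ ∣ cs x₀)
    {g : G} (hg : SeesQ Sq g) :
    g ∈ Subgroup.centralizer ((Subgroup.normalClosure ({d} : Set G) : Subgroup G) : Set G) := by
  rw [Subgroup.mem_centralizer_iff]
  intro y hy
  exact mem_cent.1 (h.normalClosure_le_centralizer_of_coprime hd hgood (h.coprime_of_seesQ hg) hy)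

/-- an element commuting with `d` of order prime to that of `d` centralizes `Y` -/
theorem mem_K_of_commute_coprime [Finite G] (h : CGDHyp G p q Sp Sq x₀) {d : G}
    (hd : q ∣ cs d) (hgood : ∀ ℓ : ℕ, ℓ.Prime → ℓ ∣ orderOf d → ℓ ∣ cs x₀)
    {u : G} (hu : u * d = d * u) (hco : (orderOf u).Coprime (orderOf d)) :
    u ∈ Subgroup.centralizer ((Subgroup.normalClosure ({d} : Set G) : Subgroup G) : Set G) := by
  have key : Subgroup.normalClosure ({d} : Set G) ≤ Subgroup.centralizer ({u} : Set G) := by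
    rw [← Subgroup.relIndex_eq_one]
    by_contra hne
    obtain ⟨ℓ, hℓ, hℓd⟩ := Nat.exists_prime_and_dvd hne
    have h1 : ℓ ∣ cs u := hℓd.trans (relIndex_dvd_index_of_normal_right _ _)
    have h2 : ℓ ∣ cs x₀ := h.prime_dvd_card_normalClosure hd hgood ℓ hℓ
      (hℓd.trans (Subgroup.relIndex_dvd_card _ _))
    obtain ⟨h3, h4⟩ := cgd_cs_dvd_cs_mul_of_coprime u d hu hco
    exact h.hE (u * d) ℓ q hℓ h.hq (h.hp1 x₀ ℓ hℓ h.hx h2) (h.hq1 d q h.hq hd hd)
      (h1.trans h3) (hd.trans h4)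
  rw [Subgroup.mem_centralizer_iff]
  intro y hy
  exact mem_cent.1 (key hy)

/-- a prime `t` dividing neither `cs x₀` nor `cs d` does not divide the index of `K` -/
theorem not_dvd_index_K [Finite G] (h : CGDHyp G p q Sp Sq x₀) {d : G}
    (hd : q ∣ cs d) (hgood : ∀ ℓ : ℕ, ℓ.Prime → ℓ ∣ orderOf d → ℓ ∣ cs x₀)
    (t : ℕ) (ht : t.Prime) (htx : ¬ t ∣ cs x₀) (htd : ¬ t ∣ cs d) :
    ¬ t ∣ (Subgroup.centralizer
      ((Subgroup.normalClosure ({d} : Set G) : Subgroup G) : Set G)).index := by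
  haveI : Fact t.Prime := ⟨ht⟩
  obtain ⟨T, hT⟩ := cgd_exists_sylow_le t (Subgroup.centralizer ({d} : Set G)) htd
  have hTK : (T : Subgroup G) ≤ Subgroup.centralizer
      ((Subgroup.normalClosure ({d} : Set G) : Subgroup G) : Set G) := by
    intro u hu
    have hud : u * d = d * u := mem_cent.1 (hT hu)
    obtain ⟨k, hk⟩ := (IsPGroup.iff_orderOf.1 T.2) ⟨u, hu⟩
    have hk' : orderOf u = t ^ k := by rw [← hk, Subgroup.orderOf_mk]
    have htod : ¬ t ∣ orderOf d := fun h1 => htx (hgood t ht h1)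
    have hco : (orderOf u).Coprime (orderOf d) := by
      rw [hk']
      exact Nat.Coprime.pow_left k ((Nat.Prime.coprime_iff_not_dvd ht).2 htod)
    exact h.mem_K_of_commute_coprime hd hgood hud hco
  intro hdiv
  have h1 := Subgroup.index_dvd_of_le hTK
  exact T.not_dvd_index (hdiv.trans h1)

end CGDHyp

end Cfsg.Agent.Lib.Helper9
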