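import Mathlib
import Cfsg.Agent.Lib.Helper9.CGDiamC

set_option autoImplicit false

namespace Cfsg.Agent.Lib.Helper9

open Cfsg.Agent.Lib.Helper18.ClassGraph
open scoped Pointwise commutatorElement

variable {G : Type*} [Group G]

theorem cgd_mem_smul_sylow_iff {q : ℕ} (T : Sylow q G) (g x : G) :
    x ∈ ((g • T : Sylow q G) : Subgroup G) ↔ g⁻¹ * x * g ∈ (T : Subgroup G) := by
  rw [Sylow.coe_subgroup_smul, Subgroup.mem_pointwise_smul_iff_inv_smul_mem]
  simp [MulAut.smul_def, mul_assoc]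

/-- `t ∣ cs (c * y)` for `y` central in the normal subgroup `K ∋ c`, if `t ∤ |G : K|` -/
theorem cgd_dvd_cs_mul_central [Finite G] (K : Subgroup G) [K.Normal] (c y : G)
    (hy : ∀ k ∈ K, k * y = y * k) (t : ℕ) (ht : t.Prime) (htK : ¬ t ∣ K.index)
    (htc : t ∣ cs c) : t ∣ cs (c * y) := by
  have h1 : Subgroup.centralizer ({c} : Set G) ⊓ K = Subgroup.centralizer ({c * y} : Set G) ⊓ K := by
    ext k
    rw [Subgroup.mem_inf, Subgroup.mem_inf, mem_cent, mem_cent]
    constructor
    · rintro ⟨h1, h2⟩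
      refine ⟨?_, h2⟩
      rw [← mul_assoc, h1, mul_assoc, hy k h2, mul_assoc]
    · rintro ⟨h1, h2⟩
      refine ⟨?_, h2⟩
      have h3 : k * c * y = c * k * y := by
        rw [mul_assoc k c y, h1, mul_assoc c y k, ← hy k h2, mul_assoc]
      exact mul_right_cancel h3
  have h2 : (Subgroup.centralizer ({c} : Set G)).relIndex K =
      (Subgroup.centralizer ({c * y} : Set G)).relIndex K := by
    rw [← Subgroup.inf_relIndex_right, h1, Subgroup.inf_relIndex_right]
  have h3 : (Subgroup.centralizer ({c} : Set G) ⊓ K).index =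
      (Subgroup.centralizer ({c} : Set G)).relIndex K * K.index := by
    rw [← Subgroup.inf_relIndex_right, Subgroup.relIndex_mul_index inf_le_right]
  have h4 : cs c ∣ (Subgroup.centralizer ({c} : Set G) ⊓ K).index :=
    Subgroup.index_dvd_of_le inf_le_left
  rw [h3] at h4
  have h5 : t ∣ (Subgroup.centralizer ({c} : Set G)).relIndex K := by
    rcases (Nat.Prime.dvd_mul ht).1 (htc.trans h4) with h | h
    · exact h
    · exact absurd h htK
  rw [h2] at h5
  exact h5.trans (relIndex_dvd_index_of_normal_right _ _)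

/-- if every element outside the normal subgroup `K` has class size prime to `q`, all Sylow
`q`-subgroups are conjugate under `K` -/
theorem cgd_sylow_conj_K [Finite G] (q : ℕ) [Fact q.Prime] (K : Subgroup G) [K.Normal]
    (hK : ∀ g : G, g ∉ K → ¬ q ∣ cs g) (Q Q' : Sylow q G) :
    ∃ k ∈ K, ∀ x ∈ (Q : Subgroup G), k * x * k⁻¹ ∈ (Q' : Subgroup G) := by
  have htop : K ⊔ Subgroup.centralizer ((Q : Subgroup G) : Set G) = ⊤ := by
    apply cgd_eq_top_of_forall_conj
    intro g
    by_cases hg : g ∈ K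
    · exact ⟨1, by simpa using Subgroup.mem_sup_left hg⟩
    · obtain ⟨Qg, hQg⟩ := cgd_exists_sylow_le q (Subgroup.centralizer ({g} : Set G)) (hK g hg)
      obtain ⟨a, ha⟩ := MulAction.exists_smul_eq G Q Qg
      refine ⟨a, Subgroup.mem_sup_right ?_⟩
      rw [Subgroup.mem_centralizer_iff]
      intro x hx
      have hx' : a * x * a⁻¹ ∈ (Qg : Subgroup G) := by
        rw [← ha, cgd_mem_smul_sylow_iff]
        have : a⁻¹ * (a * x * a⁻¹) * a = x := by group
        rw [this]; exact hx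
      have h1 : (a * x * a⁻¹) * g = g * (a * x * a⁻¹) := mem_cent.1 (hQg hx')
      calc x * (a⁻¹ * g * a) = a⁻¹ * ((a * x * a⁻¹) * g) * a := by group
        _ = a⁻¹ * (g * (a * x * a⁻¹)) * a := by rw [h1]
        _ = a⁻¹ * g * a * x := by group
  obtain ⟨g, hg⟩ := MulAction.exists_smul_eq G Q Q'
  have hgm : g ∈ (↑(K ⊔ Subgroup.centralizer ((Q : Subgroup G) : Set G)) : Set G) := by
    rw [htop]; trivial
  rw [Subgroup.normal_mul] at hgm
  obtain ⟨k, hk, c₀, hc₀, rfl⟩ := Set.mem_mul.1 hgm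
  refine ⟨k, hk, ?_⟩
  intro x hx
  rw [← hg, cgd_mem_smul_sylow_iff]
  have h1 : x * c₀ = c₀ * x := Subgroup.mem_centralizer_iff.1 hc₀ x hx
  have : (k * c₀)⁻¹ * (k * x * k⁻¹) * (k * c₀) = c₀⁻¹ * (x * c₀) := by group
  rw [this, h1]
  have : c₀⁻¹ * (c₀ * x) = x := by group
  rw [this]; exact hx

end Cfsg.Agent.Lib.Helper9
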