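import Mathlib
import Cfsg.Agent.Lib.Helper9.CGDiamD

set_option autoImplicit false

namespace Cfsg.Agent.Lib.Helper9

open Cfsg.Agent.Lib.Helper18.ClassGraph
open scoped Pointwise commutatorElement

variable {G : Type*} [Group G]

namespace CGDHyp

variable {p q : ℕ} {Sp Sq : Set ℕ} {x₀ : G}

/-- key lemma: no class size can involve both a prime of `Sq` and a prime outside `Sq` -/
theorem final [Finite G] (h : CGDHyp G p q Sp Sq x₀) (d₀ : G) (hd₀ : q ∣ cs d₀)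
    (c : G) (s' t : ℕ) (hs' : s'.Prime) (ht : t.Prime) (hs'S : s' ∈ Sq) (htS : t ∉ Sq)
    (hsc : s' ∣ cs c) (htc : t ∣ cs c) : False := by
  obtain ⟨d, hd, hgood⟩ := h.exists_good d₀ hd₀
  set Y : Subgroup G := Subgroup.normalClosure ({d} : Set G) with hY
  set K : Subgroup G := Subgroup.centralizer (Y : Set G) with hK
  haveI : Fact q.Prime := ⟨h.hq⟩
  have hYcomm : ∀ a ∈ Y, ∀ b ∈ Y, a * b = b * a := h.normalClosure_comm hd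
  have hYpow : ∀ a ∈ Y, a ^ (orderOf d) = 1 := h.pow_orderOf_eq_one_of_mem hd
  have hYn : ∀ a ∈ Y, ∀ g : G, g * a * g⁻¹ ∈ Y := fun a ha g =>
    (inferInstance : Y.Normal).conj_mem a ha g
  have hKn : ∀ k ∈ K, ∀ g : G, g * k * g⁻¹ ∈ K := fun k hk g =>
    (inferInstance : K.Normal).conj_mem k hk g
  have hKY : ∀ k ∈ K, ∀ y ∈ Y, k * y = y * k := by
    intro k hk y hy
    exact (Subgroup.mem_centralizer_iff.1 hk y hy).symm
  have hdY : d ∈ Y := Subgroup.subset_normalClosure (Set.mem_singleton d)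
  have hcK : c ∈ K := h.mem_K_of_seesQ hd hgood ⟨s', hs', hs'S, hsc⟩
  have hqc : ¬ q ∣ cs c := fun hq => htS (h.hq1 c t ht hq htc)
  have htx : ¬ t ∣ cs x₀ := fun h1 =>
    h.hE c t s' ht hs' (h.hp1 x₀ t ht h.hx h1) hs'S htc hsc
  have htd : ¬ t ∣ cs d := fun h1 => htS (h.hq1 d t ht hd h1)
  have htK : ¬ t ∣ K.index := h.not_dvd_index_K hd hgood t ht htx htd
  have hty : ∀ y ∈ Y, t ∣ cs (c * y) := fun y hy =>
    cgd_dvd_cs_mul_central K c y (fun k hk => hKY k hk y hy) t ht htK htc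
  -- it suffices to find `y ∈ Y` with `q ∣ cs (c * y)`
  by_contra _
  have hno : ∀ y ∈ Y, ¬ q ∣ cs (c * y) := by
    intro y hy hq
    exact htS (h.hq1 (c * y) t ht hq (hty y hy))
  -- Sylow q-subgroup centralizing c
  obtain ⟨Q, hQ⟩ := cgd_exists_sylow_le q (Subgroup.centralizer ({c} : Set G)) hqc
  -- element of Q outside K
  have hKd : K ≤ Subgroup.centralizer ({d} : Set G) := by
    intro k hk
    exact mem_cent.2 (hKY k hk d hdY)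
  have hqK : q ∣ K.index := hd.trans (Subgroup.index_dvd_of_le hKd)
  have hzex : ∃ z ∈ (Q : Subgroup G), z ∉ K := by
    by_contra hcon
    push Not at hcon
    have : (Q : Subgroup G) ≤ K := hcon
    exact Q.not_dvd_index (hqK.trans (Subgroup.index_dvd_of_le this))
  obtain ⟨z, hzQ, hzK⟩ := hzex
  have hzc : z * c = c * z := mem_cent.1 (hQ hzQ)
  -- all elements outside K have class size prime to q
  have houtK : ∀ g : G, g ∉ K → ¬ q ∣ cs g := by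
    intro g hg hq
    exact hg (h.mem_K_of_seesQ hd hgood (h.seesQ_of_dvd hq))
  -- E3
  have hE3 : ∀ y ∈ Y, ∃ u ∈ K, u * c * u⁻¹ = c * (y * (z * y * z⁻¹)⁻¹) := by
    intro y hy
    obtain ⟨Q', hQ'⟩ := cgd_exists_sylow_le q (Subgroup.centralizer ({c * y} : Set G)) (hno y hy)
    obtain ⟨k, hk, hkQ⟩ := cgd_sylow_conj_K q K houtK Q Q'
    have hz' : (k * z * k⁻¹) * (c * y) = (c * y) * (k * z * k⁻¹) := mem_cent.1 (hQ' (hkQ z hzQ))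
    have hky : k * y = y * k := hKY k hk y hy
    have hky2 : k * (z * y * z⁻¹) = (z * y * z⁻¹) * k := hKY k hk _ (hYn y hy z)
    have hk2 : z * k * z⁻¹ ∈ K := hKn k hk z
    refine ⟨k * (z * k * z⁻¹)⁻¹, K.mul_mem hk (K.inv_mem hk2), ?_⟩
    have e2 : (k * z * k⁻¹) * y * (k * z * k⁻¹)⁻¹ = z * y * z⁻¹ := by
      have hky' : k⁻¹ * y * k = y := by rw [mul_assoc, ← hky]; group
      calc (k * z * k⁻¹) * y * (k * z * k⁻¹)⁻¹ = k * (z * (k⁻¹ * y * k) * z⁻¹) * k⁻¹ := by group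
        _ = k * (z * y * z⁻¹) * k⁻¹ := by rw [hky']
        _ = (z * y * z⁻¹) * k * k⁻¹ := by rw [hky2]
        _ = z * y * z⁻¹ := by group
    have e3 : (k * z * k⁻¹) * c * (k * z * k⁻¹)⁻¹ =
        (k * (z * k * z⁻¹)⁻¹) * c * (k * (z * k * z⁻¹)⁻¹)⁻¹ := by
      have hzc' : z * c * z⁻¹ = c := by rw [hzc]; group
      calc (k * z * k⁻¹) * c * (k * z * k⁻¹)⁻¹
          = k * (z * k * z⁻¹)⁻¹ * (z * c * z⁻¹) * (z * k * z⁻¹) * k⁻¹ := by group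
        _ = k * (z * k * z⁻¹)⁻¹ * c * (z * k * z⁻¹) * k⁻¹ := by rw [hzc']
        _ = (k * (z * k * z⁻¹)⁻¹) * c * (k * (z * k * z⁻¹)⁻¹)⁻¹ := by group
    have e1 : (k * z * k⁻¹) * (c * y) * (k * z * k⁻¹)⁻¹ = c * y := by
      rw [hz']; group
    calc (k * (z * k * z⁻¹)⁻¹) * c * (k * (z * k * z⁻¹)⁻¹)⁻¹
        = (k * z * k⁻¹) * c * (k * z * k⁻¹)⁻¹ := e3.symm
      _ = ((k * z * k⁻¹) * (c * y) * (k * z * k⁻¹)⁻¹) *
            ((k * z * k⁻¹) * y * (k * z * k⁻¹)⁻¹)⁻¹ := by group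
      _ = (c * y) * (z * y * z⁻¹)⁻¹ := by rw [e1, e2]
      _ = c * (y * (z * y * z⁻¹)⁻¹) := by group
  -- the map v
  have hvmul : ∀ a ∈ Y, ∀ b ∈ Y,
      (a * b) * (z * (a * b) * z⁻¹)⁻¹ = (a * (z * a * z⁻¹)⁻¹) * (b * (z * b * z⁻¹)⁻¹) := by
    intro a ha b hb
    have hza : (z * a * z⁻¹)⁻¹ ∈ Y := Y.inv_mem (hYn a ha z)
    have hzb : (z * b * z⁻¹)⁻¹ ∈ Y := Y.inv_mem (hYn b hb z)
    have h1 : b * (z * a * z⁻¹)⁻¹ = (z * a * z⁻¹)⁻¹ * b := hYcomm b hb _ hza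
    have h0 : (z * b * z⁻¹)⁻¹ * (z * a * z⁻¹)⁻¹ = (z * a * z⁻¹)⁻¹ * (z * b * z⁻¹)⁻¹ :=
      hYcomm _ hzb _ hza
    calc (a * b) * (z * (a * b) * z⁻¹)⁻¹
        = a * b * ((z * b * z⁻¹)⁻¹ * (z * a * z⁻¹)⁻¹) := by group
      _ = a * b * ((z * a * z⁻¹)⁻¹ * (z * b * z⁻¹)⁻¹) := by rw [h0]
      _ = a * (b * (z * a * z⁻¹)⁻¹) * (z * b * z⁻¹)⁻¹ := by group
      _ = a * ((z * a * z⁻¹)⁻¹ * b) * (z * b * z⁻¹)⁻¹ := by rw [h1]
      _ = (a * (z * a * z⁻¹)⁻¹) * (b * (z * b * z⁻¹)⁻¹) := by group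
  have hvpow : ∀ a ∈ Y, ∀ n : ℕ,
      (a ^ n) * (z * (a ^ n) * z⁻¹)⁻¹ = (a * (z * a * z⁻¹)⁻¹) ^ n := by
    intro a ha n
    induction n with
    | zero => simp
    | succ n ih =>
      rw [pow_succ, hvmul (a ^ n) (Y.pow_mem ha n) a ha, ih, pow_succ]
  -- y₁ not centralized by z
  have hy1ex : ∃ y₁ ∈ Y, y₁ * (z * y₁ * z⁻¹)⁻¹ ≠ 1 := by
    by_contra hcon
    push Not at hcon
    apply hzK
    rw [hK, Subgroup.mem_centralizer_iff]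
    intro y hy
    have h1 := hcon y hy
    have h2 : y = z * y * z⁻¹ := by
      have := mul_inv_eq_one.1 h1
      exact this
    calc y * z = (z * y * z⁻¹) * z := by rw [← h2]
      _ = z * y := by group
  obtain ⟨y₁, hy₁, hv₁⟩ := hy1ex
  set v₁ : G := y₁ * (z * y₁ * z⁻¹)⁻¹ with hv₁def
  have hv₁Y : v₁ ∈ Y := Y.mul_mem hy₁ (Y.inv_mem (hYn y₁ hy₁ z))
  -- the K-class of c is closed under multiplication by powers of v₁
  have hclosed : ∀ s ∈ {w : G | ∃ u ∈ K, w = u * c * u⁻¹}, ∀ l ∈ Subgroup.zpowers v₁,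
      s * l ∈ {w : G | ∃ u ∈ K, w = u * c * u⁻¹} := by
    rintro s ⟨u₀, hu₀, rfl⟩ l hl
    have hfin : IsOfFinOrder v₁ := isOfFinOrder_of_finite v₁
    rw [← hfin.mem_powers_iff_mem_zpowers] at hl
    obtain ⟨n, rfl⟩ := (Submonoid.mem_powers_iff _ _).1 hl
    have hln : v₁ ^ n = (y₁ ^ n) * (z * (y₁ ^ n) * z⁻¹)⁻¹ := (hvpow y₁ hy₁ n).symm
    obtain ⟨u, hu, hu2⟩ := hE3 (y₁ ^ n) (Y.pow_mem hy₁ n)
    rw [← hln] at hu2
    have hlY : v₁ ^ n ∈ Y := Y.pow_mem hv₁Y n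
    have hcomm : u₀ * (v₁ ^ n) = (v₁ ^ n) * u₀ := hKY u₀ hu₀ _ hlY
    refine ⟨u₀ * u, K.mul_mem hu₀ hu, ?_⟩
    have hcomm' : u₀⁻¹ * (v₁ ^ n) = (v₁ ^ n) * u₀⁻¹ := hKY _ (K.inv_mem hu₀) _ hlY
    calc u₀ * c * u₀⁻¹ * v₁ ^ n = u₀ * c * (u₀⁻¹ * v₁ ^ n) := by group
      _ = u₀ * c * (v₁ ^ n * u₀⁻¹) := by rw [hcomm']
      _ = u₀ * (c * v₁ ^ n) * u₀⁻¹ := by group
      _ = u₀ * (u * c * u⁻¹) * u₀⁻¹ := by rw [hu2]
      _ = (u₀ * u) * c * (u₀ * u)⁻¹ := by group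
  have hdvd1 := cgd_card_dvd_of_mul_closed (Subgroup.zpowers v₁)
    {w : G | ∃ u ∈ K, w = u * c * u⁻¹} hclosed
  rw [Nat.card_zpowers, Cfsg.Agent.S4163.ncard_conj_orbit] at hdvd1
  have hdvd2 : orderOf v₁ ∣ cs c := hdvd1.trans (relIndex_dvd_index_of_normal_right _ _)
  have hdvd3 : orderOf v₁ ∣ orderOf d := orderOf_dvd_of_pow_eq_one (hYpow v₁ hv₁Y)
  have hne1 : orderOf v₁ ≠ 1 := fun h1 => hv₁ (orderOf_eq_one_iff.1 h1)
  obtain ⟨ℓ, hℓ, hℓd⟩ := Nat.exists_prime_and_dvd hne1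
  have hℓx : ℓ ∣ cs x₀ := hgood ℓ hℓ (hℓd.trans hdvd3)
  exact h.hE c ℓ s' hℓ hs' (h.hp1 x₀ ℓ hℓ h.hx hℓx) hs'S (hℓd.trans hdvd2) hsc

end CGDHyp

end Cfsg.Agent.Lib.Helper9
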