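import Mathlib
import Cfsg.Agent.Lib.Helper9.CGDiamE

set_option autoImplicit false

namespace Cfsg.Agent.Lib.Helper9

open Cfsg.Agent.Lib.Helper18.ClassGraph
open scoped Pointwise commutatorElement

variable {G : Type*} [Group G]

theorem cgd_mul_dvd {a b n : ℕ} (ha : a.Prime) (hb : b.Prime) (hab : a ≠ b) (h1 : a ∣ n)
    (h2 : b ∣ n) : a * b ∣ n :=
  Nat.Coprime.mul_dvd_of_dvd_of_dvd ((Nat.coprime_primes ha hb).2 hab) h1 h2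

/-- the class-size prime graph, when connected, has diameter at most 3 -/
theorem cgd_main [Finite G]
    (hconn : ∀ S : Set ℕ, (∃ p ∈ S, (p.Prime ∧ ∃ g : G, p ∣ cs g)) →
      (∃ q ∉ S, (q.Prime ∧ ∃ g : G, q ∣ cs g)) →
      ∃ p q : ℕ, (p.Prime ∧ ∃ g : G, p ∣ cs g) ∧ (q.Prime ∧ ∃ g : G, q ∣ cs g) ∧ p ∈ S ∧ q ∉ S ∧
        (∃ g : G, p * q ∣ cs g))
    (p q : ℕ) (hp : (p.Prime ∧ ∃ g : G, p ∣ cs g)) (hq : (q.Prime ∧ ∃ g : G, q ∣ cs g))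
    (hpq : p ≠ q) :
    (∃ g : G, p * q ∣ cs g) ∨
    (∃ r : ℕ, (r.Prime ∧ ∃ g : G, r ∣ cs g) ∧ r ≠ p ∧ r ≠ q ∧ (∃ g : G, p * r ∣ cs g) ∧
      (∃ g : G, r * q ∣ cs g)) ∨
    (∃ r s : ℕ, (r.Prime ∧ ∃ g : G, r ∣ cs g) ∧ (s.Prime ∧ ∃ g : G, s ∣ cs g) ∧ r ≠ p ∧ s ≠ q ∧
      r ≠ s ∧ r ≠ q ∧ s ≠ p ∧ (∃ g : G, p * r ∣ cs g) ∧ (∃ g : G, r * s ∣ cs g) ∧
      (∃ g : G, s * q ∣ cs g)) := by
  by_contra hcon
  have n1 : ¬ ∃ g : G, p * q ∣ cs g := fun h => hcon (Or.inl h)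
  have n2 : ¬ ∃ r : ℕ, (r.Prime ∧ ∃ g : G, r ∣ cs g) ∧ r ≠ p ∧ r ≠ q ∧ (∃ g : G, p * r ∣ cs g) ∧
      (∃ g : G, r * q ∣ cs g) := fun h => hcon (Or.inr (Or.inl h))
  have n3 : ¬ ∃ r s : ℕ, (r.Prime ∧ ∃ g : G, r ∣ cs g) ∧ (s.Prime ∧ ∃ g : G, s ∣ cs g) ∧ r ≠ p ∧
      s ≠ q ∧ r ≠ s ∧ r ≠ q ∧ s ≠ p ∧ (∃ g : G, p * r ∣ cs g) ∧ (∃ g : G, r * s ∣ cs g) ∧
      (∃ g : G, s * q ∣ cs g) := fun h => hcon (Or.inr (Or.inr h))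
  obtain ⟨hpp, gp, hgp⟩ := hp
  obtain ⟨hqp, gq, hgq⟩ := hq
  set Sp : Set ℕ := {r | r = p ∨ (r.Prime ∧ ∃ g : G, p * r ∣ cs g)} with hSp
  set Sq : Set ℕ := {s | s = q ∨ (s.Prime ∧ ∃ g : G, s * q ∣ cs g)} with hSq
  have hp1 : ∀ (g : G) (r : ℕ), r.Prime → p ∣ cs g → r ∣ cs g → r ∈ Sp := by
    intro g r hr h1 h2
    by_cases hrp : r = p
    · exact Or.inl hrp
    · exact Or.inr ⟨hr, g, cgd_mul_dvd hpp hr (Ne.symm hrp) h1 h2⟩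
  have hq1 : ∀ (g : G) (r : ℕ), r.Prime → q ∣ cs g → r ∣ cs g → r ∈ Sq := by
    intro g r hr h1 h2
    by_cases hrq : r = q
    · exact Or.inl hrq
    · exact Or.inr ⟨hr, g, cgd_mul_dvd hr hqp hrq h2 h1⟩
  -- case: p and s (neighbour of q) on a common class
  have F2 : ∀ s : ℕ, s.Prime → (∃ g₂ : G, s * q ∣ cs g₂) → ∀ g : G, p ∣ cs g → s ∣ cs g → False := by
    intro s hs ⟨g₂, hg₂⟩ g h1 h2
    by_cases hsp : s = p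
    · subst hsp; exact n1 ⟨g₂, hg₂⟩
    · by_cases hsq : s = q
      · subst hsq; exact n1 ⟨g, cgd_mul_dvd hpp hs (Ne.symm hsp) h1 h2⟩
      · exact n2 ⟨s, ⟨hs, g, h2⟩, hsp, hsq, ⟨g, cgd_mul_dvd hpp hs (Ne.symm hsp) h1 h2⟩, ⟨g₂, hg₂⟩⟩
  have F3 : ∀ r : ℕ, r.Prime → (∃ g₁ : G, p * r ∣ cs g₁) → ∀ g : G, r ∣ cs g → q ∣ cs g → False := by
    intro r hr ⟨g₁, hg₁⟩ g h1 h2
    by_cases hrq : r = q
    · subst hrq; exact n1 ⟨g₁, hg₁⟩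
    · by_cases hrp : r = p
      · subst hrp; exact n1 ⟨g, cgd_mul_dvd hr hqp hrq h1 h2⟩
      · exact n2 ⟨r, ⟨hr, g, h1⟩, hrp, hrq, ⟨g₁, hg₁⟩, ⟨g, cgd_mul_dvd hr hqp hrq h1 h2⟩⟩
  have hE : ∀ (g : G) (r s : ℕ), r.Prime → s.Prime → r ∈ Sp → s ∈ Sq → r ∣ cs g → s ∣ cs g →
      False := by
    intro g r s hr hs hrS hsS hrg hsg
    rcases hrS with hrp | ⟨_, g₁, hg₁⟩
    · subst hrp
      rcases hsS with hsq | ⟨_, g₂, hg₂⟩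
      · subst hsq
        exact n1 ⟨g, cgd_mul_dvd hr hs hpq hrg hsg⟩
      · exact F2 s hs ⟨g₂, hg₂⟩ g hrg hsg
    · rcases hsS with hsq | ⟨_, g₂, hg₂⟩
      · subst hsq
        exact F3 r hr ⟨g₁, hg₁⟩ g hrg hsg
      · by_cases hrp : r = p
        · subst hrp; exact F2 s hs ⟨g₂, hg₂⟩ g hrg hsg
        · by_cases hsq : s = q
          · subst hsq; exact F3 r hr ⟨g₁, hg₁⟩ g hrg hsg
          · by_cases hrq : r = q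
            · subst hrq; exact n1 ⟨g₁, hg₁⟩
            · by_cases hsp : s = p
              · subst hsp; exact n1 ⟨g₂, hg₂⟩
              · by_cases hrs : r = s
                · subst hrs
                  exact n2 ⟨r, ⟨hr, g, hrg⟩, hrp, hrq, ⟨g₁, hg₁⟩, ⟨g₂, hg₂⟩⟩
                · exact n3 ⟨r, s, ⟨hr, g, hrg⟩, ⟨hs, g, hsg⟩, hrp, hsq, hrs, hrq, hsp, ⟨g₁, hg₁⟩,
                    ⟨g, cgd_mul_dvd hr hs hrs hrg hsg⟩, ⟨g₂, hg₂⟩⟩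
  have hpSq : p ∉ Sq := by
    rintro (h | ⟨_, g, hg⟩)
    · exact hpq h
    · exact n1 ⟨g, hg⟩
  have hqSp : q ∉ Sp := by
    rintro (h | ⟨_, g, hg⟩)
    · exact hpq h.symm
    · exact n1 ⟨g, hg⟩
  have hqSq : q ∈ Sq := Or.inl rfl
  have hpSp : p ∈ Sp := Or.inl rfl
  -- element of maximal class size among the p- and q-elements
  haveI : Nonempty {g : G // p ∣ cs g ∨ q ∣ cs g} := ⟨⟨gp, Or.inl hgp⟩⟩
  obtain ⟨⟨b, hb⟩, hbmax⟩ := Finite.exists_max (fun t : {g : G // p ∣ cs g ∨ q ∣ cs g} => cs t.1)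
  rcases hb with hb | hb
  · have H : CGDHyp G p q Sp Sq b :=
      { hp := hpp, hq := hqp, hp1 := hp1, hq1 := hq1, hE := hE, hx := hb,
        hmax := fun y hy => hbmax ⟨y, Or.inr hy⟩ }
    obtain ⟨a, b', va, vb, haS, hbS, g, hab⟩ :=
      hconn Sq ⟨q, hqSq, hqp, gq, hgq⟩ ⟨p, hpSq, hpp, gp, hgp⟩
    exact H.final gq hgq g a b' va.1 vb.1 haS hbS (dvd_of_mul_right_dvd hab)
      (dvd_of_mul_left_dvd hab)
  · have H : CGDHyp G q p Sq Sp b :=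
      { hp := hqp, hq := hpp, hp1 := hq1, hq1 := hp1,
        hE := fun g r s hr hs hrS hsS hrg hsg => hE g s r hs hr hsS hrS hsg hrg, hx := hb,
        hmax := fun y hy => hbmax ⟨y, Or.inl hy⟩ }
    obtain ⟨a, b', va, vb, haS, hbS, g, hab⟩ :=
      hconn Sp ⟨p, hpSp, hpp, gp, hgp⟩ ⟨q, hqSp, hqp, gq, hgq⟩
    exact H.final gp hgp g a b' va.1 vb.1 haS hbS (dvd_of_mul_right_dvd hab)
      (dvd_of_mul_left_dvd hab)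

end Cfsg.Agent.Lib.Helper9
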