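import Mathlib
import Cfsg.Prelude.Def_Transfer
import Cfsg.Agent.Lib.Helper24.CycSylow1

set_option autoImplicit false

namespace Cfsg.Agent.Lib.Helper9

open Subgroup

/-- powers of a product `h * n` with `h` normalizing `N ∋ n`. -/
theorem cs_pow_mul_mem {G : Type*} [Group G] (N : Subgroup G) (h n : G)
    (hh : h ∈ Subgroup.normalizer (N : Set G)) (hn : n ∈ N) (k : ℕ) : ∃ n' ∈ N, (h * n) ^ k = h ^ k * n' := by
  induction k with
  | zero => exact ⟨1, N.one_mem, by simp⟩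
  | succ k ih =>
    obtain ⟨n', hn', he⟩ := ih
    refine ⟨h⁻¹ * n' * h * n, ?_, ?_⟩
    · apply N.mul_mem _ hn
      have := (Subgroup.mem_normalizer_iff.mp (Subgroup.inv_mem _ hh) n').mp hn'
      simpa using this
    · rw [pow_succ, he, pow_succ]; group

/-- product of a `p'`-subgroup with a normalizing `p'`-subgroup is a `p'`-group. -/
theorem cs_pprime_sup {G : Type*} [Group G] [Finite G] (p : ℕ) [hp : Fact p.Prime]
    (H N : Subgroup G) (hHN : H ≤ Subgroup.normalizer (N : Set G)) (hH : ¬ p ∣ Nat.card H) (hN : ¬ p ∣ Nat.card N) :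
    ¬ p ∣ Nat.card (H ⊔ N : Subgroup G) := by
  intro hdvd
  obtain ⟨w, hw⟩ := exists_prime_orderOf_dvd_card' (G := (H ⊔ N : Subgroup G)) p hdvd
  have hwmem : (w : G) ∈ ((H ⊔ N : Subgroup G) : Set G) := w.2
  rw [Subgroup.coe_mul_of_left_le_normalizer_right H N hHN] at hwmem
  obtain ⟨h, hh, n, hn, hhn⟩ := hwmem
  obtain ⟨n', hn', he⟩ := cs_pow_mul_mem N h n (hHN hh) hn (Nat.card H)
  have h1 : h ^ Nat.card H = 1 := by
    have := pow_card_eq_one' (G := H) (x := ⟨h, hh⟩)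
    exact congrArg Subtype.val this
  have h2 : n' ^ Nat.card N = 1 := by
    have := pow_card_eq_one' (G := N) (x := ⟨n', hn'⟩)
    exact congrArg Subtype.val this
  have h3 : (w : G) ^ (Nat.card H * Nat.card N) = 1 := by
    rw [← hhn, pow_mul, he, h1, one_mul, h2]
  have h4 : orderOf (w : G) = p := by rw [Subgroup.orderOf_coe]; exact hw
  have h5 : p ∣ Nat.card H * Nat.card N := by
    rw [← h4]; exact orderOf_dvd_of_pow_eq_one h3
  rcases (Nat.Prime.dvd_mul hp.out).mp h5 with h | h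
  · exact hH h
  · exact hN h


/-- Data extracted from a normal `p`-complement of a subgroup `H` containing the Sylow subgroup
`P`. -/
theorem cs_npc_data {G : Type*} [Group G] [Finite G] {p : ℕ} [hp : Fact p.Prime] (P : Sylow p G)
    (H : Subgroup G) (hPH : (P : Subgroup G) ≤ H) (h : Cfsg.HasNormalPComplement p ↥H) :
    ∃ N : Subgroup G, N ≤ H ∧ (∀ h ∈ H, ∀ n ∈ N, h * n * h⁻¹ ∈ N) ∧ ¬ p ∣ Nat.card N ∧
      (∀ h ∈ H, Nat.Coprime (orderOf h) p → h ∈ N) ∧
      (∀ h ∈ H, ∃ n ∈ N, ∃ g ∈ (P : Subgroup G), h = n * g) := by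
  obtain ⟨Q, N', hN'n, hc⟩ := h
  haveI := hN'n
  have hcardN : Nat.card N' = (Q : Subgroup H).index := hc.index_eq_card.symm
  have hNp : ¬ p ∣ Nat.card N' := by rw [hcardN]; exact Q.not_dvd_index
  have hmul : Nat.card N' * Nat.card (Q : Subgroup H) = Nat.card H := hc.card_mul_card
  set PH : Sylow p H := P.subtype hPH with hPHdef
  have hPHcoe : (PH : Subgroup H) = (P : Subgroup G).subgroupOf H := Sylow.coe_subtype P hPH
  have hcardPQ : Nat.card (PH : Subgroup H) = Nat.card (Q : Subgroup H) := by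
    rw [Sylow.card_eq_multiplicity, Sylow.card_eq_multiplicity]
  obtain ⟨k, hk⟩ := (Q.2).exists_card_eq
  have hcop : Nat.Coprime (Nat.card N') (Nat.card (PH : Subgroup H)) := by
    rw [hcardPQ, hk]
    apply Nat.Coprime.pow_right
    exact (Nat.Prime.coprime_iff_not_dvd hp.out).mpr hNp |>.symm
  have hc2 : IsComplement' N' (PH : Subgroup H) :=
    isComplement'_of_coprime (by rw [hcardPQ]; exact hmul) hcop
  have hmemN : ∀ h : H, Nat.Coprime (orderOf h) p → h ∈ N' := by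
    intro h hco
    rw [← QuotientGroup.eq_one_iff]
    have h1 : ((h : H ⧸ N')) ^ orderOf h = 1 := by
      rw [← QuotientGroup.mk_pow, pow_orderOf_eq_one]; rfl
    have h2 : ((h : H ⧸ N')) ^ Nat.card (H ⧸ N') = 1 := pow_card_eq_one'
    have h3 : Nat.card (H ⧸ N') = p ^ k := by
      rw [← Subgroup.index_eq_card, hc.symm.index_eq_card, hk]
    rw [h3] at h2
    have h4 : orderOf (h : H ⧸ N') ∣ Nat.gcd (orderOf h) (p ^ k) :=
      Nat.dvd_gcd (orderOf_dvd_of_pow_eq_one h1) (orderOf_dvd_of_pow_eq_one h2)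
    have h5 : Nat.gcd (orderOf h) (p ^ k) = 1 := Nat.Coprime.pow_right k hco
    rw [h5] at h4
    exact orderOf_eq_one_iff.mp (Nat.dvd_one.mp h4)
  refine ⟨N'.map H.subtype, ?_, ?_, ?_, ?_, ?_⟩
  · rintro _ ⟨n, _, rfl⟩
    exact n.2
  · rintro h hh _ ⟨n, hn, rfl⟩
    refine ⟨⟨h, hh⟩ * n * ⟨h, hh⟩⁻¹, hN'n.conj_mem n hn ⟨h, hh⟩, ?_⟩
    simp
  · rw [Subgroup.card_map_of_injective (Subgroup.subtype_injective H)]
    exact hNp
  · intro h hh hco
    refine ⟨⟨h, hh⟩, hmemN ⟨h, hh⟩ ?_, rfl⟩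
    rwa [Subgroup.orderOf_mk]
  · intro h hh
    obtain ⟨⟨n, g⟩, hng, -⟩ := (isComplement'_def.mp hc2).existsUnique ⟨h, hh⟩
    refine ⟨(n : H), ⟨n, n.2, rfl⟩, ((g : H) : G), ?_, ?_⟩
    · have hmemPH : ∀ c : H, c ∈ (PH : Subgroup H) ↔ (c : G) ∈ (P : Subgroup G) := by
        intro c
        rw [hPHcoe, Subgroup.mem_subgroupOf]
      exact (hmemPH g).mp g.2
    · have := congrArg Subtype.val hng
      simpa using this.symm


/-- the norm map of an automorphism of finite order on a commutative group -/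
noncomputable def csNorm {Q : Type*} [CommGroup Q] (σ : MulAut Q) (m : ℕ) : Q →* Q :=
  ∏ i ∈ Finset.range m, ((σ ^ i : MulAut Q) : Q ≃* Q).toMonoidHom

theorem csNorm_apply {Q : Type*} [CommGroup Q] (σ : MulAut Q) (m : ℕ) (g : Q) :
    csNorm σ m g = ∏ i ∈ Finset.range m, (σ ^ i) g := by
  unfold csNorm
  rw [MonoidHom.finsetProd_apply]
  rfl

theorem csNorm_shift {Q : Type*} [CommGroup Q] (σ : MulAut Q) (m : ℕ) (hm : σ ^ m = 1) (g : Q) :
    csNorm σ m (σ g) = csNorm σ m g := by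
  rw [csNorm_apply, csNorm_apply]
  have h1 : ∀ i, (σ ^ i) (σ g) = (σ ^ (i + 1)) g := by
    intro i
    rw [pow_succ]; rfl
  simp_rw [h1]
  have h2 := Finset.prod_range_succ' (fun i => (σ ^ i) g) m
  have h3 := Finset.prod_range_succ (fun i => (σ ^ i) g) m
  rw [h3] at h2
  simp only [hm, pow_zero] at h2
  exact (mul_right_cancel h2).symm

theorem csNorm_fixed {Q : Type*} [CommGroup Q] (σ : MulAut Q) (m : ℕ) (f : Q) (hf : σ f = f) :
    csNorm σ m f = f ^ m := by
  rw [csNorm_apply]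
  have h1 : ∀ i, (σ ^ i) f = f := by
    intro i
    induction i with
    | zero => simp
    | succ i ih => rw [pow_succ]; show (σ ^ i) (σ f) = f; rw [hf, ih]
  simp_rw [h1]
  simp

/-- a coprime automorphism of a finite commutative group in which any two nontrivial cyclic
subgroups meet nontrivially, fixing a nontrivial element, is trivial. -/
theorem cs_aut_fixed_all {Q : Type*} [CommGroup Q] [Finite Q] (σ : MulAut Q) (m : ℕ)
    (hm : σ ^ m = 1) (hcop : Nat.Coprime m (Nat.card Q))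
    (hinter : ∀ c f : Q, c ≠ 1 → f ≠ 1 → ∃ w, w ≠ 1 ∧ w ∈ zpowers c ∧ w ∈ zpowers f)
    (f₀ : Q) (hf₀ : f₀ ≠ 1) (hfix : σ f₀ = f₀) : ∀ g, σ g = g := by
  intro g
  by_contra hg
  have hc : g⁻¹ * σ g ≠ 1 := by
    intro h
    apply hg
    have := inv_mul_eq_one.mp h
    exact this.symm
  obtain ⟨w, hw1, hwc, hwf⟩ := hinter _ _ hc hf₀
  obtain ⟨i, rfl⟩ := Subgroup.mem_zpowers_iff.mp hwc
  obtain ⟨j, hj⟩ := Subgroup.mem_zpowers_iff.mp hwf
  have hτc : csNorm σ m (g⁻¹ * σ g) = 1 := by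
    rw [map_mul, map_inv, csNorm_shift σ m hm, inv_mul_cancel]
  have hτw : csNorm σ m ((g⁻¹ * σ g) ^ i) = 1 := by
    rw [map_zpow, hτc, one_zpow]
  have hσw : σ ((g⁻¹ * σ g) ^ i) = (g⁻¹ * σ g) ^ i := by
    rw [← hj, map_zpow, hfix]
  rw [csNorm_fixed σ m _ hσw] at hτw
  have h1 : orderOf ((g⁻¹ * σ g) ^ i) ∣ m := orderOf_dvd_of_pow_eq_one hτw
  have h2 : orderOf ((g⁻¹ * σ g) ^ i) ∣ Nat.card Q := orderOf_dvd_natCard _
  have h3 : orderOf ((g⁻¹ * σ g) ^ i) = 1 := Nat.eq_one_of_dvd_coprimes hcop h1 h2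
  exact hw1 (orderOf_eq_one_iff.mp h3)


theorem cs_exists_pow_order_p {Q : Type*} [Group Q] [Finite Q] {p : ℕ} [hp : Fact p.Prime]
    (hQ : IsPGroup p Q) (c : Q) (hc : c ≠ 1) : ∃ j : ℕ, orderOf (c ^ j) = p := by
  obtain ⟨k, hk⟩ := (IsPGroup.iff_orderOf.mp hQ) c
  have hk0 : k ≠ 0 := by
    rintro rfl
    rw [pow_zero, orderOf_eq_one_iff] at hk
    exact hc hk
  refine ⟨orderOf c / p, orderOf_pow_orderOf_div (orderOf_pos c).ne' ?_⟩
  rw [hk]
  exact dvd_pow_self p hk0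

theorem cs_cyc_inter {Q : Type*} [Group Q] [Finite Q] [IsCyclic Q] {p : ℕ} [hp : Fact p.Prime]
    (hQ : IsPGroup p Q) (c f : Q) (hc : c ≠ 1) (hf : f ≠ 1) :
    ∃ w, w ≠ 1 ∧ w ∈ zpowers c ∧ w ∈ zpowers f := by
  obtain ⟨i, hi⟩ := cs_exists_pow_order_p hQ c hc
  obtain ⟨j, hj⟩ := cs_exists_pow_order_p hQ f hf
  refine ⟨f ^ j, ?_, ?_, ?_⟩
  · intro h
    rw [h, orderOf_one] at hj
    exact hp.out.one_lt.ne hj
  · have h1 : f ^ j ∈ zpowers (c ^ i) :=
      Cfsg.Agent.Lib.Helper24.cs_mem_zpowers_aux p hp.out (c ^ i) (f ^ j) hi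
        (by rw [← hj, pow_orderOf_eq_one])
    exact (Subgroup.zpowers_le.mpr (Subgroup.pow_mem _ (Subgroup.mem_zpowers c) i)) h1
  · exact Subgroup.pow_mem _ (Subgroup.mem_zpowers f) j

/-- **(T1)** A `p'`-element normalizing a cyclic `p`-subgroup and centralizing a nontrivial element
of it centralizes it. -/
theorem cs_fix_all {G : Type*} [Group G] [Finite G] {p : ℕ} [hp : Fact p.Prime] (P : Subgroup G)
    (hP : IsCyclic P) (hPp : IsPGroup p P) (k : G) (hk : k ∈ Subgroup.normalizer (P : Set G))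
    (hko : Nat.Coprime (orderOf k) p) (f : G) (hf : f ∈ P) (hf1 : f ≠ 1) (hkf : k * f = f * k) :
    ∀ g ∈ P, k * g = g * k := by
  haveI := hP
  letI : CommGroup P := IsCyclic.commGroup
  set σ : MulAut P := P.normalizerMonoidHom ⟨k, hk⟩ with hσ
  have hσapp : ∀ g : P, ((σ g : P) : G) = k * g * k⁻¹ := fun g => rfl
  have hm : σ ^ orderOf k = 1 := by
    rw [hσ, ← map_pow]
    have : (⟨k, hk⟩ : Subgroup.normalizer (P : Set G)) ^ orderOf k = 1 := by
      apply Subtype.ext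
      simp [pow_orderOf_eq_one]
    rw [this, map_one]
  obtain ⟨n, hn⟩ := (IsPGroup.iff_card.mp hPp)
  have hcop : Nat.Coprime (orderOf k) (Nat.card P) := by
    rw [hn]; exact Nat.Coprime.pow_right n hko
  have hfix : σ ⟨f, hf⟩ = ⟨f, hf⟩ := by
    apply Subtype.ext
    rw [hσapp]
    show k * f * k⁻¹ = f
    rw [hkf, mul_inv_cancel_right]
  have hf1' : (⟨f, hf⟩ : P) ≠ 1 := by
    intro h
    exact hf1 (congrArg Subtype.val h)
  have key := cs_aut_fixed_all σ (orderOf k) hm hcop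
    (fun c f hc hf => cs_cyc_inter hPp c f hc hf) ⟨f, hf⟩ hf1' hfix
  intro g hg
  have := congrArg Subtype.val (key ⟨g, hg⟩)
  rw [hσapp] at this
  have h2 : k * g * k⁻¹ = g := this
  calc k * g = k * g * k⁻¹ * k := by group
    _ = g * k := by rw [h2]


/-- **(T2)** if `k` normalizes the finite commutative subgroup `P` and fixes no nontrivial element,
every element of `P` is a commutator with `k`. -/
theorem cs_comm_surj {G : Type*} [Group G] [Finite G] (P : Subgroup G)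
    (k : G)
    (hk : k ∈ Subgroup.normalizer (P : Set G)) (hfpf : ∀ g ∈ P, k * g = g * k → g = 1) :
    ∀ g ∈ P, ∃ h ∈ P, g = h⁻¹ * k * h * k⁻¹ := by
  have hconj : ∀ h ∈ P, k * h * k⁻¹ ∈ P := fun h hh => (Subgroup.mem_normalizer_iff.mp hk h).mp hh
  let θ : P → P := fun h => ⟨(h : G)⁻¹ * (k * h * k⁻¹), P.mul_mem (P.inv_mem h.2) (hconj h h.2)⟩
  have hθinj : Function.Injective θ := by
    intro a b hab
    have h1 : (a : G)⁻¹ * (k * a * k⁻¹) = (b : G)⁻¹ * (k * b * k⁻¹) := congrArg Subtype.val hab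
    -- (a b⁻¹) is fixed by k
    have hfix : k * ((a : G) * (b : G)⁻¹) = ((a : G) * (b : G)⁻¹) * k := by
      have h2 : (k * a * k⁻¹) = (a : G) * ((b : G)⁻¹ * (k * b * k⁻¹)) := by
        rw [← h1]; group
      have h3 : (a : G) * ((b : G)⁻¹ * (k * b * k⁻¹)) = (a : G) * (b : G)⁻¹ * (k * b * k⁻¹) := by
        group
      have h4 : k * ((a : G) * (b : G)⁻¹) * k⁻¹ = (k * a * k⁻¹) * (k * b * k⁻¹)⁻¹ := by group
      have h5 : (k * a * k⁻¹) * (k * b * k⁻¹)⁻¹ = (a : G) * (b : G)⁻¹ := by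
        rw [h2, h3]; group
      calc k * ((a : G) * (b : G)⁻¹) = k * ((a : G) * (b : G)⁻¹) * k⁻¹ * k := by group
        _ = ((a : G) * (b : G)⁻¹) * k := by rw [h4, h5]
    have h6 := hfpf _ (P.mul_mem a.2 (P.inv_mem b.2)) hfix
    apply Subtype.ext
    exact mul_inv_eq_one.mp h6
  have hθsurj : Function.Surjective θ := Finite.surjective_of_injective hθinj
  intro g hg
  obtain ⟨h, hh⟩ := hθsurj ⟨g, hg⟩
  refine ⟨h, h.2, ?_⟩
  have := congrArg Subtype.val hh
  simp only [θ] at this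
  rw [← this]; group


open scoped IsMulCommutative in
/-- In a perfect group, a commutative Sylow subgroup meets the centre of its normalizer
trivially (transfer). -/
theorem cs_transfer {G : Type*} [Group G] [Finite G] (hperf : commutator G = ⊤) {s : ℕ}
    [Fact s.Prime] (S : Sylow s G) [IsMulCommutative S] (z : G) (hz : z ∈ S)
    (hcent : ∀ n ∈ Subgroup.normalizer ((S : Subgroup G) : Set G), n * z = z * n) : z = 1 := by
  have key : ∀ (k : ℕ) (g₀ : G), g₀⁻¹ * z ^ k * g₀ ∈ (S : Subgroup G) →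
      g₀⁻¹ * z ^ k * g₀ = z ^ k := by
    intro k g₀ hk
    obtain ⟨n, hn, hconj⟩ := S.conj_eq_normalizer_conj_of_mem (z ^ k) g₀
      ((S : Subgroup G).pow_mem hz k) hk
    rw [hconj]
    have h1 : Commute n z := hcent n hn
    have h2 : n * z ^ k = z ^ k * n := (h1.pow_right k)
    rw [mul_assoc, ← h2, inv_mul_cancel_left]
  have hV := MonoidHom.transfer_eq_pow (MonoidHom.id ↥(S : Subgroup G)) z key
  have hker : MonoidHom.transfer (MonoidHom.id ↥(S : Subgroup G)) z = 1 := by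
    apply Abelianization.commutator_subset_ker
    rw [hperf]; trivial
  rw [hker] at hV
  have h1 : z ^ (S : Subgroup G).index = 1 := by
    have := congrArg Subtype.val hV
    simpa using this.symm
  have h2 : z ^ Nat.card (S : Subgroup G) = 1 := by
    have h := pow_card_eq_one' (G := ↥(S : Subgroup G)) (x := ⟨z, hz⟩)
    exact congrArg Subtype.val h
  have hcop : (Nat.card (S : Subgroup G)).Coprime (S : Subgroup G).index := S.card_coprime_index
  have h3 : orderOf z ∣ Nat.gcd (Nat.card (S : Subgroup G)) (S : Subgroup G).index :=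
    Nat.dvd_gcd (orderOf_dvd_of_pow_eq_one h2) (orderOf_dvd_of_pow_eq_one h1)
  rw [hcop] at h3
  exact orderOf_eq_one_iff.mp (Nat.dvd_one.mp h3)

/-- a `p`-element of the normalizer of a Sylow `p`-subgroup lies in it. -/
theorem cs_p_mem_of_normalizer {G : Type*} [Group G] {p : ℕ} [Fact p.Prime] (P : Sylow p G)
    (q : G) (hq : q ∈ Subgroup.normalizer ((P : Subgroup G) : Set G))
    (hqp : IsPGroup p (Subgroup.zpowers q)) : q ∈ (P : Subgroup G) := by
  have h1 : IsPGroup p (Subgroup.zpowers q ⊔ (P : Subgroup G) : Subgroup G) :=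
    IsPGroup.to_sup_of_normal_right' hqp P.2 (by rw [Subgroup.zpowers_le]; exact hq)
  have h2 := P.is_maximal' h1 le_sup_right
  have h3 : q ∈ (Subgroup.zpowers q ⊔ (P : Subgroup G) : Subgroup G) :=
    Subgroup.mem_sup_left (Subgroup.mem_zpowers q)
  rw [h2] at h3
  exact h3

/-- an element conjugating the finite subgroup `P` into itself normalizes it. -/
theorem cs_mem_normalizer_of_conj_le {G : Type*} [Group G] [Finite G] (P : Subgroup G) (u : G)
    (h : ∀ g ∈ P, u * g * u⁻¹ ∈ P) : u ∈ Subgroup.normalizer (P : Set G) := by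
  rw [Subgroup.mem_normalizer_iff]
  intro g
  refine ⟨h g, ?_⟩
  intro hg
  -- conjugation by u is an injective self-map of the finite set P
  let f : P → P := fun a => ⟨u * a * u⁻¹, h a a.2⟩
  have hf : Function.Injective f := by
    intro a b hab
    have := congrArg Subtype.val hab
    simp only [f] at this
    apply Subtype.ext
    have h1 : u⁻¹ * (u * (a : G) * u⁻¹) * u = u⁻¹ * (u * (b : G) * u⁻¹) * u := by rw [this]
    simpa [mul_assoc] using h1
  obtain ⟨a, ha⟩ := Finite.surjective_of_injective hf ⟨u * g * u⁻¹, hg⟩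
  have := congrArg Subtype.val ha
  simp only [f] at this
  have h2 : (a : G) = g := by
    have h1 : u⁻¹ * (u * (a : G) * u⁻¹) * u = u⁻¹ * (u * g * u⁻¹) * u := by rw [this]
    simpa [mul_assoc] using h1
  rw [← h2]; exact a.2

end Cfsg.Agent.Lib.Helper9
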