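import Mathlib
import Cfsg.Prelude.Def_Transfer
import Cfsg.Agent.Lib.Helper9.CS1

set_option autoImplicit false

namespace Cfsg.Agent.Lib.Helper9

open Subgroup

open scoped commutatorElement

/-- Data of the configuration: a Sylow `p`-subgroup `P`, a complement `K` of `P` in `N_G(P)` and an
element `x ∈ K` not centralizing `P`. -/
structure CSD (p : ℕ) (G : Type*) [Group G] where
  P : Sylow p G
  K : Subgroup G
  x : G

structure CSD.Good {p : ℕ} {G : Type*} [Group G] (D : CSD p G) : Prop where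
  cyc : IsCyclic (D.P : Subgroup G)
  ab : ∀ H : Subgroup G, ¬ p ∣ Nat.card H → ∀ a ∈ H, ∀ b ∈ H, a * b = b * a
  KM : D.K ≤ Subgroup.normalizer ((D.P : Subgroup G) : Set G)
  Kp : ¬ p ∣ Nat.card D.K
  PK : ∀ m ∈ Subgroup.normalizer ((D.P : Subgroup G) : Set G),
    ∃ g ∈ (D.P : Subgroup G), ∃ k ∈ D.K, m = g * k
  xK : D.x ∈ D.K
  xP : ∃ g ∈ (D.P : Subgroup G), D.x * g ≠ g * D.x
  cardM : Nat.card (Subgroup.normalizer ((D.P : Subgroup G) : Set G)) =
    Nat.card (D.P : Subgroup G) * Nat.card D.K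

variable {p : ℕ} [hp : Fact p.Prime] {G : Type*} [Group G] [Finite G] {D : CSD p G}

theorem CSD.Good.Pcomm (h : D.Good) : ∀ a ∈ (D.P : Subgroup G), ∀ b ∈ (D.P : Subgroup G),
    a * b = b * a :=
  Cfsg.Agent.Lib.Helper24.cs_comm (D.P : Subgroup G) h.cyc

theorem cs_coprime_of_mem {H : Subgroup G} (hH : ¬ p ∣ Nat.card H) (k : G) (hk : k ∈ H) :
    Nat.Coprime (orderOf k) p := by
  rw [Nat.coprime_comm, Nat.Prime.coprime_iff_not_dvd hp.out]
  intro hd
  apply hH
  have h1 : orderOf k ∣ Nat.card H := by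
    have := orderOf_dvd_natCard (⟨k, hk⟩ : H)
    rwa [Subgroup.orderOf_mk] at this
  exact hd.trans h1

theorem CSD.Good.K_ord (h : D.Good) (k : G) (hk : k ∈ D.K) : Nat.Coprime (orderOf k) p :=
  cs_coprime_of_mem h.Kp k hk

theorem CSD.Good.xM (h : D.Good) : D.x ∈ Subgroup.normalizer ((D.P : Subgroup G) : Set G) :=
  h.KM h.xK

/-- an element of `K` fixing a nontrivial element of `P` centralizes `P` -/
theorem CSD.Good.fix_all (h : D.Good) (k : G) (hk : k ∈ D.K) (f : G) (hf : f ∈ (D.P : Subgroup G))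
    (hf1 : f ≠ 1) (hkf : k * f = f * k) : ∀ g ∈ (D.P : Subgroup G), k * g = g * k :=
  cs_fix_all (D.P : Subgroup G) h.cyc D.P.2 k (h.KM hk) (h.K_ord k hk) f hf hf1 hkf

theorem CSD.Good.x_fpf (h : D.Good) : ∀ g ∈ (D.P : Subgroup G), D.x * g = g * D.x → g = 1 := by
  intro g hg hxg
  by_contra hg1
  obtain ⟨g', hg', hne⟩ := h.xP
  exact hne (h.fix_all D.x h.xK g hg hg1 hxg g' hg')

theorem CSD.Good.x_surj (h : D.Good) :
    ∀ g ∈ (D.P : Subgroup G), ∃ a ∈ (D.P : Subgroup G), g = a⁻¹ * D.x * a * D.x⁻¹ :=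
  cs_comm_surj (D.P : Subgroup G) D.x h.xM h.x_fpf

/-- **(CL)** a `p'`-subgroup normalized by `x` and `P` is centralized by `P`. -/
theorem CSD.Good.CL (h : D.Good) (N : Subgroup G) (hN : ¬ p ∣ Nat.card N)
    (hxN : ∀ n ∈ N, D.x * n * D.x⁻¹ ∈ N)
    (hPN : ∀ g ∈ (D.P : Subgroup G), ∀ n ∈ N, g * n * g⁻¹ ∈ N) :
    ∀ g ∈ (D.P : Subgroup G), ∀ n ∈ N, g * n = n * g := by
  have hxnorm : D.x ∈ Subgroup.normalizer (N : Set G) := cs_mem_normalizer_of_conj_le N D.x hxN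
  have hzx : ¬ p ∣ Nat.card (Subgroup.zpowers D.x) := by
    rw [Nat.card_zpowers]
    have := h.K_ord D.x h.xK
    rw [Nat.coprime_comm, Nat.Prime.coprime_iff_not_dvd hp.out] at this
    exact this
  have hJ := cs_pprime_sup p (Subgroup.zpowers D.x) N
    (by rw [Subgroup.zpowers_le]; exact hxnorm) hzx hN
  have hxc : ∀ n ∈ N, D.x * n = n * D.x := by
    intro n hn
    exact h.ab _ hJ D.x (Subgroup.mem_sup_left (Subgroup.mem_zpowers _)) n
      (Subgroup.mem_sup_right hn)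
  intro g hg n hn
  obtain ⟨a, ha, rfl⟩ := h.x_surj g hg
  have h1 := hxc _ (hPN a ha n hn)
  have h2 := hxc n hn
  -- (a⁻¹ x a) n = n (a⁻¹ x a)
  have h3 : (a⁻¹ * D.x * a) * n = n * (a⁻¹ * D.x * a) := by
    calc (a⁻¹ * D.x * a) * n = a⁻¹ * (D.x * (a * n * a⁻¹)) * a := by group
      _ = a⁻¹ * ((a * n * a⁻¹) * D.x) * a := by rw [h1]
      _ = n * (a⁻¹ * D.x * a) := by group
  have h4 : D.x⁻¹ * n = n * D.x⁻¹ := by
    calc D.x⁻¹ * n = D.x⁻¹ * (n * D.x) * D.x⁻¹ := by group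
      _ = D.x⁻¹ * (D.x * n) * D.x⁻¹ := by rw [h2]
      _ = n * D.x⁻¹ := by group
  calc a⁻¹ * D.x * a * D.x⁻¹ * n = (a⁻¹ * D.x * a) * (D.x⁻¹ * n) := by group
    _ = (a⁻¹ * D.x * a) * (n * D.x⁻¹) := by rw [h4]
    _ = ((a⁻¹ * D.x * a) * n) * D.x⁻¹ := by group
    _ = (n * (a⁻¹ * D.x * a)) * D.x⁻¹ := by rw [h3]
    _ = n * (a⁻¹ * D.x * a * D.x⁻¹) := by group


/-- Burnside's normal `p`-complement theorem for a subgroup `C ≥ P`, in the form used here. -/
theorem cs_npc_of_burnside (P : Sylow p G) (C : Subgroup G) (hPC : (P : Subgroup G) ≤ C)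
    (hb : ∀ c ∈ C, c ∈ Subgroup.normalizer ((P : Subgroup G) : Set G) →
      ∀ g ∈ (P : Subgroup G), c * g = g * c) : Cfsg.HasNormalPComplement p ↥C := by
  set PC : Sylow p C := P.subtype hPC with hPCdef
  have hPCcoe : (PC : Subgroup C) = (P : Subgroup G).subgroupOf C := Sylow.coe_subtype P hPC
  have hmemPC : ∀ c : C, c ∈ (PC : Subgroup C) ↔ (c : G) ∈ (P : Subgroup G) := by
    intro c
    rw [hPCcoe, Subgroup.mem_subgroupOf]
  have hB : Subgroup.normalizer ((PC : Subgroup C) : Set C) ≤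
      Subgroup.centralizer ((PC : Subgroup C) : Set C) := by
    intro c hc
    rw [Subgroup.mem_centralizer_iff]
    intro g hg
    have hcn : (c : G) ∈ Subgroup.normalizer ((P : Subgroup G) : Set G) := by
      apply cs_mem_normalizer_of_conj_le
      intro g' hg'
      have h1 : (⟨g', hPC hg'⟩ : C) ∈ (PC : Subgroup C) := (hmemPC _).mpr hg'
      have h2 := (Subgroup.mem_normalizer_iff.mp hc _).mp h1
      have h3 := (hmemPC _).mp h2
      simpa using h3
    have h4 := hb c c.2 hcn g ((hmemPC g).mp hg)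
    apply Subtype.ext
    simpa using h4.symm
  exact ⟨PC, (MonoidHom.transferSylow PC hB).ker, inferInstance,
    MonoidHom.ker_transferSylow_isComplement' PC hB⟩

theorem cs_orderOf_conj (u n : G) : orderOf (u * n * u⁻¹) = orderOf n := by
  have := orderOf_injective (MulAut.conj u).toMonoidHom (MulAut.conj u).injective n
  rw [← this]
  rfl

/-- **(T3)** the centralizer of an element of order `p` of `P` centralizes `P`. -/
theorem CSD.Good.cent_le_aux (h : D.Good) (z₀ : G) (hz₀ : z₀ ∈ (D.P : Subgroup G))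
    (hz₀p : orderOf z₀ = p) :
    ∀ c, c * z₀ = z₀ * c → ∀ g ∈ (D.P : Subgroup G), c * g = g * c := by
  have hz₀1 : z₀ ≠ 1 := by
    intro h1
    rw [h1, orderOf_one] at hz₀p
    exact hp.out.one_lt.ne hz₀p
  set C : Subgroup G := Subgroup.centralizer ({z₀} : Set G) with hC
  have hmemC : ∀ c, c ∈ C ↔ c * z₀ = z₀ * c := by
    intro c
    rw [hC, Subgroup.mem_centralizer_iff]
    constructor
    · intro hc; exact (hc z₀ rfl).symm
    · rintro hc _ rfl; exact hc.symm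
  have hPC : (D.P : Subgroup G) ≤ C := by
    intro g hg
    rw [hmemC]
    exact h.Pcomm g hg z₀ hz₀
  -- Burnside hypothesis
  have hb : ∀ c ∈ C, c ∈ Subgroup.normalizer ((D.P : Subgroup G) : Set G) →
      ∀ g ∈ (D.P : Subgroup G), c * g = g * c := by
    intro c hcC hcn g hg
    obtain ⟨g₁, hg₁, k₁, hk₁, rfl⟩ := h.PK c hcn
    have hk₁z : k₁ * z₀ = z₀ * k₁ := by
      have h1 := (hmemC _).mp hcC
      have h2 := h.Pcomm g₁ hg₁ z₀ hz₀
      calc k₁ * z₀ = g₁⁻¹ * (g₁ * k₁ * z₀) := by group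
        _ = g₁⁻¹ * (z₀ * (g₁ * k₁)) := by rw [h1]
        _ = g₁⁻¹ * (z₀ * g₁) * k₁ := by group
        _ = g₁⁻¹ * (g₁ * z₀) * k₁ := by rw [h2]
        _ = z₀ * k₁ := by group
    have h3 := h.fix_all k₁ hk₁ z₀ hz₀ hz₀1 hk₁z g hg
    have h4 := h.Pcomm g₁ hg₁ g hg
    calc g₁ * k₁ * g = g₁ * (k₁ * g) := by group
      _ = g₁ * (g * k₁) := by rw [h3]
      _ = (g₁ * g) * k₁ := by group
      _ = (g * g₁) * k₁ := by rw [h4]
      _ = g * (g₁ * k₁) := by group
  obtain ⟨N, hNC, hNnorm, hNp, hNmem, hNP⟩ := cs_npc_data D.P C hPC (cs_npc_of_burnside D.P C hPC hb)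
  -- x normalizes ⟨z₀⟩
  have hxz : ∀ u, u ∈ Subgroup.normalizer ((D.P : Subgroup G) : Set G) →
      u * z₀ * u⁻¹ ∈ Subgroup.zpowers z₀ := by
    intro u hu
    have h1 : u * z₀ * u⁻¹ ∈ (D.P : Subgroup G) := (Subgroup.mem_normalizer_iff.mp hu z₀).mp hz₀
    apply Cfsg.Agent.Lib.Helper24.cs_mem_zpowers_sub (D.P : Subgroup G) h.cyc p hp.out z₀ _ hz₀ h1 hz₀p
    rw [← hz₀p, ← cs_orderOf_conj u z₀, pow_orderOf_eq_one]
  -- x normalizes C
  have hxC : ∀ c ∈ C, D.x * c * D.x⁻¹ ∈ C := by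
    intro c hc
    rw [hmemC] at hc ⊢
    have hx' : D.x⁻¹ ∈ Subgroup.normalizer ((D.P : Subgroup G) : Set G) :=
      Subgroup.inv_mem _ h.xM
    obtain ⟨j, hj⟩ := Subgroup.mem_zpowers_iff.mp (hxz D.x⁻¹ hx')
    have h1 : c * z₀ ^ j = z₀ ^ j * c := by
      have : Commute c z₀ := hc
      exact (this.zpow_right j)
    have h2 : z₀ = D.x * z₀ ^ j * D.x⁻¹ := by
      rw [hj]; group
    calc D.x * c * D.x⁻¹ * z₀ = D.x * c * D.x⁻¹ * (D.x * z₀ ^ j * D.x⁻¹) := by rw [← h2]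
      _ = D.x * (c * z₀ ^ j) * D.x⁻¹ := by group
      _ = D.x * (z₀ ^ j * c) * D.x⁻¹ := by rw [h1]
      _ = (D.x * z₀ ^ j * D.x⁻¹) * (D.x * c * D.x⁻¹) := by group
      _ = z₀ * (D.x * c * D.x⁻¹) := by rw [← h2]
  have hxN : ∀ n ∈ N, D.x * n * D.x⁻¹ ∈ N := by
    intro n hn
    apply hNmem _ (hxC n (hNC hn))
    rw [cs_orderOf_conj]
    exact cs_coprime_of_mem hNp n hn
  have hPN : ∀ g ∈ (D.P : Subgroup G), ∀ n ∈ N, g * n * g⁻¹ ∈ N :=
    fun g hg n hn => hNnorm g (hPC hg) n hn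
  have hcl := h.CL N hNp hxN hPN
  intro c hc g hg
  obtain ⟨n, hn, g₁, hg₁, rfl⟩ := hNP c ((hmemC c).mpr hc)
  have h1 := hcl g hg n hn
  have h2 := h.Pcomm g₁ hg₁ g hg
  calc n * g₁ * g = n * (g₁ * g) := by group
    _ = n * (g * g₁) := by rw [h2]
    _ = (n * g) * g₁ := by group
    _ = (g * n) * g₁ := by rw [h1]
    _ = g * (n * g₁) := by group


/-- **(T3')** the centralizer of a nontrivial element of `P` centralizes `P`. -/
theorem CSD.Good.cent_le (h : D.Good) (y : G) (hy : y ∈ (D.P : Subgroup G)) (hy1 : y ≠ 1) :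
    ∀ c, c * y = y * c → ∀ g ∈ (D.P : Subgroup G), c * g = g * c := by
  have hyp : IsPGroup p (Subgroup.zpowers y) :=
    D.P.2.to_le (by rw [Subgroup.zpowers_le]; exact hy)
  obtain ⟨j, hj⟩ := cs_exists_pow_order_p hyp ⟨y, Subgroup.mem_zpowers y⟩
    (by intro h1; exact hy1 (congrArg Subtype.val h1))
  have hj' : orderOf (y ^ j) = p := by
    rw [← hj]
    have : ((⟨y, Subgroup.mem_zpowers y⟩ : Subgroup.zpowers y) ^ j : Subgroup.zpowers y) =
        ⟨y ^ j, Subgroup.pow_mem _ (Subgroup.mem_zpowers y) j⟩ := rfl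
    rw [this, Subgroup.orderOf_mk]
  intro c hc
  have hc' : c * y ^ j = y ^ j * c := by
    have : Commute c y := hc
    exact this.pow_right j
  exact h.cent_le_aux (y ^ j) (Subgroup.pow_mem _ hy j) hj' c hc'

/-- `p`-elements of `N_G(P)` lie in `P` (order version) -/
theorem cs_mem_P_of_order (P : Sylow p G) (q : G)
    (hq : q ∈ Subgroup.normalizer ((P : Subgroup G) : Set G)) (k : ℕ) (hqk : q ^ p ^ k = 1) :
    q ∈ (P : Subgroup G) := by
  apply cs_p_mem_of_normalizer P q hq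
  apply IsPGroup.of_card (n := (Nat.factorization (orderOf q)) p)
  rw [Nat.card_zpowers]
  have h1 : orderOf q ∣ p ^ k := orderOf_dvd_of_pow_eq_one hqk
  obtain ⟨m, -, hm⟩ := (Nat.dvd_prime_pow hp.out).mp h1
  rw [hm, Nat.Prime.factorization_pow hp.out]
  simp

/-- conjugates of elements of `P` that normalize `P` lie in `P`. -/
theorem cs_conj_mem_P (P : Sylow p G) (u g : G) (hg : g ∈ (P : Subgroup G))
    (hn : u * g * u⁻¹ ∈ Subgroup.normalizer ((P : Subgroup G) : Set G)) :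
    u * g * u⁻¹ ∈ (P : Subgroup G) := by
  obtain ⟨k, hk⟩ := (IsPGroup.iff_orderOf.mp P.2) ⟨g, hg⟩
  apply cs_mem_P_of_order P _ hn k
  have h1 : g ^ p ^ k = 1 := by
    have := pow_orderOf_eq_one (⟨g, hg⟩ : (P : Subgroup G))
    rw [hk] at this
    exact congrArg Subtype.val this
  have h2 : (u * g * u⁻¹) ^ p ^ k = u * g ^ p ^ k * u⁻¹ := conj_pow
  rw [h2, h1]; group

/-- **(T4)** `P` is a TI-subgroup with `N_G(P)` controlling: if a conjugate of a nontrivial
element of `P` lies in `P`, the conjugating element normalizes `P`. -/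
theorem CSD.Good.TI (h : D.Good) (y u : G) (hy : y ∈ (D.P : Subgroup G)) (hy1 : y ≠ 1)
    (hu : u * y * u⁻¹ ∈ (D.P : Subgroup G)) :
    u ∈ Subgroup.normalizer ((D.P : Subgroup G) : Set G) := by
  apply cs_mem_normalizer_of_conj_le
  intro g hg
  apply cs_conj_mem_P D.P u g hg
  -- u g u⁻¹ centralizes u y u⁻¹ ∈ P#, hence centralizes P, hence normalizes P
  have hy1' : u * y * u⁻¹ ≠ 1 := by
    intro h1
    apply hy1
    have : y = u⁻¹ * (u * y * u⁻¹) * u := by group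
    rw [this, h1]; group
  have hcomm : (u * g * u⁻¹) * (u * y * u⁻¹) = (u * y * u⁻¹) * (u * g * u⁻¹) := by
    have := h.Pcomm g hg y hy
    calc (u * g * u⁻¹) * (u * y * u⁻¹) = u * (g * y) * u⁻¹ := by group
      _ = u * (y * g) * u⁻¹ := by rw [this]
      _ = (u * y * u⁻¹) * (u * g * u⁻¹) := by group
  have hcent := h.cent_le (u * y * u⁻¹) hu hy1' (u * g * u⁻¹) hcomm
  apply cs_mem_normalizer_of_conj_le
  intro a ha
  have := hcent a ha
  have h2 : (u * g * u⁻¹) * a * (u * g * u⁻¹)⁻¹ = a := by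
    rw [this]; group
  rw [h2]; exact ha

/-- elements centralizing `P` are of the form `g * k` with `g ∈ P` and `k ∈ K` centralizing
`P`. -/
theorem CSD.Good.cent_form (h : D.Good) (c : G) (hc : ∀ g ∈ (D.P : Subgroup G), c * g = g * c) :
    ∃ g ∈ (D.P : Subgroup G), ∃ k ∈ D.K, c = g * k ∧ ∀ a ∈ (D.P : Subgroup G), k * a = a * k := by
  have hcn : c ∈ Subgroup.normalizer ((D.P : Subgroup G) : Set G) := by
    apply cs_mem_normalizer_of_conj_le
    intro a ha
    rw [hc a ha, mul_inv_cancel_right]; exact ha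
  obtain ⟨g, hg, k, hk, rfl⟩ := h.PK c hcn
  refine ⟨g, hg, k, hk, rfl, ?_⟩
  intro a ha
  have h1 := hc a ha
  have h2 := h.Pcomm g hg a ha
  calc k * a = g⁻¹ * (g * k * a) := by group
    _ = g⁻¹ * (a * (g * k)) := by rw [h1]
    _ = g⁻¹ * (a * g) * k := by group
    _ = g⁻¹ * (g * a) * k := by rw [h2]
    _ = a * k := by group


/-- the induction hypothesis in the form used (the commutativity hypothesis on `p'`-subgroups is
inherited by subgroups automatically and is discharged in the main theorem). -/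
def CSIH (p : ℕ) (G : Type*) [Group G] : Prop :=
  ∀ H : Subgroup G, H ≠ ⊤ → ∀ Q : Sylow p H, IsCyclic (Q : Subgroup H) →
    Cfsg.HasNormalPComplement p H ∨ (Q : Subgroup H).Normal

theorem CSD.Good.IH2 (h : D.Good) (hIH : CSIH p G) (H : Subgroup G) (hH : H ≠ ⊤)
    (hPH : (D.P : Subgroup G) ≤ H) :
    H ≤ Subgroup.normalizer ((D.P : Subgroup G) : Set G) ∨
    ∃ N : Subgroup G, N ≤ H ∧ (∀ h ∈ H, ∀ n ∈ N, h * n * h⁻¹ ∈ N) ∧ ¬ p ∣ Nat.card N ∧
      (∀ h ∈ H, Nat.Coprime (orderOf h) p → h ∈ N) ∧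
      (∀ h ∈ H, ∃ n ∈ N, ∃ g ∈ (D.P : Subgroup G), h = n * g) := by
  set PH : Sylow p H := D.P.subtype hPH with hPHdef
  have hPHcoe : (PH : Subgroup H) = (D.P : Subgroup G).subgroupOf H := Sylow.coe_subtype D.P hPH
  have hmemPH : ∀ c : H, c ∈ (PH : Subgroup H) ↔ (c : G) ∈ (D.P : Subgroup G) := by
    intro c
    rw [hPHcoe, Subgroup.mem_subgroupOf]
  have hcyc : IsCyclic (PH : Subgroup H) := by
    rw [hPHcoe]
    haveI := h.cyc
    exact isCyclic_of_surjective (Subgroup.subgroupOfEquivOfLe hPH).symm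
      (Subgroup.subgroupOfEquivOfLe hPH).symm.surjective
  rcases hIH H hH PH hcyc with h1 | h1
  · right
    exact cs_npc_data D.P H hPH h1
  · left
    intro u hu
    apply cs_mem_normalizer_of_conj_le
    intro g hg
    have h2 : (⟨g, hPH hg⟩ : H) ∈ (PH : Subgroup H) := (hmemPH _).mpr hg
    have h3 := h1.conj_mem _ h2 ⟨u, hu⟩
    have h4 := (hmemPH _).mp h3
    simpa using h4

/-- if a normal subgroup `T ≥ P` normalizes `P` then `P` is normal in `G`. -/
theorem cs_normal_of_normal_le (P : Sylow p G) (T : Subgroup G) [hT : T.Normal]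
    (hPT : (P : Subgroup G) ≤ T) (hTn : T ≤ Subgroup.normalizer ((P : Subgroup G) : Set G)) :
    (P : Subgroup G).Normal := by
  constructor
  intro g hg u
  apply cs_conj_mem_P P u g hg
  exact hTn (hT.conj_mem g (hPT hg) u)

/-- **Step 5**: a minimal counterexample is perfect. -/
theorem CSD.Good.perfect (h : D.Good) (hIH : CSIH p G) (hnn : ¬ (D.P : Subgroup G).Normal) :
    commutator G = ⊤ := by
  by_contra hT
  have hPT : (D.P : Subgroup G) ≤ commutator G := by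
    intro g hg
    obtain ⟨a, ha, rfl⟩ := h.x_surj g hg
    have : a⁻¹ * D.x * a * D.x⁻¹ = ⁅a⁻¹, D.x⁆ := by
      rw [commutatorElement_def, inv_inv]
    rw [this, _root_.commutator_def]
    exact Subgroup.commutator_mem_commutator (Subgroup.mem_top _) (Subgroup.mem_top _)
  haveI hTn : (commutator G).Normal := inferInstance
  rcases h.IH2 hIH (commutator G) hT hPT with h1 | ⟨N, hNT, hNnorm, hNp, hNmem, hNP⟩
  · exact hnn (cs_normal_of_normal_le D.P (commutator G) hPT h1)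
  · have hxN : ∀ n ∈ N, D.x * n * D.x⁻¹ ∈ N := by
      intro n hn
      apply hNmem _ (hTn.conj_mem n (hNT hn) D.x)
      rw [cs_orderOf_conj]
      exact cs_coprime_of_mem hNp n hn
    have hPN : ∀ g ∈ (D.P : Subgroup G), ∀ n ∈ N, g * n * g⁻¹ ∈ N :=
      fun g hg n hn => hNnorm g (hPT hg) n hn
    have hcl := h.CL N hNp hxN hPN
    apply hnn
    apply cs_normal_of_normal_le D.P (commutator G) hPT
    intro t ht
    obtain ⟨n, hn, g, hg, rfl⟩ := hNP t ht
    apply cs_mem_normalizer_of_conj_le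
    intro a ha
    have h1 : g * a * g⁻¹ ∈ (D.P : Subgroup G) :=
      (D.P : Subgroup G).mul_mem ((D.P : Subgroup G).mul_mem hg ha) ((D.P : Subgroup G).inv_mem hg)
    have h2 := hcl _ h1 n hn
    have h3 : n * g * a * (n * g)⁻¹ = g * a * g⁻¹ := by
      calc n * g * a * (n * g)⁻¹ = n * (g * a * g⁻¹) * n⁻¹ := by group
        _ = (g * a * g⁻¹) * n * n⁻¹ := by rw [← h2]
        _ = g * a * g⁻¹ := by group
    rw [h3]; exact h1

end Cfsg.Agent.Lib.Helper9
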