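import Mathlib
import Cfsg.Prelude.Def_Transfer
import Cfsg.Agent.Lib.Helper9.CS2

set_option autoImplicit false

namespace Cfsg.Agent.Lib.Helper9

open Subgroup

variable {p : ℕ} [hp : Fact p.Prime] {G : Type*} [Group G] [Finite G]

/-- In a group whose `p'`-subgroups are commutative, a suitable `p`-power of any element
normalizing a `p'`-subgroup `S` centralizes `S`. -/
theorem cs_pow_centralizes
    (hab : ∀ H : Subgroup G, ¬ p ∣ Nat.card H → ∀ a ∈ H, ∀ b ∈ H, a * b = b * a)
    (S : Subgroup G) (hS : ¬ p ∣ Nat.card S) (n : G)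
    (hn : n ∈ Subgroup.normalizer (S : Set G)) :
    ∃ k : ℕ, ∀ z ∈ S, n ^ p ^ k * z = z * n ^ p ^ k := by
  obtain ⟨k, m, hm, hkm⟩ := Nat.exists_eq_pow_mul_and_not_dvd (orderOf_pos n).ne' p
    hp.out.ne_one
  refine ⟨k, ?_⟩
  have hpk : p ^ k ≠ 0 := pow_ne_zero _ hp.out.ne_zero
  have hord : orderOf (n ^ p ^ k) = m := by
    rw [orderOf_pow_of_dvd hpk (by rw [hkm]; exact dvd_mul_right _ _), hkm,
      Nat.mul_div_cancel_left _ (Nat.pos_of_ne_zero hpk)]
  have hu : n ^ p ^ k ∈ Subgroup.normalizer (S : Set G) := Subgroup.pow_mem _ hn _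
  have hzu : ¬ p ∣ Nat.card (Subgroup.zpowers (n ^ p ^ k)) := by
    rw [Nat.card_zpowers, hord]; exact hm
  have hJ := cs_pprime_sup p (Subgroup.zpowers (n ^ p ^ k)) S
    (by rw [Subgroup.zpowers_le]; exact hu) hzu hS
  intro z hz
  exact hab _ hJ _ (Subgroup.mem_sup_left (Subgroup.mem_zpowers _)) z (Subgroup.mem_sup_right hz)

open scoped IsMulCommutative in
/-- **Step 6**: for a Sylow `s`-subgroup `S` (`s ≠ p`) of a perfect group whose `p'`-subgroups are
commutative there is a `p`-subgroup `Y ≤ N_G(S)` with `C_S(Y) = 1`. -/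
theorem cs_exists_Y
    (hab : ∀ H : Subgroup G, ¬ p ∣ Nat.card H → ∀ a ∈ H, ∀ b ∈ H, a * b = b * a)
    (hperf : commutator G = ⊤) {s : ℕ} [hs : Fact s.Prime] (hsp : s ≠ p) (S : Sylow s G) :
    ∃ Y : Subgroup G, IsPGroup p Y ∧ Y ≤ Subgroup.normalizer ((S : Subgroup G) : Set G) ∧
      ∀ z ∈ (S : Subgroup G), (∀ y ∈ Y, y * z = z * y) → z = 1 := by
  have hSp : ¬ p ∣ Nat.card (S : Subgroup G) := by
    obtain ⟨k, hk⟩ := (IsPGroup.iff_card.mp S.2)
    rw [hk]
    intro hd
    have := (Nat.prime_dvd_prime_iff_eq hp.out hs.out).mp (hp.out.dvd_of_dvd_pow hd)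
    exact hsp this.symm
  haveI hSc : IsMulCommutative (S : Subgroup G) :=
    ⟨⟨fun a b => Subtype.ext (hab _ hSp a a.2 b b.2)⟩⟩
  set N : Subgroup G := Subgroup.normalizer ((S : Subgroup G) : Set G) with hN
  set ρ : N →* MulAut (S : Subgroup G) := (S : Subgroup G).normalizerMonoidHom with hρ
  have hker : ∀ n : N, n ∈ ρ.ker ↔ ∀ z ∈ (S : Subgroup G), (n : G) * z = z * n := by
    intro n
    rw [hρ, Subgroup.normalizerMonoidHom_ker, Subgroup.mem_subgroupOf, Subgroup.mem_centralizer_iff]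
    constructor
    · intro h z hz; exact (h z hz).symm
    · intro h z hz; exact (h z hz).symm
  have hrange : IsPGroup p ρ.range := by
    rintro ⟨_, n, rfl⟩
    obtain ⟨k, hk⟩ := cs_pow_centralizes hab (S : Subgroup G) hSp (n : G) n.2
    refine ⟨k, ?_⟩
    apply Subtype.ext
    show (ρ n) ^ p ^ k = 1
    rw [← map_pow, ← MonoidHom.mem_ker, hker]
    intro z hz
    simpa using hk z hz
  obtain ⟨j, hj⟩ := IsPGroup.iff_card.mp hrange
  have hkerindex : ρ.ker.index = p ^ j := by rw [Subgroup.index_ker, hj]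
  obtain ⟨Y'⟩ : Nonempty (Sylow p N) := Sylow.nonempty
  refine ⟨(Y' : Subgroup N).map N.subtype, Y'.2.map _, ?_, ?_⟩
  · rintro _ ⟨y, -, rfl⟩
    exact y.2
  · intro z hz hYz
    apply cs_transfer hperf S z hz
    intro n hn
    set Q' : Subgroup N := (Subgroup.centralizer ({z} : Set G)).subgroupOf N with hQ'
    have hmemQ : ∀ n : N, n ∈ Q' ↔ (n : G) * z = z * n := by
      intro n
      rw [hQ', Subgroup.mem_subgroupOf, Subgroup.mem_centralizer_iff]
      constructor
      · intro h; exact (h z rfl).symm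
      · rintro h _ rfl; exact h.symm
    have h1 : ρ.ker ≤ Q' := by
      intro n hn
      rw [hmemQ]
      exact (hker n).mp hn z hz
    have h2 : (Y' : Subgroup N) ≤ Q' := by
      intro y hy
      rw [hmemQ]
      exact hYz _ ⟨y, hy, rfl⟩
    have h3 : Q'.index ∣ p ^ j := hkerindex ▸ Subgroup.index_dvd_of_le h1
    have h4 : Q'.index ∣ (Y' : Subgroup N).index := Subgroup.index_dvd_of_le h2
    have h5 : ¬ p ∣ (Y' : Subgroup N).index := Y'.not_dvd_index
    have h6 : Q'.index = 1 := by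
      obtain ⟨i, -, hi⟩ := (Nat.dvd_prime_pow hp.out).mp h3
      rcases Nat.eq_zero_or_pos i with h0 | h0
      · rw [hi, h0, pow_zero]
      · exfalso
        apply h5
        apply dvd_trans _ h4
        rw [hi]
        exact dvd_pow_self p h0.ne'
    have h7 : Q' = ⊤ := Subgroup.index_eq_one.mp h6
    have h8 : (⟨n, hn⟩ : N) ∈ Q' := by rw [h7]; trivial
    exact (hmemQ _).mp h8


/-- **Step 6a**: the order of every Sylow `s`-subgroup (`s ≠ p`) is `≡ 1 (mod p)`. -/
theorem cs_card_sylow_modEq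
    (hab : ∀ H : Subgroup G, ¬ p ∣ Nat.card H → ∀ a ∈ H, ∀ b ∈ H, a * b = b * a)
    (hperf : commutator G = ⊤) {s : ℕ} [hs : Fact s.Prime] (hsp : s ≠ p) (S : Sylow s G) :
    Nat.card (S : Subgroup G) ≡ 1 [MOD p] := by
  obtain ⟨Y, hYp, hYN, hYfix⟩ := cs_exists_Y hab hperf hsp S
  letI : MulAction Y (S : Subgroup G) :=
    MulAction.compHom (S : Subgroup G) (Subgroup.inclusion hYN)
  have hsmul : ∀ (y : Y) (z : (S : Subgroup G)), ((y • z : (S : Subgroup G)) : G) = y * z * (y : G)⁻¹ :=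
    fun y z => rfl
  have h1 := hYp.card_modEq_card_fixedPoints (α := (S : Subgroup G))
  have h2 : MulAction.fixedPoints Y (S : Subgroup G) = {1} := by
    ext z
    rw [MulAction.mem_fixedPoints, Set.mem_singleton_iff]
    constructor
    · intro hz
      apply Subtype.ext
      apply hYfix z z.2
      intro y hy
      have := congrArg Subtype.val (hz ⟨y, hy⟩)
      rw [hsmul] at this
      calc y * (z : G) = y * z * y⁻¹ * y := by group
        _ = z * y := by rw [this]
    · rintro rfl y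
      apply Subtype.ext
      rw [hsmul]
      simp
  rw [h2] at h1
  simpa using h1


/-- **Step 7a**: the `p'`-part of `|G|` is `≡ 1 (mod p)`. -/
theorem cs_ordCompl_cast
    (hab : ∀ H : Subgroup G, ¬ p ∣ Nat.card H → ∀ a ∈ H, ∀ b ∈ H, a * b = b * a)
    (hperf : commutator G = ⊤) :
    ((Nat.card G / p ^ (Nat.card G).factorization p : ℕ) : ZMod p) = 1 := by
  set n := Nat.card G with hn
  have hn0 : n ≠ 0 := Nat.card_pos.ne'
  have hm0 : n / p ^ n.factorization p ≠ 0 := (Nat.ordCompl_pos p hn0).ne'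
  have h1 := Nat.prod_factorization_pow_eq_self hm0
  rw [Nat.factorization_ordCompl n p] at h1
  rw [← h1, Finsupp.prod, Nat.cast_prod]
  apply Finset.prod_eq_one
  intro q hq
  rw [Finsupp.support_erase, Finset.mem_erase] at hq
  obtain ⟨hqp, hq2⟩ := hq
  have hqprime : q.Prime := Nat.prime_of_mem_primeFactors (by simpa using hq2)
  haveI : Fact q.Prime := ⟨hqprime⟩
  rw [Finsupp.erase_ne hqp]
  obtain ⟨S⟩ : Nonempty (Sylow q G) := Sylow.nonempty
  have h2 := cs_card_sylow_modEq hab hperf hqp S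
  rw [Sylow.card_eq_multiplicity] at h2
  have h3 := (ZMod.natCast_eq_natCast_iff _ _ p).mpr h2
  simpa using h3


variable {D : CSD p G}

/-- **Step 7b**: `|K| ≡ 1 (mod p)`. -/
theorem CSD.Good.cardK_cast (h : D.Good) (hperf : commutator G = ⊤) :
    ((Nat.card D.K : ℕ) : ZMod p) = 1 := by
  have h1 := cs_ordCompl_cast h.ab hperf
  set M := Subgroup.normalizer ((D.P : Subgroup G) : Set G) with hM
  have h2 : Nat.card M * M.index = Nat.card G := M.card_mul_index
  have h3 : Nat.card (D.P : Subgroup G) = p ^ (Nat.card G).factorization p :=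
    D.P.card_eq_multiplicity
  have h4 : Nat.card G / p ^ (Nat.card G).factorization p = Nat.card D.K * M.index := by
    have h2' : Nat.card G = p ^ (Nat.card G).factorization p * (Nat.card D.K * M.index) := by
      rw [← mul_assoc, ← h3, ← h.cardM, h2]
    exact Nat.div_eq_of_eq_mul_right (pow_pos hp.out.pos _) h2'
  have h5 : (M.index : ZMod p) = 1 := by
    have := card_sylow_modEq_one p G
    rw [Sylow.card_eq_index_normalizer D.P] at this
    have h6 := (ZMod.natCast_eq_natCast_iff _ _ p).mpr this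
    rw [Nat.cast_one] at h6
    exact h6
  rw [h4, Nat.cast_mul, h5, mul_one] at h1
  exact h1


/-- the subgroup `A = C_K(P)` -/
def CSD.A (D : CSD p G) : Subgroup G :=
  D.K ⊓ Subgroup.centralizer ((D.P : Subgroup G) : Set G)

theorem CSD.mem_A (D : CSD p G) (a : G) :
    a ∈ D.A ↔ a ∈ D.K ∧ ∀ g ∈ (D.P : Subgroup G), a * g = g * a := by
  unfold CSD.A
  rw [Subgroup.mem_inf, Subgroup.mem_centralizer_iff]
  constructor
  · rintro ⟨h1, h2⟩
    exact ⟨h1, fun g hg => (h2 g hg).symm⟩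
  · rintro ⟨h1, h2⟩
    exact ⟨h1, fun g hg => (h2 g hg).symm⟩

/-- `[K : A]` divides `p - 1`. -/
theorem CSD.Good.K_div (h : D.Good) : Nat.card D.K ∣ Nat.card D.A * (p - 1) := by
  haveI := h.cyc
  set ρ : D.K →* MulAut (D.P : Subgroup G) :=
    (D.P : Subgroup G).normalizerMonoidHom.comp (Subgroup.inclusion h.KM) with hρ
  have hker : ∀ k : D.K, k ∈ ρ.ker ↔ ∀ g ∈ (D.P : Subgroup G), (k : G) * g = g * k := by
    intro k
    rw [hρ, MonoidHom.mem_ker, MonoidHom.comp_apply, ← MonoidHom.mem_ker,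
      Subgroup.normalizerMonoidHom_ker, Subgroup.mem_subgroupOf, Subgroup.mem_centralizer_iff]
    constructor
    · intro h1 g hg; exact (h1 g hg).symm
    · intro h1 g hg; exact (h1 g hg).symm
  have hkermap : ρ.ker.map D.K.subtype = D.A := by
    ext a
    rw [D.mem_A]
    constructor
    · rintro ⟨k, hk, rfl⟩
      exact ⟨k.2, (hker k).mp hk⟩
    · rintro ⟨h1, h2⟩
      exact ⟨⟨a, h1⟩, (hker _).mpr h2, rfl⟩
  have hcardker : Nat.card ρ.ker = Nat.card D.A := by
    rw [← hkermap, Subgroup.card_map_of_injective (Subgroup.subtype_injective _)]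
  have h1 : Nat.card ρ.ker * Nat.card ρ.range = Nat.card D.K := by
    rw [← Subgroup.index_ker]; exact ρ.ker.card_mul_index
  have h2 : Nat.card ρ.range ∣ p - 1 := by
    have h3 : Nat.card ρ.range ∣ Nat.card (MulAut (D.P : Subgroup G)) :=
      Subgroup.card_subgroup_dvd_card _
    rw [IsCyclic.card_mulAut] at h3
    obtain ⟨n, hn⟩ := IsPGroup.iff_card.mp D.P.2
    rw [hn] at h3
    have hcop : Nat.Coprime (Nat.card ρ.range) p := by
      rw [Nat.coprime_comm, Nat.Prime.coprime_iff_not_dvd hp.out]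
      intro hd
      apply h.Kp
      rw [← h1]
      exact Dvd.dvd.mul_left hd _
    rcases Nat.eq_zero_or_pos n with h0 | h0
    · rw [h0, pow_zero, Nat.totient_one] at h3
      exact h3.trans (one_dvd _)
    · rw [Nat.totient_prime_pow hp.out h0] at h3
      exact (Nat.Coprime.pow_right (n - 1) hcop).dvd_of_dvd_mul_left h3
  rw [← h1, hcardker]
  exact Nat.mul_dvd_mul_left _ h2

/-- **Step 8**: `A ≠ 1` in a perfect configuration. -/
theorem CSD.Good.A_ne_bot (h : D.Good) (hperf : commutator G = ⊤) : D.A ≠ ⊥ := by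
  intro hA
  have h1 := h.K_div
  rw [hA, Subgroup.card_bot, one_mul] at h1
  have h2 := h.cardK_cast hperf
  have hp1 : 0 < p - 1 := Nat.sub_pos_of_lt hp.out.one_lt
  have h3 : Nat.card D.K ≤ p - 1 := Nat.le_of_dvd hp1 h1
  have h4 : Nat.card D.K = 1 := by
    have h5 : ((Nat.card D.K : ℕ) : ZMod p) = ((1 : ℕ) : ZMod p) := by rw [h2, Nat.cast_one]
    rw [ZMod.natCast_eq_natCast_iff] at h5
    have h6 : Nat.card D.K % p = 1 % p := h5
    rw [Nat.mod_eq_of_lt (by omega), Nat.mod_eq_of_lt hp.out.one_lt] at h6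
    exact h6
  have h7 : D.K = ⊥ := Subgroup.card_eq_one.mp h4
  have h8 : D.x = 1 := by
    have := h.xK
    rw [h7, Subgroup.mem_bot] at this
    exact this
  obtain ⟨g, -, hne⟩ := h.xP
  apply hne
  rw [h8, one_mul, mul_one]

end Cfsg.Agent.Lib.Helper9
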