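import Mathlib
import Cfsg.Prelude.Def_Transfer
import Cfsg.Agent.Lib.Helper9.CS3

set_option autoImplicit false

namespace Cfsg.Agent.Lib.Helper9

open Subgroup

variable {p : ℕ} [hp : Fact p.Prime] {G : Type*} [Group G] [Finite G] {D : CSD p G}

/-- `P ∩ K = 1` -/
theorem CSD.Good.inter_PK (h : D.Good) (g : G) (hg : g ∈ (D.P : Subgroup G)) (hgK : g ∈ D.K) :
    g = 1 := by
  obtain ⟨k, hk⟩ := (IsPGroup.iff_orderOf.mp D.P.2) ⟨g, hg⟩
  rw [Subgroup.orderOf_mk] at hk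
  have h1 := h.K_ord g hgK
  rw [hk] at h1
  rcases Nat.eq_zero_or_pos k with h0 | h0
  · rw [h0, pow_zero] at hk
    exact orderOf_eq_one_iff.mp hk
  · exfalso
    have h2 : p ∣ Nat.gcd (p ^ k) p := Nat.dvd_gcd (dvd_pow_self p h0.ne') dvd_rfl
    rw [h1] at h2
    exact hp.out.one_lt.ne' (Nat.dvd_one.mp h2)

/-- a nontrivial `p'`-element centralizing `P` lies in `A`. -/
theorem CSD.Good.mem_A_of_cent (h : D.Good) (b : G) (hb : ∀ g ∈ (D.P : Subgroup G), b * g = g * b)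
    (hbo : Nat.Coprime (orderOf b) p) : b ∈ D.A := by
  obtain ⟨g, hg, k, hk, rfl, hkc⟩ := h.cent_form b hb
  have hcomm : Commute g k := (hkc g hg).symm
  have h1 : (g * k) ^ orderOf (g * k) = 1 := pow_orderOf_eq_one _
  rw [hcomm.mul_pow] at h1
  have h2 : g ^ orderOf (g * k) = (k ^ orderOf (g * k))⁻¹ := eq_inv_of_mul_eq_one_left h1
  have h3 : g ^ orderOf (g * k) = 1 := by
    apply h.inter_PK _ (Subgroup.pow_mem _ hg _)
    rw [h2]
    exact Subgroup.inv_mem _ (Subgroup.pow_mem _ hk _)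
  have h4 : orderOf g ∣ orderOf (g * k) := orderOf_dvd_of_pow_eq_one h3
  obtain ⟨j, hj⟩ := (IsPGroup.iff_orderOf.mp D.P.2) ⟨g, hg⟩
  rw [Subgroup.orderOf_mk] at hj
  have hg1 : g = 1 := by
    rcases Nat.eq_zero_or_pos j with h0 | h0
    · rw [h0, pow_zero] at hj
      exact orderOf_eq_one_iff.mp hj
    · exfalso
      have h5 : p ∣ orderOf (g * k) := (hj ▸ dvd_pow_self p h0.ne' : p ∣ orderOf g).trans h4
      have h6 : p ∣ Nat.gcd (orderOf (g * k)) p := Nat.dvd_gcd h5 dvd_rfl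
      rw [hbo] at h6
      exact hp.out.one_lt.ne' (Nat.dvd_one.mp h6)
  rw [hg1, one_mul]
  exact (D.mem_A k).mpr ⟨hk, hkc⟩

theorem CSD.Good.K_comm (h : D.Good) : ∀ a ∈ D.K, ∀ b ∈ D.K, a * b = b * a :=
  h.ab D.K h.Kp

theorem CSD.A_le_K (D : CSD p G) : D.A ≤ D.K := inf_le_left

/-- **(9.1)** for `b ∈ A` of prime order, `C_G(b) ≤ N_G(P)`. -/
theorem CSD.Good.centA_prime (h : D.Good) (hIH : CSIH p G) (hperf : commutator G = ⊤)
    (b : G) (hb : b ∈ D.A) (r : ℕ) (hr : r.Prime) (hbr : orderOf b = r) :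
    ∀ c, c * b = b * c → c ∈ Subgroup.normalizer ((D.P : Subgroup G) : Set G) := by
  haveI : Fact r.Prime := ⟨hr⟩
  obtain ⟨hbK, hbc⟩ := (D.mem_A b).mp hb
  have hb1 : b ≠ 1 := by
    intro h1
    rw [h1, orderOf_one] at hbr
    exact hr.one_lt.ne hbr
  have hrp : r ≠ p := by
    intro h1
    have := h.K_ord b hbK
    rw [hbr, h1, Nat.coprime_self] at this
    exact hp.out.one_lt.ne' this
  set H : Subgroup G := Subgroup.centralizer ({b} : Set G) with hH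
  have hmemH : ∀ c, c ∈ H ↔ c * b = b * c := by
    intro c
    rw [hH, Subgroup.mem_centralizer_iff]
    constructor
    · intro hc; exact (hc b rfl).symm
    · rintro hc _ rfl; exact hc.symm
  have hHtop : H ≠ ⊤ := by
    intro htop
    -- b is central; contradiction with transfer
    have hzb : IsPGroup r (Subgroup.zpowers b) := by
      apply IsPGroup.of_card (n := 1)
      rw [Nat.card_zpowers, hbr, pow_one]
    obtain ⟨S, hS⟩ := hzb.exists_le_sylow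
    have hSp : ¬ p ∣ Nat.card (S : Subgroup G) := by
      obtain ⟨k, hk⟩ := (IsPGroup.iff_card.mp S.2)
      rw [hk]
      intro hd
      have := (Nat.prime_dvd_prime_iff_eq hp.out hr).mp (hp.out.dvd_of_dvd_pow hd)
      exact hrp this.symm
    haveI hSc : IsMulCommutative (S : Subgroup G) :=
      ⟨⟨fun a b => Subtype.ext (h.ab _ hSp a a.2 b b.2)⟩⟩
    apply hb1
    apply cs_transfer hperf S b (hS (Subgroup.mem_zpowers b))
    intro n _
    have : n ∈ H := by rw [htop]; trivial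
    exact (hmemH n).mp this
  have hPH : (D.P : Subgroup G) ≤ H := by
    intro g hg
    rw [hmemH]
    exact (hbc g hg).symm
  have hxH : D.x ∈ H := by
    rw [hmemH]
    exact h.K_comm D.x h.xK b hbK
  rcases h.IH2 hIH H hHtop hPH with h1 | ⟨N, hNH, hNnorm, hNp, hNmem, hNP⟩
  · intro c hc
    exact h1 ((hmemH c).mpr hc)
  · exfalso
    have hxN : D.x ∈ N := hNmem D.x hxH (h.K_ord D.x h.xK)
    obtain ⟨g, hg, hne⟩ := h.xP
    apply hne
    -- c := g x g⁻¹ x⁻¹ ∈ N ∩ P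
    have hc1 : g * D.x * g⁻¹ * D.x⁻¹ ∈ N :=
      N.mul_mem (hNnorm g (hPH hg) D.x hxN) (N.inv_mem hxN)
    have hc2 : g * D.x * g⁻¹ * D.x⁻¹ ∈ (D.P : Subgroup G) := by
      have h2 : D.x * g⁻¹ * D.x⁻¹ ∈ (D.P : Subgroup G) :=
        (Subgroup.mem_normalizer_iff.mp h.xM g⁻¹).mp (Subgroup.inv_mem _ hg)
      have h3 : g * D.x * g⁻¹ * D.x⁻¹ = g * (D.x * g⁻¹ * D.x⁻¹) := by group
      rw [h3]
      exact Subgroup.mul_mem _ hg h2
    have hc3 : g * D.x * g⁻¹ * D.x⁻¹ = 1 := by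
      obtain ⟨k, hk⟩ := (IsPGroup.iff_orderOf.mp D.P.2) ⟨_, hc2⟩
      rw [Subgroup.orderOf_mk] at hk
      have h4 := cs_coprime_of_mem hNp _ hc1
      rw [hk] at h4
      rcases Nat.eq_zero_or_pos k with h0 | h0
      · rw [h0, pow_zero] at hk
        exact orderOf_eq_one_iff.mp hk
      · exfalso
        have h5 : p ∣ Nat.gcd (p ^ k) p := Nat.dvd_gcd (dvd_pow_self p h0.ne') dvd_rfl
        rw [h4] at h5
        exact hp.out.one_lt.ne' (Nat.dvd_one.mp h5)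
    calc D.x * g = (g * D.x * g⁻¹ * D.x⁻¹)⁻¹ * g * D.x := by group
      _ = g * D.x := by rw [hc3]; group

/-- **(9.1)** for `b ∈ A`, `b ≠ 1`: `C_G(b) ≤ N_G(P)`. -/
theorem CSD.Good.centA (h : D.Good) (hIH : CSIH p G) (hperf : commutator G = ⊤)
    (b : G) (hb : b ∈ D.A) (hb1 : b ≠ 1) :
    ∀ c, c * b = b * c → c ∈ Subgroup.normalizer ((D.P : Subgroup G) : Set G) := by
  have ho : orderOf b ≠ 1 := fun h1 => hb1 (orderOf_eq_one_iff.mp h1)
  set r := (orderOf b).minFac with hr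
  have hrp : r.Prime := Nat.minFac_prime ho
  have hrd : r ∣ orderOf b := Nat.minFac_dvd _
  have hbr : orderOf (b ^ (orderOf b / r)) = r :=
    orderOf_pow_orderOf_div (orderOf_pos b).ne' hrd
  intro c hc
  apply h.centA_prime hIH hperf (b ^ (orderOf b / r)) (Subgroup.pow_mem _ hb _) r hrp hbr c
  have : Commute c b := hc
  exact this.pow_right _


/-- **(KEY)** if `w ∈ A`, `w ≠ 1`, is conjugate by `u` from an element centralizing `P`, then
`u` normalizes `P`. -/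
theorem CSD.Good.conj_key (h : D.Good) (hIH : CSIH p G) (hperf : commutator G = ⊤)
    (u w w' : G) (hw : w ∈ D.A) (hw1 : w ≠ 1) (hw' : ∀ g ∈ (D.P : Subgroup G), w' * g = g * w')
    (hconj : w = u * w' * u⁻¹) : u ∈ Subgroup.normalizer ((D.P : Subgroup G) : Set G) := by
  apply cs_mem_normalizer_of_conj_le
  intro g hg
  apply cs_conj_mem_P D.P u g hg
  apply h.centA hIH hperf w hw hw1
  rw [hconj]
  have := hw' g hg
  calc u * g * u⁻¹ * (u * w' * u⁻¹) = u * (g * w') * u⁻¹ := by group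
    _ = u * (w' * g) * u⁻¹ := by rw [this]
    _ = u * w' * u⁻¹ * (u * g * u⁻¹) := by group

/-- **(9.4)** powers `y ^ i`, `0 < i < p`, of a `p`-element `y` not commuting with `a ∈ A` do not
normalize `P`. -/
theorem CSD.Good.y_pow_notin (h : D.Good) (y a : G) (k : ℕ) (hy : y ^ p ^ k = 1) (ha : a ∈ D.A)
    (hya : y * a ≠ a * y) (i : ℕ) (hi0 : 0 < i) (hip : i < p) :
    y ^ i ∉ Subgroup.normalizer ((D.P : Subgroup G) : Set G) := by
  intro hn
  have h1 : y ^ i ∈ (D.P : Subgroup G) := by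
    apply cs_mem_P_of_order D.P _ hn k
    rw [← pow_mul, mul_comm, pow_mul, hy, one_pow]
  have hcop : Nat.Coprime i (orderOf y) := by
    have h2 : orderOf y ∣ p ^ k := orderOf_dvd_of_pow_eq_one hy
    obtain ⟨m, -, hm⟩ := (Nat.dvd_prime_pow hp.out).mp h2
    rw [hm]
    apply Nat.Coprime.pow_right
    rw [Nat.coprime_comm, Nat.Prime.coprime_iff_not_dvd hp.out]
    intro hd
    exact absurd (Nat.le_of_dvd hi0 hd) (not_le.mpr hip)
  obtain ⟨m, hm⟩ := exists_pow_eq_self_of_coprime hcop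
  have h3 : y ∈ (D.P : Subgroup G) := by
    rw [← hm]; exact Subgroup.pow_mem _ h1 m
  exact hya ((((D.mem_A a).mp ha).2 y h3).symm)

/-- abstract counting lemma for Step 9. -/
theorem cs_count (Ω Ω₀ : Subgroup G) (hle : Ω₀ ≤ Ω) (y : G) (s q : ℕ)
    (hyΩ : ∀ t ∈ Ω, ∀ i : ℕ, y ^ i * t * (y ^ i)⁻¹ ∈ Ω)
    (hdisj : ∀ i j : ℕ, i < j → j < q → ∀ w ∈ Ω₀, ∀ w' ∈ Ω₀, w ≠ 1 →
      y ^ i * w * (y ^ i)⁻¹ = y ^ j * w' * (y ^ j)⁻¹ → False)
    (hcard : Nat.card Ω ≤ s * Nat.card Ω₀) (hs : s ≤ Nat.card Ω₀) (hs2 : 2 ≤ s) :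
    q ≤ s + 1 := by
  classical
  haveI : Fintype Ω := Fintype.ofFinite _
  haveI : Fintype Ω₀ := Fintype.ofFinite _
  let X := {w : Ω₀ | w ≠ 1}
  let Z := {t : Ω | t ≠ 1}
  let f : Fin q × X → Z := fun iw =>
    ⟨⟨y ^ (iw.1 : ℕ) * ((iw.2 : Ω₀) : G) * (y ^ (iw.1 : ℕ))⁻¹,
      hyΩ _ (hle (iw.2 : Ω₀).2) _⟩, by
      intro h1
      have h2 := congrArg Subtype.val h1
      simp only [Subgroup.coe_one] at h2
      have h3 : ((iw.2 : Ω₀) : G) = 1 := by
        have : ((iw.2 : Ω₀) : G) = (y ^ (iw.1 : ℕ))⁻¹ *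
            (y ^ (iw.1 : ℕ) * ((iw.2 : Ω₀) : G) * (y ^ (iw.1 : ℕ))⁻¹) * y ^ (iw.1 : ℕ) := by group
        rw [this, h2]; group
      exact iw.2.2 (Subtype.ext h3)⟩
  have hf : Function.Injective f := by
    rintro ⟨i, w⟩ ⟨j, w'⟩ hij
    have h1 : y ^ (i : ℕ) * ((w : Ω₀) : G) * (y ^ (i : ℕ))⁻¹ =
        y ^ (j : ℕ) * ((w' : Ω₀) : G) * (y ^ (j : ℕ))⁻¹ := by
      have := congrArg (fun z : Z => ((z : Ω) : G)) hij
      exact this
    have hw1 : ((w : Ω₀) : G) ≠ 1 := fun h2 => w.2 (Subtype.ext h2)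
    have hw'1 : ((w' : Ω₀) : G) ≠ 1 := fun h2 => w'.2 (Subtype.ext h2)
    rcases lt_trichotomy (i : ℕ) (j : ℕ) with hlt | heq | hgt
    · exact (hdisj i j hlt j.2 _ (w : Ω₀).2 _ (w' : Ω₀).2 hw1 h1).elim
    · have hij' : i = j := Fin.ext heq
      subst hij'
      have h2 : ((w : Ω₀) : G) = ((w' : Ω₀) : G) := by
        have e1 : ((w : Ω₀) : G) = (y ^ (i : ℕ))⁻¹ *
            (y ^ (i : ℕ) * ((w : Ω₀) : G) * (y ^ (i : ℕ))⁻¹) * y ^ (i : ℕ) := by group
        rw [e1, h1]; group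
      have h3 : w = w' := Subtype.ext (Subtype.ext h2)
      rw [h3]
    · exact (hdisj j i hgt i.2 _ (w' : Ω₀).2 _ (w : Ω₀).2 hw'1 h1.symm).elim
  have h1 := Fintype.card_le_of_injective f hf
  rw [Fintype.card_prod, Fintype.card_fin] at h1
  have h2 : Fintype.card X = Fintype.card Ω₀ - 1 := Set.card_ne_eq (1 : Ω₀)
  have h3 : Fintype.card Z = Fintype.card Ω - 1 := Set.card_ne_eq (1 : Ω)
  rw [h2, h3] at h1
  rw [Nat.card_eq_fintype_card, Nat.card_eq_fintype_card] at hcard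
  rw [Nat.card_eq_fintype_card] at hs
  set ω := Fintype.card Ω₀ with hω
  set W := Fintype.card Ω with hW
  by_contra hq
  push Not at hq
  have h4 : (s + 2) * (ω - 1) ≤ q * (ω - 1) := Nat.mul_le_mul_right _ hq
  have h5 : (s + 2) * (ω - 1) ≤ s * ω - 1 := by
    calc (s + 2) * (ω - 1) ≤ q * (ω - 1) := h4
      _ ≤ W - 1 := h1
      _ ≤ s * ω - 1 := Nat.sub_le_sub_right hcard 1
  obtain ⟨v, hv⟩ : ∃ v, ω = v + 1 := ⟨ω - 1, by omega⟩
  rw [hv] at h5 hs
  simp only [Nat.add_sub_cancel] at h5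
  have h6 : (s + 2) * v = s * v + 2 * v := by ring
  have h7 : s * (v + 1) = s * v + s := by ring
  rw [h6, h7] at h5
  omega

end Cfsg.Agent.Lib.Helper9
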