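import Mathlib
import Cfsg.Prelude.Def_Transfer
import Cfsg.Agent.Lib.Helper9.CS4

set_option autoImplicit false

namespace Cfsg.Agent.Lib.Helper9

open Subgroup

variable {p : ℕ} [hp : Fact p.Prime] {G : Type*} [Group G] [Finite G] {D : CSD p G}

/-- a subgroup of a finite cyclic group all of whose elements satisfy `σ ^ s = 1` has at most
`s` elements; in fact its order divides `s`. -/
theorem cs_card_dvd_of_pow {C : Type*} [Group C] [Finite C] [IsCyclic C] (R : Subgroup C) (s : ℕ)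
    (h : ∀ σ ∈ R, σ ^ s = 1) : Nat.card R ∣ s := by
  rw [← IsCyclic.exponent_eq_card (α := R), Monoid.exponent_dvd_iff_forall_pow_eq_one]
  intro g
  apply Subtype.ext
  simpa using h g g.2

/-- the order of a subgroup `L ≤ N_G(P)` factors through the action on `P`. -/
theorem cs_card_factor (P L : Subgroup G) (hL : L ≤ Subgroup.normalizer (P : Set G)) :
    ∃ R : Subgroup (MulAut P),
      Nat.card L = Nat.card (L ⊓ Subgroup.centralizer (P : Set G) : Subgroup G) * Nat.card R ∧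
      ∀ σ ∈ R, ∃ l ∈ L, ∀ (n : ℕ) (g : P), (((σ ^ n) g : P) : G) = l ^ n * g * (l ^ n)⁻¹ := by
  set ρ : L →* MulAut P := P.normalizerMonoidHom.comp (Subgroup.inclusion hL) with hρ
  have hker : ∀ k : L, k ∈ ρ.ker ↔ (k : G) ∈ Subgroup.centralizer (P : Set G) := by
    intro k
    rw [hρ, MonoidHom.mem_ker, MonoidHom.comp_apply, ← MonoidHom.mem_ker,
      Subgroup.normalizerMonoidHom_ker, Subgroup.mem_subgroupOf]
    rfl
  have hkermap : ρ.ker.map L.subtype = L ⊓ Subgroup.centralizer (P : Set G) := by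
    ext a
    rw [Subgroup.mem_inf]
    constructor
    · rintro ⟨k, hk, rfl⟩
      exact ⟨k.2, (hker k).mp hk⟩
    · rintro ⟨h1, h2⟩
      exact ⟨⟨a, h1⟩, (hker _).mpr h2, rfl⟩
  have hcardker : Nat.card ρ.ker = Nat.card (L ⊓ Subgroup.centralizer (P : Set G) : Subgroup G) := by
    rw [← hkermap, Subgroup.card_map_of_injective (Subgroup.subtype_injective _)]
  have h1 : Nat.card ρ.ker * Nat.card ρ.range = Nat.card L := by
    rw [← Subgroup.index_ker]; exact ρ.ker.card_mul_index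
  have happ : ∀ (l : L) (g : P), ((ρ l g : P) : G) = (l : G) * g * (l : G)⁻¹ := fun l g => rfl
  refine ⟨ρ.range, ?_, ?_⟩
  · rw [← h1, hcardker]
  · rintro _ ⟨l, rfl⟩
    refine ⟨l, l.2, fun n g => ?_⟩
    rw [← map_pow, happ]
    rfl

/-- `p ≠ 2` -/
theorem CSD.Good.p_ne_two (h : D.Good) : p ≠ 2 := by
  intro h2
  have h1 := h.K_div
  have h21 : p - 1 = 1 := by omega
  rw [h21, mul_one] at h1
  have h3 : D.A = D.K := by
    apply Subgroup.eq_of_le_of_card_ge D.A_le_K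
    exact Nat.le_of_dvd Nat.card_pos h1
  obtain ⟨g, hg, hne⟩ := h.xP
  apply hne
  have : D.x ∈ D.A := by rw [h3]; exact h.xK
  exact ((D.mem_A D.x).mp this).2 g hg

/-- the automorphism group of `P` is cyclic -/
theorem CSD.Good.mulAut_cyclic (h : D.Good) : IsCyclic (MulAut (D.P : Subgroup G)) := by
  haveI := h.cyc
  obtain ⟨n, hn⟩ := IsPGroup.iff_card.mp D.P.2
  have e := IsCyclic.mulAutMulEquiv (D.P : Subgroup G)
  haveI : IsCyclic (ZMod (Nat.card (D.P : Subgroup G)))ˣ := by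
    rw [hn]
    exact ZMod.isCyclic_units_of_prime_pow p hp.out h.p_ne_two n
  exact isCyclic_of_surjective e.symm e.symm.surjective

/-- the order of `Aut P` is `p ^ (n - 1) * (p - 1)`; a number coprime to `p` dividing it divides
`p - 1`. -/
theorem CSD.Good.dvd_pred_of_dvd_card_mulAut (h : D.Good) (m : ℕ)
    (hm : m ∣ Nat.card (MulAut (D.P : Subgroup G))) (hcop : Nat.Coprime m p) : m ∣ p - 1 := by
  haveI := h.cyc
  rw [IsCyclic.card_mulAut] at hm
  obtain ⟨n, hn⟩ := IsPGroup.iff_card.mp D.P.2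
  rw [hn] at hm
  rcases Nat.eq_zero_or_pos n with h0 | h0
  · rw [h0, pow_zero, Nat.totient_one] at hm
    exact hm.trans (one_dvd _)
  · rw [Nat.totient_prime_pow hp.out h0] at hm
    exact (Nat.Coprime.pow_right (n - 1) hcop).dvd_of_dvd_mul_left hm


/-- the elements of exponent `s` in a commutative subgroup -/
def csOmega (S : Subgroup G) (hS : ∀ t ∈ S, ∀ t' ∈ S, t * t' = t' * t) (s : ℕ) : Subgroup G where
  carrier := {t | t ∈ S ∧ t ^ s = 1}
  mul_mem' := by
    rintro t t' ⟨h1, h2⟩ ⟨h3, h4⟩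
    refine ⟨S.mul_mem h1 h3, ?_⟩
    have hc : Commute t t' := hS t h1 t' h3
    rw [hc.mul_pow, h2, h4, one_mul]
  one_mem' := ⟨S.one_mem, one_pow _⟩
  inv_mem' := by
    rintro t ⟨h1, h2⟩
    exact ⟨S.inv_mem h1, by rw [inv_pow, h2, inv_one]⟩

theorem mem_csOmega (S : Subgroup G) (hS : ∀ t ∈ S, ∀ t' ∈ S, t * t' = t' * t) (s : ℕ) (t : G) :
    t ∈ csOmega S hS s ↔ t ∈ S ∧ t ^ s = 1 := Iff.rfl

/-- **Step 9, data**: a Sylow `s`-subgroup `S` containing `a ∈ A` of prime order `s` lies in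
`N_G(P)` and is normalized by a `p`-element `y` not commuting with `a`, no proper power of which
normalizes `P`. -/
theorem CSD.Good.step9_data (h : D.Good) (hIH : CSIH p G) (hperf : commutator G = ⊤)
    (a : G) (ha : a ∈ D.A) {s : ℕ} [hs : Fact s.Prime] (has : orderOf a = s) (S : Sylow s G)
    (haS : a ∈ (S : Subgroup G)) :
    s ≠ p ∧ ¬ p ∣ Nat.card (S : Subgroup G) ∧
    (∀ t ∈ (S : Subgroup G), ∀ t' ∈ (S : Subgroup G), t * t' = t' * t) ∧
    (S : Subgroup G) ≤ Subgroup.normalizer ((D.P : Subgroup G) : Set G) ∧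
    ∃ y : G, ∃ k : ℕ, y ^ p ^ k = 1 ∧ y ∈ Subgroup.normalizer ((S : Subgroup G) : Set G) ∧
      y * a ≠ a * y ∧
      ∀ i, 0 < i → i < p → y ^ i ∉ Subgroup.normalizer ((D.P : Subgroup G) : Set G) := by
  have ha1 : a ≠ 1 := by
    intro h1
    rw [h1, orderOf_one] at has
    exact hs.out.one_lt.ne has
  have hsp : s ≠ p := by
    intro h1
    have := h.K_ord a (D.A_le_K ha)
    rw [has, h1, Nat.coprime_self] at this
    exact hp.out.one_lt.ne' this
  have hSp : ¬ p ∣ Nat.card (S : Subgroup G) := by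
    obtain ⟨k, hk⟩ := (IsPGroup.iff_card.mp S.2)
    rw [hk]
    intro hd
    have := (Nat.prime_dvd_prime_iff_eq hp.out hs.out).mp (hp.out.dvd_of_dvd_pow hd)
    exact hsp this.symm
  have hcomm : ∀ t ∈ (S : Subgroup G), ∀ t' ∈ (S : Subgroup G), t * t' = t' * t :=
    h.ab _ hSp
  refine ⟨hsp, hSp, hcomm, ?_, ?_⟩
  · intro t ht
    exact h.centA hIH hperf a ha ha1 t (hcomm t ht a haS)
  · obtain ⟨Y, hYp, hYN, hYfix⟩ := cs_exists_Y h.ab hperf hsp S
    have hex : ∃ y ∈ Y, y * a ≠ a * y := by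
      by_contra hcon
      push Not at hcon
      exact ha1 (hYfix a haS hcon)
    obtain ⟨y, hyY, hya⟩ := hex
    obtain ⟨k, hk⟩ := hYp ⟨y, hyY⟩
    have hk' : y ^ p ^ k = 1 := congrArg Subtype.val hk
    exact ⟨y, k, hk', hYN hyY, hya, fun i hi0 hip => h.y_pow_notin y a k hk' ha hya i hi0 hip⟩

end Cfsg.Agent.Lib.Helper9
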