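import Mathlib
import Cfsg.Prelude.Def_Transfer
import Cfsg.Agent.Lib.Helper9.CS5

set_option autoImplicit false

namespace Cfsg.Agent.Lib.Helper9

open Subgroup

variable {p : ℕ} [hp : Fact p.Prime] {G : Type*} [Group G] [Finite G] {D : CSD p G}

/-- a `p'`-element `b` of prime order `s` in `N_G(P)` not centralizing `P` has `s ∣ p - 1`. -/
theorem CSD.Good.prime_dvd_pred (h : D.Good) (b : G) {s : ℕ} [hs : Fact s.Prime]
    (hbs : orderOf b = s) (hsp : s ≠ p)
    (hbM : b ∈ Subgroup.normalizer ((D.P : Subgroup G) : Set G))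
    (hbc : ¬ ∀ g ∈ (D.P : Subgroup G), b * g = g * b) : s ∣ p - 1 := by
  have hL : Subgroup.zpowers b ≤ Subgroup.normalizer ((D.P : Subgroup G) : Set G) := by
    rw [Subgroup.zpowers_le]; exact hbM
  obtain ⟨R, hR, -⟩ := cs_card_factor (D.P : Subgroup G) (Subgroup.zpowers b) hL
  have hcardL : Nat.card (Subgroup.zpowers b) = s := by rw [Nat.card_zpowers, hbs]
  set L0 : Subgroup G := Subgroup.zpowers b ⊓ Subgroup.centralizer ((D.P : Subgroup G) : Set G)
    with hL0
  have h1 : Nat.card L0 ∣ s := by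
    rw [← hcardL]
    exact Subgroup.card_dvd_of_le inf_le_left
  have h2 : Nat.card L0 = 1 := by
    rcases (Nat.dvd_prime hs.out).mp h1 with h3 | h3
    · exact h3
    · exfalso
      apply hbc
      have h4 : L0 = Subgroup.zpowers b := by
        apply Subgroup.eq_of_le_of_card_ge inf_le_left
        rw [h3, hcardL]
      have h5 : b ∈ L0 := by rw [h4]; exact Subgroup.mem_zpowers b
      have h6 := (Subgroup.mem_inf.mp h5).2
      rw [Subgroup.mem_centralizer_iff] at h6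
      intro g hg
      exact (h6 g hg).symm
  rw [hcardL, h2, one_mul] at hR
  have h7 : s ∣ Nat.card (MulAut (D.P : Subgroup G)) := by
    rw [hR]; exact Subgroup.card_subgroup_dvd_card R
  apply h.dvd_pred_of_dvd_card_mulAut s h7
  exact (Nat.coprime_primes hs.out hp.out).mpr hsp

/-- **Step 9**: an element of `A` of prime order `s` forces `s = 2` and `p = 3`. -/
theorem CSD.Good.step9 (h : D.Good) (hIH : CSIH p G) (hperf : commutator G = ⊤)
    (a : G) (ha : a ∈ D.A) {s : ℕ} [hs : Fact s.Prime] (has : orderOf a = s) :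
    s = 2 ∧ p = 3 := by
  have hza : IsPGroup s (Subgroup.zpowers a) := by
    apply IsPGroup.of_card (n := 1)
    rw [Nat.card_zpowers, has, pow_one]
  obtain ⟨S, hS⟩ := hza.exists_le_sylow
  have haS : a ∈ (S : Subgroup G) := hS (Subgroup.mem_zpowers a)
  obtain ⟨hsp, hSp, hcomm, hSM, y, k, hyk, hyN, hya, hynot⟩ :=
    h.step9_data hIH hperf a ha has S haS
  set Ω : Subgroup G := csOmega (S : Subgroup G) hcomm s with hΩ
  set Ω₀ : Subgroup G := Ω ⊓ Subgroup.centralizer ((D.P : Subgroup G) : Set G) with hΩ₀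
  have hle : Ω₀ ≤ Ω := inf_le_left
  have hΩM : Ω ≤ Subgroup.normalizer ((D.P : Subgroup G) : Set G) :=
    fun t ht => hSM ht.1
  have hcentP : ∀ w, w ∈ Subgroup.centralizer ((D.P : Subgroup G) : Set G) →
      ∀ g ∈ (D.P : Subgroup G), w * g = g * w := by
    intro w hw g hg
    rw [Subgroup.mem_centralizer_iff] at hw
    exact (hw g hg).symm
  have hyΩ : ∀ t ∈ Ω, ∀ i : ℕ, y ^ i * t * (y ^ i)⁻¹ ∈ Ω := by
    intro t ht i
    refine ⟨(Subgroup.mem_normalizer_iff.mp (Subgroup.pow_mem _ hyN i) t).mp ht.1, ?_⟩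
    have : (y ^ i * t * (y ^ i)⁻¹) ^ s = y ^ i * t ^ s * (y ^ i)⁻¹ := conj_pow
    rw [this, ht.2]; group
  have hdisj : ∀ i j : ℕ, i < j → j < p → ∀ w ∈ Ω₀, ∀ w' ∈ Ω₀, w ≠ 1 →
      y ^ i * w * (y ^ i)⁻¹ = y ^ j * w' * (y ^ j)⁻¹ → False := by
    intro i j hij hjp w hw w' hw' hw1 heq
    have hwc := hcentP w (Subgroup.mem_inf.mp hw).2
    have hw'c := hcentP w' (Subgroup.mem_inf.mp hw').2
    have hwS : w ∈ (S : Subgroup G) := (Subgroup.mem_inf.mp hw).1.1
    have hwA : w ∈ D.A := h.mem_A_of_cent w hwc (cs_coprime_of_mem hSp w hwS)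
    have hj : y ^ j = y ^ i * y ^ (j - i) := by
      rw [← pow_add]; congr 1; omega
    have hconj : w = y ^ (j - i) * w' * (y ^ (j - i))⁻¹ := by
      have e1 : w = (y ^ i)⁻¹ * (y ^ i * w * (y ^ i)⁻¹) * y ^ i := by group
      rw [e1, heq, hj]; group
    have := h.conj_key hIH hperf (y ^ (j - i)) w w' hwA hw1 hw'c hconj
    exact hynot (j - i) (by omega) (by omega) this
  haveI := h.mulAut_cyclic
  have hcard : Nat.card Ω ≤ s * Nat.card Ω₀ := by
    obtain ⟨R, hR, hRl⟩ := cs_card_factor (D.P : Subgroup G) Ω hΩM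
    have h1 : Nat.card R ∣ s := by
      apply cs_card_dvd_of_pow R s
      intro σ hσ
      obtain ⟨l, hl, hlσ⟩ := hRl σ hσ
      ext g
      rw [hlσ s g, hl.2]
      simp
    have h2 : Nat.card R ≤ s := Nat.le_of_dvd hs.out.pos h1
    rw [hR, mul_comm]
    exact Nat.mul_le_mul_right _ h2
  have haΩ₀ : a ∈ Ω₀ := by
    refine Subgroup.mem_inf.mpr ⟨⟨haS, by rw [← has, pow_orderOf_eq_one]⟩, ?_⟩
    rw [Subgroup.mem_centralizer_iff]
    intro g hg
    exact (((D.mem_A a).mp ha).2 g hg).symm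
  have hsle : s ≤ Nat.card Ω₀ := by
    have h1 : Subgroup.zpowers a ≤ Ω₀ := by rw [Subgroup.zpowers_le]; exact haΩ₀
    have h2 := Subgroup.card_le_of_le h1
    rwa [Nat.card_zpowers, has] at h2
  have hps : p ≤ s + 1 := cs_count Ω Ω₀ hle y s p hyΩ hdisj hcard hsle hs.out.two_le
  -- `b = y a y⁻¹` acts nontrivially on `P`
  have hbS : y * a * y⁻¹ ∈ (S : Subgroup G) := (Subgroup.mem_normalizer_iff.mp hyN a).mp haS
  have ha1 : a ≠ 1 := by
    intro h1
    rw [h1, orderOf_one] at has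
    exact hs.out.one_lt.ne has
  have hbc : ¬ ∀ g ∈ (D.P : Subgroup G), y * a * y⁻¹ * g = g * (y * a * y⁻¹) := by
    intro hbc
    have hconj : a = y⁻¹ * (y * a * y⁻¹) * y⁻¹⁻¹ := by group
    have h1 := h.conj_key hIH hperf y⁻¹ a (y * a * y⁻¹) ha ha1 hbc hconj
    have h2 : y ∈ Subgroup.normalizer ((D.P : Subgroup G) : Set G) := by
      have := Subgroup.inv_mem _ h1
      rwa [inv_inv] at this
    have h3 := hynot 1 Nat.one_pos hp.out.one_lt
    rw [pow_one] at h3
    exact h3 h2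
  have hdvd : s ∣ p - 1 :=
    h.prime_dvd_pred (y * a * y⁻¹) (by rw [cs_orderOf_conj, has]) hsp (hSM hbS) hbc
  have hp1 : 0 < p - 1 := Nat.sub_pos_of_lt hp.out.one_lt
  have hsp1 : s ≤ p - 1 := Nat.le_of_dvd hp1 hdvd
  have hpe : p = s + 1 := by omega
  rcases hs.out.eq_two_or_odd' with h2 | hodd
  · exact ⟨h2, by omega⟩
  · exfalso
    have h2p : 2 ∣ p := by
      rw [hpe]
      obtain ⟨m, hm⟩ := hodd
      exact ⟨m + 1, by omega⟩
    have := (Nat.prime_dvd_prime_iff_eq Nat.prime_two hp.out).mp h2p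
    have := hs.out.two_le
    omega

end Cfsg.Agent.Lib.Helper9
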