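import Mathlib
import Cfsg.Prelude.Def_Transfer
import Cfsg.Agent.Lib.Helper9.CS6
import Cfsg.Agent.Lib.Helper9.SylowConj

set_option autoImplicit false

namespace Cfsg.Agent.Lib.Helper9

open Subgroup

variable {p : ℕ} [hp : Fact p.Prime] {G : Type*} [Group G] [Finite G] {D : CSD p G}

theorem cs_orderOf_two (t : G) (ht1 : t ≠ 1) (ht2 : t * t = 1) : orderOf t = 2 := by
  haveI : Fact (Nat.Prime 2) := ⟨Nat.prime_two⟩
  exact orderOf_eq_prime (by rw [sq]; exact ht2) ht1

/-- an involution of `N_G(P)` not centralizing `P` inverts `P`. -/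
theorem CSD.Good.inv_of_not_cent (h : D.Good) (t : G)
    (htM : t ∈ Subgroup.normalizer ((D.P : Subgroup G) : Set G)) (ht2 : t * t = 1)
    (htc : ¬ ∀ g ∈ (D.P : Subgroup G), t * g = g * t) :
    ∀ g ∈ (D.P : Subgroup G), t * g * t⁻¹ = g⁻¹ := by
  have ht1 : t ≠ 1 := by
    rintro rfl
    apply htc
    intro g _
    rw [one_mul, mul_one]
  have hord : orderOf t = 2 := cs_orderOf_two t ht1 ht2
  have hco : Nat.Coprime (orderOf t) p := by
    rw [hord]
    exact (Nat.coprime_primes Nat.prime_two hp.out).mpr h.p_ne_two.symm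
  have hti : t⁻¹ = t := inv_eq_of_mul_eq_one_left ht2
  intro g hg
  have hconj : t * g * t⁻¹ ∈ (D.P : Subgroup G) := (Subgroup.mem_normalizer_iff.mp htM g).mp hg
  have hc : g * (t * g * t⁻¹) ∈ (D.P : Subgroup G) := Subgroup.mul_mem _ hg hconj
  have htc' : t * (g * (t * g * t⁻¹)) = (g * (t * g * t⁻¹)) * t := by
    have h1 := h.Pcomm _ hconj g hg
    calc t * (g * (t * g * t⁻¹)) = (t * g * t⁻¹) * (t * t) * g * t⁻¹ := by group
      _ = ((t * g * t⁻¹) * g) * t⁻¹ := by rw [ht2]; group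
      _ = (g * (t * g * t⁻¹)) * t := by rw [h1, hti]
  by_cases hc1 : g * (t * g * t⁻¹) = 1
  · exact eq_inv_of_mul_eq_one_right hc1
  · exfalso
    exact htc (cs_fix_all (D.P : Subgroup G) h.cyc D.P.2 t htM hco _ hc hc1 htc')

/-- a conjugate of a nontrivial element of `A` by an element outside `N_G(P)` does not centralize
`P`. -/
theorem CSD.Good.not_cent_of_conj (h : D.Good) (hIH : CSIH p G) (hperf : commutator G = ⊤)
    (u w : G) (hw : w ∈ D.A) (hw1 : w ≠ 1)
    (hu : u ∉ Subgroup.normalizer ((D.P : Subgroup G) : Set G)) :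
    ¬ ∀ g ∈ (D.P : Subgroup G), u * w * u⁻¹ * g = g * (u * w * u⁻¹) := by
  intro hbc
  have hconj : w = u⁻¹ * (u * w * u⁻¹) * u⁻¹⁻¹ := by group
  have h1 := h.conj_key hIH hperf u⁻¹ w (u * w * u⁻¹) hw hw1 hbc hconj
  apply hu
  have := Subgroup.inv_mem _ h1
  rwa [inv_inv] at this

/-- the product of two elements inverting `P` centralizes `P`. -/
theorem cs_inv_mul_inv (P : Subgroup G) (t t' : G) (ht : ∀ g ∈ P, t * g * t⁻¹ = g⁻¹)
    (ht' : ∀ g ∈ P, t' * g * t'⁻¹ = g⁻¹) : ∀ g ∈ P, t * t' * g = g * (t * t') := by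
  intro g hg
  have h1 := ht' g hg
  have h2 := ht g⁻¹ (P.inv_mem hg)
  rw [inv_inv] at h2
  calc t * t' * g = t * (t' * g * t'⁻¹) * t' := by group
    _ = (t * g⁻¹ * t⁻¹) * t * t' := by rw [h1]; group
    _ = g * (t * t') := by rw [h2]; group

/-- dihedral `p'`-subgroups are commutative: two involutions whose product has order prime to `p`
commute. -/
theorem CSD.Good.dih (h : D.Good) (u v : G) (hu : u * u = 1) (hv : v * v = 1)
    (hr : ¬ p ∣ orderOf (u * v)) : u * v = v * u := by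
  have hui : u⁻¹ = u := inv_eq_of_mul_eq_one_left hu
  have hvi : v⁻¹ = v := inv_eq_of_mul_eq_one_left hv
  have hur : u * (u * v) * u⁻¹ = (u * v)⁻¹ := by
    rw [mul_inv_rev, hui, hvi, ← mul_assoc, hu, one_mul]
  have hHN : Subgroup.zpowers u ≤ Subgroup.normalizer ((Subgroup.zpowers (u * v)) : Set G) := by
    rw [Subgroup.zpowers_le]
    apply cs_mem_normalizer_of_conj_le
    intro g hg
    obtain ⟨j, rfl⟩ := Subgroup.mem_zpowers_iff.mp hg
    have : u * (u * v) ^ j * u⁻¹ = (u * (u * v) * u⁻¹) ^ j := by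
      have := (MulAut.conj u).toMonoidHom.map_zpow (u * v) j
      simp only [MulEquiv.coe_toMonoidHom, MulAut.conj_apply] at this
      exact this
    rw [this, hur]
    exact Subgroup.zpow_mem _ (Subgroup.inv_mem _ (Subgroup.mem_zpowers _)) j
  have hH : ¬ p ∣ Nat.card (Subgroup.zpowers u) := by
    rw [Nat.card_zpowers]
    intro hd
    have h2 : orderOf u ∣ 2 := orderOf_dvd_of_pow_eq_one (by rw [sq]; exact hu)
    have h3 : p ∣ 2 := hd.trans h2
    have := (Nat.prime_dvd_prime_iff_eq hp.out Nat.prime_two).mp h3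
    exact h.p_ne_two this
  have hN : ¬ p ∣ Nat.card (Subgroup.zpowers (u * v)) := by
    rw [Nat.card_zpowers]; exact hr
  have hJ := cs_pprime_sup p _ _ hHN hH hN
  have h1 := h.ab _ hJ u (Subgroup.mem_sup_left (Subgroup.mem_zpowers u)) (u * v)
    (Subgroup.mem_sup_right (Subgroup.mem_zpowers _))
  calc u * v = u * (u * (u * v)) := by rw [← mul_assoc u u, hu, one_mul]
    _ = u * (u * v * u) := by rw [h1]
    _ = (u * u) * v * u := by group
    _ = v * u := by rw [hu, one_mul]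

end Cfsg.Agent.Lib.Helper9
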