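import Mathlib
import Cfsg.Agent.Lib.Helper9.CSF

set_option autoImplicit false

namespace Cfsg.Agent.Lib.Helper9

open Finset SimpleGraph

open scoped Classical in
/-- there is no vertex-transitive friendship graph of degree at least three. -/
theorem csf_no_graph {V : Type*} [Fintype V] (Γ : SimpleGraph V) (v₀ : V)
    (hfr : ∀ u v, u ≠ v →
      ∃ w, (Γ.Adj u w ∧ Γ.Adj v w) ∧ ∀ w', Γ.Adj u w' ∧ Γ.Adj v w' → w' = w)
    (htrans : ∀ v, ∃ φ : Γ ≃g Γ, φ v₀ = v)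
    (hdeg : ∃ b₁ b₂ b₃, b₁ ≠ b₂ ∧ b₁ ≠ b₃ ∧ b₂ ≠ b₃ ∧
      Γ.Adj v₀ b₁ ∧ Γ.Adj v₀ b₂ ∧ Γ.Adj v₀ b₃) : False := by
  haveI : Nonempty V := ⟨v₀⟩
  have hG : CsFriendship Γ := by
    intro u v huv
    obtain ⟨w, hw, hu⟩ := hfr u v huv
    rw [Fintype.card_eq_one_iff]
    exact ⟨⟨w, (mem_commonNeighbors Γ).mpr hw⟩,
      fun y => Subtype.ext (hu y ((mem_commonNeighbors Γ).mp y.2))⟩
  have hd : Γ.IsRegularOfDegree (Γ.degree v₀) := by
    intro v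
    obtain ⟨φ, rfl⟩ := htrans v
    exact φ.degree_eq v₀
  have h3 : 3 ≤ Γ.degree v₀ := by
    obtain ⟨b₁, b₂, b₃, h12, h13, h23, ha1, ha2, ha3⟩ := hdeg
    rw [← card_neighborFinset_eq_degree]
    have hsub : ({b₁, b₂, b₃} : Finset V) ⊆ Γ.neighborFinset v₀ := by
      intro b hb
      rw [mem_neighborFinset]
      simp only [Finset.mem_insert, Finset.mem_singleton] at hb
      rcases hb with rfl | rfl | rfl
      · exact ha1
      · exact ha2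
      · exact ha3
    have hc : ({b₁, b₂, b₃} : Finset V).card = 3 := Finset.card_eq_three.mpr
      ⟨b₁, b₂, b₃, h12, h13, h23, rfl⟩
    rw [← hc]
    exact Finset.card_le_card hsub
  exact hG.csf_false_of_three_le_degree hd h3

/-- transport of the unique-common-neighbour property along a graph automorphism -/
theorem csf_fr_of_iso {V : Type*} (Γ : SimpleGraph V) (φ : Γ ≃g Γ) (u v : V)
    (h : ∃ w, (Γ.Adj (φ u) w ∧ Γ.Adj (φ v) w) ∧ ∀ w', Γ.Adj (φ u) w' ∧ Γ.Adj (φ v) w' → w' = w) :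
    ∃ w, (Γ.Adj u w ∧ Γ.Adj v w) ∧ ∀ w', Γ.Adj u w' ∧ Γ.Adj v w' → w' = w := by
  obtain ⟨w, ⟨h1, h2⟩, h3⟩ := h
  refine ⟨φ.symm w, ⟨?_, ?_⟩, ?_⟩
  · rw [← φ.map_rel_iff, φ.apply_symm_apply]; exact h1
  · rw [← φ.map_rel_iff, φ.apply_symm_apply]; exact h2
  · rintro w' ⟨h4, h5⟩
    have := h3 (φ w') ⟨φ.map_rel_iff.mpr h4, φ.map_rel_iff.mpr h5⟩
    rw [← this, φ.symm_apply_apply]

end Cfsg.Agent.Lib.Helper9
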