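import Mathlib
import Cfsg.Agent.Lib.Helper9.CSF2

set_option autoImplicit false

namespace Cfsg.Agent.Lib.Helper9

/-- the commuting graph on the involutions of a group -/
def csGraph (G : Type*) [Group G] : SimpleGraph {t : G // t ≠ 1 ∧ t * t = 1} where
  Adj u v := u ≠ v ∧ (u : G) * v = v * u
  symm := ⟨fun _ _ h => ⟨h.1.symm, h.2.symm⟩⟩
  loopless := ⟨fun _ h => h.1 rfl⟩

theorem csGraph_adj {G : Type*} [Group G] (u v : {t : G // t ≠ 1 ∧ t * t = 1}) :
    (csGraph G).Adj u v ↔ u ≠ v ∧ (u : G) * v = v * u := Iff.rfl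

variable {G : Type*} [Group G]

theorem cs_conj_inv_aux (g t : G) (h : t ≠ 1 ∧ t * t = 1) :
    g * t * g⁻¹ ≠ 1 ∧ (g * t * g⁻¹) * (g * t * g⁻¹) = 1 := by
  constructor
  · intro h1
    apply h.1
    have : t = g⁻¹ * (g * t * g⁻¹) * g := by group
    rw [this, h1]; group
  · have : (g * t * g⁻¹) * (g * t * g⁻¹) = g * (t * t) * g⁻¹ := by group
    rw [this, h.2]; group

/-- conjugation as an automorphism of the commuting graph of involutions -/
def csConjIso (g : G) : csGraph G ≃g csGraph G where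
  toFun t := ⟨g * t * g⁻¹, cs_conj_inv_aux g t t.2⟩
  invFun t := ⟨g⁻¹ * t * g⁻¹⁻¹, cs_conj_inv_aux g⁻¹ t t.2⟩
  left_inv t := by
    apply Subtype.ext
    show g⁻¹ * (g * (t : G) * g⁻¹) * g⁻¹⁻¹ = t
    group
  right_inv t := by
    apply Subtype.ext
    show g * (g⁻¹ * (t : G) * g⁻¹⁻¹) * g⁻¹ = t
    group
  map_rel_iff' := by
    intro u v
    show (_ ≠ _ ∧ (g * (u : G) * g⁻¹) * (g * (v : G) * g⁻¹) = (g * (v : G) * g⁻¹) * (g * (u : G) * g⁻¹))
      ↔ (u ≠ v ∧ (u : G) * v = v * u)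
    constructor
    · rintro ⟨h1, h2⟩
      refine ⟨fun h => h1 (by rw [h]), ?_⟩
      have e1 : (u : G) * v = g⁻¹ * ((g * (u : G) * g⁻¹) * (g * (v : G) * g⁻¹)) * g := by group
      rw [e1, h2]; group
    · rintro ⟨h1, h2⟩
      refine ⟨?_, ?_⟩
      · intro h
        apply h1
        have h3 : g * (u : G) * g⁻¹ = g * (v : G) * g⁻¹ := congrArg Subtype.val h
        apply Subtype.ext
        have e1 : (u : G) = g⁻¹ * (g * (u : G) * g⁻¹) * g := by group
        rw [e1, h3]; group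
      · have e1 : (g * (u : G) * g⁻¹) * (g * (v : G) * g⁻¹) = g * ((u : G) * v) * g⁻¹ := by group
        rw [e1, h2]; group

theorem csConjIso_apply (g : G) (t : {t : G // t ≠ 1 ∧ t * t = 1}) :
    ((csConjIso g t : {t : G // t ≠ 1 ∧ t * t = 1}) : G) = g * t * g⁻¹ := rfl

theorem cs_inv_eq_self (t : G) (h : t * t = 1) : t⁻¹ = t := inv_eq_of_mul_eq_one_left h

end Cfsg.Agent.Lib.Helper9
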