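import Mathlib
import Cfsg.Agent.Lib.Helper9.CSG

set_option autoImplicit false

namespace Cfsg.Agent.Lib.Helper9

variable {G : Type*} [Group G]

/-- commuting case of the friendship property -/
theorem cs_frA (P : Subgroup G) (a : G) (ha1 : a ≠ 1) (ha2 : a * a = 1)
    (hinv : ∀ t, t ≠ 1 → t * t = 1 → t * a = a * t → t ≠ a → ∀ g ∈ P, t * g * t⁻¹ = g⁻¹)
    (hP : ∃ z ∈ P, z ≠ 1)
    (huniq : ∀ w, w ≠ 1 → w * w = 1 → ∀ z ∈ P, z ≠ 1 → w * z = z * w → w = a)
    (v : {t : G // t ≠ 1 ∧ t * t = 1}) (hav : (csGraph G).Adj ⟨a, ha1, ha2⟩ v) :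
    ∃ w, ((csGraph G).Adj ⟨a, ha1, ha2⟩ w ∧ (csGraph G).Adj v w) ∧
      ∀ w', (csGraph G).Adj ⟨a, ha1, ha2⟩ w' ∧ (csGraph G).Adj v w' → w' = w := by
  obtain ⟨v, hv1, hv2⟩ := v
  obtain ⟨hne', hc⟩ := hav
  have hc : a * v = v * a := hc
  have hne : a ≠ v := fun h => hne' (Subtype.ext h)
  have hvi : v⁻¹ = v := cs_inv_eq_self v hv2
  have hai : a⁻¹ = a := cs_inv_eq_self a ha2
  have hw1 : a * v ≠ 1 := by
    intro h
    apply hne
    have := eq_inv_of_mul_eq_one_left h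
    rw [hvi] at this
    exact this
  have hw2 : (a * v) * (a * v) = 1 := by
    calc (a * v) * (a * v) = a * (v * a) * v := by group
      _ = a * (a * v) * v := by rw [hc]
      _ = (a * a) * (v * v) := by group
      _ = 1 := by rw [ha2, hv2, one_mul]
  refine ⟨⟨a * v, hw1, hw2⟩, ⟨⟨?_, ?_⟩, ⟨?_, ?_⟩⟩, ?_⟩
  · intro h
    have h1 : a = a * v := congrArg Subtype.val h
    exact hv1 (left_eq_mul.mp h1)
  · show a * (a * v) = (a * v) * a
    rw [mul_assoc, hc]
  · intro h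
    have h1 : v = a * v := congrArg Subtype.val h
    exact ha1 (right_eq_mul.mp h1)
  · show v * (a * v) = (a * v) * v
    rw [← mul_assoc, hc]
  · rintro ⟨w', hw'1, hw'2⟩ ⟨⟨hn1, hc1⟩, ⟨hn2, hc2⟩⟩
    have hc1 : a * w' = w' * a := hc1
    have hc2 : v * w' = w' * v := hc2
    have hw'i : w'⁻¹ = w' := cs_inv_eq_self w' hw'2
    have hwinv := hinv w' hw'1 hw'2 hc1.symm (fun h => hn1 (Subtype.ext h.symm))
    have hvinv := hinv v hv1 hv2 hc.symm (fun h => hne h.symm)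
    have hcne : w' * v ≠ 1 := by
      intro h
      apply hn2
      apply Subtype.ext
      show v = w'
      have := eq_inv_of_mul_eq_one_left h
      rw [hvi] at this
      exact this.symm
    have hcc : (w' * v) * (w' * v) = 1 := by
      calc (w' * v) * (w' * v) = w' * (v * w') * v := by group
        _ = w' * (w' * v) * v := by rw [hc2]
        _ = (w' * w') * (v * v) := by group
        _ = 1 := by rw [hw'2, hv2, one_mul]
    obtain ⟨z, hz, hz1⟩ := hP
    have hcz : (w' * v) * z = z * (w' * v) := by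
      have h1 := hvinv z hz
      have h2 := hwinv z⁻¹ (P.inv_mem hz)
      rw [inv_inv] at h2
      calc (w' * v) * z = w' * (v * z * v⁻¹) * v := by group
        _ = (w' * z⁻¹ * w'⁻¹) * w' * v := by rw [h1]; group
        _ = z * (w' * v) := by rw [h2]; group
    have h3 := huniq (w' * v) hcne hcc z hz hz1 hcz
    apply Subtype.ext
    show w' = a * v
    calc w' = (w' * v) * v⁻¹ := by group
      _ = a * v := by rw [h3, hvi]

/-- non-commuting case of the friendship property -/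
theorem cs_frB (P : Subgroup G) (a : G) (ha1 : a ≠ 1) (ha2 : a * a = 1)
    (hodd : ∀ g ∈ P, g * g = 1 → g = 1)
    (haP : ∀ g ∈ P, a * g = g * a)
    (huniq : ∀ w, w ≠ 1 → w * w = 1 → ∀ z ∈ P, z ≠ 1 → w * z = z * w → w = a)
    (hTI : ∀ u, ∀ z ∈ P, z ≠ 1 → u * z * u⁻¹ ∈ P → u * a = a * u)
    (u v : {t : G // t ≠ 1 ∧ t * t = 1}) (m : ℕ)
    (hz : ((u : G) * v) ^ m ∈ P) (hz1 : ((u : G) * v) ^ m ≠ 1) :
    ∃ w, ((csGraph G).Adj u w ∧ (csGraph G).Adj v w) ∧
      ∀ w', (csGraph G).Adj u w' ∧ (csGraph G).Adj v w' → w' = w := by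
  obtain ⟨u, hu1, hu2⟩ := u
  obtain ⟨v, hv1, hv2⟩ := v
  simp only at hz hz1
  have hui : u⁻¹ = u := cs_inv_eq_self u hu2
  have hvi : v⁻¹ = v := cs_inv_eq_self v hv2
  set z := (u * v) ^ m with hzdef
  have hur : u * (u * v) * u⁻¹ = (u * v)⁻¹ := by
    rw [mul_inv_rev, hui, hvi, ← mul_assoc, hu2, one_mul]
  have hvr : v * (u * v) * v⁻¹ = (u * v)⁻¹ := by
    rw [mul_inv_rev, hui, hvi, mul_assoc, mul_assoc, hv2, mul_one]
  have huz : u * z * u⁻¹ = z⁻¹ := by
    have : u * (u * v) ^ m * u⁻¹ = (u * (u * v) * u⁻¹) ^ m := conj_pow.symm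
    rw [hzdef, this, hur, inv_pow]
  have hvz : v * z * v⁻¹ = z⁻¹ := by
    have : v * (u * v) ^ m * v⁻¹ = (v * (u * v) * v⁻¹) ^ m := conj_pow.symm
    rw [hzdef, this, hvr, inv_pow]
  have hzz : z ≠ z⁻¹ := by
    intro h
    apply hz1
    apply hodd z hz
    calc z * z = z * z⁻¹ := by rw [← h]
      _ = 1 := mul_inv_cancel z
  have hane : ∀ t : G, t * z * t⁻¹ = z⁻¹ → a ≠ t := by
    rintro t ht rfl
    apply hzz
    rw [← ht, haP z hz, mul_inv_cancel_right]
  have hua : u * a = a * u := hTI u z hz hz1 (by rw [huz]; exact P.inv_mem hz)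
  have hva : v * a = a * v := hTI v z hz hz1 (by rw [hvz]; exact P.inv_mem hz)
  refine ⟨⟨a, ha1, ha2⟩, ⟨⟨?_, hua⟩, ⟨?_, hva⟩⟩, ?_⟩
  · intro h
    exact hane u huz (congrArg Subtype.val h).symm
  · intro h
    exact hane v hvz (congrArg Subtype.val h).symm
  · rintro ⟨w', hw'1, hw'2⟩ ⟨⟨-, hc1⟩, ⟨-, hc2⟩⟩
    have hc1 : u * w' = w' * u := hc1
    have hc2 : v * w' = w' * v := hc2
    apply Subtype.ext
    show w' = a
    apply huniq w' hw'1 hw'2 z hz hz1
    have h1 : Commute w' u := hc1.symm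
    have h2 : Commute w' v := hc2.symm
    exact ((h1.mul_right h2).pow_right m)

end Cfsg.Agent.Lib.Helper9
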