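import Mathlib
import Cfsg.Agent.Lib.Helper9.CSG2

set_option autoImplicit false

namespace Cfsg.Agent.Lib.Helper9

variable {G : Type*} [Group G]

/-- **Endgame**: the configuration reached in the minimal counterexample contradicts the
friendship theorem applied to the commuting graph of involutions. -/
theorem cs_endgame [Finite G] (P : Subgroup G) (a : G) (ha1 : a ≠ 1) (ha2 : a * a = 1)
    (hconj : ∀ t, t ≠ 1 → t * t = 1 → ∃ g, t = g * a * g⁻¹)
    (hinv : ∀ t, t ≠ 1 → t * t = 1 → t * a = a * t → t ≠ a → ∀ g ∈ P, t * g * t⁻¹ = g⁻¹)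
    (hodd : ∀ g ∈ P, g * g = 1 → g = 1)
    (hP : ∃ z ∈ P, z ≠ 1)
    (hPc : ∀ g ∈ P, ∀ g' ∈ P, g * g' = g' * g)
    (haP : ∀ g ∈ P, a * g = g * a)
    (huniq : ∀ w, w ≠ 1 → w * w = 1 → ∀ z ∈ P, z ≠ 1 → w * z = z * w → w = a)
    (hTI : ∀ u, ∀ z ∈ P, z ≠ 1 → u * z * u⁻¹ ∈ P → u * a = a * u)
    (hsyl : ∀ z, orderOf z = 3 → ∃ g, g * z * g⁻¹ ∈ P)
    (hdih : ∀ u v : G, u * u = 1 → v * v = 1 → ¬ 3 ∣ orderOf (u * v) → u * v = v * u)
    (hb : ∃ b, b ≠ 1 ∧ b * b = 1 ∧ b * a = a * b ∧ b ≠ a) : False := by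
  classical
  haveI : Fintype {t : G // t ≠ 1 ∧ t * t = 1} := Fintype.ofFinite _
  refine csf_no_graph (csGraph G) ⟨a, ha1, ha2⟩ ?_ ?_ ?_
  · -- friendship property
    intro u v huv
    by_cases hc : (u : G) * v = v * u
    · obtain ⟨g, hg⟩ := hconj u u.2.1 u.2.2
      apply csf_fr_of_iso (csGraph G) (csConjIso g⁻¹) u v
      have hφu : csConjIso g⁻¹ u = ⟨a, ha1, ha2⟩ := by
        apply Subtype.ext
        rw [csConjIso_apply, hg]
        show g⁻¹ * (g * a * g⁻¹) * g⁻¹⁻¹ = a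
        group
      rw [hφu]
      apply cs_frA P a ha1 ha2 hinv hP huniq
      rw [← hφu]
      exact (csConjIso g⁻¹).map_rel_iff.mpr ⟨huv, hc⟩
    · have h3 : 3 ∣ orderOf ((u : G) * v) := by
        by_contra h3
        exact hc (hdih u v u.2.2 v.2.2 h3)
      have ho : orderOf (((u : G) * v) ^ (orderOf ((u : G) * v) / 3)) = 3 :=
        orderOf_pow_orderOf_div (orderOf_pos _).ne' h3
      obtain ⟨g, hg⟩ := hsyl _ ho
      apply csf_fr_of_iso (csGraph G) (csConjIso g) u v
      have hprod : ((csConjIso g u : {t : G // t ≠ 1 ∧ t * t = 1}) : G) * (csConjIso g v) =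
          g * ((u : G) * v) * g⁻¹ := by
        rw [csConjIso_apply, csConjIso_apply]; group
      apply cs_frB P a ha1 ha2 hodd haP huniq hTI (csConjIso g u) (csConjIso g v)
        (orderOf ((u : G) * v) / 3)
      · rw [hprod, conj_pow]; exact hg
      · rw [hprod, conj_pow]
        intro h1
        have h2 : ((u : G) * v) ^ (orderOf ((u : G) * v) / 3) = 1 := by
          have e1 : ((u : G) * v) ^ (orderOf ((u : G) * v) / 3) =
              g⁻¹ * (g * ((u : G) * v) ^ (orderOf ((u : G) * v) / 3) * g⁻¹) * g := by group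
          rw [e1, h1]; group
        rw [h2, orderOf_one] at ho
        norm_num at ho
  · -- transitivity
    intro v
    obtain ⟨g, hg⟩ := hconj v v.2.1 v.2.2
    refine ⟨csConjIso g, ?_⟩
    apply Subtype.ext
    rw [csConjIso_apply]
    exact hg.symm
  · -- degree
    obtain ⟨b, hb1, hb2, hba, hbne⟩ := hb
    obtain ⟨z, hz, hz1⟩ := hP
    have hbinv := hinv b hb1 hb2 hba hbne
    have hbi : b⁻¹ = b := cs_inv_eq_self b hb2
    have hzz : z ≠ z⁻¹ := by
      intro h
      apply hz1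
      apply hodd z hz
      calc z * z = z * z⁻¹ := by rw [← h]
        _ = 1 := mul_inv_cancel z
    have hnb1 : ∀ g ∈ P, g * b ≠ 1 := by
      intro g hg h
      apply hb1
      have h1 : b = g⁻¹ := eq_inv_of_mul_eq_one_right h
      apply hodd b (by rw [h1]; exact P.inv_mem hg) hb2
    have hnb2 : ∀ g ∈ P, (g * b) * (g * b) = 1 := by
      intro g hg
      calc (g * b) * (g * b) = g * (b * g * b⁻¹) * (b * b) := by group
        _ = 1 := by rw [hbinv g hg, hb2]; group
    have hadj : ∀ g (hg : g ∈ P),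
        (csGraph G).Adj ⟨a, ha1, ha2⟩ ⟨g * b, hnb1 g hg, hnb2 g hg⟩ := by
      intro g hg
      refine ⟨?_, ?_⟩
      · intro h
        have h1 : a = g * b := congrArg Subtype.val h
        have h2 : b = g⁻¹ * a := by rw [h1]; group
        apply hzz
        have h3 := hbinv z hz
        rw [← h3, h2]
        have h4 := haP z hz
        have h5 := hPc g⁻¹ (P.inv_mem hg) z hz
        calc z = z * (g⁻¹ * a) * (g⁻¹ * a)⁻¹ := by group
          _ = (z * g⁻¹) * a * (g⁻¹ * a)⁻¹ := by group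
          _ = (g⁻¹ * z) * a * (g⁻¹ * a)⁻¹ := by rw [← h5]
          _ = g⁻¹ * (z * a) * (g⁻¹ * a)⁻¹ := by group
          _ = g⁻¹ * (a * z) * (g⁻¹ * a)⁻¹ := by rw [h4]
          _ = g⁻¹ * a * z * (g⁻¹ * a)⁻¹ := by group
      · show a * (g * b) = (g * b) * a
        calc a * (g * b) = (a * g) * b := by group
          _ = (g * a) * b := by rw [haP g hg]
          _ = g * (a * b) := by group
          _ = g * (b * a) := by rw [hba]
          _ = (g * b) * a := by group
    refine ⟨⟨1 * b, hnb1 1 P.one_mem, hnb2 1 P.one_mem⟩, ⟨z * b, hnb1 z hz, hnb2 z hz⟩,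
      ⟨z⁻¹ * b, hnb1 z⁻¹ (P.inv_mem hz), hnb2 z⁻¹ (P.inv_mem hz)⟩, ?_, ?_, ?_,
      hadj 1 P.one_mem, hadj z hz, hadj z⁻¹ (P.inv_mem hz)⟩
    · intro h
      have h1 : 1 * b = z * b := congrArg Subtype.val h
      exact hz1 (mul_right_cancel h1).symm
    · intro h
      have h1 : 1 * b = z⁻¹ * b := congrArg Subtype.val h
      have h2 : z⁻¹ = 1 := (mul_right_cancel h1).symm
      exact hz1 (inv_eq_one.mp h2)
    · intro h
      have h1 : z * b = z⁻¹ * b := congrArg Subtype.val h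
      exact hzz (mul_right_cancel h1)

end Cfsg.Agent.Lib.Helper9
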