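import Mathlib
import Cfsg.Prelude.Def_Transfer
import Cfsg.Agent.Lib.Helper9.CS7
import Cfsg.Agent.Lib.Helper9.CSG3

set_option autoImplicit false

namespace Cfsg.Agent.Lib.Helper9

open Subgroup

variable {p : ℕ} [hp : Fact p.Prime] {G : Type*} [Group G] [Finite G] {D : CSD p G}

/-- every prime dividing `|A|` is `2`, and `p = 3`. -/
theorem CSD.Good.prime_dvd_cardA (h : D.Good) (hIH : CSIH p G) (hperf : commutator G = ⊤)
    (s : ℕ) (hs : s.Prime) (hsd : s ∣ Nat.card D.A) : s = 2 ∧ p = 3 := by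
  haveI : Fact s.Prime := ⟨hs⟩
  obtain ⟨a, ha⟩ := exists_prime_orderOf_dvd_card' (G := D.A) s hsd
  exact h.step9 hIH hperf (a : G) a.2 (by rw [Subgroup.orderOf_coe]; exact ha)

/-- **the minimal counterexample does not exist** -/
theorem CSD.Good.final (h : D.Good) (hIH : CSIH p G) (hperf : commutator G = ⊤) : False := by
  haveI : Fact (Nat.Prime 2) := ⟨Nat.prime_two⟩
  have hAne := h.A_ne_bot hperf
  have hcardA1 : Nat.card D.A ≠ 1 := fun h1 => hAne (Subgroup.card_eq_one.mp h1)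
  obtain ⟨s₀, hs₀, hs₀d⟩ := Nat.exists_prime_and_dvd hcardA1
  obtain ⟨hs₀2, hp3⟩ := h.prime_dvd_cardA hIH hperf s₀ hs₀ hs₀d
  -- an involution `a ∈ A`
  obtain ⟨a', ha'⟩ := exists_prime_orderOf_dvd_card' (G := D.A) 2 (hs₀2 ▸ hs₀d)
  obtain ⟨a, ha, hao⟩ : ∃ a ∈ D.A, orderOf a = 2 :=
    ⟨(a' : G), a'.2, by rw [Subgroup.orderOf_coe]; exact ha'⟩
  have ha1 : a ≠ 1 := by
    intro h1
    rw [h1, orderOf_one] at hao
    norm_num at hao
  have ha2 : a * a = 1 := by
    have := pow_orderOf_eq_one a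
    rwa [hao, sq] at this
  -- `A` is a `2`-group
  have hA2 : IsPGroup 2 D.A := by
    apply IsPGroup.of_card (n := (Nat.card D.A).primeFactorsList.length)
    exact Nat.eq_prime_pow_of_unique_prime_dvd Nat.card_pos.ne'
      (fun {d} hd hdd => (h.prime_dvd_cardA hIH hperf d hd hdd).1)
  obtain ⟨S, hAS⟩ := hA2.exists_le_sylow
  have haS : a ∈ (S : Subgroup G) := hAS ha
  obtain ⟨hsp, hSp, hcomm, hSM, y, k, hyk, hyN, hya, hynot⟩ :=
    h.step9_data hIH hperf a ha hao S haS
  have hynM : y ∉ Subgroup.normalizer ((D.P : Subgroup G) : Set G) := by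
    have := hynot 1 Nat.one_pos hp.out.one_lt
    rwa [pow_one] at this
  have hy2nM : y ^ 2 ∉ Subgroup.normalizer ((D.P : Subgroup G) : Set G) :=
    hynot 2 (by norm_num) (by omega)
  have hcop2 : ∀ t : G, t ≠ 1 → t * t = 1 → Nat.Coprime (orderOf t) p := by
    intro t ht1 ht2
    rw [cs_orderOf_two t ht1 ht2]
    exact (Nat.coprime_primes Nat.prime_two hp.out).mpr h.p_ne_two.symm
  have hconj_sq : ∀ u t : G, t * t = 1 → (u * t * u⁻¹) * (u * t * u⁻¹) = 1 := by
    intro u t ht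
    have : (u * t * u⁻¹) * (u * t * u⁻¹) = u * (t * t) * u⁻¹ := by group
    rw [this, ht]; group
  have hconj_ne : ∀ u t : G, t ≠ 1 → u * t * u⁻¹ ≠ 1 := by
    intro u t ht h1
    apply ht
    have : t = u⁻¹ * (u * t * u⁻¹) * u := by group
    rw [this, h1]; group
  -- `b = y a y⁻¹`
  have hbS : y * a * y⁻¹ ∈ (S : Subgroup G) := (Subgroup.mem_normalizer_iff.mp hyN a).mp haS
  have hb2 : (y * a * y⁻¹) * (y * a * y⁻¹) = 1 := hconj_sq y a ha2
  have hb1 : y * a * y⁻¹ ≠ 1 := hconj_ne y a ha1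
  have hbnc := h.not_cent_of_conj hIH hperf y a ha ha1 hynM
  have hbinv := h.inv_of_not_cent _ (hSM hbS) hb2 hbnc
  have hbi : (y * a * y⁻¹)⁻¹ = y * a * y⁻¹ := inv_eq_of_mul_eq_one_left hb2
  have hai : a⁻¹ = a := inv_eq_of_mul_eq_one_left ha2
  -- uniqueness of the involution of `A`
  have huniqA : ∀ a' ∈ D.A, a' ≠ 1 → a' * a' = 1 → a' = a := by
    intro a' ha' ha'1 ha'2
    by_contra hne
    have hb'S : y * a' * y⁻¹ ∈ (S : Subgroup G) :=
      (Subgroup.mem_normalizer_iff.mp hyN a').mp (hAS ha')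
    have hb'nc := h.not_cent_of_conj hIH hperf y a' ha' ha'1 hynM
    have hb'inv := h.inv_of_not_cent _ (hSM hb'S) (hconj_sq y a' ha'2) hb'nc
    have haa' : a * a' ∈ D.A := Subgroup.mul_mem _ ha ha'
    have haa'1 : a * a' ≠ 1 := by
      intro h1
      apply hne
      have := eq_inv_of_mul_eq_one_right h1
      rw [hai] at this
      exact this
    apply h.not_cent_of_conj hIH hperf y (a * a') haa' haa'1 hynM
    have e1 : y * (a * a') * y⁻¹ = (y * a * y⁻¹) * (y * a' * y⁻¹) := by group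
    rw [e1]
    exact cs_inv_mul_inv (D.P : Subgroup G) _ _ hbinv hb'inv
  -- involutions of `S` not centralizing `P`
  have hS2 : ∀ t ∈ (S : Subgroup G), t * t = 1 →
      (¬ ∀ g ∈ (D.P : Subgroup G), t * g = g * t) →
      t = y * a * y⁻¹ ∨ t = a * (y * a * y⁻¹) := by
    intro t htS ht2 htnc
    have htinv := h.inv_of_not_cent t (hSM htS) ht2 htnc
    have hcc := cs_inv_mul_inv (D.P : Subgroup G) _ _ htinv hbinv
    have hcS : t * (y * a * y⁻¹) ∈ (S : Subgroup G) := Subgroup.mul_mem _ htS hbS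
    have hc2 : (t * (y * a * y⁻¹)) * (t * (y * a * y⁻¹)) = 1 := by
      have h1 := hcomm t htS _ hbS
      calc (t * (y * a * y⁻¹)) * (t * (y * a * y⁻¹))
          = t * ((y * a * y⁻¹) * t) * (y * a * y⁻¹) := by group
        _ = t * (t * (y * a * y⁻¹)) * (y * a * y⁻¹) := by rw [h1]
        _ = (t * t) * ((y * a * y⁻¹) * (y * a * y⁻¹)) := by group
        _ = 1 := by rw [ht2, hb2, one_mul]
    by_cases hc1 : t * (y * a * y⁻¹) = 1
    · left
      have := eq_inv_of_mul_eq_one_left hc1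
      rw [hbi] at this
      exact this
    · right
      have hcA : t * (y * a * y⁻¹) ∈ D.A :=
        h.mem_A_of_cent _ hcc (hcop2 _ hc1 hc2)
      have h3 := huniqA _ hcA hc1 hc2
      calc t = (t * (y * a * y⁻¹)) * (y * a * y⁻¹)⁻¹ := by group
        _ = a * (y * a * y⁻¹) := by rw [h3, hbi]
  -- involutions of `S` are conjugate to `a`
  have hSconj : ∀ t ∈ (S : Subgroup G), t ≠ 1 → t * t = 1 → ∃ u, t = u * a * u⁻¹ := by
    intro t htS ht1 ht2
    by_cases htc : ∀ g ∈ (D.P : Subgroup G), t * g = g * t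
    · have htA : t ∈ D.A := h.mem_A_of_cent t htc (hcop2 t ht1 ht2)
      refine ⟨1, ?_⟩
      rw [huniqA t htA ht1 ht2]; group
    · rcases hS2 t htS ht2 htc with h1 | h1
      · exact ⟨y, h1⟩
      · refine ⟨y ^ 2, ?_⟩
        have hcS : y ^ 2 * a * (y ^ 2)⁻¹ ∈ (S : Subgroup G) :=
          (Subgroup.mem_normalizer_iff.mp (Subgroup.pow_mem _ hyN 2) a).mp haS
        have hcnc := h.not_cent_of_conj hIH hperf (y ^ 2) a ha ha1 hy2nM
        rcases hS2 _ hcS (hconj_sq (y ^ 2) a ha2) hcnc with h2 | h2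
        · exfalso
          apply hya
          have e1 : y * a * y⁻¹ = y⁻¹ * (y ^ 2 * a * (y ^ 2)⁻¹) * y := by group
          have e2 : y * a * y⁻¹ = a := by
            rw [e1, h2]; group
          calc y * a = (y * a * y⁻¹) * y := by group
            _ = a * y := by rw [e2]
        · rw [h1, h2]
  -- assemble the endgame
  have hMa : ∀ u ∈ Subgroup.normalizer ((D.P : Subgroup G) : Set G), u * a = a * u := by
    intro u hu
    obtain ⟨g, hg, k', hk', rfl⟩ := h.PK u hu
    have h1 := ((D.mem_A a).mp ha).2 g hg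
    have h2 := h.K_comm k' hk' a (D.A_le_K ha)
    calc g * k' * a = g * (k' * a) := by group
      _ = g * (a * k') := by rw [h2]
      _ = (g * a) * k' := by group
      _ = (a * g) * k' := by rw [h1]
      _ = a * (g * k') := by group
  apply cs_endgame (D.P : Subgroup G) a ha1 ha2
  · -- hconj
    intro t ht1 ht2
    have hzt : IsPGroup 2 (Subgroup.zpowers t) := by
      apply IsPGroup.of_card (n := 1)
      rw [Nat.card_zpowers, cs_orderOf_two t ht1 ht2, pow_one]
    obtain ⟨m, hm⟩ := exists_sylow_conj_le S (Subgroup.zpowers t) hzt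
    have h1 := hm t (Subgroup.mem_zpowers t)
    obtain ⟨u, hu⟩ := hSconj _ h1 (hconj_ne m t ht1) (hconj_sq m t ht2)
    refine ⟨m⁻¹ * u, ?_⟩
    have e1 : t = m⁻¹ * (m * t * m⁻¹) * m := by group
    rw [e1, hu]; group
  · -- hinv
    intro t ht1 ht2 hta htne
    have htM := h.centA hIH hperf a ha ha1 t hta
    apply h.inv_of_not_cent t htM ht2
    intro htc
    exact htne (huniqA t (h.mem_A_of_cent t htc (hcop2 t ht1 ht2)) ht1 ht2)
  · -- hodd
    intro g hg hg2
    by_contra hg1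
    have h1 := h.inter_PK
    have h2 := hcop2 g hg1 hg2
    obtain ⟨j, hj⟩ := (IsPGroup.iff_orderOf.mp D.P.2) ⟨g, hg⟩
    rw [Subgroup.orderOf_mk] at hj
    rw [cs_orderOf_two g hg1 hg2] at hj
    have h3 : p ∣ 2 := by
      rcases Nat.eq_zero_or_pos j with h0 | h0
      · rw [h0, pow_zero] at hj; norm_num at hj
      · rw [hj]; exact dvd_pow_self p h0.ne'
    exact h.p_ne_two ((Nat.prime_dvd_prime_iff_eq hp.out Nat.prime_two).mp h3)
  · -- hP
    obtain ⟨g, hg, hne⟩ := h.xP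
    refine ⟨g, hg, ?_⟩
    rintro rfl
    exact hne (by rw [one_mul, mul_one])
  · exact h.Pcomm
  · exact ((D.mem_A a).mp ha).2
  · -- huniq
    intro w hw1 hw2 z hz hz1 hwz
    have hwc := h.cent_le z hz hz1 w hwz
    exact huniqA w (h.mem_A_of_cent w hwc (hcop2 w hw1 hw2)) hw1 hw2
  · -- hTI
    intro u z hz hz1 huz
    exact hMa u (h.TI z u hz hz1 huz)
  · -- hsyl
    intro z hz
    have hzz : IsPGroup p (Subgroup.zpowers z) := by
      apply IsPGroup.of_card (n := 1)
      rw [Nat.card_zpowers, hz, pow_one, hp3]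
    obtain ⟨m, hm⟩ := exists_sylow_conj_le D.P (Subgroup.zpowers z) hzz
    exact ⟨m, hm z (Subgroup.mem_zpowers z)⟩
  · -- hdih
    intro u v hu hv h3
    exact h.dih u v hu hv (by rw [hp3]; exact h3)
  · -- hb
    refine ⟨y * a * y⁻¹, hb1, hb2, hcomm _ hbS a haS, ?_⟩
    intro h1
    apply hya
    calc y * a = (y * a * y⁻¹) * y := by group
      _ = a * y := by rw [h1]

end Cfsg.Agent.Lib.Helper9
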