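import Mathlib
import Cfsg.Prelude.Def_Transfer
import Cfsg.Agent.Lib.Helper9.CS8

set_option autoImplicit false

namespace Cfsg.Agent.Lib.Helper9

open Subgroup

universe u

/-- A finite group with a cyclic Sylow `p`-subgroup all of whose `p'`-subgroups are commutative has
a normal `p`-complement or a normal Sylow `p`-subgroup. -/
theorem cs_main : ∀ (n : ℕ) (G : Type u) [Group G] [Finite G], Nat.card G = n →
    ∀ {p : ℕ} [Fact p.Prime] (P : Sylow p G), IsCyclic P →
    (∀ H : Subgroup G, ¬ p ∣ Nat.card H → IsMulCommutative H) →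
    Cfsg.HasNormalPComplement p G ∨ (P : Subgroup G).Normal := by
  intro n
  induction n using Nat.strong_induction_on with
  | _ n ih =>
  intro G _ _ hn p hp P hcyc hab
  by_contra hcon
  push Not at hcon
  obtain ⟨hnpc, hnn⟩ := hcon
  have habel : ∀ H : Subgroup G, ¬ p ∣ Nat.card H → ∀ a ∈ H, ∀ b ∈ H, a * b = b * a := by
    intro H hH a ha b hb
    have := (hab H hH).is_comm.comm ⟨a, ha⟩ ⟨b, hb⟩
    exact congrArg Subtype.val this
  have hPcomm := Cfsg.Agent.Lib.Helper24.cs_comm (P : Subgroup G) hcyc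
  set M : Subgroup G := Subgroup.normalizer ((P : Subgroup G) : Set G) with hM
  have hPM : (P : Subgroup G) ≤ M := Subgroup.le_normalizer
  -- Burnside
  have hex : ∃ m ∈ M, ∃ g ∈ (P : Subgroup G), m * g ≠ g * m := by
    by_contra hall
    push Not at hall
    apply hnpc
    have hB : Subgroup.normalizer ((P : Subgroup G) : Set G) ≤
        Subgroup.centralizer ((P : Subgroup G) : Set G) := by
      intro m hm
      rw [Subgroup.mem_centralizer_iff]
      intro g hg
      exact (hall m hm g hg).symm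
    exact ⟨P, (MonoidHom.transferSylow P hB).ker, inferInstance,
      MonoidHom.ker_transferSylow_isComplement' P hB⟩
  obtain ⟨m₀, hm₀, g₀, hg₀, hne₀⟩ := hex
  -- Schur–Zassenhaus
  set PM : Sylow p M := P.subtype hPM with hPMdef
  have hPMcoe : (PM : Subgroup M) = (P : Subgroup G).subgroupOf M := Sylow.coe_subtype P hPM
  have hmemPM : ∀ c : M, c ∈ (PM : Subgroup M) ↔ (c : G) ∈ (P : Subgroup G) := by
    intro c
    rw [hPMcoe, Subgroup.mem_subgroupOf]
  haveI hPMn : (PM : Subgroup M).Normal := by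
    rw [hPMcoe]
    exact Subgroup.normal_in_normalizer
  obtain ⟨K', hK'⟩ := Subgroup.exists_right_complement'_of_coprime
    (N := (PM : Subgroup M)) PM.card_coprime_index
  have hcardPM : Nat.card (PM : Subgroup M) = Nat.card (P : Subgroup G) := by
    rw [hPMcoe]
    exact Nat.card_congr (Subgroup.subgroupOfEquivOfLe hPM).toEquiv
  have hcardK : Nat.card (K'.map M.subtype) = Nat.card K' :=
    Subgroup.card_map_of_injective (Subgroup.subtype_injective _)
  have hmul : Nat.card (PM : Subgroup M) * Nat.card K' = Nat.card M := hK'.card_mul_card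
  have hdecomp : ∀ m ∈ M, ∃ g ∈ (P : Subgroup G), ∃ k ∈ K'.map M.subtype, m = g * k := by
    intro m hm
    obtain ⟨⟨g, k⟩, hgk, -⟩ := (isComplement'_def.mp hK').existsUnique ⟨m, hm⟩
    refine ⟨((g : M) : G), (hmemPM g).mp g.2, ((k : M) : G), ⟨k, k.2, rfl⟩, ?_⟩
    have := congrArg Subtype.val hgk
    simpa using this.symm
  obtain ⟨g₁, hg₁, k₁, hk₁, hm₀eq⟩ := hdecomp m₀ hm₀
  let D : CSD p G := ⟨P, K'.map M.subtype, k₁⟩
  have hGood : D.Good := by
    refine ⟨hcyc, habel, ?_, ?_, hdecomp, hk₁, ?_, ?_⟩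
    · rintro _ ⟨k, -, rfl⟩
      exact k.2
    · show ¬ p ∣ Nat.card (K'.map M.subtype)
      rw [hcardK, ← hK'.symm.index_eq_card]
      exact PM.not_dvd_index
    · show ∃ g ∈ (P : Subgroup G), k₁ * g ≠ g * k₁
      refine ⟨g₀, hg₀, ?_⟩
      intro hk
      apply hne₀
      have h1 := hPcomm g₁ hg₁ g₀ hg₀
      rw [hm₀eq]
      calc g₁ * k₁ * g₀ = g₁ * (k₁ * g₀) := by group
        _ = g₁ * (g₀ * k₁) := by rw [hk]
        _ = (g₁ * g₀) * k₁ := by group
        _ = (g₀ * g₁) * k₁ := by rw [h1]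
        _ = g₀ * (g₁ * k₁) := by group
    · show Nat.card M = Nat.card (P : Subgroup G) * Nat.card (K'.map M.subtype)
      rw [hcardK, ← hcardPM, hmul]
  have hIH : CSIH p G := by
    intro H hH Q hQ
    have hlt : Nat.card H < n := by
      rw [← hn]
      by_contra hge
      push Not at hge
      exact hH (Subgroup.eq_top_of_card_eq H (le_antisymm (Subgroup.card_le_card_group H) hge))
    apply ih (Nat.card H) hlt H rfl Q hQ
    intro H' hH'
    have h1 : Nat.card (H'.map H.subtype) = Nat.card H' :=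
      Subgroup.card_map_of_injective (Subgroup.subtype_injective _)
    have h2 := habel (H'.map H.subtype) (by rw [h1]; exact hH')
    refine ⟨⟨fun a b => ?_⟩⟩
    apply Subtype.ext
    apply Subtype.ext
    exact h2 _ ⟨a, a.2, rfl⟩ _ ⟨b, b.2, rfl⟩
  have hperf := hGood.perfect hIH hnn
  exact hGood.final hIH hperf

end Cfsg.Agent.Lib.Helper9
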