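import Cfsg.Agent.Lib.Helper9.CTR2Ccert

/-!
# Project CT (S1164), piece R2C: combinatorics of the standard rank-two subsystems
-/

set_option autoImplicit false
set_option linter.unusedVariables false

namespace Cfsg.Agent.Lib.helper14.CT

open Cfsg.Lie Cfsg.Lie.ChevalleyDatum Cfsg.Agent.Lib.helper8

universe u

variable {D : ChevalleyDatum} {K : Type u} [Field K]

theorem r2_swap (i j r : ℕ) (h : D.InRankTwoSub i j r) : D.InRankTwoSub j i r := by
  obtain ⟨h1, h2, h3, h4⟩ := h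
  exact ⟨h1, h3, h2, fun k hk hkj hki => h4 k hk hki hkj⟩

theorem r2_neg (hD : D ∈ [chevD4, chevF4, chevE6, chevE7, chevE8]) (i j r : ℕ)
    (h : D.InRankTwoSub i j r) : D.InRankTwoSub i j (D.neg r) := by
  have hc := (ctr2c_all hD).1
  unfold ctr2c_negChk at hc
  simp only [List.all_eq_true, List.mem_range, Bool.and_eq_true, decide_eq_true_eq] at hc
  obtain ⟨h1, h2, h3, h4⟩ := h
  obtain ⟨hn, hk⟩ := hc r h1
  exact ⟨hn, h2, h3, fun k hk1 hki hkj => by rw [hk k hk1, h4 k hk1 hki hkj, neg_zero]⟩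

theorem r2_comm (hD : D ∈ [chevD4, chevF4, chevE6, chevE7, chevE8]) (i j r s : ℕ)
    (hr : D.InRankTwoSub i j r) (hs : D.InRankTwoSub i j s) :
    ∀ c ∈ D.commTerms r s, D.InRankTwoSub i j c.1 := by
  have hc := (ctr2c_all hD).2.2.1
  unfold ctr2c_commChk at hc
  simp only [List.all_eq_true, List.mem_range, Bool.and_eq_true, decide_eq_true_eq] at hc
  obtain ⟨hi, hj, hrm⟩ := (ctr2c_mem_phi D i j r).mp hr
  obtain ⟨_, _, hsm⟩ := (ctr2c_mem_phi D i j s).mp hs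
  intro c hcm
  obtain ⟨hlt, hin⟩ := hc i hi j hj r hrm s hsm c hcm
  exact (ctr2c_in_iff D i j c.1).mpr ⟨hlt, hi, hj, hin⟩

theorem r2_refl (hD : D ∈ [chevD4, chevF4, chevE6, chevE7, chevE8]) (i j r : ℕ)
    (h : D.InRankTwoSub i j r) : D.InRankTwoSub i j (D.reflectRoot i r) := by
  obtain ⟨h1, h2, h3, h4⟩ := h
  obtain ⟨η, hR⟩ := h8reflAll_spec D (h8reflAll D (d5_d7 hD)) i h2
  refine ⟨hR.lt r h1, h2, h3, fun k hk hki hkj => ?_⟩
  rw [hR.tc2 k hk r h1, if_neg hki, sub_zero]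
  exact h4 k hk hki hkj

theorem ctr2c_simple_coroot (hD : D ∈ [chevD4, chevF4, chevE6, chevE7, chevE8]) (i : ℕ)
    (hi : i < D.rank) : D.simple i < D.nroots ∧ ∀ k < D.rank,
      (D.coroot.getD (D.simple i) #[]).getD k 0 = if k = i then 1 else 0 := by
  have hc := (ctr2c_all hD).2.1
  unfold ctr2c_simpleChk at hc
  simp only [List.all_eq_true, List.mem_range, Bool.and_eq_true, decide_eq_true_eq] at hc
  exact hc i hi

theorem r2_simple (hD : D ∈ [chevD4, chevF4, chevE6, chevE7, chevE8]) (i j : ℕ)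
    (hi : i < D.rank) (hj : j < D.rank) : D.InRankTwoSub i j (D.simple i) := by
  obtain ⟨h1, h2⟩ := ctr2c_simple_coroot hD i hi
  refine ⟨h1, hi, hj, fun k hk hki hkj => ?_⟩
  rw [h2 k hk, if_neg hki]

/-- every root of `Φ_ik` is conjugate under `⟨s_i, s_k⟩` to `α_i` or `α_k` -/
theorem r2_orb (hD : D ∈ [chevD4, chevF4, chevE6, chevE7, chevE8]) (i k r : ℕ)
    (h : D.InRankTwoSub i k r) :
    ∃ (u : List ℕ) (j : ℕ), (∀ x ∈ u, x = i ∨ x = k) ∧ (j = i ∨ j = k) ∧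
      h8sW D u (D.simple j) = r := by
  have hc := (ctr2c_all hD).2.2.2
  unfold ctr2c_orbChk at hc
  simp only [List.all_eq_true, List.mem_range, List.any_eq_true, decide_eq_true_eq] at hc
  obtain ⟨hi, hk, hrm⟩ := (ctr2c_mem_phi D i k r).mp h
  obtain ⟨c, hcm, hce⟩ := hc i hi k hk r hrm
  obtain ⟨h1, h2⟩ := ctr2c_orbCands_ok i k c hcm
  exact ⟨c.1, c.2, h1, h2, hce⟩

theorem simple_inj (hD : D ∈ [chevD4, chevF4, chevE6, chevE7, chevE8]) (i j : ℕ)
    (hi : i < D.rank) (hj : j < D.rank) (h : D.simple i = D.simple j) : i = j := by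
  have h1 := (ctr2c_simple_coroot hD i hi).2 i hi
  have h2 := (ctr2c_simple_coroot hD j hj).2 i hi
  rw [h, h2, if_pos rfl] at h1
  by_contra hne
  rw [if_neg hne] at h1
  exact zero_ne_one h1

end Cfsg.Agent.Lib.helper14.CT
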