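import Cfsg.Agent.Lib.Helper9.CTR2Cdefs

/-!
# Project CT (S1164), piece R2C: kernel-checked certificates for the five data
-/

set_option autoImplicit false
set_option maxRecDepth 100000

namespace Cfsg.Agent.Lib.helper14.CT

open Cfsg.Lie Cfsg.Lie.ChevalleyDatum Cfsg.Agent.Lib.helper8

theorem ctr2c_neg_D4 : ctr2c_negChk chevD4 = true := by decide +kernel
theorem ctr2c_simple_D4 : ctr2c_simpleChk chevD4 = true := by decide +kernel
theorem ctr2c_comm_D4 : ctr2c_commChk chevD4 = true := by decide +kernel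
theorem ctr2c_orb_D4 : ctr2c_orbChk chevD4 = true := by decide +kernel

theorem ctr2c_neg_F4 : ctr2c_negChk chevF4 = true := by decide +kernel
theorem ctr2c_simple_F4 : ctr2c_simpleChk chevF4 = true := by decide +kernel
theorem ctr2c_comm_F4 : ctr2c_commChk chevF4 = true := by decide +kernel
theorem ctr2c_orb_F4 : ctr2c_orbChk chevF4 = true := by decide +kernel

theorem ctr2c_neg_E6 : ctr2c_negChk chevE6 = true := by decide +kernel
theorem ctr2c_simple_E6 : ctr2c_simpleChk chevE6 = true := by decide +kernel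
theorem ctr2c_comm_E6 : ctr2c_commChk chevE6 = true := by decide +kernel
theorem ctr2c_orb_E6 : ctr2c_orbChk chevE6 = true := by decide +kernel

theorem ctr2c_neg_E7 : ctr2c_negChk chevE7 = true := by decide +kernel
theorem ctr2c_simple_E7 : ctr2c_simpleChk chevE7 = true := by decide +kernel
theorem ctr2c_comm_E7 : ctr2c_commChk chevE7 = true := by decide +kernel
theorem ctr2c_orb_E7 : ctr2c_orbChk chevE7 = true := by decide +kernel

theorem ctr2c_neg_E8 : ctr2c_negChk chevE8 = true := by decide +kernel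
theorem ctr2c_simple_E8 : ctr2c_simpleChk chevE8 = true := by decide +kernel
theorem ctr2c_comm_E8 : ctr2c_commChk chevE8 = true := by decide +kernel
theorem ctr2c_orb_E8 : ctr2c_orbChk chevE8 = true := by decide +kernel

theorem ctr2c_all {D : ChevalleyDatum} (hD : D ∈ [chevD4, chevF4, chevE6, chevE7, chevE8]) :
    ctr2c_negChk D = true ∧ ctr2c_simpleChk D = true ∧ ctr2c_commChk D = true ∧
      ctr2c_orbChk D = true := by
  simp only [List.mem_cons, List.not_mem_nil, or_false] at hD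
  rcases hD with rfl | rfl | rfl | rfl | rfl
  · exact ⟨ctr2c_neg_D4, ctr2c_simple_D4, ctr2c_comm_D4, ctr2c_orb_D4⟩
  · exact ⟨ctr2c_neg_F4, ctr2c_simple_F4, ctr2c_comm_F4, ctr2c_orb_F4⟩
  · exact ⟨ctr2c_neg_E6, ctr2c_simple_E6, ctr2c_comm_E6, ctr2c_orb_E6⟩
  · exact ⟨ctr2c_neg_E7, ctr2c_simple_E7, ctr2c_comm_E7, ctr2c_orb_E7⟩
  · exact ⟨ctr2c_neg_E8, ctr2c_simple_E8, ctr2c_comm_E8, ctr2c_orb_E8⟩

end Cfsg.Agent.Lib.helper14.CT
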