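import Cfsg.Agent.Lib.helper14.CT.Defs

/-!
# Project CT (S1164), piece R2C: Boolean checkers for the rank-two combinatorics
-/

set_option autoImplicit false
set_option linter.unusedVariables false

namespace Cfsg.Agent.Lib.helper14.CT

open Cfsg.Lie Cfsg.Lie.ChevalleyDatum Cfsg.Agent.Lib.helper8

/-- Boolean version of the coroot condition in `InRankTwoSub` -/
def ctr2c_in (D : ChevalleyDatum) (i j r : ℕ) : Bool :=
  (List.range D.rank).all fun k =>
    decide (k = i) || decide (k = j) || decide ((D.coroot.getD r #[]).getD k 0 = 0)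

theorem ctr2c_in_iff (D : ChevalleyDatum) (i j r : ℕ) :
    D.InRankTwoSub i j r ↔ r < D.nroots ∧ i < D.rank ∧ j < D.rank ∧ ctr2c_in D i j r = true := by
  unfold ChevalleyDatum.InRankTwoSub ctr2c_in
  simp only [List.all_eq_true, List.mem_range, Bool.or_eq_true, decide_eq_true_eq]
  constructor
  · rintro ⟨h1, h2, h3, h4⟩
    refine ⟨h1, h2, h3, fun k hk => ?_⟩
    by_cases hki : k = i
    · exact Or.inl (Or.inl hki)
    · by_cases hkj : k = j
      · exact Or.inl (Or.inr hkj)
      · exact Or.inr (h4 k hk hki hkj)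
  · rintro ⟨h1, h2, h3, h4⟩
    refine ⟨h1, h2, h3, fun k hk hki hkj => ?_⟩
    rcases h4 k hk with (h | h) | h
    · exact absurd h hki
    · exact absurd h hkj
    · exact h

/-- the list `Φ_ij` -/
def ctr2c_phi (D : ChevalleyDatum) (i j : ℕ) : List ℕ :=
  (List.range D.nroots).filter (ctr2c_in D i j)

theorem ctr2c_mem_phi (D : ChevalleyDatum) (i j r : ℕ) :
    D.InRankTwoSub i j r ↔ i < D.rank ∧ j < D.rank ∧ r ∈ ctr2c_phi D i j := by
  rw [ctr2c_in_iff]
  unfold ctr2c_phi
  simp only [List.mem_filter, List.mem_range]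
  tauto

/-- negation preserves the coroot support -/
def ctr2c_negChk (D : ChevalleyDatum) : Bool :=
  (List.range D.nroots).all fun r => decide (D.neg r < D.nroots) &&
    (List.range D.rank).all fun k =>
      decide ((D.coroot.getD (D.neg r) #[]).getD k 0 = - (D.coroot.getD r #[]).getD k 0)

/-- the coroot of the `i`-th simple root is `e_i` -/
def ctr2c_simpleChk (D : ChevalleyDatum) : Bool :=
  (List.range D.rank).all fun i => decide (D.simple i < D.nroots) &&
    (List.range D.rank).all fun k =>
      decide ((D.coroot.getD (D.simple i) #[]).getD k 0 = if k = i then 1 else 0)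

/-- closure of `Φ_ij` under the commutator terms -/
def ctr2c_commChk (D : ChevalleyDatum) : Bool :=
  (List.range D.rank).all fun i => (List.range D.rank).all fun j =>
    (ctr2c_phi D i j).all fun r => (ctr2c_phi D i j).all fun s =>
      (D.commTerms r s).all fun c => decide (c.1 < D.nroots) && ctr2c_in D i j c.1

/-- candidate words for the orbit statement -/
def ctr2c_orbCands (i k : ℕ) : List (List ℕ × ℕ) :=
  [([], i), ([], k), ([i], k), ([k], i), ([i], i), ([k], k), ([i, k], i), ([i, k], k),
   ([k, i], i), ([k, i], k), ([i, k, i], k), ([i, k, i], i), ([k, i, k], i), ([k, i, k], k)]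

theorem ctr2c_orbCands_ok (i k : ℕ) (c : List ℕ × ℕ) (hc : c ∈ ctr2c_orbCands i k) :
    (∀ x ∈ c.1, x = i ∨ x = k) ∧ (c.2 = i ∨ c.2 = k) := by
  unfold ctr2c_orbCands at hc
  simp only [List.mem_cons, List.not_mem_nil, or_false] at hc
  rcases hc with rfl | rfl | rfl | rfl | rfl | rfl | rfl | rfl | rfl | rfl | rfl | rfl | rfl | rfl <;>
    simp

def ctr2c_orbChk (D : ChevalleyDatum) : Bool :=
  (List.range D.rank).all fun i => (List.range D.rank).all fun k =>
    (ctr2c_phi D i k).all fun r =>
      (ctr2c_orbCands i k).any fun c => decide (h8sW D c.1 (D.simple c.2) = r)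

end Cfsg.Agent.Lib.helper14.CT
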