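import Mathlib
import Cfsg.Agent.Lib.Helper9.CyclicMax

set_option autoImplicit false

namespace Cfsg.Agent.Lib.Helper9

/-- square roots of `1` modulo `4 * 2 ^ e` -/
theorem sq_modEq_one_cases {e r : ℕ} (hr : r < 4 * 2 ^ e) (h1 : r ^ 2 ≡ 1 [MOD 4 * 2 ^ e])
    (hne : r ≠ 1) : r = 1 + 2 * 2 ^ e ∨ r = 2 * 2 ^ e - 1 ∨ r = 4 * 2 ^ e - 1 := by
  set q := 2 ^ e with hq
  have hqpos : 0 < q := pow_pos (by norm_num) e
  have hmod2 : r ^ 2 ≡ 1 [MOD 2] := h1.of_dvd ⟨2 * q, by ring⟩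
  have hodd : r % 2 = 1 := by
    have h := Nat.pow_mod r 2 2
    rw [Nat.ModEq] at hmod2
    rcases Nat.mod_two_eq_zero_or_one r with h0 | h0
    · rw [h0] at h; omega
    · exact h0
  obtain ⟨u, hu⟩ : ∃ u, r = 2 * u + 1 := ⟨r / 2, by omega⟩
  have hsq : r ^ 2 - 1 = 4 * (u * (u + 1)) := by
    rw [hu]
    have : (2 * u + 1) ^ 2 = 4 * (u * (u + 1)) + 1 := by ring
    rw [this]; omega
  have hge : 1 ≤ r ^ 2 := by
    rw [hu]; exact Nat.one_le_pow _ _ (by omega)
  have hdvd : 4 * q ∣ r ^ 2 - 1 := (Nat.modEq_iff_dvd' hge).mp h1.symm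
  rw [hsq] at hdvd
  have hdvd2 : q ∣ u * (u + 1) := Nat.dvd_of_mul_dvd_mul_left (by norm_num) hdvd
  have hult : u < 2 * q := by omega
  have h2p : Prime 2 := Nat.prime_two.prime
  rcases Nat.even_or_odd u with hue | huo
  · -- u even, so q ∣ u
    have hnd : ¬ 2 ∣ u + 1 := by
      obtain ⟨t, ht⟩ := hue
      omega
    have hqu : q ∣ u := by
      rw [hq] at hdvd2 ⊢
      exact Prime.pow_dvd_of_dvd_mul_right h2p e hnd hdvd2
    obtain ⟨t, ht⟩ := hqu
    have ht2 : t < 2 := by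
      by_contra hcon
      push Not at hcon
      have : q * 2 ≤ q * t := Nat.mul_le_mul_left q hcon
      omega
    interval_cases t
    · exfalso; apply hne; omega
    · left; omega
  · have hnd : ¬ 2 ∣ u := by
      obtain ⟨t, ht⟩ := huo
      omega
    have hqu : q ∣ u + 1 := by
      rw [hq] at hdvd2 ⊢
      exact Prime.pow_dvd_of_dvd_mul_left h2p e hnd hdvd2
    obtain ⟨t, ht⟩ := hqu
    have ht2 : t < 3 := by
      by_contra hcon
      push Not at hcon
      have : q * 3 ≤ q * t := Nat.mul_le_mul_left q hcon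
      omega
    interval_cases t
    · exfalso; omega
    · right; left; omega
    · right; right; omega

end Cfsg.Agent.Lib.Helper9
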