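import Mathlib
import Cfsg.Prelude.Def_Local
import Cfsg.Prelude.Def_CaseTheorems
import Cfsg.Agent.Lib.helper17.CharP5
import Cfsg.Agent.Lib.Helper5.PConstr
import Cfsg.Agent.S0028

set_option autoImplicit false

namespace Cfsg.Agent.Lib.Helper9

open Cfsg.Agent.Lib.helper17
open scoped commutatorElement

variable {G : Type*} [Group G]

/-- `p`-constrained with trivial `p'`-core gives `C(O_p) ≤ O_p`. -/
theorem e2_char_of_constrained {X : Type*} [Group X] [Finite X] {p : ℕ} [Fact p.Prime]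
    (hc : Cfsg.IsPConstrained p X) (ho : Cfsg.pPrimeCore p X = ⊥) :
    Subgroup.centralizer (Cfsg.pCore p X : Set X) ≤ Cfsg.pCore p X := by
  have h1 := Helper5.h5_pPrimePCore_isPGroup ho
  have h2 := (Helper5.h5_isPConstrained_iff_of_isPGroup h1).mp hc
  rw [Helper5.h5_pPrimePCore_eq_pCore ho] at h2
  exact h2

theorem e2_pPrimeCore_eq_bot_of_char {X : Type*} [Group X] [Finite X] {p : ℕ} [Fact p.Prime]
    (h : Subgroup.centralizer (Cfsg.pCore p X : Set X) ≤ Cfsg.pCore p X) :
    Cfsg.pPrimeCore p X = ⊥ := by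
  have hOn : (Cfsg.pPrimeCore p X).Normal := Cfsg.pPrimeCore_normal p X
  have hQn : (Cfsg.pCore p X).Normal := Cfsg.pCore_normal p X
  have hOc : (Nat.card (Cfsg.pPrimeCore p X)).Coprime p := pPrimeCore_coprime p
  have hQp : IsPGroup p (Cfsg.pCore p X) := pCore_isPGroup p X
  have hinf : ∀ g, g ∈ Cfsg.pCore p X → g ∈ Cfsg.pPrimeCore p X → g = 1 := fun g hq ho =>
    Helper5.h5_eq_one_of_mem_pgroup_of_mem_coprime hQp hOc hq ho
  have hle : Cfsg.pPrimeCore p X ≤ Subgroup.centralizer (Cfsg.pCore p X : Set X) := by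
    intro o ho
    rw [Subgroup.mem_centralizer_iff]
    intro q hq
    have h1 : q * o * q⁻¹ * o⁻¹ = 1 := by
      apply hinf
      · have : q * o * q⁻¹ * o⁻¹ = q * (o * q⁻¹ * o⁻¹) := by group
        rw [this]
        exact Subgroup.mul_mem _ hq (hQn.conj_mem _ (Subgroup.inv_mem _ hq) _)
      · exact Subgroup.mul_mem _ (hOn.conj_mem _ ho _) (Subgroup.inv_mem _ ho)
    calc q * o = (q * o * q⁻¹ * o⁻¹) * (o * q) := by group
      _ = o * q := by rw [h1, one_mul]
  rw [eq_bot_iff]
  intro o ho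
  rw [Subgroup.mem_bot]
  exact hinf o (h (hle ho)) ho

theorem e2_constrained_of_char {X : Type*} [Group X] [Finite X] {p : ℕ} [Fact p.Prime]
    (h : Subgroup.centralizer (Cfsg.pCore p X : Set X) ≤ Cfsg.pCore p X) :
    Cfsg.IsPConstrained p X := by
  have ho := e2_pPrimeCore_eq_bot_of_char h
  have h1 := Helper5.h5_pPrimePCore_isPGroup ho
  rw [Helper5.h5_isPConstrained_iff_of_isPGroup h1, Helper5.h5_pPrimePCore_eq_pCore ho]
  exact h

theorem e2_charPSub_of_constrained [Finite G] {p : ℕ} [Fact p.Prime] (H : Subgroup G)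
    (hc : Cfsg.IsPConstrained p ↥H) (ho : Cfsg.pPrimeCore p ↥H = ⊥) : CharPSub p H :=
  (charPSub_iff p H).mp (e2_char_of_constrained hc ho)

theorem e2_constrained_of_charPSub [Finite G] {p : ℕ} [Fact p.Prime] (H : Subgroup G)
    (h : CharPSub p H) : Cfsg.IsPConstrained p ↥H :=
  e2_constrained_of_char ((charPSub_iff p H).mpr h)

/-- Local subgroups of a group of characteristic `p` have characteristic `p`. -/
theorem e2_local [Finite G] {p : ℕ} [Fact p.Prime] {H T K : Subgroup G}
    (hH : CharPSub p H) (hT : IsPGroup p T) (hTH : T ≤ H) (hKH : K ≤ H)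
    (hKN : K ≤ Subgroup.normalizer (T : Set G))
    (hC : H ⊓ Subgroup.centralizer (T : Set G) ≤ K)
    (hTK : T ≤ K ∨ K ≤ Subgroup.centralizer (T : Set G)) : CharPSub p K := by
  apply charPSub_core_le_pCoreOf
  apply isPGroup_of_forall_coprime_eq_one
  intro d hd hdc
  obtain ⟨hdK, hdC⟩ := hd
  have hdC' : ∀ x ∈ Cfsg.pCoreOf p K, x * d = d * x := Subgroup.mem_centralizer_iff.mp hdC
  have hQp : IsPGroup p (Cfsg.pCoreOf p H) := pCoreOf_isPGroup p H
  have hHQ : H ≤ Subgroup.normalizer ((Cfsg.pCoreOf p H : Subgroup G) : Set G) :=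
    le_normalizer_pCoreOf p H
  have hdT : ∀ t ∈ T, t * d = d * t := by
    rcases hTK with hTK | hTK
    · have hTO : T ≤ Cfsg.pCoreOf p K := le_pCoreOf hTK hT hKN
      intro t ht
      exact hdC' t (hTO ht)
    · intro t ht
      exact (Subgroup.mem_centralizer_iff.mp (hTK hdK)) t ht
  have hQC : Cfsg.pCoreOf p H ⊓ Subgroup.centralizer (T : Set G) ≤ Cfsg.pCoreOf p K := by
    apply le_pCoreOf
    · exact (inf_le_inf_right _ (pCoreOf_le p H)).trans hC
    · exact hQp.to_le inf_le_left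
    · exact le_normalizer_inf' (hKH.trans hHQ)
        (hKN.trans (normalizer_le_normalizer_centralizer' T))
  have hBcop : (Nat.card (Subgroup.zpowers d)).Coprime p := by
    rw [Nat.card_zpowers]; exact hdc
  have hcomm : ∀ x : G, x * d = d * x → x ∈ Subgroup.centralizer ((Subgroup.zpowers d : Subgroup G) : Set G) := by
    intro x hx
    rw [Subgroup.mem_centralizer_iff]
    rintro _ ⟨k, rfl⟩
    have h1 : Commute x d := hx
    exact (h1.zpow_right k).eq.symm
  have hTB : T ≤ Subgroup.centralizer ((Subgroup.zpowers d : Subgroup G) : Set G) :=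
    fun t ht => hcomm t (hdT t ht)
  have hBQ : Subgroup.zpowers d ≤ Subgroup.normalizer ((Cfsg.pCoreOf p H : Subgroup G) : Set G) := by
    rw [Subgroup.zpowers_le]
    exact hHQ (hKH hdK)
  have hcond : Cfsg.pCoreOf p H ⊓ Subgroup.centralizer (T : Set G) ≤
      Subgroup.centralizer ((Subgroup.zpowers d : Subgroup G) : Set G) :=
    fun x hx => hcomm x (hdC' x (hQC hx))
  have hBcent := Cfsg.Agent.S0028.result p T (Subgroup.zpowers d) (Cfsg.pCoreOf p H) hT hBcop hQp hTB
    (hTH.trans hHQ) hBQ hcond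
  have hdQ : d ∈ Cfsg.pCoreOf p H :=
    hH ⟨hKH hdK, hBcent (Subgroup.mem_zpowers d)⟩
  exact eq_one_of_isPElt_of_coprime (isPElt_of_mem hQp hdQ) hdc

/-- If the centralizer of a central element `z` of the `p`-group `T` has characteristic `p`,
so does the normalizer of `T`. -/
theorem e2_local_of_central [Finite G] {p : ℕ} [Fact p.Prime] {T : Subgroup G} (hT : IsPGroup p T)
    {z : G} (hzT : z ∈ T) (hzc : ∀ t ∈ T, t * z = z * t)
    (hC : CharPSub p (Subgroup.centralizer ({z} : Set G))) :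
    CharPSub p (Subgroup.normalizer (T : Set G)) := by
  have hTC : T ≤ Subgroup.centralizer ({z} : Set G) := by
    intro t ht
    rw [Subgroup.mem_centralizer_iff]
    intro h hh
    rw [Set.mem_singleton_iff] at hh
    rw [hh]
    exact (hzc t ht).symm
  have hX1 : CharPSub p (Subgroup.normalizer (T : Set G) ⊓ Subgroup.centralizer ({z} : Set G)) := by
    apply e2_local hC hT hTC inf_le_right inf_le_left
    · intro x hx
      exact ⟨Subgroup.centralizer_le_normalizer _ hx.2, hx.1⟩
    · exact Or.inl (le_inf Subgroup.le_normalizer hTC)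
  apply charPSub_core_le_pCoreOf
  apply isPGroup_of_forall_coprime_eq_one
  intro d hd hdc
  have hTQ : T ≤ Cfsg.pCoreOf p (Subgroup.normalizer (T : Set G)) :=
    le_pCoreOf Subgroup.le_normalizer hT le_rfl
  have hDX : Subgroup.normalizer (T : Set G) ⊓ Subgroup.centralizer
      ((Cfsg.pCoreOf p (Subgroup.normalizer (T : Set G)) : Subgroup G) : Set G) ≤
      Subgroup.normalizer (T : Set G) ⊓ Subgroup.centralizer ({z} : Set G) := by
    intro x hx
    refine Subgroup.mem_inf.mpr ⟨hx.1, ?_⟩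
    rw [Subgroup.mem_centralizer_iff]
    intro h hh
    rw [Set.mem_singleton_iff] at hh
    rw [hh]
    exact (Subgroup.mem_centralizer_iff.mp hx.2) z (hTQ hzT)
  have hND : Subgroup.normalizer (T : Set G) ≤ Subgroup.normalizer
      ((Subgroup.normalizer (T : Set G) ⊓ Subgroup.centralizer
      ((Cfsg.pCoreOf p (Subgroup.normalizer (T : Set G)) : Subgroup G) : Set G) : Subgroup G) : Set G) :=
    le_normalizer_inf' Subgroup.le_normalizer
      ((le_normalizer_pCoreOf p _).trans (normalizer_le_normalizer_centralizer' _))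
  have hXR := le_normalizer_pCoreOf p
    (Subgroup.normalizer (T : Set G) ⊓ Subgroup.centralizer ({z} : Set G))
  have hR1p := pCoreOf_isPGroup p
    (Subgroup.normalizer (T : Set G) ⊓ Subgroup.centralizer ({z} : Set G))
  have hR1le := pCoreOf_le p
    (Subgroup.normalizer (T : Set G) ⊓ Subgroup.centralizer ({z} : Set G))
  set N := Subgroup.normalizer (T : Set G) with hN
  set C := Subgroup.centralizer ({z} : Set G) with hCdef
  set QN := Cfsg.pCoreOf p N with hQN
  set D := N ⊓ Subgroup.centralizer (QN : Set G) with hD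
  set R1 := Cfsg.pCoreOf p (N ⊓ C) with hR1
  have hEle : R1 ⊓ D ≤ QN := by
    have h1 : R1 ⊓ D ≤ Cfsg.pCoreOf p D := by
      apply le_pCoreOf inf_le_right (hR1p.to_le inf_le_left)
      exact le_normalizer_inf' (hDX.trans hXR) ((inf_le_left : D ≤ N).trans hND)
    exact h1.trans (le_pCoreOf ((pCoreOf_le p D).trans inf_le_left) (pCoreOf_isPGroup p D)
      (hND.trans (normalizer_le_normalizer_pCoreOf p D)))
  have hdD : d ∈ D := hd
  have hdX : d ∈ N ⊓ C := hDX hdD
  have h1 : ∀ v ∈ R1, ⁅d, v⁆ ∈ R1 ⊓ D := by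
    intro v hv
    rw [commutatorElement_def]
    refine ⟨?_, ?_⟩
    · exact R1.mul_mem ((Subgroup.mem_normalizer_iff.mp (hXR hdX) v).mp hv) (R1.inv_mem hv)
    · have hvN : v ∈ N := (hR1le hv).1
      have h2 : v * d⁻¹ * v⁻¹ ∈ D :=
        (Subgroup.mem_normalizer_iff.mp (hND hvN) d⁻¹).mp (D.inv_mem hdD)
      have : d * v * d⁻¹ * v⁻¹ = d * (v * d⁻¹ * v⁻¹) := by group
      rw [this]
      exact D.mul_mem hdD h2
  have h2 : ∀ e ∈ R1 ⊓ D, d * e = e * d := by
    intro e he
    exact ((Subgroup.mem_centralizer_iff.mp hdD.2) e (hEle he)).symm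
  have h3 := centralizes_of_stabilizes_chain hdc (hR1p.to_le inf_le_left) h1 h2
  have hdR : d ∈ R1 := by
    apply hX1
    refine Subgroup.mem_inf.mpr ⟨hdX, ?_⟩
    rw [Subgroup.mem_centralizer_iff]
    intro v hv
    exact (h3 v hv).symm
  exact eq_one_of_isPElt_of_coprime (isPElt_of_mem hR1p hdR) hdc

end Cfsg.Agent.Lib.Helper9
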