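import Mathlib
import Cfsg.Agent.Lib.Helper9.E2A

set_option autoImplicit false

namespace Cfsg.Agent.Lib.Helper9

open Cfsg.Agent.Lib.helper17
open scoped commutatorElement

variable {G : Type*} [Group G]

theorem e2_le_normalizer_of_conj_mem {A B : Subgroup G}
    (h : ∀ a ∈ A, ∀ b ∈ B, a * b * a⁻¹ ∈ B) : A ≤ Subgroup.normalizer (B : Set G) := by
  intro a ha
  rw [Subgroup.mem_normalizer_iff]
  intro b
  constructor
  · intro hb
    exact h a ha b hb
  · intro hb
    have := h a⁻¹ (A.inv_mem ha) _ hb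
    simpa [mul_assoc] using this

theorem e2_conj_mem {A B : Subgroup G}
    (h : A ≤ Subgroup.normalizer (B : Set G)) {a b : G} (ha : a ∈ A) (hb : b ∈ B) :
    a * b * a⁻¹ ∈ B :=
  (Subgroup.mem_normalizer_iff.mp (h ha) b).1 hb

theorem e2_mem_zpowers_two {t y : G} (ht : t ^ 2 = 1) (hy : y ∈ Subgroup.zpowers t) :
    y = 1 ∨ y = t := by
  obtain ⟨k, rfl⟩ := hy
  have h2 : t ^ (2 : ℤ) = 1 := by
    have : t ^ (2 : ℤ) = t ^ (2 : ℕ) := by norm_cast
    rw [this, ht]
  rcases Int.even_or_odd' k with ⟨m, hm | hm⟩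
  · left
    show t ^ k = 1
    rw [hm, zpow_mul, h2, one_zpow]
  · right
    show t ^ k = t
    rw [hm, zpow_add, zpow_mul, h2, one_zpow, one_mul, zpow_one]

theorem e2_commute_zpowers {x d : G} (hx : x * d = d * x) :
    x ∈ Subgroup.centralizer ((Subgroup.zpowers d : Subgroup G) : Set G) := by
  rw [Subgroup.mem_centralizer_iff]
  rintro _ ⟨k, rfl⟩
  have h1 : Commute x d := hx
  exact (h1.zpow_right k).eq.symm

theorem e2_isPGroup_zpowers {t : G} (ht : orderOf t = 2) : IsPGroup 2 (Subgroup.zpowers t) := by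
  haveI : Fact (Nat.Prime 2) := ⟨Nat.prime_two⟩
  apply IsPGroup.of_card (n := 1)
  rw [Nat.card_zpowers, ht, pow_one]

theorem e2_zpowers_ne_bot {t : G} (ht : orderOf t = 2) : Subgroup.zpowers t ≠ ⊥ := by
  intro h
  rw [Subgroup.zpowers_eq_bot] at h
  rw [h, orderOf_one] at ht
  exact absurd ht (by norm_num)

/-- Every 2-local lies in a maximal 2-local, so has characteristic 2 if all maximal 2-locals do. -/
theorem e2_h1 [Finite G] (h : ∀ M : Subgroup G, Cfsg.IsMaximalTwoLocal M → CharPSub 2 M) :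
    ∀ T : Subgroup G, IsPGroup 2 T → T ≠ ⊥ → CharPSub 2 (Subgroup.normalizer (T : Set G)) := by
  haveI : Fact (Nat.Prime 2) := ⟨Nat.prime_two⟩
  intro T hT hne
  let 𝒮 : Set (Subgroup G) := {N | Cfsg.IsTwoLocal N ∧ Subgroup.normalizer (T : Set G) ≤ N}
  have hne𝒮 : 𝒮.Nonempty := ⟨Subgroup.normalizer (T : Set G), ⟨T, hT, hne, rfl⟩, le_rfl⟩
  obtain ⟨M, hM𝒮, hMmax⟩ := (wellFounded_gt (α := Subgroup G)).has_min 𝒮 hne𝒮
  have hMmaxl : Cfsg.IsMaximalTwoLocal M := by
    refine ⟨hM𝒮.1, ?_⟩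
    intro N hN hMN
    have hN𝒮 : N ∈ 𝒮 := ⟨hN, hM𝒮.2.trans hMN⟩
    have := hMmax N hN𝒮
    exact (eq_of_le_of_not_lt hMN this).symm
  have hNM : Subgroup.normalizer (T : Set G) ≤ M := hM𝒮.2
  exact e2_local (h M hMmaxl) hT (Subgroup.le_normalizer.trans hNM) hNM le_rfl
    (inf_le_right.trans (Subgroup.centralizer_le_normalizer _)) (Or.inl Subgroup.le_normalizer)

theorem e2_cent_of_locals [Finite G]
    (h : ∀ T : Subgroup G, IsPGroup 2 T → T ≠ ⊥ → CharPSub 2 (Subgroup.normalizer (T : Set G)))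
    (t : G) (ht : orderOf t = 2) : CharPSub 2 (Subgroup.centralizer ({t} : Set G)) := by
  haveI : Fact (Nat.Prime 2) := ⟨Nat.prime_two⟩
  have hT := e2_isPGroup_zpowers ht
  have hH := h (Subgroup.zpowers t) hT (e2_zpowers_ne_bot ht)
  have hKN : Subgroup.centralizer ({t} : Set G) ≤
      Subgroup.normalizer ((Subgroup.zpowers t : Subgroup G) : Set G) := by
    intro x hx
    apply Subgroup.centralizer_le_normalizer
    apply e2_commute_zpowers
    exact ((Subgroup.mem_centralizer_iff.mp hx) t (Set.mem_singleton t)).symm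
  apply e2_local hH hT Subgroup.le_normalizer hKN hKN
  · intro x hx
    rw [Subgroup.mem_centralizer_iff]
    intro y hy
    rw [Set.mem_singleton_iff] at hy
    rw [hy]
    exact (Subgroup.mem_centralizer_iff.mp hx.2) t (Subgroup.mem_zpowers t)
  · left
    rw [Subgroup.zpowers_le, Subgroup.mem_centralizer_iff]
    intro y hy
    rw [Set.mem_singleton_iff] at hy
    rw [hy]

theorem e2_h2 [Finite G]
    (h : ∀ t : G, orderOf t = 2 → CharPSub 2 (Subgroup.centralizer ({t} : Set G))) :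
    ∀ T : Subgroup G, IsPGroup 2 T → T ≠ ⊥ → CharPSub 2 (Subgroup.normalizer (T : Set G)) := by
  haveI : Fact (Nat.Prime 2) := ⟨Nat.prime_two⟩
  intro T hT hne
  haveI : Nontrivial ↥T := (Subgroup.nontrivial_iff_ne_bot T).mpr hne
  haveI : Nontrivial ↥(Subgroup.center ↥T) := hT.center_nontrivial
  have hZp : IsPGroup 2 ↥(Subgroup.center ↥T) := hT.to_subgroup _
  have hdvd : 2 ∣ Nat.card ↥(Subgroup.center ↥T) := by
    rcases hZp.card_eq_or_dvd with h1 | h1
    · exact absurd h1 (Finite.one_lt_card).ne'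
    · exact h1
  obtain ⟨z', hz'⟩ := exists_prime_orderOf_dvd_card' 2 hdvd
  have hz2 : orderOf ((z' : ↥T) : G) = 2 := by
    rw [Subgroup.orderOf_coe, Subgroup.orderOf_coe]; exact hz'
  have hzc : ∀ t ∈ T, t * ((z' : ↥T) : G) = ((z' : ↥T) : G) * t := by
    intro t ht
    have := (Subgroup.mem_center_iff.mp z'.2) ⟨t, ht⟩
    exact congrArg Subtype.val this
  exact e2_local_of_central hT (z' : ↥T).2 hzc (h _ hz2)

theorem e2_relIndex_le_two [Finite G] {H S : Subgroup G}
    (h : ∀ x ∈ S, ∀ y ∈ S, x ∉ H → y ∉ H → x * y ∈ H) : H.relIndex S ≤ 2 := by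
  by_cases hS : S ≤ H
  · rw [Subgroup.relIndex_eq_one.mpr hS]; norm_num
  · obtain ⟨a, haS, haH⟩ := Set.not_subset.mp hS
    have : (H.subgroupOf S).index = 2 := by
      rw [Subgroup.index_eq_two_iff]
      refine ⟨⟨a, haS⟩, fun x => ?_⟩
      by_cases hx : (x : G) ∈ H
      · right
        refine ⟨Subgroup.mem_subgroupOf.mpr hx, ?_⟩
        intro hxa
        have hxa' : (x : G) * a ∈ H := Subgroup.mem_subgroupOf.mp hxa
        exact haH ((Subgroup.mul_mem_cancel_left H hx).mp hxa')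
      · left
        refine ⟨Subgroup.mem_subgroupOf.mpr (h x x.2 a haS hx haH), ?_⟩
        intro hx'
        exact hx (Subgroup.mem_subgroupOf.mp hx')
    exact this.le

theorem e2_mul_mem_of_relIndex_le_two [Finite G] {H S : Subgroup G} (h : H.relIndex S ≤ 2)
    {x y : G} (hx : x ∈ S) (hy : y ∈ S) (hxH : x ∉ H) (hyH : y ∉ H) : x * y ∈ H := by
  have h0 : H.relIndex S ≠ 0 := Helper5.relIndex_ne_zero_of_finite H S
  have h1 : H.relIndex S ≠ 1 := by
    intro h1
    exact hxH (Subgroup.relIndex_eq_one.mp h1 hx)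
  have h2 : (H.subgroupOf S).index = 2 := by
    unfold Subgroup.relIndex at h h0 h1
    omega
  have := (Subgroup.mul_mem_iff_of_index_two h2 (a := ⟨x, hx⟩) (b := ⟨y, hy⟩)).mpr
    ⟨fun hh => absurd (Subgroup.mem_subgroupOf.mp hh) hxH,
     fun hh => absurd (Subgroup.mem_subgroupOf.mp hh) hyH⟩
  exact Subgroup.mem_subgroupOf.mp this

end Cfsg.Agent.Lib.Helper9
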