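import Mathlib
import Cfsg.Agent.Lib.Helper9.E2B
import Cfsg.Agent.Lib.Helper1.Nilp

set_option autoImplicit false

namespace Cfsg.Agent.Lib.Helper9

open Cfsg.Agent.Lib.helper17
open scoped commutatorElement

variable {G : Type*} [Group G]

/-- In a finite 2-group, a normal subgroup of exponent 2 and order `> 2` contains a central
involution `z` and an element `t ∉ ⟨z⟩` which is central modulo `⟨z⟩`. -/
theorem e2_exists_central_pair {P : Type*} [Group P] [Finite P] (hP : IsPGroup 2 P)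
    (V : Subgroup P) [hVn : V.Normal] (hV2 : ∀ v ∈ V, v ^ 2 = 1) (hcard : 2 < Nat.card V) :
    ∃ z ∈ V, ∃ t ∈ V, z ≠ 1 ∧ (∀ s : P, s * z = z * s) ∧ t ≠ 1 ∧ t ≠ z ∧
      ∀ s : P, s * t * s⁻¹ * t⁻¹ ∈ Subgroup.zpowers z := by
  haveI : Fact (Nat.Prime 2) := ⟨Nat.prime_two⟩
  haveI : Group.IsNilpotent P := hP.isNilpotent
  have hVne : V ≠ ⊥ := by
    intro h
    rw [h, Subgroup.card_bot] at hcard
    omega
  have h1 := Helper1.normal_inf_center_ne_bot V hVne
  obtain ⟨⟨z, hz⟩, hz1⟩ := (Subgroup.ne_bot_iff_exists_ne_one).mp h1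
  have hz1' : z ≠ 1 := fun h => hz1 (Subtype.ext h)
  have hzV : z ∈ V := hz.1
  have hzc : ∀ s : P, s * z = z * s := Subgroup.mem_center_iff.mp hz.2
  have hz2 : z ^ 2 = 1 := hV2 z hzV
  have hZn : (Subgroup.zpowers z).Normal := by
    constructor
    rintro _ ⟨k, rfl⟩ g
    have hc : Commute g z := hzc g
    have h2 : g * z ^ k * g⁻¹ = z ^ k := by
      rw [(hc.zpow_right k).eq, mul_assoc, mul_inv_cancel, mul_one]
    rw [h2]
    exact ⟨k, rfl⟩
  have hQ : IsPGroup 2 (P ⧸ Subgroup.zpowers z) := hP.to_quotient _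
  haveI : Group.IsNilpotent (P ⧸ Subgroup.zpowers z) := hQ.isNilpotent
  haveI hVbn : (V.map (QuotientGroup.mk' (Subgroup.zpowers z))).Normal :=
    Subgroup.Normal.map hVn _ (QuotientGroup.mk'_surjective _)
  have hVbar : V.map (QuotientGroup.mk' (Subgroup.zpowers z)) ≠ ⊥ := by
    intro h
    have hle : V ≤ Subgroup.zpowers z := by
      intro v hv
      have h3 : QuotientGroup.mk' (Subgroup.zpowers z) v ∈
          V.map (QuotientGroup.mk' (Subgroup.zpowers z)) := ⟨v, hv, rfl⟩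
      rw [h, Subgroup.mem_bot] at h3
      exact (QuotientGroup.eq_one_iff v).mp h3
    have h4 : Nat.card V ≤ Nat.card (Subgroup.zpowers z) := Subgroup.card_le_of_le hle
    rw [Nat.card_zpowers] at h4
    have h5 : orderOf z ≤ 2 := Nat.le_of_dvd (by norm_num) (orderOf_dvd_of_pow_eq_one hz2)
    omega
  have h2 := Helper1.normal_inf_center_ne_bot (V.map (QuotientGroup.mk' (Subgroup.zpowers z))) hVbar
  obtain ⟨⟨q, hq⟩, hq1⟩ := (Subgroup.ne_bot_iff_exists_ne_one).mp h2
  have hq1' : q ≠ 1 := fun h => hq1 (Subtype.ext h)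
  obtain ⟨t, htV, rfl⟩ := hq.1
  have hqc := Subgroup.mem_center_iff.mp hq.2
  have htZ : t ∉ Subgroup.zpowers z := by
    intro h
    exact hq1' ((QuotientGroup.eq_one_iff t).mpr h)
  refine ⟨z, hzV, t, htV, hz1', hzc, ?_, ?_, ?_⟩
  · intro h
    exact htZ (h ▸ Subgroup.one_mem _)
  · intro h
    exact htZ (h ▸ Subgroup.mem_zpowers z)
  · intro s
    rw [← QuotientGroup.eq_one_iff]
    have h3 := hqc (QuotientGroup.mk' (Subgroup.zpowers z) s)
    have h4 : ((s * t * s⁻¹ * t⁻¹ : P) : P ⧸ Subgroup.zpowers z) =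
        QuotientGroup.mk' (Subgroup.zpowers z) s * QuotientGroup.mk' (Subgroup.zpowers z) t *
        (QuotientGroup.mk' (Subgroup.zpowers z) s)⁻¹ * (QuotientGroup.mk' (Subgroup.zpowers z) t)⁻¹ := by
      simp
    rw [h4, h3]
    group

/-- Ambient version of `e2_exists_central_pair`. -/
theorem e2_exists_central_pair' [Finite G] {S V : Subgroup G} (hS : IsPGroup 2 S) (hVS : V ≤ S)
    (hSV : S ≤ Subgroup.normalizer (V : Set G)) (hV2 : ∀ v ∈ V, v ^ 2 = 1) (hcard : 2 < Nat.card V) :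
    ∃ z ∈ V, ∃ t ∈ V, z ≠ 1 ∧ (∀ s ∈ S, s * z = z * s) ∧ t ≠ 1 ∧ t ≠ z ∧
      ∀ s ∈ S, s * t * s⁻¹ * t⁻¹ ∈ Subgroup.zpowers z := by
  haveI hn : (V.subgroupOf S).Normal := (Subgroup.normal_subgroupOf_iff_le_normalizer hVS).mpr hSV
  have hV2' : ∀ v ∈ V.subgroupOf S, v ^ 2 = 1 := by
    intro v hv
    apply Subtype.ext
    have := hV2 (v : G) (Subgroup.mem_subgroupOf.mp hv)
    simpa using this
  have hcard' : 2 < Nat.card (V.subgroupOf S) := by
    rw [Nat.card_congr (Subgroup.subgroupOfEquivOfLe hVS).toEquiv]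
    exact hcard
  obtain ⟨z, hz, t, ht, hz1, hzc, ht1, htz, hst⟩ :=
    e2_exists_central_pair hS (V.subgroupOf S) hV2' hcard'
  refine ⟨(z : G), Subgroup.mem_subgroupOf.mp hz, (t : G), Subgroup.mem_subgroupOf.mp ht, ?_, ?_, ?_, ?_, ?_⟩
  · intro h
    exact hz1 (Subtype.ext h)
  · intro s hs
    exact congrArg Subtype.val (hzc ⟨s, hs⟩)
  · intro h
    exact ht1 (Subtype.ext h)
  · intro h
    exact htz (Subtype.ext h)
  · intro s hs
    obtain ⟨k, hk⟩ := hst ⟨s, hs⟩
    refine ⟨k, ?_⟩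
    have := congrArg Subtype.val hk
    simpa using this

/-- Lemma 3: if the involution-like element `b` of the Sylow 2-subgroup `S` is central modulo the central
subgroup `⟨z⟩` of order at most 2 and `C(b)` has characteristic 2, then an odd-order subgroup `K` normalized by
`S` meets `C(b)` trivially. -/
theorem e2_signalizer_cent [Finite G] (S : Sylow 2 G) {K : Subgroup G} (hK : Odd (Nat.card K))
    (hSK : (S : Subgroup G) ≤ Subgroup.normalizer (K : Set G))
    {z b : G} (hz2 : z ^ 2 = 1) (hzc : ∀ s ∈ (S : Subgroup G), s * z = z * s)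
    (hb : ∀ s ∈ (S : Subgroup G), s * b * s⁻¹ * b⁻¹ ∈ Subgroup.zpowers z)
    (hC : CharPSub 2 (Subgroup.centralizer ({b} : Set G))) :
    K ⊓ Subgroup.centralizer ({b} : Set G) = ⊥ := by
  haveI : Fact (Nat.Prime 2) := ⟨Nat.prime_two⟩
  have hKcop : (Nat.card K).Coprime 2 := Nat.coprime_two_right.mpr hK
  have hmemC : ∀ x : G, x ∈ Subgroup.centralizer ({b} : Set G) ↔ b * x = x * b := by
    intro x
    rw [Subgroup.mem_centralizer_iff]
    constructor
    · intro h; exact h b (Set.mem_singleton b)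
    · intro h y hy
      rw [Set.mem_singleton_iff] at hy
      rw [hy]; exact h
  -- the index-two property of `C_S(b)` in `S`
  have hidx : (S ⊓ Subgroup.centralizer ({b} : Set G) : Subgroup G).relIndex (S : Subgroup G) ≤ 2 := by
    apply e2_relIndex_le_two
    intro x hx y hy hxn hyn
    have key : ∀ w ∈ (S : Subgroup G), w ∉ (S ⊓ Subgroup.centralizer ({b} : Set G) : Subgroup G) →
        w * b * w⁻¹ = z * b := by
      intro w hw hwn
      rcases e2_mem_zpowers_two hz2 (hb w hw) with h1 | h1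
      · exfalso
        apply hwn
        have : w * b = b * w := by
          calc w * b = (w * b * w⁻¹ * b⁻¹) * (b * w) := by group
            _ = b * w := by rw [h1, one_mul]
        exact Subgroup.mem_inf.mpr ⟨hw, (hmemC w).mpr this.symm⟩
      · calc w * b * w⁻¹ = (w * b * w⁻¹ * b⁻¹) * b := by group
          _ = z * b := by rw [h1]
    refine Subgroup.mem_inf.mpr ⟨Subgroup.mul_mem _ hx hy, ?_⟩
    rw [hmemC]
    have h1 := key x hx hxn
    have h2 := key y hy hyn
    have h3 : x * y * b * (x * y)⁻¹ = b := by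
      calc x * y * b * (x * y)⁻¹ = x * (y * b * y⁻¹) * x⁻¹ := by group
        _ = x * (z * b) * x⁻¹ := by rw [h2]
        _ = (x * z) * b * x⁻¹ := by group
        _ = (z * x) * b * x⁻¹ := by rw [hzc x hx]
        _ = z * (x * b * x⁻¹) := by group
        _ = z * (z * b) := by rw [h1]
        _ = z ^ 2 * b := by rw [pow_two, mul_assoc]
        _ = b := by rw [hz2, one_mul]
    calc b * (x * y) = (x * y * b * (x * y)⁻¹) * (x * y) := by rw [h3]
      _ = x * y * b := by group
  have hRp := pCoreOf_isPGroup 2 (Subgroup.centralizer ({b} : Set G))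
  have hRC := pCoreOf_le 2 (Subgroup.centralizer ({b} : Set G))
  have hCR := le_normalizer_pCoreOf 2 (Subgroup.centralizer ({b} : Set G))
  set C := Subgroup.centralizer ({b} : Set G) with hCdef
  set R := Cfsg.pCoreOf 2 C with hR
  have hSbp : IsPGroup 2 ((S : Subgroup G) ⊓ C : Subgroup G) := S.isPGroup'.to_le inf_le_left
  have hP1 : IsPGroup 2 (R ⊔ ((S : Subgroup G) ⊓ C) : Subgroup G) :=
    IsPGroup.to_sup_of_normal_left' hRp hSbp (inf_le_right.trans hCR)
  obtain ⟨S', hS'⟩ := hP1.exists_le_sylow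
  have hcard : Nat.card (S' : Subgroup G) = Nat.card (S : Subgroup G) := by
    rw [Sylow.card_eq_multiplicity, Sylow.card_eq_multiplicity]
  have hidx' : ((S : Subgroup G) ⊓ C : Subgroup G).relIndex (S' : Subgroup G) ≤ 2 := by
    have h1 := Helper5.card_mul_relIndex_of_le (inf_le_left : (S : Subgroup G) ⊓ C ≤ (S : Subgroup G))
    have h2 := Helper5.card_mul_relIndex_of_le (le_sup_right.trans hS' : (S : Subgroup G) ⊓ C ≤ (S' : Subgroup G))
    have h3 : 0 < Nat.card ((S : Subgroup G) ⊓ C : Subgroup G) := Nat.card_pos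
    have h4 : ((S : Subgroup G) ⊓ C : Subgroup G).relIndex (S' : Subgroup G) =
        ((S : Subgroup G) ⊓ C : Subgroup G).relIndex (S : Subgroup G) := by
      apply Nat.eq_of_mul_eq_mul_left h3
      rw [h1, h2, hcard]
    rw [h4]; exact hidx
  rw [eq_bot_iff]
  intro y hy
  rw [Subgroup.mem_bot]
  obtain ⟨hyK, hyC⟩ := hy
  have hyC' : y ∈ C := hyC
  have hyc : Nat.Coprime (orderOf y) 2 := by
    have h1 : orderOf y ∣ Nat.card K := by
      have := orderOf_dvd_natCard (⟨y, hyK⟩ : K)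
      rwa [Subgroup.orderOf_mk] at this
    exact Nat.Coprime.coprime_dvd_left h1 hKcop
  -- y centralizes R ⊓ S_b
  have h2 : ∀ r ∈ (R ⊓ ((S : Subgroup G) ⊓ C) : Subgroup G), y * r = r * y := by
    intro r hr
    obtain ⟨hrR, hrS, hrC⟩ := hr
    have hc1 : r * y * r⁻¹ * y⁻¹ = 1 := by
      apply Helper5.h5_eq_one_of_mem_pgroup_of_mem_coprime hRp hKcop
      · have : r * y * r⁻¹ * y⁻¹ = r * (y * r⁻¹ * y⁻¹) := by group
        rw [this]
        exact R.mul_mem hrR (e2_conj_mem hCR hyC' (R.inv_mem hrR))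
      · exact K.mul_mem (e2_conj_mem hSK hrS hyK) (K.inv_mem hyK)
    calc y * r = (r * y * r⁻¹ * y⁻¹)⁻¹ * (r * y) := by group
      _ = r * y := by rw [hc1, inv_one, one_mul]
  have h1 : ∀ v ∈ R, ⁅y, v⁆ ∈ (R ⊓ ((S : Subgroup G) ⊓ C) : Subgroup G) := by
    intro v hv
    rw [commutatorElement_def]
    by_cases hvS : v ∈ ((S : Subgroup G) ⊓ C : Subgroup G)
    · have h3 := h2 v ⟨hv, hvS⟩
      have : y * v * y⁻¹ * v⁻¹ = 1 := by
        rw [h3]; group
      rw [this]
      exact Subgroup.one_mem _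
    · have hwR : y * v * y⁻¹ ∈ R := e2_conj_mem hCR hyC' hv
      have hwS : y * v * y⁻¹ ∉ ((S : Subgroup G) ⊓ C : Subgroup G) := by
        intro hw
        have h3 := h2 _ ⟨hwR, hw⟩
        have h4 : y * v * y⁻¹ = v := by
          have : y * (y * v * y⁻¹) * y⁻¹ = y * v * y⁻¹ * y * y⁻¹ := by rw [h3]
          have h5 : y * (y * v * y⁻¹) * y⁻¹ = y * (y * v * y⁻¹) * y⁻¹ := rfl
          calc y * v * y⁻¹ = y⁻¹ * (y * (y * v * y⁻¹)) := by group
            _ = y⁻¹ * ((y * v * y⁻¹) * y) := by rw [h3]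
            _ = v := by group
        rw [h4] at hw
        exact hvS hw
      have hvinv : v⁻¹ ∉ ((S : Subgroup G) ⊓ C : Subgroup G) := by
        intro h
        exact hvS (by simpa using Subgroup.inv_mem _ h)
      have hRS' : R ≤ (S' : Subgroup G) := le_sup_left.trans hS'
      refine ⟨R.mul_mem hwR (R.inv_mem hv), ?_⟩
      exact e2_mul_mem_of_relIndex_le_two hidx' (hRS' hwR) (hRS' (R.inv_mem hv)) hwS hvinv
  have h3 := centralizes_of_stabilizes_chain hyc (hRp.to_le inf_le_left) h1 h2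
  have hyR : y ∈ R := by
    apply hC
    refine Subgroup.mem_inf.mpr ⟨hyC', ?_⟩
    rw [Subgroup.mem_centralizer_iff]
    intro v hv
    exact (h3 v hv).symm
  exact Helper5.h5_eq_one_of_mem_pgroup_of_mem_coprime hRp hKcop hyR hyK

end Cfsg.Agent.Lib.Helper9
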