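import Mathlib
import Cfsg.Prelude.Def_OddOrderLocal
import Cfsg.Agent.Lib.Helper9.E2C
import Cfsg.Agent.S1324

set_option autoImplicit false

namespace Cfsg.Agent.Lib.Helper9

open Cfsg.Agent.Lib.helper17
open scoped commutatorElement

variable {G : Type*} [Group G]

/-- The elements of order at most 2 of a commutative subgroup. -/
def e2Omega (A : Subgroup G) (hAab : ∀ a ∈ A, ∀ b ∈ A, a * b = b * a) : Subgroup G where
  carrier := {a | a ∈ A ∧ a ^ 2 = 1}
  mul_mem' := by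
    rintro a b ⟨ha, ha2⟩ ⟨hb, hb2⟩
    refine ⟨A.mul_mem ha hb, ?_⟩
    have hc : Commute a b := hAab a ha b hb
    rw [hc.mul_pow, ha2, hb2, one_mul]
  one_mem' := ⟨A.one_mem, one_pow 2⟩
  inv_mem' := by
    rintro a ⟨ha, ha2⟩
    refine ⟨A.inv_mem ha, ?_⟩
    rw [inv_pow, ha2, inv_one]

theorem e2_mem_omega {A : Subgroup G} {hAab : ∀ a ∈ A, ∀ b ∈ A, a * b = b * a} {a : G} :
    a ∈ e2Omega A hAab ↔ a ∈ A ∧ a ^ 2 = 1 := Iff.rfl

/-- The elements of `V` that are central in `S` modulo the central subgroup `⟨z⟩`. -/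
def e2Second (S V : Subgroup G) (z : G) (hVS : V ≤ S) (hzc : ∀ s ∈ S, s * z = z * s) : Subgroup G where
  carrier := {u | u ∈ V ∧ ∀ s ∈ S, s * u * s⁻¹ * u⁻¹ ∈ Subgroup.zpowers z}
  mul_mem' := by
    rintro u u' ⟨hu, hu2⟩ ⟨hu', hu2'⟩
    refine ⟨V.mul_mem hu hu', ?_⟩
    intro s hs
    have hcz : ∀ c ∈ Subgroup.zpowers z, u * c * u⁻¹ = c := by
      rintro _ ⟨k, rfl⟩
      have hc : Commute u z := hzc u (hVS hu)
      rw [(hc.zpow_right k).eq, mul_assoc, mul_inv_cancel, mul_one]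
    have h1 : s * (u * u') * s⁻¹ * (u * u')⁻¹ =
        (s * u * s⁻¹ * u⁻¹) * (u * (s * u' * s⁻¹ * u'⁻¹) * u⁻¹) := by group
    rw [h1, hcz _ (hu2' s hs)]
    exact Subgroup.mul_mem _ (hu2 s hs) (hu2' s hs)
  one_mem' := by
    refine ⟨V.one_mem, ?_⟩
    intro s hs
    have : s * 1 * s⁻¹ * (1 : G)⁻¹ = 1 := by group
    rw [this]
    exact Subgroup.one_mem _
  inv_mem' := by
    rintro u ⟨hu, hu2⟩
    refine ⟨V.inv_mem hu, ?_⟩
    intro s hs
    have hcz : ∀ c ∈ Subgroup.zpowers z, u⁻¹ * c * u = c := by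
      rintro _ ⟨k, rfl⟩
      have hc : Commute u z := hzc u (hVS hu)
      rw [mul_assoc, (hc.zpow_right k).eq.symm, ← mul_assoc, inv_mul_cancel, one_mul]
    have h1 : s * u⁻¹ * s⁻¹ * u⁻¹⁻¹ = u⁻¹ * (s * u * s⁻¹ * u⁻¹)⁻¹ * u := by group
    rw [h1, hcz _ (Subgroup.inv_mem _ (hu2 s hs))]
    exact Subgroup.inv_mem _ (hu2 s hs)

theorem e2_mem_second {S V : Subgroup G} {z : G} {hVS : V ≤ S} {hzc : ∀ s ∈ S, s * z = z * s} {u : G} :
    u ∈ e2Second S V z hVS hzc ↔ u ∈ V ∧ ∀ s ∈ S, s * u * s⁻¹ * u⁻¹ ∈ Subgroup.zpowers z := Iff.rfl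

/-- Part (a): no nontrivial odd-order subgroup is normalized by `S`. -/
theorem e2_no_signalizer [Finite G] (S : Sylow 2 G) (A : Subgroup G)
    (hA : Cfsg.IsSCN (S : Subgroup G) A) (hA3 : ¬ Cfsg.PRankLE 2 2 ↥A)
    (hcen : ∀ t : G, orderOf t = 2 → CharPSub 2 (Subgroup.centralizer ({t} : Set G)))
    (K : Subgroup G) (hK : Odd (Nat.card K))
    (hSK : (S : Subgroup G) ≤ Subgroup.normalizer (K : Set G)) : K = ⊥ := by
  haveI : Fact (Nat.Prime 2) := ⟨Nat.prime_two⟩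
  obtain ⟨hAS, hSA, hAC⟩ := hA
  have hAab : ∀ a ∈ A, ∀ b ∈ A, a * b = b * a := by
    intro a ha b hb
    have h1 : b ∈ (S : Subgroup G) ⊓ Subgroup.centralizer (A : Set G) := by rw [hAC]; exact hb
    exact (Subgroup.mem_centralizer_iff.mp h1.2) a ha
  set V := e2Omega A hAab with hV
  have hVA : V ≤ A := fun a ha => ha.1
  have hVS : V ≤ (S : Subgroup G) := hVA.trans hAS
  have hV2 : ∀ v ∈ V, v ^ 2 = 1 := fun v hv => hv.2
  have hSV : (S : Subgroup G) ≤ Subgroup.normalizer (V : Set G) := by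
    apply e2_le_normalizer_of_conj_mem
    intro s hs a ha
    refine ⟨e2_conj_mem hSA hs ha.1, ?_⟩
    rw [conj_pow, ha.2, mul_one, mul_inv_cancel]
  have hcard : 2 < Nat.card V := by
    unfold Cfsg.PRankLE at hA3
    push Not at hA3
    obtain ⟨B, hBc, hB2, hBcard⟩ := hA3
    have hle : B.map A.subtype ≤ V := by
      rintro _ ⟨b, hb, rfl⟩
      refine ⟨b.2, ?_⟩
      have := congrArg Subtype.val (hB2 b hb)
      simpa using this
    have h1 : Nat.card (B.map A.subtype) = Nat.card B :=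
      Subgroup.card_map_of_injective A.subtype_injective
    have h2 := Subgroup.card_le_of_le hle
    rw [h1] at h2
    have : (2 : ℕ) ^ 2 = 4 := by norm_num
    omega
  obtain ⟨z, hzV, t, htV, hz1, hzc, ht1, htz, hst⟩ :=
    e2_exists_central_pair' S.isPGroup' hVS hSV hV2 hcard
  have hz2 : z ^ 2 = 1 := hV2 z hzV
  set W := e2Second (S : Subgroup G) V z hVS hzc with hW
  have hWV : W ≤ V := fun u hu => hu.1
  have hzW : z ∈ W := by
    refine ⟨hzV, ?_⟩
    intro s hs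
    have : s * z * s⁻¹ * z⁻¹ = 1 := by
      rw [hzc s hs]; group
    rw [this]
    exact Subgroup.one_mem _
  have htW : t ∈ W := ⟨htV, hst⟩
  have hWea : Cfsg.IsElementaryAbelian 2 W := by
    refine ⟨⟨⟨fun a b => ?_⟩⟩, fun a ha => hV2 a (hWV ha)⟩
    exact Subtype.ext (hAab a.1 (hVA (hWV a.2)) b.1 (hVA (hWV b.2)))
  have hWp : IsPGroup 2 W := S.isPGroup'.to_le (hWV.trans hVS)
  have hWcard : 2 ^ 2 ≤ Nat.card W := by
    have hlt : Subgroup.zpowers z < W := by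
      refine lt_of_le_of_ne ((Subgroup.zpowers_le).mpr hzW) ?_
      intro h
      have : t ∈ Subgroup.zpowers z := by rw [h]; exact htW
      rcases e2_mem_zpowers_two hz2 this with h1 | h1
      · exact ht1 h1
      · exact htz h1
    have h1 := Cfsg.Agent.Lib.Lead.card_lt_card_of_lt hlt
    rw [Nat.card_zpowers, orderOf_eq_prime hz2 hz1] at h1
    obtain ⟨k, hk⟩ := hWp.exists_card_eq
    rw [hk] at h1 ⊢
    have hk2 : 2 ≤ k := by
      by_contra hlt'
      have hk' : k = 0 ∨ k = 1 := by omega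
      rcases hk' with rfl | rfl <;> norm_num at h1
    exact Nat.pow_le_pow_right (by norm_num) hk2
  have hKnd : ¬ 2 ∣ Nat.card K := by
    intro h
    exact (Nat.not_even_iff_odd.mpr hK) (even_iff_two_dvd.mpr h)
  have hKeq := Cfsg.Agent.S1324.result 2 W K hWea hWcard hKnd ((hWV.trans hVS).trans hSK)
  rw [hKeq, iSup_eq_bot]
  rintro ⟨B, hBW, hBi⟩
  have hBne : B ≠ ⊥ := by
    intro h
    rw [h, Subgroup.relIndex_bot_left] at hBi
    have : (2 : ℕ) ^ 2 = 4 := by norm_num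
    omega
  rcases B.bot_or_exists_ne_one with h | ⟨b, hbB, hb1⟩
  · exact absurd h hBne
  have hbW : b ∈ W := hBW hbB
  have hbo : orderOf b = 2 := orderOf_eq_prime (hV2 b (hWV hbW)) hb1
  have h1 := e2_signalizer_cent S hK hSK hz2 hzc hbW.2 (hcen b hbo)
  rw [eq_bot_iff, ← h1]
  apply inf_le_inf_left
  apply Subgroup.centralizer_le
  intro x hx
  rw [Set.mem_singleton_iff] at hx
  rw [hx]
  exact hbB

end Cfsg.Agent.Lib.Helper9
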