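import Mathlib
import Cfsg.Agent.Lib.Helper9.E2C
import Cfsg.Agent.Lib.helper17.PRed3

set_option autoImplicit false

namespace Cfsg.Agent.Lib.Helper9

open Cfsg.Agent.Lib.helper17
open scoped commutatorElement

variable {G : Type*} [Group G]

theorem e2_cyclic_involution_unique {C : Type*} [Group C] [Finite C] [IsCyclic C] {z f : C}
    (hz1 : z ≠ 1) (hz2 : z ^ 2 = 1) (hf2 : f ^ 2 = 1) : f = 1 ∨ f = z := by
  classical
  haveI := Fintype.ofFinite C
  by_contra h
  push Not at h
  obtain ⟨hf1, hfz⟩ := h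
  have h1 := IsCyclic.card_pow_eq_one_le (α := C) (n := 2) (by norm_num)
  have hsub : ({1, z, f} : Finset C) ⊆ Finset.univ.filter (fun a : C => a ^ 2 = 1) := by
    intro x hx
    simp only [Finset.mem_insert, Finset.mem_singleton] at hx
    simp only [Finset.mem_filter, Finset.mem_univ, true_and]
    rcases hx with rfl | rfl | rfl
    · exact one_pow 2
    · exact hz2
    · exact hf2
  have hc : ({1, z, f} : Finset C).card = 3 := by
    rw [Finset.card_insert_of_notMem, Finset.card_insert_of_notMem, Finset.card_singleton]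
    · simp only [Finset.mem_singleton]; exact fun h => hfz h.symm
    · simp only [Finset.mem_insert, Finset.mem_singleton, not_or]
      exact ⟨fun h => hz1 h.symm, fun h => hf1 h.symm⟩
  have := Finset.card_le_card hsub
  omega

theorem e2_mem_cent_singleton (x b : G) :
    x ∈ Subgroup.centralizer ({b} : Set G) ↔ b * x = x * b := by
  rw [Subgroup.mem_centralizer_iff]
  constructor
  · intro h; exact h b (Set.mem_singleton b)
  · intro h y hy
    rw [Set.mem_singleton_iff] at hy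
    rw [hy]; exact h

/-- A nontrivial normal subgroup of a finite 2-group contains a nontrivial central element. -/
theorem e2_exists_central [Finite G] {S V : Subgroup G} (hS : IsPGroup 2 S) (hVS : V ≤ S)
    (hSV : S ≤ Subgroup.normalizer (V : Set G)) (hV : V ≠ ⊥) :
    ∃ z ∈ V, z ≠ 1 ∧ ∀ s ∈ S, s * z = z * s := by
  haveI : Fact (Nat.Prime 2) := ⟨Nat.prime_two⟩
  haveI : Group.IsNilpotent ↥S := hS.isNilpotent
  haveI hn : (V.subgroupOf S).Normal := (Subgroup.normal_subgroupOf_iff_le_normalizer hVS).mpr hSV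
  have hne : V.subgroupOf S ≠ ⊥ := by
    intro h
    apply hV
    rw [eq_bot_iff]
    intro v hv
    have h1 : (⟨v, hVS hv⟩ : S) ∈ V.subgroupOf S := Subgroup.mem_subgroupOf.mpr hv
    rw [h, Subgroup.mem_bot] at h1
    rw [Subgroup.mem_bot]
    exact congrArg Subtype.val h1
  have h1 := Helper1.normal_inf_center_ne_bot (V.subgroupOf S) hne
  obtain ⟨⟨z, hz⟩, hz1⟩ := (Subgroup.ne_bot_iff_exists_ne_one).mp h1
  refine ⟨(z : G), Subgroup.mem_subgroupOf.mp hz.1, fun h => hz1 (Subtype.ext (Subtype.ext h)), ?_⟩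
  intro s hs
  exact congrArg Subtype.val (Subgroup.mem_center_iff.mp hz.2 ⟨s, hs⟩)

theorem e2_relIndex_zpowers_four {U : Subgroup G} (hUcard : Nat.card U = 4)
    {z : G} (hzU : z ∈ U) (hz1 : z ≠ 1) (hz2 : z ^ 2 = 1) :
    (Subgroup.zpowers z).relIndex U ≤ 2 := by
  have hZU : Subgroup.zpowers z ≤ U := Subgroup.zpowers_le.mpr hzU
  have h1 := Helper5.card_mul_relIndex_of_le hZU
  rw [Nat.card_zpowers, orderOf_eq_prime hz2 hz1, hUcard] at h1
  omega

/-- A group of order 4 is acted on trivially modulo a central subgroup of order 2. -/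
theorem e2_key [Finite G] {P U : Subgroup G} (hUn : P ≤ Subgroup.normalizer (U : Set G))
    (hUcard : Nat.card U = 4) {z : G} (hzU : z ∈ U) (hz1 : z ≠ 1) (hz2 : z ^ 2 = 1)
    (hzc : ∀ s ∈ P, s * z = z * s) :
    ∀ x ∈ U, ∀ g ∈ P, g * x * g⁻¹ * x⁻¹ ∈ Subgroup.zpowers z := by
  have hidx := e2_relIndex_zpowers_four hUcard hzU hz1 hz2
  have hconj : ∀ g ∈ P, ∀ c ∈ Subgroup.zpowers z, g * c * g⁻¹ = c := by
    intro g hg c hc
    rcases e2_mem_zpowers_two hz2 hc with rfl | rfl
    · group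
    · rw [hzc g hg]; group
  intro x hx g hg
  by_cases hxZ : x ∈ Subgroup.zpowers z
  · rw [hconj g hg x hxZ, mul_inv_cancel]; exact Subgroup.one_mem _
  · have hy : g * x * g⁻¹ ∈ U := e2_conj_mem hUn hg hx
    have hyZ : g * x * g⁻¹ ∉ Subgroup.zpowers z := by
      intro h
      apply hxZ
      have h2 := hconj g⁻¹ (P.inv_mem hg) _ h
      have h3 : g⁻¹ * (g * x * g⁻¹) * g⁻¹⁻¹ = x := by group
      rw [h3] at h2
      rw [h2]; exact h
    have hxi : x⁻¹ ∉ Subgroup.zpowers z := fun h => hxZ (by simpa using Subgroup.inv_mem _ h)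
    exact e2_mul_mem_of_relIndex_le_two hidx hy (U.inv_mem hx) hyZ hxi

/-- The elements of a group of order 4 and exponent 2. -/
theorem e2_four_elements [Finite G] {U : Subgroup G} (hUcard : Nat.card U = 4)
    (hUcomm : ∀ x ∈ U, ∀ y ∈ U, x * y = y * x) (hU2 : ∀ x ∈ U, x ^ 2 = 1)
    {z u : G} (hzU : z ∈ U) (hz1 : z ≠ 1) (huU : u ∈ U) (hu1 : u ≠ 1) (huz : u ≠ z) :
    ∀ x ∈ U, x = 1 ∨ x = z ∨ x = u ∨ x = u * z := by
  have hz2 := hU2 z hzU
  have hu2 := hU2 u huU
  have hidx := e2_relIndex_zpowers_four hUcard hzU hz1 hz2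
  have huZ : u ∉ Subgroup.zpowers z := by
    intro h
    rcases e2_mem_zpowers_two hz2 h with h | h
    · exact hu1 h
    · exact huz h
  have huinv : u⁻¹ = u := by
    calc u⁻¹ = u⁻¹ * u ^ 2 := by rw [hu2, mul_one]
      _ = u := by group
  intro x hx
  by_cases hxZ : x ∈ Subgroup.zpowers z
  · rcases e2_mem_zpowers_two hz2 hxZ with h | h
    · exact Or.inl h
    · exact Or.inr (Or.inl h)
  · have h1 := e2_mul_mem_of_relIndex_le_two hidx hx huU hxZ huZ
    rcases e2_mem_zpowers_two hz2 h1 with h | h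
    · right; right; left
      calc x = (x * u) * u⁻¹ := by group
        _ = u := by rw [h, one_mul, huinv]
    · right; right; right
      calc x = (x * u) * u⁻¹ := by group
        _ = z * u := by rw [h, huinv]
        _ = u * z := hUcomm z hzU u huU

theorem e2_relIndex_cent [Finite G] {S : Subgroup G} {z b : G} (hz2 : z ^ 2 = 1)
    (hzc : ∀ s ∈ S, s * z = z * s) (hb : ∀ s ∈ S, s * b * s⁻¹ * b⁻¹ ∈ Subgroup.zpowers z) :
    (S ⊓ Subgroup.centralizer ({b} : Set G) : Subgroup G).relIndex S ≤ 2 := by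
  apply e2_relIndex_le_two
  intro x hx y hy hxn hyn
  have key : ∀ w ∈ S, w ∉ (S ⊓ Subgroup.centralizer ({b} : Set G) : Subgroup G) →
      w * b * w⁻¹ = z * b := by
    intro w hw hwn
    rcases e2_mem_zpowers_two hz2 (hb w hw) with h1 | h1
    · exfalso
      apply hwn
      have : w * b = b * w := by
        calc w * b = (w * b * w⁻¹ * b⁻¹) * (b * w) := by group
          _ = b * w := by rw [h1, one_mul]
      exact Subgroup.mem_inf.mpr ⟨hw, (e2_mem_cent_singleton w b).mpr this.symm⟩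
    · calc w * b * w⁻¹ = (w * b * w⁻¹ * b⁻¹) * b := by group
        _ = z * b := by rw [h1]
  refine Subgroup.mem_inf.mpr ⟨Subgroup.mul_mem _ hx hy, ?_⟩
  rw [e2_mem_cent_singleton]
  have h1 := key x hx hxn
  have h2 := key y hy hyn
  have h3 : x * y * b * (x * y)⁻¹ = b := by
    calc x * y * b * (x * y)⁻¹ = x * (y * b * y⁻¹) * x⁻¹ := by group
      _ = x * (z * b) * x⁻¹ := by rw [h2]
      _ = (x * z) * b * x⁻¹ := by group
      _ = (z * x) * b * x⁻¹ := by rw [hzc x hx]
      _ = z * (x * b * x⁻¹) := by group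
      _ = z * (z * b) := by rw [h1]
      _ = z ^ 2 * b := by rw [pow_two, mul_assoc]
      _ = b := by rw [hz2, one_mul]
  calc b * (x * y) = (x * y * b * (x * y)⁻¹) * (x * y) := by rw [h3]
    _ = x * y * b := by group

/-- A subgroup of index at most 2 is normal. -/
theorem e2_conj_mem_of_relIndex_le_two [Finite G] {H S : Subgroup G} (hHS : H ≤ S)
    (h : H.relIndex S ≤ 2) {s p : G} (hs : s ∈ S) (hp : p ∈ H) : s * p * s⁻¹ ∈ H := by
  by_cases hsH : s ∈ H
  · exact H.mul_mem (H.mul_mem hsH hp) (H.inv_mem hsH)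
  · by_contra hx
    have hxS : s * p * s⁻¹ ∈ S := S.mul_mem (S.mul_mem hs (hHS hp)) (S.inv_mem hs)
    have h1 := e2_mul_mem_of_relIndex_le_two h hxS hs hx hsH
    have h2 : s * p * s⁻¹ * s = s * p := by group
    rw [h2] at h1
    exact hsH ((Subgroup.mul_mem_cancel_right H hp).mp h1)

/-- Claim A: a normal four-subgroup `U` of a Sylow 2-subgroup `P` lies in `O_2(C(z))` for `z ∈ U ∩ Z(P)`,
when `C(z)` has characteristic 2. -/
theorem e2_four_le_core [Finite G] (P : Sylow 2 G) {U : Subgroup G}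
    (hUn : (P : Subgroup G) ≤ Subgroup.normalizer (U : Set G)) (hUcard : Nat.card U = 4)
    (hUcomm : ∀ x ∈ U, ∀ y ∈ U, x * y = y * x)
    {z : G} (hzU : z ∈ U) (hz1 : z ≠ 1) (hz2 : z ^ 2 = 1)
    (hzc : ∀ s ∈ (P : Subgroup G), s * z = z * s)
    (hC : CharPSub 2 (Subgroup.centralizer ({z} : Set G))) :
    U ≤ Cfsg.pCoreOf 2 (Subgroup.centralizer ({z} : Set G)) := by
  haveI : Fact (Nat.Prime 2) := ⟨Nat.prime_two⟩
  have hkey := e2_key hUn hUcard hzU hz1 hz2 hzc
  have hPH : (P : Subgroup G) ≤ Subgroup.centralizer ({z} : Set G) :=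
    fun s hs => (e2_mem_cent_singleton s z).mpr (hzc s hs).symm
  have hQP : Cfsg.pCoreOf 2 (Subgroup.centralizer ({z} : Set G)) ≤ (P : Subgroup G) :=
    pCoreOf_le_sylow P hPH
  have hHQ := le_normalizer_pCoreOf 2 (Subgroup.centralizer ({z} : Set G))
  have hQp := pCoreOf_isPGroup 2 (Subgroup.centralizer ({z} : Set G))
  have hHZ : Subgroup.centralizer ({z} : Set G) ≤
      Subgroup.normalizer ((Subgroup.zpowers z : Subgroup G) : Set G) := by
    intro h hh
    apply Subgroup.centralizer_le_normalizer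
    apply e2_commute_zpowers
    exact ((e2_mem_cent_singleton h z).mp hh).symm
  set H := Subgroup.centralizer ({z} : Set G) with hH
  set X0 := H ⊓ chainKer (Cfsg.pCoreOf 2 H) (Subgroup.zpowers z) with hX0
  have hX0n : H ≤ Subgroup.normalizer (X0 : Set G) := by
    apply e2_le_normalizer_of_conj_mem
    intro n hn g hg
    exact Subgroup.mem_inf.mpr ⟨H.mul_mem (H.mul_mem hn hg.1) (H.inv_mem hn),
      conj_mem_chainKer (hHQ hn) (hHZ hn) hg.2⟩
  have hZp : IsPGroup 2 (Subgroup.zpowers z) := e2_isPGroup_zpowers (orderOf_eq_prime hz2 hz1)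
  have hX0p : IsPGroup 2 X0 := by
    apply isPGroup_of_forall_coprime_eq_one
    intro h hh hhc
    obtain ⟨hhH, hh1, hh2, hh3⟩ := hh
    have h1 : ∀ v ∈ Cfsg.pCoreOf 2 H, ⁅h, v⁆ ∈ Subgroup.zpowers z := by
      intro v hv; rw [commutatorElement_def]; exact hh3 v hv
    have h2 : ∀ c ∈ Subgroup.zpowers z, h * c = c * h := by
      intro c hc
      rcases e2_mem_zpowers_two hz2 hc with rfl | rfl
      · simp
      · exact ((e2_mem_cent_singleton h c).mp hhH).symm
    have h3 := centralizes_of_stabilizes_chain hhc hZp h1 h2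
    have hhQ : h ∈ Cfsg.pCoreOf 2 H := by
      apply hC
      refine Subgroup.mem_inf.mpr ⟨hhH, ?_⟩
      rw [Subgroup.mem_centralizer_iff]
      intro v hv
      exact (h3 v hv).symm
    exact eq_one_of_isPElt_of_coprime (isPElt_of_mem hQp hhQ) hhc
  have hX0Q : X0 ≤ Cfsg.pCoreOf 2 H := le_pCoreOf inf_le_left hX0p hX0n
  intro x hx
  apply hX0Q
  have hxH : x ∈ H := (e2_mem_cent_singleton x z).mpr (hUcomm z hzU x hx)
  refine Subgroup.mem_inf.mpr ⟨hxH, hHQ hxH, hHZ hxH, ?_⟩
  intro v hv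
  have hc := hkey x hx v (hQP hv)
  have e : x * v * x⁻¹ * v⁻¹ = (v * x * v⁻¹ * x⁻¹)⁻¹ := by group
  rw [e]
  exact Subgroup.inv_mem _ hc

end Cfsg.Agent.Lib.Helper9
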