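import Mathlib
import Cfsg.Agent.Lib.Helper9.E2E
import Cfsg.Agent.S1324

set_option autoImplicit false

namespace Cfsg.Agent.Lib.Helper9

open Cfsg.Agent.Lib.helper17
open scoped commutatorElement

variable {G : Type*} [Group G]

/-- Lemma C1: `Ω₁(Z(C_P(u))) = ⟨z, u⟩` when `Z(P)` is cyclic, `z` the central involution and `u` has
two conjugates `u`, `uz` under `P`. -/
theorem e2_omega_center_le [Finite G] {P : Subgroup G} {z u a : G}
    (hcyc : IsCyclic ↥(P ⊓ Subgroup.centralizer (P : Set G)))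
    (hzP : z ∈ P) (hz1 : z ≠ 1) (hz2 : z ^ 2 = 1) (hzc : ∀ s ∈ P, s * z = z * s)
    (huP : u ∈ P) (hu2 : u ^ 2 = 1)
    (hidx : ∀ x ∈ P, ∀ y ∈ P, x ∉ (P ⊓ Subgroup.centralizer ({u} : Set G) : Subgroup G) →
      y ∉ (P ⊓ Subgroup.centralizer ({u} : Set G) : Subgroup G) →
      x * y ∈ (P ⊓ Subgroup.centralizer ({u} : Set G) : Subgroup G))
    (haP : a ∈ P) (hau : a * u * a⁻¹ = u * z)
    {e : G} (heP : e ∈ (P ⊓ Subgroup.centralizer ({u} : Set G) : Subgroup G)) (he2 : e ^ 2 = 1)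
    (hec : ∀ p ∈ (P ⊓ Subgroup.centralizer ({u} : Set G) : Subgroup G), p * e = e * p) :
    e = 1 ∨ e = z ∨ e = u ∨ e = u * z := by
  set Pu := (P ⊓ Subgroup.centralizer ({u} : Set G) : Subgroup G) with hPu
  have hPuP : Pu ≤ P := inf_le_left
  have ha : a ∉ Pu := by
    intro h
    have h1 : u * a = a * u := (e2_mem_cent_singleton a u).mp h.2
    have h2 : a * u * a⁻¹ = u := by rw [← h1]; group
    rw [h2] at hau
    have : z = 1 := by
      calc z = u⁻¹ * (u * z) := by group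
        _ = 1 := by rw [← hau]; group
    exact hz1 this
  have hainv : a⁻¹ ∉ Pu := fun h => ha (by simpa using Pu.inv_mem h)
  have hnorm1 : ∀ p ∈ Pu, a * p * a⁻¹ ∈ Pu := by
    intro p hp
    by_contra hx
    have hxP : a * p * a⁻¹ ∈ P := P.mul_mem (P.mul_mem haP (hPuP hp)) (P.inv_mem haP)
    have h1 := hidx _ hxP a haP hx ha
    have h2 : a * p * a⁻¹ * a = a * p := by group
    rw [h2] at h1
    exact ha ((Subgroup.mul_mem_cancel_right Pu hp).mp h1)
  have hnorm2 : ∀ p ∈ Pu, a⁻¹ * p * a ∈ Pu := by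
    intro p hp
    by_contra hx
    have hxP : a⁻¹ * p * a ∈ P := P.mul_mem (P.mul_mem (P.inv_mem haP) (hPuP hp)) haP
    have h1 := hidx _ hxP a⁻¹ (P.inv_mem haP) hx hainv
    have h2 : a⁻¹ * p * a * a⁻¹ = a⁻¹ * p := by group
    rw [h2] at h1
    exact hainv ((Subgroup.mul_mem_cancel_right Pu hp).mp h1)
  have haa : a * a ∈ Pu := hidx a haP a haP ha ha
  have hcover : ∀ g ∈ P, g ∈ Pu ∨ a⁻¹ * g ∈ Pu := by
    intro g hg
    by_cases h : g ∈ Pu
    · exact Or.inl h
    · exact Or.inr (hidx _ (P.inv_mem haP) g hg hainv h)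
  -- sub-claim (Z)
  have hZ : ∀ f ∈ P, f ^ 2 = 1 → (∀ p ∈ Pu, p * f = f * p) → a * f = f * a → f = 1 ∨ f = z := by
    intro f hfP hf2 hfc hfa
    have hfall : ∀ g ∈ P, g * f = f * g := by
      intro g hg
      rcases hcover g hg with h | h
      · exact hfc g h
      · have h1 := hfc _ h
        calc g * f = a * ((a⁻¹ * g) * f) := by group
          _ = a * (f * (a⁻¹ * g)) := by rw [h1]
          _ = (a * f) * (a⁻¹ * g) := by group
          _ = (f * a) * (a⁻¹ * g) := by rw [hfa]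
          _ = f * g := by group
    have hfZ : f ∈ (P ⊓ Subgroup.centralizer (P : Set G) : Subgroup G) :=
      Subgroup.mem_inf.mpr ⟨hfP, Subgroup.mem_centralizer_iff.mpr hfall⟩
    have hzZ : z ∈ (P ⊓ Subgroup.centralizer (P : Set G) : Subgroup G) :=
      Subgroup.mem_inf.mpr ⟨hzP, Subgroup.mem_centralizer_iff.mpr hzc⟩
    have hz1' : (⟨z, hzZ⟩ : ↥(P ⊓ Subgroup.centralizer (P : Set G))) ≠ 1 :=
      fun h => hz1 (congrArg Subtype.val h)
    have hz2' : (⟨z, hzZ⟩ : ↥(P ⊓ Subgroup.centralizer (P : Set G))) ^ 2 = 1 := by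
      apply Subtype.ext; simpa using hz2
    have hf2' : (⟨f, hfZ⟩ : ↥(P ⊓ Subgroup.centralizer (P : Set G))) ^ 2 = 1 := by
      apply Subtype.ext; simpa using hf2
    rcases e2_cyclic_involution_unique hz1' hz2' hf2' with h | h
    · exact Or.inl (congrArg Subtype.val h)
    · exact Or.inr (congrArg Subtype.val h)
  -- e' = a e a⁻¹
  have he'Pu : a * e * a⁻¹ ∈ Pu := hnorm1 e heP
  have he'c : ∀ p ∈ Pu, p * (a * e * a⁻¹) = (a * e * a⁻¹) * p := by
    intro p hp
    have h1 := hec _ (hnorm2 p hp)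
    calc p * (a * e * a⁻¹) = a * ((a⁻¹ * p * a) * e) * a⁻¹ := by group
      _ = a * (e * (a⁻¹ * p * a)) * a⁻¹ := by rw [h1]
      _ = (a * e * a⁻¹) * p := by group
  have he'2 : (a * e * a⁻¹) ^ 2 = 1 := by rw [conj_pow, he2, mul_one, mul_inv_cancel]
  have hee' : (a * e * a⁻¹) * e = e * (a * e * a⁻¹) := hec _ he'Pu
  have hcomm : Commute e (a * e * a⁻¹) := hee'.symm
  have hfP : e * (a * e * a⁻¹) ∈ P := P.mul_mem (hPuP heP) (hPuP he'Pu)
  have hf2 : (e * (a * e * a⁻¹)) ^ 2 = 1 := by rw [hcomm.mul_pow, he2, he'2, one_mul]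
  have hfc : ∀ p ∈ Pu, p * (e * (a * e * a⁻¹)) = (e * (a * e * a⁻¹)) * p := by
    intro p hp
    calc p * (e * (a * e * a⁻¹)) = (p * e) * (a * e * a⁻¹) := by group
      _ = (e * p) * (a * e * a⁻¹) := by rw [hec p hp]
      _ = e * (p * (a * e * a⁻¹)) := by group
      _ = e * ((a * e * a⁻¹) * p) := by rw [he'c p hp]
      _ = (e * (a * e * a⁻¹)) * p := by group
  have haae : (a * a) * e = e * (a * a) := hec _ haa
  have hfa : a * (e * (a * e * a⁻¹)) = (e * (a * e * a⁻¹)) * a := by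
    calc a * (e * (a * e * a⁻¹)) = (a * e * a⁻¹) * ((a * a) * e) * a⁻¹ := by group
      _ = (a * e * a⁻¹) * (e * (a * a)) * a⁻¹ := by rw [haae]
      _ = ((a * e * a⁻¹) * e) * a := by group
      _ = (e * (a * e * a⁻¹)) * a := by rw [hee']
  have heinv : e⁻¹ = e := by
    calc e⁻¹ = e⁻¹ * e ^ 2 := by rw [he2, mul_one]
      _ = e := by group
  have huinv : u⁻¹ = u := by
    calc u⁻¹ = u⁻¹ * u ^ 2 := by rw [hu2, mul_one]
      _ = u := by group
  rcases hZ _ hfP hf2 hfc hfa with hf | hf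
  · -- a e a⁻¹ = e
    have h1 : a * e * a⁻¹ = e := by
      calc a * e * a⁻¹ = e⁻¹ * (e * (a * e * a⁻¹)) := by group
        _ = e := by rw [hf, mul_one, heinv]
    have h2 : a * e = e * a := by
      calc a * e = (a * e * a⁻¹) * a := by group
        _ = e * a := by rw [h1]
    rcases hZ e (hPuP heP) he2 hec h2 with h | h
    · exact Or.inl h
    · exact Or.inr (Or.inl h)
  · -- a e a⁻¹ = e z
    have h1 : a * e * a⁻¹ = e * z := by
      calc a * e * a⁻¹ = e⁻¹ * (e * (a * e * a⁻¹)) := by group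
        _ = e * z := by rw [hf, heinv]
    have huPu : u ∈ Pu := Subgroup.mem_inf.mpr ⟨huP, (e2_mem_cent_singleton u u).mpr rfl⟩
    have hue : u * e = e * u := hec u huPu
    have hzu : u * z = z * u := hzc u huP
    have hze : e * z = z * e := hzc e (hPuP heP)
    have h3P : e * u ∈ P := P.mul_mem (hPuP heP) huP
    have h32 : (e * u) ^ 2 = 1 := by
      have hc : Commute e u := hue.symm
      rw [hc.mul_pow, he2, hu2, one_mul]
    have h3c : ∀ p ∈ Pu, p * (e * u) = (e * u) * p := by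
      intro p hp
      have hpu : u * p = p * u := (e2_mem_cent_singleton p u).mp hp.2
      calc p * (e * u) = (p * e) * u := by group
        _ = (e * p) * u := by rw [hec p hp]
        _ = e * (p * u) := by group
        _ = e * (u * p) := by rw [hpu]
        _ = (e * u) * p := by group
    have h3a : a * (e * u) = (e * u) * a := by
      calc a * (e * u) = (a * e * a⁻¹) * (a * u * a⁻¹) * a := by group
        _ = (e * z) * (u * z) * a := by rw [h1, hau]
        _ = e * (z * u) * z * a := by group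
        _ = e * (u * z) * z * a := by rw [hzu]
        _ = e * u * (z ^ 2) * a := by rw [pow_two]; group
        _ = (e * u) * a := by rw [hz2, mul_one]
    rcases hZ _ h3P h32 h3c h3a with h | h
    · right; right; left
      calc e = (e * u) * u⁻¹ := by group
        _ = u := by rw [h, one_mul, huinv]
    · right; right; right
      calc e = (e * u) * u⁻¹ := by group
        _ = z * u := by rw [h, huinv]
        _ = u * z := hzu.symm

/-- Claim C: `U ≤ O_2(C(u))` for every `u ∈ U#`. -/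
theorem e2_four_le_core_all [Finite G] (P : Sylow 2 G) {U : Subgroup G}
    (hUP : U ≤ (P : Subgroup G))
    (hUn : (P : Subgroup G) ≤ Subgroup.normalizer (U : Set G)) (hUcard : Nat.card U = 4)
    (hU2 : ∀ x ∈ U, x ^ 2 = 1) (hUcomm : ∀ x ∈ U, ∀ y ∈ U, x * y = y * x)
    (hUZ : ¬ IsCyclic ↥((P : Subgroup G) ⊓ Subgroup.centralizer ((P : Subgroup G) : Set G)) →
      U ≤ Subgroup.centralizer ((P : Subgroup G) : Set G))
    (hcen : ∀ t : G, orderOf t = 2 → CharPSub 2 (Subgroup.centralizer ({t} : Set G))) :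
    ∀ u ∈ U, u ≠ 1 → U ≤ Cfsg.pCoreOf 2 (Subgroup.centralizer ({u} : Set G)) := by
  haveI : Fact (Nat.Prime 2) := ⟨Nat.prime_two⟩
  intro u hu hu1
  have hu2 := hU2 u hu
  have huo : orderOf u = 2 := orderOf_eq_prime hu2 hu1
  by_cases hucent : ∀ s ∈ (P : Subgroup G), s * u = u * s
  · exact e2_four_le_core P hUn hUcard hUcomm hu hu1 hu2 hucent (hcen u huo)
  have hcyc : IsCyclic ↥((P : Subgroup G) ⊓ Subgroup.centralizer ((P : Subgroup G) : Set G)) := by
    by_contra hnc
    apply hucent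
    intro s hs
    exact (Subgroup.mem_centralizer_iff.mp (hUZ hnc hu)) s hs
  have hUne : U ≠ ⊥ := by
    intro h
    rw [h, Subgroup.mem_bot] at hu
    exact hu1 hu
  obtain ⟨z, hzU, hz1, hzc⟩ := e2_exists_central P.isPGroup' hUP hUn hUne
  have hz2 := hU2 z hzU
  have huz : u ≠ z := by
    intro h
    apply hucent
    rw [h]; exact hzc
  have hkey := e2_key hUn hUcard hzU hz1 hz2 hzc
  have hfour := e2_four_elements hUcard hUcomm hU2 hzU hz1 hu hu1 huz
  push Not at hucent
  obtain ⟨a, haP, hau'⟩ := hucent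
  have hzu : u * z = z * u := hzc u (hUP hu)
  have hau : a * u * a⁻¹ = u * z := by
    rcases e2_mem_zpowers_two hz2 (hkey u hu a haP) with h | h
    · exfalso
      apply hau'
      calc a * u = (a * u * a⁻¹ * u⁻¹) * (u * a) := by group
        _ = u * a := by rw [h, one_mul]
    · calc a * u * a⁻¹ = (a * u * a⁻¹ * u⁻¹) * u := by group
        _ = z * u := by rw [h]
        _ = u * z := hzu.symm
  have hidxP := e2_relIndex_cent hz2 hzc (hkey u hu)
  have hC := hcen u huo
  have hRp := pCoreOf_isPGroup 2 (Subgroup.centralizer ({u} : Set G))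
  have hRC := pCoreOf_le 2 (Subgroup.centralizer ({u} : Set G))
  have hCR := le_normalizer_pCoreOf 2 (Subgroup.centralizer ({u} : Set G))
  set H := Subgroup.centralizer ({u} : Set G) with hH
  set Q := Cfsg.pCoreOf 2 H with hQ
  have huQ : u ∈ Q := by
    have h1 : Subgroup.zpowers u ≤ Q := by
      apply le_pCoreOf
      · rw [Subgroup.zpowers_le]; exact (e2_mem_cent_singleton u u).mpr rfl
      · exact e2_isPGroup_zpowers huo
      · intro h hh
        apply Subgroup.centralizer_le_normalizer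
        apply e2_commute_zpowers
        exact ((e2_mem_cent_singleton h u).mp hh).symm
    exact h1 (Subgroup.mem_zpowers u)
  suffices hzQ : z ∈ Q by
    intro x hx
    rcases hfour x hx with rfl | rfl | rfl | rfl
    · exact Q.one_mem
    · exact hzQ
    · exact huQ
    · exact Q.mul_mem huQ hzQ
  by_contra hzQ
  have hzH : z ∈ H := (e2_mem_cent_singleton z u).mpr hzu
  have hQPu : ¬ Q ≤ ((P : Subgroup G) ⊓ H : Subgroup G) := by
    intro h
    apply hzQ
    apply hC
    refine Subgroup.mem_inf.mpr ⟨hzH, ?_⟩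
    rw [Subgroup.mem_centralizer_iff]
    intro v hv
    exact hzc v (h hv).1
  have hSbp : IsPGroup 2 ((P : Subgroup G) ⊓ H : Subgroup G) := P.isPGroup'.to_le inf_le_left
  have hP1 : IsPGroup 2 (Q ⊔ ((P : Subgroup G) ⊓ H) : Subgroup G) :=
    IsPGroup.to_sup_of_normal_left' hRp hSbp (inf_le_right.trans hCR)
  obtain ⟨S', hS'⟩ := hP1.exists_le_sylow
  have hcard : Nat.card (S' : Subgroup G) = Nat.card (P : Subgroup G) := by
    rw [Sylow.card_eq_multiplicity, Sylow.card_eq_multiplicity]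
  have hPuS' : ((P : Subgroup G) ⊓ H : Subgroup G) ≤ (S' : Subgroup G) := le_sup_right.trans hS'
  have hidx' : ((P : Subgroup G) ⊓ H : Subgroup G).relIndex (S' : Subgroup G) ≤ 2 := by
    have h1 := Helper5.card_mul_relIndex_of_le (inf_le_left : (P : Subgroup G) ⊓ H ≤ (P : Subgroup G))
    have h2 := Helper5.card_mul_relIndex_of_le hPuS'
    have h3 : 0 < Nat.card ((P : Subgroup G) ⊓ H : Subgroup G) := Nat.card_pos
    have h4 : ((P : Subgroup G) ⊓ H : Subgroup G).relIndex (S' : Subgroup G) =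
        ((P : Subgroup G) ⊓ H : Subgroup G).relIndex (P : Subgroup G) := by
      apply Nat.eq_of_mul_eq_mul_left h3
      rw [h1, h2, hcard]
    rw [h4]; exact hidxP
  have hS'le : (S' : Subgroup G) ≤ Q ⊔ ((P : Subgroup G) ⊓ H) := by
    have h1 := Subgroup.relIndex_mul_relIndex ((P : Subgroup G) ⊓ H) (Q ⊔ ((P : Subgroup G) ⊓ H))
      (S' : Subgroup G) le_sup_right hS'
    have h2 : ((P : Subgroup G) ⊓ H : Subgroup G).relIndex (Q ⊔ ((P : Subgroup G) ⊓ H)) ≠ 1 := by
      intro h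
      exact hQPu (le_sup_left.trans (Subgroup.relIndex_eq_one.mp h))
    have h3 : ((P : Subgroup G) ⊓ H : Subgroup G).relIndex (Q ⊔ ((P : Subgroup G) ⊓ H)) ≠ 0 :=
      Helper5.relIndex_ne_zero_of_finite _ _
    have h4 : (Q ⊔ ((P : Subgroup G) ⊓ H) : Subgroup G).relIndex (S' : Subgroup G) ≠ 0 :=
      Helper5.relIndex_ne_zero_of_finite _ _
    have h5 : (Q ⊔ ((P : Subgroup G) ⊓ H) : Subgroup G).relIndex (S' : Subgroup G) = 1 := by
      by_contra hb
      have h6 : 2 ≤ (Q ⊔ ((P : Subgroup G) ⊓ H) : Subgroup G).relIndex (S' : Subgroup G) := by omega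
      have h7 : 2 ≤ ((P : Subgroup G) ⊓ H : Subgroup G).relIndex (Q ⊔ ((P : Subgroup G) ⊓ H)) := by omega
      nlinarith
    exact Subgroup.relIndex_eq_one.mp h5
  have hS'H : (S' : Subgroup G) ≤ H := hS'le.trans (sup_le hRC inf_le_right)
  have huS' : ∀ s ∈ (S' : Subgroup G), s * u = u * s :=
    fun s hs => ((e2_mem_cent_singleton s u).mp (hS'H hs)).symm
  have hUPu : U ≤ ((P : Subgroup G) ⊓ H : Subgroup G) := by
    intro x hx
    exact Subgroup.mem_inf.mpr ⟨hUP hx, (e2_mem_cent_singleton x u).mpr (hUcomm u hu x hx)⟩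
  have hUS' : U ≤ (S' : Subgroup G) := hUPu.trans hPuS'
  have hUcPu : ∀ x ∈ U, ∀ p ∈ ((P : Subgroup G) ⊓ H : Subgroup G), p * x = x * p := by
    intro x hx p hp
    have hpu : u * p = p * u := (e2_mem_cent_singleton p u).mp hp.2
    have hpz : p * z = z * p := hzc p hp.1
    rcases hfour x hx with rfl | rfl | rfl | rfl
    · simp
    · exact hpz
    · exact hpu.symm
    · calc p * (u * z) = (p * u) * z := by group
        _ = (u * p) * z := by rw [hpu]
        _ = u * (p * z) := by group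
        _ = u * (z * p) := by rw [hpz]
        _ = u * z * p := by group
  have hidxel : ∀ x ∈ (P : Subgroup G), ∀ y ∈ (P : Subgroup G),
      x ∉ ((P : Subgroup G) ⊓ H : Subgroup G) → y ∉ ((P : Subgroup G) ⊓ H : Subgroup G) →
      x * y ∈ ((P : Subgroup G) ⊓ H : Subgroup G) :=
    fun x hx y hy hxn hyn => e2_mul_mem_of_relIndex_le_two hidxP hx hy hxn hyn
  have hS'U : (S' : Subgroup G) ≤ Subgroup.normalizer (U : Set G) := by
    apply e2_le_normalizer_of_conj_mem
    intro s hs x hx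
    have hePu : s * x * s⁻¹ ∈ ((P : Subgroup G) ⊓ H : Subgroup G) :=
      e2_conj_mem_of_relIndex_le_two hPuS' hidx' hs (hUPu hx)
    have he2 : (s * x * s⁻¹) ^ 2 = 1 := by rw [conj_pow, hU2 x hx, mul_one, mul_inv_cancel]
    have hec : ∀ p ∈ ((P : Subgroup G) ⊓ H : Subgroup G), p * (s * x * s⁻¹) = (s * x * s⁻¹) * p := by
      intro p hp
      have h1 : s⁻¹ * p * s⁻¹⁻¹ ∈ ((P : Subgroup G) ⊓ H : Subgroup G) :=
        e2_conj_mem_of_relIndex_le_two hPuS' hidx' (Subgroup.inv_mem _ hs) hp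
      have h2 := hUcPu x hx _ h1
      calc p * (s * x * s⁻¹) = s * ((s⁻¹ * p * s⁻¹⁻¹) * x) * s⁻¹ := by group
        _ = s * (x * (s⁻¹ * p * s⁻¹⁻¹)) * s⁻¹ := by rw [h2]
        _ = (s * x * s⁻¹) * p := by group
    rcases e2_omega_center_le hcyc (hUP hzU) hz1 hz2 hzc (hUP hu) hu2 hidxel haP hau hePu he2 hec
      with h | h | h | h
    · rw [h]; exact U.one_mem
    · rw [h]; exact hzU
    · rw [h]; exact hu
    · rw [h]; exact U.mul_mem hu hzU
  have := e2_four_le_core S' hS'U hUcard hUcomm hu hu1 hu2 huS' hC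
  exact hzQ (this hzU)

/-- A normal four-subgroup of a Sylow 2-subgroup (central if the centre is not cyclic) centralizes every
odd-order subgroup it normalizes, when involution centralizers have characteristic 2. -/
theorem e2_four_centralizes [Finite G] (P : Sylow 2 G) {U : Subgroup G}
    (hUP : U ≤ (P : Subgroup G))
    (hUn : (P : Subgroup G) ≤ Subgroup.normalizer (U : Set G)) (hU4 : IsKleinFour ↥U)
    (hUZ : ¬ IsCyclic ↥((P : Subgroup G) ⊓ Subgroup.centralizer ((P : Subgroup G) : Set G)) →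
      U ≤ Subgroup.centralizer ((P : Subgroup G) : Set G))
    (hcen : ∀ t : G, orderOf t = 2 → CharPSub 2 (Subgroup.centralizer ({t} : Set G)))
    (K : Subgroup G) (hK : Odd (Nat.card K)) (hUK : U ≤ Subgroup.normalizer (K : Set G)) :
    U ≤ Subgroup.centralizer (K : Set G) := by
  haveI : Fact (Nat.Prime 2) := ⟨Nat.prime_two⟩
  have hUcard : Nat.card U = 4 := hU4.card_four
  have hU2 : ∀ x ∈ U, x ^ 2 = 1 := by
    intro x hx
    have h1 : (⟨x, hx⟩ : U) ^ Monoid.exponent ↥U = 1 := Monoid.pow_exponent_eq_one _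
    rw [hU4.exponent_two] at h1
    have := congrArg Subtype.val h1
    simpa using this
  have hUcomm : ∀ x ∈ U, ∀ y ∈ U, x * y = y * x := by
    intro x hx y hy
    have := mul_comm_of_exponent_two hU4.exponent_two (⟨x, hx⟩ : U) ⟨y, hy⟩
    exact congrArg Subtype.val this
  have hall := e2_four_le_core_all P hUP hUn hUcard hU2 hUcomm hUZ hcen
  have hKcop : (Nat.card K).Coprime 2 := Nat.coprime_two_right.mpr hK
  have hUea : Cfsg.IsElementaryAbelian 2 U :=
    ⟨⟨⟨fun a b => Subtype.ext (hUcomm a.1 a.2 b.1 b.2)⟩⟩, hU2⟩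
  have hKnd : ¬ 2 ∣ Nat.card K := by
    intro h
    exact (Nat.not_even_iff_odd.mpr hK) (even_iff_two_dvd.mpr h)
  have hKeq := Cfsg.Agent.S1324.result 2 U K hUea (by rw [hUcard]; norm_num) hKnd hUK
  rw [Subgroup.le_centralizer_iff, hKeq]
  apply iSup_le
  rintro ⟨B, hBU, hBi⟩
  have hBne : B ≠ ⊥ := by
    intro h
    rw [h, Subgroup.relIndex_bot_left, hUcard] at hBi
    omega
  rcases B.bot_or_exists_ne_one with h | ⟨b, hbB, hb1⟩
  · exact absurd h hBne
  have hbU : b ∈ U := hBU hbB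
  have hUQ := hall b hbU hb1
  have hRp := pCoreOf_isPGroup 2 (Subgroup.centralizer ({b} : Set G))
  have hCR := le_normalizer_pCoreOf 2 (Subgroup.centralizer ({b} : Set G))
  intro y hy
  have hyK : y ∈ K := hy.1
  have hyb : y ∈ Subgroup.centralizer ({b} : Set G) := by
    have h1 : y ∈ Subgroup.centralizer ((B : Subgroup G) : Set G) := hy.2
    rw [e2_mem_cent_singleton]
    exact (Subgroup.mem_centralizer_iff.mp h1) b hbB
  rw [Subgroup.mem_centralizer_iff]
  intro x hx
  have hc1 : x * y * x⁻¹ * y⁻¹ = 1 := by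
    apply Helper5.h5_eq_one_of_mem_pgroup_of_mem_coprime hRp hKcop
    · have : x * y * x⁻¹ * y⁻¹ = x * (y * x⁻¹ * y⁻¹) := by group
      rw [this]
      exact Subgroup.mul_mem _ (hUQ hx) (e2_conj_mem hCR hyb (Subgroup.inv_mem _ (hUQ hx)))
    · exact K.mul_mem (e2_conj_mem hUK hx hyK) (K.inv_mem hyK)
  calc x * y = (x * y * x⁻¹ * y⁻¹) * (y * x) := by group
    _ = y * x := by rw [hc1, one_mul]

end Cfsg.Agent.Lib.Helper9
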