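import Mathlib
import Cfsg.Agent.Lib.Helper10.SigTrans
import Cfsg.Agent.Lib.Helper10.SubgroupBasic

set_option autoImplicit false

namespace Cfsg.Agent.Lib.Helper9

section EqOrd1

/-- the hypothesis: p-subgroups of equal order are conjugate -/
def EqoHyp (G : Type*) [Group G] : Prop :=
  ∀ p : ℕ, p.Prime → ∀ H K : Subgroup G, IsPGroup p H → IsPGroup p K → Nat.card H = Nat.card K →
      ∃ g : G, K = H.map (MulAut.conj g).toMonoidHom

theorem eqo_comm_of_conj {G : Type*} [Group G] {H K : Subgroup G} {g : G}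
    (h : K = H.map (MulAut.conj g).toMonoidHom)
    (hH : ∀ a ∈ H, ∀ b ∈ H, a * b = b * a) : ∀ a ∈ K, ∀ b ∈ K, a * b = b * a := by
  subst h
  rintro _ ⟨a, ha, rfl⟩ _ ⟨b, hb, rfl⟩
  rw [← map_mul, ← map_mul, hH a ha b hb]

theorem eqo_cyclic_of_conj {G : Type*} [Group G] {H K : Subgroup G} {g : G}
    (h : K = H.map (MulAut.conj g).toMonoidHom)
    (hH : IsCyclic H) : IsCyclic K := by
  subst h
  have e := Subgroup.equivMapOfInjective H (MulAut.conj g).toMonoidHom (MulAut.conj g).injective
  exact isCyclic_of_surjective e.toMonoidHom e.surjective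

theorem eqo_cyclic_of_map_inj {G Q : Type*} [Group G] [Group Q] (f : Q →* G)
    (hf : Function.Injective f) (M : Subgroup Q) (h : IsCyclic (M.map f)) : IsCyclic M := by
  have e := Subgroup.equivMapOfInjective M f hf
  exact isCyclic_of_surjective e.symm.toMonoidHom e.symm.surjective

/-- a nonabelian finite p-group has a nontrivial central commutator -/
theorem eqo_exists_central_comm {Q : Type*} [Group Q] [Finite Q] {p : ℕ} [Fact p.Prime]
    (hQ : IsPGroup p Q) (hnc : ¬ ∀ a b : Q, a * b = b * a) :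
    ∃ u x : Q, u * x * u⁻¹ * x⁻¹ ≠ 1 ∧ ∀ g : Q, g * (u * x * u⁻¹ * x⁻¹) = (u * x * u⁻¹ * x⁻¹) * g := by
  classical
  have hnt : Nontrivial (Q ⧸ Subgroup.center Q) := by
    by_contra hcon
    rw [not_nontrivial_iff_subsingleton] at hcon
    apply hnc
    intro a b
    have h1 : (QuotientGroup.mk b : Q ⧸ Subgroup.center Q) = 1 := Subsingleton.elim _ _
    rw [QuotientGroup.eq_one_iff] at h1
    exact (Subgroup.mem_center_iff.mp h1 a)
  have hQ' : IsPGroup p (Q ⧸ Subgroup.center Q) := hQ.to_quotient _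
  have hcn := hQ'.center_nontrivial
  obtain ⟨⟨xb, hxb⟩, hxne⟩ := exists_ne (1 : Subgroup.center (Q ⧸ Subgroup.center Q))
  obtain ⟨x, rfl⟩ := QuotientGroup.mk_surjective xb
  have hx1 : (QuotientGroup.mk x : Q ⧸ Subgroup.center Q) ≠ 1 := by
    intro h
    apply hxne
    exact Subtype.ext h
  have hxc : x ∉ Subgroup.center Q := by
    intro h
    exact hx1 ((QuotientGroup.eq_one_iff x).mpr h)
  rw [Subgroup.mem_center_iff] at hxc
  push Not at hxc
  obtain ⟨u, hu⟩ := hxc
  refine ⟨u, x, ?_, ?_⟩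
  · intro h
    apply hu
    have : u * x * u⁻¹ * x⁻¹ * x * u = u * x := by group
    rw [← this, h]; group
  · have hz : u * x * u⁻¹ * x⁻¹ ∈ Subgroup.center Q := by
      rw [← QuotientGroup.eq_one_iff]
      have hc := Subgroup.mem_center_iff.mp hxb (QuotientGroup.mk u)
      simp only [QuotientGroup.mk_mul, QuotientGroup.mk_inv]
      rw [hc]; group
    intro g
    exact Subgroup.mem_center_iff.mp hz g

/-- structure of a nonabelian group of order p^3 -/
theorem eqo_p3_struct {Q : Type*} [Group Q] [Finite Q] {p : ℕ} [hp : Fact p.Prime]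
    (hcard : Nat.card Q = p ^ 3) (hnc : ¬ ∀ a b : Q, a * b = b * a) :
    Nat.card (Subgroup.center Q) = p ∧ ∀ a b : Q, a * b * a⁻¹ * b⁻¹ ∈ Subgroup.center Q := by
  classical
  have hQ : IsPGroup p Q := IsPGroup.of_card hcard
  have hnt : Nontrivial Q := by
    rw [← Finite.one_lt_card_iff_nontrivial, hcard]
    exact Nat.one_lt_pow (by norm_num) hp.out.one_lt
  have hcn := hQ.center_nontrivial
  have hdvd : Nat.card (Subgroup.center Q) ∣ p ^ 3 := hcard ▸ Subgroup.card_subgroup_dvd_card _
  obtain ⟨k, hk3, hk⟩ := (Nat.dvd_prime_pow hp.out).mp hdvd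
  have hidx : (Subgroup.center Q).index * p ^ k = p ^ 3 := by
    rw [← hk, ← hcard, mul_comm]; exact Subgroup.card_mul_index _
  have hk0 : k ≠ 0 := by
    rintro rfl
    rw [pow_zero] at hk
    have := (Finite.one_lt_card_iff_nontrivial).mpr hcn
    omega
  have hk3' : k ≠ 3 := by
    rintro rfl
    apply hnc
    have htop : Subgroup.center Q = ⊤ := Subgroup.card_eq_iff_eq_top _ |>.mp (by rw [hk, hcard])
    intro a b
    have hb : b ∈ Subgroup.center Q := htop ▸ Subgroup.mem_top b
    exact (Subgroup.mem_center_iff.mp hb a)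
  have hk2 : k ≠ 2 := by
    rintro rfl
    apply hnc
    have hq : Nat.card (Q ⧸ Subgroup.center Q) = p := by
      have h1 : (Subgroup.center Q).index = p := by
        have : (Subgroup.center Q).index * p ^ 2 = p * p ^ 2 := by rw [hidx]; ring
        exact Nat.eq_of_mul_eq_mul_right (pow_pos hp.out.pos 2) this
      rw [← h1]; rfl
    haveI : IsCyclic (Q ⧸ Subgroup.center Q) := isCyclic_of_prime_card hq
    exact commutative_of_cyclic_center_quotient (QuotientGroup.mk' (Subgroup.center Q))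
      (by rw [QuotientGroup.ker_mk'])
  have hk1 : k = 1 := by omega
  subst hk1
  rw [pow_one] at hk
  refine ⟨hk, ?_⟩
  have hq : Nat.card (Q ⧸ Subgroup.center Q) = p ^ 2 := by
    have h1 : (Subgroup.center Q).index = p ^ 2 := by
      have : (Subgroup.center Q).index * p ^ 1 = p ^ 2 * p ^ 1 := by rw [hidx]; ring
      exact Nat.eq_of_mul_eq_mul_right (pow_pos hp.out.pos 1) this
    rw [← h1]; rfl
  have hcomm := IsPGroup.commutative_of_card_eq_prime_sq hq
  intro a b
  rw [← QuotientGroup.eq_one_iff]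
  simp only [QuotientGroup.mk_mul, QuotientGroup.mk_inv]
  rw [hcomm (QuotientGroup.mk a) (QuotientGroup.mk b)]
  group

end EqOrd1

end Cfsg.Agent.Lib.Helper9
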