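import Mathlib
import Cfsg.Agent.Lib.Helper9.EqOrd1

set_option autoImplicit false

namespace Cfsg.Agent.Lib.Helper9

section EqOrd2

theorem eqo_conj_pow_of_central {G : Type*} [Group G] {v z c : G} (h : v * z * v⁻¹ = c * z)
    (hc : v * c = c * v) (n : ℕ) : v ^ n * z * (v ^ n)⁻¹ = c ^ n * z := by
  induction n with
  | zero => simp
  | succ n ih =>
    have h1 : v ^ (n + 1) * z * (v ^ (n + 1))⁻¹ = v * (v ^ n * z * (v ^ n)⁻¹) * v⁻¹ := by
      rw [pow_succ']; group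
    rw [h1, ih]
    have h2 : v * (c ^ n * z) * v⁻¹ = (v * c ^ n * v⁻¹) * (v * z * v⁻¹) := by group
    have hcn : v * c ^ n = c ^ n * v := (Commute.pow_right (show Commute v c from hc) n)
    rw [h2, h, hcn, mul_assoc (c ^ n), mul_inv_cancel, mul_one, pow_succ, mul_assoc]

theorem eqo_lemW {G : Type*} [Group G] {u v z x : G} (hzx : z * x = x * z)
    (huz : u * z * u⁻¹ = z) (hux : u * x * u⁻¹ = z * x)
    (hvx : v * x * v⁻¹ = x) (hvz : v * z * v⁻¹ = x⁻¹ * z) :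
    (u * v * u) * z * (u * v * u)⁻¹ = x⁻¹ ∧ (u * v * u) * x * (u * v * u)⁻¹ = z := by
  constructor
  · have h1 : (u * v * u) * z * (u * v * u)⁻¹ = u * (v * (u * z * u⁻¹) * v⁻¹) * u⁻¹ := by group
    rw [h1, huz, hvz]
    have h2 : u * (x⁻¹ * z) * u⁻¹ = (u * x * u⁻¹)⁻¹ * (u * z * u⁻¹) := by group
    rw [h2, hux, huz]; group
  · have h3 : (u * v * u) * x * (u * v * u)⁻¹ = u * (v * (u * x * u⁻¹) * v⁻¹) * u⁻¹ := by group
    rw [h3, hux]
    have h4 : v * (z * x) * v⁻¹ = (v * z * v⁻¹) * (v * x * v⁻¹) := by group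
    rw [h4, hvz, hvx]
    have h5 : x⁻¹ * z * x = z := by
      rw [mul_assoc, hzx, ← mul_assoc, inv_mul_cancel, one_mul]
    rw [h5, huz]

theorem eqo_lemW_sq {G : Type*} [Group G] {u v z x : G} (hzx : z * x = x * z)
    (huz : u * z * u⁻¹ = z) (hux : u * x * u⁻¹ = z * x)
    (hvx : v * x * v⁻¹ = x) (hvz : v * z * v⁻¹ = x⁻¹ * z) :
    ((u * v * u) * (u * v * u)) * z * ((u * v * u) * (u * v * u))⁻¹ = z⁻¹ := by
  obtain ⟨h1, h2⟩ := eqo_lemW hzx huz hux hvx hvz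
  set w := u * v * u
  have : (w * w) * z * (w * w)⁻¹ = w * (w * z * w⁻¹) * w⁻¹ := by group
  rw [this, h1]
  have : w * x⁻¹ * w⁻¹ = (w * x * w⁻¹)⁻¹ := by group
  rw [this, h2]

theorem eqo_inv_odd_pow {G : Type*} [Group G] {t z : G} (h : t * z * t⁻¹ = z⁻¹) {n : ℕ}
    (hn : Odd n) : t ^ n * z * (t ^ n)⁻¹ = z⁻¹ := by
  obtain ⟨k, rfl⟩ := hn
  have h2 : (t * t) * z * (t * t)⁻¹ = z := by
    have : (t * t) * z * (t * t)⁻¹ = t * (t * z * t⁻¹) * t⁻¹ := by group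
    rw [this, h]
    have : t * z⁻¹ * t⁻¹ = (t * z * t⁻¹)⁻¹ := by group
    rw [this, h, inv_inv]
  have hc : Commute (t * t) z := by
    have : (t * t) * z = z * (t * t) := by
      conv_rhs => rw [← h2]
      group
    exact this
  have hck : Commute ((t * t) ^ k) z := hc.pow_left k
  have e : t ^ (2 * k + 1) = (t * t) ^ k * t := by
    rw [pow_succ, pow_mul, pow_two]
  rw [e]
  have : (t * t) ^ k * t * z * ((t * t) ^ k * t)⁻¹ = (t * t) ^ k * (t * z * t⁻¹) * ((t * t) ^ k)⁻¹ := by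
    group
  rw [this, h]
  have hck' : Commute ((t * t) ^ k) z⁻¹ := hck.inv_right
  rw [hck'.eq, mul_assoc, mul_inv_cancel, mul_one]

theorem eqo_pow_p_eq_one {G : Type*} [Group G] {p : ℕ} [hp : Fact p.Prime] {x : G}
    (hx : ∃ k, orderOf x = p ^ k) (hno : ∀ y : G, orderOf y ≠ p ^ 2) : x ^ p = 1 := by
  obtain ⟨k, hk⟩ := hx
  by_cases hk1 : k ≤ 1
  · rw [← orderOf_dvd_iff_pow_eq_one, hk]
    calc p ^ k ∣ p ^ 1 := pow_dvd_pow p hk1
      _ = p := pow_one p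
  · exfalso
    push Not at hk1
    apply hno (x ^ (p ^ (k - 2)))
    have hne : p ^ (k - 2) ≠ 0 := pow_ne_zero _ hp.out.ne_zero
    have hdvd : p ^ (k - 2) ∣ orderOf x := by
      rw [hk]; exact pow_dvd_pow p (by omega)
    rw [orderOf_pow_of_dvd hne hdvd, hk]
    have : p ^ k = p ^ 2 * p ^ (k - 2) := by
      rw [← pow_add]; congr 1; omega
    rw [this, Nat.mul_div_cancel _ (pow_pos hp.out.pos _)]

end EqOrd2

end Cfsg.Agent.Lib.Helper9
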