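import Mathlib
import Cfsg.Agent.Lib.Helper9.EqOrd2

set_option autoImplicit false

namespace Cfsg.Agent.Lib.Helper9

section EqOrd3

open QuaternionGroup

/-- the parity map on a generalized quaternion group -/
def eqoQuatFun (N : ℕ) : QuaternionGroup N → Multiplicative (ZMod 2)
  | QuaternionGroup.a i => Multiplicative.ofAdd (ZMod.castHom (dvd_mul_right 2 N) (ZMod 2) i)
  | QuaternionGroup.xa i => Multiplicative.ofAdd (ZMod.castHom (dvd_mul_right 2 N) (ZMod 2) i)

theorem eqo_zmod2_sub (x y : ZMod 2) : x - y = x + y := by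
  revert x y; decide

theorem eqoQuatFun_mul (N : ℕ) (hN : Even N) (g h : QuaternionGroup N) :
    eqoQuatFun N (g * h) = eqoQuatFun N g * eqoQuatFun N h := by
  have hN0 : ((N : ℕ) : ZMod 2) = 0 := by
    rw [ZMod.natCast_eq_zero_iff]
    exact hN.two_dvd
  rcases g with i | i <;> rcases h with j | j
  · simp only [a_mul_a, eqoQuatFun, map_add, ofAdd_add]
  · simp only [a_mul_xa, eqoQuatFun, map_sub, eqo_zmod2_sub, ofAdd_add]
    rw [mul_comm]
  · simp only [xa_mul_a, eqoQuatFun, map_add, ofAdd_add]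
  · simp only [xa_mul_xa, eqoQuatFun, map_sub, map_add, map_natCast, hN0, zero_add, eqo_zmod2_sub,
      ofAdd_add]
    rw [mul_comm]

/-- the parity hom -/
noncomputable def eqoQuatHom (N : ℕ) (hN : Even N) : QuaternionGroup N →* Multiplicative (ZMod 2) :=
  MonoidHom.mk' (eqoQuatFun N) (eqoQuatFun_mul N hN)

theorem eqo_quat_subgroups (N : ℕ) (hN4 : 4 ≤ N) (hN : Even N) :
    ∃ H₁ H₂ : Subgroup (QuaternionGroup N), Nat.card H₁ = 2 * N ∧ Nat.card H₂ = 2 * N ∧
      (∀ a ∈ H₁, ∀ b ∈ H₁, a * b = b * a) ∧ ¬ (∀ a ∈ H₂, ∀ b ∈ H₂, a * b = b * a) := by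
  haveI : NeZero N := ⟨by omega⟩
  refine ⟨Subgroup.zpowers (a 1), (eqoQuatHom N hN).ker, ?_, ?_, ?_, ?_⟩
  · rw [Nat.card_zpowers, orderOf_a_one]
  · have h1 := Subgroup.card_mul_index (eqoQuatHom N hN).ker
    rw [Subgroup.index_ker] at h1
    have hsurj : Function.Surjective (eqoQuatHom N hN) := by
      intro y
      have hy : ∀ y : ZMod 2, y = 0 ∨ y = 1 := by decide
      rcases hy (Multiplicative.toAdd y) with h | h
      · refine ⟨a 0, ?_⟩
        show eqoQuatFun N (a 0) = y
        simp only [eqoQuatFun, map_zero]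
        rw [← h]; rfl
      · refine ⟨a 1, ?_⟩
        show eqoQuatFun N (a 1) = y
        simp only [eqoQuatFun, map_one]
        rw [← h]; rfl
    have hr : (eqoQuatHom N hN).range = ⊤ := MonoidHom.range_eq_top.mpr hsurj
    rw [hr, Subgroup.card_top, Nat.card_eq_fintype_card (α := QuaternionGroup N),
      QuaternionGroup.card] at h1
    have h2 : Nat.card (Multiplicative (ZMod 2)) = 2 := by
      rw [Nat.card_eq_fintype_card]; rfl
    rw [h2] at h1
    omega
  · intro x hx y hy
    obtain ⟨k, rfl⟩ := Subgroup.mem_zpowers_iff.mp hx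
    obtain ⟨l, rfl⟩ := Subgroup.mem_zpowers_iff.mp hy
    exact (Commute.zpow_zpow_self _ k l).eq
  · intro hcomm
    have h1 : (xa 0 : QuaternionGroup N) ∈ (eqoQuatHom N hN).ker := by
      rw [MonoidHom.mem_ker]
      show eqoQuatFun N (xa 0) = 1
      simp only [eqoQuatFun, map_zero]; rfl
    have h2 : (a 2 : QuaternionGroup N) ∈ (eqoQuatHom N hN).ker := by
      rw [MonoidHom.mem_ker]
      show eqoQuatFun N (a 2) = 1
      simp only [eqoQuatFun]
      have : (ZMod.castHom (dvd_mul_right 2 N) (ZMod 2)) 2 = 0 := by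
        rw [map_ofNat]; rfl
      rw [this]; rfl
    have h3 := hcomm _ h1 _ h2
    rw [xa_mul_a, a_mul_xa] at h3
    have h4 : (0 : ZMod (2 * N)) + 2 = 0 - 2 := by
      injection h3
    have h5 : ((4 : ℕ) : ZMod (2 * N)) = 0 := by
      have : (4 : ZMod (2 * N)) = (0 + 2) - (0 - 2) := by ring
      rw [h4] at this
      push_cast
      rw [this]; ring
    rw [ZMod.natCast_eq_zero_iff] at h5
    have := Nat.le_of_dvd (by norm_num) h5
    omega

end EqOrd3

end Cfsg.Agent.Lib.Helper9
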