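import Mathlib
import Cfsg.Agent.Lib.Helper9.EqOrd3
import Cfsg.Agent.Lib.Helper1.TwoGroupUnique
import Cfsg.Prelude.Def_Transfer

set_option autoImplicit false

namespace Cfsg.Agent.Lib.Helper9

section EqOrd4

theorem eqo_all_cyclic_p2 {G : Type*} [Group G] [Finite G] (hD : EqoHyp G) {p : ℕ}
    [hp : Fact p.Prime] (hx : ∃ x : G, orderOf x = p ^ 2) (L : Subgroup G)
    (hL : Nat.card L = p ^ 2) : IsCyclic L := by
  obtain ⟨x, hx⟩ := hx
  have h1 : Nat.card (Subgroup.zpowers x) = p ^ 2 := by rw [Nat.card_zpowers, hx]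
  obtain ⟨g, hg⟩ := hD p hp.out (Subgroup.zpowers x) L (IsPGroup.of_card h1) (IsPGroup.of_card hL)
    (by rw [h1, hL])
  exact eqo_cyclic_of_conj hg inferInstance

theorem eqo_normalizer_of_central {Q : Type*} [Group Q] (Z : Subgroup Q)
    (hZ : ∀ z ∈ Z, ∀ g : Q, g * z = z * g) (X : Subgroup Q) :
    X ≤ Subgroup.normalizer (Z : Set Q) := by
  intro g _
  rw [Subgroup.mem_normalizer_iff]
  intro h
  constructor
  · intro hh
    rw [hZ h hh g, mul_assoc, mul_inv_cancel, mul_one]
    exact hh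
  · intro hh
    have := hZ _ hh g⁻¹
    have e : h = g⁻¹ * (g * h * g⁻¹) * g := by group
    rw [e, this, mul_assoc, inv_mul_cancel, mul_one]
    exact hh

theorem eqo_caseA_unique {G : Type*} [Group G] [Finite G] (hD : EqoHyp G) {p : ℕ}
    [hp : Fact p.Prime] (P : Sylow p G) (hx : ∃ x : G, orderOf x = p ^ 2) :
    ∀ H K : Subgroup P, Nat.card H = p → Nat.card K = p → H = K := by
  intro H K hH hK
  have hPg : IsPGroup p P := P.isPGroup'
  have hnt : Nontrivial P := by
    rw [← Finite.one_lt_card_iff_nontrivial]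
    have h1 : Nat.card H ∣ Nat.card P := Subgroup.card_subgroup_dvd_card H
    rw [hH] at h1
    have := Nat.le_of_dvd Nat.card_pos h1
    have := hp.out.one_lt
    omega
  have hcn := hPg.center_nontrivial
  have hcdvd : p ∣ Nat.card (Subgroup.center P) := by
    have hc : IsPGroup p (Subgroup.center P) := hPg.to_subgroup _
    rcases hc.card_eq_or_dvd with h | h
    · have := (Finite.one_lt_card_iff_nontrivial).mpr hcn
      omega
    · exact h
  obtain ⟨z₀, hz₀⟩ := exists_prime_orderOf_dvd_card' (G := Subgroup.center P) p hcdvd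
  have hz : orderOf (z₀ : P) = p := by rw [Subgroup.orderOf_coe, hz₀]
  have hZcard : Nat.card (Subgroup.zpowers (z₀ : P)) = p := by rw [Nat.card_zpowers, hz]
  have hZc : ∀ z ∈ Subgroup.zpowers (z₀ : P), ∀ g : P, g * z = z * g := by
    intro z hz g
    have : z ∈ Subgroup.center P := by
      have : Subgroup.zpowers (z₀ : P) ≤ Subgroup.center P := by
        rw [Subgroup.zpowers_le]; exact z₀.2
      exact this hz
    exact Subgroup.mem_center_iff.mp this g
  have key : ∀ X : Subgroup P, Nat.card X = p → X = Subgroup.zpowers (z₀ : P) := by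
    intro X hX
    by_contra hne
    have hdvd : Nat.card ↥(X ⊔ Subgroup.zpowers (z₀ : P)) ∣ p * p := by
      have := Cfsg.Agent.Lib.Helper10.card_sup_dvd_of_le_normalizer
        (eqo_normalizer_of_central (Subgroup.zpowers (z₀ : P)) hZc X)
      rwa [hX, hZcard] at this
    have hXM : X ≤ X ⊔ Subgroup.zpowers (z₀ : P) := le_sup_left
    have hZM : Subgroup.zpowers (z₀ : P) ≤ X ⊔ Subgroup.zpowers (z₀ : P) := le_sup_right
    rw [← pow_two] at hdvd
    obtain ⟨k, hk2, hk⟩ := (Nat.dvd_prime_pow hp.out).mp hdvd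
    have hXle := Subgroup.card_le_of_le hXM
    rw [hX, hk] at hXle
    have hk0 : k ≠ 0 := by
      rintro rfl
      have := hp.out.one_lt
      simp at hXle
      omega
    have hk1 : k ≠ 1 := by
      rintro rfl
      rw [pow_one] at hk
      have h1 : X = X ⊔ Subgroup.zpowers (z₀ : P) :=
        Subgroup.eq_of_le_of_card_ge hXM (by rw [hk, hX])
      have h2 : Subgroup.zpowers (z₀ : P) ≤ X := by rw [h1]; exact hZM
      exact hne (Subgroup.eq_of_le_of_card_ge h2 (by rw [hX, hZcard])).symm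
    have hk2' : k = 2 := by omega
    subst hk2'
    have hcyc : IsCyclic ↥(X ⊔ Subgroup.zpowers (z₀ : P)) := by
      apply eqo_cyclic_of_map_inj (P : Subgroup G).subtype (Subgroup.subtype_injective _)
      apply eqo_all_cyclic_p2 hD hx
      rw [Subgroup.card_map_of_injective (Subgroup.subtype_injective _), hk]
    have h3 : X.subgroupOf (X ⊔ Subgroup.zpowers (z₀ : P)) =
        (Subgroup.zpowers (z₀ : P)).subgroupOf (X ⊔ Subgroup.zpowers (z₀ : P)) := by
      apply Cfsg.Agent.Lib.Helper10.eq_of_card_eq_of_isCyclic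
      rw [Nat.card_congr (Subgroup.subgroupOfEquivOfLe hXM).toEquiv,
        Nat.card_congr (Subgroup.subgroupOfEquivOfLe hZM).toEquiv, hX, hZcard]
    apply hne
    apply Subgroup.eq_of_le_of_card_ge
    · intro x hx'
      have : (⟨x, hXM hx'⟩ : ↥(X ⊔ Subgroup.zpowers (z₀ : P))) ∈
          X.subgroupOf (X ⊔ Subgroup.zpowers (z₀ : P)) := by
        rw [Subgroup.mem_subgroupOf]; exact hx'
      rw [h3, Subgroup.mem_subgroupOf] at this
      exact this
    · rw [hX, hZcard]
  rw [key H hH, key K hK]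

/-- no generalized quaternion Sylow 2-subgroup of order at least 16 -/
theorem eqo_no_big_quat {G : Type*} [Group G] [Finite G] (hD : EqoHyp G) (T : Subgroup G)
    (n : ℕ) (hn : 2 ≤ n) (e : T ≃* QuaternionGroup (2 ^ n)) : False := by
  have hN4 : 4 ≤ 2 ^ n := by
    calc 4 = 2 ^ 2 := by norm_num
      _ ≤ 2 ^ n := Nat.pow_le_pow_right (by norm_num) hn
  have hNe : Even (2 ^ n) := by
    rw [Nat.even_pow]; exact ⟨even_two, by omega⟩
  obtain ⟨H₁, H₂, hc1, hc2, hab, hnab⟩ := eqo_quat_subgroups (2 ^ n) hN4 hNe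
  let φ : QuaternionGroup (2 ^ n) →* G := T.subtype.comp e.symm.toMonoidHom
  have hφ : Function.Injective φ := by
    intro x y hxy
    have : e.symm x = e.symm y := Subtype.ext hxy
    exact e.symm.injective this
  have hcard1 : Nat.card (H₁.map φ) = 2 ^ (n + 1) := by
    rw [Subgroup.card_map_of_injective hφ, hc1, pow_succ, mul_comm]
  have hcard2 : Nat.card (H₂.map φ) = 2 ^ (n + 1) := by
    rw [Subgroup.card_map_of_injective hφ, hc2, pow_succ, mul_comm]
  haveI : Fact (Nat.Prime 2) := ⟨Nat.prime_two⟩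
  obtain ⟨g, hg⟩ := hD 2 Nat.prime_two (H₁.map φ) (H₂.map φ) (IsPGroup.of_card hcard1)
    (IsPGroup.of_card hcard2) (by rw [hcard1, hcard2])
  have hab' : ∀ a ∈ H₁.map φ, ∀ b ∈ H₁.map φ, a * b = b * a := by
    rintro _ ⟨a, ha, rfl⟩ _ ⟨b, hb, rfl⟩
    rw [← map_mul, ← map_mul, hab a ha b hb]
  have h2 := eqo_comm_of_conj hg hab'
  apply hnab
  intro a ha b hb
  apply hφ
  rw [map_mul, map_mul]
  exact h2 _ ⟨a, ha, rfl⟩ _ ⟨b, hb, rfl⟩

theorem eqo_exp_of_no_p2 {G : Type*} [Group G] [Finite G] {p : ℕ} [hp : Fact p.Prime]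
    (hx : ¬ ∃ x : G, orderOf x = p ^ 2) (P : Subgroup G) (hP : IsPGroup p P) :
    ∀ a ∈ P, a ^ p = 1 := by
  intro a ha
  apply eqo_pow_p_eq_one (p := p)
  · obtain ⟨k, hk⟩ := hP ⟨a, ha⟩
    have h1 : a ^ p ^ k = 1 := by
      have := congrArg Subtype.val hk
      simpa using this
    obtain ⟨m, -, hm⟩ := (Nat.dvd_prime_pow hp.out).mp (orderOf_dvd_of_pow_eq_one h1)
    exact ⟨m, hm⟩
  · intro y hy
    exact hx ⟨y, hy⟩

theorem eqo_two {G : Type*} [Group G] [Finite G] (hD : EqoHyp G) (T : Sylow 2 G) :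
    IsCyclic T ∨ Cfsg.IsElementaryAbelian 2 (T : Subgroup G) ∨
      Nonempty ((T : Subgroup G) ≃* QuaternionGroup 2) := by
  haveI : Fact (Nat.Prime 2) := ⟨Nat.prime_two⟩
  by_cases hx : ∃ x : G, orderOf x = 2 ^ 2
  · have huniq := eqo_caseA_unique hD T hx
    rcases Cfsg.Agent.Lib.Helper1.cyclic_or_quaternion_of_unique T.isPGroup' huniq with h | ⟨n, ⟨e⟩⟩
    · exact Or.inl h
    · rcases Nat.lt_or_ge n 2 with hn | hn
      · interval_cases n
        · left
          have e' : (T : Subgroup G) ≃* QuaternionGroup 1 := e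
          haveI := QuaternionGroup.quaternionGroup_one_isCyclic
          exact isCyclic_of_surjective e'.symm.toMonoidHom e'.symm.surjective
        · right; right
          exact ⟨e⟩
      · exact (eqo_no_big_quat hD (T : Subgroup G) n hn e).elim
  · right; left
    have hexp := eqo_exp_of_no_p2 hx (T : Subgroup G) T.isPGroup'
    refine ⟨⟨⟨fun a b => ?_⟩⟩, hexp⟩
    have h1 : ∀ c : (T : Subgroup G), c * c = 1 := by
      intro c
      have := hexp c c.2
      apply Subtype.ext
      rw [pow_two] at this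
      simpa using this
    have hinv : ∀ c : (T : Subgroup G), c⁻¹ = c := fun c => inv_eq_of_mul_eq_one_left (h1 c)
    calc a * b = (a * b)⁻¹ := (hinv _).symm
      _ = b⁻¹ * a⁻¹ := mul_inv_rev a b
      _ = b * a := by rw [hinv a, hinv b]

end EqOrd4

end Cfsg.Agent.Lib.Helper9
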