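import Mathlib
import Cfsg.Agent.Lib.Helper9.EqOrd4
import Cfsg.Agent.Lib.Helper9.SylowConj

set_option autoImplicit false

namespace Cfsg.Agent.Lib.Helper9

section EqOrd5

theorem eqo_mem_normalizer_of_map_le {Q : Type*} [Group Q] [Finite Q] (M : Subgroup Q) (g : Q)
    (h : M.map (MulAut.conj g).toMonoidHom ≤ M) : g ∈ Subgroup.normalizer (M : Set Q) := by
  apply mem_normalizer_of_map_conj_eq
  apply Subgroup.eq_of_le_of_card_ge h
  rw [Subgroup.card_map_of_injective (MulAut.conj g).injective]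

theorem eqo_comm_of_card_le_p2 {Q : Type*} [Group Q] {p : ℕ} [hp : Fact p.Prime] {k : ℕ}
    (hk : k ≤ 2) (h : Nat.card Q = p ^ k) : ∀ a b : Q, a * b = b * a := by
  intro a b
  interval_cases k
  · rw [pow_zero] at h
    have := (Nat.card_eq_one_iff_unique.mp h).1
    rw [Subsingleton.elim a 1, Subsingleton.elim b 1]
  · rw [pow_one] at h
    haveI : IsCyclic Q := isCyclic_of_prime_card h
    letI := IsCyclic.commGroup (α := Q)
    exact mul_comm a b
  · exact IsPGroup.commutative_of_card_eq_prime_sq h a b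

theorem eqo_comm_of_three {Q : Type*} [Group Q] (x a z : Q) (hxa : x * a = a * x)
    (hxz : x * z = z * x) (haz : a * z = z * a) :
    ∀ b ∈ Subgroup.zpowers x ⊔ (Subgroup.zpowers a ⊔ Subgroup.zpowers z),
      ∀ c ∈ Subgroup.zpowers x ⊔ (Subgroup.zpowers a ⊔ Subgroup.zpowers z), b * c = c * b := by
  have hle : ∀ T : Subgroup Q, x ∈ T → a ∈ T → z ∈ T →
      Subgroup.zpowers x ⊔ (Subgroup.zpowers a ⊔ Subgroup.zpowers z) ≤ T := by
    intro T h1 h2 h3
    exact sup_le (Subgroup.zpowers_le.mpr h1)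
      (sup_le (Subgroup.zpowers_le.mpr h2) (Subgroup.zpowers_le.mpr h3))
  have hx : Subgroup.zpowers x ⊔ (Subgroup.zpowers a ⊔ Subgroup.zpowers z) ≤
      Subgroup.centralizer {x} := by
    apply hle <;> rw [Subgroup.mem_centralizer_iff] <;> intro h hh <;>
      rw [Set.mem_singleton_iff] at hh <;> subst hh
    · rfl
    · exact hxa
    · exact hxz
  have ha : Subgroup.zpowers x ⊔ (Subgroup.zpowers a ⊔ Subgroup.zpowers z) ≤
      Subgroup.centralizer {a} := by
    apply hle <;> rw [Subgroup.mem_centralizer_iff] <;> intro h hh <;>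
      rw [Set.mem_singleton_iff] at hh <;> subst hh
    · exact hxa.symm
    · rfl
    · exact haz
  have hz : Subgroup.zpowers x ⊔ (Subgroup.zpowers a ⊔ Subgroup.zpowers z) ≤
      Subgroup.centralizer {z} := by
    apply hle <;> rw [Subgroup.mem_centralizer_iff] <;> intro h hh <;>
      rw [Set.mem_singleton_iff] at hh <;> subst hh
    · exact hxz.symm
    · exact haz.symm
    · rfl
  intro b hb c hc
  have h1 := Subgroup.mem_centralizer_iff.mp (hx hb) x rfl
  have h2 := Subgroup.mem_centralizer_iff.mp (ha hb) a rfl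
  have h3 := Subgroup.mem_centralizer_iff.mp (hz hb) z rfl
  have hb' : Subgroup.zpowers x ⊔ (Subgroup.zpowers a ⊔ Subgroup.zpowers z) ≤
      Subgroup.centralizer {b} := by
    apply hle <;> rw [Subgroup.mem_centralizer_iff] <;> intro h hh <;>
      rw [Set.mem_singleton_iff] at hh <;> subst hh
    · exact h1.symm
    · exact h2.symm
    · exact h3.symm
  exact Subgroup.mem_centralizer_iff.mp (hb' hc) b rfl

theorem eqo_exists_nonabelian_p3 {Q : Type*} [Group Q] [Finite Q] {p : ℕ} [hp : Fact p.Prime]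
    (hQ : IsPGroup p Q) (hexp : ∀ a : Q, a ^ p = 1) (hnc : ¬ ∀ a b : Q, a * b = b * a) :
    ∃ H : Subgroup Q, Nat.card H = p ^ 3 ∧ ¬ ∀ a ∈ H, ∀ b ∈ H, a * b = b * a := by
  obtain ⟨u, x, hz1, hzc⟩ := eqo_exists_central_comm hQ hnc
  set z := u * x * u⁻¹ * x⁻¹ with hzdef
  have hZc : ∀ y ∈ Subgroup.zpowers z, ∀ g : Q, g * y = y * g := by
    intro y hy g
    obtain ⟨k, rfl⟩ := Subgroup.mem_zpowers_iff.mp hy
    exact ((show Commute g z from hzc g).zpow_right k).eq
  have hord : ∀ y : Q, Nat.card (Subgroup.zpowers y) ∣ p := by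
    intro y
    rw [Nat.card_zpowers]
    exact orderOf_dvd_of_pow_eq_one (hexp y)
  have hMcard : Nat.card ↥(Subgroup.zpowers x ⊔ Subgroup.zpowers z) ∣ p * p :=
    (Cfsg.Agent.Lib.Helper10.card_sup_dvd_of_le_normalizer
      (eqo_normalizer_of_central (Subgroup.zpowers z) hZc (Subgroup.zpowers x))).trans
      (mul_dvd_mul (hord x) (hord z))
  have hxM : x ∈ Subgroup.zpowers x ⊔ Subgroup.zpowers z :=
    (le_sup_left : Subgroup.zpowers x ≤ _) (Subgroup.mem_zpowers x)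
  have hzM : z ∈ Subgroup.zpowers x ⊔ Subgroup.zpowers z :=
    (le_sup_right : Subgroup.zpowers z ≤ _) (Subgroup.mem_zpowers z)
  have hun : u ∈ Subgroup.normalizer ((Subgroup.zpowers x ⊔ Subgroup.zpowers z : Subgroup Q) : Set Q) := by
    apply eqo_mem_normalizer_of_map_le
    rw [Subgroup.map_le_iff_le_comap]
    apply sup_le <;> rw [Subgroup.zpowers_le, Subgroup.mem_comap]
    · show u * x * u⁻¹ ∈ _
      have : u * x * u⁻¹ = z * x := by rw [hzdef]; group
      rw [this]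
      exact Subgroup.mul_mem _ hzM hxM
    · show u * z * u⁻¹ ∈ _
      rw [hzc u, mul_assoc, mul_inv_cancel, mul_one]
      exact hzM
  have hHcard : Nat.card ↥(Subgroup.zpowers u ⊔ (Subgroup.zpowers x ⊔ Subgroup.zpowers z)) ∣ p ^ 3 := by
    have h1 := Cfsg.Agent.Lib.Helper10.card_sup_dvd_of_le_normalizer
      (Y := Subgroup.zpowers u) (D := Subgroup.zpowers x ⊔ Subgroup.zpowers z)
      (Subgroup.zpowers_le.mpr hun)
    refine h1.trans ?_
    have : p ^ 3 = p * (p * p) := by ring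
    rw [this]
    exact mul_dvd_mul (hord u) hMcard
  have hnab : ¬ ∀ a ∈ Subgroup.zpowers u ⊔ (Subgroup.zpowers x ⊔ Subgroup.zpowers z),
      ∀ b ∈ Subgroup.zpowers u ⊔ (Subgroup.zpowers x ⊔ Subgroup.zpowers z), a * b = b * a := by
    intro hc
    have hu : u ∈ Subgroup.zpowers u ⊔ (Subgroup.zpowers x ⊔ Subgroup.zpowers z) :=
      (le_sup_left : Subgroup.zpowers u ≤ _) (Subgroup.mem_zpowers u)
    have hx : x ∈ Subgroup.zpowers u ⊔ (Subgroup.zpowers x ⊔ Subgroup.zpowers z) :=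
      (le_sup_right : Subgroup.zpowers x ⊔ Subgroup.zpowers z ≤ _) hxM
    have := hc u hu x hx
    apply hz1
    rw [hzdef, this]; group
  refine ⟨_, ?_, hnab⟩
  obtain ⟨k, hk3, hk⟩ := (Nat.dvd_prime_pow hp.out).mp hHcard
  by_cases hk2 : k ≤ 2
  · exfalso
    apply hnab
    intro a ha b hb
    have := eqo_comm_of_card_le_p2 hk2 hk ⟨a, ha⟩ ⟨b, hb⟩
    exact congrArg Subtype.val this
  · have : k = 3 := by omega
    rw [hk, this]

theorem eqo_exists_abelian_p3 {Q : Type*} [Group Q] [Finite Q] {p : ℕ} [hp : Fact p.Prime]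
    (hQ : IsPGroup p Q) (hexp : ∀ a : Q, a ^ p = 1) (hcard : p ^ 4 ∣ Nat.card Q) :
    ∃ B : Subgroup Q, Nat.card B = p ^ 3 ∧ ∀ a ∈ B, ∀ b ∈ B, a * b = b * a := by
  classical
  have hp1 := hp.out.one_lt
  have hp4 : p ^ 4 ≤ Nat.card Q := Nat.le_of_dvd Nat.card_pos hcard
  have hnt : Nontrivial Q := by
    rw [← Finite.one_lt_card_iff_nontrivial]
    have : 1 < p ^ 4 := Nat.one_lt_pow (by norm_num) hp1
    omega
  have hcn := hQ.center_nontrivial
  obtain ⟨⟨z₀, hz₀c⟩, hz₀ne⟩ := exists_ne (1 : Subgroup.center Q)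
  have hz₀1 : z₀ ≠ 1 := fun h => hz₀ne (Subtype.ext h)
  have hordz : orderOf z₀ = p := orderOf_eq_prime (hexp z₀) hz₀1
  have hZcard : Nat.card (Subgroup.zpowers z₀) = p := by rw [Nat.card_zpowers, hordz]
  have hZc : ∀ y ∈ Subgroup.zpowers z₀, ∀ g : Q, g * y = y * g := by
    intro y hy g
    obtain ⟨k, rfl⟩ := Subgroup.mem_zpowers_iff.mp hy
    exact ((show Commute g z₀ from Subgroup.mem_center_iff.mp hz₀c g).zpow_right k).eq
  haveI hZn : (Subgroup.zpowers z₀).Normal :=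
    ⟨fun n hn g => by rw [hZc n hn g, mul_assoc, mul_inv_cancel, mul_one]; exact hn⟩
  have hord : ∀ y : Q, Nat.card (Subgroup.zpowers y) ∣ p := by
    intro y
    rw [Nat.card_zpowers]
    exact orderOf_dvd_of_pow_eq_one (hexp y)
  -- the quotient
  have hQ' : IsPGroup p (Q ⧸ Subgroup.zpowers z₀) := hQ.to_quotient _
  have hnt' : Nontrivial (Q ⧸ Subgroup.zpowers z₀) := by
    rw [← Finite.one_lt_card_iff_nontrivial]
    have h1 := Subgroup.card_mul_index (Subgroup.zpowers z₀)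
    rw [hZcard] at h1
    have h2 : Nat.card (Q ⧸ Subgroup.zpowers z₀) = (Subgroup.zpowers z₀).index := rfl
    rw [h2]
    by_contra hcon
    have hidx : (Subgroup.zpowers z₀).index ≤ 1 := by omega
    have : Nat.card Q ≤ p := by
      calc Nat.card Q = p * (Subgroup.zpowers z₀).index := h1.symm
        _ ≤ p * 1 := Nat.mul_le_mul_left p hidx
        _ = p := mul_one p
    have h6 : p ^ 4 ≤ p := le_trans hp4 this
    have h7 : p ^ 1 < p ^ 4 := Nat.pow_lt_pow_right hp1 (by norm_num)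
    rw [pow_one] at h7
    omega
  have hcn' := hQ'.center_nontrivial
  obtain ⟨⟨ab, hab⟩, habne⟩ := exists_ne (1 : Subgroup.center (Q ⧸ Subgroup.zpowers z₀))
  obtain ⟨a, rfl⟩ := QuotientGroup.mk_surjective ab
  have ha1 : (QuotientGroup.mk a : Q ⧸ Subgroup.zpowers z₀) ≠ 1 := fun h => habne (Subtype.ext h)
  have haZ : a ∉ Subgroup.zpowers z₀ := fun h => ha1 ((QuotientGroup.eq_one_iff a).mpr h)
  have hcomm : ∀ g : Q, a * g * a⁻¹ * g⁻¹ ∈ Subgroup.zpowers z₀ := by
    intro g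
    rw [← QuotientGroup.eq_one_iff]
    have hc := Subgroup.mem_center_iff.mp hab (QuotientGroup.mk g)
    simp only [QuotientGroup.mk_mul, QuotientGroup.mk_inv]
    rw [← hc]; group
  -- the commutator hom
  let f : Q →* ↥(Subgroup.zpowers z₀) := MonoidHom.mk' (fun g => ⟨a * g * a⁻¹ * g⁻¹, hcomm g⟩) (by
    intro g h
    apply Subtype.ext
    show a * (g * h) * a⁻¹ * (g * h)⁻¹ = (a * g * a⁻¹ * g⁻¹) * (a * h * a⁻¹ * h⁻¹)
    have hc : g⁻¹ * (a * h * a⁻¹ * h⁻¹) = (a * h * a⁻¹ * h⁻¹) * g⁻¹ := hZc _ (hcomm h) g⁻¹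
    have : a * (g * h) * a⁻¹ * (g * h)⁻¹ = a * g * a⁻¹ * ((a * h * a⁻¹ * h⁻¹) * g⁻¹) := by group
    rw [this, ← hc]; group)
  have hfker : ∀ g : Q, g ∈ f.ker → a * g = g * a := by
    intro g hg
    rw [MonoidHom.mem_ker] at hg
    have h1 : a * g * a⁻¹ * g⁻¹ = 1 := congrArg Subtype.val hg
    have : a * g = (a * g * a⁻¹ * g⁻¹) * g * a := by group
    rw [this, h1, one_mul]
  have hker : p ^ 3 ≤ Nat.card f.ker := by
    have h1 := Subgroup.card_mul_index f.ker
    rw [Subgroup.index_ker] at h1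
    have h2 : Nat.card f.range ∣ p := hZcard ▸ Subgroup.card_subgroup_dvd_card f.range
    have h3 : Nat.card f.range ≤ p := Nat.le_of_dvd hp.out.pos h2
    have h4 : 0 < Nat.card f.range := Nat.card_pos
    have h5 : p ^ 3 * Nat.card f.range ≤ Nat.card f.ker * Nat.card f.range := by
      calc p ^ 3 * Nat.card f.range ≤ p ^ 3 * p := Nat.mul_le_mul_left _ h3
        _ = p ^ 4 := by ring
        _ ≤ Nat.card Q := hp4
        _ = Nat.card f.ker * Nat.card f.range := h1.symm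
    exact Nat.le_of_mul_le_mul_right h5 h4
  -- A
  have hAcard : Nat.card ↥(Subgroup.zpowers a ⊔ Subgroup.zpowers z₀) ∣ p ^ 2 := by
    rw [pow_two]
    exact (Cfsg.Agent.Lib.Helper10.card_sup_dvd_of_le_normalizer
      (eqo_normalizer_of_central (Subgroup.zpowers z₀) hZc (Subgroup.zpowers a))).trans
      (mul_dvd_mul (hord a) (hord z₀))
  have haA : a ∈ Subgroup.zpowers a ⊔ Subgroup.zpowers z₀ :=
    (le_sup_left : Subgroup.zpowers a ≤ _) (Subgroup.mem_zpowers a)
  have hzA : z₀ ∈ Subgroup.zpowers a ⊔ Subgroup.zpowers z₀ :=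
    (le_sup_right : Subgroup.zpowers z₀ ≤ _) (Subgroup.mem_zpowers z₀)
  have hAle : Nat.card ↥(Subgroup.zpowers a ⊔ Subgroup.zpowers z₀) ≤ p ^ 2 :=
    Nat.le_of_dvd (pow_pos hp.out.pos 2) hAcard
  obtain ⟨x, hxk, hxA⟩ : ∃ x ∈ f.ker, x ∉ Subgroup.zpowers a ⊔ Subgroup.zpowers z₀ := by
    by_contra hcon
    push Not at hcon
    have hle : f.ker ≤ Subgroup.zpowers a ⊔ Subgroup.zpowers z₀ := hcon
    have := Subgroup.card_le_of_le hle
    have : p ^ 2 < p ^ 3 := Nat.pow_lt_pow_right hp1 (by norm_num)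
    omega
  have hax : a * x = x * a := hfker x hxk
  have hxz : x * z₀ = z₀ * x := Subgroup.mem_center_iff.mp hz₀c x
  have haz : a * z₀ = z₀ * a := Subgroup.mem_center_iff.mp hz₀c a
  have hxn : x ∈ Subgroup.normalizer ((Subgroup.zpowers a ⊔ Subgroup.zpowers z₀ : Subgroup Q) : Set Q) := by
    apply eqo_mem_normalizer_of_map_le
    rw [Subgroup.map_le_iff_le_comap]
    apply sup_le <;> rw [Subgroup.zpowers_le, Subgroup.mem_comap]
    · show x * a * x⁻¹ ∈ _
      rw [← hax, mul_assoc, mul_inv_cancel, mul_one]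
      exact haA
    · show x * z₀ * x⁻¹ ∈ _
      rw [hxz, mul_assoc, mul_inv_cancel, mul_one]
      exact hzA
  have hBcard : Nat.card ↥(Subgroup.zpowers x ⊔ (Subgroup.zpowers a ⊔ Subgroup.zpowers z₀)) ∣ p ^ 3 := by
    have h1 := Cfsg.Agent.Lib.Helper10.card_sup_dvd_of_le_normalizer
      (Y := Subgroup.zpowers x) (D := Subgroup.zpowers a ⊔ Subgroup.zpowers z₀)
      (Subgroup.zpowers_le.mpr hxn)
    refine h1.trans ?_
    have : p ^ 3 = p * p ^ 2 := by ring
    rw [this]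
    exact mul_dvd_mul (hord x) hAcard
  refine ⟨Subgroup.zpowers x ⊔ (Subgroup.zpowers a ⊔ Subgroup.zpowers z₀), ?_,
    eqo_comm_of_three x a z₀ hax.symm hxz haz⟩
  -- card A = p^2
  have hZA : Subgroup.zpowers z₀ ≤ Subgroup.zpowers a ⊔ Subgroup.zpowers z₀ := le_sup_right
  have hAB : Subgroup.zpowers a ⊔ Subgroup.zpowers z₀ ≤
      Subgroup.zpowers x ⊔ (Subgroup.zpowers a ⊔ Subgroup.zpowers z₀) := le_sup_right
  have hxB : x ∈ Subgroup.zpowers x ⊔ (Subgroup.zpowers a ⊔ Subgroup.zpowers z₀) :=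
    (le_sup_left : Subgroup.zpowers x ≤ _) (Subgroup.mem_zpowers x)
  have hA2 : Nat.card ↥(Subgroup.zpowers a ⊔ Subgroup.zpowers z₀) = p ^ 2 := by
    obtain ⟨k, hk2, hk⟩ := (Nat.dvd_prime_pow hp.out).mp hAcard
    have h1 := Subgroup.card_le_of_le hZA
    rw [hZcard, hk] at h1
    have hk0 : k ≠ 0 := by
      rintro rfl
      simp at h1; omega
    have hk1 : k ≠ 1 := by
      rintro rfl
      rw [pow_one] at hk
      have := Subgroup.eq_of_le_of_card_ge hZA (by rw [hk, hZcard])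
      exact haZ (this ▸ haA)
    have : k = 2 := by omega
    rw [hk, this]
  obtain ⟨k, hk3, hk⟩ := (Nat.dvd_prime_pow hp.out).mp hBcard
  have h1 := Subgroup.card_le_of_le hAB
  rw [hA2, hk] at h1
  have hk2 : ¬ k ≤ 2 := by
    intro hk2
    have h2 : p ^ k ≤ p ^ 2 := Nat.pow_le_pow_right hp.out.pos hk2
    have h3 : p ^ k = p ^ 2 := le_antisymm h2 h1
    have := Subgroup.eq_of_le_of_card_ge hAB (by rw [hk, h3, hA2])
    exact hxA (this ▸ hxB)
  have : k = 3 := by omega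
  rw [hk, this]

theorem eqo_B1 {G : Type*} [Group G] [Finite G] (hD : EqoHyp G) {p : ℕ} [hp : Fact p.Prime]
    (P : Subgroup G) (hP : IsPGroup p P) (hexp : ∀ a ∈ P, a ^ p = 1)
    (hcard : p ^ 4 ∣ Nat.card P) (hnc : ¬ ∀ a ∈ P, ∀ b ∈ P, a * b = b * a) : False := by
  have hexp' : ∀ a : P, a ^ p = 1 := by
    intro a
    apply Subtype.ext
    simpa using hexp a a.2
  have hnc' : ¬ ∀ a b : P, a * b = b * a := by
    intro h
    apply hnc
    intro a ha b hb
    exact congrArg Subtype.val (h ⟨a, ha⟩ ⟨b, hb⟩)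
  obtain ⟨B, hBc, hBab⟩ := eqo_exists_abelian_p3 hP hexp' hcard
  obtain ⟨H, hHc, hHnab⟩ := eqo_exists_nonabelian_p3 hP hexp' hnc'
  have hinj : Function.Injective P.subtype := Subgroup.subtype_injective _
  have hc1 : Nat.card (B.map P.subtype) = p ^ 3 := by
    rw [Subgroup.card_map_of_injective hinj, hBc]
  have hc2 : Nat.card (H.map P.subtype) = p ^ 3 := by
    rw [Subgroup.card_map_of_injective hinj, hHc]
  obtain ⟨g, hg⟩ := hD p hp.out (B.map P.subtype) (H.map P.subtype) (IsPGroup.of_card hc1)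
    (IsPGroup.of_card hc2) (by rw [hc1, hc2])
  have hab' : ∀ a ∈ B.map P.subtype, ∀ b ∈ B.map P.subtype, a * b = b * a := by
    rintro _ ⟨a, ha, rfl⟩ _ ⟨b, hb, rfl⟩
    rw [← map_mul, ← map_mul, hBab a ha b hb]
  have h2 := eqo_comm_of_conj hg hab'
  apply hHnab
  intro a ha b hb
  apply hinj
  rw [map_mul, map_mul]
  exact h2 _ ⟨a, ha, rfl⟩ _ ⟨b, hb, rfl⟩

end EqOrd5

end Cfsg.Agent.Lib.Helper9
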