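import Mathlib
import Cfsg.Agent.Lib.Helper9.EqOrd5

set_option autoImplicit false

namespace Cfsg.Agent.Lib.Helper9

section EqOrd6

theorem eqo_zpowers_eq_of_mem {G : Type*} [Group G] {p : ℕ} [hp : Fact p.Prime] {y z : G}
    (hz : orderOf z = p) (hy : y ∈ Subgroup.zpowers z) (hy1 : y ≠ 1) :
    Subgroup.zpowers y = Subgroup.zpowers z := by
  have hfin : Finite (Subgroup.zpowers z) := by
    apply Nat.finite_of_card_ne_zero
    rw [Nat.card_zpowers, hz]; exact hp.out.ne_zero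
  have hle : Subgroup.zpowers y ≤ Subgroup.zpowers z := Subgroup.zpowers_le.mpr hy
  apply Subgroup.eq_of_le_of_card_ge hle
  rw [Nat.card_zpowers, Nat.card_zpowers, hz]
  have hyp : y ^ p = 1 := by
    obtain ⟨k, rfl⟩ := Subgroup.mem_zpowers_iff.mp hy
    rw [← zpow_natCast, ← zpow_mul, mul_comm, zpow_mul, zpow_natCast, ← hz, pow_orderOf_eq_one,
      one_zpow]
  rw [orderOf_eq_prime hyp hy1]

theorem eqo_p3_sub {G : Type*} [Group G] [Finite G] {p : ℕ} [hp : Fact p.Prime] (P : Subgroup G)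
    (hexp : ∀ a ∈ P, a ^ p = 1) (hcard : Nat.card P = p ^ 3)
    (hnc : ¬ ∀ a ∈ P, ∀ b ∈ P, a * b = b * a) :
    ∃ u ∈ P, ∃ x ∈ P, u * x ≠ x * u ∧
      (∀ b ∈ P, b * (u * x * u⁻¹ * x⁻¹) = (u * x * u⁻¹ * x⁻¹) * b) ∧
      (∀ c ∈ P, (∀ b ∈ P, b * c = c * b) → c ∈ Subgroup.zpowers (u * x * u⁻¹ * x⁻¹)) ∧
      (∀ a ∈ P, ∀ b ∈ P, a * b * a⁻¹ * b⁻¹ ∈ Subgroup.zpowers (u * x * u⁻¹ * x⁻¹)) := by
  have hnc' : ¬ ∀ a b : P, a * b = b * a := by
    intro h
    apply hnc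
    intro a ha b hb
    exact congrArg Subtype.val (h ⟨a, ha⟩ ⟨b, hb⟩)
  obtain ⟨hc, hcomm⟩ := eqo_p3_struct hcard hnc'
  push Not at hnc
  obtain ⟨u, hu, x, hx, hux⟩ := hnc
  refine ⟨u, hu, x, hx, hux, ?_⟩
  set z := u * x * u⁻¹ * x⁻¹ with hzdef
  have hzP : z ∈ P := P.mul_mem (P.mul_mem (P.mul_mem hu hx) (P.inv_mem hu)) (P.inv_mem hx)
  have hzcen : (⟨z, hzP⟩ : P) ∈ Subgroup.center P := hcomm ⟨u, hu⟩ ⟨x, hx⟩
  have hz1 : z ≠ 1 := by
    intro h
    apply hux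
    have : u * x = z * x * u := by rw [hzdef]; group
    rw [this, h, one_mul]
  have hzord : orderOf z = p := orderOf_eq_prime (hexp z hzP) hz1
  have hzord' : orderOf (⟨z, hzP⟩ : P) = p := by
    rw [← Subgroup.orderOf_coe]; exact hzord
  have hcen_eq : Subgroup.zpowers (⟨z, hzP⟩ : P) = Subgroup.center P := by
    apply Subgroup.eq_of_le_of_card_ge (Subgroup.zpowers_le.mpr hzcen)
    rw [Nat.card_zpowers, hzord', hc]
  have hcen : ∀ c ∈ P, (∀ b ∈ P, b * c = c * b) → c ∈ Subgroup.zpowers z := by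
    intro c hcP hcc
    have h1 : (⟨c, hcP⟩ : P) ∈ Subgroup.center P := by
      rw [Subgroup.mem_center_iff]
      intro g
      apply Subtype.ext
      exact hcc g g.2
    rw [← hcen_eq] at h1
    obtain ⟨k, hk⟩ := Subgroup.mem_zpowers_iff.mp h1
    rw [Subgroup.mem_zpowers_iff]
    refine ⟨k, ?_⟩
    have := congrArg Subtype.val hk
    simpa using this
  refine ⟨?_, hcen, ?_⟩
  · intro b hb
    have := Subgroup.mem_center_iff.mp hzcen ⟨b, hb⟩
    exact congrArg Subtype.val this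
  · intro a ha b hb
    apply hcen _ (P.mul_mem (P.mul_mem (P.mul_mem ha hb) (P.inv_mem ha)) (P.inv_mem hb))
    intro g hg
    have h1 := hcomm ⟨a, ha⟩ ⟨b, hb⟩
    have := Subgroup.mem_center_iff.mp h1 ⟨g, hg⟩
    exact congrArg Subtype.val this

theorem eqo_B2_config {G : Type*} [Group G] [Finite G] (hD : EqoHyp G) {p : ℕ}
    [hp : Fact p.Prime] (P : Sylow p G) (hexp : ∀ a ∈ (P : Subgroup G), a ^ p = 1)
    (hcard : Nat.card (P : Subgroup G) = p ^ 3)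
    (hnc : ¬ ∀ a ∈ (P : Subgroup G), ∀ b ∈ (P : Subgroup G), a * b = b * a) :
    ∃ u v z : G, u ^ p = 1 ∧ v ^ p = 1 ∧ z ≠ 1 ∧ z ^ p = 1 ∧
      ((u * v * u) * (u * v * u)) * z * ((u * v * u) * (u * v * u))⁻¹ = z⁻¹ := by
  obtain ⟨u, hu, x, hx, hux, hzc, hcen, hcomm⟩ := eqo_p3_sub (P : Subgroup G) hexp hcard hnc
  set z := u * x * u⁻¹ * x⁻¹ with hzdef
  have hzP : z ∈ (P : Subgroup G) :=
    Subgroup.mul_mem _ (Subgroup.mul_mem _ (Subgroup.mul_mem _ hu hx) (Subgroup.inv_mem _ hu))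
      (Subgroup.inv_mem _ hx)
  have hz1 : z ≠ 1 := by
    intro h
    apply hux
    have : u * x = z * x * u := by rw [hzdef]; group
    rw [this, h, one_mul]
  have hx1 : x ≠ 1 := by
    rintro rfl
    apply hux; simp
  have hzp : z ^ p = 1 := hexp z hzP
  have hxp : x ^ p = 1 := hexp x hx
  have hzord : orderOf z = p := orderOf_eq_prime hzp hz1
  have hxord : orderOf x = p := orderOf_eq_prime hxp hx1
  have hzx : z * x = x * z := (hzc x hx).symm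
  -- elements of zpowers z are central in P
  have hZc : ∀ y ∈ Subgroup.zpowers z, ∀ b ∈ (P : Subgroup G), b * y = y * b := by
    intro y hy b hb
    obtain ⟨k, rfl⟩ := Subgroup.mem_zpowers_iff.mp hy
    exact ((show Commute b z from hzc b hb).zpow_right k).eq
  have hZP : Subgroup.zpowers z ≤ (P : Subgroup G) := Subgroup.zpowers_le.mpr hzP
  -- conjugate x into the centre
  have hc1 : Nat.card (Subgroup.zpowers x) = p := by rw [Nat.card_zpowers, hxord]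
  have hc2 : Nat.card (Subgroup.zpowers z) = p := by rw [Nat.card_zpowers, hzord]
  have hp1 : p = p ^ 1 := (pow_one p).symm
  obtain ⟨g, hg⟩ := hD p hp.out (Subgroup.zpowers x) (Subgroup.zpowers z)
    (IsPGroup.of_card (hc1.trans hp1)) (IsPGroup.of_card (hc2.trans hp1)) (by rw [hc1, hc2])
  have hx₀Z : g * x * g⁻¹ ∈ Subgroup.zpowers z := by
    rw [hg]
    exact ⟨x, Subgroup.mem_zpowers x, rfl⟩
  set x₀ := g * x * g⁻¹ with hx₀def
  set z₀ := g * z * g⁻¹ with hz₀def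
  have hx₀1 : x₀ ≠ 1 := by
    intro h
    apply hx1
    have : x = g⁻¹ * x₀ * g := by rw [hx₀def]; group
    rw [this, h]; group
  have hx₀ord : orderOf x₀ = p := by rw [hx₀def, orderOf_conj_eq, hxord]
  have hz₀ord : orderOf z₀ = p := by rw [hz₀def, orderOf_conj_eq, hzord]
  have hZeq : Subgroup.zpowers x₀ = Subgroup.zpowers z := eqo_zpowers_eq_of_mem hzord hx₀Z hx₀1
  have hx₀c : ∀ b ∈ (P : Subgroup G), b * x₀ = x₀ * b := hZc x₀ hx₀Z
  have hz₀x₀ : z₀ * x₀ = x₀ * z₀ := by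
    have h1 : z₀ * x₀ = g * (z * x) * g⁻¹ := by rw [hz₀def, hx₀def]; group
    have h2 : x₀ * z₀ = g * (x * z) * g⁻¹ := by rw [hz₀def, hx₀def]; group
    rw [h1, h2, hzx]
  -- Sylow in the centralizer
  have hPC : (P : Subgroup G) ≤ Subgroup.centralizer {x₀} := by
    intro b hb
    rw [Subgroup.mem_centralizer_iff]
    intro h hh
    rw [Set.mem_singleton_iff] at hh
    subst hh
    exact (hx₀c b hb).symm
  have hz₀C : Subgroup.zpowers z₀ ≤ Subgroup.centralizer {x₀} := by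
    rw [Subgroup.zpowers_le, Subgroup.mem_centralizer_iff]
    intro h hh
    rw [Set.mem_singleton_iff] at hh
    subst hh
    exact hz₀x₀.symm
  have hpg : IsPGroup p (Subgroup.zpowers z₀) := by
    apply IsPGroup.of_card (n := 1)
    rw [Nat.card_zpowers, hz₀ord, pow_one]
  obtain ⟨m, hmC, hm⟩ := exists_conj_le_sylow_of_le (Subgroup.centralizer {x₀}) P hPC
    (Subgroup.zpowers z₀) hpg hz₀C
  have hz₁P : m * z₀ * m⁻¹ ∈ (P : Subgroup G) := hm z₀ (Subgroup.mem_zpowers z₀)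
  have hmx₀ : m * x₀ * m⁻¹ = x₀ := by
    have := Subgroup.mem_centralizer_iff.mp hmC x₀ rfl
    rw [← this, mul_assoc, mul_inv_cancel, mul_one]
  set z₁ := m * z₀ * m⁻¹ with hz₁def
  set h := m * g with hhdef
  have hhz : h * z * h⁻¹ = z₁ := by rw [hhdef, hz₁def, hz₀def]; group
  have hhx : h * x * h⁻¹ = x₀ := by
    have : h * x * h⁻¹ = m * x₀ * m⁻¹ := by rw [hhdef, hx₀def]; group
    rw [this, hmx₀]
  have hhx' : h⁻¹ * x₀ * h = x := by rw [← hhx]; group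
  have hhz' : h⁻¹ * z₁ * h = z := by rw [← hhz]; group
  -- z₁ is not central in P
  have hz₁nc : ¬ ∀ b ∈ (P : Subgroup G), b * z₁ = z₁ * b := by
    intro hcon
    have h1 : z₁ ∈ Subgroup.zpowers x₀ := by
      rw [hZeq]; exact hcen z₁ hz₁P hcon
    obtain ⟨k, hk⟩ := Subgroup.mem_zpowers_iff.mp h1
    have h2 : z = x ^ k := by
      rw [← hhz', ← hk, ← hhx]
      have : ∀ k : ℤ, h⁻¹ * (h * x * h⁻¹) ^ k * h = x ^ k := by
        intro k
        have := map_zpow (MulAut.conj h) x k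
        simp only [MulAut.conj_apply] at this
        rw [← this]; group
      exact this k
    have h3 : z ∈ Subgroup.zpowers x := by
      rw [h2]; exact Subgroup.zpow_mem_zpowers x k
    have h4 := eqo_zpowers_eq_of_mem hxord h3 hz1
    have h5 : x ∈ Subgroup.zpowers z := by rw [h4]; exact Subgroup.mem_zpowers x
    exact hux (hZc x h5 u hu)
  push Not at hz₁nc
  obtain ⟨v₀, hv₀P, hv₀⟩ := hz₁nc
  set c₀ := v₀ * z₁ * v₀⁻¹ * z₁⁻¹ with hc₀def
  have hc₀Z : c₀ ∈ Subgroup.zpowers x₀ := by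
    rw [hZeq]; exact hcomm v₀ hv₀P z₁ hz₁P
  have hc₀1 : c₀ ≠ 1 := by
    intro h'
    apply hv₀
    have : v₀ * z₁ = c₀ * z₁ * v₀ := by rw [hc₀def]; group
    rw [this, h', one_mul]
  have hc₀c : ∀ b ∈ (P : Subgroup G), b * c₀ = c₀ * b := hZc c₀ (hZeq ▸ hc₀Z)
  have hZeq2 : Subgroup.zpowers c₀ = Subgroup.zpowers x₀ :=
    eqo_zpowers_eq_of_mem hx₀ord hc₀Z hc₀1
  have hx₀inv : x₀⁻¹ ∈ Subgroup.zpowers c₀ := by
    rw [hZeq2]; exact Subgroup.inv_mem _ (Subgroup.mem_zpowers x₀)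
  rw [← mem_powers_iff_mem_zpowers, Submonoid.mem_powers_iff] at hx₀inv
  obtain ⟨b, hb⟩ := hx₀inv
  have hv₁ : v₀ ^ b * z₁ * (v₀ ^ b)⁻¹ = x₀⁻¹ * z₁ := by
    rw [← hb]
    apply eqo_conj_pow_of_central
    · rw [hc₀def]; group
    · exact hc₀c v₀ hv₀P
  have hv₁P : v₀ ^ b ∈ (P : Subgroup G) := Subgroup.pow_mem _ hv₀P b
  set v₁ := v₀ ^ b with hv₁def
  have hv₁p : v₁ ^ p = 1 := hexp v₁ hv₁P
  refine ⟨u, h⁻¹ * v₁ * h, z, hexp u hu, ?_, hz1, hzp, ?_⟩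
  · have := map_pow (MulAut.conj h⁻¹) v₁ p
    simp only [MulAut.conj_apply, inv_inv] at this
    rw [← this, hv₁p]; group
  · apply eqo_lemW_sq (x := x) hzx
    · rw [hzc u hu, mul_assoc, mul_inv_cancel, mul_one]
    · rw [hzdef]; group
    · have h1 : h⁻¹ * v₁ * h * x * (h⁻¹ * v₁ * h)⁻¹ = h⁻¹ * (v₁ * (h * x * h⁻¹) * v₁⁻¹) * h := by
        group
      rw [h1, hhx, hx₀c v₁ hv₁P, mul_assoc x₀, mul_inv_cancel, mul_one, hhx']
    · have h1 : h⁻¹ * v₁ * h * z * (h⁻¹ * v₁ * h)⁻¹ = h⁻¹ * (v₁ * (h * z * h⁻¹) * v₁⁻¹) * h := by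
        group
      rw [h1, hhz, hv₁]
      have h2 : h⁻¹ * (x₀⁻¹ * z₁) * h = (h⁻¹ * x₀ * h)⁻¹ * (h⁻¹ * z₁ * h) := by group
      rw [h2, hhx', hhz']

end EqOrd6

end Cfsg.Agent.Lib.Helper9
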