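import Mathlib
import Cfsg.Agent.Lib.Helper9.EqOrd6
import Cfsg.Agent.S0225

set_option autoImplicit false

namespace Cfsg.Agent.Lib.Helper9

section EqOrd7

theorem eqo_eq_one_of_pow {H : Type*} [Group H] {p : ℕ} (hp : p.Prime) (hp2 : p ≠ 2) (y : H)
    (h1 : y ^ p = 1) (k : ℕ) (h2 : y ^ (2 ^ k) = 1) : y = 1 := by
  have hc : Nat.Coprime p (2 ^ k) :=
    ((Nat.coprime_primes hp Nat.prime_two).mpr hp2).pow_right k
  have h3 : orderOf y ∣ Nat.gcd p (2 ^ k) :=
    Nat.dvd_gcd (orderOf_dvd_of_pow_eq_one h1) (orderOf_dvd_of_pow_eq_one h2)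
  rw [hc.gcd_eq_one, Nat.dvd_one, orderOf_eq_one_iff] at h3
  exact h3

theorem eqo_two_dvd_orderOf {G : Type*} [Group G] {y : G} {a : ℕ} (h : y ^ (2 ^ a) = 1)
    (h1 : y ≠ 1) : 2 ∣ orderOf y := by
  obtain ⟨b, -, hb⟩ := (Nat.dvd_prime_pow Nat.prime_two).mp (orderOf_dvd_of_pow_eq_one h)
  rcases Nat.eq_zero_or_pos b with rfl | hpos
  · rw [pow_zero, orderOf_eq_one_iff] at hb
    exact absurd hb h1
  · rw [hb]; exact dvd_pow_self 2 (by omega)

theorem eqo_B2_end {G : Type*} [Group G] [Finite G] (hD : EqoHyp G) {p : ℕ} [hp : Fact p.Prime]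
    (hp2 : p ≠ 2) (u v z : G) (hu : u ^ p = 1) (hv : v ^ p = 1) (hz1 : z ≠ 1) (hzp : z ^ p = 1)
    (hw : ((u * v * u) * (u * v * u)) * z * ((u * v * u) * (u * v * u))⁻¹ = z⁻¹) : False := by
  haveI : Fact (Nat.Prime 2) := ⟨Nat.prime_two⟩
  set w := u * v * u with hwdef
  have hzinv : z⁻¹ ≠ z := by
    intro h
    apply hz1
    apply eqo_eq_one_of_pow hp.out hp2 z hzp 1
    rw [pow_one, pow_two]
    calc z * z = z⁻¹ * z := by rw [h]
      _ = 1 := inv_mul_cancel z
  have hn0 : orderOf w ≠ 0 := (orderOf_pos w).ne'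
  obtain ⟨a, m, hm, hn⟩ := Nat.exists_eq_two_pow_mul_odd hn0
  set w₁ := w ^ m with hw₁def
  have hw₁pow : w₁ ^ (2 ^ a) = 1 := by
    rw [hw₁def, ← pow_mul, mul_comm, ← hn, pow_orderOf_eq_one]
  have hs : (w₁ * w₁) * z * (w₁ * w₁)⁻¹ = z⁻¹ := by
    have : w₁ * w₁ = (w * w) ^ m := by
      rw [hw₁def, ← pow_two, ← pow_two, ← pow_mul, ← pow_mul, mul_comm]
    rw [this]
    exact eqo_inv_odd_pow hw hm
  have hs1 : w₁ * w₁ ≠ 1 := by
    intro h
    rw [h] at hs
    apply hzinv
    rw [← hs]; group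
  have hw₁1 : w₁ ≠ 1 := by
    intro h
    apply hs1
    rw [h, one_mul]
  have h2ord : 2 ∣ orderOf w₁ := eqo_two_dvd_orderOf hw₁pow hw₁1
  -- key: w₁ lies in no subgroup of odd order containing all elements of order dividing p
  have key : ∀ K : Subgroup G, (∀ y : G, y ^ p = 1 → y ∈ K) → ¬ 2 ∣ Nat.card K → False := by
    intro K hK hodd
    have hwK : w ∈ K := K.mul_mem (K.mul_mem (hK u hu) (hK v hv)) (hK u hu)
    have hw₁K : w₁ ∈ K := K.pow_mem hwK m
    exact hodd (h2ord.trans (Subgroup.orderOf_dvd_natCard K hw₁K))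
  have hpg : IsPGroup 2 (Subgroup.zpowers w₁) := by
    obtain ⟨b, -, hb⟩ := (Nat.dvd_prime_pow Nat.prime_two).mp (orderOf_dvd_of_pow_eq_one hw₁pow)
    apply IsPGroup.of_card (n := b)
    rw [Nat.card_zpowers, hb]
  obtain ⟨T, hT⟩ := hpg.exists_le_sylow
  have hw₁T : w₁ ∈ (T : Subgroup G) := hT (Subgroup.mem_zpowers w₁)
  have h2G : 2 ∣ Nat.card G := h2ord.trans (orderOf_dvd_natCard w₁)
  rcases eqo_two hD T with hcyc | ⟨-, hel⟩ | ⟨⟨e⟩⟩
  · -- cyclic: normal 2-complement
    have hmin : (Nat.card G).minFac = 2 := (Nat.minFac_eq_two_iff _).mpr h2G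
    have hle := IsCyclic.normalizer_le_centralizer hmin hcyc
    apply key (MonoidHom.transferSylow T hle).ker
    · intro y hy
      rw [MonoidHom.mem_ker]
      obtain ⟨k, hk⟩ := T.isPGroup' (MonoidHom.transferSylow T hle y)
      apply eqo_eq_one_of_pow hp.out hp2 _ _ k hk
      rw [← map_pow, hy, map_one]
    · exact MonoidHom.not_dvd_card_ker_transferSylow T hle
  · -- elementary abelian
    apply hs1
    rw [← pow_two]
    exact hel w₁ hw₁T
  · -- quaternion of order 8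
    have hw₁4 : w₁ ^ 4 = 1 := by
      have h1 : (e ⟨w₁, hw₁T⟩) ^ 4 = 1 := by
        have := Monoid.pow_exponent_eq_one (e ⟨w₁, hw₁T⟩)
        rw [QuaternionGroup.exponent] at this
        simpa using this
      rw [← map_pow] at h1
      have h2 : (⟨w₁, hw₁T⟩ : (T : Subgroup G)) ^ 4 = 1 := by
        apply e.injective
        rw [h1, map_one]
      have := congrArg Subtype.val h2
      simpa using this
    have hs2 : (w₁ * w₁) ^ 2 = 1 := by
      rw [← pow_two, ← pow_mul]; exact hw₁4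
    have hsord : orderOf (w₁ * w₁) = 2 := orderOf_eq_prime hs2 hs1
    have hw₁ord : orderOf w₁ = 2 ^ (1 + 1) := by
      apply orderOf_eq_prime_pow
      · rw [pow_one, pow_two]; exact hs1
      · exact hw₁4
    have heven : Even (Nat.card G) := even_iff_two_dvd.mpr h2G
    have hrank : ∀ E : Subgroup G, ¬ IsKleinFour E := by
      intro E hE
      have hE4 : Nat.card E = 4 := hE.card_four
      have hw4 : Nat.card (Subgroup.zpowers w₁) = 4 := by rw [Nat.card_zpowers, hw₁ord]; norm_num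
      obtain ⟨g, hg⟩ := hD 2 Nat.prime_two (Subgroup.zpowers w₁) E
        (IsPGroup.of_card (n := 2) hw4) (IsPGroup.of_card (n := 2) hE4) (by rw [hw4, hE4])
      exact IsKleinFour.not_isCyclic (eqo_cyclic_of_conj hg inferInstance)
    obtain ⟨z₀, hz₀, N, hN, hNodd, hNc⟩ := Cfsg.Agent.S0225.result heven hrank
    haveI := hN
    -- the preimage of the centre of G/N
    set Z := (Subgroup.center (G ⧸ N)).comap (QuotientGroup.mk' N) with hZdef
    have hz₀Z : z₀ ∈ Z := by
      rw [hZdef, Subgroup.mem_comap, Subgroup.mem_center_iff]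
      intro gb
      obtain ⟨g, rfl⟩ := QuotientGroup.mk_surjective gb
      have h := (QuotientGroup.eq_one_iff _).mpr (hNc g)
      simp only [QuotientGroup.mk_mul, QuotientGroup.mk_inv] at h
      have h1 := mul_inv_eq_one.mp h
      have h2 := mul_inv_eq_iff_eq_mul.mp h1
      exact h2.symm
    have hZn : Z.Normal := Subgroup.Normal.comap inferInstance _
    have hs2c : Nat.card (Subgroup.zpowers (w₁ * w₁)) = 2 := by rw [Nat.card_zpowers, hsord]
    have hz₀c : Nat.card (Subgroup.zpowers z₀) = 2 := by rw [Nat.card_zpowers, hz₀]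
    obtain ⟨g, hg⟩ := hD 2 Nat.prime_two (Subgroup.zpowers (w₁ * w₁)) (Subgroup.zpowers z₀)
      (IsPGroup.of_card (n := 1) hs2c) (IsPGroup.of_card (n := 1) hz₀c) (by rw [hs2c, hz₀c])
    have hgs : g * (w₁ * w₁) * g⁻¹ ∈ Z := by
      have h1 : g * (w₁ * w₁) * g⁻¹ ∈ Subgroup.zpowers z₀ := by
        rw [hg]; exact ⟨w₁ * w₁, Subgroup.mem_zpowers _, rfl⟩
      exact (Subgroup.zpowers_le.mpr hz₀Z) h1
    have hsZ : w₁ * w₁ ∈ Z := by
      have := hZn.conj_mem _ hgs g⁻¹
      have e : g⁻¹ * (g * (w₁ * w₁) * g⁻¹) * g⁻¹⁻¹ = w₁ * w₁ := by group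
      rwa [e] at this
    have hzN : z ∈ N := by
      rw [← QuotientGroup.eq_one_iff]
      have hzp' : (QuotientGroup.mk z : G ⧸ N) ^ p = 1 := by
        rw [← QuotientGroup.mk_pow, hzp]; rfl
      apply eqo_eq_one_of_pow hp.out hp2 _ hzp' 1
      · rw [hZdef, Subgroup.mem_comap, Subgroup.mem_center_iff] at hsZ
        have h1 := hsZ (QuotientGroup.mk z)
        have h2 := congrArg (QuotientGroup.mk (s := N)) hs
        simp only [QuotientGroup.mk_mul, QuotientGroup.mk_inv, QuotientGroup.mk'_apply] at h1 h2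
        rw [← h1, mul_assoc, mul_inv_cancel, mul_one] at h2
        rw [pow_one, pow_two]
        calc (QuotientGroup.mk z : G ⧸ N) * QuotientGroup.mk z
            = (QuotientGroup.mk z)⁻¹ * QuotientGroup.mk z := by rw [← h2]
          _ = 1 := inv_mul_cancel _
    apply key N
    · intro y hy
      by_cases hy1 : y = 1
      · rw [hy1]; exact N.one_mem
      have hyord : orderOf y = p := orderOf_eq_prime hy hy1
      have hzord : orderOf z = p := orderOf_eq_prime hzp hz1
      have hc1 : Nat.card (Subgroup.zpowers z) = p ^ 1 := by rw [Nat.card_zpowers, hzord, pow_one]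
      have hc2 : Nat.card (Subgroup.zpowers y) = p ^ 1 := by rw [Nat.card_zpowers, hyord, pow_one]
      obtain ⟨g', hg'⟩ := hD p hp.out (Subgroup.zpowers z) (Subgroup.zpowers y)
        (IsPGroup.of_card hc1) (IsPGroup.of_card hc2) (by rw [hc1, hc2])
      have hyy : y ∈ Subgroup.zpowers y := Subgroup.mem_zpowers y
      rw [hg'] at hyy
      obtain ⟨c, hc, rfl⟩ := hyy
      have hcN : c ∈ N := (Subgroup.zpowers_le.mpr hzN) hc
      exact hN.conj_mem c hcN g'
    · intro h2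
      exact (Nat.not_even_iff_odd.mpr hNodd) (even_iff_two_dvd.mpr h2)

end EqOrd7

end Cfsg.Agent.Lib.Helper9
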