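import Mathlib
import Cfsg.Agent.Lib.Helper9.EqOrd7
import Cfsg.Agent.Lib.Helper29.OddCyclic

set_option autoImplicit false

namespace Cfsg.Agent.Lib.Helper9

section EqOrd8

theorem eqo_main {G : Type*} [Group G] [Finite G] (hD : EqoHyp G) {p : ℕ} [hp : Fact p.Prime]
    (P : Sylow p G) :
    IsCyclic P ∨ Cfsg.IsElementaryAbelian p (P : Subgroup G) ∨
      Nonempty ((P : Subgroup G) ≃* QuaternionGroup 2) := by
  by_cases hp2 : p = 2
  · subst hp2
    exact eqo_two hD P
  by_cases hx : ∃ x : G, orderOf x = p ^ 2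
  · left
    exact Cfsg.Agent.Lib.Helper29.isCyclic_of_unique_subgroup_odd p hp2 P.isPGroup'
      (eqo_caseA_unique hD P hx)
  · have hexp := eqo_exp_of_no_p2 hx (P : Subgroup G) P.isPGroup'
    by_cases hab : ∀ a ∈ (P : Subgroup G), ∀ b ∈ (P : Subgroup G), a * b = b * a
    · right; left
      exact ⟨⟨⟨fun a b => Subtype.ext (hab a a.2 b b.2)⟩⟩, hexp⟩
    · exfalso
      obtain ⟨n, hn⟩ := IsPGroup.iff_card.mp P.isPGroup'
      rcases Nat.lt_or_ge n 3 with h3 | h3
      · apply hab
        intro a ha b hb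
        have := eqo_comm_of_card_le_p2 (p := p) (k := n) (by omega) hn ⟨a, ha⟩ ⟨b, hb⟩
        exact congrArg Subtype.val this
      · rcases Nat.eq_or_lt_of_le h3 with h3' | h4
        · subst h3'
          obtain ⟨u, v, z, hu, hv, hz1, hzp, hw⟩ := eqo_B2_config hD P hexp hn hab
          exact eqo_B2_end hD hp2 u v z hu hv hz1 hzp hw
        · apply eqo_B1 hD (P : Subgroup G) P.isPGroup' hexp _ hab
          rw [hn]
          exact pow_dvd_pow p h4

end EqOrd8

end Cfsg.Agent.Lib.Helper9
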