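import Mathlib

set_option autoImplicit false

/-! Rank-two 2-groups with an automorphism permuting the involutions transitively: basic tools. -/

namespace Cfsg.Agent.Lib.Helper9

/-- the working hypotheses: `T` a 2-group, `α` an automorphism of 3-power order, the involutions
are central, there are exactly three of them, and `α` fixes none. -/
structure R2Hyp (T : Type*) [Group T] (α : MulAut T) : Prop where
  pg : IsPGroup 2 T
  a3 : ∃ k : ℕ, α ^ (3 ^ k) = 1
  cen : ∀ x : T, x ^ 2 = 1 → ∀ y : T, x * y = y * x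
  cnt : Nat.card {x : T // x ^ 2 = 1} = 4
  nfx : ∀ x : T, x ^ 2 = 1 → α x = x → x = 1

/-- central elements of order at most two -/
def r2Om (T : Type*) [Group T] : Subgroup T where
  carrier := {x | x ∈ Subgroup.center T ∧ x ^ 2 = 1}
  one_mem' := ⟨Subgroup.one_mem _, one_pow 2⟩
  mul_mem' := by
    rintro a b ⟨ha, ha2⟩ ⟨hb, hb2⟩
    refine ⟨Subgroup.mul_mem _ ha hb, ?_⟩
    have hc : Commute a b := (Subgroup.mem_center_iff.mp hb a)
    rw [hc.mul_pow, ha2, hb2, one_mul]
  inv_mem' := by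
    rintro a ⟨ha, ha2⟩
    exact ⟨Subgroup.inv_mem _ ha, by rw [inv_pow, ha2, inv_one]⟩

section basics
variable {T : Type*} [Group T] {α : MulAut T}

theorem r2_mem_om (h : R2Hyp T α) (x : T) : x ∈ r2Om T ↔ x ^ 2 = 1 := by
  constructor
  · intro hx; exact hx.2
  · intro hx
    refine ⟨?_, hx⟩
    rw [Subgroup.mem_center_iff]
    intro g
    exact (h.cen x hx g).symm

theorem r2_card_om (h : R2Hyp T α) : Nat.card (r2Om T) = 4 := by
  rw [← h.cnt]
  apply Nat.card_congr
  exact
    { toFun := fun x => ⟨x.1, (r2_mem_om h x.1).mp x.2⟩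
      invFun := fun x => ⟨x.1, (r2_mem_om h x.1).mpr x.2⟩
      left_inv := fun x => rfl
      right_inv := fun x => rfl }

theorem r2_om_central (x : T) (hx : x ∈ r2Om T) (y : T) : x * y = y * x :=
  ((Subgroup.mem_center_iff.mp hx.1) y).symm

theorem r2_om_sq (x : T) (hx : x ∈ r2Om T) : x ^ 2 = 1 := hx.2

theorem r2_om_inv (x : T) (hx : x ∈ r2Om T) : x⁻¹ = x := by
  have := hx.2
  rw [pow_two] at this
  exact inv_eq_of_mul_eq_one_left this

end basics

section fixed
variable {T : Type*} [Group T] [Finite T]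

/-- a 3-power-order automorphism has a fixed point on every invariant set of size prime to 3 -/
theorem r2_exists_fixed (β : MulAut T) (k : ℕ) (hβ : β ^ (3 ^ k) = 1)
    (X : Set T) (hX : ∀ g, β g ∈ X ↔ g ∈ X) (hc : ¬ 3 ∣ Nat.card X) : ∃ g ∈ X, β g = g := by
  classical
  haveI : Fact (Nat.Prime 3) := ⟨by norm_num⟩
  haveI : Fintype X := Fintype.ofFinite X
  let f : Equiv.Perm T := MulAut.toPerm T β
  have hf : f ^ (3 ^ k) = 1 := by
    show (MulAut.toPerm T β) ^ (3 ^ k) = 1
    rw [← map_pow, hβ, map_one]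
  have hX' : ∀ x : T, (fun g => g ∈ X) (f x) ↔ (fun g => g ∈ X) x := hX
  let σ : Equiv.Perm X := f.subtypePerm hX'
  have hσ : σ ^ (3 ^ k) = 1 := by
    show (f.subtypePerm hX') ^ (3 ^ k) = 1
    rw [Equiv.Perm.subtypePerm_pow f (3 ^ k) hX']
    ext x
    simp only [Equiv.Perm.subtypePerm_apply, hf, Equiv.Perm.coe_one, id_eq]
  have hc' : ¬ 3 ∣ Fintype.card X := by rwa [← Nat.card_eq_fintype_card]
  obtain ⟨a, ha⟩ := Equiv.Perm.exists_fixed_point_of_prime (p := 3) (n := k) hc' hσ
  exact ⟨a.1, a.2, congrArg Subtype.val ha⟩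

/-- contrapositive: no fixed points implies 3 divides the size -/
theorem r2_three_dvd (β : MulAut T) (k : ℕ) (hβ : β ^ (3 ^ k) = 1)
    (X : Set T) (hX : ∀ g, β g ∈ X ↔ g ∈ X) (hn : ∀ g ∈ X, β g ≠ g) : 3 ∣ Nat.card X := by
  by_contra hc
  obtain ⟨g, hg, hgg⟩ := r2_exists_fixed β k hβ X hX hc
  exact hn g hg hgg

end fixed

section fpf
variable {T : Type*} [Group T] [Finite T] {α : MulAut T}

theorem r2_fpf (h : R2Hyp T α) (x : T) (hx : α x = x) : x = 1 := by
  by_contra hne
  obtain ⟨n, hn⟩ := h.pg x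
  -- minimal exponent
  have hex : ∃ m : ℕ, x ^ (2 ^ m) = 1 := ⟨n, hn⟩
  classical
  let m := Nat.find hex
  have hm : x ^ (2 ^ m) = 1 := Nat.find_spec hex
  have hm0 : m ≠ 0 := by
    intro h0
    rw [h0, pow_zero, pow_one] at hm
    exact hne hm
  obtain ⟨j, hj⟩ := Nat.exists_eq_succ_of_ne_zero hm0
  have hy : (x ^ (2 ^ j)) ^ 2 = 1 := by
    rw [← pow_mul, ← pow_succ, ← Nat.succ_eq_add_one, ← hj]; exact hm
  have hy1 : x ^ (2 ^ j) ≠ 1 := by
    intro h1
    have := Nat.find_min' hex h1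
    omega
  apply hy1
  apply h.nfx _ hy
  rw [map_pow, hx]

end fpf

section inv
variable {T : Type*} [Group T]

/-- invariance of a subgroup under an automorphism -/
def r2Inv (α : MulAut T) (S : Subgroup T) : Prop := ∀ x ∈ S, α x ∈ S

variable [Finite T] {α : MulAut T} {S : Subgroup T}

theorem r2Inv_iff (hS : r2Inv α S) (x : T) : α x ∈ S ↔ x ∈ S := by
  constructor
  · intro hx
    let f : ↥S → ↥S := fun y => ⟨α y.1, hS y.1 y.2⟩
    have hinj : Function.Injective f := by
      intro a b hab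
      have := congrArg Subtype.val hab
      exact Subtype.ext (α.injective this)
    have hsurj := Finite.surjective_of_injective hinj
    obtain ⟨y, hy⟩ := hsurj ⟨α x, hx⟩
    have := congrArg Subtype.val hy
    have hyx : y.1 = x := α.injective this
    rw [← hyx]; exact y.2
  · exact hS x

theorem r2Inv_pow (hS : r2Inv α S) (j : ℕ) : r2Inv (α ^ j) S := by
  induction j with
  | zero => intro x hx; simpa using hx
  | succ j ih =>
    intro x hx
    rw [pow_succ, MulAut.mul_apply]
    exact ih _ (hS x hx)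

theorem r2Inv_inv (hS : r2Inv α S) : r2Inv α⁻¹ S := by
  intro x hx
  rw [← r2Inv_iff hS]
  simpa using hx

theorem r2Inv_bot : r2Inv α (⊥ : Subgroup T) := by
  intro x hx
  rw [Subgroup.mem_bot] at hx ⊢
  rw [hx, map_one]

theorem r2Inv_top : r2Inv α (⊤ : Subgroup T) := fun _ _ => Subgroup.mem_top _

theorem r2Inv_inf {S' : Subgroup T} (hS : r2Inv α S) (hS' : r2Inv α S') : r2Inv α (S ⊓ S') :=
  fun x hx => ⟨hS x hx.1, hS' x hx.2⟩

theorem r2Inv_center : r2Inv α (Subgroup.center T) := by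
  intro x hx
  rw [Subgroup.mem_center_iff] at hx ⊢
  intro g
  obtain ⟨g', rfl⟩ := α.surjective g
  rw [← map_mul, ← map_mul, hx g']

theorem r2Inv_om : r2Inv α (r2Om T) := by
  intro x hx
  refine ⟨r2Inv_center x hx.1, ?_⟩
  rw [← map_pow, hx.2, map_one]

/-- restriction of an automorphism to an invariant subgroup -/
noncomputable def r2res (α : MulAut T) (S : Subgroup T) (hS : r2Inv α S) : MulAut ↥S :=
  MulEquiv.ofBijective
    ({ toFun := fun y => ⟨α y.1, hS y.1 y.2⟩
       map_one' := Subtype.ext (map_one α)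
       map_mul' := fun a b => Subtype.ext (map_mul α a.1 b.1) } : ↥S →* ↥S)
    (by
      have hinj : Function.Injective (fun y : ↥S => (⟨α y.1, hS y.1 y.2⟩ : ↥S)) := by
        intro a b hab
        have := congrArg Subtype.val hab
        exact Subtype.ext (α.injective this)
      exact ⟨hinj, Finite.surjective_of_injective hinj⟩)

@[simp] theorem r2res_coe (hS : r2Inv α S) (y : ↥S) : ((r2res α S hS y : ↥S) : T) = α y.1 := rfl

theorem r2res_pow_coe (hS : r2Inv α S) (j : ℕ) (y : ↥S) :
    (((r2res α S hS) ^ j) y : T) = (α ^ j) y.1 := by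
  induction j generalizing y with
  | zero => simp
  | succ j ih =>
    rw [pow_succ, MulAut.mul_apply, ih, r2res_coe, pow_succ, MulAut.mul_apply]

end inv

section card
variable {T : Type*} [Group T] [Finite T] {α : MulAut T}

/-- every invariant subgroup has order ≡ 1 mod 3 -/
theorem r2_card_mod3 (h : R2Hyp T α) (S : Subgroup T) (hS : r2Inv α S) : Nat.card S % 3 = 1 := by
  classical
  obtain ⟨k, hk⟩ := h.a3
  let X : Set T := {g | g ∈ S ∧ g ≠ 1}
  have hX : ∀ g, α g ∈ X ↔ g ∈ X := by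
    intro g
    show (α g ∈ S ∧ α g ≠ 1) ↔ (g ∈ S ∧ g ≠ 1)
    rw [r2Inv_iff hS]
    constructor
    · rintro ⟨h1, h2⟩
      refine ⟨h1, fun h0 => h2 (by rw [h0, map_one])⟩
    · rintro ⟨h1, h2⟩
      refine ⟨h1, fun h0 => h2 ?_⟩
      apply α.injective
      rw [h0, map_one]
  have h3 : 3 ∣ Nat.card X := by
    apply r2_three_dvd α k hk X hX
    intro g hg hfix
    exact hg.2 (r2_fpf h g hfix)
  have hcard : Nat.card S = Nat.card X + 1 := by
    have e : ↥S ≃ Option X :=
      { toFun := fun y => if hy : y.1 = 1 then none else some ⟨y.1, y.2, hy⟩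
        invFun := fun o => match o with
          | none => 1
          | some x => ⟨x.1, x.2.1⟩
        left_inv := by
          intro y
          by_cases hy : y.1 = 1
          · simp only [hy, dite_true]
            exact Subtype.ext hy.symm
          · simp only [hy, dite_false]
        right_inv := by
          intro o
          cases o with
          | none => simp
          | some x =>
            have : x.1 ≠ 1 := x.2.2
            simp [this] }
    haveI : Fintype X := Fintype.ofFinite X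
    rw [Nat.card_congr e, Nat.card_eq_fintype_card, Fintype.card_option,
      ← Nat.card_eq_fintype_card]
  rw [hcard]
  omega

/-- fixed cosets are trivial -/
theorem r2_coset_fix (h : R2Hyp T α) (N : Subgroup T) (hN : r2Inv α N) (t : T)
    (ht : t⁻¹ * α t ∈ N) : t ∈ N := by
  obtain ⟨k, hk⟩ := h.a3
  let X : Set T := {g | t⁻¹ * g ∈ N}
  have hX : ∀ g, α g ∈ X ↔ g ∈ X := by
    intro g
    show t⁻¹ * α g ∈ N ↔ t⁻¹ * g ∈ N
    have e : t⁻¹ * α g = (t⁻¹ * α t) * α (t⁻¹ * g) := by
      rw [map_mul, map_inv]; group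
    rw [e, Subgroup.mul_mem_cancel_left N ht, r2Inv_iff hN]
  have hcard : Nat.card X = Nat.card N := by
    apply Nat.card_congr
    exact
      { toFun := fun g => ⟨t⁻¹ * g.1, g.2⟩
        invFun := fun n => ⟨t * n.1, by show t⁻¹ * (t * n.1) ∈ N; rw [inv_mul_cancel_left]; exact n.2⟩
        left_inv := fun g => Subtype.ext (by simp)
        right_inv := fun n => Subtype.ext (by simp) }
  have hc : ¬ 3 ∣ Nat.card X := by
    rw [hcard]
    have := r2_card_mod3 h N hN
    omega
  obtain ⟨g, hg, hfix⟩ := r2_exists_fixed α k hk X hX hc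
  have hg1 := r2_fpf h g hfix
  rw [hg1] at hg
  have : t⁻¹ * 1 ∈ N := hg
  rw [mul_one] at this
  exact (Subgroup.inv_mem_iff N).mp this

end card

section omle
variable {T : Type*} [Group T] [Finite T] {α : MulAut T}

theorem r2_invol_pow (hp : IsPGroup 2 T) (x : T) (hne : x ≠ 1) :
    ∃ j : ℕ, (x ^ (2 ^ j)) ^ 2 = 1 ∧ x ^ (2 ^ j) ≠ 1 := by
  obtain ⟨n, hn⟩ := hp x
  have hex : ∃ m : ℕ, x ^ (2 ^ m) = 1 := ⟨n, hn⟩
  classical
  let m := Nat.find hex
  have hm : x ^ (2 ^ m) = 1 := Nat.find_spec hex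
  have hm0 : m ≠ 0 := by
    intro h0
    rw [h0, pow_zero, pow_one] at hm
    exact hne hm
  obtain ⟨j, hj⟩ := Nat.exists_eq_succ_of_ne_zero hm0
  refine ⟨j, ?_, ?_⟩
  · rw [← pow_mul, ← pow_succ, ← Nat.succ_eq_add_one, ← hj]; exact hm
  · intro h1
    have := Nat.find_min' hex h1
    omega

theorem r2_om_le (h : R2Hyp T α) (S : Subgroup T) (hS : r2Inv α S) (hne : S ≠ ⊥) :
    r2Om T ≤ S := by
  have hD : r2Inv α (S ⊓ r2Om T) := r2Inv_inf hS r2Inv_om
  have h1 := r2_card_mod3 h _ hD
  have h2 : Nat.card ↥(S ⊓ r2Om T) ∣ 4 := by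
    rw [← r2_card_om h]; exact Subgroup.card_dvd_of_le inf_le_right
  have h3 : Nat.card ↥(S ⊓ r2Om T) ≠ 1 := by
    intro hc
    have hbot : S ⊓ r2Om T = ⊥ := Subgroup.card_eq_one.mp hc
    obtain ⟨g, hg1⟩ := (Subgroup.ne_bot_iff_exists_ne_one).mp hne
    obtain ⟨j, hj2, hj1⟩ := r2_invol_pow h.pg (g : T) (fun h0 => hg1 (Subtype.ext h0))
    have hmem : (g : T) ^ (2 ^ j) ∈ S ⊓ r2Om T :=
      ⟨Subgroup.pow_mem S g.2 _, (r2_mem_om h _).mpr hj2⟩
    rw [hbot, Subgroup.mem_bot] at hmem
    exact hj1 hmem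
  have h4 : Nat.card ↥(S ⊓ r2Om T) = 4 := by
    have hle : Nat.card ↥(S ⊓ r2Om T) ≤ 4 := Nat.le_of_dvd (by norm_num) h2
    interval_cases hc : Nat.card ↥(S ⊓ r2Om T) <;> simp_all
  have h5 : S ⊓ r2Om T = r2Om T :=
    Subgroup.eq_of_le_of_card_ge inf_le_right (by rw [h4, r2_card_om h])
  rw [← h5]; exact inf_le_left

theorem r2_hyp_res (h : R2Hyp T α) (S : Subgroup T) (hS : r2Inv α S) (hne : S ≠ ⊥) :
    R2Hyp ↥S (r2res α S hS) := by
  have hle := r2_om_le h S hS hne
  refine ⟨h.pg.to_subgroup S, ?_, ?_, ?_, ?_⟩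
  · obtain ⟨k, hk⟩ := h.a3
    refine ⟨k, ?_⟩
    ext y
    rw [r2res_pow_coe, hk]
    rfl
  · intro x hx y
    apply Subtype.ext
    have hx' : (x : T) ^ 2 = 1 := by
      have := congrArg Subtype.val hx
      simpa using this
    simpa using h.cen x.1 hx' y.1
  · rw [← h.cnt]
    apply Nat.card_congr
    exact
      { toFun := fun x => ⟨x.1.1, by
          have := congrArg Subtype.val x.2
          simpa using this⟩
        invFun := fun x => ⟨⟨x.1, hle ((r2_mem_om h x.1).mpr x.2)⟩, Subtype.ext (by simpa using x.2)⟩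
        left_inv := fun x => rfl
        right_inv := fun x => rfl }
  · intro x hx hfix
    apply Subtype.ext
    have hx' : (x : T) ^ 2 = 1 := by
      have := congrArg Subtype.val hx
      simpa using this
    have hf : α x.1 = x.1 := congrArg Subtype.val hfix
    exact h.nfx x.1 hx' hf

end omle

section unip
variable {T : Type*} [Group T]

theorem r2_unip (β : MulAut T) (g n : T) (h1 : β g = g * n) (h2 : β n = n) (j : ℕ) :
    (β ^ j) g = g * n ^ j := by
  induction j with
  | zero => simp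
  | succ j ih =>
    rw [pow_succ', MulAut.mul_apply, ih, map_mul, map_pow, h1, h2, pow_succ']
    group

theorem r2_two_three (hp : IsPGroup 2 T) (n : T) (k : ℕ) (h : n ^ (3 ^ k) = 1) : n = 1 := by
  obtain ⟨m, hm⟩ := hp n
  have h1 : orderOf n ∣ 3 ^ k := orderOf_dvd_of_pow_eq_one h
  have h2 : orderOf n ∣ 2 ^ m := orderOf_dvd_of_pow_eq_one hm
  have hcop : Nat.Coprime (3 ^ k) (2 ^ m) := Nat.Coprime.pow _ _ (by norm_num)
  have : orderOf n ∣ 1 := by
    have := Nat.dvd_gcd h1 h2
    rwa [hcop] at this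
  exact orderOf_eq_one_iff.mp (Nat.dvd_one.mp this)

/-- an automorphism of 3-power order acting trivially on `N` and modulo `N` is trivial -/
theorem r2_triv_of_unip (hp : IsPGroup 2 T) (β : MulAut T) (k : ℕ) (hβ : β ^ (3 ^ k) = 1)
    (g : T) (hn : β (g⁻¹ * β g) = g⁻¹ * β g) : β g = g := by
  have h1 : β g = g * (g⁻¹ * β g) := by group
  have := r2_unip β g (g⁻¹ * β g) h1 hn (3 ^ k)
  rw [hβ, MulAut.one_apply] at this
  have h2 : (g⁻¹ * β g) ^ (3 ^ k) = 1 := by
    have := congrArg (fun y => g⁻¹ * y) this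
    simpa using this.symm
  have h3 := r2_two_three hp _ k h2
  rw [h1, h3, mul_one]

variable [Finite T] {α : MulAut T}

/-- a 3-power-order automorphism fixing all involutions is trivial on commutative invariant
subgroups -/
theorem r2_triv_comm (h : R2Hyp T α) (β : MulAut T) (k : ℕ) (hβ : β ^ (3 ^ k) = 1)
    (hZ : ∀ z : T, z ^ 2 = 1 → β z = z) (S : Subgroup T) (hc : ∀ a ∈ S, ∀ b ∈ S, a * b = b * a)
    (hS : r2Inv β S) : ∀ g ∈ S, β g = g := by
  have key : ∀ m : ℕ, ∀ g ∈ S, g ^ (2 ^ m) = 1 → β g = g := by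
    intro m
    induction m with
    | zero =>
      intro g _ hg
      rw [pow_zero, pow_one] at hg
      rw [hg, map_one]
    | succ m ih =>
      intro g hg hgm
      have hg2 : β (g ^ 2) = g ^ 2 := by
        apply ih _ (Subgroup.pow_mem S hg 2)
        rw [← pow_mul, ← pow_succ']; exact hgm
      apply r2_triv_of_unip h.pg β k hβ
      apply hZ
      have hbg : β g ∈ S := hS g hg
      have hcomm : Commute g⁻¹ (β g) := by
        have := hc g hg (β g) hbg
        exact (Commute.inv_left this : Commute g⁻¹ (β g))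
      rw [hcomm.mul_pow, ← map_pow, hg2, inv_pow, inv_mul_cancel]
  intro g hg
  obtain ⟨m, hm⟩ := h.pg g
  exact key m g hg hm

end unip

section ord3
variable {T : Type*} [Group T] [Finite T] {α : MulAut T}

theorem r2_ord3_prod (hf : ∀ x : T, α x = x → x = 1) (h3 : ∀ x : T, α (α (α x)) = x) (g : T) :
    g * α g * α (α g) = 1 := by
  have hinj : Function.Injective (fun u : T => u⁻¹ * α u) := by
    intro a b hab
    have hab' : a⁻¹ * α a = b⁻¹ * α b := hab
    have h1 : α (b * a⁻¹) = b * a⁻¹ := by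
      rw [map_mul, map_inv]
      have : α a = a * (b⁻¹ * α b) := by rw [← hab']; group
      rw [this]; group
    have h2 := hf _ h1
    have : b = a := by
      have := congrArg (fun y => y * a) h2
      simpa using this
    exact this.symm
  obtain ⟨u, hu⟩ := Finite.surjective_of_injective hinj g
  have hu' : g = u⁻¹ * α u := hu.symm
  rw [hu']
  simp only [map_mul, map_inv, h3]
  group

theorem r2_ord3_prod' (hf : ∀ x : T, α x = x → x = 1) (h3 : ∀ x : T, α (α (α x)) = x) (g : T) :
    α (α g) * α g * g = 1 := by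
  have h := r2_ord3_prod hf h3 g⁻¹
  simp only [map_inv] at h
  have : (α (α g) * α g * g)⁻¹ = 1 := by
    rw [← h]; group
  exact inv_eq_one.mp this

theorem r2_ord3_comm (hf : ∀ x : T, α x = x → x = 1) (h3 : ∀ x : T, α (α (α x)) = x) (g : T) :
    g * α g = α g * g := by
  have h1 := r2_ord3_prod hf h3 g
  have h2 := r2_ord3_prod' hf h3 g
  -- α g * α² g = g⁻¹ = α² g * α g
  have e1 : α g * α (α g) = g⁻¹ := by
    have : g * (α g * α (α g)) = 1 := by rw [← mul_assoc]; exact h1
    exact eq_inv_of_mul_eq_one_right this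
  have e2 : α (α g) * α g = g⁻¹ := by
    exact eq_inv_of_mul_eq_one_left h2
  have e3 : α g * α (α g) = α (α g) * α g := e1.trans e2.symm
  -- apply α² = α⁻¹
  have := congrArg (fun y => α (α y)) e3
  simp only [map_mul, h3] at this
  exact this

end ord3

end Cfsg.Agent.Lib.Helper9
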