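import Mathlib
import Cfsg.Agent.Lib.Helper9.R2A

set_option autoImplicit false

/-! Chevalley–Warning bound: a group `E` with central Klein four-subgroup `Z` containing all
involutions, all squares and all commutators has order at most 64. -/

namespace Cfsg.Agent.Lib.Helper9

section coords
variable {T : Type*} [Group T]

theorem r2_klein_coords (Z : Subgroup T) (hZ2 : ∀ z ∈ Z, z ^ 2 = 1) (hZ4 : Nat.card Z = 4) :
    ∃ L : T → ZMod 2 × ZMod 2, (∀ z ∈ Z, ∀ w ∈ Z, L (z * w) = L z + L w) ∧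
      (∀ z ∈ Z, L z = 0 → z = 1) := by
  classical
  haveI : Finite ↥Z := Nat.finite_of_card_ne_zero (by rw [hZ4]; norm_num)
  haveI : IsKleinFour ↥Z := by
    refine ⟨hZ4, ?_⟩
    have h1 : Monoid.exponent ↥Z ∣ 2 := by
      apply Monoid.exponent_dvd_of_forall_pow_eq_one
      intro z
      apply Subtype.ext
      rw [Subgroup.coe_pow, Subgroup.coe_one]
      exact hZ2 z.1 z.2
    have h2 : Monoid.exponent ↥Z ≠ 1 := by
      intro h
      rw [Monoid.exp_eq_one_iff] at h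
      have := Nat.card_eq_one_iff_unique.mpr ⟨h, ⟨1⟩⟩
      rw [hZ4] at this
      exact absurd this (by norm_num)
    rcases (Nat.dvd_prime Nat.prime_two).mp h1 with h | h
    · exact absurd h h2
    · exact h
  have hc2 : Nat.card (Multiplicative (ZMod 2 × ZMod 2)) = 4 := IsKleinFour.card_four
  let e0 : ↥Z ≃ Multiplicative (ZMod 2 × ZMod 2) :=
    (Finite.equivFinOfCardEq hZ4).trans (Finite.equivFinOfCardEq hc2).symm
  let e : ↥Z ≃ Multiplicative (ZMod 2 × ZMod 2) := e0.trans (Equiv.swap (e0 1) 1)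
  have he : e 1 = 1 := by
    show (Equiv.swap (e0 1) 1) (e0 1) = 1
    exact Equiv.swap_apply_left _ _
  let ι : ↥Z ≃* Multiplicative (ZMod 2 × ZMod 2) := IsKleinFour.mulEquiv e he
  refine ⟨fun g => if h : g ∈ Z then Multiplicative.toAdd (ι ⟨g, h⟩) else 0, ?_, ?_⟩
  · intro z hz w hw
    have hzw : z * w ∈ Z := Subgroup.mul_mem Z hz hw
    simp only [hz, hw, hzw, dite_true]
    have : (⟨z * w, hzw⟩ : ↥Z) = ⟨z, hz⟩ * ⟨w, hw⟩ := rfl
    rw [this, map_mul]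
    rfl
  · intro z hz h0
    simp only [hz, dite_true] at h0
    have h1 : ι ⟨z, hz⟩ = 1 := by
      apply Multiplicative.toAdd.injective
      rw [h0]; rfl
    have h2 : (⟨z, hz⟩ : ↥Z) = 1 := by
      apply ι.injective
      rw [h1, map_one]
    exact congrArg Subtype.val h2

end coords

section quad
variable {T : Type*} [Group T]

/-- the quadratic expression attached to a list -/
def r2qf (L : T → ZMod 2 × ZMod 2) : List T → ZMod 2 × ZMod 2
  | [] => 0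
  | g :: l => L (g ^ 2) + r2qf L l + (l.map (fun k => L (k * g * k⁻¹ * g⁻¹))).sum

variable (Z E : Subgroup T)
  (hZc : ∀ z ∈ Z, ∀ g : T, z * g = g * z)
  (hsq : ∀ g ∈ E, g ^ 2 ∈ Z)
  (hcom : ∀ g ∈ E, ∀ k ∈ E, g * k * g⁻¹ * k⁻¹ ∈ Z)
  (L : T → ZMod 2 × ZMod 2) (hL : ∀ z ∈ Z, ∀ w ∈ Z, L (z * w) = L z + L w)

include hL in
theorem r2_L_one : L 1 = 0 := by
  have := hL 1 (Subgroup.one_mem Z) 1 (Subgroup.one_mem Z)
  rw [mul_one] at this
  have h2 : L 1 + L 1 = L 1 + 0 := by rw [← this, add_zero]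
  exact (add_left_cancel h2)

include hZc hcom hL in
theorem r2_com_list (g : T) (hg : g ∈ E) (l : List T) (hl : ∀ k ∈ l, k ∈ E) :
    l.prod * g * l.prod⁻¹ * g⁻¹ ∈ Z ∧
      L (l.prod * g * l.prod⁻¹ * g⁻¹) = (l.map (fun k => L (k * g * k⁻¹ * g⁻¹))).sum := by
  induction l with
  | nil =>
    simp only [List.prod_nil, List.map_nil, List.sum_nil]
    have : (1 : T) * g * 1⁻¹ * g⁻¹ = 1 := by group
    rw [this]
    exact ⟨Subgroup.one_mem Z, r2_L_one Z L hL⟩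
  | cons k l ih =>
    have hk : k ∈ E := hl k (List.mem_cons_self)
    have hl' : ∀ k' ∈ l, k' ∈ E := fun k' hk' => hl k' (List.mem_cons_of_mem _ hk')
    obtain ⟨ih1, ih2⟩ := ih hl'
    have hkg := hcom k hk g hg
    have e : (k :: l).prod * g * (k :: l).prod⁻¹ * g⁻¹ =
        (l.prod * g * l.prod⁻¹ * g⁻¹) * (k * g * k⁻¹ * g⁻¹) := by
      rw [List.prod_cons]
      have hc := hZc _ ih1
      -- P g P⁻¹ = c g
      have h1 : l.prod * g * l.prod⁻¹ = (l.prod * g * l.prod⁻¹ * g⁻¹) * g := by group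
      calc k * l.prod * g * (k * l.prod)⁻¹ * g⁻¹
          = k * (l.prod * g * l.prod⁻¹) * k⁻¹ * g⁻¹ := by group
        _ = k * ((l.prod * g * l.prod⁻¹ * g⁻¹) * g) * k⁻¹ * g⁻¹ := by rw [← h1]
        _ = (k * (l.prod * g * l.prod⁻¹ * g⁻¹)) * g * k⁻¹ * g⁻¹ := by group
        _ = ((l.prod * g * l.prod⁻¹ * g⁻¹) * k) * g * k⁻¹ * g⁻¹ := by rw [hc k]
        _ = (l.prod * g * l.prod⁻¹ * g⁻¹) * (k * g * k⁻¹ * g⁻¹) := by group
    rw [e]
    refine ⟨Subgroup.mul_mem Z ih1 hkg, ?_⟩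
    rw [hL _ ih1 _ hkg, ih2, List.map_cons, List.sum_cons, add_comm]

include hZc hsq hcom hL in
theorem r2_sq_list (l : List T) (hl : ∀ k ∈ l, k ∈ E) :
    l.prod ^ 2 ∈ Z ∧ L (l.prod ^ 2) = r2qf L l := by
  induction l with
  | nil =>
    simp only [List.prod_nil, one_pow, r2qf]
    exact ⟨Subgroup.one_mem Z, r2_L_one Z L hL⟩
  | cons g l ih =>
    have hg : g ∈ E := hl g (List.mem_cons_self)
    have hl' : ∀ k' ∈ l, k' ∈ E := fun k' hk' => hl k' (List.mem_cons_of_mem _ hk')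
    obtain ⟨ih1, ih2⟩ := ih hl'
    obtain ⟨c1, c2⟩ := r2_com_list Z E hZc hcom L hL g hg l hl'
    have hg2 := hsq g hg
    have e : (g :: l).prod ^ 2 = (l.prod * g * l.prod⁻¹ * g⁻¹) * (g ^ 2 * l.prod ^ 2) := by
      rw [List.prod_cons]
      have hc := hZc _ c1
      have h1 : l.prod * g = (l.prod * g * l.prod⁻¹ * g⁻¹) * (g * l.prod) := by group
      calc (g * l.prod) ^ 2 = g * (l.prod * g) * l.prod := by rw [pow_two]; group
        _ = g * ((l.prod * g * l.prod⁻¹ * g⁻¹) * (g * l.prod)) * l.prod := by rw [← h1]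
        _ = (g * (l.prod * g * l.prod⁻¹ * g⁻¹)) * (g * l.prod) * l.prod := by group
        _ = ((l.prod * g * l.prod⁻¹ * g⁻¹) * g) * (g * l.prod) * l.prod := by rw [hc g]
        _ = (l.prod * g * l.prod⁻¹ * g⁻¹) * (g ^ 2 * l.prod ^ 2) := by rw [pow_two, pow_two]; group
    rw [e]
    have h2 : g ^ 2 * l.prod ^ 2 ∈ Z := Subgroup.mul_mem Z hg2 ih1
    refine ⟨Subgroup.mul_mem Z c1 h2, ?_⟩
    rw [hL _ c1 _ h2, hL _ hg2 _ ih1, c2, ih2]
    simp only [r2qf]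
    abel

end quad

section poly
open MvPolynomial

/-- a quadratic polynomial without constant term in five variables over `𝔽₂` -/
noncomputable def r2poly (a : Fin 5 → ZMod 2) (b : Fin 5 → Fin 5 → ZMod 2) :
    MvPolynomial (Fin 5) (ZMod 2) :=
  C (a 0) * X 0 + C (a 1) * X 1 + C (a 2) * X 2 + C (a 3) * X 3 + C (a 4) * X 4
  + C (b 0 1) * X 0 * X 1 + C (b 0 2) * X 0 * X 2 + C (b 0 3) * X 0 * X 3 + C (b 0 4) * X 0 * X 4
  + C (b 1 2) * X 1 * X 2 + C (b 1 3) * X 1 * X 3 + C (b 1 4) * X 1 * X 4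
  + C (b 2 3) * X 2 * X 3 + C (b 2 4) * X 2 * X 4 + C (b 3 4) * X 3 * X 4

theorem r2poly_eval (a : Fin 5 → ZMod 2) (b : Fin 5 → Fin 5 → ZMod 2) (e : Fin 5 → ZMod 2) :
    eval e (r2poly a b) =
      a 0 * e 0 + a 1 * e 1 + a 2 * e 2 + a 3 * e 3 + a 4 * e 4
      + b 0 1 * e 0 * e 1 + b 0 2 * e 0 * e 2 + b 0 3 * e 0 * e 3 + b 0 4 * e 0 * e 4
      + b 1 2 * e 1 * e 2 + b 1 3 * e 1 * e 3 + b 1 4 * e 1 * e 4
      + b 2 3 * e 2 * e 3 + b 2 4 * e 2 * e 4 + b 3 4 * e 3 * e 4 := by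
  simp [r2poly]

theorem r2poly_deg (a : Fin 5 → ZMod 2) (b : Fin 5 → Fin 5 → ZMod 2) :
    (r2poly a b).totalDegree ≤ 2 := by
  have hadd : ∀ p q : MvPolynomial (Fin 5) (ZMod 2), p.totalDegree ≤ 2 → q.totalDegree ≤ 2 →
      (p + q).totalDegree ≤ 2 := fun p q hp hq =>
    (totalDegree_add p q).trans (max_le hp hq)
  have hlin : ∀ (c : ZMod 2) (i : Fin 5), (C c * X i : MvPolynomial (Fin 5) (ZMod 2)).totalDegree ≤ 2 := by
    intro c i
    refine (totalDegree_mul _ _).trans ?_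
    rw [totalDegree_C, totalDegree_X]
    norm_num
  have hquad : ∀ (c : ZMod 2) (i j : Fin 5),
      (C c * X i * X j : MvPolynomial (Fin 5) (ZMod 2)).totalDegree ≤ 2 := by
    intro c i j
    refine (totalDegree_mul _ _).trans ?_
    have := (totalDegree_mul (C c) (X i : MvPolynomial (Fin 5) (ZMod 2)))
    rw [totalDegree_C, totalDegree_X] at this
    rw [totalDegree_X]
    omega
  unfold r2poly
  refine hadd _ _ ?_ (hquad _ _ _)
  refine hadd _ _ ?_ (hquad _ _ _)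
  refine hadd _ _ ?_ (hquad _ _ _)
  refine hadd _ _ ?_ (hquad _ _ _)
  refine hadd _ _ ?_ (hquad _ _ _)
  refine hadd _ _ ?_ (hquad _ _ _)
  refine hadd _ _ ?_ (hquad _ _ _)
  refine hadd _ _ ?_ (hquad _ _ _)
  refine hadd _ _ ?_ (hquad _ _ _)
  refine hadd _ _ ?_ (hquad _ _ _)
  refine hadd _ _ ?_ (hlin _ _)
  refine hadd _ _ ?_ (hlin _ _)
  refine hadd _ _ ?_ (hlin _ _)
  refine hadd _ _ ?_ (hlin _ _)
  exact hlin _ _

theorem r2_cw_zero (a1 a2 : Fin 5 → ZMod 2) (b1 b2 : Fin 5 → Fin 5 → ZMod 2) :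
    ∃ e : Fin 5 → ZMod 2, e ≠ 0 ∧ eval e (r2poly a1 b1) = 0 ∧ eval e (r2poly a2 b2) = 0 := by
  classical
  have hdeg : (r2poly a1 b1).totalDegree + (r2poly a2 b2).totalDegree < Fintype.card (Fin 5) := by
    have h1 := r2poly_deg a1 b1
    have h2 := r2poly_deg a2 b2
    rw [Fintype.card_fin]
    omega
  have h := char_dvd_card_solutions_of_add_lt 2 hdeg
  by_contra hcon
  push Not at hcon
  have h0 : eval (0 : Fin 5 → ZMod 2) (r2poly a1 b1) = 0 ∧ eval (0 : Fin 5 → ZMod 2) (r2poly a2 b2) = 0 := by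
    rw [r2poly_eval, r2poly_eval]
    simp
  have hcard : Fintype.card { x : Fin 5 → ZMod 2 // eval x (r2poly a1 b1) = 0 ∧ eval x (r2poly a2 b2) = 0 } = 1 := by
    rw [Fintype.card_eq_one_iff]
    refine ⟨⟨0, h0⟩, ?_⟩
    rintro ⟨e, he1, he2⟩
    apply Subtype.ext
    show e = 0
    by_contra hne
    exact hcon e hne he1 he2
  rw [hcard] at h
  exact absurd h (by norm_num)

end poly

section five
variable {T : Type*} [Group T]

theorem r2_zmod2_cases (ε : ZMod 2) : ε = 0 ∨ ε = 1 := by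
  revert ε; decide

theorem r2_qf_five (L : T → ZMod 2 × ZMod 2) (hL1 : L 1 = 0) (x : Fin 5 → T) (e : Fin 5 → ZMod 2) :
    r2qf L [x 0 ^ (e 0).val, x 1 ^ (e 1).val, x 2 ^ (e 2).val, x 3 ^ (e 3).val, x 4 ^ (e 4).val] =
      e 0 • L (x 0 ^ 2) + e 1 • L (x 1 ^ 2) + e 2 • L (x 2 ^ 2) + e 3 • L (x 3 ^ 2) + e 4 • L (x 4 ^ 2)
      + (e 0 * e 1) • L (x 1 * x 0 * (x 1)⁻¹ * (x 0)⁻¹) + (e 0 * e 2) • L (x 2 * x 0 * (x 2)⁻¹ * (x 0)⁻¹)
      + (e 0 * e 3) • L (x 3 * x 0 * (x 3)⁻¹ * (x 0)⁻¹) + (e 0 * e 4) • L (x 4 * x 0 * (x 4)⁻¹ * (x 0)⁻¹)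
      + (e 1 * e 2) • L (x 2 * x 1 * (x 2)⁻¹ * (x 1)⁻¹) + (e 1 * e 3) • L (x 3 * x 1 * (x 3)⁻¹ * (x 1)⁻¹)
      + (e 1 * e 4) • L (x 4 * x 1 * (x 4)⁻¹ * (x 1)⁻¹) + (e 2 * e 3) • L (x 3 * x 2 * (x 3)⁻¹ * (x 2)⁻¹)
      + (e 2 * e 4) • L (x 4 * x 2 * (x 4)⁻¹ * (x 2)⁻¹) + (e 3 * e 4) • L (x 4 * x 3 * (x 4)⁻¹ * (x 3)⁻¹) := by
  have hv0 : (0 : ZMod 2).val = 0 := rfl
  have hv1 : (1 : ZMod 2).val = 1 := rfl
  rcases r2_zmod2_cases (e 0) with h0 | h0 <;> rcases r2_zmod2_cases (e 1) with h1 | h1 <;>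
  rcases r2_zmod2_cases (e 2) with h2 | h2 <;> rcases r2_zmod2_cases (e 3) with h3 | h3 <;>
  rcases r2_zmod2_cases (e 4) with h4 | h4 <;>
  · simp only [r2qf, h0, h1, h2, h3, h4, hv0, hv1, pow_zero, pow_one, one_pow, hL1, List.map_cons,
      List.map_nil, List.sum_cons, List.sum_nil, mul_one, one_mul, inv_one, mul_inv_cancel,
      zero_smul, one_smul, mul_zero, zero_mul, add_zero, zero_add]
    try abel

end five

section bound
variable {T : Type*} [Group T] [Finite T] (Z E : Subgroup T)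
  (hZc : ∀ z ∈ Z, ∀ g : T, z * g = g * z)
  (hsq : ∀ g ∈ E, g ^ 2 ∈ Z)
  (hcom : ∀ g ∈ E, ∀ k ∈ E, g * k * g⁻¹ * k⁻¹ ∈ Z)

include hsq hcom in
theorem r2_adjoin (H : Subgroup T) (hZH : Z ≤ H) (hHE : H ≤ E) (x : T) (hx : x ∈ E) :
    ∃ H' : Subgroup T, H ≤ H' ∧ H' ≤ E ∧ x ∈ H' ∧ Nat.card H' ≤ 2 * Nat.card H := by
  have hnorm : ∀ h ∈ H, ∀ g ∈ E, g * h * g⁻¹ ∈ H := by
    intro h hh g hg
    have h1 := hZH (hcom g hg h (hHE hh))
    have : g * h * g⁻¹ = (g * h * g⁻¹ * h⁻¹) * h := by group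
    rw [this]
    exact Subgroup.mul_mem H h1 hh
  have hx2 : x ^ 2 ∈ H := hZH (hsq x hx)
  have hxi : x⁻¹ ∈ E := Subgroup.inv_mem E hx
  let H' : Subgroup T :=
    { carrier := {g | g ∈ H ∨ g * x ∈ H}
      one_mem' := Or.inl (Subgroup.one_mem H)
      mul_mem' := by
        rintro g k (hg | hg) (hk | hk)
        · exact Or.inl (Subgroup.mul_mem H hg hk)
        · right
          rw [mul_assoc]
          exact Subgroup.mul_mem H hg hk
        · right
          have h1 := hnorm k hk x⁻¹ hxi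
          have : g * k * x = (g * x) * (x⁻¹ * k * x⁻¹⁻¹) := by group
          rw [this]
          exact Subgroup.mul_mem H hg h1
        · left
          have h1 := hnorm (k * x) hk x⁻¹ hxi
          have : g * k = (g * x) * (x⁻¹ * (k * x) * x⁻¹⁻¹) * (x ^ 2)⁻¹ := by
            rw [pow_two]; group
          rw [this]
          exact Subgroup.mul_mem H (Subgroup.mul_mem H hg h1) (Subgroup.inv_mem H hx2)
      inv_mem' := by
        rintro g (hg | hg)
        · exact Or.inl (Subgroup.inv_mem H hg)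
        · right
          have h1 := hnorm (g * x)⁻¹ (Subgroup.inv_mem H hg) x hx
          have : g⁻¹ * x = (x * (g * x)⁻¹ * x⁻¹) * x ^ 2 := by
            rw [pow_two]; group
          rw [this]
          exact Subgroup.mul_mem H h1 hx2 }
  refine ⟨H', fun h hh => Or.inl hh, ?_, ?_, ?_⟩
  · rintro g (hg | hg)
    · exact hHE hg
    · have : g = (g * x) * x⁻¹ := by group
      rw [this]
      exact Subgroup.mul_mem E (hHE hg) hxi
  · right
    show x * x ∈ H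
    rw [← pow_two]; exact hx2
  · have hsub : (H' : Set T) ⊆ (H : Set T) ∪ (fun g => g * x) ⁻¹' (H : Set T) := by
      rintro g (hg | hg)
      · exact Or.inl hg
      · exact Or.inr hg
    have hinj : Function.Injective (fun g : T => g * x) := mul_left_injective x
    have hpre : ((fun g => g * x) ⁻¹' (H : Set T)).ncard = (H : Set T).ncard := by
      apply Set.ncard_preimage_of_injective_subset_range hinj
      intro h _
      exact ⟨h * x⁻¹, by simp⟩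
    have h1 : (H' : Set T).ncard ≤ ((H : Set T) ∪ (fun g => g * x) ⁻¹' (H : Set T)).ncard :=
      Set.ncard_le_ncard hsub (Set.toFinite _)
    have h2 := Set.ncard_union_le (H : Set T) ((fun g => g * x) ⁻¹' (H : Set T))
    rw [hpre] at h2
    have e1 : Nat.card ↥H' = (H' : Set T).ncard := Nat.card_coe_set_eq _
    have e2 : Nat.card ↥H = (H : Set T).ncard := Nat.card_coe_set_eq _
    rw [e1, e2]
    omega

theorem r2_exists_not_mem (H : Subgroup T) (hlt : Nat.card H < Nat.card E) : ∃ x ∈ E, x ∉ H := by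
  by_contra hcon
  push Not at hcon
  have hle : E ≤ H := fun x hx => hcon x hx
  have := Subgroup.card_le_of_le hle
  omega

include hZc hsq hcom in
/-- the Chevalley–Warning bound -/
theorem r2_cw_bound (hZ2 : ∀ z ∈ Z, z ^ 2 = 1) (hZ4 : Nat.card Z = 4) (hZE : Z ≤ E)
    (hinv : ∀ g ∈ E, g ^ 2 = 1 → g ∈ Z) : Nat.card E ≤ 64 := by
  by_contra hlt
  push Not at hlt
  obtain ⟨L, hL, hL0⟩ := r2_klein_coords Z hZ2 hZ4
  have hL1 : L 1 = 0 := r2_L_one Z L hL
  obtain ⟨x0, hx0E, hx0⟩ := r2_exists_not_mem E Z (by omega)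
  obtain ⟨H1, h01, h1E, hx0H1, hc1⟩ := r2_adjoin Z E hsq hcom Z le_rfl hZE x0 hx0E
  obtain ⟨x1, hx1E, hx1⟩ := r2_exists_not_mem E H1 (by omega)
  obtain ⟨H2, h12, h2E, hx1H2, hc2⟩ := r2_adjoin Z E hsq hcom H1 h01 h1E x1 hx1E
  obtain ⟨x2, hx2E, hx2⟩ := r2_exists_not_mem E H2 (by omega)
  obtain ⟨H3, h23, h3E, hx2H3, hc3⟩ := r2_adjoin Z E hsq hcom H2 (h01.trans h12) h2E x2 hx2E
  obtain ⟨x3, hx3E, hx3⟩ := r2_exists_not_mem E H3 (by omega)
  obtain ⟨H4, h34, h4E, hx3H4, hc4⟩ :=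
    r2_adjoin Z E hsq hcom H3 ((h01.trans h12).trans h23) h3E x3 hx3E
  obtain ⟨x4, hx4E, hx4⟩ := r2_exists_not_mem E H4 (by omega)
  let x : Fin 5 → T := ![x0, x1, x2, x3, x4]
  have hxE : ∀ i, x i ∈ E := by
    intro i; fin_cases i
    · exact hx0E
    · exact hx1E
    · exact hx2E
    · exact hx3E
    · exact hx4E
  let a1 : Fin 5 → ZMod 2 := fun i => (L (x i ^ 2)).1
  let a2 : Fin 5 → ZMod 2 := fun i => (L (x i ^ 2)).2
  let b1 : Fin 5 → Fin 5 → ZMod 2 := fun i j => (L (x j * x i * (x j)⁻¹ * (x i)⁻¹)).1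
  let b2 : Fin 5 → Fin 5 → ZMod 2 := fun i j => (L (x j * x i * (x j)⁻¹ * (x i)⁻¹)).2
  obtain ⟨e, hne, he1, he2⟩ := r2_cw_zero a1 a2 b1 b2
  let l : List T := [x 0 ^ (e 0).val, x 1 ^ (e 1).val, x 2 ^ (e 2).val, x 3 ^ (e 3).val,
    x 4 ^ (e 4).val]
  have hl : ∀ k ∈ l, k ∈ E := by
    intro k hk
    simp only [l, List.mem_cons, List.mem_nil_iff, or_false] at hk
    rcases hk with rfl | rfl | rfl | rfl | rfl <;> exact Subgroup.pow_mem E (hxE _) _
  obtain ⟨hP1, hP2⟩ := r2_sq_list Z E hZc hsq hcom L hL l hl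
  have hq := r2_qf_five L hL1 x e
  have hzero : L (l.prod ^ 2) = 0 := by
    rw [hP2, hq]
    rw [r2poly_eval] at he1 he2
    apply Prod.ext
    · simp only [Prod.fst_add, Prod.smul_fst, smul_eq_mul, Prod.fst_zero]
      rw [← he1]
      simp only [a1, b1]
      ring
    · simp only [Prod.snd_add, Prod.smul_snd, smul_eq_mul, Prod.snd_zero]
      rw [← he2]
      simp only [a2, b2]
      ring
  have hPone : l.prod ^ 2 = 1 := hL0 _ hP1 hzero
  have hPE : l.prod ∈ E := Subgroup.list_prod_mem E hl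
  have hPZ : l.prod ∈ Z := hinv _ hPE hPone
  -- peel off
  have hprod : l.prod = x0 ^ (e 0).val * (x1 ^ (e 1).val * (x2 ^ (e 2).val * (x3 ^ (e 3).val *
      (x4 ^ (e 4).val * 1)))) := rfl
  have hZ1 := h01
  have hZ2' := h01.trans h12
  have hZ3 := hZ2'.trans h23
  have hZ4' := hZ3.trans h34
  have hval : ∀ ε : ZMod 2, ε ≠ 0 → ε.val = 1 := by decide
  -- e 4 = 0
  have he4 : e 4 = 0 := by
    by_contra h
    have hv := hval _ h
    have hmem : x4 ^ (e 4).val ∈ H4 := by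
      have : x4 ^ (e 4).val = (x3 ^ (e 3).val)⁻¹ * ((x2 ^ (e 2).val)⁻¹ * ((x1 ^ (e 1).val)⁻¹ *
          ((x0 ^ (e 0).val)⁻¹ * l.prod))) := by rw [hprod]; group
      rw [this]
      refine Subgroup.mul_mem H4 (Subgroup.inv_mem H4 (Subgroup.pow_mem H4 hx3H4 _)) ?_
      refine Subgroup.mul_mem H4 (Subgroup.inv_mem H4 (Subgroup.pow_mem H4 (h34 hx2H3) _)) ?_
      refine Subgroup.mul_mem H4 (Subgroup.inv_mem H4 (Subgroup.pow_mem H4 (h34 (h23 hx1H2)) _)) ?_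
      refine Subgroup.mul_mem H4 (Subgroup.inv_mem H4
        (Subgroup.pow_mem H4 (h34 (h23 (h12 hx0H1))) _)) (hZ4' hPZ)
    rw [hv, pow_one] at hmem
    exact hx4 hmem
  have he3 : e 3 = 0 := by
    by_contra h
    have hv := hval _ h
    have hmem : x3 ^ (e 3).val ∈ H3 := by
      have : x3 ^ (e 3).val = ((x2 ^ (e 2).val)⁻¹ * ((x1 ^ (e 1).val)⁻¹ *
          ((x0 ^ (e 0).val)⁻¹ * l.prod))) := by
        rw [hprod, he4]; simp only [ZMod.val_zero, pow_zero]; group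
      rw [this]
      refine Subgroup.mul_mem H3 (Subgroup.inv_mem H3 (Subgroup.pow_mem H3 hx2H3 _)) ?_
      refine Subgroup.mul_mem H3 (Subgroup.inv_mem H3 (Subgroup.pow_mem H3 (h23 hx1H2) _)) ?_
      refine Subgroup.mul_mem H3 (Subgroup.inv_mem H3
        (Subgroup.pow_mem H3 (h23 (h12 hx0H1)) _)) (hZ3 hPZ)
    rw [hv, pow_one] at hmem
    exact hx3 hmem
  have he2' : e 2 = 0 := by
    by_contra h
    have hv := hval _ h
    have hmem : x2 ^ (e 2).val ∈ H2 := by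
      have : x2 ^ (e 2).val = ((x1 ^ (e 1).val)⁻¹ * ((x0 ^ (e 0).val)⁻¹ * l.prod)) := by
        rw [hprod, he4, he3]; simp only [ZMod.val_zero, pow_zero]; group
      rw [this]
      refine Subgroup.mul_mem H2 (Subgroup.inv_mem H2 (Subgroup.pow_mem H2 hx1H2 _)) ?_
      refine Subgroup.mul_mem H2 (Subgroup.inv_mem H2
        (Subgroup.pow_mem H2 (h12 hx0H1) _)) (hZ2' hPZ)
    rw [hv, pow_one] at hmem
    exact hx2 hmem
  have he1' : e 1 = 0 := by
    by_contra h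
    have hv := hval _ h
    have hmem : x1 ^ (e 1).val ∈ H1 := by
      have : x1 ^ (e 1).val = ((x0 ^ (e 0).val)⁻¹ * l.prod) := by
        rw [hprod, he4, he3, he2']; simp only [ZMod.val_zero, pow_zero]; group
      rw [this]
      refine Subgroup.mul_mem H1 (Subgroup.inv_mem H1
        (Subgroup.pow_mem H1 hx0H1 _)) (hZ1 hPZ)
    rw [hv, pow_one] at hmem
    exact hx1 hmem
  have he0 : e 0 = 0 := by
    by_contra h
    have hv := hval _ h
    have hmem : x0 ^ (e 0).val ∈ Z := by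
      have : x0 ^ (e 0).val = l.prod := by
        rw [hprod, he4, he3, he2', he1']; simp only [ZMod.val_zero, pow_zero]; group
      rw [this]
      exact hPZ
    rw [hv, pow_one] at hmem
    exact hx0 hmem
  apply hne
  funext i
  fin_cases i
  · exact he0
  · exact he1'
  · exact he2'
  · exact he3
  · exact he4

end bound

end Cfsg.Agent.Lib.Helper9
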