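import Mathlib
import Cfsg.Agent.Lib.Helper9.R2B

set_option autoImplicit false

/-! Rank-two 2-groups with an automorphism permuting the involutions transitively:
commutator calculus and the subgroup `E`. -/

namespace Cfsg.Agent.Lib.Helper9

section rcalc
variable {T : Type*} [Group T]

/-- commutator -/
def r2c (a b : T) : T := a * b * a⁻¹ * b⁻¹

theorem r2c_symm (a b : T) : r2c b a = (r2c a b)⁻¹ := by
  unfold r2c; group

theorem r2c_map (α : MulAut T) (a b : T) : α (r2c a b) = r2c (α a) (α b) := by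
  unfold r2c; simp only [map_mul, map_inv]

theorem r2c_eq_one_iff (a b : T) : r2c a b = 1 ↔ a * b = b * a := by
  unfold r2c
  constructor
  · intro h
    have : a * b = (a * b * a⁻¹ * b⁻¹) * (b * a) := by group
    rw [this, h, one_mul]
  · intro h
    have : a * b * a⁻¹ * b⁻¹ = (a * b) * (b * a)⁻¹ := by group
    rw [this, h, mul_inv_cancel]

theorem r2c_conj (a b : T) : a * b * a⁻¹ = r2c a b * b := by
  unfold r2c; group

theorem r2c_mul_left (a b t : T) (hb : r2c b t ∈ Subgroup.center T) :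
    r2c (a * b) t = r2c a t * r2c b t := by
  have hc := Subgroup.mem_center_iff.mp hb
  have e : r2c (a * b) t = a * (r2c b t) * t * a⁻¹ * t⁻¹ := by
    unfold r2c; group
  rw [e, hc a, hc (r2c a t)]
  unfold r2c; group

theorem r2c_mul_right (a t s : T) (hs : r2c a s ∈ Subgroup.center T) :
    r2c a (t * s) = r2c a t * r2c a s := by
  have hc := Subgroup.mem_center_iff.mp hs
  have e : r2c a (t * s) = r2c a t * (t * r2c a s) * t⁻¹ := by
    unfold r2c; group
  rw [e, hc t]
  group

theorem r2c_inv_left (a t : T) (ha : r2c a t ∈ Subgroup.center T) :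
    r2c a⁻¹ t = (r2c a t)⁻¹ := by
  have hc' : (r2c a t)⁻¹ ∈ Subgroup.center T := Subgroup.inv_mem _ ha
  have hc := Subgroup.mem_center_iff.mp hc'
  have e : r2c a⁻¹ t = a⁻¹ * (r2c a t)⁻¹ * a := by
    unfold r2c; group
  rw [e, hc a⁻¹]
  group

theorem r2c_inv_right (a t : T) (ha : r2c a t ∈ Subgroup.center T) :
    r2c a t⁻¹ = (r2c a t)⁻¹ := by
  have hc' : (r2c a t)⁻¹ ∈ Subgroup.center T := Subgroup.inv_mem _ ha
  have hc := Subgroup.mem_center_iff.mp hc'
  have e : r2c a t⁻¹ = t⁻¹ * (r2c a t)⁻¹ * t := by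
    unfold r2c; group
  rw [e, hc t⁻¹]
  group

/-- `(a b)² = [b,a] a² b²` when `[b,a]` is central -/
theorem r2_sq_mul (a b : T) (h : r2c b a ∈ Subgroup.center T) :
    (a * b) ^ 2 = r2c b a * a ^ 2 * b ^ 2 := by
  have hc := Subgroup.mem_center_iff.mp h
  have e : (a * b) ^ 2 = a * (r2c b a) * a * b * b := by
    unfold r2c; rw [pow_two]; group
  rw [e, hc a, pow_two, pow_two]
  group

end rcalc

section E
variable {T : Type*} [Group T]

/-- the second centre -/
def r2W (T : Type*) [Group T] : Subgroup T where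
  carrier := {x | ∀ t : T, r2c x t ∈ Subgroup.center T}
  one_mem' := by
    intro t
    have : r2c (1 : T) t = 1 := by unfold r2c; group
    rw [this]; exact Subgroup.one_mem _
  mul_mem' := by
    intro a b ha hb t
    rw [r2c_mul_left a b t (hb t)]
    exact Subgroup.mul_mem _ (ha t) (hb t)
  inv_mem' := by
    intro a ha t
    rw [r2c_inv_left a t (ha t)]
    exact Subgroup.inv_mem _ (ha t)

theorem r2_mem_W (x : T) : x ∈ r2W T ↔ ∀ t : T, r2c x t ∈ Subgroup.center T := Iff.rfl

theorem r2_center_le_W : Subgroup.center T ≤ r2W T := by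
  intro x hx t
  have : r2c x t = 1 := by
    rw [r2c_eq_one_iff]
    exact ((Subgroup.mem_center_iff.mp hx) t).symm
  rw [this]; exact Subgroup.one_mem _

/-- elements of the second centre whose square is central -/
def r2E (T : Type*) [Group T] : Subgroup T where
  carrier := {x | x ∈ r2W T ∧ x ^ 2 ∈ Subgroup.center T}
  one_mem' := ⟨Subgroup.one_mem _, by rw [one_pow]; exact Subgroup.one_mem _⟩
  mul_mem' := by
    rintro a b ⟨ha, ha2⟩ ⟨hb, hb2⟩
    refine ⟨Subgroup.mul_mem _ ha hb, ?_⟩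
    rw [r2_sq_mul a b (hb a)]
    exact Subgroup.mul_mem _ (Subgroup.mul_mem _ (hb a) ha2) hb2
  inv_mem' := by
    rintro a ⟨ha, ha2⟩
    refine ⟨Subgroup.inv_mem _ ha, ?_⟩
    rw [inv_pow]
    exact Subgroup.inv_mem _ ha2

theorem r2_mem_E (x : T) : x ∈ r2E T ↔ (∀ t : T, r2c x t ∈ Subgroup.center T) ∧
    x ^ 2 ∈ Subgroup.center T := Iff.rfl

theorem r2_center_le_E : Subgroup.center T ≤ r2E T := by
  intro x hx
  exact ⟨r2_center_le_W hx, Subgroup.pow_mem _ hx 2⟩

/-- commutators with elements of `E` have order at most two -/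
theorem r2_E_comm_sq (x : T) (hx : x ∈ r2E T) (t : T) : (r2c x t) ^ 2 = 1 := by
  have hc := hx.1 t
  have hcc := Subgroup.mem_center_iff.mp hc
  have hx2 := Subgroup.mem_center_iff.mp hx.2
  -- x t x⁻¹ = c t ; x² t x⁻² = c² t
  have e1 : x * t * x⁻¹ = r2c x t * t := r2c_conj x t
  have e2 : x ^ 2 * t * (x ^ 2)⁻¹ = (r2c x t) ^ 2 * t := by
    have : x ^ 2 * t * (x ^ 2)⁻¹ = x * (x * t * x⁻¹) * x⁻¹ := by rw [pow_two]; group
    rw [this, e1]
    have : x * (r2c x t * t) * x⁻¹ = (x * r2c x t) * t * x⁻¹ := by group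
    rw [this, hcc x]
    have : r2c x t * x * t * x⁻¹ = r2c x t * (x * t * x⁻¹) := by group
    rw [this, e1, pow_two]; group
  have e3 : x ^ 2 * t * (x ^ 2)⁻¹ = t := by
    rw [← hx2 t]; group
  rw [e3] at e2
  have := congrArg (fun y => y * t⁻¹) e2
  simp only [mul_inv_cancel, mul_inv_cancel_right] at this
  exact this.symm

theorem r2_E_comm_om (x : T) (hx : x ∈ r2E T) (t : T) : r2c x t ∈ r2Om T :=
  ⟨hx.1 t, r2_E_comm_sq x hx t⟩

variable [Finite T] {α : MulAut T}

theorem r2Inv_W : r2Inv α (r2W T) := by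
  intro x hx t
  obtain ⟨t', rfl⟩ := α.surjective t
  rw [← r2c_map]
  exact r2Inv_center _ (hx t')

theorem r2Inv_E : r2Inv α (r2E T) := by
  intro x hx
  refine ⟨r2Inv_W x hx.1, ?_⟩
  rw [← map_pow]
  exact r2Inv_center _ hx.2

end E

section om
variable {T : Type*} [Group T] [Finite T] {α : MulAut T}

theorem r2_om_elems (h : R2Hyp T α) (z : T) (hz : z ∈ r2Om T) (hz1 : z ≠ 1) (w : T)
    (hw : w ∈ r2Om T) : w = 1 ∨ w = z ∨ w = α z ∨ w = z * α z := by
  classical
  have haz : α z ∈ r2Om T := r2Inv_om z hz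
  have hzaz : z * α z ∈ r2Om T := Subgroup.mul_mem _ hz haz
  have h1 : α z ≠ z := fun hh => hz1 (h.nfx z hz.2 hh)
  have h2 : α z ≠ 1 := fun hh => hz1 (by
    apply α.injective; rw [hh, map_one])
  have h3 : z * α z ≠ 1 := by
    intro hh
    have : α z = z⁻¹ := eq_inv_of_mul_eq_one_right hh
    rw [r2_om_inv z hz] at this
    exact h1 this
  have h4 : z * α z ≠ z := by
    intro hh
    have : α z = 1 := by
      have := congrArg (fun y => z⁻¹ * y) hh
      simpa using this
    exact h2 this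
  have h5 : z * α z ≠ α z := by
    intro hh
    have : z = 1 := by
      have := congrArg (fun y => y * (α z)⁻¹) hh
      simpa using this
    exact hz1 this
  let K : Finset T := {1, z, α z, z * α z}
  have hK : K.card = 4 := by
    have e1 : (z * α z) ∉ (∅ : Finset T) := by simp
    simp only [K]
    rw [Finset.card_insert_of_notMem, Finset.card_insert_of_notMem, Finset.card_insert_of_notMem,
      Finset.card_singleton]
    · simp only [Finset.mem_singleton]; exact fun hh => h5 hh.symm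
    · simp only [Finset.mem_insert, Finset.mem_singleton, not_or]
      exact ⟨fun hh => h1 hh.symm, fun hh => h4 hh.symm⟩
    · simp only [Finset.mem_insert, Finset.mem_singleton, not_or]
      exact ⟨fun hh => hz1 hh.symm, fun hh => h2 hh.symm, fun hh => h3 hh.symm⟩
  have hsub : (K : Set T) ⊆ (r2Om T : Set T) := by
    intro k hk
    simp only [K, Finset.coe_insert, Finset.coe_singleton, Set.mem_insert_iff,
      Set.mem_singleton_iff] at hk
    rcases hk with rfl | rfl | rfl | rfl
    · exact Subgroup.one_mem _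
    · exact hz
    · exact haz
    · exact hzaz
  have hcard : (r2Om T : Set T).ncard ≤ (K : Set T).ncard := by
    rw [Set.ncard_coe_finset, hK, ← Nat.card_coe_set_eq]
    exact le_of_eq (r2_card_om h)
  have heq := Set.eq_of_subset_of_ncard_le hsub hcard (Set.toFinite _)
  have hwK : w ∈ (K : Set T) := by rw [heq]; exact hw
  simp only [K, Finset.coe_insert, Finset.coe_singleton, Set.mem_insert_iff,
    Set.mem_singleton_iff] at hwK
  exact hwK

theorem r2_om_alpha_sq (h : R2Hyp T α) (z : T) (hz : z ∈ r2Om T) : α (α z) = z * α z := by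
  by_cases hz1 : z = 1
  · rw [hz1]; simp
  have haz : α z ∈ r2Om T := r2Inv_om z hz
  have haaz : α (α z) ∈ r2Om T := r2Inv_om _ haz
  have h1 : α z ≠ z := fun hh => hz1 (h.nfx z hz.2 hh)
  rcases r2_om_elems h z hz hz1 _ haaz with hh | hh | hh | hh
  · exfalso
    apply hz1
    apply α.injective; apply α.injective
    rw [hh, map_one, map_one]
  · exfalso
    -- α² z = z: then z * α z is fixed
    have hfix : α (z * α z) = z * α z := by
      rw [map_mul, hh]
      exact r2_om_central _ haz z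
    have := h.nfx _ (Subgroup.mul_mem _ hz haz).2 hfix
    have h2 : α z = z⁻¹ := eq_inv_of_mul_eq_one_right this
    rw [r2_om_inv z hz] at h2
    exact h1 h2
  · exfalso
    exact h1 (α.injective hh)
  · exact hh

theorem r2_om_alpha_cube (h : R2Hyp T α) (z : T) (hz : z ∈ r2Om T) : α (α (α z)) = z := by
  have haz : α z ∈ r2Om T := r2Inv_om z hz
  rw [r2_om_alpha_sq h z hz, map_mul, r2_om_alpha_sq h z hz]
  have h2 : α z * α z = 1 := by rw [← pow_two]; exact haz.2
  rw [r2_om_central _ haz, mul_assoc, h2, mul_one]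

/-- `α³` (as an automorphism) -/
theorem r2_cube_pow (α : MulAut T) (k : ℕ) (hk : α ^ (3 ^ k) = 1) : (α ^ 3) ^ (3 ^ k) = 1 := by
  rw [← pow_mul, mul_comm, pow_mul, hk, one_pow]

theorem r2_cube_apply (α : MulAut T) (x : T) : (α ^ 3) x = α (α (α x)) := by
  rw [pow_succ, pow_two]; rfl

end om

section existsE
variable {T : Type*} [Group T] [Finite T]

theorem r2_exists_W (hp : IsPGroup 2 T) (hna : ∃ a b : T, a * b ≠ b * a) :
    ∃ x ∈ r2W T, x ∉ Subgroup.center T := by
  haveI : Fact (Nat.Prime 2) := ⟨Nat.prime_two⟩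
  have hQ : IsPGroup 2 (T ⧸ Subgroup.center T) := hp.to_quotient _
  haveI : Nontrivial (T ⧸ Subgroup.center T) := by
    by_contra hnt
    rw [not_nontrivial_iff_subsingleton] at hnt
    obtain ⟨a, b, hab⟩ := hna
    apply hab
    have ha : (QuotientGroup.mk a : T ⧸ Subgroup.center T) = 1 := Subsingleton.elim _ _
    rw [QuotientGroup.eq_one_iff] at ha
    exact ((Subgroup.mem_center_iff.mp ha) b).symm
  haveI : Nontrivial (Subgroup.center (T ⧸ Subgroup.center T)) := hQ.center_nontrivial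
  obtain ⟨q, hq⟩ := exists_ne (1 : Subgroup.center (T ⧸ Subgroup.center T))
  obtain ⟨x, hx⟩ := QuotientGroup.mk_surjective (q : T ⧸ Subgroup.center T)
  refine ⟨x, ?_, ?_⟩
  · intro t
    rw [← QuotientGroup.eq_one_iff]
    have hqc := Subgroup.mem_center_iff.mp q.2 (QuotientGroup.mk t)
    unfold r2c
    rw [QuotientGroup.mk_mul, QuotientGroup.mk_mul, QuotientGroup.mk_mul, QuotientGroup.mk_inv,
      QuotientGroup.mk_inv, hx, ← hqc]
    group
  · intro hxc
    apply hq
    apply Subtype.ext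
    rw [← hx]
    exact (QuotientGroup.eq_one_iff x).mpr hxc

theorem r2_exists_E (hp : IsPGroup 2 T) (hna : ∃ a b : T, a * b ≠ b * a) :
    ∃ g ∈ r2E T, g ∉ Subgroup.center T := by
  classical
  obtain ⟨x, hxW, hxc⟩ := r2_exists_W hp hna
  obtain ⟨n, hn⟩ := hp x
  have hex : ∃ m : ℕ, x ^ (2 ^ m) ∈ Subgroup.center T := ⟨n, by rw [hn]; exact Subgroup.one_mem _⟩
  let m := Nat.find hex
  have hm : x ^ (2 ^ m) ∈ Subgroup.center T := Nat.find_spec hex
  have hm0 : m ≠ 0 := by
    intro h0
    rw [h0, pow_zero, pow_one] at hm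
    exact hxc hm
  obtain ⟨j, hj⟩ := Nat.exists_eq_succ_of_ne_zero hm0
  refine ⟨x ^ (2 ^ j), ⟨Subgroup.pow_mem _ hxW _, ?_⟩, ?_⟩
  · rw [← pow_mul, ← pow_succ, ← Nat.succ_eq_add_one, ← hj]; exact hm
  · intro h1
    have := Nat.find_min' hex h1
    omega

end existsE

end Cfsg.Agent.Lib.Helper9
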