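import Mathlib
import Cfsg.Agent.Lib.Helper9.R2C

set_option autoImplicit false

/-! Finding an element of `E` outside the centre fixed by `α³`. -/

namespace Cfsg.Agent.Lib.Helper9

section beta
variable {T : Type*} [Group T] [Finite T] {α : MulAut T}

/-- `α³` fixes the centre pointwise -/
theorem r2_beta_comm (h : R2Hyp T α) (S : Subgroup T) (hS : r2Inv α S)
    (hc : ∀ a ∈ S, ∀ b ∈ S, a * b = b * a) (g : T) (hg : g ∈ S) : α (α (α g)) = g := by
  obtain ⟨k, hk⟩ := h.a3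
  have := r2_triv_comm h (α ^ 3) k (r2_cube_pow α k hk)
    (fun z hz => by
      rw [r2_cube_apply]
      exact r2_om_alpha_cube h z ((r2_mem_om h z).mpr hz))
    S hc (r2Inv_pow hS 3) g hg
  rwa [r2_cube_apply] at this

theorem r2_beta_center (h : R2Hyp T α) (g : T) (hg : g ∈ Subgroup.center T) :
    α (α (α g)) = g :=
  r2_beta_comm h _ r2Inv_center
    (fun a _ b hb => ((Subgroup.mem_center_iff.mp hb) a)) g hg

/-- squares of central elements -/
def r2Ysq (T : Type*) [Group T] : Subgroup T where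
  carrier := {w | ∃ y ∈ Subgroup.center T, y ^ 2 = w}
  one_mem' := ⟨1, Subgroup.one_mem _, one_pow 2⟩
  mul_mem' := by
    rintro a b ⟨y, hy, rfl⟩ ⟨y', hy', rfl⟩
    refine ⟨y * y', Subgroup.mul_mem _ hy hy', ?_⟩
    have hc : Commute y y' := (Subgroup.mem_center_iff.mp hy' y)
    exact hc.mul_pow 2
  inv_mem' := by
    rintro a ⟨y, hy, rfl⟩
    exact ⟨y⁻¹, Subgroup.inv_mem _ hy, inv_pow y 2⟩

theorem r2Inv_Ysq : r2Inv α (r2Ysq T) := by
  rintro w ⟨y, hy, rfl⟩
  exact ⟨α y, r2Inv_center y hy, (map_pow α y 2).symm⟩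

theorem r2_om_le_Ysq (h : R2Hyp T α) (y : T) (hy : y ∈ Subgroup.center T) (hy2 : y ^ 2 ≠ 1) :
    r2Om T ≤ r2Ysq T := by
  apply r2_om_le h _ r2Inv_Ysq
  intro hbot
  have : y ^ 2 ∈ r2Ysq T := ⟨y, hy, rfl⟩
  rw [hbot, Subgroup.mem_bot] at this
  exact hy2 this

end beta

section caseA
variable {T : Type*} [Group T] [Finite T] {α : MulAut T}

theorem r2_findx_A (h : R2Hyp T α) (g : T) (hgE : g ∈ r2E T) (hgY : g ∉ Subgroup.center T)
    (y : T) (hy : y ∈ Subgroup.center T) (hy2 : y ^ 2 ≠ 1) :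
    ∃ x ∈ r2E T, x ∉ Subgroup.center T ∧ α (α (α x)) = x := by
  obtain ⟨k, hk⟩ := h.a3
  have hOY := r2_om_le_Ysq h y hy hy2
  have hOc : r2Om T ≤ Subgroup.center T := fun z hz => hz.1
  let X : Set T := {u | u ∈ r2E T ∧ u ^ 2 = g ^ 2}
  have hg2 : g ^ 2 ∈ Subgroup.center T := hgE.2
  have hX : ∀ u, (α ^ 3) u ∈ X ↔ u ∈ X := by
    intro u
    show ((α ^ 3) u ∈ r2E T ∧ ((α ^ 3) u) ^ 2 = g ^ 2) ↔ (u ∈ r2E T ∧ u ^ 2 = g ^ 2)
    rw [r2Inv_iff (r2Inv_pow r2Inv_E 3)]
    have e : (α ^ 3) (g ^ 2) = g ^ 2 := by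
      rw [r2_cube_apply]; exact r2_beta_center h _ hg2
    constructor
    · rintro ⟨h1, h2⟩
      refine ⟨h1, ?_⟩
      apply (α ^ 3).injective
      rw [map_pow, h2, e]
    · rintro ⟨h1, h2⟩
      refine ⟨h1, ?_⟩
      rw [← map_pow, h2, e]
  have hXmem : ∀ u ∈ X, g⁻¹ * u ∈ r2Om T := by
    rintro u ⟨huE, hu2⟩
    set d := g⁻¹ * u with hd
    have hdE : d ∈ r2E T := Subgroup.mul_mem _ (Subgroup.inv_mem _ hgE) huE
    have hu : u = g * d := by rw [hd]; group
    have hsq := r2_sq_mul g d (hdE.1 g)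
    rw [← hu, hu2] at hsq
    -- g² = c g² d²  ⇒ d² = c⁻¹
    have hcz := Subgroup.mem_center_iff.mp hg2
    have hd2 : d ^ 2 = (r2c d g)⁻¹ := by
      have e1 : g ^ 2 = g ^ 2 * (r2c d g * d ^ 2) := by
        rw [← mul_assoc, ← hcz (r2c d g)]; exact hsq
      have e2 : r2c d g * d ^ 2 = 1 := by
        have := congrArg (fun y => (g ^ 2)⁻¹ * y) e1
        simpa using this.symm
      exact eq_inv_of_mul_eq_one_right e2
    have hd2om : d ^ 2 ∈ r2Om T := by
      rw [hd2]; exact Subgroup.inv_mem _ (r2_E_comm_om d hdE g)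
    obtain ⟨w, hw, hw2⟩ := hOY hd2om
    have hcw : Commute d w⁻¹ :=
      (Subgroup.mem_center_iff.mp (Subgroup.inv_mem _ hw) d)
    have hdw : (d * w⁻¹) ^ 2 = 1 := by
      rw [hcw.mul_pow, inv_pow, hw2, mul_inv_cancel]
    have hdwO : d * w⁻¹ ∈ r2Om T := (r2_mem_om h _).mpr hdw
    have hdY : d ∈ Subgroup.center T := by
      have : d = (d * w⁻¹) * w := by group
      rw [this]
      exact Subgroup.mul_mem _ (hOc hdwO) hw
    have hc1 : r2c d g = 1 := by
      rw [r2c_eq_one_iff]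
      exact ((Subgroup.mem_center_iff.mp hdY) g).symm
    rw [hc1, inv_one] at hd2
    exact (r2_mem_om h _).mpr hd2
  have hcard : Nat.card X = 4 := by
    rw [← r2_card_om h]
    apply Nat.card_congr
    exact
      { toFun := fun u => ⟨g⁻¹ * u.1, hXmem u.1 u.2⟩
        invFun := fun z => ⟨g * z.1, by
          refine ⟨Subgroup.mul_mem _ hgE (r2_center_le_E (hOc z.2)), ?_⟩
          have hc : Commute g z.1 := (r2_om_central z.1 z.2 g).symm
          rw [hc.mul_pow, r2_om_sq z.1 z.2, mul_one]⟩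
        left_inv := fun u => Subtype.ext (by simp)
        right_inv := fun z => Subtype.ext (by simp) }
  obtain ⟨x, hxX, hfix⟩ := r2_exists_fixed (α ^ 3) k (r2_cube_pow α k hk) X hX
    (by rw [hcard]; norm_num)
  refine ⟨x, hxX.1, ?_, by rwa [r2_cube_apply] at hfix⟩
  intro hxY
  apply hgY
  have h1 := hOc (hXmem x hxX)
  have : g = x * (g⁻¹ * x)⁻¹ := by group
  rw [this]
  exact Subgroup.mul_mem _ hxY (Subgroup.inv_mem _ h1)

end caseA

section caseB
variable {T : Type*} [Group T] [Finite T] {α : MulAut T}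

theorem r2_card_E_B (h : R2Hyp T α) (hY : ∀ y ∈ Subgroup.center T, y ^ 2 = 1)
    (g : T) (hgE : g ∈ r2E T) (hgY : g ∉ Subgroup.center T) :
    Nat.card (r2E T) = 16 ∨ Nat.card (r2E T) = 64 := by
  haveI : Fact (Nat.Prime 2) := ⟨Nat.prime_two⟩
  have hOc : r2Om T ≤ Subgroup.center T := fun z hz => hz.1
  have hcO : Subgroup.center T ≤ r2Om T := fun y hy => ⟨hy, hY y hy⟩
  have hOE : r2Om T ≤ r2E T := hOc.trans r2_center_le_E
  have hle : Nat.card (r2E T) ≤ 64 := by
    apply r2_cw_bound (r2Om T) (r2E T)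
    · intro z hz t; exact r2_om_central z hz t
    · intro u hu; exact hcO hu.2
    · intro u hu v _; exact r2_E_comm_om u hu v
    · intro z hz; exact hz.2
    · exact r2_card_om h
    · exact hOE
    · intro u _ hu2; exact (r2_mem_om h u).mpr hu2
  have hmod := r2_card_mod3 h _ (r2Inv_E (α := α))
  obtain ⟨n, hn⟩ := (h.pg.to_subgroup (r2E T)).exists_card_eq
  have hgt : 4 < Nat.card (r2E T) := by
    by_contra hcon
    push Not at hcon
    have heq : r2Om T = r2E T :=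
      Subgroup.eq_of_le_of_card_ge hOE (by rw [r2_card_om h]; exact hcon)
    apply hgY
    apply hOc
    rw [heq]; exact hgE
  rw [hn] at hle hmod hgt ⊢
  have hn6 : n ≤ 6 := by
    by_contra hcon
    push Not at hcon
    have : 2 ^ 7 ≤ 2 ^ n := Nat.pow_le_pow_right (by norm_num) hcon
    omega
  interval_cases n <;> simp_all

theorem r2_findx_B (h : R2Hyp T α) (hY : ∀ y ∈ Subgroup.center T, y ^ 2 = 1)
    (g : T) (hgE : g ∈ r2E T) (hgY : g ∉ Subgroup.center T) :
    ∃ x ∈ r2E T, x ∉ Subgroup.center T ∧ α (α (α x)) = x := by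
  obtain ⟨k, hk⟩ := h.a3
  have hOc : r2Om T ≤ Subgroup.center T := fun z hz => hz.1
  have hcO : Subgroup.center T ≤ r2Om T := fun y hy => ⟨hy, hY y hy⟩
  have hOE : r2Om T ≤ r2E T := hOc.trans r2_center_le_E
  have hcardE := r2_card_E_B h hY g hgE hgY
  set z := g ^ 2 with hz
  have hzO : z ∈ r2Om T := hcO hgE.2
  have hz1 : z ≠ 1 := by
    intro h1
    exact hgY (hOc ((r2_mem_om h g).mpr h1))
  let X : Set T := {u | u ∈ r2E T ∧ u ^ 2 = z}
  let D : Set T := {u | u ∈ r2E T ∧ u ∉ r2Om T}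
  -- the three values
  have hpow0 : (α ^ (0 : ℕ)) z = z := by simp
  have hpow1 : (α ^ (1 : ℕ)) z = α z := by simp
  have hpow2 : (α ^ (2 : ℕ)) z = z * α z := by
    rw [pow_two, MulAut.mul_apply]; exact r2_om_alpha_sq h z hzO
  have haz : α z ∈ r2Om T := r2Inv_om z hzO
  have h1 : α z ≠ z := fun hh => hz1 (h.nfx z hzO.2 hh)
  have h2 : α z ≠ 1 := fun hh => hz1 (by apply α.injective; rw [hh, map_one])
  have h4 : z * α z ≠ z := by
    intro hh
    have : α z = 1 := by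
      have := congrArg (fun y => z⁻¹ * y) hh
      simpa using this
    exact h2 this
  have h5 : z * α z ≠ α z := by
    intro hh
    have : z = 1 := by
      have := congrArg (fun y => y * (α z)⁻¹) hh
      simpa using this
    exact hz1 this
  have hpow_ne : ∀ i : Fin 3, (α ^ (i : ℕ)) z ≠ 1 := by
    intro i hh
    apply hz1
    apply (α ^ (i : ℕ)).injective
    rw [hh, map_one]
  have hpow_inj : ∀ i j : Fin 3, (α ^ (i : ℕ)) z = (α ^ (j : ℕ)) z → i = j := by
    intro i j hij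
    fin_cases i <;> fin_cases j <;> simp only [Fin.zero_eta, Fin.mk_one, Fin.reduceFinMk,
      Fin.val_zero, Fin.val_one, Fin.val_two, hpow0, hpow1, hpow2] at hij ⊢
    · exact absurd hij.symm h1
    · exact absurd hij.symm h4
    · exact absurd hij h1
    · exact absurd hij.symm h5
    · exact absurd hij h4
    · exact absurd hij h5
  -- bijection X × Fin 3 ≃ D
  have hF : ∀ (u : X) (i : Fin 3), (α ^ (i : ℕ)) u.1 ∈ D := by
    intro u i
    refine ⟨r2Inv_pow r2Inv_E _ _ u.2.1, ?_⟩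
    intro hO
    have := hO.2
    rw [← map_pow, u.2.2] at this
    exact hpow_ne i this
  have hcardD : Nat.card D = 3 * Nat.card X := by
    have e : X × Fin 3 ≃ D := by
      apply Equiv.ofBijective (fun p => (⟨(α ^ (p.2 : ℕ)) p.1.1, hF p.1 p.2⟩ : D))
      constructor
      · rintro ⟨u, i⟩ ⟨v, j⟩ huv
        have huv' : (α ^ (i : ℕ)) u.1 = (α ^ (j : ℕ)) v.1 := congrArg Subtype.val huv
        have hsq := congrArg (fun y => y ^ 2) huv'
        simp only [← map_pow, u.2.2, v.2.2] at hsq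
        have hij := hpow_inj i j hsq
        subst hij
        have : u.1 = v.1 := (α ^ (i : ℕ)).injective huv'
        exact Prod.ext (Subtype.ext this) rfl
      · rintro ⟨d, hdE, hdO⟩
        have hd2 : d ^ 2 ∈ r2Om T := hcO hdE.2
        have hd21 : d ^ 2 ≠ 1 := fun hh => hdO ((r2_mem_om h d).mpr hh)
        have hi : ∃ i : Fin 3, d ^ 2 = (α ^ (i : ℕ)) z := by
          rcases r2_om_elems h z hzO hz1 _ hd2 with hh | hh | hh | hh
          · exact absurd hh hd21
          · exact ⟨0, by rw [hh]; simp⟩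
          · exact ⟨1, by rw [hh]; simp⟩
          · exact ⟨2, by rw [hh]; exact hpow2.symm⟩
        obtain ⟨i, hi⟩ := hi
        have hu : (α ^ (i : ℕ))⁻¹ d ∈ X := by
          refine ⟨r2Inv_inv (r2Inv_pow r2Inv_E _) d hdE, ?_⟩
          rw [← map_pow, hi]
          simp
        refine ⟨(⟨(α ^ (i : ℕ))⁻¹ d, hu⟩, i), ?_⟩
        apply Subtype.ext
        simp
    rw [← Nat.card_congr e, Nat.card_prod, Nat.card_fin, mul_comm]
  have hcardD' : Nat.card D + 4 = Nat.card (r2E T) := by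
    have e1 : Nat.card D = (D : Set T).ncard := Nat.card_coe_set_eq _
    have e2 : Nat.card (r2E T) = ((r2E T : Subgroup T) : Set T).ncard := Nat.card_coe_set_eq _
    have e3 : Nat.card (r2Om T) = ((r2Om T : Subgroup T) : Set T).ncard := Nat.card_coe_set_eq _
    have hD : D = ((r2E T : Subgroup T) : Set T) \ ((r2Om T : Subgroup T) : Set T) := rfl
    have hsub : ((r2Om T : Subgroup T) : Set T) ⊆ ((r2E T : Subgroup T) : Set T) := hOE
    have := Set.ncard_sdiff_add_ncard_of_subset hsub (Set.toFinite _)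
    rw [e1, e2, hD, ← this, ← e3, r2_card_om h]
  have hX : ∀ u, (α ^ 3) u ∈ X ↔ u ∈ X := by
    intro u
    show ((α ^ 3) u ∈ r2E T ∧ ((α ^ 3) u) ^ 2 = z) ↔ (u ∈ r2E T ∧ u ^ 2 = z)
    rw [r2Inv_iff (r2Inv_pow r2Inv_E 3)]
    have e : (α ^ 3) z = z := by
      rw [r2_cube_apply]; exact r2_om_alpha_cube h z hzO
    constructor
    · rintro ⟨h1, h2⟩
      refine ⟨h1, ?_⟩
      apply (α ^ 3).injective
      rw [map_pow, h2, e]
    · rintro ⟨h1, h2⟩
      refine ⟨h1, ?_⟩
      rw [← map_pow, h2, e]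
  have hnd : ¬ 3 ∣ Nat.card X := by
    rcases hcardE with hE | hE <;> rw [hE] at hcardD' <;> omega
  obtain ⟨x, hxX, hfix⟩ := r2_exists_fixed (α ^ 3) k (r2_cube_pow α k hk) X hX hnd
  refine ⟨x, hxX.1, ?_, by rwa [r2_cube_apply] at hfix⟩
  intro hxY
  have := (hcO hxY).2
  rw [hxX.2] at this
  exact hz1 this

theorem r2_findx (h : R2Hyp T α) (hna : ∃ a b : T, a * b ≠ b * a) :
    ∃ x ∈ r2E T, x ∉ Subgroup.center T ∧ α (α (α x)) = x := by
  obtain ⟨g, hgE, hgY⟩ := r2_exists_E h.pg hna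
  by_cases hY : ∀ y ∈ Subgroup.center T, y ^ 2 = 1
  · exact r2_findx_B h hY g hgE hgY
  · push Not at hY
    obtain ⟨y, hy, hy2⟩ := hY
    exact r2_findx_A h g hgE hgY y hy hy2

end caseB

end Cfsg.Agent.Lib.Helper9
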