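import Mathlib
import Cfsg.Agent.Lib.Helper9.R2D

set_option autoImplicit false

/-! The centraliser `C` of `x` and `α x` and its first properties. -/

namespace Cfsg.Agent.Lib.Helper9

universe u

/-- the induction hypothesis -/
def R2IH (n : ℕ) : Prop :=
  ∀ (S : Type u) [Group S] [Finite S] (γ : MulAut S), Nat.card S < n → R2Hyp S γ →
    (∃ a b : S, a * b ≠ b * a) → Nat.card (Subgroup.center S) = 4

section step1
variable {T : Type u} [Group T] [Finite T] {α : MulAut T}

/-- `x · αx · α²x` is central -/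
theorem r2_xyz (h : R2Hyp T α) (x : T) (hxE : x ∈ r2E T) (hbx : α (α (α x)) = x) :
    x * α x * α (α x) ∈ Subgroup.center T := by
  apply r2_coset_fix h _ r2Inv_center
  have hp : α x * α (α x) ∈ r2E T :=
    Subgroup.mul_mem _ (r2Inv_E x hxE) (r2Inv_E _ (r2Inv_E x hxE))
  have hpi : (α x * α (α x))⁻¹ ∈ r2E T := Subgroup.inv_mem _ hp
  have e : (x * α x * α (α x))⁻¹ * α (x * α x * α (α x)) =
      r2c (α x * α (α x))⁻¹ x⁻¹ := by
    simp only [map_mul, hbx]
    unfold r2c; group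
  rw [e]
  exact hpi.1 _

/-- `x` commutes with `α x` -/
theorem r2_xy_comm (h : R2Hyp T α) (x : T) (hxE : x ∈ r2E T) (hbx : α (α (α x)) = x) :
    x * α x = α x * x := by
  rw [← r2c_eq_one_iff]
  have hg := r2_xyz h x hxE hbx
  have hgc := Subgroup.mem_center_iff.mp hg
  have hcO : r2c x (α x) ∈ r2Om T := r2_E_comm_om x hxE _
  have hcc := Subgroup.mem_center_iff.mp hcO.1
  apply h.nfx _ hcO.2
  -- α c = x⁻¹ y⁻¹ x y = c
  set y := α x with hy
  set g := x * y * α y with hgdef
  have hay : α y = y⁻¹ * x⁻¹ * g := by rw [hgdef]; group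
  have e1 : α (r2c x y) = x⁻¹ * y⁻¹ * x * y := by
    rw [r2c_map, ← hy]
    unfold r2c
    rw [hay]
    have : y * (y⁻¹ * x⁻¹ * g) * y⁻¹ * (y⁻¹ * x⁻¹ * g)⁻¹ = x⁻¹ * (g * y⁻¹) * g⁻¹ * x * y := by
      group
    rw [this, ← hgc y⁻¹]
    group
  rw [e1]
  have e2 : x * y = r2c x y * (y * x) := by unfold r2c; group
  have e3 : x⁻¹ * y⁻¹ * x * y = (y * x)⁻¹ * (x * y) := by group
  rw [e3, e2, ← mul_assoc, hcc (y * x)⁻¹]
  group

/-- the centraliser of `x` and `α x` -/
def r2C (α : MulAut T) (x : T) : Subgroup T := Subgroup.centralizer ({x, α x} : Set T)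

theorem r2_mem_C (x c : T) : c ∈ r2C α x ↔ x * c = c * x ∧ α x * c = c * α x := by
  unfold r2C
  rw [Subgroup.mem_centralizer_iff]
  constructor
  · intro hc
    exact ⟨hc x (by simp), hc (α x) (by simp)⟩
  · rintro ⟨h1, h2⟩ k hk
    simp only [Set.mem_insert_iff, Set.mem_singleton_iff] at hk
    rcases hk with rfl | rfl
    · exact h1
    · exact h2

theorem r2Inv_C (h : R2Hyp T α) (x : T) (hxE : x ∈ r2E T) (hbx : α (α (α x)) = x) :
    r2Inv α (r2C α x) := by
  intro c hc
  rw [r2_mem_C] at hc ⊢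
  obtain ⟨h1, h2⟩ := hc
  have hy : Commute (α c) (α x) := by
    show α c * α x = α x * α c
    rw [← map_mul, ← map_mul, h1]
  have hay : Commute (α c) (α (α x)) := by
    show α c * α (α x) = α (α x) * α c
    rw [← map_mul, ← map_mul, h2]
  have hg := r2_xyz h x hxE hbx
  have hgc : Commute (α c) (x * α x * α (α x)) := (Subgroup.mem_center_iff.mp hg (α c))
  have hx_eq : x = (x * α x * α (α x)) * (α (α x))⁻¹ * (α x)⁻¹ := by group
  have hcx : Commute (α c) x := by
    rw [hx_eq]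
    exact (hgc.mul_right hay.inv_right).mul_right hy.inv_right
  exact ⟨hcx.eq.symm, hy.eq.symm⟩

theorem r2_x_mem_C (h : R2Hyp T α) (x : T) (hxE : x ∈ r2E T) (hbx : α (α (α x)) = x) :
    x ∈ r2C α x := by
  rw [r2_mem_C]
  exact ⟨rfl, (r2_xy_comm h x hxE hbx).symm⟩

theorem r2_center_le_C (x : T) : Subgroup.center T ≤ r2C α x := by
  intro c hc
  rw [r2_mem_C]
  have := Subgroup.mem_center_iff.mp hc
  exact ⟨this x, this (α x)⟩

theorem r2_C_ne_top (x : T) (hxY : x ∉ Subgroup.center T) : r2C α x ≠ ⊤ := by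
  intro htop
  apply hxY
  rw [Subgroup.mem_center_iff]
  intro t
  have : t ∈ r2C α x := by rw [htop]; exact Subgroup.mem_top t
  rw [r2_mem_C] at this
  exact this.1.symm

theorem r2_x_central_C (x c : T) (hc : c ∈ r2C α x) : x * c = c * x := ((r2_mem_C x c).mp hc).1

/-- by induction, `C` is commutative -/
theorem r2_C_comm (h : R2Hyp T α) (IH : R2IH.{u} (Nat.card T)) (x : T) (hxE : x ∈ r2E T)
    (hxY : x ∉ Subgroup.center T) (hbx : α (α (α x)) = x) :
    ∀ a ∈ r2C α x, ∀ b ∈ r2C α x, a * b = b * a := by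
  by_contra hcon
  push Not at hcon
  obtain ⟨a, ha, b, hb, hab⟩ := hcon
  have hCinv := r2Inv_C h x hxE hbx
  have hxC := r2_x_mem_C h x hxE hbx
  have hx1 : x ≠ 1 := by
    rintro rfl
    exact hxY (Subgroup.one_mem _)
  have hCne : r2C α x ≠ ⊥ := by
    intro hbot
    rw [hbot, Subgroup.mem_bot] at hxC
    exact hx1 hxC
  have hlt : Nat.card (r2C α x) < Nat.card T := by
    have hle := Subgroup.card_le_card_group (r2C α x)
    rcases lt_or_eq_of_le hle with hl | he
    · exact hl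
    · exact absurd (Subgroup.card_eq_iff_eq_top _ |>.mp he) (r2_C_ne_top x hxY)
  have h4 := IH ↥(r2C α x) (r2res α _ hCinv) hlt (r2_hyp_res h _ hCinv hCne)
    ⟨⟨a, ha⟩, ⟨b, hb⟩, fun hh => hab (congrArg Subtype.val hh)⟩
  -- the image of the centre of C in T
  let K : Subgroup T := (Subgroup.center ↥(r2C α x)).map (r2C α x).subtype
  have hK4 : Nat.card K = 4 := by
    rw [← h4]
    exact Subgroup.card_map_of_injective (Subgroup.subtype_injective _)
  have hmemK : ∀ k ∈ r2C α x, (∀ c ∈ r2C α x, c * k = k * c) → k ∈ K := by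
    intro k hk hkc
    refine ⟨⟨k, hk⟩, ?_, rfl⟩
    rw [SetLike.mem_coe, Subgroup.mem_center_iff]
    intro c
    exact Subtype.ext (hkc c.1 c.2)
  have hOK : r2Om T ≤ K := by
    intro z hz
    apply hmemK z (r2_center_le_C x hz.1)
    intro c _
    exact (r2_om_central z hz c).symm
  have hKO : r2Om T = K := Subgroup.eq_of_le_of_card_ge hOK (by rw [hK4, r2_card_om h])
  have hxK : x ∈ K := hmemK x hxC (fun c hc => (r2_x_central_C x c hc).symm)
  rw [← hKO] at hxK
  exact hxY hxK.1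

end step1

section psi
variable {T : Type u} [Group T] [Finite T] {α : MulAut T}

theorem r2_card_hom {G H : Type*} [Group G] [Group H] [Finite G] (f : G →* H) :
    Nat.card G = Nat.card f.ker * Nat.card f.range := by
  rw [Subgroup.card_eq_card_quotient_mul_card_subgroup f.ker,
    Nat.card_congr (QuotientGroup.quotientKerEquivRange f).toEquiv, mul_comm]

/-- commutation with a fixed element of `E`, as a homomorphism into `Ω` -/
def r2psi (x : T) (hxE : x ∈ r2E T) : T →* ↥(r2Om T) where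
  toFun t := ⟨r2c x t, r2_E_comm_om x hxE t⟩
  map_one' := Subtype.ext (by unfold r2c; simp)
  map_mul' t s := Subtype.ext (r2c_mul_right x t s (hxE.1 s))

theorem r2psi_coe (x : T) (hxE : x ∈ r2E T) (t : T) : ((r2psi x hxE t : ↥(r2Om T)) : T) = r2c x t :=
  rfl

/-- the pair of commutation maps -/
def r2Psi (α : MulAut T) (x : T) (hxE : x ∈ r2E T) : T →* ↥(r2Om T) × ↥(r2Om T) :=
  (r2psi x hxE).prod (r2psi (α x) (r2Inv_E x hxE))

theorem r2Psi_ker (x : T) (hxE : x ∈ r2E T) : (r2Psi α x hxE).ker = r2C α x := by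
  ext t
  rw [MonoidHom.mem_ker, r2_mem_C]
  unfold r2Psi
  rw [MonoidHom.prod_apply, Prod.ext_iff]
  show (r2psi x hxE t = 1 ∧ r2psi (α x) (r2Inv_E x hxE) t = 1) ↔ _
  rw [Subtype.ext_iff, Subtype.ext_iff, r2psi_coe, r2psi_coe]
  show (r2c x t = 1 ∧ r2c (α x) t = 1) ↔ _
  rw [r2c_eq_one_iff, r2c_eq_one_iff]

theorem r2_C_normal (x : T) (hxE : x ∈ r2E T) : (r2C α x).Normal := by
  rw [← r2Psi_ker x hxE]
  infer_instance

theorem r2_sq_mem_C (x : T) (hxE : x ∈ r2E T) (t : T) : t ^ 2 ∈ r2C α x := by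
  rw [← r2Psi_ker x hxE, MonoidHom.mem_ker, map_pow]
  have : ∀ p : ↥(r2Om T) × ↥(r2Om T), p ^ 2 = 1 := by
    rintro ⟨⟨a, ha⟩, ⟨b, hb⟩⟩
    apply Prod.ext
    · exact Subtype.ext ha.2
    · exact Subtype.ext hb.2
  exact this _

/-- the commutators of `α t` in terms of those of `t` -/
theorem r2_comm_alpha (h : R2Hyp T α) (x : T) (hxE : x ∈ r2E T) (hbx : α (α (α x)) = x) (t : T) :
    r2c x (α t) = α ((r2c x t * r2c (α x) t)⁻¹) ∧ r2c (α x) (α t) = α (r2c x t) := by
  refine ⟨?_, (r2c_map α x t).symm⟩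
  have hyE : α x ∈ r2E T := r2Inv_E x hxE
  have hg := r2_xyz h x hxE hbx
  set y := α x with hy
  set g := x * y * α y with hgdef
  have hay : α y = (x * y)⁻¹ * g := by rw [hgdef]; group
  have hg1 : r2c g t = 1 := by
    rw [r2c_eq_one_iff]
    exact ((Subgroup.mem_center_iff.mp hg) t).symm
  have hxy : x * y ∈ r2E T := Subgroup.mul_mem _ hxE hyE
  have e1 : r2c (α y) t = (r2c x t * r2c y t)⁻¹ := by
    rw [hay, r2c_mul_left _ _ _ (by rw [hg1]; exact Subgroup.one_mem _), hg1, mul_one,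
      r2c_inv_left _ _ (hxy.1 t), r2c_mul_left _ _ _ (hyE.1 t)]
  calc r2c x (α t) = r2c (α (α y)) (α t) := by rw [hbx]
    _ = α (r2c (α y) t) := (r2c_map α _ _).symm
    _ = α ((r2c x t * r2c y t)⁻¹) := by rw [e1]

theorem r2_index_C (h : R2Hyp T α) (x : T) (hxE : x ∈ r2E T) (hxY : x ∉ Subgroup.center T)
    (hbx : α (α (α x)) = x) : Nat.card T = 4 * Nat.card (r2C α x) := by
  have hCinv := r2Inv_C h x hxE hbx
  have hcard := r2_card_hom (r2Psi α x hxE)
  rw [r2Psi_ker x hxE] at hcard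
  have hO4 : Nat.card (↥(r2Om T) × ↥(r2Om T)) = 16 := by
    rw [Nat.card_prod, r2_card_om h]
  have hdvd : Nat.card (r2Psi α x hxE).range ∣ 16 := by
    rw [← hO4]; exact Subgroup.card_subgroup_dvd_card _
  -- an element a ≠ 1 of Ω
  have hex : ∃ t0 : T, r2c x t0 ≠ 1 := by
    by_contra hcon
    push Not at hcon
    apply hxY
    rw [Subgroup.mem_center_iff]
    intro t
    exact ((r2c_eq_one_iff x t).mp (hcon t)).symm
  obtain ⟨t0, ht0⟩ := hex
  set a := r2c x t0 with ha
  have haO : a ∈ r2Om T := r2_E_comm_om x hxE t0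
  have haaO : α a ∈ r2Om T := r2Inv_om a haO
  have hne16 : Nat.card (r2Psi α x hxE).range ≠ 16 := by
    intro h16
    have htop : (r2Psi α x hxE).range = ⊤ :=
      (Subgroup.card_eq_iff_eq_top _).mp (by rw [h16, hO4])
    have hsurj : Function.Surjective (r2Psi α x hxE) := MonoidHom.range_eq_top.mp htop
    obtain ⟨t, ht⟩ := hsurj (⟨a, haO⟩, ⟨α a, haaO⟩)
    have h1 : r2c x t = a := by
      have := congrArg (fun p => (p.1 : T)) ht
      exact this
    have h2 : r2c (α x) t = α a := by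
      have := congrArg (fun p => (p.2 : T)) ht
      exact this
    obtain ⟨e1, e2⟩ := r2_comm_alpha h x hxE hbx t
    rw [h1, h2] at e1
    rw [h1] at e2
    have e3 : α ((a * α a)⁻¹) = a := by
      have hmem : a * α a ∈ r2Om T := Subgroup.mul_mem _ haO haaO
      rw [r2_om_inv _ hmem, map_mul, r2_om_alpha_sq h a haO, r2_om_central _ haaO,
        mul_assoc]
      have : α a * α a = 1 := by rw [← pow_two]; exact haaO.2
      rw [this, mul_one]
    rw [e3] at e1
    have hker : t⁻¹ * α t ∈ r2C α x := by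
      rw [← r2Psi_ker x hxE, MonoidHom.mem_ker, map_mul, map_inv, inv_mul_eq_one]
      apply Prod.ext
      · apply Subtype.ext
        show r2c x t = r2c x (α t)
        rw [h1, e1]
      · apply Subtype.ext
        show r2c (α x) t = r2c (α x) (α t)
        rw [h2, e2]
    have htC := r2_coset_fix h _ hCinv t hker
    have : r2c x t = 1 := by
      rw [r2c_eq_one_iff]
      exact r2_x_central_C x t htC
    rw [h1] at this
    exact ht0 this
  have hmT := r2_card_mod3 h ⊤ r2Inv_top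
  rw [Subgroup.card_top] at hmT
  have hmC := r2_card_mod3 h _ hCinv
  have hne1 : Nat.card (r2Psi α x hxE).range ≠ 1 := by
    intro h1
    rw [h1, mul_one] at hcard
    have hle := Subgroup.card_le_card_group (r2C α x)
    exact r2_C_ne_top x hxY ((Subgroup.card_eq_iff_eq_top _).mp hcard.symm)
  have hle16 : Nat.card (r2Psi α x hxE).range ≤ 16 := Nat.le_of_dvd (by norm_num) hdvd
  have hr4 : Nat.card (r2Psi α x hxE).range = 4 := by
    have hmod : (Nat.card (r2C α x) * Nat.card (r2Psi α x hxE).range) % 3 = 1 := by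
      rw [← hcard]; exact hmT
    rw [Nat.mul_mod, hmC, one_mul, Nat.mod_mod] at hmod
    interval_cases hc : Nat.card (r2Psi α x hxE).range <;> simp_all
  rw [hcard, hr4, mul_comm]

end psi

end Cfsg.Agent.Lib.Helper9
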