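import Mathlib
import Cfsg.Agent.Lib.Helper9.R2E

set_option autoImplicit false

/-! The automorphism has order three; semilinearity of the commutator maps. -/

namespace Cfsg.Agent.Lib.Helper9

universe u

section cube
variable {T : Type u} [Group T] [Finite T] {α : MulAut T}

theorem r2_cube_one (h : R2Hyp T α) (x : T) (hxE : x ∈ r2E T)
    (hbx : α (α (α x)) = x) (hC : ∀ a ∈ r2C α x, ∀ b ∈ r2C α x, a * b = b * a) (t : T) :
    α (α (α t)) = t := by
  obtain ⟨k, hk⟩ := h.a3
  have hCinv := r2Inv_C h x hxE hbx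
  have hyE : α x ∈ r2E T := r2Inv_E x hxE
  have hby : α (α (α (α x))) = α x := congrArg α hbx
  have e1 : r2c x (α (α (α t))) = r2c x t := by
    have := r2_om_alpha_cube h (r2c x t) (r2_E_comm_om x hxE t)
    rw [r2c_map, r2c_map, r2c_map, hbx] at this
    exact this
  have e2 : r2c (α x) (α (α (α t))) = r2c (α x) t := by
    have := r2_om_alpha_cube h (r2c (α x) t) (r2_E_comm_om _ hyE t)
    rw [r2c_map, r2c_map, r2c_map, hby] at this
    exact this
  have hn : t⁻¹ * α (α (α t)) ∈ r2C α x := by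
    rw [← r2Psi_ker x hxE, MonoidHom.mem_ker, map_mul, map_inv, inv_mul_eq_one]
    apply Prod.ext
    · apply Subtype.ext
      show r2c x t = r2c x (α (α (α t)))
      rw [e1]
    · apply Subtype.ext
      show r2c (α x) t = r2c (α x) (α (α (α t)))
      rw [e2]
  have hfix := r2_beta_comm h _ hCinv hC _ hn
  have := r2_triv_of_unip h.pg (α ^ 3) k (r2_cube_pow α k hk) t
    (by rw [r2_cube_apply, r2_cube_apply]; exact hfix)
  rwa [r2_cube_apply] at this

end cube

section semi
variable {T : Type u} [Group T] [Finite T] {α : MulAut T}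

/-- semilinearity of `c ↦ [t, c]` on an invariant commutative normal subgroup, for a
fixed-point-free automorphism of order three -/
theorem r2_kappa_semi (hf : ∀ x : T, α x = x → x = 1) (h3 : ∀ x : T, α (α (α x)) = x)
    (C : Subgroup T) [C.Normal] (hCinv : r2Inv α C) (hC : ∀ a ∈ C, ∀ b ∈ C, a * b = b * a)
    (t c : T) (hc : c ∈ C) : r2c t (α c) = α (α (r2c t c)) := by
  -- first: r2c t (α c) = r2c (α t) c for all c ∈ C
  have key : ∀ c ∈ C, r2c t (α c) = r2c (α t) c := by
    intro c hc
    have hac : α c ∈ C := hCinv c hc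
    have h1 := r2_ord3_comm hf h3 (c * t)
    have h2 := r2_ord3_comm hf h3 t
    rw [map_mul] at h1
    have hK1 : r2c t (α c) ∈ C := by
      unfold r2c
      exact Subgroup.mul_mem _ (Subgroup.Normal.conj_mem inferInstance _ hac t)
        (Subgroup.inv_mem _ hac)
    have hK2 : r2c (α t) c ∈ C := by
      unfold r2c
      exact Subgroup.mul_mem _ (Subgroup.Normal.conj_mem inferInstance _ hc (α t))
        (Subgroup.inv_mem _ hc)
    -- expand both sides
    have eL : c * t * (α c * α t) = (c * r2c t (α c) * α c) * (t * α t) := by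
      unfold r2c; group
    have eR : α c * α t * (c * t) = (α c * r2c (α t) c * c) * (α t * t) := by
      unfold r2c; group
    rw [eL, eR, ← h2] at h1
    have h3' : c * r2c t (α c) * α c = α c * r2c (α t) c * c := mul_right_cancel h1
    have h4 : c * r2c t (α c) * α c = (c * α c) * r2c t (α c) := by
      rw [mul_assoc, hC _ hK1 _ hac, ← mul_assoc]
    have h5 : α c * r2c (α t) c * c = (c * α c) * r2c (α t) c := by
      rw [mul_assoc, hC _ hK2 _ hc, ← mul_assoc, hC _ hac _ hc]
    rw [h4, h5] at h3'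
    exact mul_left_cancel h3'
  -- (*) r2c t (α c) = α (r2c t (α (α c)))
  have star : ∀ c ∈ C, r2c t (α c) = α (r2c t (α (α c))) := by
    intro c hc
    rw [key c hc, r2c_map, h3]
  rw [star c hc, star (α c) (hCinv c hc), h3]

end semi

section kt
variable {T : Type u} [Group T] [Finite T] {α : MulAut T}

/-- elements of `C` commuting with some `t ∉ C` are central -/
theorem r2_Kt_central (h : R2Hyp T α) (h3 : ∀ x : T, α (α (α x)) = x)
    (C : Subgroup T) [C.Normal] (hCinv : r2Inv α C) (hC : ∀ a ∈ C, ∀ b ∈ C, a * b = b * a)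
    (hidx : Nat.card T = 4 * Nat.card C) (t : T) (ht : t ∉ C) (c : T) (hc : c ∈ C)
    (htc : t * c = c * t) : c ∈ Subgroup.center T := by
  have hf := r2_fpf h
  let K : Subgroup T := C ⊓ Subgroup.centralizer ({t} : Set T)
  have hKmem : ∀ k, k ∈ K ↔ k ∈ C ∧ t * k = k * t := by
    intro k
    show (k ∈ C ∧ k ∈ Subgroup.centralizer ({t} : Set T)) ↔ _
    rw [Subgroup.mem_centralizer_iff]
    constructor
    · rintro ⟨h1, h2⟩; exact ⟨h1, h2 t rfl⟩
    · rintro ⟨h1, h2⟩
      refine ⟨h1, ?_⟩
      intro s hs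
      rw [Set.mem_singleton_iff] at hs
      rw [hs]; exact h2
  have hKinv : r2Inv α K := by
    intro k hk
    rw [hKmem] at hk ⊢
    refine ⟨hCinv k hk.1, ?_⟩
    rw [← r2c_eq_one_iff, r2_kappa_semi hf h3 C hCinv hC t k hk.1,
      (r2c_eq_one_iff t k).mpr hk.2, map_one, map_one]
  let D : Subgroup T := Subgroup.centralizer (K : Set T)
  have hDinv : r2Inv α D := by
    intro s hs
    show α s ∈ Subgroup.centralizer (K : Set T)
    rw [Subgroup.mem_centralizer_iff]
    intro k hk
    have hk' : α (α k) ∈ K := hKinv _ (hKinv k hk)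
    have hs' := (Subgroup.mem_centralizer_iff.mp hs) _ hk'
    have := congrArg α hs'
    rw [map_mul, map_mul, h3] at this
    exact this
  have hCD : C ≤ D := by
    intro a ha
    show a ∈ Subgroup.centralizer (K : Set T)
    rw [Subgroup.mem_centralizer_iff]
    intro k hk
    exact hC k ((hKmem k).mp hk).1 a ha
  have htD : t ∈ D := by
    show t ∈ Subgroup.centralizer (K : Set T)
    rw [Subgroup.mem_centralizer_iff]
    intro k hk
    exact (((hKmem k).mp hk).2).symm
  have hDtop : D = ⊤ := by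
    have hmD := r2_card_mod3 h D hDinv
    have hmC := r2_card_mod3 h C hCinv
    have hd1 : Nat.card C ∣ Nat.card D := Subgroup.card_dvd_of_le hCD
    have hd2 : Nat.card D ∣ Nat.card T := Subgroup.card_subgroup_dvd_card D
    obtain ⟨j, hj⟩ := hd1
    have hCpos : 0 < Nat.card C := Nat.card_pos
    have hj4 : j ∣ 4 := by
      rw [hj, hidx, mul_comm 4] at hd2
      exact Nat.dvd_of_mul_dvd_mul_left hCpos hd2
    have hjle : j ≤ 4 := Nat.le_of_dvd (by norm_num) hj4
    have hne : Nat.card D ≠ Nat.card C := by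
      intro he
      have : C = D := Subgroup.eq_of_le_of_card_ge hCD (le_of_eq he)
      exact ht (this ▸ htD)
    have hj' : j = 4 := by
      have hmod : (Nat.card C * j) % 3 = 1 := by rw [← hj]; exact hmD
      rw [Nat.mul_mod, hmC, one_mul, Nat.mod_mod] at hmod
      interval_cases j
      · simp at hj4
      · exfalso; apply hne; rw [hj, mul_one]
      · omega
      · omega
      · rfl
    apply (Subgroup.card_eq_iff_eq_top _).mp
    rw [hj, hj', hidx, mul_comm]
  have hcK : c ∈ K := (hKmem c).mpr ⟨hc, htc⟩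
  rw [Subgroup.mem_center_iff]
  intro s
  have hs : s ∈ D := by rw [hDtop]; exact Subgroup.mem_top s
  exact ((Subgroup.mem_centralizer_iff.mp hs) c hcK).symm

/-- commutators of `T` with `C` lie in `Ω` -/
theorem r2_kappa_om (h : R2Hyp T α) (h3 : ∀ x : T, α (α (α x)) = x)
    (C : Subgroup T) [C.Normal] (hCinv : r2Inv α C) (hC : ∀ a ∈ C, ∀ b ∈ C, a * b = b * a)
    (hsq : ∀ t : T, t ^ 2 ∈ C) (t c : T) (hc : c ∈ C) : r2c t c ∈ r2Om T := by
  have hf := r2_fpf h
  have hmemC : ∀ c ∈ C, r2c t c ∈ C := by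
    intro c hc
    unfold r2c
    exact Subgroup.mul_mem _ (Subgroup.Normal.conj_mem inferInstance _ hc t) (Subgroup.inv_mem _ hc)
  -- (**) r2c t u = (u²)⁻¹ for u = r2c t c
  have star : ∀ c ∈ C, r2c t (r2c t c) = ((r2c t c) ^ 2)⁻¹ := by
    intro c hc
    set u := r2c t c with hu
    have huC : u ∈ C := hmemC c hc
    have e1 : t * c * t⁻¹ = u * c := r2c_conj t c
    have e2 : t * u * t⁻¹ = r2c t u * u := r2c_conj t u
    have e3 : t ^ 2 * c * (t ^ 2)⁻¹ = c := by
      rw [hC _ (hsq t) _ hc]; group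
    have e4 : t ^ 2 * c * (t ^ 2)⁻¹ = (r2c t u * u) * (u * c) := by
      calc t ^ 2 * c * (t ^ 2)⁻¹ = t * (t * c * t⁻¹) * t⁻¹ := by rw [pow_two]; group
        _ = t * (u * c) * t⁻¹ := by rw [e1]
        _ = (t * u * t⁻¹) * (t * c * t⁻¹) := by group
        _ = (r2c t u * u) * (u * c) := by rw [e2, e1]
    rw [e3] at e4
    -- c = r2c t u * u * (u * c)
    have e5 : r2c t u * u ^ 2 = 1 := by
      have : c = (r2c t u * u ^ 2) * c := by
        rw [pow_two]
        calc c = r2c t u * u * (u * c) := e4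
          _ = r2c t u * (u * u) * c := by group
      have := congrArg (fun y => y * c⁻¹) this
      simpa using this.symm
    exact eq_inv_of_mul_eq_one_left e5
  set u := r2c t c with hu
  have huC : u ∈ C := hmemC c hc
  have hau : α u = r2c t (α (α c)) := by
    rw [r2_kappa_semi hf h3 C hCinv hC t (α c) (hCinv c hc),
      r2_kappa_semi hf h3 C hCinv hC t c hc, h3]
  have s1 := star c hc
  have s2 := star (α (α c)) (hCinv _ (hCinv c hc))
  rw [← hau] at s2
  rw [r2_kappa_semi hf h3 C hCinv hC t u huC, s1] at s2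
  -- α (α w) = (α u ^ 2)⁻¹ = α w with w = (u²)⁻¹
  have s3 : α (α ((u ^ 2)⁻¹)) = α ((u ^ 2)⁻¹) := by
    rw [s2, map_inv, map_pow]
  have s4 : (u ^ 2)⁻¹ = 1 := hf _ (α.injective s3)
  rw [r2_mem_om h]
  exact inv_eq_one.mp s4

end kt

end Cfsg.Agent.Lib.Helper9
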