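import Mathlib
import Cfsg.Agent.Lib.Helper9.R2F

set_option autoImplicit false

/-! Orders: `|C| = 4 |Z(T)|`, squares, and the final contradiction giving `Z(T) = Ω`. -/

namespace Cfsg.Agent.Lib.Helper9

universe u

section kap
variable {T : Type u} [Group T] [Finite T] {α : MulAut T}

theorem r2c_mem_normal (C : Subgroup T) [C.Normal] (t c : T) (hc : c ∈ C) : r2c t c ∈ C := by
  unfold r2c
  exact Subgroup.mul_mem _ (Subgroup.Normal.conj_mem inferInstance _ hc t) (Subgroup.inv_mem _ hc)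

theorem r2c_mul_comm (C : Subgroup T) [C.Normal] (hC : ∀ a ∈ C, ∀ b ∈ C, a * b = b * a) (t a b : T)
    (ha : a ∈ C) (hb : b ∈ C) : r2c t (a * b) = r2c t a * r2c t b := by
  have h1 := hC _ (Subgroup.inv_mem _ ha) _ (r2c_mem_normal C t b hb)
  have e : r2c t (a * b) = (t * a * t⁻¹) * (r2c t b * a⁻¹) := by
    unfold r2c; group
  rw [e, ← h1]
  unfold r2c; group

/-- `c ↦ [t, c]` as an endomorphism of the commutative normal subgroup `C` -/
def r2kap (C : Subgroup T) [C.Normal] (hC : ∀ a ∈ C, ∀ b ∈ C, a * b = b * a) (t : T) :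
    ↥C →* ↥C where
  toFun c := ⟨r2c t c.1, r2c_mem_normal C t c.1 c.2⟩
  map_one' := Subtype.ext (by show r2c t 1 = 1; unfold r2c; simp)
  map_mul' a b := Subtype.ext (r2c_mul_comm C hC t a.1 b.1 a.2 b.2)

/-- squaring as an endomorphism of the commutative subgroup `C` -/
def r2sqh (C : Subgroup T) (hC : ∀ a ∈ C, ∀ b ∈ C, a * b = b * a) : ↥C →* ↥C where
  toFun c := c ^ 2
  map_one' := one_pow 2
  map_mul' a b := by
    have : Commute a b := Subtype.ext (hC a.1 a.2 b.1 b.2)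
    exact this.mul_pow 2

theorem r2_card_C (h : R2Hyp T α) (h3 : ∀ x : T, α (α (α x)) = x)
    (C : Subgroup T) [C.Normal] (hCinv : r2Inv α C) (hC : ∀ a ∈ C, ∀ b ∈ C, a * b = b * a)
    (hidx : Nat.card T = 4 * Nat.card C) (hsq : ∀ t : T, t ^ 2 ∈ C)
    (hYC : Subgroup.center T ≤ C) (x : T) (hxC : x ∈ C) (hxY : x ∉ Subgroup.center T)
    (t : T) (ht : t ∉ C) :
    Nat.card C = 4 * Nat.card (Subgroup.center T) ∧ (∀ c ∈ C, c ^ 2 ∈ Subgroup.center T) ∧
      (∀ y ∈ Subgroup.center T, ∃ c ∈ C, c ^ 2 = y) := by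
  have hkerκ : ∀ c : ↥C, r2kap C hC t c = 1 ↔ c.1 ∈ Subgroup.center T := by
    intro c
    rw [Subtype.ext_iff]
    show r2c t c.1 = 1 ↔ _
    rw [r2c_eq_one_iff]
    constructor
    · intro hh
      exact r2_Kt_central h h3 C hCinv hC hidx t ht c.1 c.2 hh
    · intro hh
      exact (Subgroup.mem_center_iff.mp hh t)
  have hcardker : Nat.card (r2kap C hC t).ker = Nat.card (Subgroup.center T) := by
    apply Nat.card_congr
    exact
      { toFun := fun c => ⟨c.1.1, (hkerκ c.1).mp c.2⟩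
        invFun := fun y => ⟨⟨y.1, hYC y.2⟩, (hkerκ _).mpr y.2⟩
        left_inv := fun c => rfl
        right_inv := fun y => rfl }
  have hrange_om : ∀ r : (r2kap C hC t).range, (r.1.1 : T) ∈ r2Om T := by
    rintro ⟨r, c, rfl⟩
    exact r2_kappa_om h h3 C hCinv hC hsq t c.1 c.2
  have hcardrange : Nat.card (r2kap C hC t).range ≤ 4 := by
    rw [← r2_card_om h]
    apply Nat.card_le_card_of_injective (fun r => (⟨r.1.1, hrange_om r⟩ : ↥(r2Om T)))
    intro r r' hrr
    have : (r.1.1 : T) = r'.1.1 := congrArg (fun z : ↥(r2Om T) => (z : T)) hrr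
    exact Subtype.ext (Subtype.ext this)
  have hcard := r2_card_hom (r2kap C hC t)
  rw [hcardker] at hcard
  have hmC := r2_card_mod3 h C hCinv
  have hmY := r2_card_mod3 h _ (r2Inv_center (α := α))
  have hr4 : Nat.card (r2kap C hC t).range = 4 := by
    have hne1 : Nat.card (r2kap C hC t).range ≠ 1 := by
      intro h1
      rw [h1, mul_one] at hcard
      have : Subgroup.center T = C := Subgroup.eq_of_le_of_card_ge hYC (le_of_eq hcard)
      exact hxY (this ▸ hxC)
    have hpos : 0 < Nat.card (r2kap C hC t).range := Nat.card_pos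
    have hmod : (Nat.card (Subgroup.center T) * Nat.card (r2kap C hC t).range) % 3 = 1 := by
      rw [← hcard]; exact hmC
    rw [Nat.mul_mod, hmY, one_mul, Nat.mod_mod] at hmod
    interval_cases hc : Nat.card (r2kap C hC t).range <;> simp_all
  have hcardC : Nat.card C = 4 * Nat.card (Subgroup.center T) := by
    rw [hcard, hr4, mul_comm]
  have hsqY : ∀ c ∈ C, c ^ 2 ∈ Subgroup.center T := by
    intro c hc
    have h1 : r2kap C hC t (⟨c, hc⟩ ^ 2) = 1 := by
      rw [map_pow]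
      apply Subtype.ext
      have := (r2_kappa_om h h3 C hCinv hC hsq t c hc).2
      exact this
    exact (hkerκ _).mp h1
  refine ⟨hcardC, hsqY, ?_⟩
  -- surjectivity of squaring
  have hOC : r2Om T ≤ C := fun z hz => hYC hz.1
  have hkerσ : Nat.card (r2sqh C hC).ker = 4 := by
    rw [← r2_card_om h]
    apply Nat.card_congr
    exact
      { toFun := fun c => ⟨c.1.1, (r2_mem_om h _).mpr (by
          have := c.2
          rw [MonoidHom.mem_ker] at this
          exact congrArg Subtype.val this)⟩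
        invFun := fun z => ⟨⟨z.1, hOC z.2⟩, by
          rw [MonoidHom.mem_ker]
          exact Subtype.ext z.2.2⟩
        left_inv := fun c => rfl
        right_inv := fun z => rfl }
  have hcardσ := r2_card_hom (r2sqh C hC)
  rw [hkerσ, hcardC] at hcardσ
  have hrσ : Nat.card (r2sqh C hC).range = Nat.card (Subgroup.center T) := by omega
  have hle : (r2sqh C hC).range ≤ (Subgroup.center T).subgroupOf C := by
    rintro r ⟨c, rfl⟩
    rw [Subgroup.mem_subgroupOf]
    exact hsqY c.1 c.2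
  have hcardsub : Nat.card ((Subgroup.center T).subgroupOf C) = Nat.card (Subgroup.center T) :=
    Nat.card_congr (Subgroup.subgroupOfEquivOfLe hYC).toEquiv
  have heq : (r2sqh C hC).range = (Subgroup.center T).subgroupOf C :=
    Subgroup.eq_of_le_of_card_ge hle (by rw [hcardsub, hrσ])
  intro y hy
  have : (⟨y, hYC hy⟩ : ↥C) ∈ (r2sqh C hC).range := by
    rw [heq, Subgroup.mem_subgroupOf]; exact hy
  obtain ⟨c, hc⟩ := this
  exact ⟨c.1, c.2, congrArg Subtype.val hc⟩

theorem r2_center_exp2 (h : R2Hyp T α) (h3 : ∀ x : T, α (α (α x)) = x)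
    (C : Subgroup T) [C.Normal] (hCinv : r2Inv α C) (hC : ∀ a ∈ C, ∀ b ∈ C, a * b = b * a)
    (hidx : Nat.card T = 4 * Nat.card C) (hsq : ∀ t : T, t ^ 2 ∈ C)
    (hYC : Subgroup.center T ≤ C) (x : T) (hxC : x ∈ C) (hxY : x ∉ Subgroup.center T)
    (t : T) (ht : t ∉ C) : ∀ y ∈ Subgroup.center T, y ^ 2 = 1 := by
  by_contra hcon
  push Not at hcon
  obtain ⟨y', hy', hy'2⟩ := hcon
  have hOY := r2_om_le_Ysq h y' hy' hy'2
  obtain ⟨_, hsqY, hsurj⟩ := r2_card_C h h3 C hCinv hC hidx hsq hYC x hxC hxY t ht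
  have ht2Y : t ^ 2 ∈ Subgroup.center T := by
    apply r2_Kt_central h h3 C hCinv hC hidx t ht _ (hsq t)
    rw [pow_two]; group
  obtain ⟨y0, hy0C, hy0⟩ := hsurj _ (Subgroup.inv_mem _ ht2Y)
  have hzO : r2c t y0 ∈ r2Om T := r2_kappa_om h h3 C hCinv hC hsq t y0 hy0C
  set z := r2c t y0 with hz
  have hzc := Subgroup.mem_center_iff.mp hzO.1
  have e1 : t * y0 * t⁻¹ = z * y0 := r2c_conj t y0
  have e2 : (y0 * t) ^ 2 = z := by
    calc (y0 * t) ^ 2 = y0 * (t * y0 * t⁻¹) * t ^ 2 := by rw [pow_two, pow_two]; group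
      _ = y0 * (z * y0) * t ^ 2 := by rw [e1]
      _ = (y0 * z) * y0 * t ^ 2 := by group
      _ = (z * y0) * y0 * t ^ 2 := by rw [hzc y0]
      _ = z * y0 ^ 2 * t ^ 2 := by simp only [pow_two, mul_assoc]
      _ = z := by rw [hy0]; group
  obtain ⟨w, hw, hw2⟩ := hOY hzO
  have hcw : Commute w (y0 * t) := (Subgroup.mem_center_iff.mp hw (y0 * t)).symm
  have e3 : (w * (y0 * t)) ^ 2 = 1 := by
    rw [hcw.mul_pow, hw2, e2, ← pow_two]; exact hzO.2
  have hmem : w * (y0 * t) ∈ C := hYC ((r2_mem_om h _).mpr e3 |>.1)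
  apply ht
  have : t = y0⁻¹ * (w⁻¹ * (w * (y0 * t))) := by group
  rw [this]
  exact Subgroup.mul_mem _ (Subgroup.inv_mem _ hy0C)
    (Subgroup.mul_mem _ (Subgroup.inv_mem _ (hYC hw)) hmem)

end kap

section struct
variable {T : Type u} [Group T] [Finite T] {α : MulAut T}

/-- the structure obtained in the non-commutative case -/
structure R2Str (T : Type u) [Group T] (α : MulAut T) : Prop where
  ord3 : ∀ x : T, α (α (α x)) = x
  card64 : Nat.card T = 64
  cen2 : ∀ y ∈ Subgroup.center T, y ^ 2 = 1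
  cen4 : Nat.card (Subgroup.center T) = 4
  exC : ∃ C : Subgroup T, C.Normal ∧ r2Inv α C ∧ (∀ a ∈ C, ∀ b ∈ C, a * b = b * a) ∧
    Nat.card C = 16 ∧ (∀ t : T, t ^ 2 ∈ C) ∧ Subgroup.center T ≤ C ∧
    (∀ t : T, t ∉ C → ∀ c ∈ C, t * c = c * t → c ∈ Subgroup.center T) ∧
    (∀ t : T, ∀ c ∈ C, r2c t c ∈ r2Om T) ∧ (∀ c ∈ C, c ^ 2 ∈ Subgroup.center T) ∧
    (∀ y ∈ Subgroup.center T, ∃ c ∈ C, c ^ 2 = y) ∧ C ≠ ⊤

theorem r2_struct_step (h : R2Hyp T α) (IH : R2IH.{u} (Nat.card T))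
    (hna : ∃ a b : T, a * b ≠ b * a) : R2Str T α := by
  obtain ⟨x, hxE, hxY, hbx⟩ := r2_findx h hna
  have hC := r2_C_comm h IH x hxE hxY hbx
  have h3 := r2_cube_one h x hxE hbx hC
  haveI hCn : (r2C α x).Normal := r2_C_normal x hxE
  have hCinv := r2Inv_C h x hxE hbx
  have hidx := r2_index_C h x hxE hxY hbx
  have hsq : ∀ t : T, t ^ 2 ∈ r2C α x := r2_sq_mem_C x hxE
  have hYC : Subgroup.center T ≤ r2C α x := r2_center_le_C x
  have hxC := r2_x_mem_C h x hxE hbx
  have hCtop := r2_C_ne_top (α := α) x hxY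
  obtain ⟨t, ht⟩ : ∃ t : T, t ∉ r2C α x := by
    by_contra hcon
    push Not at hcon
    exact hCtop (Subgroup.eq_top_iff' _ |>.mpr hcon)
  have hY2 := r2_center_exp2 h h3 _ hCinv hC hidx hsq hYC x hxC hxY t ht
  obtain ⟨hcardC, hsqY, hsurj⟩ := r2_card_C h h3 _ hCinv hC hidx hsq hYC x hxC hxY t ht
  have hYO : Subgroup.center T = r2Om T := by
    apply le_antisymm
    · intro y hy; exact ⟨hy, hY2 y hy⟩
    · intro z hz; exact hz.1
  have hY4 : Nat.card (Subgroup.center T) = 4 := by rw [hYO]; exact r2_card_om h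
  have hC16 : Nat.card (r2C α x) = 16 := by rw [hcardC, hY4]
  refine ⟨h3, by rw [hidx, hC16], hY2, hY4, r2C α x, hCn, hCinv, hC, hC16, hsq, hYC, ?_, ?_,
    hsqY, hsurj, hCtop⟩
  · intro t' ht' c hc htc
    exact r2_Kt_central h h3 _ hCinv hC hidx t' ht' c hc htc
  · intro t' c hc
    exact r2_kappa_om h h3 _ hCinv hC hsq t' c hc

/-- the main structure theorem -/
theorem r2_main : ∀ (n : ℕ) (T : Type u) [Group T] [Finite T] (α : MulAut T), Nat.card T = n →
    R2Hyp T α → (∃ a b : T, a * b ≠ b * a) → R2Str T α := by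
  intro n
  induction n using Nat.strong_induction_on with
  | _ n ih =>
    intro T _ _ α hn h hna
    apply r2_struct_step h _ hna
    intro S _ _ γ hlt hS hSna
    rw [hn] at hlt
    exact (ih (Nat.card S) hlt S γ rfl hS hSna).cen4

end struct

end Cfsg.Agent.Lib.Helper9
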