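import Mathlib
import Cfsg.Agent.Lib.Helper9.R2G

set_option autoImplicit false

/-! A presentation of the group of order 64: normal forms and uniqueness. -/

namespace Cfsg.Agent.Lib.Helper9

/-- the defining relations on a quadruple -/
structure R2Rel {G : Type*} [Group G] (a b c d : G) : Prop where
  a4 : a ^ 4 = 1
  b4 : b ^ 4 = 1
  ab : a * b = b * a
  c2 : c ^ 2 = a ^ 2
  d2 : d ^ 2 = b ^ 2
  cd : c * d = d * c
  ca : c * a = a * b ^ 2 * c
  cb : c * b = b * a ^ 2 * c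
  da : d * a = a ^ 3 * d
  db : d * b = a ^ 2 * b ^ 3 * d

section nf
variable {G : Type*} [Group G] {a b c d : G}

theorem r2rel_ab_pow (h : R2Rel a b c d) (m n : ℕ) : a ^ m * b ^ n = b ^ n * a ^ m :=
  ((show Commute a b from h.ab).pow_pow m n).eq

theorem r2rel_ab_mul (h : R2Rel a b c d) (m n p q : ℕ) :
    a ^ m * b ^ n * (a ^ p * b ^ q) = a ^ (m + p) * b ^ (n + q) := by
  rw [pow_add, pow_add, mul_assoc, ← mul_assoc (b ^ n), ← r2rel_ab_pow h p n]
  simp only [mul_assoc]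

theorem r2rel_c_a (h : R2Rel a b c d) (i : ℕ) : c * a ^ i = a ^ i * b ^ (2 * i) * c := by
  have h1 := ((show SemiconjBy c a (a * b ^ 2) from h.ca).pow_right i).eq
  have h2 : Commute a (b ^ 2) := (show Commute a b from h.ab).pow_right 2
  rw [h1, h2.mul_pow, ← pow_mul]

theorem r2rel_c_b (h : R2Rel a b c d) (j : ℕ) : c * b ^ j = a ^ (2 * j) * b ^ j * c := by
  have h1 := ((show SemiconjBy c b (b * a ^ 2) from h.cb).pow_right j).eq
  have h2 : Commute b (a ^ 2) := (show Commute b a from h.ab.symm).pow_right 2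
  rw [h1, h2.mul_pow, ← pow_mul, r2rel_ab_pow h]

theorem r2rel_d_a (h : R2Rel a b c d) (i : ℕ) : d * a ^ i = a ^ (3 * i) * d := by
  have h1 := ((show SemiconjBy d a (a ^ 3) from h.da).pow_right i).eq
  rw [h1, ← pow_mul]

theorem r2rel_d_b (h : R2Rel a b c d) (j : ℕ) : d * b ^ j = a ^ (2 * j) * b ^ (3 * j) * d := by
  have h1 := ((show SemiconjBy d b (a ^ 2 * b ^ 3) from h.db).pow_right j).eq
  have h2 : Commute (a ^ 2) (b ^ 3) := (show Commute a b from h.ab).pow_pow 2 3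
  rw [h1, h2.mul_pow, ← pow_mul, ← pow_mul]

theorem r2rel_c_ab (h : R2Rel a b c d) (i j : ℕ) :
    c * (a ^ i * b ^ j) = a ^ (i + 2 * j) * b ^ (2 * i + j) * c := by
  rw [← mul_assoc, r2rel_c_a h, mul_assoc, r2rel_c_b h, ← mul_assoc, r2rel_ab_mul h]

theorem r2rel_d_ab (h : R2Rel a b c d) (i j : ℕ) :
    d * (a ^ i * b ^ j) = a ^ (3 * i + 2 * j) * b ^ (3 * j) * d := by
  rw [← mul_assoc, r2rel_d_a h, mul_assoc, r2rel_d_b h, pow_add]
  simp only [mul_assoc]

theorem r2rel_c_bsq (h : R2Rel a b c d) : c * b ^ 2 = b ^ 2 * c := by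
  rw [r2rel_c_b h, show 2 * 2 = 4 from rfl, h.a4, one_mul]

theorem r2rel_c4 (h : R2Rel a b c d) : c ^ 4 = 1 := by
  rw [show 4 = 2 * 2 from rfl, pow_mul, h.c2, ← pow_mul]; exact h.a4

theorem r2rel_d4 (h : R2Rel a b c d) : d ^ 4 = 1 := by
  rw [show 4 = 2 * 2 from rfl, pow_mul, h.d2, ← pow_mul]; exact h.b4

/-- normal forms -/
def r2nf (a b c d : G) (g : G) : Prop :=
  ∃ i j k l : ℕ, k < 2 ∧ l < 2 ∧ g = a ^ i * b ^ j * c ^ k * d ^ l

theorem r2nf_one : r2nf a b c d 1 := ⟨0, 0, 0, 0, by norm_num, by norm_num, by simp⟩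

theorem r2nf_a (g : G) (hg : r2nf a b c d g) : r2nf a b c d (a * g) := by
  obtain ⟨i, j, k, l, hk, hl, rfl⟩ := hg
  exact ⟨i + 1, j, k, l, hk, hl, by rw [pow_succ']; simp only [mul_assoc]⟩

theorem r2nf_b (h : R2Rel a b c d) (g : G) (hg : r2nf a b c d g) : r2nf a b c d (b * g) := by
  obtain ⟨i, j, k, l, hk, hl, rfl⟩ := hg
  refine ⟨i, j + 1, k, l, hk, hl, ?_⟩
  have e : b * a ^ i = a ^ i * b := by
    have := r2rel_ab_pow h i 1
    rw [pow_one] at this
    exact this.symm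
  rw [pow_succ']
  simp only [mul_assoc]
  rw [← mul_assoc b, e, mul_assoc]

theorem r2nf_c (h : R2Rel a b c d) (g : G) (hg : r2nf a b c d g) : r2nf a b c d (c * g) := by
  obtain ⟨i, j, k, l, hk, hl, rfl⟩ := hg
  have e : c * (a ^ i * b ^ j * c ^ k * d ^ l) =
      a ^ (i + 2 * j) * b ^ (2 * i + j) * c * c ^ k * d ^ l := by
    rw [mul_assoc (a ^ i * b ^ j), ← mul_assoc c, r2rel_c_ab h]
    simp only [mul_assoc]
  rw [e]
  have hk' : k = 0 ∨ k = 1 := by omega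
  rcases hk' with rfl | rfl
  · exact ⟨i + 2 * j, 2 * i + j, 1, l, by norm_num, hl, by simp⟩
  · refine ⟨i + 2 * j + 2, 2 * i + j, 0, l, by norm_num, hl, ?_⟩
    rw [pow_one, mul_assoc _ c c, ← pow_two, h.c2, pow_zero, mul_one, mul_assoc (a ^ (i + 2 * j)),
      ← r2rel_ab_pow h 2, ← mul_assoc, ← pow_add]

theorem r2nf_d (h : R2Rel a b c d) (g : G) (hg : r2nf a b c d g) : r2nf a b c d (d * g) := by
  obtain ⟨i, j, k, l, hk, hl, rfl⟩ := hg
  have e : d * (a ^ i * b ^ j * c ^ k * d ^ l) =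
      a ^ (3 * i + 2 * j) * b ^ (3 * j) * d * c ^ k * d ^ l := by
    rw [mul_assoc (a ^ i * b ^ j), ← mul_assoc d, r2rel_d_ab h]
    simp only [mul_assoc]
  rw [e]
  have hk' : k = 0 ∨ k = 1 := by omega
  have hl' : l = 0 ∨ l = 1 := by omega
  rcases hk' with rfl | rfl
  · rcases hl' with rfl | rfl
    · exact ⟨3 * i + 2 * j, 3 * j, 0, 1, by norm_num, by norm_num, by simp⟩
    · refine ⟨3 * i + 2 * j, 3 * j + 2, 0, 0, by norm_num, by norm_num, ?_⟩
      rw [pow_zero, mul_one, pow_one, mul_assoc _ d d, ← pow_two, h.d2, mul_one,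
        mul_assoc, ← pow_add, pow_zero, mul_one]
  · rcases hl' with rfl | rfl
    · refine ⟨3 * i + 2 * j, 3 * j, 1, 1, by norm_num, by norm_num, ?_⟩
      rw [pow_one, pow_zero, mul_one, pow_one, mul_assoc _ d c, ← h.cd, ← mul_assoc]
    · refine ⟨3 * i + 2 * j, 3 * j + 2, 1, 0, by norm_num, by norm_num, ?_⟩
      rw [pow_one, pow_one, pow_zero, mul_one, mul_assoc _ d c, ← h.cd, ← mul_assoc,
        mul_assoc _ d d, ← pow_two, h.d2, mul_assoc _ c, r2rel_c_bsq h, ← mul_assoc,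
        mul_assoc _ (b ^ (3 * j)), ← pow_add]

theorem r2nf_inv_a (h : R2Rel a b c d) (g : G) (hg : r2nf a b c d g) :
    r2nf a b c d (a⁻¹ * g) := by
  have e : a⁻¹ = a ^ 3 := inv_eq_of_mul_eq_one_right (by rw [← pow_succ', h.a4])
  have : a⁻¹ * g = a * (a * (a * g)) := by
    rw [e, pow_succ, pow_succ, pow_one]; simp only [mul_assoc]
  rw [this]
  exact r2nf_a _ (r2nf_a _ (r2nf_a _ hg))

theorem r2nf_inv_b (h : R2Rel a b c d) (g : G) (hg : r2nf a b c d g) :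
    r2nf a b c d (b⁻¹ * g) := by
  have e : b⁻¹ = b ^ 3 := inv_eq_of_mul_eq_one_right (by rw [← pow_succ', h.b4])
  have : b⁻¹ * g = b * (b * (b * g)) := by
    rw [e, pow_succ, pow_succ, pow_one]; simp only [mul_assoc]
  rw [this]
  exact r2nf_b h _ (r2nf_b h _ (r2nf_b h _ hg))

theorem r2nf_inv_c (h : R2Rel a b c d) (g : G) (hg : r2nf a b c d g) :
    r2nf a b c d (c⁻¹ * g) := by
  have e : c⁻¹ = c ^ 3 := inv_eq_of_mul_eq_one_right (by rw [← pow_succ', r2rel_c4 h])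
  have : c⁻¹ * g = c * (c * (c * g)) := by
    rw [e, pow_succ, pow_succ, pow_one]; simp only [mul_assoc]
  rw [this]
  exact r2nf_c h _ (r2nf_c h _ (r2nf_c h _ hg))

theorem r2nf_inv_d (h : R2Rel a b c d) (g : G) (hg : r2nf a b c d g) :
    r2nf a b c d (d⁻¹ * g) := by
  have e : d⁻¹ = d ^ 3 := inv_eq_of_mul_eq_one_right (by rw [← pow_succ', r2rel_d4 h])
  have : d⁻¹ * g = d * (d * (d * g)) := by
    rw [e, pow_succ, pow_succ, pow_one]; simp only [mul_assoc]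
  rw [this]
  exact r2nf_d h _ (r2nf_d h _ (r2nf_d h _ hg))

theorem r2nf_closure (h : R2Rel a b c d) (g : G)
    (hg : g ∈ Subgroup.closure ({a, b, c, d} : Set G)) : r2nf a b c d g := by
  induction hg using Subgroup.closure_induction_left with
  | one => exact r2nf_one
  | mul_left x hx y hy ih =>
    rcases hx with rfl | rfl | rfl | rfl
    · exact r2nf_a _ ih
    · exact r2nf_b h _ ih
    · exact r2nf_c h _ ih
    · exact r2nf_d h _ ih
  | inv_mul_cancel x hx y hy ih =>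
    rcases hx with rfl | rfl | rfl | rfl
    · exact r2nf_inv_a h _ ih
    · exact r2nf_inv_b h _ ih
    · exact r2nf_inv_c h _ ih
    · exact r2nf_inv_d h _ ih

/-- the parametrisation by 64 quadruples -/
def r2par (a b c d : G) (p : Fin 4 × Fin 4 × Fin 2 × Fin 2) : G :=
  a ^ (p.1 : ℕ) * b ^ (p.2.1 : ℕ) * c ^ (p.2.2.1 : ℕ) * d ^ (p.2.2.2 : ℕ)

theorem r2par_surj (h : R2Rel a b c d)
    (hgen : Subgroup.closure ({a, b, c, d} : Set G) = ⊤) :
    Function.Surjective (r2par a b c d) := by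
  intro g
  obtain ⟨i, j, k, l, hk, hl, rfl⟩ := r2nf_closure h g (by rw [hgen]; exact Subgroup.mem_top _)
  refine ⟨(⟨i % 4, Nat.mod_lt _ (by norm_num)⟩, ⟨j % 4, Nat.mod_lt _ (by norm_num)⟩,
    ⟨k, hk⟩, ⟨l, hl⟩), ?_⟩
  show a ^ (i % 4) * b ^ (j % 4) * c ^ k * d ^ l = _
  rw [← pow_eq_pow_mod i h.a4, ← pow_eq_pow_mod j h.b4]

theorem r2rel_finite (h : R2Rel a b c d)
    (hgen : Subgroup.closure ({a, b, c, d} : Set G) = ⊤) : Finite G :=
  Finite.of_surjective _ (r2par_surj h hgen)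

theorem r2rel_card_le (h : R2Rel a b c d)
    (hgen : Subgroup.closure ({a, b, c, d} : Set G) = ⊤) : Nat.card G ≤ 64 := by
  have := Nat.card_le_card_of_surjective _ (r2par_surj h hgen)
  simpa [Nat.card_prod] using this

end nf

end Cfsg.Agent.Lib.Helper9
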