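import Mathlib
import Cfsg.Agent.Lib.Helper9.R2H

set_option autoImplicit false

/-! Uniqueness of the group of order 64 via the presented group. -/

namespace Cfsg.Agent.Lib.Helper9

/-- the relators -/
def r2Rels : Set (FreeGroup (Fin 4)) :=
  {FreeGroup.of 0 ^ 4 * 1⁻¹,
   FreeGroup.of 1 ^ 4 * 1⁻¹,
   FreeGroup.of 0 * FreeGroup.of 1 * (FreeGroup.of 1 * FreeGroup.of 0)⁻¹,
   FreeGroup.of 2 ^ 2 * (FreeGroup.of 0 ^ 2)⁻¹,
   FreeGroup.of 3 ^ 2 * (FreeGroup.of 1 ^ 2)⁻¹,
   FreeGroup.of 2 * FreeGroup.of 3 * (FreeGroup.of 3 * FreeGroup.of 2)⁻¹,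
   FreeGroup.of 2 * FreeGroup.of 0 * (FreeGroup.of 0 * FreeGroup.of 1 ^ 2 * FreeGroup.of 2)⁻¹,
   FreeGroup.of 2 * FreeGroup.of 1 * (FreeGroup.of 1 * FreeGroup.of 0 ^ 2 * FreeGroup.of 2)⁻¹,
   FreeGroup.of 3 * FreeGroup.of 0 * (FreeGroup.of 0 ^ 3 * FreeGroup.of 3)⁻¹,
   FreeGroup.of 3 * FreeGroup.of 1 *
     (FreeGroup.of 0 ^ 2 * FreeGroup.of 1 ^ 3 * FreeGroup.of 3)⁻¹}

/-- the abstract group -/
abbrev R2P : Type := PresentedGroup r2Rels

theorem r2P_rel : R2Rel (PresentedGroup.of 0 : R2P) (PresentedGroup.of 1) (PresentedGroup.of 2)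
    (PresentedGroup.of 3) := by
  have key : ∀ x y : FreeGroup (Fin 4), x * y⁻¹ ∈ r2Rels →
      PresentedGroup.mk r2Rels x = PresentedGroup.mk r2Rels y :=
    fun x y h => PresentedGroup.mk_eq_mk_of_mul_inv_mem h
  constructor
  · have := key _ _ (show FreeGroup.of 0 ^ 4 * 1⁻¹ ∈ r2Rels by simp [r2Rels])
    rwa [map_pow, map_one] at this
  · have := key _ _ (show FreeGroup.of 1 ^ 4 * 1⁻¹ ∈ r2Rels by simp [r2Rels])
    rwa [map_pow, map_one] at this
  · have := key _ _ (show FreeGroup.of 0 * FreeGroup.of 1 * (FreeGroup.of 1 * FreeGroup.of 0)⁻¹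
      ∈ r2Rels by simp [r2Rels])
    rwa [map_mul, map_mul] at this
  · have := key _ _ (show FreeGroup.of 2 ^ 2 * (FreeGroup.of 0 ^ 2)⁻¹ ∈ r2Rels by simp [r2Rels])
    rwa [map_pow, map_pow] at this
  · have := key _ _ (show FreeGroup.of 3 ^ 2 * (FreeGroup.of 1 ^ 2)⁻¹ ∈ r2Rels by simp [r2Rels])
    rwa [map_pow, map_pow] at this
  · have := key _ _ (show FreeGroup.of 2 * FreeGroup.of 3 * (FreeGroup.of 3 * FreeGroup.of 2)⁻¹
      ∈ r2Rels by simp [r2Rels])
    rwa [map_mul, map_mul] at this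
  · have := key _ _ (show FreeGroup.of 2 * FreeGroup.of 0 *
      (FreeGroup.of 0 * FreeGroup.of 1 ^ 2 * FreeGroup.of 2)⁻¹ ∈ r2Rels by simp [r2Rels])
    rwa [map_mul, map_mul, map_mul, map_pow] at this
  · have := key _ _ (show FreeGroup.of 2 * FreeGroup.of 1 *
      (FreeGroup.of 1 * FreeGroup.of 0 ^ 2 * FreeGroup.of 2)⁻¹ ∈ r2Rels by simp [r2Rels])
    rwa [map_mul, map_mul, map_mul, map_pow] at this
  · have := key _ _ (show FreeGroup.of 3 * FreeGroup.of 0 *
      (FreeGroup.of 0 ^ 3 * FreeGroup.of 3)⁻¹ ∈ r2Rels by simp [r2Rels])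
    rwa [map_mul, map_mul, map_pow] at this
  · have := key _ _ (show FreeGroup.of 3 * FreeGroup.of 1 *
      (FreeGroup.of 0 ^ 2 * FreeGroup.of 1 ^ 3 * FreeGroup.of 3)⁻¹ ∈ r2Rels by simp [r2Rels])
    rwa [map_mul, map_mul, map_mul, map_pow, map_pow] at this

theorem r2P_gen : Subgroup.closure ({PresentedGroup.of 0, PresentedGroup.of 1, PresentedGroup.of 2,
    PresentedGroup.of 3} : Set R2P) = ⊤ := by
  rw [← PresentedGroup.closure_range_of r2Rels]
  congr 1
  ext g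
  constructor
  · rintro (rfl | rfl | rfl | rfl)
    · exact ⟨0, rfl⟩
    · exact ⟨1, rfl⟩
    · exact ⟨2, rfl⟩
    · exact ⟨3, rfl⟩
  · rintro ⟨i, rfl⟩
    fin_cases i
    · exact Or.inl rfl
    · exact Or.inr (Or.inl rfl)
    · exact Or.inr (Or.inr (Or.inl rfl))
    · exact Or.inr (Or.inr (Or.inr rfl))

instance r2P_finite : Finite R2P := r2rel_finite r2P_rel r2P_gen

theorem r2P_card_le : Nat.card R2P ≤ 64 := r2rel_card_le r2P_rel r2P_gen

section hom
variable {G : Type*} [Group G] {a b c d : G}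

/-- the generator assignment -/
def r2gen (a b c d : G) : Fin 4 → G := ![a, b, c, d]

theorem r2gen_rels (h : R2Rel a b c d) : ∀ r ∈ r2Rels, FreeGroup.lift (r2gen a b c d) r = 1 := by
  have e0 : r2gen a b c d 0 = a := rfl
  have e1 : r2gen a b c d 1 = b := rfl
  have e2 : r2gen a b c d 2 = c := rfl
  have e3 : r2gen a b c d 3 = d := rfl
  rintro r (rfl | rfl | rfl | rfl | rfl | rfl | rfl | rfl | rfl | rfl)
  all_goals
    simp only [map_mul, map_inv, map_pow, map_one, FreeGroup.lift_apply_of, e0, e1, e2, e3]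
    rw [mul_inv_eq_one]
  · exact h.a4
  · exact h.b4
  · exact h.ab
  · exact h.c2
  · exact h.d2
  · exact h.cd
  · exact h.ca
  · exact h.cb
  · exact h.da
  · exact h.db

/-- the canonical homomorphism from the abstract group -/
def r2hom (h : R2Rel a b c d) : R2P →* G := PresentedGroup.toGroup (r2gen_rels h)

theorem r2hom_surj (h : R2Rel a b c d)
    (hgen : Subgroup.closure ({a, b, c, d} : Set G) = ⊤) : Function.Surjective (r2hom h) := by
  rw [← MonoidHom.range_eq_top, eq_top_iff, ← hgen, Subgroup.closure_le]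
  rintro g (rfl | rfl | rfl | rfl)
  · exact ⟨PresentedGroup.of 0, PresentedGroup.toGroup.of _⟩
  · exact ⟨PresentedGroup.of 1, PresentedGroup.toGroup.of _⟩
  · exact ⟨PresentedGroup.of 2, PresentedGroup.toGroup.of _⟩
  · exact ⟨PresentedGroup.of 3, PresentedGroup.toGroup.of _⟩

theorem r2hom_bij (h : R2Rel a b c d)
    (hgen : Subgroup.closure ({a, b, c, d} : Set G) = ⊤) (hc : Nat.card G = 64) :
    Function.Bijective (r2hom h) :=
  (r2hom_surj h hgen).bijective_of_nat_card_le (by rw [hc]; exact r2P_card_le)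

end hom

/-- two groups of order 64 generated by quadruples satisfying the relations are isomorphic -/
theorem r2rel_unique {G : Type*} [Group G] {G' : Type*} [Group G'] {a b c d : G} {a' b' c' d' : G'}
    (h : R2Rel a b c d) (hgen : Subgroup.closure ({a, b, c, d} : Set G) = ⊤)
    (hc : Nat.card G = 64)
    (h' : R2Rel a' b' c' d') (hgen' : Subgroup.closure ({a', b', c', d'} : Set G') = ⊤)
    (hc' : Nat.card G' = 64) : Nonempty (G ≃* G') :=
  ⟨(MulEquiv.ofBijective (r2hom h) (r2hom_bij h hgen hc)).symm.trans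
    (MulEquiv.ofBijective (r2hom h') (r2hom_bij h' hgen' hc'))⟩

end Cfsg.Agent.Lib.Helper9
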