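import Mathlib
import Cfsg.Agent.Lib.Helper9.R2I

set_option autoImplicit false

/-! From the structure theorem to a generating quadruple satisfying the relations. -/

namespace Cfsg.Agent.Lib.Helper9

universe u

theorem r2_dvd16 (n : ℕ) (hd : n ∣ 16) (hm : n % 3 = 1) : n = 1 ∨ n = 4 ∨ n = 16 := by
  have : n ≤ 16 := Nat.le_of_dvd (by norm_num) hd
  interval_cases n <;> omega

theorem r2_dvd64 (n : ℕ) (hd : n ∣ 64) (h16 : 16 ∣ n) (hm : n % 3 = 1) : n = 16 ∨ n = 64 := by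
  have : n ≤ 64 := Nat.le_of_dvd (by norm_num) hd
  interval_cases n <;> omega

section quad
variable {T : Type u} [Group T] [Finite T] {α : MulAut T}

theorem r2_conj_of (t c w : T) (hk : r2c t c = w) (hcomm : w * c = c * w) :
    t * c = c * w * t := by
  have := r2c_conj t c
  rw [hk, hcomm] at this
  rw [← this]; group

theorem r2_quad_aux (h : R2Hyp T α) (h3 : ∀ x : T, α (α (α x)) = x)
    (hY2 : ∀ y ∈ Subgroup.center T, y ^ 2 = 1) (hT64 : Nat.card T = 64)
    (C : Subgroup T) [C.Normal] (hCinv : r2Inv α C) (hC : ∀ a ∈ C, ∀ b ∈ C, a * b = b * a)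
    (hC16 : Nat.card C = 16) (hsq : ∀ t : T, t ^ 2 ∈ C) (hYC : Subgroup.center T ≤ C)
    (hKt : ∀ t : T, t ∉ C → ∀ c ∈ C, t * c = c * t → c ∈ Subgroup.center T)
    (t x : T) (ht : t ∉ C) (hx : x ∈ C) (hxt : x ^ 2 = t ^ 2) (hu : r2c t x = α (t ^ 2)) :
    R2Rel x (α x) t (α t) ∧ Subgroup.closure ({x, α x, t, α t} : Set T) = ⊤ := by
  have hf := r2_fpf h
  have hz1Y : t ^ 2 ∈ Subgroup.center T :=
    hKt t ht (t ^ 2) (hsq t) (by rw [pow_two, mul_assoc])
  have hz1O : t ^ 2 ∈ r2Om T := ⟨hz1Y, hY2 _ hz1Y⟩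
  have hz2O : α (t ^ 2) ∈ r2Om T := r2Inv_om _ hz1O
  have hz1ne : t ^ 2 ≠ 1 := fun h1 => ht (hYC ((r2_mem_om h t).mpr h1).1)
  have hz3 : α (α (t ^ 2)) = t ^ 2 * α (t ^ 2) := r2_om_alpha_sq h _ hz1O
  have hy : α x ∈ C := hCinv x hx
  have hy2 : (α x) ^ 2 = α (t ^ 2) := by rw [← map_pow, hxt]
  have hxy : Commute x (α x) := hC x hx (α x) hy
  -- kappa values
  have k1 : r2c t x = (α x) ^ 2 := by rw [hu, hy2]
  have k2 : r2c t (α x) = x ^ 2 := by
    rw [r2_kappa_semi hf h3 C hCinv hC t x hx, hu, h3, hxt]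
  have k3 : r2c (α t) x = x ^ 2 := by
    have : r2c (α t) x = α (r2c t (α (α x))) := by rw [r2c_map, h3]
    rw [this, r2_kappa_semi hf h3 C hCinv hC t (α x) hy, h3, k2]
  have k4 : r2c (α t) (α x) = x ^ 2 * (α x) ^ 2 := by
    rw [← r2c_map, hu, hz3, hxt, hy2]
  have ha4 : x ^ 4 = 1 := by
    rw [show 4 = 2 * 2 from rfl, pow_mul, hxt]; exact hz1O.2
  have hrel : R2Rel x (α x) t (α t) := by
    refine ⟨ha4, by rw [← map_pow, ha4, map_one], hxy.eq, hxt.symm,
      by rw [← map_pow, ← map_pow, hxt], r2_ord3_comm hf h3 t, ?_, ?_, ?_, ?_⟩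
    · exact r2_conj_of t x _ k1 (hxy.pow_right 2).symm.eq
    · exact r2_conj_of t (α x) _ k2 (hxy.pow_left 2).eq
    · have := r2_conj_of (α t) x _ k3 ((Commute.refl x).pow_left 2).eq
      rw [this, ← pow_succ']
    · have hc : Commute (x ^ 2 * (α x) ^ 2) (α x) :=
        Commute.mul_left (hxy.pow_left 2) ((Commute.refl (α x)).pow_left 2)
      have := r2_conj_of (α t) (α x) _ k4 hc.eq
      rw [this]
      congr 1
      rw [← mul_assoc, ← (hxy.pow_left 2).eq, mul_assoc, ← pow_succ']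
  refine ⟨hrel, ?_⟩
  -- generation
  set H : Subgroup T := Subgroup.closure ({x, α x, t, α t} : Set T) with hH
  have hxH : x ∈ H := Subgroup.subset_closure (by simp)
  have hyH : α x ∈ H := Subgroup.subset_closure (by simp)
  have htH : t ∈ H := Subgroup.subset_closure (by simp)
  have hsH : α t ∈ H := Subgroup.subset_closure (by simp)
  have hle : H ≤ H.comap α.toMonoidHom := by
    rw [hH, Subgroup.closure_le]
    rintro g (rfl | rfl | rfl | rfl)
    · exact hyH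
    · show α (α x) ∈ H
      have := r2_ord3_prod hf h3 x
      have e : α (α x) = (x * α x)⁻¹ := eq_inv_of_mul_eq_one_right this
      rw [e]
      exact Subgroup.inv_mem _ (Subgroup.mul_mem _ hxH hyH)
    · exact hsH
    · show α (α t) ∈ H
      have := r2_ord3_prod hf h3 t
      have e : α (α t) = (t * α t)⁻¹ := eq_inv_of_mul_eq_one_right this
      rw [e]
      exact Subgroup.inv_mem _ (Subgroup.mul_mem _ htH hsH)
  have hHinv : r2Inv α H := fun g hg => hle hg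
  have hAinv : r2Inv α (H ⊓ C) := r2Inv_inf hHinv hCinv
  have hxA : x ∈ H ⊓ C := ⟨hxH, hx⟩
  have hx1 : x ≠ 1 := by
    intro h1
    apply hz1ne
    rw [← hxt, h1, one_pow]
  have hAne : H ⊓ C ≠ ⊥ := by
    intro hb
    rw [hb, Subgroup.mem_bot] at hxA
    exact hx1 hxA
  have hCH : C ≤ H := by
    have hd : Nat.card ↥(H ⊓ C) ∣ 16 := by
      rw [← hC16]; exact Subgroup.card_dvd_of_le inf_le_right
    rcases r2_dvd16 _ hd (r2_card_mod3 h _ hAinv) with h1 | h1 | h1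
    · exact absurd (Subgroup.card_eq_one.mp h1) hAne
    · exfalso
      have hle' := r2_om_le h _ hAinv hAne
      have := Subgroup.eq_of_le_of_card_ge hle' (by rw [h1, r2_card_om h])
      rw [← this] at hxA
      apply hz1ne
      rw [← hxt]; exact hxA.2
    · have := Subgroup.eq_of_le_of_card_ge (inf_le_right : H ⊓ C ≤ C) (by rw [h1, hC16])
      rw [← this]; exact inf_le_left
  have hd64 : Nat.card H ∣ 64 := by rw [← hT64]; exact Subgroup.card_subgroup_dvd_card H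
  have hd16 : 16 ∣ Nat.card H := by rw [← hC16]; exact Subgroup.card_dvd_of_le hCH
  rcases r2_dvd64 _ hd64 hd16 (r2_card_mod3 h _ hHinv) with h1 | h1
  · exfalso
    have := Subgroup.eq_of_le_of_card_ge hCH (by rw [h1, hC16])
    apply ht
    rw [this]; exact htH
  · exact Subgroup.card_eq_iff_eq_top H |>.mp (by rw [h1, hT64])

theorem r2_hyp_inv (h : R2Hyp T α) : R2Hyp T α⁻¹ := by
  refine ⟨h.pg, ?_, h.cen, h.cnt, ?_⟩
  · obtain ⟨k, hk⟩ := h.a3
    exact ⟨k, by rw [inv_pow, hk, inv_one]⟩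
  · intro x hx2 hax
    apply h.nfx x hx2
    have := congrArg α hax
    rw [MulAut.apply_inv_self] at this
    exact this.symm

theorem r2_inv_apply (h3 : ∀ x : T, α (α (α x)) = x) (g : T) : α⁻¹ g = α (α g) := by
  conv_lhs => rw [← h3 g]
  rw [MulAut.inv_apply_self]

/-- a generating quadruple satisfying the relations -/
theorem r2_quad (h : R2Hyp T α) (st : R2Str T α) :
    ∃ a b c d : T, R2Rel a b c d ∧ Subgroup.closure ({a, b, c, d} : Set T) = ⊤ := by
  obtain ⟨C, hCn, hCinv, hC, hC16, hsq, hYC, hKt, hκ, hsqY, hsurj, hCtop⟩ := st.exC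
  haveI := hCn
  have h3 := st.ord3
  obtain ⟨t, ht⟩ : ∃ t : T, t ∉ C := by
    by_contra hcon
    push Not at hcon
    exact hCtop ((Subgroup.eq_top_iff' _).mpr hcon)
  have hz1Y : t ^ 2 ∈ Subgroup.center T :=
    hKt t ht (t ^ 2) (hsq t) (by rw [pow_two, mul_assoc])
  have hz1O : t ^ 2 ∈ r2Om T := ⟨hz1Y, st.cen2 _ hz1Y⟩
  have hz1ne : t ^ 2 ≠ 1 := fun h1 => ht (hYC ((r2_mem_om h t).mpr h1).1)
  obtain ⟨x, hx, hxt⟩ := hsurj _ hz1Y
  have hu := hκ t x hx
  rcases r2_om_elems h _ hz1O hz1ne _ hu with h1 | h1 | h1 | h1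
  · exfalso
    have hxY := hKt t ht x hx ((r2c_eq_one_iff t x).mp h1)
    apply hz1ne
    rw [← hxt]; exact st.cen2 x hxY
  · exfalso
    have hf := r2_fpf h
    have hy : α x ∈ C := hCinv x hx
    have k : r2c t (α x) = t ^ 2 * α (t ^ 2) := by
      rw [r2_kappa_semi hf h3 C hCinv hC t x hx, h1, r2_om_alpha_sq h _ hz1O]
    have hz2O : α (t ^ 2) ∈ r2Om T := r2Inv_om _ hz1O
    have hkc : r2c t (α x) ∈ Subgroup.center T := (hκ t (α x) hy).1
    have e : (α x * t) ^ 2 = 1 := by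
      rw [r2_sq_mul (α x) t hkc, k, ← map_pow, hxt]
      have e1 : α (t ^ 2) * α (t ^ 2) = 1 := by rw [← pow_two]; exact hz2O.2
      rw [mul_assoc (t ^ 2), e1, mul_one, ← pow_two]; exact hz1O.2
    have hm : α x * t ∈ C := hYC ((r2_mem_om h _).mpr e).1
    apply ht
    have : t = (α x)⁻¹ * (α x * t) := by group
    rw [this]; exact Subgroup.mul_mem _ (Subgroup.inv_mem _ hy) hm
  · obtain ⟨hr, hg⟩ := r2_quad_aux h h3 st.cen2 st.card64 C hCinv hC hC16 hsq hYC hKt t x ht hx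
      hxt h1
    exact ⟨_, _, _, _, hr, hg⟩
  · have hb : ∀ g : T, α⁻¹ g = α (α g) := r2_inv_apply h3
    have h3' : ∀ x : T, α⁻¹ (α⁻¹ (α⁻¹ x)) = x := by
      intro x; simp only [hb, h3]
    have hu' : r2c t x = α⁻¹ (t ^ 2) := by
      rw [hb, r2_om_alpha_sq h _ hz1O]; exact h1
    obtain ⟨hr, hg⟩ := r2_quad_aux (r2_hyp_inv h) h3' st.cen2 st.card64 C (r2Inv_inv hCinv) hC
      hC16 hsq hYC hKt t x ht hx hxt hu'
    exact ⟨_, _, _, _, hr, hg⟩

end quad

end Cfsg.Agent.Lib.Helper9
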