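import Mathlib
import Cfsg.Agent.Lib.Helper9.R2J
import Cfsg.Agent.Lib.helper14.SU3Even

set_option autoImplicit false

/-! The model of the Sylow 2-subgroup of `U₃(4)` satisfies the hypotheses. -/

namespace Cfsg.Agent.Lib.Helper9

open Cfsg.Agent.Lib.helper14 Cfsg.Agent.Lib.helper14.SuzModel

section model
variable {K : Type*} [Field K] [Fintype K] {σ : K →+* K} [CharP K 2]
  [hinv : Fact (∀ x, σ (σ x) = x)]

theorem r2_suz_hyp (hK : Fintype.card K = 4 ^ 2) (hσ : ∀ x, σ x = x ^ 4) :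
    ∃ α : MulAut (SuzP σ), R2Hyp (SuzP σ) α := by
  obtain ⟨w, hw, hw0, hw1⟩ := exists_fixed_ne hK (by norm_num : 3 ≤ 4)
  have hw3 : w ^ 3 = 1 := by
    apply mul_left_cancel₀ hw0
    rw [mul_one, ← pow_succ']; exact hw
  let a : fixU σ := ⟨Units.mk0 w hw0, by show σ w = w; rw [hσ]; exact hw⟩
  have ha : ((a : Kˣ) : K) = w := rfl
  have ha3 : a ^ 3 = 1 := by
    apply Subtype.ext
    apply Units.ext
    show ((a : Kˣ) : K) ^ 3 = 1
    rw [ha]; exact hw3
  have hsq : ∀ x : SuzP σ, x ^ 2 = 1 ↔ x.b = 0 := by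
    intro x
    rw [pow_two]; exact sq_eq_one_iff x
  refine ⟨scalAut a, isPGroup, ⟨1, ?_⟩, ?_, ?_, ?_⟩
  · rw [pow_one, ← scalHom_apply, ← map_pow, ha3, map_one]
  · intro x hx y
    rw [comm_iff, (hsq x).mp hx]
    simp
  · have := card_ker hK hσ
    rw [← this]
    apply Nat.card_congr
    exact Equiv.subtypeEquivRight (fun x => by rw [hsq, mem_ker_bHom])
  · intro x hx hax
    have hb := (hsq x).mp hx
    have hc := congrArg SuzP.c hax
    rw [scalAut_c, ha] at hc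
    have h0 : (w * w - 1) * x.c = 0 := by linear_combination hc
    rcases mul_eq_zero.mp h0 with h | h
    · exfalso
      apply hw1
      have hww : w * w = 1 := by linear_combination h
      calc w = w ^ 3 * w := by rw [hw3, one_mul]
        _ = (w * w) * (w * w) := by ring
        _ = 1 := by rw [hww, one_mul]
    · ext
      · rw [hb, one_b]
      · rw [h, one_c]

theorem r2_suz_quad (hK : Fintype.card K = 4 ^ 2) (hσ : ∀ x, σ x = x ^ 4) :
    ∃ a b c d : SuzP σ, R2Rel a b c d ∧ Subgroup.closure ({a, b, c, d} : Set (SuzP σ)) = ⊤ := by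
  obtain ⟨α, hα⟩ := r2_suz_hyp hK hσ
  have hna : ∃ x y : SuzP σ, x * y ≠ y * x := exists_noncomm hK hσ
  have st := r2_main _ (SuzP σ) α rfl hα hna
  exact r2_quad hα st

end model

/-- the non-commutative case -/
theorem r2_nonab_iso {T : Type*} [Group T] [Finite T] {α : MulAut T} (h : R2Hyp T α)
    (hna : ∃ a b : T, a * b ≠ b * a) {F : Type*} [Field F] [Fintype F]
    (hF : Fintype.card F = 16) (P : Sylow 2 (Cfsg.PSU 3 F 4)) :
    Nonempty (T ≃* (P : Subgroup (Cfsg.PSU 3 F 4))) := by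
  have hF' : Fintype.card F = 4 ^ 2 := by rw [hF]; norm_num
  haveI : Fact (Nat.Prime 2) := ⟨Nat.prime_two⟩
  haveI : CharP F 2 := charP_of_card_eq_prime_pow (f := 4) (by rw [hF]; norm_num)
  obtain ⟨σ, hσ⟩ := Cfsg.Agent.Lib.Lead.exists_frob hF'
  haveI : Fact (∀ x, σ (σ x) = x) := ⟨Cfsg.Agent.Lib.Lead.frob_frob hF' σ hσ⟩
  obtain ⟨e⟩ := SU3Even.sylow_equiv 2 (by norm_num) (by norm_num) hF' hσ P
  have st := r2_main _ T α rfl h hna
  obtain ⟨a, b, c, d, hr, hg⟩ := r2_quad h st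
  obtain ⟨a', b', c', d', hr', hg'⟩ := r2_suz_quad (σ := σ) hF' hσ
  have hc' : Nat.card (SuzP σ) = 64 := by
    rw [card_suzP hF' hσ]; norm_num
  obtain ⟨e'⟩ := r2rel_unique hr hg st.card64 hr' hg' hc'
  exact ⟨e'.trans e.symm⟩

end Cfsg.Agent.Lib.Helper9
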