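import Mathlib
import Cfsg.Agent.Lib.Helper9.R2K

set_option autoImplicit false

/-! The commutative case: `T ≅ Z_{2^n} × Z_{2^n}`. -/

namespace Cfsg.Agent.Lib.Helper9

universe u

/-- squaring as an endomorphism of a commutative group -/
def r2sqT {T : Type*} [Group T] (hc : ∀ a b : T, a * b = b * a) : T →* T where
  toFun x := x ^ 2
  map_one' := one_pow 2
  map_mul' a b := (show Commute a b from hc a b).mul_pow 2

theorem r2_ab_card_le : ∀ (n : ℕ) (T : Type u) [Group T] [Finite T],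
    (∀ a b : T, a * b = b * a) → Nat.card {x : T // x ^ 2 = 1} ≤ 4 →
    (∀ x : T, x ^ (2 ^ n) = 1) → Nat.card T ≤ 4 ^ n := by
  intro n
  induction n with
  | zero =>
    intro T _ _ hc h4 hexp
    have : Subsingleton T := ⟨fun a b => by
      have ha := hexp a
      have hb := hexp b
      rw [pow_zero, pow_one] at ha hb
      rw [ha, hb]⟩
    rw [Nat.card_of_subsingleton (1 : T)]
    norm_num
  | succ n ih =>
    intro T _ _ hc h4 hexp
    have hcard := r2_card_hom (r2sqT hc)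
    have hker : Nat.card (r2sqT hc).ker ≤ 4 := by
      refine le_trans (le_of_eq ?_) h4
      apply Nat.card_congr
      exact Equiv.subtypeEquivRight (fun x => by rw [MonoidHom.mem_ker]; rfl)
    have hrange : Nat.card (r2sqT hc).range ≤ 4 ^ n := by
      apply ih
      · intro a b
        exact Subtype.ext (hc a.1 b.1)
      · refine le_trans ?_ h4
        apply Nat.card_le_card_of_injective
          (fun y : {y : ↥(r2sqT hc).range // y ^ 2 = 1} =>
            (⟨y.1.1, congrArg Subtype.val y.2⟩ : {x : T // x ^ 2 = 1}))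
        intro a b hab
        have : a.1.1 = b.1.1 := congrArg (fun z : {x : T // x ^ 2 = 1} => (z : T)) hab
        exact Subtype.ext (Subtype.ext this)
      · rintro ⟨y, x, rfl⟩
        apply Subtype.ext
        show (x ^ 2) ^ (2 ^ n) = 1
        rw [← pow_mul, ← pow_succ']
        exact hexp x
    rw [hcard, pow_succ']
    exact Nat.mul_le_mul hker hrange

section cyc
variable {T : Type*} [Group T] [Finite T]

/-- the unique involution of a cyclic 2-group -/
theorem r2_cyc_invol (g : T) (m : ℕ) (hg : orderOf g = 2 ^ (m + 1)) (w : T)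
    (hw : w ∈ Subgroup.zpowers g) (hw2 : w ^ 2 = 1) (hw1 : w ≠ 1) : w = g ^ (2 ^ m) := by
  rw [← mem_powers_iff_mem_zpowers] at hw
  obtain ⟨k, hk⟩ := hw
  have hk' : g ^ k = w := hk
  subst hk'
  rw [← pow_mul] at hw2
  have hd : 2 ^ (m + 1) ∣ k * 2 := by
    rw [← hg]; exact orderOf_dvd_of_pow_eq_one hw2
  rw [pow_succ] at hd
  have hd' : 2 ^ m ∣ k := Nat.dvd_of_mul_dvd_mul_right (by norm_num) hd
  obtain ⟨j, rfl⟩ := hd'
  have hz2 : (g ^ (2 ^ m)) ^ 2 = 1 := by
    rw [← pow_mul, ← pow_succ, ← hg]; exact pow_orderOf_eq_one g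
  rw [pow_mul] at hw1 ⊢
  rw [pow_eq_pow_mod j hz2] at hw1 ⊢
  have hj : j % 2 = 0 ∨ j % 2 = 1 := by omega
  rcases hj with hj | hj
  · rw [hj, pow_zero] at hw1; exact absurd rfl hw1
  · rw [hj, pow_one]

end cyc

section ab
variable {T : Type u} [Group T] [Finite T] {α : MulAut T}

theorem r2_ab_iso (h : R2Hyp T α) (hc : ∀ a b : T, a * b = b * a) :
    ∃ n : ℕ, 1 ≤ n ∧ Nonempty (T ≃* Multiplicative (ZMod (2 ^ n) × ZMod (2 ^ n))) := by
  haveI : Nonempty T := ⟨1⟩
  obtain ⟨x, hxmax⟩ := Finite.exists_max (fun g : T => orderOf g)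
  obtain ⟨n, hn⟩ := (IsPGroup.iff_orderOf.mp h.pg) x
  have hexp : ∀ g : T, g ^ (2 ^ n) = 1 := by
    intro g
    obtain ⟨k, hk⟩ := (IsPGroup.iff_orderOf.mp h.pg) g
    have hle : 2 ^ k ≤ 2 ^ n := by rw [← hk, ← hn]; exact hxmax g
    have hkn : k ≤ n := (Nat.pow_le_pow_iff_right (by norm_num)).mp hle
    apply orderOf_dvd_iff_pow_eq_one.mp
    rw [hk]; exact pow_dvd_pow 2 hkn
  have hcardle : Nat.card T ≤ 4 ^ n := r2_ab_card_le n T hc (le_of_eq h.cnt) hexp
  have hn1 : 1 ≤ n := by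
    by_contra hcon
    have h0 : n = 0 := by omega
    rw [h0, pow_zero] at hcardle
    have h4 := r2_card_om h
    have := Subgroup.card_le_card_group (r2Om T)
    omega
  obtain ⟨m, rfl⟩ : ∃ m, n = m + 1 := ⟨n - 1, by omega⟩
  set y := α x with hy
  have hyord : orderOf y = 2 ^ (m + 1) := by
    rw [hy, MulEquiv.orderOf_eq]; exact hn
  set z := x ^ (2 ^ m) with hz
  have hz2 : z ^ 2 = 1 := by
    rw [hz, ← pow_mul, ← pow_succ, ← hn]; exact pow_orderOf_eq_one x
  have hz1 : z ≠ 1 := by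
    intro h1
    have := orderOf_dvd_of_pow_eq_one h1
    rw [hn] at this
    have := Nat.le_of_dvd (by positivity) this
    rw [pow_succ] at this
    have : 0 < 2 ^ m := by positivity
    omega
  have hdisj : Subgroup.zpowers x ⊓ Subgroup.zpowers y = ⊥ := by
    rw [Subgroup.eq_bot_iff_forall]
    intro g hg
    by_contra hg1
    obtain ⟨j, hj2, hj1⟩ := r2_invol_pow h.pg g hg1
    have hwx : g ^ (2 ^ j) ∈ Subgroup.zpowers x := Subgroup.pow_mem _ hg.1 _
    have hwy : g ^ (2 ^ j) ∈ Subgroup.zpowers y := Subgroup.pow_mem _ hg.2 _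
    have e1 := r2_cyc_invol x m hn _ hwx hj2 hj1
    have e2 := r2_cyc_invol y m hyord _ hwy hj2 hj1
    apply hz1
    apply h.nfx z hz2
    rw [hz, map_pow, ← hy, ← e2, e1]
  -- the product map
  let φ : ↥(Subgroup.zpowers x) × ↥(Subgroup.zpowers y) →* T :=
    MonoidHom.noncommCoprod (Subgroup.zpowers x).subtype (Subgroup.zpowers y).subtype
      (fun a b => hc _ _)
  have hφ : ∀ p, φ p = p.1.1 * p.2.1 := fun p => rfl
  have hinj : Function.Injective φ := by
    rw [injective_iff_map_eq_one]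
    rintro ⟨a, b⟩ hab
    rw [hφ] at hab
    have ha : a.1 = b.1⁻¹ := eq_inv_of_mul_eq_one_left hab
    have hmem : a.1 ∈ Subgroup.zpowers x ⊓ Subgroup.zpowers y :=
      ⟨a.2, by rw [ha]; exact Subgroup.inv_mem _ b.2⟩
    rw [hdisj, Subgroup.mem_bot] at hmem
    have hb : b.1 = 1 := by
      have : b.1⁻¹ = 1 := by rw [← ha]; exact hmem
      exact inv_eq_one.mp this
    exact Prod.ext (Subtype.ext hmem) (Subtype.ext hb)
  have hcx : Nat.card ↥(Subgroup.zpowers x) = 2 ^ (m + 1) := by rw [Nat.card_zpowers, hn]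
  have hcy : Nat.card ↥(Subgroup.zpowers y) = 2 ^ (m + 1) := by rw [Nat.card_zpowers, hyord]
  have hbij : Function.Bijective φ := by
    apply hinj.bijective_of_nat_card_le
    rw [Nat.card_prod, hcx, hcy, ← mul_pow]
    exact hcardle
  have hgenx : ∀ u : ↥(Subgroup.zpowers x),
      u ∈ Subgroup.zpowers (⟨x, Subgroup.mem_zpowers x⟩ : ↥(Subgroup.zpowers x)) := by
    rintro ⟨u, k, rfl⟩
    exact ⟨k, Subtype.ext (by simp)⟩
  have hgeny : ∀ u : ↥(Subgroup.zpowers y),
      u ∈ Subgroup.zpowers (⟨y, Subgroup.mem_zpowers y⟩ : ↥(Subgroup.zpowers y)) := by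
    rintro ⟨u, k, rfl⟩
    exact ⟨k, Subtype.ext (by simp)⟩
  refine ⟨m + 1, hn1, ⟨?_⟩⟩
  exact ((MulEquiv.ofBijective φ hbij).symm.trans
    (MulEquiv.prodCongr (zmodMulEquivOfGenerator hgenx hcx)
      (zmodMulEquivOfGenerator hgeny hcy)).symm).trans (MulEquiv.prodMultiplicative (G := ZMod (2 ^ (m + 1))) (H := ZMod (2 ^ (m + 1)))).symm

end ab

end Cfsg.Agent.Lib.Helper9
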