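import Mathlib
import Cfsg.Agent.Lib.Helper9.R2L

set_option autoImplicit false

/-! From transitivity on involutions to the working hypotheses. -/

namespace Cfsg.Agent.Lib.Helper9

section weak
variable {T : Type*} [Group T] [Finite T] {α : MulAut T}

theorem r2w_om_elems (hO4 : Nat.card (r2Om T) = 4) (hnfx : ∀ x ∈ r2Om T, α x = x → x = 1)
    (z : T) (hz : z ∈ r2Om T) (hz1 : z ≠ 1) (w : T)
    (hw : w ∈ r2Om T) : w = 1 ∨ w = z ∨ w = α z ∨ w = z * α z := by
  classical
  have haz : α z ∈ r2Om T := r2Inv_om z hz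
  have hzaz : z * α z ∈ r2Om T := Subgroup.mul_mem _ hz haz
  have h1 : α z ≠ z := fun hh => hz1 (hnfx z hz hh)
  have h2 : α z ≠ 1 := fun hh => hz1 (by
    apply α.injective; rw [hh, map_one])
  have h3 : z * α z ≠ 1 := by
    intro hh
    have : α z = z⁻¹ := eq_inv_of_mul_eq_one_right hh
    rw [r2_om_inv z hz] at this
    exact h1 this
  have h4 : z * α z ≠ z := by
    intro hh
    have : α z = 1 := by
      have := congrArg (fun y => z⁻¹ * y) hh
      simpa using this
    exact h2 this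
  have h5 : z * α z ≠ α z := by
    intro hh
    have : z = 1 := by
      have := congrArg (fun y => y * (α z)⁻¹) hh
      simpa using this
    exact hz1 this
  let K : Finset T := {1, z, α z, z * α z}
  have hK : K.card = 4 := by
    have e1 : (z * α z) ∉ (∅ : Finset T) := by simp
    simp only [K]
    rw [Finset.card_insert_of_notMem, Finset.card_insert_of_notMem, Finset.card_insert_of_notMem,
      Finset.card_singleton]
    · simp only [Finset.mem_singleton]; exact fun hh => h5 hh.symm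
    · simp only [Finset.mem_insert, Finset.mem_singleton, not_or]
      exact ⟨fun hh => h1 hh.symm, fun hh => h4 hh.symm⟩
    · simp only [Finset.mem_insert, Finset.mem_singleton, not_or]
      exact ⟨fun hh => hz1 hh.symm, fun hh => h2 hh.symm, fun hh => h3 hh.symm⟩
  have hsub : (K : Set T) ⊆ (r2Om T : Set T) := by
    intro k hk
    simp only [K, Finset.coe_insert, Finset.coe_singleton, Set.mem_insert_iff,
      Set.mem_singleton_iff] at hk
    rcases hk with rfl | rfl | rfl | rfl
    · exact Subgroup.one_mem _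
    · exact hz
    · exact haz
    · exact hzaz
  have hcard : (r2Om T : Set T).ncard ≤ (K : Set T).ncard := by
    rw [Set.ncard_coe_finset, hK, ← Nat.card_coe_set_eq]
    exact le_of_eq hO4
  have heq := Set.eq_of_subset_of_ncard_le hsub hcard (Set.toFinite _)
  have hwK : w ∈ (K : Set T) := by rw [heq]; exact hw
  simp only [K, Finset.coe_insert, Finset.coe_singleton, Set.mem_insert_iff,
    Set.mem_singleton_iff] at hwK
  exact hwK

theorem r2w_om_alpha_sq (hO4 : Nat.card (r2Om T) = 4) (hnfx : ∀ x ∈ r2Om T, α x = x → x = 1)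
    (z : T) (hz : z ∈ r2Om T) : α (α z) = z * α z := by
  by_cases hz1 : z = 1
  · rw [hz1]; simp
  have haz : α z ∈ r2Om T := r2Inv_om z hz
  have haaz : α (α z) ∈ r2Om T := r2Inv_om _ haz
  have h1 : α z ≠ z := fun hh => hz1 (hnfx z hz hh)
  rcases r2w_om_elems hO4 hnfx z hz hz1 _ haaz with hh | hh | hh | hh
  · exfalso
    apply hz1
    apply α.injective; apply α.injective
    rw [hh, map_one, map_one]
  · exfalso
    have hfix : α (z * α z) = z * α z := by
      rw [map_mul, hh]
      exact r2_om_central _ haz z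
    have := hnfx _ (Subgroup.mul_mem _ hz haz) hfix
    have h2 : α z = z⁻¹ := eq_inv_of_mul_eq_one_right this
    rw [r2_om_inv z hz] at h2
    exact h1 h2
  · exfalso
    exact h1 (α.injective hh)
  · exact hh

theorem r2w_om_alpha_cube (hO4 : Nat.card (r2Om T) = 4)
    (hnfx : ∀ x ∈ r2Om T, α x = x → x = 1) (z : T) (hz : z ∈ r2Om T) :
    α (α (α z)) = z := by
  have haz : α z ∈ r2Om T := r2Inv_om z hz
  rw [r2w_om_alpha_sq hO4 hnfx z hz, map_mul, r2w_om_alpha_sq hO4 hnfx z hz]
  have h2 : α z * α z = 1 := by rw [← pow_two]; exact haz.2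
  rw [r2_om_central _ haz, mul_assoc, h2, mul_one]

theorem r2w_exists_other (hO4 : Nat.card (r2Om T) = 4) (z : T) :
    ∃ w ∈ r2Om T, w ≠ 1 ∧ w ≠ z := by
  by_contra hcon
  push Not at hcon
  have hsub : (r2Om T : Set T) ⊆ ({1, z} : Set T) := by
    intro w hw
    by_cases hw1 : w = 1
    · rw [hw1]; simp
    · have := hcon w hw hw1
      rw [this]; simp
  have h1 : (r2Om T : Set T).ncard ≤ ({1, z} : Set T).ncard :=
    Set.ncard_le_ncard hsub (Set.toFinite _)
  have h2 : ({1, z} : Set T).ncard ≤ 2 := by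
    calc ({1, z} : Set T).ncard ≤ ({z} : Set T).ncard + 1 := Set.ncard_insert_le _ _
      _ = 2 := by rw [Set.ncard_singleton]
  have h3 : (r2Om T : Set T).ncard = 4 := by
    rw [← Nat.card_coe_set_eq]; exact hO4
  omega

end weak

section trans
variable {T : Type*} [Group T] [Finite T]

theorem r2_hyp_of_trans (hT : IsPGroup 2 T)
    (h2 : ∀ A : Subgroup T, IsMulCommutative A → (∀ a ∈ A, a ^ 2 = 1) → Nat.card A ≤ 2 ^ 2)
    (h1 : ∃ A : Subgroup T, IsMulCommutative A ∧ (∀ a ∈ A, a ^ 2 = 1) ∧ 2 ^ 1 < Nat.card A)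
    (φ : MulAut T)
    (htrans : ∀ s t : T, orderOf s = 2 → orderOf t = 2 → ∃ k : ℕ, (φ ^ k) s = t) :
    ∃ α : MulAut T, R2Hyp T α := by
  classical
  haveI : Fact (Nat.Prime 2) := ⟨Nat.prime_two⟩
  obtain ⟨A, hAc, hA2, hAcard⟩ := h1
  haveI : Nontrivial T := by
    by_contra hnt
    rw [not_nontrivial_iff_subsingleton] at hnt
    have : Nat.card A ≤ 1 := Finite.card_le_one_iff_subsingleton.mpr inferInstance
    omega
  haveI hcen_nt : Nontrivial (Subgroup.center T) := hT.center_nontrivial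
  obtain ⟨c, hc⟩ := exists_ne (1 : Subgroup.center T)
  have hc1 : (c : T) ≠ 1 := fun hh => hc (Subtype.ext hh)
  obtain ⟨j, hj2, hj1⟩ := r2_invol_pow hT (c : T) hc1
  have hz0c : (c : T) ^ (2 ^ j) ∈ Subgroup.center T := Subgroup.pow_mem _ c.2 _
  have hz0ord : orderOf ((c : T) ^ (2 ^ j)) = 2 := orderOf_eq_prime hj2 hj1
  have hcen : ∀ x : T, x ^ 2 = 1 → ∀ y : T, x * y = y * x := by
    intro x hx y
    by_cases hx1 : x = 1
    · rw [hx1]; simp
    have hxo : orderOf x = 2 := orderOf_eq_prime hx hx1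
    obtain ⟨k, hk⟩ := htrans _ x hz0ord hxo
    have : x ∈ Subgroup.center T := by
      rw [← hk]
      exact r2Inv_center (α := φ ^ k) _ hz0c
    exact ((Subgroup.mem_center_iff.mp this) y).symm
  have hmemO : ∀ x : T, x ∈ r2Om T ↔ x ^ 2 = 1 := fun x =>
    ⟨fun h => h.2, fun h => ⟨Subgroup.mem_center_iff.mpr (fun g => (hcen x h g).symm), h⟩⟩
  have hOle : Nat.card (r2Om T) ≤ 4 := by
    have := h2 (r2Om T) ⟨⟨fun a b => Subtype.ext (r2_om_central a.1 a.2 b.1)⟩⟩ (fun a ha => ha.2)
    simpa using this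
  have hAle : A ≤ r2Om T := fun a ha => (hmemO a).mpr (hA2 a ha)
  have hOge : 3 ≤ Nat.card (r2Om T) := by
    have := Subgroup.card_le_of_le hAle
    omega
  have hO4 : Nat.card (r2Om T) = 4 := by
    obtain ⟨k, hk⟩ := IsPGroup.iff_card.mp (hT.to_subgroup (r2Om T))
    rw [hk] at hOle hOge ⊢
    have hk2 : k ≤ 2 := by
      by_contra hcon
      have : 2 ^ 3 ≤ 2 ^ k := Nat.pow_le_pow_right (by norm_num) (by omega)
      omega
    interval_cases k <;> omega
  have hcnt : Nat.card {x : T // x ^ 2 = 1} = 4 := by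
    rw [← hO4]
    exact Nat.card_congr (Equiv.subtypeEquivRight (fun x => (hmemO x).symm))
  -- φ fixes no involution
  have hnfx : ∀ x ∈ r2Om T, φ x = x → x = 1 := by
    intro x hx hfix
    by_contra hx1
    have hall : ∀ k : ℕ, (φ ^ k) x = x := by
      intro k
      induction k with
      | zero => simp
      | succ k ih => rw [pow_succ, MulAut.mul_apply, hfix, ih]
    obtain ⟨w, hw, hw1, hwx⟩ := r2w_exists_other hO4 x
    obtain ⟨k, hk⟩ := htrans x w (orderOf_eq_prime hx.2 hx1) (orderOf_eq_prime hw.2 hw1)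
    rw [hall k] at hk
    exact hwx hk.symm
  have hcube : ∀ z ∈ r2Om T, φ (φ (φ z)) = z := r2w_om_alpha_cube hO4 hnfx
  have hsq : ∀ z ∈ r2Om T, φ (φ z) = z * φ z := r2w_om_alpha_sq hO4 hnfx
  have hmod : ∀ (q r : ℕ), ∀ z ∈ r2Om T, (φ ^ (3 * q + r)) z = (φ ^ r) z := by
    intro q r
    induction q with
    | zero => intro z _; simp
    | succ q ih =>
      intro z hz
      have : 3 * (q + 1) + r = (3 * q + r) + 3 := by ring
      rw [this, pow_add, MulAut.mul_apply, r2_cube_apply, hcube z hz, ih z hz]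
  -- the 3-part of φ
  have hord : orderOf φ ≠ 0 := (orderOf_pos φ).ne'
  obtain ⟨k, b, hb3, hkb⟩ := Nat.exists_eq_pow_mul_and_not_dvd hord 3 (by norm_num)
  refine ⟨φ ^ b, hT, ⟨k, ?_⟩, hcen, hcnt, ?_⟩
  · rw [← pow_mul, mul_comm, ← hkb, pow_orderOf_eq_one]
  · intro x hx2 hfix
    have hx : x ∈ r2Om T := (hmemO x).mpr hx2
    have hb : b = 3 * (b / 3) + b % 3 := (Nat.div_add_mod b 3).symm
    rw [hb, hmod _ _ x hx] at hfix
    have hr : b % 3 = 1 ∨ b % 3 = 2 := by omega
    rcases hr with hr | hr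
    · rw [hr, pow_one] at hfix
      exact hnfx x hx hfix
    · rw [hr, pow_two, MulAut.mul_apply, hsq x hx] at hfix
      have : φ x = 1 := by
        have := congrArg (fun y => x⁻¹ * y) hfix
        simpa using this
      apply φ.injective
      rw [this, map_one]

end trans

end Cfsg.Agent.Lib.Helper9
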