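import Mathlib
import Cfsg.Agent.Lib.Helper9.R2M

set_option autoImplicit false

/-! Fixed-point-free automorphisms of order three: counting, quotients, small groups. -/

namespace Cfsg.Agent.Lib.Helper9

/-- a fixed-point-free automorphism of order dividing three -/
structure F3Hyp (T : Type*) [Group T] (ρ : MulAut T) : Prop where
  ord3 : ∀ g : T, ρ (ρ (ρ g)) = g
  fpf : ∀ g : T, ρ g = g → g = 1

section basic
variable {T : Type*} [Group T] [Finite T] {ρ : MulAut T}

theorem f3_pow (h : F3Hyp T ρ) : ρ ^ (3 ^ 1) = 1 := by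
  ext g
  rw [pow_one, r2_cube_apply, h.ord3]; rfl

/-- every invariant subgroup has order ≡ 1 mod 3 -/
theorem f3_card_mod3 (h : F3Hyp T ρ) (S : Subgroup T) (hS : r2Inv ρ S) : Nat.card S % 3 = 1 := by
  classical
  let X : Set T := {g | g ∈ S ∧ g ≠ 1}
  have hX : ∀ g, ρ g ∈ X ↔ g ∈ X := by
    intro g
    show (ρ g ∈ S ∧ ρ g ≠ 1) ↔ (g ∈ S ∧ g ≠ 1)
    rw [r2Inv_iff hS]
    constructor
    · rintro ⟨h1, h2⟩
      refine ⟨h1, fun h0 => h2 (by rw [h0, map_one])⟩
    · rintro ⟨h1, h2⟩
      refine ⟨h1, fun h0 => h2 ?_⟩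
      apply ρ.injective
      rw [h0, map_one]
  have h3 : 3 ∣ Nat.card X := by
    apply r2_three_dvd ρ 1 (f3_pow h) X hX
    intro g hg hfix
    exact hg.2 (h.fpf g hfix)
  have hcard : Nat.card S = Nat.card X + 1 := by
    have e : ↥S ≃ Option X :=
      { toFun := fun y => if hy : y.1 = 1 then none else some ⟨y.1, y.2, hy⟩
        invFun := fun o => match o with
          | none => 1
          | some x => ⟨x.1, x.2.1⟩
        left_inv := by
          intro y
          by_cases hy : y.1 = 1
          · simp only [hy, dite_true]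
            exact Subtype.ext hy.symm
          · simp only [hy, dite_false]
        right_inv := by
          intro o
          cases o with
          | none => simp
          | some x =>
            have : x.1 ≠ 1 := x.2.2
            simp [this] }
    haveI : Fintype X := Fintype.ofFinite X
    rw [Nat.card_congr e, Nat.card_eq_fintype_card, Fintype.card_option,
      ← Nat.card_eq_fintype_card]
  rw [hcard]
  omega

theorem f3_card_mod3_top (h : F3Hyp T ρ) : Nat.card T % 3 = 1 := by
  have := f3_card_mod3 h ⊤ r2Inv_top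
  rwa [Nat.card_congr Subgroup.topEquiv.toEquiv] at this

/-- fixed cosets are trivial -/
theorem f3_coset_fix (h : F3Hyp T ρ) (N : Subgroup T) (hN : r2Inv ρ N) (t : T)
    (ht : t⁻¹ * ρ t ∈ N) : t ∈ N := by
  let X : Set T := {g | t⁻¹ * g ∈ N}
  have hX : ∀ g, ρ g ∈ X ↔ g ∈ X := by
    intro g
    show t⁻¹ * ρ g ∈ N ↔ t⁻¹ * g ∈ N
    have e : t⁻¹ * ρ g = (t⁻¹ * ρ t) * ρ (t⁻¹ * g) := by
      rw [map_mul, map_inv]; group
    rw [e, Subgroup.mul_mem_cancel_left N ht, r2Inv_iff hN]
  have hcard : Nat.card X = Nat.card N := by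
    apply Nat.card_congr
    exact
      { toFun := fun g => ⟨t⁻¹ * g.1, g.2⟩
        invFun := fun n => ⟨t * n.1, by show t⁻¹ * (t * n.1) ∈ N; rw [inv_mul_cancel_left]; exact n.2⟩
        left_inv := fun g => Subtype.ext (by simp)
        right_inv := fun n => Subtype.ext (by simp) }
  have hc : ¬ 3 ∣ Nat.card X := by
    rw [hcard]
    have := f3_card_mod3 h N hN
    omega
  obtain ⟨g, hg, hfix⟩ := r2_exists_fixed ρ 1 (f3_pow h) X hX hc
  have hg1 := h.fpf g hfix
  rw [hg1] at hg
  have : t⁻¹ * 1 ∈ N := hg
  rw [mul_one] at this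
  exact (Subgroup.inv_mem_iff N).mp this

theorem f3_res (h : F3Hyp T ρ) (S : Subgroup T) (hS : r2Inv ρ S) : F3Hyp ↥S (r2res ρ S hS) := by
  constructor
  · intro g
    apply Subtype.ext
    simp only [r2res_coe]
    exact h.ord3 g.1
  · intro g hg
    apply Subtype.ext
    have := congrArg Subtype.val hg
    simp only [r2res_coe] at this
    exact h.fpf g.1 this

theorem f3_map_eq (N : Subgroup T) (hN : r2Inv ρ N) : N.map (ρ : T →* T) = N := by
  ext y
  rw [Subgroup.mem_map]
  constructor
  · rintro ⟨x, hx, rfl⟩
    exact hN x hx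
  · intro hy
    refine ⟨ρ.symm y, ?_, ρ.apply_symm_apply y⟩
    rw [← r2Inv_iff hN]
    show ρ (ρ.symm y) ∈ N
    rw [ρ.apply_symm_apply]; exact hy

/-- the induced automorphism of the quotient by an invariant normal subgroup -/
noncomputable def f3quot (ρ : MulAut T) (N : Subgroup T) [N.Normal] (hN : r2Inv ρ N) :
    MulAut (T ⧸ N) :=
  QuotientGroup.congr N N ρ (f3_map_eq N hN)

theorem f3quot_mk (N : Subgroup T) [N.Normal] (hN : r2Inv ρ N) (g : T) :
    f3quot ρ N hN (QuotientGroup.mk g) = QuotientGroup.mk (ρ g) := rfl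

theorem f3_quot (h : F3Hyp T ρ) (N : Subgroup T) [N.Normal] (hN : r2Inv ρ N) :
    F3Hyp (T ⧸ N) (f3quot ρ N hN) := by
  constructor
  · intro q
    induction q using QuotientGroup.induction_on with
    | H g => rw [f3quot_mk, f3quot_mk, f3quot_mk, h.ord3]
  · intro q hq
    induction q using QuotientGroup.induction_on with
    | H g =>
      rw [f3quot_mk, QuotientGroup.eq] at hq
      have h1 : (ρ g)⁻¹ * g ∈ N := hq
      have h2 : g⁻¹ * ρ g ∈ N := by
        have := N.inv_mem h1
        simpa using this
      have := f3_coset_fix h N hN g h2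
      exact (QuotientGroup.eq_one_iff g).mpr this

end basic

section four
variable {α : Type*}

/-- four distinct elements of a four-element type exhaust it -/
theorem f3_four_exhaust [Finite α] (hc : Nat.card α = 4) (a b c d : α) (hab : a ≠ b) (hac : a ≠ c)
    (had : a ≠ d) (hbc : b ≠ c) (hbd : b ≠ d) (hcd : c ≠ d) (w : α) :
    w = a ∨ w = b ∨ w = c ∨ w = d := by
  classical
  haveI : Fintype α := Fintype.ofFinite α
  let K : Finset α := {a, b, c, d}
  have hK : K.card = 4 := by
    simp only [K]
    rw [Finset.card_insert_of_notMem, Finset.card_insert_of_notMem, Finset.card_insert_of_notMem,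
      Finset.card_singleton]
    · simp only [Finset.mem_singleton]; exact hcd
    · simp only [Finset.mem_insert, Finset.mem_singleton, not_or]
      exact ⟨hbc, hbd⟩
    · simp only [Finset.mem_insert, Finset.mem_singleton, not_or]
      exact ⟨hab, hac, had⟩
  have hKu : K = Finset.univ := by
    apply Finset.eq_univ_of_card
    rw [hK, ← Nat.card_eq_fintype_card, hc]
  have hw : w ∈ K := by rw [hKu]; exact Finset.mem_univ w
  simpa [K] using hw

end four

section small
variable {G : Type*} [Group G] [Finite G] {ρ : MulAut G}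

/-- the central quotient cannot have order four -/
theorem f3_no_index4 (h : F3Hyp G ρ) (hc : Nat.card G = 4 * Nat.card (Subgroup.center G)) :
    False := by
  have hZinv : r2Inv ρ (Subgroup.center G) := r2Inv_center
  have hq : Nat.card (G ⧸ Subgroup.center G) = 4 := by
    have h1 := Subgroup.card_eq_card_quotient_mul_card_subgroup (Subgroup.center G)
    have hpos : 0 < Nat.card (Subgroup.center G) := Nat.card_pos
    rw [hc] at h1
    exact (Nat.eq_of_mul_eq_mul_right hpos h1).symm
  obtain ⟨a, ha⟩ : ∃ a : G, a ∉ Subgroup.center G := by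
    by_contra hcon
    push Not at hcon
    have : Subgroup.center G = ⊤ := (Subgroup.eq_top_iff' _).mpr hcon
    rw [this, Nat.card_congr Subgroup.topEquiv.toEquiv] at hc
    have hpos : 0 < Nat.card G := Nat.card_pos
    omega
  have hcomm1 : a * ρ a = ρ a * a := r2_ord3_comm h.fpf h.ord3 a
  have hprod := r2_ord3_prod h.fpf h.ord3 a
  have hrr : ρ (ρ a) = (a * ρ a)⁻¹ := eq_inv_of_mul_eq_one_right hprod
  have hcomm2 : a * ρ (ρ a) = ρ (ρ a) * a := by
    rw [hrr]
    have : Commute a (a * ρ a) := (Commute.refl a).mul_right hcomm1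
    exact (this.inv_right).eq
  -- the four cosets
  have hra : ρ a ∉ Subgroup.center G := fun hh => ha ((r2Inv_iff hZinv a).mp hh)
  have hrra : ρ (ρ a) ∉ Subgroup.center G := fun hh => hra ((r2Inv_iff hZinv _).mp hh)
  have h01 : a⁻¹ * ρ a ∉ Subgroup.center G := fun hh => ha (f3_coset_fix h _ hZinv a hh)
  have h12 : (ρ a)⁻¹ * ρ (ρ a) ∉ Subgroup.center G :=
    fun hh => hra (f3_coset_fix h _ hZinv (ρ a) hh)
  have h02 : a⁻¹ * ρ (ρ a) ∉ Subgroup.center G := by
    intro hh
    have h1 := hZinv _ hh
    rw [map_mul, map_inv, h.ord3] at h1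
    have h2 := (Subgroup.center G).inv_mem h1
    apply h01
    simpa using h2
  let q : G → G ⧸ Subgroup.center G := QuotientGroup.mk
  have hex := f3_four_exhaust hq (q 1) (q a) (q (ρ a)) (q (ρ (ρ a)))
    (by
      intro hh
      have := (QuotientGroup.eq).mp hh
      apply ha
      simpa using this)
    (by
      intro hh
      have := (QuotientGroup.eq).mp hh
      apply hra
      simpa using this)
    (by
      intro hh
      have := (QuotientGroup.eq).mp hh
      apply hrra
      simpa using this)
    (by
      intro hh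
      exact h01 ((QuotientGroup.eq).mp hh))
    (by
      intro hh
      exact h02 ((QuotientGroup.eq).mp hh))
    (by
      intro hh
      exact h12 ((QuotientGroup.eq).mp hh))
  apply ha
  rw [Subgroup.mem_center_iff]
  intro g
  have key : ∀ r : G, a * r = r * a → q g = q r → g * a = a * g := by
    intro r hr hgr
    have hz : r⁻¹ * g ∈ Subgroup.center G := (QuotientGroup.eq).mp hgr.symm
    have hzc := Subgroup.mem_center_iff.mp hz
    have hg : g = r * (r⁻¹ * g) := by group
    generalize r⁻¹ * g = z at hzc hg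
    subst hg
    calc r * z * a = r * (z * a) := mul_assoc _ _ _
      _ = r * (a * z) := by rw [hzc a]
      _ = (r * a) * z := (mul_assoc _ _ _).symm
      _ = (a * r) * z := by rw [hr]
      _ = a * (r * z) := mul_assoc _ _ _
  rcases hex (q g) with hg | hg | hg | hg
  · exact key 1 (by simp) hg
  · exact key a rfl hg
  · exact key (ρ a) hcomm1 hg
  · exact key (ρ (ρ a)) hcomm2 hg

/-- groups of order at most sixteen with such an automorphism are commutative -/
theorem f3_comm_small (h : F3Hyp G ρ) (hp : IsPGroup 2 G) (hc : Nat.card G ≤ 16) :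
    ∀ a b : G, a * b = b * a := by
  haveI : Fact (Nat.Prime 2) := ⟨Nat.prime_two⟩
  obtain ⟨k, hk⟩ := IsPGroup.iff_card.mp hp
  have hm := f3_card_mod3_top h
  have hk4 : k ≤ 4 := by
    by_contra hcon
    have : 2 ^ 5 ≤ 2 ^ k := Nat.pow_le_pow_right (by norm_num) (by omega)
    omega
  have hcases : k = 0 ∨ k = 2 ∨ k = 4 := by
    rw [hk] at hm
    interval_cases k <;> simp_all
  rcases hcases with rfl | rfl | rfl
  · intro a b
    have : Subsingleton G := (Nat.card_eq_one_iff_unique.mp (by rw [hk]; norm_num)).1
    exact Subsingleton.elim _ _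
  · exact (IsPGroup.isMulCommutative_of_card_eq_prime_sq hk).is_comm.comm
  · haveI : Nontrivial G := by
      rw [← Finite.one_lt_card_iff_nontrivial, hk]; norm_num
    haveI hZnt : Nontrivial (Subgroup.center G) := hp.center_nontrivial
    have hZm := f3_card_mod3 h (Subgroup.center G) r2Inv_center
    have hZd : Nat.card (Subgroup.center G) ∣ 16 := by
      have := Subgroup.card_subgroup_dvd_card (Subgroup.center G)
      rw [hk] at this
      norm_num at this
      exact this
    have hZ1 : Nat.card (Subgroup.center G) ≠ 1 := by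
      intro h1
      have := Finite.one_lt_card_iff_nontrivial.mpr hZnt
      omega
    rcases r2_dvd16 _ hZd hZm with h1 | h1 | h1
    · exact absurd h1 hZ1
    · exfalso
      apply f3_no_index4 h
      rw [hk, h1]; norm_num
    · have htop : Subgroup.center G = ⊤ := by
        apply Subgroup.eq_top_of_card_eq
        rw [h1, hk]; norm_num
      intro a b
      have ha : a ∈ Subgroup.center G := by rw [htop]; exact Subgroup.mem_top a
      exact ((Subgroup.mem_center_iff.mp ha) b).symm

end small

end Cfsg.Agent.Lib.Helper9
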