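import Mathlib
import Cfsg.Agent.Lib.Helper9.F3A

set_option autoImplicit false

/-! Structure of a non-commutative group of order 64 with a fixed-point-free automorphism of
order three; semilinearity of commutators. -/

namespace Cfsg.Agent.Lib.Helper9

/-- the structure: centre a four-group containing all commutators and squares -/
structure F3Str (T : Type*) [Group T] : Prop where
  cen4 : Nat.card (Subgroup.center T) = 4
  cen2 : ∀ z ∈ Subgroup.center T, z ^ 2 = 1
  cl2 : ∀ g k : T, r2c g k ∈ Subgroup.center T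
  sq : ∀ g : T, g ^ 2 ∈ Subgroup.center T

theorem f3_dvd64 (n : ℕ) (hd : n ∣ 64) (hm : n % 3 = 1) : n = 1 ∨ n = 4 ∨ n = 16 ∨ n = 64 := by
  have : n ≤ 64 := Nat.le_of_dvd (by norm_num) hd
  interval_cases n <;> omega

section struct64
variable {T : Type*} [Group T] [Finite T] {ρ : MulAut T}

theorem f3_struct64 (h : F3Hyp T ρ) (hT : Nat.card T = 64) (hna : ∃ a b : T, a * b ≠ b * a) :
    F3Str T := by
  haveI : Fact (Nat.Prime 2) := ⟨Nat.prime_two⟩
  have hp : IsPGroup 2 T := IsPGroup.of_card (n := 6) (by rw [hT]; norm_num)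
  haveI : Nontrivial T := by
    rw [← Finite.one_lt_card_iff_nontrivial, hT]; norm_num
  haveI hZnt : Nontrivial (Subgroup.center T) := hp.center_nontrivial
  have hZm := f3_card_mod3 h (Subgroup.center T) r2Inv_center
  have hZd : Nat.card (Subgroup.center T) ∣ 64 := by
    rw [← hT]; exact Subgroup.card_subgroup_dvd_card _
  have hZ4 : Nat.card (Subgroup.center T) = 4 := by
    rcases f3_dvd64 _ hZd hZm with h1 | h1 | h1 | h1
    · exfalso
      have := Finite.one_lt_card_iff_nontrivial.mpr hZnt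
      omega
    · exact h1
    · exfalso
      apply f3_no_index4 h
      rw [hT, h1]
    · exfalso
      obtain ⟨a, b, hab⟩ := hna
      apply hab
      have htop : Subgroup.center T = ⊤ := by
        apply Subgroup.eq_top_of_card_eq
        rw [h1, hT]
      have ha : a ∈ Subgroup.center T := by rw [htop]; exact Subgroup.mem_top a
      exact ((Subgroup.mem_center_iff.mp ha) b).symm
  -- the quotient is commutative
  have hQ := f3_quot h (Subgroup.center T) r2Inv_center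
  have hQp : IsPGroup 2 (T ⧸ Subgroup.center T) := hp.to_quotient _
  have hQc : Nat.card (T ⧸ Subgroup.center T) ≤ 16 := by
    have h1 := Subgroup.card_eq_card_quotient_mul_card_subgroup (Subgroup.center T)
    rw [hT, hZ4] at h1
    omega
  have hQcomm := f3_comm_small hQ hQp hQc
  have hcl : ∀ g k : T, r2c g k ∈ Subgroup.center T := by
    intro g k
    rw [← QuotientGroup.eq_one_iff]
    unfold r2c
    rw [QuotientGroup.mk_mul, QuotientGroup.mk_mul, QuotientGroup.mk_mul, QuotientGroup.mk_inv,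
      QuotientGroup.mk_inv, hQcomm (g : T ⧸ Subgroup.center T) k]
    group
  -- exponent two
  have hO : r2Om T ≤ Subgroup.center T := fun z hz => hz.1
  have hOm := f3_card_mod3 h (r2Om T) r2Inv_om
  have hOd : Nat.card (r2Om T) ∣ 4 := by
    rw [← hZ4]; exact Subgroup.card_dvd_of_le hO
  have hOne : r2Om T ≠ ⊥ := by
    obtain ⟨c, hc⟩ := exists_ne (1 : Subgroup.center T)
    have hc1 : (c : T) ≠ 1 := fun hh => hc (Subtype.ext hh)
    obtain ⟨j, hj2, hj1⟩ := r2_invol_pow hp (c : T) hc1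
    intro hbot
    have hmem : (c : T) ^ (2 ^ j) ∈ r2Om T := ⟨Subgroup.pow_mem _ c.2 _, hj2⟩
    rw [hbot, Subgroup.mem_bot] at hmem
    exact hj1 hmem
  have hO4 : Nat.card (r2Om T) = 4 := by
    have hle : Nat.card (r2Om T) ≤ 4 := Nat.le_of_dvd (by norm_num) hOd
    have h1 : Nat.card (r2Om T) ≠ 1 := fun h1 => hOne (Subgroup.card_eq_one.mp h1)
    interval_cases hh : Nat.card (r2Om T) <;> simp_all
  have hOZ : r2Om T = Subgroup.center T :=
    Subgroup.eq_of_le_of_card_ge hO (by rw [hO4, hZ4])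
  have hcen2 : ∀ z ∈ Subgroup.center T, z ^ 2 = 1 := by
    intro z hz
    rw [← hOZ] at hz
    exact hz.2
  refine ⟨hZ4, hcen2, hcl, ?_⟩
  intro g
  rw [Subgroup.mem_center_iff]
  intro k
  have h1 : r2c (g * g) k = 1 := by
    rw [r2c_mul_left _ _ _ (hcl g k), ← pow_two]
    exact hcen2 _ (hcl g k)
  rw [pow_two]
  exact ((r2c_eq_one_iff _ _).mp h1).symm

end struct64

section semi
variable {T : Type*} [Group T] [Finite T] {ρ : MulAut T}

theorem f3_I2 (h : F3Hyp T ρ) (hcl : ∀ g k : T, r2c g k ∈ Subgroup.center T) (g k : T) :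
    r2c g (ρ k) = r2c (ρ g) k := by
  have h0 : r2c (g * k) (ρ (g * k)) = 1 :=
    (r2c_eq_one_iff _ _).mpr (r2_ord3_comm h.fpf h.ord3 (g * k))
  rw [map_mul, r2c_mul_right _ _ _ (hcl _ _), r2c_mul_left _ _ _ (hcl _ _),
    r2c_mul_left _ _ _ (hcl _ _)] at h0
  have hg : r2c g (ρ g) = 1 := (r2c_eq_one_iff _ _).mpr (r2_ord3_comm h.fpf h.ord3 g)
  have hk : r2c k (ρ k) = 1 := (r2c_eq_one_iff _ _).mpr (r2_ord3_comm h.fpf h.ord3 k)
  rw [hg, hk, one_mul, mul_one] at h0
  have : r2c g (ρ k) = (r2c k (ρ g))⁻¹ := eq_inv_of_mul_eq_one_right h0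
  rw [this]
  exact (r2c_symm k (ρ g)).symm

theorem f3_I3 (h : F3Hyp T ρ) (hcl : ∀ g k : T, r2c g k ∈ Subgroup.center T) (g k : T) :
    r2c g (ρ k) = ρ (ρ (r2c g k)) := by
  have hd := f3_I2 h hcl g k
  have hrr : ρ (ρ g) = (g * ρ g)⁻¹ := eq_inv_of_mul_eq_one_right (r2_ord3_prod h.fpf h.ord3 g)
  have e1 : r2c (ρ (ρ g)) k = (r2c g k * r2c g (ρ k))⁻¹ := by
    rw [hrr, r2c_inv_left _ _ (hcl _ _), r2c_mul_left _ _ _ (hcl _ _), ← hd]
  have e2 : r2c (ρ (ρ g)) k = ρ (r2c g k) := by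
    rw [← f3_I2 h hcl (ρ g) k, ← r2c_map]
  have hc := Subgroup.mem_center_iff.mp (hcl g k)
  have hrc : ρ (ρ (r2c g k)) = (r2c g k * ρ (r2c g k))⁻¹ :=
    eq_inv_of_mul_eq_one_right (r2_ord3_prod h.fpf h.ord3 (r2c g k))
  rw [hrc, ← e2, e1]
  have hc' := hc (r2c g (ρ k))
  -- goal: d = (c * (c * d)⁻¹)⁻¹
  have e3 : (r2c g k * (r2c g k * r2c g (ρ k))⁻¹)⁻¹ = r2c g k * r2c g (ρ k) * (r2c g k)⁻¹ := by
    group
  rw [e3, ← hc', mul_assoc, mul_inv_cancel, mul_one]

theorem f3_I3' (h : F3Hyp T ρ) (hcl : ∀ g k : T, r2c g k ∈ Subgroup.center T) (g k : T) :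
    r2c (ρ g) k = ρ (ρ (r2c g k)) := by
  rw [← f3_I2 h hcl]; exact f3_I3 h hcl g k

end semi

end Cfsg.Agent.Lib.Helper9
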