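import Mathlib
import Cfsg.Agent.Lib.Helper9.F3B

set_option autoImplicit false

/-! The involution inverting the automorphism of order three: fixed points. -/

namespace Cfsg.Agent.Lib.Helper9

/-- an involutory automorphism inverting `ρ` -/
structure F3Inv (T : Type*) [Group T] (ρ x : MulAut T) : Prop where
  inv2 : ∀ g : T, x (x g) = g
  tw : ∀ g : T, x (ρ g) = ρ (ρ (x g))

section zlevel
variable {T : Type*} [Group T] [Finite T] {ρ x : MulAut T}

theorem f3_Z_nonfixed (h : F3Hyp T ρ) (st : F3Str T) (hx : F3Inv T ρ x) :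
    ∃ w ∈ Subgroup.center T, x w ≠ w := by
  by_contra hcon
  push Not at hcon
  haveI : Nontrivial (Subgroup.center T) := by
    rw [← Finite.one_lt_card_iff_nontrivial, st.cen4]; norm_num
  obtain ⟨z, hz⟩ := exists_ne (1 : Subgroup.center T)
  have hz1 : (z : T) ≠ 1 := fun hh => hz (Subtype.ext hh)
  have hρz : ρ (z : T) ∈ Subgroup.center T := r2Inv_center _ z.2
  have e1 := hcon _ hρz
  rw [hx.tw, hcon _ z.2] at e1
  have e2 : ρ (z : T) = z := ρ.injective e1
  exact hz1 (h.fpf _ e2)

theorem f3_Z_fixed (h : F3Hyp T ρ) (st : F3Str T) (hx : F3Inv T ρ x) :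
    ∃ c0 ∈ Subgroup.center T, c0 ≠ 1 ∧ x c0 = c0 ∧
      (∀ z ∈ Subgroup.center T, x z = z → z = 1 ∨ z = c0) ∧
      ∃ w ∈ Subgroup.center T, w * x w = c0 := by
  obtain ⟨w, hw, hxw⟩ := f3_Z_nonfixed h st hx
  have hxwZ : x w ∈ Subgroup.center T := r2Inv_center _ hw
  have hwc := Subgroup.mem_center_iff.mp hw
  have hw2 : w * w = 1 := by rw [← pow_two]; exact st.cen2 w hw
  have hxw2 : x w * x w = 1 := by rw [← pow_two]; exact st.cen2 _ hxwZ
  have hcZ : w * x w ∈ Subgroup.center T := Subgroup.mul_mem _ hw hxwZ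
  have hfix : x (w * x w) = w * x w := by
    rw [map_mul, hx.inv2]; exact hwc (x w)
  have hw1 : w ≠ 1 := by
    intro hh; apply hxw; rw [hh, map_one]
  have hxw1 : x w ≠ 1 := by
    intro hh; apply hw1
    apply x.injective; rw [hh, map_one]
  have hc1 : w * x w ≠ 1 := by
    intro hh
    apply hxw
    have : x w = w⁻¹ := eq_inv_of_mul_eq_one_right hh
    rw [this]
    exact inv_eq_of_mul_eq_one_left hw2
  refine ⟨w * x w, hcZ, hc1, hfix, ?_, w, hw, rfl⟩
  intro z hz hzfix
  have hex := f3_four_exhaust st.cen4 (1 : Subgroup.center T) ⟨w, hw⟩ ⟨x w, hxwZ⟩ ⟨w * x w, hcZ⟩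
    (fun hh => hw1 (congrArg Subtype.val hh).symm)
    (fun hh => hxw1 (congrArg Subtype.val hh).symm)
    (fun hh => hc1 (congrArg Subtype.val hh).symm)
    (fun hh => hxw (congrArg Subtype.val hh).symm)
    (fun hh => by
      have h1 : w = w * x w := congrArg Subtype.val hh
      apply hxw1
      have := congrArg (fun y => w⁻¹ * y) h1
      simpa using this.symm)
    (fun hh => by
      have h1 : x w = w * x w := congrArg Subtype.val hh
      apply hw1
      have := congrArg (fun y => y * (x w)⁻¹) h1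
      simpa using this.symm)
    ⟨z, hz⟩
  rcases hex with hh | hh | hh | hh
  · left; exact congrArg Subtype.val hh
  · exfalso
    have : z = w := congrArg Subtype.val hh
    rw [this] at hzfix
    exact hxw hzfix
  · exfalso
    have : z = x w := congrArg Subtype.val hh
    rw [this, hx.inv2] at hzfix
    exact hxw hzfix.symm
  · right; exact congrArg Subtype.val hh

/-- elements fixed modulo the centre can be corrected to fixed elements -/
theorem f3_lift (h : F3Hyp T ρ) (st : F3Str T) (hx : F3Inv T ρ x) (t : T)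
    (ht : t⁻¹ * x t ∈ Subgroup.center T) :
    ∃ z ∈ Subgroup.center T, x (t * z) = t * z := by
  obtain ⟨c0, hc0Z, hc01, hc0fix, hfixed, w, hw, hwc0⟩ := f3_Z_fixed h st hx
  have hu2 : (t⁻¹ * x t) * (t⁻¹ * x t) = 1 := by rw [← pow_two]; exact st.cen2 _ ht
  have hxu : x (t⁻¹ * x t) = t⁻¹ * x t := by
    rw [map_mul, map_inv, hx.inv2]
    have : (x t)⁻¹ * t = (t⁻¹ * x t)⁻¹ := by group
    rw [this]
    exact inv_eq_of_mul_eq_one_left hu2
  rcases hfixed _ ht hxu with h1 | h1
  · refine ⟨1, Subgroup.one_mem _, ?_⟩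
    rw [mul_one]
    have := congrArg (fun y => t * y) h1
    simpa using this
  · refine ⟨w, hw, ?_⟩
    have hxwZ : x w ∈ Subgroup.center T := r2Inv_center _ hw
    have hxw2 : x w * x w = 1 := by rw [← pow_two]; exact st.cen2 _ hxwZ
    have hxt : x t = t * (w * x w) := by
      rw [hwc0, ← h1]; group
    rw [map_mul, hxt, mul_assoc, mul_assoc, hxw2, mul_one]

end zlevel

section qlevel
variable {T : Type*} [Group T] [Finite T] {ρ x : MulAut T}

/-- decomposition modulo the centre into fixed elements -/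
theorem f3_decomp (h : F3Hyp T ρ) (st : F3Str T) (hx : F3Inv T ρ x) (g : T) :
    ∃ t1 t2 : T, t1⁻¹ * x t1 ∈ Subgroup.center T ∧ t2⁻¹ * x t2 ∈ Subgroup.center T ∧
      (t1 * ρ t2)⁻¹ * g ∈ Subgroup.center T := by
  have hZρ : r2Inv ρ (Subgroup.center T) := r2Inv_center
  have hZx : r2Inv x (Subgroup.center T) := r2Inv_center
  let rb := f3quot ρ (Subgroup.center T) hZρ
  let xb := f3quot x (Subgroup.center T) hZx
  have hQ := f3_quot h (Subgroup.center T) hZρ
  have hQc : ∀ a b : T ⧸ Subgroup.center T, a * b = b * a := by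
    intro a b
    induction a using QuotientGroup.induction_on with
    | H a =>
      induction b using QuotientGroup.induction_on with
      | H b =>
        rw [← QuotientGroup.mk_mul, ← QuotientGroup.mk_mul, QuotientGroup.eq]
        have : (a * b)⁻¹ * (b * a) = r2c b⁻¹ a⁻¹ := by unfold r2c; group
        rw [this]
        exact st.cl2 _ _
  have hQs : ∀ a : T ⧸ Subgroup.center T, a * a = 1 := by
    intro a
    induction a using QuotientGroup.induction_on with
    | H a =>
      rw [← QuotientGroup.mk_mul, QuotientGroup.eq_one_iff, ← pow_two]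
      exact st.sq a
  have hQ3 : ∀ v : T ⧸ Subgroup.center T, v * rb v * rb (rb v) = 1 :=
    fun v => r2_ord3_prod hQ.fpf hQ.ord3 v
  have hQtw : ∀ v : T ⧸ Subgroup.center T, xb (rb v) = rb (rb (xb v)) := by
    intro v
    induction v using QuotientGroup.induction_on with
    | H a =>
      show f3quot x _ hZx (f3quot ρ _ hZρ (QuotientGroup.mk a)) =
        f3quot ρ _ hZρ (f3quot ρ _ hZρ (f3quot x _ hZx (QuotientGroup.mk a)))
      rw [f3quot_mk, f3quot_mk, f3quot_mk, f3quot_mk, f3quot_mk, hx.tw]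
  have hQ2 : ∀ v : T ⧸ Subgroup.center T, xb (xb v) = v := by
    intro v
    induction v using QuotientGroup.induction_on with
    | H a =>
      show f3quot x _ hZx (f3quot x _ hZx (QuotientGroup.mk a)) = QuotientGroup.mk a
      rw [f3quot_mk, f3quot_mk, hx.inv2]
  -- the computation in the quotient
  let v : T ⧸ Subgroup.center T := QuotientGroup.mk g
  have hd2 : xb (v * xb v) = v * xb v := by
    rw [map_mul, hQ2, hQc]
  have hrr : rb (rb (v * xb v)) = (v * xb v) * rb (v * xb v) := by
    have h1 := hQ3 (v * xb v)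
    have h2 : rb (rb (v * xb v)) = ((v * xb v) * rb (v * xb v))⁻¹ :=
      eq_inv_of_mul_eq_one_right h1
    rw [h2]
    exact inv_eq_of_mul_eq_one_left (hQs _)
  have hd1 : xb (v * rb (v * xb v)) = v * rb (v * xb v) := by
    rw [map_mul, hQtw, hd2, hrr]
    -- xb v * ((v * xb v) * rb (v * xb v)) = v * rb (v * xb v)
    rw [← mul_assoc, ← mul_assoc, hQc (xb v) v, mul_assoc v, hQs, mul_one]
  have hv : v = (v * rb (v * xb v)) * rb (v * xb v) := by
    rw [mul_assoc, hQs, mul_one]
  refine ⟨g * ρ (g * x g), g * x g, ?_, ?_, ?_⟩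
  · have e : xb (QuotientGroup.mk (g * ρ (g * x g))) = QuotientGroup.mk (g * ρ (g * x g)) := by
      have : (QuotientGroup.mk (g * ρ (g * x g)) : T ⧸ Subgroup.center T) =
          v * rb (v * xb v) := rfl
      rw [this]; exact hd1
    have e' : (QuotientGroup.mk (x (g * ρ (g * x g))) : T ⧸ Subgroup.center T) =
        QuotientGroup.mk (g * ρ (g * x g)) := e
    have := (QuotientGroup.eq).mp e'.symm
    exact this
  · have e : xb (QuotientGroup.mk (g * x g)) = QuotientGroup.mk (g * x g) := by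
      have : (QuotientGroup.mk (g * x g) : T ⧸ Subgroup.center T) = v * xb v := rfl
      rw [this]; exact hd2
    have e' : (QuotientGroup.mk (x (g * x g)) : T ⧸ Subgroup.center T) =
        QuotientGroup.mk (g * x g) := e
    exact (QuotientGroup.eq).mp e'.symm
  · have e : (QuotientGroup.mk (g * ρ (g * x g) * ρ (g * x g)) : T ⧸ Subgroup.center T) =
        QuotientGroup.mk g := by
      have : (QuotientGroup.mk (g * ρ (g * x g) * ρ (g * x g)) : T ⧸ Subgroup.center T) =
          (v * rb (v * xb v)) * rb (v * xb v) := rfl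
      rw [this, ← hv]
    exact (QuotientGroup.eq).mp e

/-- every element is a fixed element times the image of a fixed element times a central one -/
theorem f3_DrD (h : F3Hyp T ρ) (st : F3Str T) (hx : F3Inv T ρ x) (g : T) :
    ∃ e1 e2 z : T, x e1 = e1 ∧ x e2 = e2 ∧ z ∈ Subgroup.center T ∧ g = e1 * ρ e2 * z := by
  obtain ⟨t1, t2, ht1, ht2, hg⟩ := f3_decomp h st hx g
  obtain ⟨z1, hz1, he1⟩ := f3_lift h st hx t1 ht1
  obtain ⟨z2, hz2, he2⟩ := f3_lift h st hx t2 ht2
  refine ⟨t1 * z1, t2 * z2, (t1 * z1 * ρ (t2 * z2))⁻¹ * g, he1, he2, ?_, by group⟩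
  rw [← QuotientGroup.eq_one_iff]
  have hρz2 : ρ z2 ∈ Subgroup.center T := r2Inv_center _ hz2
  have e1 : (QuotientGroup.mk z1 : T ⧸ Subgroup.center T) = 1 :=
    (QuotientGroup.eq_one_iff _).mpr hz1
  have e2 : (QuotientGroup.mk (ρ z2) : T ⧸ Subgroup.center T) = 1 :=
    (QuotientGroup.eq_one_iff _).mpr hρz2
  have e3 : (QuotientGroup.mk ((t1 * ρ t2)⁻¹ * g) : T ⧸ Subgroup.center T) = 1 :=
    (QuotientGroup.eq_one_iff _).mpr hg
  rw [map_mul, QuotientGroup.mk_mul, QuotientGroup.mk_inv, QuotientGroup.mk_mul,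
    QuotientGroup.mk_mul, QuotientGroup.mk_mul, e1, e2, mul_one, mul_one]
  rw [QuotientGroup.mk_mul, QuotientGroup.mk_inv, QuotientGroup.mk_mul] at e3
  exact e3

end qlevel

end Cfsg.Agent.Lib.Helper9
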