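import Mathlib
import Cfsg.Agent.Lib.Helper9.F3C
import Cfsg.Agent.Lib.Helper24.Taussky

set_option autoImplicit false

/-! The fixed points of the involution: a non-commutative group of order eight. -/

namespace Cfsg.Agent.Lib.Helper9

section clo
variable {T : Type*} [Group T]

theorem f3_closure_comm (S : Set T) (hS : ∀ s ∈ S, ∀ s' ∈ S, s * s' = s' * s) :
    ∀ a ∈ Subgroup.closure S, ∀ b ∈ Subgroup.closure S, a * b = b * a := by
  have h1 : Subgroup.closure S ≤ Subgroup.centralizer S := by
    rw [Subgroup.closure_le]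
    intro s hs
    show s ∈ Subgroup.centralizer S
    rw [Subgroup.mem_centralizer_iff]
    intro s' hs'
    exact hS s' hs' s hs
  intro a ha b hb
  have ha' := Subgroup.mem_centralizer_iff.mp (h1 ha)
  have h2 : S ⊆ Subgroup.centralizer ({a} : Set T) := by
    intro s hs
    show s ∈ Subgroup.centralizer ({a} : Set T)
    rw [Subgroup.mem_centralizer_iff]
    intro y hy
    rw [Set.mem_singleton_iff] at hy
    rw [hy]
    exact (ha' s hs).symm
  have h3 := (Subgroup.closure_le _).mpr h2 hb
  rw [Subgroup.mem_centralizer_iff] at h3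
  exact h3 a rfl

end clo

section fixed
variable {T : Type*} [Group T] [Finite T] {ρ x : MulAut T}

/-- two non-commuting fixed elements -/
theorem f3_D_noncomm (h : F3Hyp T ρ) (st : F3Str T) (hx : F3Inv T ρ x)
    (hna : ∃ a b : T, a * b ≠ b * a) : ∃ e f : T, x e = e ∧ x f = f ∧ e * f ≠ f * e := by
  by_contra hcon
  push Not at hcon
  obtain ⟨a, b, hab⟩ := hna
  apply hab
  let S : Set T := {s | x s = s ∨ (∃ e, x e = e ∧ s = ρ e) ∨ s ∈ Subgroup.center T}
  have hcen : ∀ s ∈ Subgroup.center T, ∀ s' : T, s * s' = s' * s := by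
    intro s hs s'
    exact ((Subgroup.mem_center_iff.mp hs) s').symm
  have hS : ∀ s ∈ S, ∀ s' ∈ S, s * s' = s' * s := by
    rintro s (hs | ⟨e, he, rfl⟩ | hs) s' (hs' | ⟨e', he', rfl⟩ | hs')
    · exact hcon s s' hs hs'
    · rw [← r2c_eq_one_iff, f3_I3 h st.cl2, (r2c_eq_one_iff _ _).mpr (hcon s e' hs he'), map_one,
        map_one]
    · exact (hcen s' hs' s).symm
    · rw [← r2c_eq_one_iff, f3_I3' h st.cl2, (r2c_eq_one_iff _ _).mpr (hcon e s' he hs'), map_one,
        map_one]
    · rw [← map_mul, ← map_mul, hcon e e' he he']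
    · exact (hcen s' hs' _).symm
    · exact hcen s hs s'
    · exact hcen s hs _
    · exact hcen s hs s'
  have hmem : ∀ g : T, g ∈ Subgroup.closure S := by
    intro g
    obtain ⟨e1, e2, z, he1, he2, hz, rfl⟩ := f3_DrD h st hx g
    apply Subgroup.mul_mem _ (Subgroup.mul_mem _ _ _) _
    · exact Subgroup.subset_closure (Or.inl he1)
    · exact Subgroup.subset_closure (Or.inr (Or.inl ⟨e2, he2, rfl⟩))
    · exact Subgroup.subset_closure (Or.inr (Or.inr hz))
  exact f3_closure_comm S hS a (hmem a) b (hmem b)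

/-- the fixed-point subgroup has order eight -/
theorem f3_card_D (h : F3Hyp T ρ) (st : F3Str T) (hx : F3Inv T ρ x) (hT : Nat.card T = 64)
    (hna : ∃ a b : T, a * b ≠ b * a) (C : Subgroup T) (hC : ∀ y : T, y ∈ C ↔ x y = y) :
    Nat.card C = 8 := by
  haveI : Fact (Nat.Prime 2) := ⟨Nat.prime_two⟩
  have hp : IsPGroup 2 T := IsPGroup.of_card (n := 6) (by rw [hT]; norm_num)
  obtain ⟨e, f, he, hf, hef⟩ := f3_D_noncomm h st hx hna
  -- upper bound
  have hle : Nat.card C * Nat.card C ≤ 64 := by
    rw [← hT, ← Nat.card_prod]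
    apply Nat.card_le_card_of_injective (fun p : ↥C × ↥C => (p.1 : T) * ρ (p.2 : T))
    rintro ⟨d1, d2⟩ ⟨d1', d2'⟩ hdd
    have hdd' : (d1 : T) * ρ (d2 : T) = (d1' : T) * ρ (d2' : T) := hdd
    have hu : (d1' : T)⁻¹ * d1 = ρ ((d2' : T) * (d2 : T)⁻¹) := by
      rw [map_mul, map_inv]
      have := congrArg (fun y => (d1' : T)⁻¹ * y * (ρ (d2 : T))⁻¹) hdd'
      simpa [mul_assoc] using this
    have hm : x ((d2' : T) * (d2 : T)⁻¹) = (d2' : T) * (d2 : T)⁻¹ := by
      rw [map_mul, map_inv, (hC _).mp d2'.2, (hC _).mp d2.2]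
    have hxu : x ((d1' : T)⁻¹ * d1) = (d1' : T)⁻¹ * d1 := by
      rw [map_mul, map_inv, (hC _).mp d1'.2, (hC _).mp d1.2]
    rw [hu, hx.tw, hm] at hxu
    have h1 : ρ ((d2' : T) * (d2 : T)⁻¹) = (d2' : T) * (d2 : T)⁻¹ := ρ.injective hxu
    have h2 := h.fpf _ h1
    have h3 : (d2' : T) = d2 := by
      have := congrArg (fun y => y * (d2 : T)) h2
      simpa using this
    rw [h2, map_one] at hu
    have h4 : (d1 : T) = d1' := by
      have := congrArg (fun y => (d1' : T) * y) hu
      simpa using this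
    exact Prod.ext (Subtype.ext h4) (Subtype.ext h3.symm)
  obtain ⟨k, hk⟩ := IsPGroup.iff_card.mp (hp.to_subgroup C)
  have heC : e ∈ C := (hC e).mpr he
  have hfC : f ∈ C := (hC f).mpr hf
  have hncomm : ¬ ∀ a b : ↥C, a * b = b * a := by
    intro hc
    apply hef
    have := hc ⟨e, heC⟩ ⟨f, hfC⟩
    exact congrArg Subtype.val this
  have hk3 : k ≤ 3 := by
    by_contra hcon
    have : 2 ^ 4 ≤ 2 ^ k := Nat.pow_le_pow_right (by norm_num) (by omega)
    rw [hk] at hle
    nlinarith
  have hk' : k = 3 := by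
    interval_cases k
    · exfalso
      apply hncomm
      have : Subsingleton ↥C := (Nat.card_eq_one_iff_unique.mp (by rw [hk]; norm_num)).1
      intro a b; exact Subsingleton.elim _ _
    · exfalso
      apply hncomm
      haveI : IsCyclic ↥C := isCyclic_of_prime_card (p := 2) (by rw [hk]; norm_num)
      exact (IsCyclic.isMulCommutative (α := ↥C)).is_comm.comm
    · exfalso
      apply hncomm
      exact (IsPGroup.isMulCommutative_of_card_eq_prime_sq (p := 2) hk).is_comm.comm
    · rfl
  rw [hk, hk']; norm_num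

end fixed

section order8
variable {G : Type*} [Group G] [Finite G]

/-- a group of order eight generated by two non-commuting elements with a central commutator of
order two containing their squares is dihedral or quaternion -/
theorem f3_order8 (h8 : Nat.card G = 8) (e f c : G) (hc : c = r2c e f) (hc1 : c ≠ 1)
    (hcc : ∀ g : G, c * g = g * c) (hc2 : c * c = 1)
    (he : e * e = 1 ∨ e * e = c) (hf : f * f = 1 ∨ f * f = c) :
    Nonempty (G ≃* DihedralGroup 4) ∨ Nonempty (G ≃* QuaternionGroup 2) := by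
  -- conjugation relations
  have hfe : f * e * f⁻¹ = c * e := by
    have h1 : e * f * e⁻¹ * f⁻¹ = c := by rw [hc]; rfl
    have h2 : f * e * f⁻¹ = c⁻¹ * e := by
      rw [← h1]; group
    rw [h2, inv_eq_of_mul_eq_one_left hc2]
  have hef : e * f * e⁻¹ = c * f := by
    have h1 : e * f * e⁻¹ * f⁻¹ = c := by rw [hc]; rfl
    rw [← h1]; group
  have hcinv : c⁻¹ = c := inv_eq_of_mul_eq_one_left hc2
  -- a general finishing step
  have finish : ∀ (a g : G), orderOf a = 4 → g ∉ Subgroup.zpowers a →
      (g * g = 1 ∨ g * g = a ^ 2) → g * a * g⁻¹ = a⁻¹ →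
      Nonempty (G ≃* DihedralGroup 4) ∨ Nonempty (G ≃* QuaternionGroup 2) := by
    intro a g ha hg hgg hga
    have hidx : (Subgroup.zpowers a).index = 2 := by
      have h1 := Subgroup.card_mul_index (Subgroup.zpowers a)
      rw [Nat.card_zpowers, ha, h8] at h1
      omega
    have hord : orderOf a = 2 ^ 2 := by rw [ha]; norm_num
    rcases hgg with hgg | hgg
    · left
      obtain ⟨k, ⟨ι⟩⟩ := Cfsg.Agent.Lib.Helper24.tk_dihedral a g 2 (le_refl _) hord hidx hg hgg hga
      have h1 := Nat.card_congr ι.toEquiv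
      rw [h8, Nat.card_eq_fintype_card, DihedralGroup.card] at h1
      have hk0 : k = 0 := by
        have h2 : 2 ^ (k + 2) = 2 ^ 2 := by omega
        have := Nat.pow_right_injective (le_refl 2) h2
        omega
      subst hk0
      exact ⟨ι⟩
    · right
      obtain ⟨k, ⟨ι⟩⟩ := Cfsg.Agent.Lib.Helper24.tk_quaternion a g 2 (le_refl _) hord hidx hg
        (by rw [hgg]; norm_num) hga
      have h1 := Nat.card_congr ι.toEquiv
      haveI : NeZero (2 ^ (k + 1)) := ⟨by positivity⟩
      rw [h8, Nat.card_eq_fintype_card, QuaternionGroup.card] at h1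
      have hk0 : k = 0 := by
        have h2 : 2 ^ (k + 1) = 2 ^ 1 := by omega
        have := Nat.pow_right_injective (le_refl 2) h2
        omega
      subst hk0
      exact ⟨ι⟩
  -- order four from square = c
  have ord4 : ∀ a : G, a * a = c → orderOf a = 4 := by
    intro a haa
    have h4 : a ^ 4 = 1 := by
      rw [show 4 = 2 + 2 from rfl, pow_add, pow_two, haa, hc2]
    have h2 : a ^ 2 ≠ 1 := by rw [pow_two, haa]; exact hc1
    have hd : orderOf a ∣ 2 ^ 2 := orderOf_dvd_of_pow_eq_one (by norm_num; exact h4)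
    obtain ⟨j, hj, hjo⟩ := (Nat.dvd_prime_pow Nat.prime_two).mp hd
    interval_cases j
    · exfalso; apply h2
      rw [pow_zero, orderOf_eq_one_iff] at hjo
      rw [hjo, one_pow]
    · exfalso; apply h2
      rw [pow_one] at hjo
      rw [← hjo]; exact pow_orderOf_eq_one a
    · rw [hjo]; norm_num
  -- not in zpowers when conjugation inverts and a² ≠ 1
  have notmem : ∀ a g : G, g * a * g⁻¹ = a⁻¹ → a * a ≠ 1 → g ∉ Subgroup.zpowers a := by
    intro a g hga haa hmem
    obtain ⟨k, rfl⟩ := Subgroup.mem_zpowers_iff.mp hmem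
    apply haa
    have h1 : a ^ k * a * (a ^ k)⁻¹ = a := by
      rw [← zpow_add_one, ← zpow_neg, ← zpow_add]; simp
    rw [h1] at hga
    have := congrArg (fun y => a * y) hga
    simpa using this
  rcases he with he | he
  · rcases hf with hf | hf
    · -- both involutions: a = e * f
      have hefsq : (e * f) * (e * f) = c := by
        have h1 : (e * f) * (e * f) = e * (f * e * f⁻¹) * (f * f) := by group
        rw [h1, hfe, hf, mul_one, ← mul_assoc, ← hcc e, mul_assoc, he, mul_one]
      have hinv : e * (e * f) * e⁻¹ = (e * f)⁻¹ := by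
        have h1 : e * (e * f) * e⁻¹ = (e * e) * f * e⁻¹ := by group
        have he' : e⁻¹ = e := inv_eq_of_mul_eq_one_left he
        have hf' : f⁻¹ = f := inv_eq_of_mul_eq_one_left hf
        rw [h1, he, one_mul, mul_inv_rev, he', hf']
      apply finish (e * f) e (ord4 _ hefsq)
        (notmem _ _ hinv (by rw [hefsq]; exact hc1)) (Or.inl he) hinv
    · -- f of order four
      have hinv : e * f * e⁻¹ = f⁻¹ := by
        rw [hef]
        have : f⁻¹ = c * f := by
          apply inv_eq_of_mul_eq_one_left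
          rw [mul_assoc, hf, hc2]
        rw [this]
      apply finish f e (ord4 _ hf) (notmem _ _ hinv (by rw [hf]; exact hc1))
        (Or.inl he) hinv
  · -- e of order four
    have hinv : f * e * f⁻¹ = e⁻¹ := by
      rw [hfe]
      have : e⁻¹ = c * e := by
        apply inv_eq_of_mul_eq_one_left
        rw [mul_assoc, he, hc2]
      rw [this]
    apply finish e f (ord4 _ he) (notmem _ _ hinv (by rw [he]; exact hc1)) ?_ hinv
    rcases hf with hf | hf
    · exact Or.inl hf
    · right; rw [hf, pow_two, he]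

end order8

end Cfsg.Agent.Lib.Helper9
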