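import Mathlib
import Cfsg.Agent.Lib.Helper9.F3D

set_option autoImplicit false

/-! An isotropic pair, the relations it satisfies, and generation. -/

namespace Cfsg.Agent.Lib.Helper9

/-- the relations of the group of order 64 on a quadruple `e, e', f, f'` -/
structure F3Rel {G : Type*} [Group G] (e e' f f' : G) : Prop where
  e2 : e * e = 1
  e'2 : e' * e' = 1
  f2 : f * f = 1
  f'2 : f' * f' = 1
  ee' : e * e' = e' * e
  ff' : f * f' = f' * f
  cc : r2c e f * r2c e f = 1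
  c'c' : r2c e' f' * r2c e' f' = 1
  ef' : r2c e f' = r2c e f * r2c e' f'
  e'f : r2c e' f = r2c e f * r2c e' f'
  ce : r2c e f * e = e * r2c e f
  ce' : r2c e f * e' = e' * r2c e f
  cf : r2c e f * f = f * r2c e f
  cf' : r2c e f * f' = f' * r2c e f
  c'e : r2c e' f' * e = e * r2c e' f'
  c'e' : r2c e' f' * e' = e' * r2c e' f'
  c'f : r2c e' f' * f = f * r2c e' f'
  c'f' : r2c e' f' * f' = f' * r2c e' f'

section pair
variable {T : Type*} [Group T] [Finite T] {ρ x : MulAut T}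

theorem f3_Z_inv (st : F3Str T) (z : T) (hz : z ∈ Subgroup.center T) : z⁻¹ = z := by
  have := st.cen2 z hz
  rw [pow_two] at this
  exact inv_eq_of_mul_eq_one_left this

theorem f3_Z_comm (z : T) (hz : z ∈ Subgroup.center T) (g : T) : z * g = g * z :=
  ((Subgroup.mem_center_iff.mp hz) g).symm

/-- `c * ρ c * ρ² c = 1` rearranged, for central `c` -/
theorem f3_Z_rr (h : F3Hyp T ρ) (st : F3Str T) (c : T) (hc : c ∈ Subgroup.center T) :
    ρ (ρ c) = c * ρ c := by
  have h1 := r2_ord3_prod h.fpf h.ord3 c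
  have h2 : ρ (ρ c) = (c * ρ c)⁻¹ := eq_inv_of_mul_eq_one_right h1
  rw [h2]
  exact f3_Z_inv st _ (Subgroup.mul_mem _ hc (r2Inv_center _ hc))

theorem f3_iso_pair (h : F3Hyp T ρ) (st : F3Str T) (hx : F3Inv T ρ x)
    (hna : ∃ a b : T, a * b ≠ b * a) : ∃ e f : T, e * e = 1 ∧ f * f = 1 ∧ r2c e f ≠ 1 := by
  obtain ⟨e, f, he, hf, hef⟩ := f3_D_noncomm h st hx hna
  have hc1 : r2c e f ≠ 1 := fun hh => hef ((r2c_eq_one_iff e f).mp hh)
  have hcZ : r2c e f ∈ Subgroup.center T := st.cl2 e f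
  have hxc : x (r2c e f) = r2c e f := by rw [r2c_map, he, hf]
  obtain ⟨c0, hc0Z, hc01, hc0fix, hfixed, -⟩ := f3_Z_fixed h st hx
  have hcc0 : r2c e f = c0 := by
    rcases hfixed _ hcZ hxc with h1 | h1
    · exact absurd h1 hc1
    · exact h1
  have hee : e * e = 1 ∨ e * e = r2c e f := by
    rw [hcc0]
    apply hfixed
    · rw [← pow_two]; exact st.sq e
    · rw [map_mul, he]
  have hff : f * f = 1 ∨ f * f = r2c e f := by
    rw [hcc0]
    apply hfixed
    · rw [← pow_two]; exact st.sq f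
    · rw [map_mul, hf]
  have hcinv : (r2c e f)⁻¹ = r2c e f := f3_Z_inv st _ hcZ
  have hc2 : r2c e f * r2c e f = 1 := by
    rw [← pow_two]; exact st.cen2 _ hcZ
  have hfe : r2c f e = r2c e f := by rw [r2c_symm e f, hcinv]
  have hefsq : ∀ a b : T, (a * b) * (a * b) = r2c b a * (a * a) * (b * b) := by
    intro a b
    have := r2_sq_mul a b (st.cl2 b a)
    rwa [pow_two, pow_two, pow_two] at this
  have hself : ∀ a : T, r2c a a = 1 := fun a => (r2c_eq_one_iff a a).mpr rfl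
  rcases hee with hee | hee
  · rcases hff with hff | hff
    · exact ⟨e, f, hee, hff, hc1⟩
    · refine ⟨e, e * f, hee, ?_, ?_⟩
      · rw [hefsq, hfe, hee, hff, mul_one, hc2]
      · rw [r2c_mul_right _ _ _ (st.cl2 _ _), hself, one_mul]; exact hc1
  · rcases hff with hff | hff
    · refine ⟨e * f, f, ?_, hff, ?_⟩
      · rw [hefsq, hfe, hee, hff, mul_one, hc2]
      · rw [r2c_mul_left _ _ _ (st.cl2 _ _), hself, mul_one]; exact hc1
    · -- the quaternion case
      set c := r2c e f with hc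
      have hρc : ρ c ∈ Subgroup.center T := r2Inv_center _ hcZ
      have hρρc : ρ (ρ c) ∈ Subgroup.center T := r2Inv_center _ hρc
      have hrr : ρ (ρ c) = c * ρ c := f3_Z_rr h st c hcZ
      have hρc2 : ρ c * ρ c = 1 := by rw [← pow_two]; exact st.cen2 _ hρc
      have k1 : r2c e (ρ f) = ρ (ρ c) := f3_I3 h st.cl2 e f
      have k2 : r2c e (ρ (ρ f)) = ρ c := by
        rw [f3_I3 h st.cl2 e (ρ f), k1, h.ord3]
      have k1' : r2c (ρ f) e = ρ (ρ c) := by
        rw [r2c_symm e (ρ f), k1]; exact f3_Z_inv st _ hρρc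
      have k2' : r2c (ρ (ρ f)) e = ρ c := by
        rw [r2c_symm e (ρ (ρ f)), k2]; exact f3_Z_inv st _ hρc
      have hρff : ρ f * ρ f = ρ c := by rw [← map_mul, hff]
      have hρρff : ρ (ρ f) * ρ (ρ f) = ρ (ρ c) := by rw [← map_mul, hρff]
      have hcomm : c * ρ c = ρ c * c := f3_Z_comm c hcZ _
      refine ⟨e * ρ f, e * ρ (ρ f), ?_, ?_, ?_⟩
      · rw [hefsq, k1', hee, hρff, hrr]
        -- c * ρ c * c * ρ c = 1
        rw [mul_assoc (c * ρ c)]
        calc c * ρ c * (c * ρ c) = ρ c * c * (c * ρ c) := by rw [hcomm]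
          _ = ρ c * ((c * c) * ρ c) := by group
          _ = 1 := by rw [hc2, one_mul, hρc2]
      · rw [hefsq, k2', hee, hρρff, hrr]
        -- ρ c * c * (c * ρ c) = 1
        calc ρ c * c * (c * ρ c) = ρ c * ((c * c) * ρ c) := by group
          _ = 1 := by rw [hc2, one_mul, hρc2]
      · rw [r2c_mul_left _ _ _ (st.cl2 _ _), r2c_mul_right _ _ _ (st.cl2 _ _),
          r2c_mul_right _ _ _ (st.cl2 _ _), hself, one_mul, k2, k1',
          (r2c_eq_one_iff _ _).mpr (r2_ord3_comm h.fpf h.ord3 (ρ f)), mul_one, hrr]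
        -- ρ c * (c * ρ c) ≠ 1
        intro hh
        apply hc1
        have : ρ c * (c * ρ c) = c := by
          rw [hcomm, ← mul_assoc, hρc2, one_mul]
        rw [← this]; exact hh

/-- the relations hold for an isotropic pair and its images -/
theorem f3_rel_of_pair (h : F3Hyp T ρ) (st : F3Str T) (e f : T) (he : e * e = 1) (hf : f * f = 1) :
    F3Rel e (ρ e) f (ρ f) := by
  have hcZ : r2c e f ∈ Subgroup.center T := st.cl2 e f
  have hc'Z : r2c (ρ e) (ρ f) ∈ Subgroup.center T := st.cl2 _ _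
  have hc' : r2c (ρ e) (ρ f) = ρ (r2c e f) := (r2c_map ρ e f).symm
  have hrr := f3_Z_rr h st _ hcZ
  refine ⟨he, by rw [← map_mul, he, map_one], hf, by rw [← map_mul, hf, map_one],
    r2_ord3_comm h.fpf h.ord3 e, r2_ord3_comm h.fpf h.ord3 f,
    by rw [← pow_two]; exact st.cen2 _ hcZ, by rw [← pow_two]; exact st.cen2 _ hc'Z,
    ?_, ?_, f3_Z_comm _ hcZ _, f3_Z_comm _ hcZ _, f3_Z_comm _ hcZ _, f3_Z_comm _ hcZ _,
    f3_Z_comm _ hc'Z _, f3_Z_comm _ hc'Z _, f3_Z_comm _ hc'Z _, f3_Z_comm _ hc'Z _⟩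
  · rw [f3_I3 h st.cl2, hrr, hc']
  · rw [f3_I3' h st.cl2, hrr, hc']

/-- generation -/
theorem f3_gen_of_pair (h : F3Hyp T ρ) (hT : Nat.card T = 64) (e f : T) (hef : r2c e f ≠ 1) :
    Subgroup.closure ({e, ρ e, f, ρ f} : Set T) = ⊤ := by
  haveI : Fact (Nat.Prime 2) := ⟨Nat.prime_two⟩
  have hp : IsPGroup 2 T := IsPGroup.of_card (n := 6) (by rw [hT]; norm_num)
  set H : Subgroup T := Subgroup.closure ({e, ρ e, f, ρ f} : Set T) with hH
  have heH : e ∈ H := Subgroup.subset_closure (by simp)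
  have hreH : ρ e ∈ H := Subgroup.subset_closure (by simp)
  have hfH : f ∈ H := Subgroup.subset_closure (by simp)
  have hrfH : ρ f ∈ H := Subgroup.subset_closure (by simp)
  have hle : H ≤ H.comap ρ.toMonoidHom := by
    rw [hH, Subgroup.closure_le]
    rintro g (rfl | rfl | rfl | rfl)
    · exact hreH
    · show ρ (ρ e) ∈ H
      have := r2_ord3_prod h.fpf h.ord3 e
      have e' : ρ (ρ e) = (e * ρ e)⁻¹ := eq_inv_of_mul_eq_one_right this
      rw [e']
      exact Subgroup.inv_mem _ (Subgroup.mul_mem _ heH hreH)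
    · exact hrfH
    · show ρ (ρ f) ∈ H
      have := r2_ord3_prod h.fpf h.ord3 f
      have e' : ρ (ρ f) = (f * ρ f)⁻¹ := eq_inv_of_mul_eq_one_right this
      rw [e']
      exact Subgroup.inv_mem _ (Subgroup.mul_mem _ hfH hrfH)
  have hHinv : r2Inv ρ H := fun g hg => hle hg
  have hm := f3_card_mod3 h H hHinv
  have hd : Nat.card H ∣ 64 := by rw [← hT]; exact Subgroup.card_subgroup_dvd_card H
  have hbig : ¬ Nat.card H ≤ 16 := by
    intro hle16
    have hcomm := f3_comm_small (f3_res h H hHinv) (hp.to_subgroup H) hle16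
    apply hef
    rw [r2c_eq_one_iff]
    exact congrArg Subtype.val (hcomm ⟨e, heH⟩ ⟨f, hfH⟩)
  rcases f3_dvd64 _ hd hm with h1 | h1 | h1 | h1
  · exfalso; apply hbig; rw [h1]; norm_num
  · exfalso; apply hbig; rw [h1]; norm_num
  · exfalso; apply hbig; rw [h1]
  · exact Subgroup.card_eq_iff_eq_top H |>.mp (by rw [h1, hT])

end pair

end Cfsg.Agent.Lib.Helper9
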