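import Mathlib
import Cfsg.Agent.Lib.Helper9.F3E

set_option autoImplicit false

/-! Normal forms for the relations `F3Rel`, and uniqueness of the group of order 64. -/

namespace Cfsg.Agent.Lib.Helper9

section nf
variable {G : Type*} [Group G] {e e' f f' : G}

theorem r2c_hom {H : Type*} [Group H] (φ : G →* H) (a b : G) :
    φ (r2c a b) = r2c (φ a) (φ b) := by
  unfold r2c; simp only [map_mul, map_inv]

theorem f3rel_cent_aux (w : G) (hgen : Subgroup.closure ({e, e', f, f'} : Set G) = ⊤)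
    (h1 : w * e = e * w) (h2 : w * e' = e' * w) (h3 : w * f = f * w) (h4 : w * f' = f' * w) :
    ∀ g : G, w * g = g * w := by
  have hle : Subgroup.closure ({e, e', f, f'} : Set G) ≤ Subgroup.centralizer {w} := by
    rw [Subgroup.closure_le]
    rintro g (rfl | rfl | rfl | rfl)
    all_goals
      rw [SetLike.mem_coe, Subgroup.mem_centralizer_iff]
      intro v hv
      rw [Set.mem_singleton_iff] at hv
      subst hv
    · exact h1
    · exact h2
    · exact h3
    · exact h4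
  intro g
  have hg : g ∈ Subgroup.centralizer ({w} : Set G) := hle (by rw [hgen]; exact Subgroup.mem_top _)
  exact (Subgroup.mem_centralizer_iff.mp hg) w rfl

theorem f3rel_c_comm (h : F3Rel e e' f f')
    (hgen : Subgroup.closure ({e, e', f, f'} : Set G) = ⊤) : ∀ g : G, r2c e f * g = g * r2c e f :=
  f3rel_cent_aux _ hgen h.ce h.ce' h.cf h.cf'

theorem f3rel_c'_comm (h : F3Rel e e' f f')
    (hgen : Subgroup.closure ({e, e', f, f'} : Set G) = ⊤) :
    ∀ g : G, r2c e' f' * g = g * r2c e' f' :=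
  f3rel_cent_aux _ hgen h.c'e h.c'e' h.c'f h.c'f'

theorem f3_swap (a b w : G) (hw : r2c a b = w) (hw2 : w * w = 1) (hwc : ∀ g, w * g = g * w) :
    b * a = a * b * w := by
  have h1 : a * b = w * (b * a) := by rw [← hw]; unfold r2c; group
  calc b * a = (w * w) * (b * a) := by rw [hw2, one_mul]
    _ = w * (w * (b * a)) := mul_assoc _ _ _
    _ = w * (a * b) := by rw [← h1]
    _ = a * b * w := hwc _

theorem f3_pow_comm (w : G) (hwc : ∀ g, w * g = g * w) (i : ℕ) : ∀ g, w ^ i * g = g * w ^ i :=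
  fun g => ((show Commute w g from hwc g).pow_left i).eq

theorem f3_cr (z : G) (hz : ∀ g, z * g = g * z) (a b : G) : a * z * b = a * b * z := by
  rw [mul_assoc, hz, ← mul_assoc]

theorem f3_swap_pow (a b w : G) (hs : b * a = a * b * w) (hwc : ∀ g, w * g = g * w) (i : ℕ) :
    b * a ^ i = a ^ i * b * w ^ i := by
  induction i with
  | zero => simp
  | succ i ih =>
    rw [pow_succ, ← mul_assoc, ih, f3_cr _ (f3_pow_comm w hwc i), mul_assoc (a ^ i) b a, hs,
      pow_succ]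
    simp only [mul_assoc]
    rw [f3_pow_comm w hwc i w]

/-- the collected words -/
def f3P (e e' f f' : G) (i j k l : ℕ) : G := e ^ i * e' ^ j * f ^ k * f' ^ l

theorem f3P_e (i j k l : ℕ) : e * f3P e e' f f' i j k l = f3P e e' f f' (i + 1) j k l := by
  simp only [f3P, ← mul_assoc, ← pow_succ']

theorem f3P_e' (h : F3Rel e e' f f') (i j k l : ℕ) :
    e' * f3P e e' f f' i j k l = f3P e e' f f' i (j + 1) k l := by
  have hc : e' * e ^ i = e ^ i * e' := ((show Commute e' e from h.ee'.symm).pow_right i).eq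
  simp only [f3P, ← mul_assoc]
  rw [hc, mul_assoc (e ^ i) e', ← pow_succ']

theorem f3rel_cc'_comm (h : F3Rel e e' f f')
    (hgen : Subgroup.closure ({e, e', f, f'} : Set G) = ⊤) :
    ∀ g : G, (r2c e f * r2c e' f') * g = g * (r2c e f * r2c e' f') := by
  intro g
  rw [mul_assoc, f3rel_c'_comm h hgen, ← mul_assoc, f3rel_c_comm h hgen, mul_assoc]

theorem f3rel_cc'_sq (h : F3Rel e e' f f')
    (hgen : Subgroup.closure ({e, e', f, f'} : Set G) = ⊤) :
    (r2c e f * r2c e' f') * (r2c e f * r2c e' f') = 1 := by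
  rw [mul_assoc, ← mul_assoc (r2c e' f'), ← f3rel_c_comm h hgen (r2c e' f'), mul_assoc,
    h.c'c', mul_one, h.cc]

theorem f3P_f (h : F3Rel e e' f f')
    (hgen : Subgroup.closure ({e, e', f, f'} : Set G) = ⊤) (i j k l : ℕ) :
    f * f3P e e' f f' i j k l =
      f3P e e' f f' i j (k + 1) l * (r2c e f ^ i * (r2c e f * r2c e' f') ^ j) := by
  have hc := f3rel_c_comm h hgen
  have hcc' := f3rel_cc'_comm h hgen
  have s1 : f * e = e * f * r2c e f := f3_swap e f _ rfl h.cc hc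
  have s2 : f * e' = e' * f * (r2c e f * r2c e' f') :=
    f3_swap e' f _ h.e'f (f3rel_cc'_sq h hgen) hcc'
  have p1 := f3_swap_pow e f _ s1 hc i
  have p2 := f3_swap_pow e' f _ s2 hcc' j
  simp only [f3P, ← mul_assoc]
  rw [p1, f3_cr _ (f3_pow_comm _ hc i), f3_cr _ (f3_pow_comm _ hc i), f3_cr _ (f3_pow_comm _ hc i),
    mul_assoc (e ^ i) f, p2]
  simp only [← mul_assoc]
  rw [f3_cr _ (f3_pow_comm _ hcc' j), f3_cr _ (f3_pow_comm _ hcc' j),
    f3_cr _ (f3_pow_comm _ hcc' j), mul_assoc (e ^ i * e' ^ j) f, ← pow_succ']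

theorem f3P_f' (h : F3Rel e e' f f')
    (hgen : Subgroup.closure ({e, e', f, f'} : Set G) = ⊤) (i j k l : ℕ) :
    f' * f3P e e' f f' i j k l =
      f3P e e' f f' i j k (l + 1) * ((r2c e f * r2c e' f') ^ i * r2c e' f' ^ j) := by
  have hc' := f3rel_c'_comm h hgen
  have hcc' := f3rel_cc'_comm h hgen
  have s1 : f' * e = e * f' * (r2c e f * r2c e' f') :=
    f3_swap e f' _ h.ef' (f3rel_cc'_sq h hgen) hcc'
  have s2 : f' * e' = e' * f' * r2c e' f' := f3_swap e' f' _ rfl h.c'c' hc'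
  have p1 := f3_swap_pow e f' _ s1 hcc' i
  have p2 := f3_swap_pow e' f' _ s2 hc' j
  have hff : f' * f ^ k = f ^ k * f' := ((show Commute f' f from h.ff'.symm).pow_right k).eq
  simp only [f3P, ← mul_assoc]
  rw [p1, f3_cr _ (f3_pow_comm _ hcc' i), f3_cr _ (f3_pow_comm _ hcc' i),
    f3_cr _ (f3_pow_comm _ hcc' i), mul_assoc (e ^ i) f', p2]
  simp only [← mul_assoc]
  rw [f3_cr _ (f3_pow_comm _ hc' j), f3_cr _ (f3_pow_comm _ hc' j),
    f3_cr _ (f3_pow_comm _ hc' j), mul_assoc (e ^ i * e' ^ j) f', hff, ← mul_assoc,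
    mul_assoc (e ^ i * e' ^ j * f ^ k) f', ← pow_succ']

theorem f3_cid1 {A : Type*} [CommMonoid A] (u v : A) (i j m n : ℕ) :
    u ^ i * (u * v) ^ j * (u ^ m * v ^ n) = u ^ (m + i + j) * v ^ (n + j) := by
  rw [mul_pow, pow_add, pow_add, pow_add]
  simp only [mul_comm, mul_left_comm, mul_assoc]

theorem f3_cid2 {A : Type*} [CommMonoid A] (u v : A) (i j m n : ℕ) :
    (u * v) ^ i * v ^ j * (u ^ m * v ^ n) = u ^ (m + i) * v ^ (n + i + j) := by
  rw [mul_pow, pow_add, pow_add, pow_add]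
  simp only [mul_comm, mul_left_comm, mul_assoc]

/-- normal forms -/
def f3nf (e e' f f' : G) (g : G) : Prop :=
  ∃ i j k l m n : ℕ, g = f3P e e' f f' i j k l * (r2c e f ^ m * r2c e' f' ^ n)

theorem f3nf_one : f3nf e e' f f' 1 := ⟨0, 0, 0, 0, 0, 0, by simp [f3P]⟩

theorem f3nf_e (g : G) (hg : f3nf e e' f f' g) : f3nf e e' f f' (e * g) := by
  obtain ⟨i, j, k, l, m, n, rfl⟩ := hg
  exact ⟨i + 1, j, k, l, m, n, by rw [← mul_assoc, f3P_e]⟩

theorem f3nf_e' (h : F3Rel e e' f f') (g : G) (hg : f3nf e e' f f' g) :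
    f3nf e e' f f' (e' * g) := by
  obtain ⟨i, j, k, l, m, n, rfl⟩ := hg
  exact ⟨i, j + 1, k, l, m, n, by rw [← mul_assoc, f3P_e' h]⟩

open scoped IsMulCommutative in
theorem f3nf_f (h : F3Rel e e' f f')
    (hgen : Subgroup.closure ({e, e', f, f'} : Set G) = ⊤) (g : G) (hg : f3nf e e' f f' g) :
    f3nf e e' f f' (f * g) := by
  obtain ⟨i, j, k, l, m, n, rfl⟩ := hg
  refine ⟨i, j, k + 1, l, m + i + j, n + j, ?_⟩
  rw [← mul_assoc, f3P_f h hgen, mul_assoc]
  congr 1
  have hcZ : r2c e f ∈ Subgroup.center G :=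
    Subgroup.mem_center_iff.mpr (fun g => (f3rel_c_comm h hgen g).symm)
  have hc'Z : r2c e' f' ∈ Subgroup.center G :=
    Subgroup.mem_center_iff.mpr (fun g => (f3rel_c'_comm h hgen g).symm)
  have := congrArg Subtype.val
    (f3_cid1 (⟨_, hcZ⟩ : Subgroup.center G) ⟨_, hc'Z⟩ i j m n)
  simpa using this

open scoped IsMulCommutative in
theorem f3nf_f' (h : F3Rel e e' f f')
    (hgen : Subgroup.closure ({e, e', f, f'} : Set G) = ⊤) (g : G) (hg : f3nf e e' f f' g) :
    f3nf e e' f f' (f' * g) := by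
  obtain ⟨i, j, k, l, m, n, rfl⟩ := hg
  refine ⟨i, j, k, l + 1, m + i, n + i + j, ?_⟩
  rw [← mul_assoc, f3P_f' h hgen, mul_assoc]
  congr 1
  have hcZ : r2c e f ∈ Subgroup.center G :=
    Subgroup.mem_center_iff.mpr (fun g => (f3rel_c_comm h hgen g).symm)
  have hc'Z : r2c e' f' ∈ Subgroup.center G :=
    Subgroup.mem_center_iff.mpr (fun g => (f3rel_c'_comm h hgen g).symm)
  have := congrArg Subtype.val
    (f3_cid2 (⟨_, hcZ⟩ : Subgroup.center G) ⟨_, hc'Z⟩ i j m n)
  simpa using this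

theorem f3_inv_of_sq (a : G) (ha : a * a = 1) : a⁻¹ = a := inv_eq_of_mul_eq_one_left ha

theorem f3nf_closure (h : F3Rel e e' f f')
    (hgen : Subgroup.closure ({e, e', f, f'} : Set G) = ⊤) (g : G) : f3nf e e' f f' g := by
  have hg : g ∈ Subgroup.closure ({e, e', f, f'} : Set G) := by rw [hgen]; exact Subgroup.mem_top _
  induction hg using Subgroup.closure_induction_left with
  | one => exact f3nf_one
  | mul_left x hx y hy ih =>
    rcases hx with rfl | rfl | rfl | rfl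
    · exact f3nf_e _ ih
    · exact f3nf_e' h _ ih
    · exact f3nf_f h hgen _ ih
    · exact f3nf_f' h hgen _ ih
  | inv_mul_cancel x hx y hy ih =>
    rcases hx with rfl | rfl | rfl | rfl
    · rw [f3_inv_of_sq _ h.e2]; exact f3nf_e _ ih
    · rw [f3_inv_of_sq _ h.e'2]; exact f3nf_e' h _ ih
    · rw [f3_inv_of_sq _ h.f2]; exact f3nf_f h hgen _ ih
    · rw [f3_inv_of_sq _ h.f'2]; exact f3nf_f' h hgen _ ih

/-- the parametrisation by 64 sextuples -/
def f3par (e e' f f' : G) (p : Fin 2 × Fin 2 × Fin 2 × Fin 2 × Fin 2 × Fin 2) : G :=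
  f3P e e' f f' (p.1 : ℕ) (p.2.1 : ℕ) (p.2.2.1 : ℕ) (p.2.2.2.1 : ℕ) *
    (r2c e f ^ (p.2.2.2.2.1 : ℕ) * r2c e' f' ^ (p.2.2.2.2.2 : ℕ))

theorem f3par_surj (h : F3Rel e e' f f')
    (hgen : Subgroup.closure ({e, e', f, f'} : Set G) = ⊤) :
    Function.Surjective (f3par e e' f f') := by
  intro g
  obtain ⟨i, j, k, l, m, n, rfl⟩ := f3nf_closure h hgen g
  have l2 : ∀ t : ℕ, t % 2 < 2 := fun t => Nat.mod_lt _ (by norm_num)
  refine ⟨(⟨i % 2, l2 _⟩, ⟨j % 2, l2 _⟩, ⟨k % 2, l2 _⟩, ⟨l % 2, l2 _⟩, ⟨m % 2, l2 _⟩,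
    ⟨n % 2, l2 _⟩), ?_⟩
  have sq : ∀ a : G, a * a = 1 → a ^ 2 = 1 := fun a ha => by rw [pow_two]; exact ha
  show f3P e e' f f' (i % 2) (j % 2) (k % 2) (l % 2) *
    (r2c e f ^ (m % 2) * r2c e' f' ^ (n % 2)) = _
  unfold f3P
  rw [← pow_eq_pow_mod i (sq _ h.e2), ← pow_eq_pow_mod j (sq _ h.e'2),
    ← pow_eq_pow_mod k (sq _ h.f2), ← pow_eq_pow_mod l (sq _ h.f'2),
    ← pow_eq_pow_mod m (sq _ h.cc), ← pow_eq_pow_mod n (sq _ h.c'c')]

theorem f3rel_finite (h : F3Rel e e' f f')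
    (hgen : Subgroup.closure ({e, e', f, f'} : Set G) = ⊤) : Finite G :=
  Finite.of_surjective _ (f3par_surj h hgen)

theorem f3rel_card_le (h : F3Rel e e' f f')
    (hgen : Subgroup.closure ({e, e', f, f'} : Set G) = ⊤) : Nat.card G ≤ 64 := by
  have := Nat.card_le_card_of_surjective _ (f3par_surj h hgen)
  simpa [Nat.card_prod] using this

/-- the list of relators on a quadruple -/
def f3relList (e e' f f' : G) : List G :=
  [e * e, e' * e', f * f, f' * f', e * e' * (e' * e)⁻¹, f * f' * (f' * f)⁻¹,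
   r2c e f * r2c e f, r2c e' f' * r2c e' f',
   r2c e f' * (r2c e f * r2c e' f')⁻¹, r2c e' f * (r2c e f * r2c e' f')⁻¹,
   r2c e f * e * (e * r2c e f)⁻¹, r2c e f * e' * (e' * r2c e f)⁻¹,
   r2c e f * f * (f * r2c e f)⁻¹, r2c e f * f' * (f' * r2c e f)⁻¹,
   r2c e' f' * e * (e * r2c e' f')⁻¹, r2c e' f' * e' * (e' * r2c e' f')⁻¹,
   r2c e' f' * f * (f * r2c e' f')⁻¹, r2c e' f' * f' * (f' * r2c e' f')⁻¹]

theorem f3rel_iff_list (e e' f f' : G) :
    F3Rel e e' f f' ↔ ∀ r ∈ f3relList e e' f f', r = 1 := by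
  simp only [f3relList, List.forall_mem_cons, mul_inv_eq_one]
  constructor
  · intro h
    exact ⟨h.e2, h.e'2, h.f2, h.f'2, h.ee', h.ff', h.cc, h.c'c', h.ef', h.e'f, h.ce, h.ce', h.cf,
      h.cf', h.c'e, h.c'e', h.c'f, h.c'f', by simp⟩
  · rintro ⟨h1, h2, h3, h4, h5, h6, h7, h8, h9, h10, h11, h12, h13, h14, h15, h16, h17, h18, -⟩
    exact ⟨h1, h2, h3, h4, h5, h6, h7, h8, h9, h10, h11, h12, h13, h14, h15, h16, h17, h18⟩

theorem f3relList_map {H : Type*} [Group H] (φ : G →* H) (e e' f f' : G) :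
    (f3relList e e' f f').map φ = f3relList (φ e) (φ e') (φ f) (φ f') := by
  simp only [f3relList, List.map_cons, List.map_nil, map_mul, map_inv, r2c_hom]

end nf

/-- the relators -/
def f3Rels : Set (FreeGroup (Fin 4)) :=
  {r | r ∈ f3relList (FreeGroup.of (0 : Fin 4)) (FreeGroup.of 1) (FreeGroup.of 2) (FreeGroup.of 3)}

/-- the abstract group -/
abbrev F3Pres : Type := PresentedGroup f3Rels

theorem f3Pres_rel : F3Rel (PresentedGroup.of 0 : F3Pres) (PresentedGroup.of 1)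
    (PresentedGroup.of 2) (PresentedGroup.of 3) := by
  rw [f3rel_iff_list]
  intro r hr
  have e1 : f3relList (PresentedGroup.of 0 : F3Pres) (PresentedGroup.of 1)
      (PresentedGroup.of 2) (PresentedGroup.of 3) =
      (f3relList (FreeGroup.of (0 : Fin 4)) (FreeGroup.of 1) (FreeGroup.of 2)
        (FreeGroup.of 3)).map (PresentedGroup.mk f3Rels) :=
    (f3relList_map _ _ _ _ _).symm
  rw [e1, List.mem_map] at hr
  obtain ⟨r0, hr0, rfl⟩ := hr
  exact PresentedGroup.one_of_mem hr0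

theorem f3Pres_gen : Subgroup.closure ({PresentedGroup.of 0, PresentedGroup.of 1,
    PresentedGroup.of 2, PresentedGroup.of 3} : Set F3Pres) = ⊤ := by
  rw [← PresentedGroup.closure_range_of f3Rels]
  congr 1
  ext g
  constructor
  · rintro (rfl | rfl | rfl | rfl)
    · exact ⟨0, rfl⟩
    · exact ⟨1, rfl⟩
    · exact ⟨2, rfl⟩
    · exact ⟨3, rfl⟩
  · rintro ⟨i, rfl⟩
    fin_cases i
    · exact Or.inl rfl
    · exact Or.inr (Or.inl rfl)
    · exact Or.inr (Or.inr (Or.inl rfl))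
    · exact Or.inr (Or.inr (Or.inr rfl))

instance f3Pres_finite : Finite F3Pres := f3rel_finite f3Pres_rel f3Pres_gen

theorem f3Pres_card_le : Nat.card F3Pres ≤ 64 := f3rel_card_le f3Pres_rel f3Pres_gen

section hom
variable {G : Type*} [Group G] {e e' f f' : G}

/-- the generator assignment -/
def f3gen (e e' f f' : G) : Fin 4 → G := ![e, e', f, f']

theorem f3gen_rels (h : F3Rel e e' f f') :
    ∀ r ∈ f3Rels, FreeGroup.lift (f3gen e e' f f') r = 1 := by
  intro r hr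
  have hm : FreeGroup.lift (f3gen e e' f f') r ∈
      (f3relList (FreeGroup.of (0 : Fin 4)) (FreeGroup.of 1) (FreeGroup.of 2)
        (FreeGroup.of 3)).map (FreeGroup.lift (f3gen e e' f f')) :=
    List.mem_map.mpr ⟨r, hr, rfl⟩
  rw [f3relList_map] at hm
  simp only [FreeGroup.lift_apply_of] at hm
  exact (f3rel_iff_list _ _ _ _).mp h _ hm

/-- the canonical homomorphism from the abstract group -/
def f3hom (h : F3Rel e e' f f') : F3Pres →* G := PresentedGroup.toGroup (f3gen_rels h)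

theorem f3hom_surj (h : F3Rel e e' f f')
    (hgen : Subgroup.closure ({e, e', f, f'} : Set G) = ⊤) : Function.Surjective (f3hom h) := by
  rw [← MonoidHom.range_eq_top, eq_top_iff, ← hgen, Subgroup.closure_le]
  rintro g (rfl | rfl | rfl | rfl)
  · exact ⟨PresentedGroup.of 0, PresentedGroup.toGroup.of _⟩
  · exact ⟨PresentedGroup.of 1, PresentedGroup.toGroup.of _⟩
  · exact ⟨PresentedGroup.of 2, PresentedGroup.toGroup.of _⟩
  · exact ⟨PresentedGroup.of 3, PresentedGroup.toGroup.of _⟩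

theorem f3hom_bij (h : F3Rel e e' f f')
    (hgen : Subgroup.closure ({e, e', f, f'} : Set G) = ⊤) (hc : Nat.card G = 64) :
    Function.Bijective (f3hom h) :=
  (f3hom_surj h hgen).bijective_of_nat_card_le (by rw [hc]; exact f3Pres_card_le)

end hom

/-- two groups of order 64 generated by quadruples satisfying the relations are isomorphic -/
theorem f3rel_unique {G : Type*} [Group G] {G' : Type*} [Group G'] {e e' f f' : G}
    {a a' b b' : G'}
    (h : F3Rel e e' f f') (hgen : Subgroup.closure ({e, e', f, f'} : Set G) = ⊤)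
    (hc : Nat.card G = 64)
    (h' : F3Rel a a' b b') (hgen' : Subgroup.closure ({a, a', b, b'} : Set G') = ⊤)
    (hc' : Nat.card G' = 64) : Nonempty (G ≃* G') :=
  ⟨(MulEquiv.ofBijective (f3hom h) (f3hom_bij h hgen hc)).symm.trans
    (MulEquiv.ofBijective (f3hom h') (f3hom_bij h' hgen' hc'))⟩

end Cfsg.Agent.Lib.Helper9
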