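import Mathlib
import Cfsg.Agent.Lib.Lead.F4c
import Cfsg.Agent.Lib.helper14.SL2Card
import Cfsg.Agent.Lib.Helper9.F3F

set_option autoImplicit false

/-! The Heisenberg group over the field with four elements as a Sylow 2-subgroup of `L₃(4)`. -/

namespace Cfsg.Agent.Lib.Helper9

open Cfsg.Agent.Lib.Lead.F4

/-- the Heisenberg group over the field with four elements -/
@[ext]
structure F3Heis : Type where
  a : F4c
  b : F4c
  c : F4c
  deriving DecidableEq

namespace F3Heis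

/-- triples -/
def equivTriple : F3Heis ≃ F4c × F4c × F4c :=
  ⟨fun h => (h.a, h.b, h.c), fun p => ⟨p.1, p.2.1, p.2.2⟩, fun _ => rfl, fun _ => rfl⟩

instance instFintypeF3Heis : Fintype F3Heis := Fintype.ofEquiv _ equivTriple.symm

instance instMulF3Heis : Mul F3Heis := ⟨fun x y => ⟨x.a + y.a, x.b + y.b, x.c + y.c + x.a * y.b⟩⟩
instance instOneF3Heis : One F3Heis := ⟨⟨0, 0, 0⟩⟩
instance instInvF3Heis : Inv F3Heis := ⟨fun x => ⟨-x.a, -x.b, -x.c + x.a * x.b⟩⟩

@[simp] theorem mul_a (x y : F3Heis) : (x * y).a = x.a + y.a := rfl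
@[simp] theorem mul_b (x y : F3Heis) : (x * y).b = x.b + y.b := rfl
@[simp] theorem mul_c (x y : F3Heis) : (x * y).c = x.c + y.c + x.a * y.b := rfl
@[simp] theorem one_a : (1 : F3Heis).a = 0 := rfl
@[simp] theorem one_b : (1 : F3Heis).b = 0 := rfl
@[simp] theorem one_c : (1 : F3Heis).c = 0 := rfl
@[simp] theorem inv_a (x : F3Heis) : (x⁻¹).a = -x.a := rfl
@[simp] theorem inv_b (x : F3Heis) : (x⁻¹).b = -x.b := rfl
@[simp] theorem inv_c (x : F3Heis) : (x⁻¹).c = -x.c + x.a * x.b := rfl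

instance instGroupF3Heis : Group F3Heis where
  mul_assoc x y z := by ext <;> simp only [mul_a, mul_b, mul_c] <;> ring
  one_mul x := by ext <;> simp
  mul_one x := by ext <;> simp
  inv_mul_cancel x := by ext <;> simp only [mul_a, mul_b, mul_c, inv_a, inv_b, inv_c, one_a, one_b, one_c] <;> ring

end F3Heis

theorem f3heis_card : Nat.card F3Heis = 64 := by
  rw [Nat.card_congr F3Heis.equivTriple, Nat.card_prod, Nat.card_prod, Nat.card_eq_fintype_card]
  have : Fintype.card F4c = 4 := by decide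
  rw [this]

/-- the generators -/
def f3hE : F3Heis := ⟨1, 0, 0⟩
/-- the generators -/
def f3hE' : F3Heis := ⟨F4c.w, 0, 0⟩
/-- the generators -/
def f3hF : F3Heis := ⟨0, 1, 0⟩
/-- the generators -/
def f3hF' : F3Heis := ⟨0, F4c.w, 0⟩

theorem f3heis_rel : F3Rel f3hE f3hE' f3hF f3hF' := by
  constructor <;> decide

theorem f3heis_gen : Subgroup.closure ({f3hE, f3hE', f3hF, f3hF'} : Set F3Heis) = ⊤ := by
  set H := Subgroup.closure ({f3hE, f3hE', f3hF, f3hF'} : Set F3Heis) with hH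
  have hE : f3hE ∈ H := Subgroup.subset_closure (by simp)
  have hE' : f3hE' ∈ H := Subgroup.subset_closure (by simp)
  have hF : f3hF ∈ H := Subgroup.subset_closure (by simp)
  have hF' : f3hF' ∈ H := Subgroup.subset_closure (by simp)
  have ha : ∀ a : F4c, (⟨a, 0, 0⟩ : F3Heis) ∈ H := by
    intro a
    cases a
    · have : (⟨F4c.z, 0, 0⟩ : F3Heis) = 1 := by decide
      rw [this]; exact H.one_mem
    · have : (⟨F4c.o, 0, 0⟩ : F3Heis) = f3hE := by decide
      rw [this]; exact hE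
    · have : (⟨F4c.w, 0, 0⟩ : F3Heis) = f3hE' := by decide
      rw [this]; exact hE'
    · have : (⟨F4c.v, 0, 0⟩ : F3Heis) = f3hE * f3hE' := by decide
      rw [this]; exact H.mul_mem hE hE'
  have hb : ∀ b : F4c, (⟨0, b, 0⟩ : F3Heis) ∈ H := by
    intro b
    cases b
    · have : (⟨0, F4c.z, 0⟩ : F3Heis) = 1 := by decide
      rw [this]; exact H.one_mem
    · have : (⟨0, F4c.o, 0⟩ : F3Heis) = f3hF := by decide
      rw [this]; exact hF
    · have : (⟨0, F4c.w, 0⟩ : F3Heis) = f3hF' := by decide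
      rw [this]; exact hF'
    · have : (⟨0, F4c.v, 0⟩ : F3Heis) = f3hF * f3hF' := by decide
      rw [this]; exact H.mul_mem hF hF'
  have hr : ∀ x y : F3Heis, x ∈ H → y ∈ H → r2c x y ∈ H := by
    intro x y hx hy
    unfold r2c
    exact H.mul_mem (H.mul_mem (H.mul_mem hx hy) (H.inv_mem hx)) (H.inv_mem hy)
  have hc : ∀ c : F4c, (⟨0, 0, c⟩ : F3Heis) ∈ H := by
    intro c
    cases c
    · have : (⟨0, 0, F4c.z⟩ : F3Heis) = 1 := by decide
      rw [this]; exact H.one_mem
    · have : (⟨0, 0, F4c.o⟩ : F3Heis) = r2c f3hE f3hF := by decide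
      rw [this]; exact hr _ _ hE hF
    · have : (⟨0, 0, F4c.w⟩ : F3Heis) = r2c f3hE f3hF' := by decide
      rw [this]; exact hr _ _ hE hF'
    · have : (⟨0, 0, F4c.v⟩ : F3Heis) = r2c f3hE' f3hF' := by decide
      rw [this]; exact hr _ _ hE' hF'
  rw [eq_top_iff]
  intro g _
  have hg : ∀ g : F3Heis, g = ⟨g.a, 0, 0⟩ * ⟨0, g.b, 0⟩ * ⟨0, 0, g.c + g.a * g.b⟩ := by decide
  rw [hg g]
  exact H.mul_mem (H.mul_mem (ha _) (hb _)) (hc _)

/-- the unitriangular matrix -/
def f3mat (x : F3Heis) : Matrix (Fin 3) (Fin 3) F4c := !![1, x.a, x.c; 0, 1, x.b; 0, 0, 1]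

theorem f3mat_det (x : F3Heis) : (f3mat x).det = 1 := by
  rw [f3mat, Matrix.det_fin_three]; simp

theorem f3mat_mul (x y : F3Heis) : f3mat (x * y) = f3mat x * f3mat y := by
  ext i j
  fin_cases i <;> fin_cases j <;>
    simp [f3mat, Matrix.mul_apply, Fin.sum_univ_three] <;> ring

theorem f3mat_one : f3mat 1 = 1 := by
  ext i j
  fin_cases i <;> fin_cases j <;> simp [f3mat]

/-- the embedding into the special linear group -/
def f3toSL : F3Heis →* Matrix.SpecialLinearGroup (Fin 3) F4c where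
  toFun x := ⟨f3mat x, f3mat_det x⟩
  map_one' := Subtype.ext f3mat_one
  map_mul' x y := Subtype.ext (f3mat_mul x y)

theorem f3toSL_coe (x : F3Heis) : (f3toSL x : Matrix (Fin 3) (Fin 3) F4c) = f3mat x := rfl

/-- the embedding into the projective special linear group -/
def f3toPSL : F3Heis →* Matrix.ProjectiveSpecialLinearGroup (Fin 3) F4c :=
  (QuotientGroup.mk' _).comp f3toSL

theorem f3toPSL_inj : Function.Injective f3toPSL := by
  rw [injective_iff_map_eq_one]
  intro x hx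
  have hc : f3toSL x ∈ Subgroup.center (Matrix.SpecialLinearGroup (Fin 3) F4c) :=
    (QuotientGroup.eq_one_iff _).mp hx
  rw [Matrix.SpecialLinearGroup.mem_center_iff] at hc
  obtain ⟨r, -, hr⟩ := hc
  rw [f3toSL_coe] at hr
  have h01 := congrFun (congrFun hr 0) 1
  have h02 := congrFun (congrFun hr 0) 2
  have h12 := congrFun (congrFun hr 1) 2
  simp [f3mat, Matrix.scalar_apply] at h01 h02 h12
  ext
  · exact h01.symm
  · exact h12.symm
  · exact h02.symm

theorem f3_card_SL3 : Nat.card (Matrix.SpecialLinearGroup (Fin 3) F4c) = 60480 := by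
  have h1 := Cfsg.Agent.Lib.helper14.card_GL_eq_card_SL_mul (F := F4c) 3 (by norm_num)
  have hF : Fintype.card F4c = 4 := by decide
  have hF' : Nat.card F4c = 4 := by rw [Nat.card_eq_fintype_card, hF]
  rw [Matrix.card_GL_field, hF, Fin.prod_univ_three, Nat.card_units, hF'] at h1
  have h2 : (4 ^ 3 - 4 ^ ((0 : Fin 3) : ℕ)) * (4 ^ 3 - 4 ^ ((1 : Fin 3) : ℕ)) *
      (4 ^ 3 - 4 ^ ((2 : Fin 3) : ℕ)) = 181440 := by decide
  rw [h2] at h1
  omega

theorem f3_sylow_exists :
    ∃ S : Sylow 2 (Matrix.ProjectiveSpecialLinearGroup (Fin 3) F4c), Nonempty (F3Heis ≃* ↥S) := by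
  haveI : Fact (Nat.Prime 2) := ⟨Nat.prime_two⟩
  haveI : Finite (Matrix.SpecialLinearGroup (Fin 3) F4c) := Subtype.finite
  haveI : Finite (Matrix.ProjectiveSpecialLinearGroup (Fin 3) F4c) := Quotient.finite _
  have hUcard : Nat.card f3toPSL.range = 64 := by
    rw [← Nat.card_congr (MonoidHom.ofInjective f3toPSL_inj).toEquiv]; exact f3heis_card
  have hUp : IsPGroup 2 f3toPSL.range := IsPGroup.of_card (n := 6) (by rw [hUcard]; norm_num)
  obtain ⟨S, hUS⟩ := hUp.exists_le_sylow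
  have hd1 : Nat.card S ∣ Nat.card (Matrix.ProjectiveSpecialLinearGroup (Fin 3) F4c) :=
    Subgroup.card_subgroup_dvd_card _
  have hd2 : Nat.card (Matrix.ProjectiveSpecialLinearGroup (Fin 3) F4c) ∣ 60480 := by
    rw [← f3_card_SL3]
    exact Subgroup.card_quotient_dvd_card _
  obtain ⟨k, hk⟩ := IsPGroup.exists_card_eq S.isPGroup'
  have hk6 : k ≤ 6 := by
    by_contra hcon
    have h7 : 2 ^ 7 ∣ 2 ^ k := pow_dvd_pow 2 (by omega)
    rw [← hk] at h7
    have := (h7.trans hd1).trans hd2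
    norm_num at this
  have hle : Nat.card S ≤ 64 := by
    rw [hk]
    calc 2 ^ k ≤ 2 ^ 6 := Nat.pow_le_pow_right (by norm_num) hk6
      _ = 64 := by norm_num
  have hUS' : f3toPSL.range = (S : Subgroup _) :=
    Subgroup.eq_of_le_of_card_ge hUS (by rw [hUcard]; exact hle)
  exact ⟨S, ⟨(MonoidHom.ofInjective f3toPSL_inj).trans (MulEquiv.subgroupCongr hUS')⟩⟩

end Cfsg.Agent.Lib.Helper9
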