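import Mathlib
import Cfsg.Agent.Lib.helper3.WLen

set_option autoImplicit false

namespace Cfsg.Agent.Lib.Helper9

open Cfsg.Agent.Lib.helper3

/-- alternating product `x y x y ...` with `k` factors, starting with `x`. -/
def fhAlt {M : Type*} [Monoid M] (x y : M) : ℕ → M
  | 0 => 1
  | k + 1 => x * fhAlt y x k

theorem fhAlt_zero {M : Type*} [Monoid M] (x y : M) : fhAlt x y 0 = 1 := rfl

theorem fhAlt_succ {M : Type*} [Monoid M] (x y : M) (k : ℕ) :
    fhAlt x y (k + 1) = x * fhAlt y x k := rfl

theorem fhAlt_one {M : Type*} [Monoid M] (x y : M) : fhAlt x y 1 = x := by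
  rw [fhAlt_succ, fhAlt_zero, mul_one]

theorem fhAlt_succ_right {M : Type*} [Monoid M] (x y : M) (k : ℕ) :
    fhAlt x y (k + 1) = fhAlt x y k * (if Even k then x else y) := by
  induction k generalizing x y with
  | zero => simp [fhAlt]
  | succ k ih =>
    rw [fhAlt_succ, ih y x, ← mul_assoc, ← fhAlt_succ]
    congr 1
    by_cases h : Even k
    · have h' : ¬ Even (k + 1) := by
        rw [Nat.even_add_one]; exact not_not.2 h
      rw [if_pos h, if_neg h']
    · have h' : Even (k + 1) := by
        rw [Nat.even_add_one]; exact h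
      rw [if_neg h, if_pos h']

theorem fhAlt_succ_right_even {M : Type*} [Monoid M] (x y : M) {k : ℕ} (h : Even k) :
    fhAlt x y (k + 1) = fhAlt x y k * x := by
  rw [fhAlt_succ_right, if_pos h]

theorem fhAlt_succ_right_odd {M : Type*} [Monoid M] (x y : M) {k : ℕ} (h : ¬ Even k) :
    fhAlt x y (k + 1) = fhAlt x y k * y := by
  rw [fhAlt_succ_right, if_neg h]

theorem fhAlt_map {M M' : Type*} [Monoid M] [Monoid M'] (f : M →* M') (x y : M) (k : ℕ) :
    f (fhAlt x y k) = fhAlt (f x) (f y) k := by
  induction k generalizing x y with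
  | zero => simp [fhAlt]
  | succ k ih => rw [fhAlt_succ, fhAlt_succ, map_mul, ih]

section Grp

variable {W : Type*} [Group W]

theorem fhAlt_quot {x y : W} (hx : x * x = 1) (hy : y * y = 1) (k : ℕ) :
    fhAlt x y k * (fhAlt y x k)⁻¹ = (x * y) ^ k := by
  have hxi : x⁻¹ = x := inv_eq_of_mul_eq_one_left hx
  have hyi : y⁻¹ = y := inv_eq_of_mul_eq_one_left hy
  induction k generalizing x y with
  | zero => simp [fhAlt]
  | succ k ih =>
    rw [fhAlt_succ, fhAlt_succ, mul_inv_rev, hyi]
    have e := ih hy hx hyi hxi
    calc x * fhAlt y x k * ((fhAlt x y k)⁻¹ * y)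
        = x * (fhAlt y x k * (fhAlt x y k)⁻¹) * y := by group
      _ = x * (y * x) ^ k * y := by rw [e]
      _ = (x * y) ^ (k + 1) := by
        rw [pow_succ']
        have : ∀ j : ℕ, x * (y * x) ^ j * y = (x * y) * (x * y) ^ j := by
          intro j
          induction j with
          | zero => simp
          | succ j ihj =>
            rw [pow_succ, pow_succ]
            calc x * ((y * x) ^ j * (y * x)) * y = (x * (y * x) ^ j * y) * (x * y) := by group
              _ = (x * y) * (x * y) ^ j * (x * y) := by rw [ihj]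
              _ = x * y * ((x * y) ^ j * (x * y)) := by group
        exact this k

theorem fhAlt_eq_iff {x y : W} (hx : x * x = 1) (hy : y * y = 1) (k : ℕ) :
    fhAlt x y k = fhAlt y x k ↔ (x * y) ^ k = 1 := by
  rw [← fhAlt_quot hx hy k, mul_inv_eq_one]

theorem fh_pow_swap {x y : W} (k : ℕ) : (y * x) ^ k = 1 ↔ (x * y) ^ k = 1 := by
  have e : y * x = y * (x * y) * y⁻¹ := by group
  rw [e, conj_pow]
  constructor
  · intro h
    have : (x * y) ^ k = y⁻¹ * (y * (x * y) ^ k * y⁻¹) * y := by group
    rw [this, h]; group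
  · intro h
    rw [h]; group

theorem fh_orderOf_swap (x y : W) : orderOf (y * x) = orderOf (x * y) := by
  apply Nat.dvd_antisymm
  · apply orderOf_dvd_of_pow_eq_one
    rw [fh_pow_swap]; exact pow_orderOf_eq_one _
  · apply orderOf_dvd_of_pow_eq_one
    rw [← fh_pow_swap]; exact pow_orderOf_eq_one _

variable {T : Set W} (Ps : W → Set W)

/-- alternating words of length `< m` starting with `t'` are "up" for `t`. -/
theorem fh_alt_mem_Ps
    (hT2 : ∀ t ∈ T, t * t = 1)
    (hA : ∀ s ∈ T, (1 : W) ∈ Ps s)
    (hC : ∀ s ∈ T, ∀ s' ∈ T, ∀ w, w ∈ Ps s → w * s' ∉ Ps s → s * w = w * s')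
    {t t' : W} (ht : t ∈ T) (ht' : t' ∈ T) (k : ℕ) (hk : k < orderOf (t * t')) :
    fhAlt t' t k ∈ Ps t := by
  induction k with
  | zero => exact hA t ht
  | succ k ih =>
    by_contra hnot
    have ih' := ih (by omega)
    rw [fhAlt_succ_right] at hnot
    have hs' : (if Even k then t' else t) ∈ T := by
      split_ifs
      · exact ht'
      · exact ht
    have e := hC t ht _ hs' _ ih' hnot
    rw [← fhAlt_succ_right, ← fhAlt_succ] at e
    have e2 := (fhAlt_eq_iff (hT2 t ht) (hT2 t' ht') (k + 1)).1 e
    have := orderOf_dvd_of_pow_eq_one e2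
    have := Nat.le_of_dvd (by omega) this
    omega

theorem fh_wlen_alt
    (hT2 : ∀ t ∈ T, t * t = 1) (hgen : Subgroup.closure T = ⊤)
    (hA : ∀ s ∈ T, (1 : W) ∈ Ps s)
    (hB : ∀ s ∈ T, ∀ w, w ∈ Ps s → s * w ∉ Ps s)
    (hC : ∀ s ∈ T, ∀ s' ∈ T, ∀ w, w ∈ Ps s → w * s' ∉ Ps s → s * w = w * s')
    {t t' : W} (ht : t ∈ T) (ht' : t' ∈ T) (k : ℕ) (hk : k ≤ orderOf (t * t')) :
    wlen T (fhAlt t t' k) = k ∧ wlen T (fhAlt t' t k) = k := by
  induction k with
  | zero => simp [fhAlt, wlen_one]
  | succ k ih =>
    obtain ⟨ih1, ih2⟩ := ih (by omega)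
    constructor
    · rw [fhAlt_succ]
      have := fh_alt_mem_Ps Ps hT2 hA hC ht ht' k (by omega)
      rw [(mem_Ps_iff Ps hT2 hgen hA hB hC ht _).1 this, ih2]
    · rw [fhAlt_succ]
      have := fh_alt_mem_Ps Ps hT2 hA hC ht' ht k (by rw [fh_orderOf_swap]; omega)
      rw [(mem_Ps_iff Ps hT2 hgen hA hB hC ht' _).1 this, ih1]

end Grp

/-- a group generated by two distinct involutions `x, y` has order `2 * orderOf (x*y)`. -/
theorem fh_card_dihedral {W : Type*} [Group W] [Finite W] {x y : W}
    (hx : x * x = 1) (hy : y * y = 1) (hx1 : x ≠ 1) (hy1 : y ≠ 1) (hxy : x ≠ y)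
    (hgen : Subgroup.closure ({x, y} : Set W) = ⊤) :
    Nat.card W = 2 * orderOf (x * y) := by
  classical
  have hxi : x⁻¹ = x := inv_eq_of_mul_eq_one_left hx
  have hyi : y⁻¹ = y := inv_eq_of_mul_eq_one_left hy
  set ρ := x * y with hρ
  set H : Subgroup W := Subgroup.zpowers ρ with hH
  have hxρ : x * ρ * x⁻¹ = ρ⁻¹ := by
    rw [hρ, mul_inv_rev, hxi, hyi]
    calc x * (x * y) * x = (x * x) * y * x := by group
      _ = y * x := by rw [hx, one_mul]
  have hyρ : y * ρ * y⁻¹ = ρ⁻¹ := by
    rw [hρ, mul_inv_rev, hxi, hyi]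
    calc y * (x * y) * y = y * x * (y * y) := by group
      _ = y * x := by rw [hy, mul_one]
  have hnorm : H.Normal := by
    have hle : (⊤ : Subgroup W) ≤ Subgroup.normalizer (H : Set W) := by
      rw [← hgen, Subgroup.closure_le]
      intro g hg
      have key : ∀ g : W, g * ρ * g⁻¹ = ρ⁻¹ → g⁻¹ * ρ * g = ρ⁻¹ →
          g ∈ Subgroup.normalizer (H : Set W) := by
        intro g h1 h2
        rw [Subgroup.mem_normalizer_iff]
        intro h
        constructor
        · intro hh
          obtain ⟨n, rfl⟩ := Subgroup.mem_zpowers_iff.1 hh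
          have : g * ρ ^ n * g⁻¹ = (g * ρ * g⁻¹) ^ n := by
            rw [conj_zpow]
          rw [this, h1]
          exact Subgroup.zpow_mem _ (Subgroup.inv_mem _ (Subgroup.mem_zpowers ρ)) n
        · intro hh
          obtain ⟨n, hn⟩ := Subgroup.mem_zpowers_iff.1 hh
          have e : h = g⁻¹ * (g * h * g⁻¹) * g := by group
          rw [e, ← hn]
          have : g⁻¹ * ρ ^ n * g = (g⁻¹ * ρ * g) ^ n := by
            have := conj_zpow (a := g⁻¹) (b := ρ) (i := n)
            rw [inv_inv] at this
            exact this.symm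
          rw [this, h2]
          exact Subgroup.zpow_mem _ (Subgroup.inv_mem _ (Subgroup.mem_zpowers ρ)) n
      rcases hg with rfl | rfl
      · exact key _ hxρ (by
          have := hxρ; rw [hxi] at this ⊢; exact this)
      · exact key _ hyρ (by
          have := hyρ; rw [hyi] at this ⊢; exact this)
    exact Subgroup.normalizer_eq_top_iff.1 (top_le_iff.1 hle)
  -- x ∉ H
  have hxH : x ∉ H := by
    intro hmem
    obtain ⟨n, hn⟩ := Subgroup.mem_zpowers_iff.1 hmem
    have hcomm : x * ρ = ρ * x := by
      rw [← hn]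
      exact (Commute.zpow_left (Commute.refl ρ) n).eq
    have h2 : ρ⁻¹ = ρ := by
      rw [← hxρ, hcomm, mul_assoc, mul_inv_cancel, mul_one]
    have hρ2 : ρ * ρ = 1 := by
      nth_rewrite 2 [← h2]; exact mul_inv_cancel ρ
    -- H = {1, ρ}; x ∈ H, so x = 1 or x = ρ
    have hcases : ∀ n : ℤ, ρ ^ n = 1 ∨ ρ ^ n = ρ := by
      intro n
      rcases Int.even_or_odd n with ⟨j, rfl⟩ | ⟨j, rfl⟩
      · left
        rw [← two_mul, zpow_mul, zpow_two, hρ2, one_zpow]
      · right
        rw [zpow_add, zpow_one, zpow_mul, zpow_two, hρ2, one_zpow, one_mul]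
    rcases hcases n with h | h
    · rw [h] at hn
      exact hx1 hn.symm
    · rw [h] at hn
      have : y = 1 := by
        have e : x * y = x := hn
        exact mul_eq_left.1 e
      exact hy1 this
  -- quotient has order 2
  have hquot : Nat.card (W ⧸ H) = 2 := by
    have hsub : ∀ g : W, g ∈ H ∨ g * x ∈ H := by
      have hle : (⊤ : Subgroup W) ≤
          { carrier := {g | g ∈ H ∨ g * x ∈ H}
            one_mem' := Or.inl H.one_mem
            mul_mem' := by
              intro a b ha hb
              simp only [Set.mem_ofPred_eq] at *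
              rcases ha with ha | ha <;> rcases hb with hb | hb
              · exact Or.inl (H.mul_mem ha hb)
              · right
                rw [mul_assoc]; exact H.mul_mem ha hb
              · right
                have e : a * b * x = (a * x) * (x⁻¹ * b * x) := by group
                rw [e]
                exact H.mul_mem ha (by
                  have := hnorm.conj_mem b hb x⁻¹
                  simpa using this)
              · left
                have e : a * b = (a * x) * (x⁻¹ * (b * x) * x) * (x⁻¹ * x⁻¹) := by group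
                rw [e]
                refine H.mul_mem (H.mul_mem ha ?_) ?_
                · have := hnorm.conj_mem (b * x) hb x⁻¹
                  simpa using this
                · rw [hxi, hx]; exact H.one_mem
            inv_mem' := by
              intro a ha
              simp only [Set.mem_ofPred_eq] at *
              rcases ha with ha | ha
              · exact Or.inl (H.inv_mem ha)
              · right
                have e : a⁻¹ * x = (x * (a * x) * x⁻¹)⁻¹ * (x * x) := by group
                rw [e, hx, mul_one]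
                exact H.inv_mem (hnorm.conj_mem _ ha x) } := by
        rw [← hgen, Subgroup.closure_le]
        intro g hg
        rcases hg with rfl | rfl
        · right
          show g * g ∈ H
          rw [hx]; exact H.one_mem
        · right
          show g * x ∈ H
          have : g * x = (x * g)⁻¹ := by
            rw [mul_inv_rev, hxi, hyi]
          rw [this]
          exact H.inv_mem (Subgroup.mem_zpowers _)
      intro g
      exact hle (Subgroup.mem_top g)
    rw [Nat.card_eq_two_iff]
    refine ⟨(1 : W ⧸ H), ((x : W) : W ⧸ H), ?_, ?_⟩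
    · intro h
      have := (QuotientGroup.eq_one_iff x).1 h.symm
      exact hxH this
    · ext z
      simp only [Set.mem_insert_iff, Set.mem_singleton_iff, Set.mem_univ, iff_true]
      obtain ⟨g, rfl⟩ := QuotientGroup.mk_surjective z
      rcases hsub g with h | h
      · left
        exact (QuotientGroup.eq_one_iff g).2 h
      · right
        rw [QuotientGroup.eq]
        have : g⁻¹ * x = (x⁻¹ * g)⁻¹ := by group
        rw [this, hxi]
        apply H.inv_mem
        have e : x * g = x * (g * x) * x⁻¹ := by group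
        rw [e]
        exact hnorm.conj_mem _ h x
  have h1 := Subgroup.card_eq_card_quotient_mul_card_subgroup H
  rw [h1, hquot, hH, Nat.card_zpowers]

end Cfsg.Agent.Lib.Helper9
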