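import Mathlib
import Cfsg.Prelude.Def_LieExceptional
import Cfsg.Agent.Lib.helper3.BNLen
import Cfsg.Agent.Lib.helper3.BNSimple
import Cfsg.Agent.Lib.Helper9.FH1

set_option autoImplicit false

namespace Cfsg.Agent.Lib.Helper9

open Cfsg.Agent.Lib.helper3 DoubleCoset Classical

variable {G : Type*} [Group G] (P : Cfsg.BNPair G)

/-- the Bruhat cell of an element of `G`, as an element of the Weyl group -/
noncomputable def fhCellG (g : G) : Weyl P := projG P (Classical.choose (bruhat (P := P) g))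

variable {P}

theorem fhCellG_eq {g n : G} (hn : n ∈ P.N) (hg : g ∈ dc P n) : fhCellG P g = projG P n := by
  unfold fhCellG
  obtain ⟨h1, h2⟩ := Classical.choose_spec (bruhat (P := P) g)
  apply projG_eq_of_dc_eq h1 hn
  rw [← dc_eq_of_mem h2, dc_eq_of_mem hg]

theorem fhCellG_eq_iff {g n : G} (hn : n ∈ P.N) : fhCellG P g = projG P n ↔ g ∈ dc P n := by
  constructor
  · intro h
    unfold fhCellG at h
    obtain ⟨h1, h2⟩ := Classical.choose_spec (bruhat (P := P) g)
    rw [← dc_eq_of_projG_eq h1 hn h]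
    exact h2
  · exact fhCellG_eq hn

theorem fhCellG_mul_left {b g : G} (hb : b ∈ P.B) : fhCellG P (b * g) = fhCellG P g := by
  obtain ⟨n, hn, hg⟩ := bruhat (P := P) g
  rw [fhCellG_eq hn hg, fhCellG_eq hn (dc_mul_left hb hg)]

theorem fhCellG_mul_right {b g : G} (hb : b ∈ P.B) : fhCellG P (g * b) = fhCellG P g := by
  obtain ⟨n, hn, hg⟩ := bruhat (P := P) g
  rw [fhCellG_eq hn hg, fhCellG_eq hn (dc_mul_right hb hg)]

theorem fhCellG_inv (g : G) : fhCellG P g⁻¹ = (fhCellG P g)⁻¹ := by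
  obtain ⟨n, hn, hg⟩ := bruhat (P := P) g
  rw [fhCellG_eq hn hg, fhCellG_eq (P.N.inv_mem hn) (dc_inv hg), projG_inv hn]

theorem fhCellG_eq_one_iff {g : G} : fhCellG P g = 1 ↔ g ∈ P.B := by
  rw [← projG_one, fhCellG_eq_iff P.N.one_mem, dc_one]
  rfl

/-- the set of flags `G / B` -/
def fhFlag (P : Cfsg.BNPair G) : Type _ := G ⧸ P.B

noncomputable instance fhFlag.instFintype [Finite G] : Fintype (fhFlag P) :=
  @Fintype.ofFinite (G ⧸ P.B) inferInstance

noncomputable instance fhFlag.instDecEq : DecidableEq (fhFlag P) := Classical.decEq _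

variable (P) in
/-- the coset map -/
def fhMk (g : G) : fhFlag P := (QuotientGroup.mk g : G ⧸ P.B)

theorem fhMk_surj (a : fhFlag P) : ∃ g : G, fhMk P g = a :=
  QuotientGroup.mk_surjective (s := P.B) a

theorem fhMk_eq_iff {x z : G} : fhMk P x = fhMk P z ↔ x⁻¹ * z ∈ P.B :=
  QuotientGroup.eq

variable (P) in
/-- the Bruhat cell of a pair of flags -/
noncomputable def fhCell (a c : fhFlag P) : Weyl P :=
  fhCellG P ((Quotient.out (s := QuotientGroup.leftRel P.B) a)⁻¹ *
    (Quotient.out (s := QuotientGroup.leftRel P.B) c))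

theorem fhCell_mk (x z : G) : fhCell P (fhMk P x) (fhMk P z) = fhCellG P (x⁻¹ * z) := by
  unfold fhCell fhMk
  obtain ⟨h1, e1⟩ := QuotientGroup.mk_out_eq_mul P.B x
  obtain ⟨h2, e2⟩ := QuotientGroup.mk_out_eq_mul P.B z
  have e1' : Quotient.out (s := QuotientGroup.leftRel P.B) (QuotientGroup.mk x : G ⧸ P.B)
      = x * h1 := e1
  have e2' : Quotient.out (s := QuotientGroup.leftRel P.B) (QuotientGroup.mk z : G ⧸ P.B)
      = z * h2 := e2
  rw [e1', e2']
  have : (x * (h1 : G))⁻¹ * (z * h2) = (h1 : G)⁻¹ * ((x⁻¹ * z) * h2) := by group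
  rw [this, fhCellG_mul_left (P.B.inv_mem h1.2), fhCellG_mul_right h2.2]

theorem fhCell_symm (a c : fhFlag P) : fhCell P c a = (fhCell P a c)⁻¹ := by
  obtain ⟨x, rfl⟩ := fhMk_surj a
  obtain ⟨z, rfl⟩ := fhMk_surj c
  rw [fhCell_mk, fhCell_mk, ← fhCellG_inv]
  congr 1
  group

theorem fhCell_eq_one_iff (a c : fhFlag P) : fhCell P a c = 1 ↔ a = c := by
  obtain ⟨x, rfl⟩ := fhMk_surj a
  obtain ⟨z, rfl⟩ := fhMk_surj c
  rw [fhCell_mk, fhCellG_eq_one_iff, fhMk_eq_iff]

variable (P) in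
/-- left translation on flags -/
def fhSmul (g : G) (a : fhFlag P) : fhFlag P :=
  show G ⧸ P.B from g • (show G ⧸ P.B from a)

theorem fhSmul_mk (g x : G) : fhSmul P g (fhMk P x) = fhMk P (g * x) := rfl

theorem fhCell_smul (g : G) (a c : fhFlag P) :
    fhCell P (fhSmul P g a) (fhSmul P g c) = fhCell P a c := by
  obtain ⟨x, rfl⟩ := fhMk_surj a
  obtain ⟨z, rfl⟩ := fhMk_surj c
  rw [fhSmul_mk, fhSmul_mk, fhCell_mk, fhCell_mk]
  congr 1
  group

variable (P) in
/-- translation as an equivalence -/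
def fhSmulEquiv (g : G) : fhFlag P ≃ fhFlag P where
  toFun := fhSmul P g
  invFun := fhSmul P g⁻¹
  left_inv := by
    intro a
    obtain ⟨x, rfl⟩ := fhMk_surj a
    rw [fhSmul_mk, fhSmul_mk]
    congr 1
    group
  right_inv := by
    intro a
    obtain ⟨x, rfl⟩ := fhMk_surj a
    rw [fhSmul_mk, fhSmul_mk]
    congr 1
    group

section Mat

variable [Finite G]

variable (P) in
/-- the Hecke operator of a Bruhat cell -/
noncomputable def fhT (w : Weyl P) : Matrix (fhFlag P) (fhFlag P) ℝ :=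
  fun a c => if fhCell P a c = w then 1 else 0

theorem fhT_apply (w : Weyl P) (a c : fhFlag P) :
    fhT P w a c = if fhCell P a c = w then 1 else 0 := rfl

theorem fhT_one : fhT P (1 : Weyl P) = 1 := by
  ext a c
  rw [fhT_apply, Matrix.one_apply]
  simp only [fhCell_eq_one_iff]

theorem fhT_transpose (w : Weyl P) : (fhT P w).transpose = fhT P w⁻¹ := by
  ext a c
  rw [Matrix.transpose_apply, fhT_apply, fhT_apply, fhCell_symm]
  by_cases h : fhCell P a c = w⁻¹
  · rw [if_pos h, if_pos (by rw [h, inv_inv])]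
  · rw [if_neg h, if_neg]
    intro h'
    apply h
    rw [← h', inv_inv]

variable (P) in
/-- the number of flags in a cell seen from the base flag -/
noncomputable def fhq (w : Weyl P) : ℝ :=
  ((Finset.univ.filter (fun c : fhFlag P => fhCell P (fhMk P 1) c = w)).card : ℝ)

theorem fhT_rowsum (w : Weyl P) (a : fhFlag P) : ∑ c, fhT P w a c = fhq P w := by
  obtain ⟨x, rfl⟩ := fhMk_surj a
  unfold fhq
  simp only [fhT_apply]
  rw [Finset.sum_boole]
  congr 1
  apply Finset.card_bij (fun c _ => fhSmul P x⁻¹ c)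
  · intro c hc
    simp only [Finset.mem_filter, Finset.mem_univ, true_and] at hc ⊢
    rw [← hc, ← fhCell_smul x⁻¹ (fhMk P x) c, fhSmul_mk]
    congr 2
    group
  · intro c _ c' _ h
    exact (fhSmulEquiv P x⁻¹).injective h
  · intro c hc
    simp only [Finset.mem_filter, Finset.mem_univ, true_and] at hc ⊢
    refine ⟨fhSmul P x c, ?_, ?_⟩
    · rw [← hc, ← fhCell_smul x (fhMk P 1) c, fhSmul_mk, mul_one]
    · exact (fhSmulEquiv P x).left_inv c

theorem fh_dc_mul {s n g h : G} (hp : Pp P s n) (hg : g ∈ dc P s) (hh : h ∈ dc P n) :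
    g * h ∈ dc P (s * n) := by
  obtain ⟨b₁, h₁, b₂, h₂, rfl⟩ := mem_dc.1 hg
  obtain ⟨b₃, h₃, b₄, h₄, rfl⟩ := mem_dc.1 hh
  have e : b₁ * s * b₂ * (b₃ * n * b₄) = b₁ * (s * (b₂ * b₃) * n) * b₄ := by group
  rw [e]
  exact dc_mul_right h₄ (dc_mul_left h₁ (hp _ (P.B.mul_mem h₂ h₃)))

/-- `T_s T_n = T_{sn}` when `s B n ⊆ B s n B`. -/
theorem fhT_mul {s n : G} (hs : s ∈ P.S) (hn : n ∈ P.N) (hp : Pp P s n) :
    fhT P (projG P s) * fhT P (projG P n) = fhT P (projG P (s * n)) := by
  have hsN := S_mem_N hs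
  have hsn : s * n ∈ P.N := P.N.mul_mem hsN hn
  ext a c
  obtain ⟨x, rfl⟩ := fhMk_surj a
  obtain ⟨z, rfl⟩ := fhMk_surj c
  rw [Matrix.mul_apply]
  simp only [fhT_apply]
  by_cases hc : fhCell P (fhMk P x) (fhMk P z) = projG P (s * n)
  · rw [if_pos hc]
    rw [fhCell_mk, fhCellG_eq_iff hsn] at hc
    obtain ⟨b₁, h₁, b₂, h₂, e⟩ := mem_dc.1 hc
    set y0 := x * b₁ * s with hy0
    have hy0a : x⁻¹ * y0 ∈ dc P s := by
      rw [hy0]
      have : x⁻¹ * (x * b₁ * s) = b₁ * s * 1 := by group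
      rw [this]
      exact mem_dc.2 ⟨b₁, h₁, 1, P.B.one_mem, rfl⟩
    have hy0c : y0⁻¹ * z ∈ dc P n := by
      have : y0⁻¹ * z = 1 * n * b₂ := by
        have : z = x * (x⁻¹ * z) := by group
        rw [this, e, hy0]; group
      rw [this]
      exact mem_dc.2 ⟨1, P.B.one_mem, b₂, h₂, rfl⟩
    rw [Finset.sum_eq_single (fhMk P y0)]
    · rw [fhCell_mk, fhCell_mk, if_pos ((fhCellG_eq_iff hsN).2 hy0a),
        if_pos ((fhCellG_eq_iff hn).2 hy0c), mul_one]
    · intro y _ hy
      obtain ⟨y', rfl⟩ := fhMk_surj y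
      by_cases h1 : fhCell P (fhMk P x) (fhMk P y') = projG P s
      · by_cases h2 : fhCell P (fhMk P y') (fhMk P z) = projG P n
        · exfalso
          rw [fhCell_mk, fhCellG_eq_iff hsN] at h1
          rw [fhCell_mk, fhCellG_eq_iff hn] at h2
          have hR : y0⁻¹ * y' ∈ rankOneSubgroup hs := by
            have e1 : y0⁻¹ * y' = (x⁻¹ * y0)⁻¹ * (x⁻¹ * y') := by group
            rw [e1]
            exact (rankOneSubgroup hs).mul_mem
              ((rankOneSubgroup hs).inv_mem (Or.inr hy0a)) (Or.inr h1)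
          rcases hR with hR | hR
          · exact hy (fhMk_eq_iff.2 (by
              have : y'⁻¹ * y0 = (y0⁻¹ * y')⁻¹ := by group
              rw [this]; exact P.B.inv_mem hR))
          · have h3 : (y0⁻¹ * y')⁻¹ ∈ dc P s := by
              have := dc_inv hR
              rwa [dc_sinv hs] at this
            have h4 : y'⁻¹ * z ∈ dc P (s * n) := by
              have e2 : y'⁻¹ * z = (y0⁻¹ * y')⁻¹ * (y0⁻¹ * z) := by group
              rw [e2]
              exact fh_dc_mul hp h3 hy0c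
            have : dc P (s * n) = dc P n := by
              rw [← dc_eq_of_mem h4, dc_eq_of_mem h2]
            exact dc_s_mul_ne hs hn this
        · rw [if_neg h2, mul_zero]
      · rw [if_neg h1, zero_mul]
    · intro h; exact absurd (Finset.mem_univ _) h
  · rw [if_neg hc]
    apply Finset.sum_eq_zero
    intro y _
    obtain ⟨y', rfl⟩ := fhMk_surj y
    by_cases h1 : fhCell P (fhMk P x) (fhMk P y') = projG P s
    · by_cases h2 : fhCell P (fhMk P y') (fhMk P z) = projG P n
      · exfalso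
        apply hc
        rw [fhCell_mk, fhCellG_eq_iff hsN] at h1
        rw [fhCell_mk, fhCellG_eq_iff hn] at h2
        rw [fhCell_mk, fhCellG_eq_iff hsn]
        have e2 : x⁻¹ * z = (x⁻¹ * y') * (y'⁻¹ * z) := by group
        rw [e2]
        exact fh_dc_mul hp h1 h2
      · rw [if_neg h2, mul_zero]
    · rw [if_neg h1, zero_mul]

theorem fh_mem_rankOne_iff {s : G} (hs : s ∈ P.S) (x z : G) :
    x⁻¹ * z ∈ rankOneSubgroup hs ↔
      (fhCell P (fhMk P x) (fhMk P z) = 1 ∨ fhCell P (fhMk P x) (fhMk P z) = projG P s) := by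
  rw [fhCell_mk, fhCellG_eq_one_iff, fhCellG_eq_iff (S_mem_N hs)]
  rfl

/-- the quadratic relation, in the form `(1 + T_s)^2 = (1 + q_s)(1 + T_s)`. -/
theorem fhT_J_sq {s : G} (hs : s ∈ P.S) :
    (1 + fhT P (projG P s)) * (1 + fhT P (projG P s)) =
      (1 + fhq P (projG P s)) • (1 + fhT P (projG P s)) := by
  have hne : projG P s ≠ 1 := projG_S_ne_one hs
  have hJ : ∀ a c : fhFlag P, (1 + fhT P (projG P s)) a c =
      if (fhCell P a c = 1 ∨ fhCell P a c = projG P s) then 1 else 0 := by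
    intro a c
    rw [Matrix.add_apply, ← fhT_one, fhT_apply, fhT_apply]
    by_cases h1 : fhCell P a c = 1
    · rw [if_pos h1, if_pos (Or.inl h1), if_neg (by rw [h1]; exact fun h => hne h.symm), add_zero]
    · by_cases h2 : fhCell P a c = projG P s
      · rw [if_neg h1, if_pos h2, if_pos (Or.inr h2), zero_add]
      · rw [if_neg h1, if_neg h2, if_neg (by tauto), add_zero]
  have hrow : ∀ a : fhFlag P, ∑ c, (1 + fhT P (projG P s)) a c = 1 + fhq P (projG P s) := by
    intro a
    simp only [Matrix.add_apply]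
    rw [Finset.sum_add_distrib, fhT_rowsum, ← fhT_one, fhT_rowsum]
    congr 1
    unfold fhq
    have : (Finset.univ.filter (fun c : fhFlag P => fhCell P (fhMk P 1) c = 1)) = {fhMk P 1} := by
      ext c
      simp only [Finset.mem_filter, Finset.mem_univ, true_and, Finset.mem_singleton,
        fhCell_eq_one_iff]
      exact eq_comm
    rw [this]; simp
  ext a c
  rw [Matrix.mul_apply, Matrix.smul_apply, smul_eq_mul]
  obtain ⟨x, rfl⟩ := fhMk_surj a
  obtain ⟨z, rfl⟩ := fhMk_surj c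
  by_cases hE : (fhCell P (fhMk P x) (fhMk P z) = 1 ∨ fhCell P (fhMk P x) (fhMk P z) = projG P s)
  · rw [hJ _ (fhMk P z), if_pos hE, mul_one, ← hrow (fhMk P x)]
    apply Finset.sum_congr rfl
    intro y _
    obtain ⟨y', rfl⟩ := fhMk_surj y
    rw [hJ, hJ]
    by_cases h1 : (fhCell P (fhMk P x) (fhMk P y') = 1 ∨ fhCell P (fhMk P x) (fhMk P y') = projG P s)
    · rw [if_pos h1, one_mul, if_pos]
      rw [← fh_mem_rankOne_iff hs] at h1 hE ⊢
      have e : y'⁻¹ * z = (x⁻¹ * y')⁻¹ * (x⁻¹ * z) := by group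
      rw [e]
      exact (rankOneSubgroup hs).mul_mem ((rankOneSubgroup hs).inv_mem h1) hE
    · rw [if_neg h1, zero_mul]
  · rw [hJ _ (fhMk P z), if_neg hE, mul_zero]
    apply Finset.sum_eq_zero
    intro y _
    obtain ⟨y', rfl⟩ := fhMk_surj y
    rw [hJ, hJ]
    by_cases h1 : (fhCell P (fhMk P x) (fhMk P y') = 1 ∨ fhCell P (fhMk P x) (fhMk P y') = projG P s)
    · by_cases h2 : (fhCell P (fhMk P y') (fhMk P z) = 1 ∨
          fhCell P (fhMk P y') (fhMk P z) = projG P s)
      · exfalso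
        apply hE
        rw [← fh_mem_rankOne_iff hs] at h1 h2 ⊢
        have e : x⁻¹ * z = (x⁻¹ * y') * (y'⁻¹ * z) := by group
        rw [e]
        exact (rankOneSubgroup hs).mul_mem h1 h2
      · rw [if_neg h2, mul_zero]
    · rw [if_neg h1, zero_mul]

theorem fhT_sq {s : G} (hs : s ∈ P.S) :
    fhT P (projG P s) * fhT P (projG P s) =
      fhq P (projG P s) • (1 : Matrix (fhFlag P) (fhFlag P) ℝ) +
        (fhq P (projG P s) - 1) • fhT P (projG P s) := by
  have h := fhT_J_sq hs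
  set a := fhT P (projG P s) with ha
  set q := fhq P (projG P s) with hq
  have e : (1 + a) * (1 + a) = 1 + a + a + a * a := by
    simp only [add_mul, mul_add, one_mul, mul_one]
    abel
  have e2 : a * a = (1 + q) • (1 + a) - 1 - a - a := by
    rw [← h, e]; abel
  rw [e2]
  module

theorem fhq_ge_two {s : G} (hs : s ∈ P.S) : (2 : ℝ) ≤ fhq P (projG P s) := by
  unfold fhq
  have hsN := S_mem_N hs
  obtain ⟨b, hb, hnot⟩ := exists_not_mem_B hs
  have hb' : s * s * b ∈ P.B := P.B.mul_mem (P.sq_mem s hs) hb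
  have h1 : fhMk P s ∈ Finset.univ.filter (fun c : fhFlag P => fhCell P (fhMk P 1) c = projG P s) := by
    simp only [Finset.mem_filter, Finset.mem_univ, true_and]
    rw [fhCell_mk, fhCellG_eq_iff hsN, inv_one, one_mul]
    exact dc_self s
  have h2 : fhMk P (s * s * b * s) ∈
      Finset.univ.filter (fun c : fhFlag P => fhCell P (fhMk P 1) c = projG P s) := by
    simp only [Finset.mem_filter, Finset.mem_univ, true_and]
    rw [fhCell_mk, fhCellG_eq_iff hsN, inv_one, one_mul]
    exact dc_mul_left hb' (dc_self s)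
  have hne : fhMk P s ≠ fhMk P (s * s * b * s) := by
    intro h
    rw [fhMk_eq_iff] at h
    apply hnot
    have : s⁻¹ * (s * s * b * s) = s * b * s := by group
    rwa [this] at h
  have : 1 < (Finset.univ.filter (fun c : fhFlag P => fhCell P (fhMk P 1) c = projG P s)).card :=
    Finset.one_lt_card.2 ⟨_, h1, _, h2, hne⟩
  exact_mod_cast this

end Mat

end Cfsg.Agent.Lib.Helper9
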