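import Mathlib
import Cfsg.Agent.Lib.Helper9.FH1

set_option autoImplicit false

namespace Cfsg.Agent.Lib.Helper9

section Hecke

variable {R : Type*} [Ring R] [Algebra ℝ R]

/-- the (unnormalised) double-coset sums `J B_{2i-1} J`, `J = 1 + a`. -/
def fhDt (a b : R) : ℕ → R
  | 0 => 1 + a
  | j + 1 => (1 + a) * fhAlt b a (2 * j + 1) * (1 + a)

theorem fhDt_zero (a b : R) : fhDt a b 0 = 1 + a := rfl

theorem fhDt_succ (a b : R) (j : ℕ) :
    fhDt a b (j + 1) = (1 + a) * fhAlt b a (2 * j + 1) * (1 + a) := rfl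

variable {a b : R} {q r : ℝ}

theorem fh_Ja (ha : a * a = q • (1 : R) + (q - 1) • a) : (1 + a) * a = q • (1 + a) := by
  rw [add_mul, one_mul, ha]
  module

theorem fh_aJ (ha : a * a = q • (1 : R) + (q - 1) • a) : a * (1 + a) = q • (1 + a) := by
  rw [mul_add, mul_one, ha]
  module

theorem fh_JJ (ha : a * a = q • (1 : R) + (q - 1) • a) :
    (1 + a) * (1 + a) = (q + 1) • (1 + a) := by
  rw [mul_add, mul_one, fh_Ja ha]
  module

theorem fh_b_alt (hb : b * b = r • (1 : R) + (r - 1) • b) (k : ℕ) :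
    b * fhAlt b a (k + 1) = r • fhAlt a b k + (r - 1) • fhAlt b a (k + 1) := by
  rw [fhAlt_succ, ← mul_assoc, hb, add_mul, smul_mul_assoc, one_mul, smul_mul_assoc]

theorem fh_a_alt (ha : a * a = q • (1 : R) + (q - 1) • a) (k : ℕ) :
    a * fhAlt a b (k + 1) = q • fhAlt b a k + (q - 1) • fhAlt a b (k + 1) := by
  rw [fhAlt_succ, ← mul_assoc, ha, add_mul, smul_mul_assoc, one_mul, smul_mul_assoc]

/-- `J (a X) J = q J X J`. -/
theorem fh_J_a_mul (ha : a * a = q • (1 : R) + (q - 1) • a) (X : R) :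
    (1 + a) * (a * X) * (1 + a) = q • ((1 + a) * X * (1 + a)) := by
  rw [← mul_assoc, fh_Ja ha, smul_mul_assoc, smul_mul_assoc]

/-- `J (X a) J = q J X J`. -/
theorem fh_J_mul_a (ha : a * a = q • (1 : R) + (q - 1) • a) (X : R) :
    (1 + a) * (X * a) * (1 + a) = q • ((1 + a) * X * (1 + a)) := by
  rw [mul_assoc, mul_assoc, fh_aJ ha, mul_smul_comm, mul_smul_comm, ← mul_assoc]

theorem fh_sandwich3 (J X Y Z : R) (r s : ℝ) :
    J * (r • X + s • Y + Z) * J = r • (J * X * J) + s • (J * Y * J) + J * Z * J := by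
  simp only [mul_add, add_mul, mul_smul_comm, smul_mul_assoc]

theorem fh_sandwich2 (J X Y : R) (r s : ℝ) :
    J * (r • X + s • Y) * J = r • (J * X * J) + s • (J * Y * J) := by
  simp only [mul_add, add_mul, mul_smul_comm, smul_mul_assoc]

theorem fh_table_zero (ha : a * a = q • (1 : R) + (q - 1) • a) :
    ((1 + a) * b * (1 + a)) * fhDt a b 0 = (q + 1) • fhDt a b 1 := by
  rw [fhDt_zero, fhDt_succ, mul_assoc, fh_JJ ha, mul_smul_comm]
  simp [fhAlt_one]

/-- the generic line of the multiplication table -/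
theorem fh_table_gen (ha : a * a = q • (1 : R) + (q - 1) • a)
    (hb : b * b = r • (1 : R) + (r - 1) • b) (j : ℕ) :
    ((1 + a) * b * (1 + a)) * fhDt a b (j + 1) =
      (q + 1) • (r • ((1 + a) * fhAlt a b (2 * j) * (1 + a)) + (r - 1) • fhDt a b (j + 1)
        + fhDt a b (j + 2)) := by
  rw [fhDt_succ, fhDt_succ]
  have e1 : (1 + a) * b * (1 + a) * ((1 + a) * fhAlt b a (2 * j + 1) * (1 + a)) =
      (1 + a) * b * ((1 + a) * (1 + a)) * fhAlt b a (2 * j + 1) * (1 + a) := by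
    simp only [mul_assoc]
  rw [e1, fh_JJ ha]
  have e2 : (1 + a) * b * ((q + 1) • (1 + a)) * fhAlt b a (2 * j + 1) * (1 + a) =
      (q + 1) • ((1 + a) * (b * ((1 + a) * fhAlt b a (2 * j + 1))) * (1 + a)) := by
    rw [mul_smul_comm, smul_mul_assoc, smul_mul_assoc]
    simp only [mul_assoc]
  rw [e2]
  congr 1
  have e3 : b * ((1 + a) * fhAlt b a (2 * j + 1)) =
      r • fhAlt a b (2 * j) + (r - 1) • fhAlt b a (2 * j + 1) + fhAlt b a (2 * (j + 1) + 1) := by
    rw [add_mul, one_mul, mul_add, fh_b_alt hb]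
    congr 1
  rw [e3]
  exact fh_sandwich3 _ _ _ _ _ _

theorem fh_table_one (ha : a * a = q • (1 : R) + (q - 1) • a)
    (hb : b * b = r • (1 : R) + (r - 1) • b) :
    ((1 + a) * b * (1 + a)) * fhDt a b 1 =
      (q + 1) • ((r * (q + 1)) • fhDt a b 0 + (r - 1) • fhDt a b 1 + fhDt a b 2) := by
  rw [fh_table_gen ha hb 0]
  congr 2
  rw [Nat.mul_zero, fhAlt_zero, mul_one, fh_JJ ha, fhDt_zero, smul_smul]

theorem fh_table_succ (ha : a * a = q • (1 : R) + (q - 1) • a)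
    (hb : b * b = r • (1 : R) + (r - 1) • b) (j : ℕ) :
    ((1 + a) * b * (1 + a)) * fhDt a b (j + 2) =
      (q + 1) • ((r * q) • fhDt a b (j + 1) + (r - 1) • fhDt a b (j + 2) + fhDt a b (j + 3)) := by
  have h := fh_table_gen ha hb (j + 1)
  have e : (1 + a) * fhAlt a b (2 * (j + 1)) * (1 + a) = q • fhDt a b (j + 1) := by
    have : 2 * (j + 1) = (2 * j + 1) + 1 := by ring
    rw [this, fhAlt_succ, fh_J_a_mul ha, fhDt_succ]
  rw [e, smul_smul] at h
  exact h

/-- expansion of `J B J` into four alternating products -/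
theorem fhDt_expand (j : ℕ) :
    fhDt a b (j + 1) = fhAlt b a (2 * j + 1) + fhAlt a b (2 * j + 2) + fhAlt b a (2 * j + 2)
      + fhAlt a b (2 * j + 3) := by
  have hodd : ¬ Even (2 * j + 1) := by
    rw [Nat.not_even_iff_odd]; exact ⟨j, rfl⟩
  have e1 : fhAlt b a (2 * j + 2) = fhAlt b a (2 * j + 1) * a := fhAlt_succ_right_odd b a hodd
  have e2 : fhAlt a b (2 * j + 2) = a * fhAlt b a (2 * j + 1) := fhAlt_succ a b _
  have e3 : fhAlt a b (2 * j + 3) = a * fhAlt b a (2 * j + 2) := fhAlt_succ a b _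
  rw [fhDt_succ, e3, e1, e2]
  simp only [mul_add, add_mul, one_mul, mul_one, mul_assoc]
  abel

/-- end relation for odd `m = 2(e+1)+1`. -/
theorem fh_end_odd (ha : a * a = q • (1 : R) + (q - 1) • a) (e : ℕ)
    (hbr : fhAlt a b (2 * (e + 1) + 1) = fhAlt b a (2 * (e + 1) + 1)) :
    fhDt a b (e + 2) = (q * q) • fhDt a b (e + 1) := by
  rw [fhDt_succ, ← hbr, fhAlt_succ, fh_J_a_mul ha]
  have hodd : ¬ Even (2 * e + 1) := by
    rw [Nat.not_even_iff_odd]; exact ⟨e, rfl⟩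
  have e1 : fhAlt b a (2 * (e + 1)) = fhAlt b a (2 * e + 1) * a := by
    have : 2 * (e + 1) = (2 * e + 1) + 1 := by ring
    rw [this]
    exact fhAlt_succ_right_odd b a hodd
  rw [e1, fh_J_mul_a ha, smul_smul, fhDt_succ]

/-- end relations for even `m = 2e+4`. -/
theorem fh_end_even (ha : a * a = q • (1 : R) + (q - 1) • a)
    (hb : b * b = r • (1 : R) + (r - 1) • b) (e : ℕ)
    (hbr : fhAlt a b (2 * e + 4) = fhAlt b a (2 * e + 4)) :
    fhDt a b (e + 3) = (r * q * q) • fhDt a b (e + 1) + ((r - 1) * q) • fhDt a b (e + 2) := by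
  have hodd : ¬ Even (2 * e + 1) := by
    rw [Nat.not_even_iff_odd]; exact ⟨e, rfl⟩
  -- B_{m+1} = b A_m = b B_m = r A_{m-1} + (r-1) B_m
  have e1 : fhAlt b a (2 * (e + 2) + 1) =
      r • fhAlt a b (2 * e + 3) + (r - 1) • fhAlt b a (2 * e + 4) := by
    have : 2 * (e + 2) + 1 = (2 * e + 4) + 1 := by ring
    rw [this, fhAlt_succ, hbr]
    exact fh_b_alt hb (2 * e + 3)
  -- J A_{m-1} J = q^2 Dt (e+1)
  have e2 : (1 + a) * fhAlt a b (2 * e + 3) * (1 + a) = (q * q) • fhDt a b (e + 1) := by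
    have h1 : fhAlt a b (2 * e + 3) = a * fhAlt b a (2 * e + 2) := fhAlt_succ a b _
    have h2 : fhAlt b a (2 * e + 2) = fhAlt b a (2 * e + 1) * a :=
      fhAlt_succ_right_odd b a hodd
    rw [h1, fh_J_a_mul ha, h2, fh_J_mul_a ha, smul_smul, fhDt_succ]
  -- J B_m J = q Dt (e+2)
  have e3 : (1 + a) * fhAlt b a (2 * e + 4) * (1 + a) = q • fhDt a b (e + 2) := by
    rw [← hbr]
    have h1 : fhAlt a b (2 * e + 4) = a * fhAlt b a (2 * e + 3) := fhAlt_succ a b _
    rw [h1, fh_J_a_mul ha, fhDt_succ]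
    congr 3
  rw [fhDt_succ, e1, fh_sandwich2, e2, e3, smul_smul, smul_smul]
  congr 2
  ring

theorem fhDt_expand_even (ha : a * a = q • (1 : R) + (q - 1) • a) (e : ℕ)
    (hbr : fhAlt a b (2 * e + 4) = fhAlt b a (2 * e + 4)) :
    fhDt a b (e + 2) = (q + 1) • (fhAlt b a (2 * e + 3) + fhAlt a b (2 * e + 4)) := by
  rw [fhDt_expand]
  have h1 : 2 * (e + 1) + 1 = 2 * e + 3 := by ring
  have h2 : 2 * (e + 1) + 2 = 2 * e + 4 := by ring
  have h3 : 2 * (e + 1) + 3 = (2 * e + 4) + 1 := by ring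
  rw [h1, h2, h3, ← hbr]
  have h4 : fhAlt a b (2 * e + 4 + 1) = a * fhAlt a b (2 * e + 4) := by
    rw [fhAlt_succ, hbr]
  have h5 : fhAlt a b (2 * e + 4) = a * fhAlt b a (2 * e + 3) := fhAlt_succ a b _
  rw [h4]
  nth_rewrite 3 [h5]
  rw [← mul_assoc, ha, add_mul, smul_mul_assoc, one_mul, smul_mul_assoc, ← h5]
  module

end Hecke

end Cfsg.Agent.Lib.Helper9
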