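import Mathlib
import Cfsg.Prelude.Def_LieExceptional
import Cfsg.Agent.Lib.helper3.BNLen
import Cfsg.Agent.Lib.helper3.BNSimple
import Cfsg.Agent.Lib.Helper9.FH1
import Cfsg.Agent.Lib.Helper9.FH2
import Cfsg.Agent.Lib.Helper9.FH3

set_option autoImplicit false

namespace Cfsg.Agent.Lib.Helper9

open Cfsg.Agent.Lib.helper3 DoubleCoset Classical

variable {G : Type*} [Group G]

/-- a rank two BN-pair with named generators -/
structure FhCtx (P : Cfsg.BNPair G) where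
  s1 : G
  s2 : G
  hs1 : s1 ∈ P.S
  hs2 : s2 ∈ P.S
  hS : P.S = {s1, s2}
  hne : s1 ≠ s2

theorem fh_exists_ctx (P : Cfsg.BNPair G) (h2 : P.rank = 2) : Nonempty (FhCtx P) := by
  unfold Cfsg.BNPair.rank at h2
  rw [Nat.card_eq_two_iff] at h2
  obtain ⟨⟨x, hx⟩, ⟨y, hy⟩, hxy, huniv⟩ := h2
  refine ⟨⟨x, y, hx, hy, ?_, ?_⟩⟩
  · ext z
    constructor
    · intro hz
      have : (⟨z, hz⟩ : P.S) ∈ ({⟨x, hx⟩, ⟨y, hy⟩} : Set P.S) := by rw [huniv]; trivial
      rcases this with h | h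
      · left; exact congrArg Subtype.val h
      · right; exact congrArg Subtype.val h
    · rintro (rfl | rfl)
      · exact hx
      · exact hy
  · intro h
    apply hxy
    exact Subtype.ext h

namespace FhCtx

variable {P : Cfsg.BNPair G} (C : FhCtx P)

noncomputable def t1 : Weyl P := projG P C.s1
noncomputable def t2 : Weyl P := projG P C.s2
noncomputable def m : ℕ := orderOf (C.t1 * C.t2)

theorem t1_mem : C.t1 ∈ TW P := ⟨C.s1, C.hs1, rfl⟩
theorem t2_mem : C.t2 ∈ TW P := ⟨C.s2, C.hs2, rfl⟩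

theorem t1_sq : C.t1 * C.t1 = 1 := TW_sq _ C.t1_mem
theorem t2_sq : C.t2 * C.t2 = 1 := TW_sq _ C.t2_mem

theorem t1_ne_one : C.t1 ≠ 1 := projG_S_ne_one C.hs1
theorem t2_ne_one : C.t2 ≠ 1 := projG_S_ne_one C.hs2

theorem t_ne : C.t1 ≠ C.t2 := fun h => C.hne (projG_inj_S C.hs1 C.hs2 h)

theorem t1_inv : C.t1⁻¹ = C.t1 := inv_eq_of_mul_eq_one_left C.t1_sq
theorem t2_inv : C.t2⁻¹ = C.t2 := inv_eq_of_mul_eq_one_left C.t2_sq

theorem TW_eq : TW P = {C.t1, C.t2} := by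
  unfold TW
  rw [C.hS, Set.image_pair]
  rfl

theorem closure_eq_top : Subgroup.closure ({C.t1, C.t2} : Set (Weyl P)) = ⊤ := by
  rw [← C.TW_eq]; exact TW_closure

section Fin

variable [Finite G]

theorem m_pos : 0 < C.m := orderOf_pos _

theorem m_ge_two : 2 ≤ C.m := by
  have h1 := C.m_pos
  by_contra h
  have : C.m = 1 := by omega
  unfold m at this
  rw [orderOf_eq_one_iff] at this
  apply C.t_ne
  have : C.t1 = C.t2⁻¹ := eq_inv_of_mul_eq_one_left this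
  rw [this, C.t2_inv]

theorem card_weyl : Nat.card (Weyl P) = 2 * C.m :=
  fh_card_dihedral C.t1_sq C.t2_sq C.t1_ne_one C.t2_ne_one C.t_ne C.closure_eq_top

theorem up1 (k : ℕ) (hk : k < C.m) : fhAlt C.t2 C.t1 k ∈ PsW P C.t1 :=
  fh_alt_mem_Ps (PsW P) TW_sq PsW_A PsW_C C.t1_mem C.t2_mem k hk

theorem up2 (k : ℕ) (hk : k < C.m) : fhAlt C.t1 C.t2 k ∈ PsW P C.t2 :=
  fh_alt_mem_Ps (PsW P) TW_sq PsW_A PsW_C C.t2_mem C.t1_mem k
    (by rw [fh_orderOf_swap]; exact hk)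

theorem wlen_alt (k : ℕ) (hk : k ≤ C.m) :
    wlen (TW P) (fhAlt C.t1 C.t2 k) = k ∧ wlen (TW P) (fhAlt C.t2 C.t1 k) = k :=
  fh_wlen_alt (PsW P) TW_sq TW_closure PsW_A PsW_B PsW_C C.t1_mem C.t2_mem k hk

theorem alt_ne (k : ℕ) (h0 : 0 < k) (hk : k < C.m) : fhAlt C.t1 C.t2 k ≠ fhAlt C.t2 C.t1 k := by
  intro h
  rw [fhAlt_eq_iff C.t1_sq C.t2_sq] at h
  have := Nat.le_of_dvd h0 (orderOf_dvd_of_pow_eq_one h)
  unfold m at hk
  omega

theorem braidW : fhAlt C.t1 C.t2 C.m = fhAlt C.t2 C.t1 C.m := by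
  rw [fhAlt_eq_iff C.t1_sq C.t2_sq]
  exact pow_orderOf_eq_one _

end Fin

theorem nalt_mem (k : ℕ) : fhAlt C.s1 C.s2 k ∈ P.N ∧ fhAlt C.s2 C.s1 k ∈ P.N := by
  induction k with
  | zero => exact ⟨P.N.one_mem, P.N.one_mem⟩
  | succ k ih =>
    exact ⟨P.N.mul_mem (S_mem_N C.hs1) ih.2, P.N.mul_mem (S_mem_N C.hs2) ih.1⟩

theorem projG_nalt (k : ℕ) :
    projG P (fhAlt C.s1 C.s2 k) = fhAlt C.t1 C.t2 k ∧
      projG P (fhAlt C.s2 C.s1 k) = fhAlt C.t2 C.t1 k := by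
  induction k with
  | zero => exact ⟨projG_one, projG_one⟩
  | succ k ih =>
    constructor
    · rw [fhAlt_succ, fhAlt_succ, projG_mul (S_mem_N C.hs1) (C.nalt_mem k).2, ih.2]; rfl
    · rw [fhAlt_succ, fhAlt_succ, projG_mul (S_mem_N C.hs2) (C.nalt_mem k).1, ih.1]; rfl

section Mat

variable [Finite G]

noncomputable def a : Matrix (fhFlag P) (fhFlag P) ℝ := fhT P C.t1
noncomputable def b : Matrix (fhFlag P) (fhFlag P) ℝ := fhT P C.t2
noncomputable def q : ℝ := fhq P C.t1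
noncomputable def r : ℝ := fhq P C.t2

theorem ha : C.a * C.a = C.q • (1 : Matrix (fhFlag P) (fhFlag P) ℝ) + (C.q - 1) • C.a :=
  fhT_sq C.hs1

theorem hb : C.b * C.b = C.r • (1 : Matrix (fhFlag P) (fhFlag P) ℝ) + (C.r - 1) • C.b :=
  fhT_sq C.hs2

theorem q_ge : 2 ≤ C.q := fhq_ge_two C.hs1
theorem r_ge : 2 ≤ C.r := fhq_ge_two C.hs2

theorem a_transpose : C.a.transpose = C.a := by
  unfold a; rw [fhT_transpose, C.t1_inv]

theorem b_transpose : C.b.transpose = C.b := by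
  unfold b; rw [fhT_transpose, C.t2_inv]

theorem alt_mat (k : ℕ) (hk : k ≤ C.m) :
    fhAlt C.a C.b k = fhT P (fhAlt C.t1 C.t2 k) ∧ fhAlt C.b C.a k = fhT P (fhAlt C.t2 C.t1 k) := by
  induction k with
  | zero => simp only [fhAlt_zero]; exact ⟨fhT_one.symm, fhT_one.symm⟩
  | succ k ih =>
    obtain ⟨ih1, ih2⟩ := ih (by omega)
    constructor
    · rw [fhAlt_succ, ih2, fhAlt_succ]
      have hn := (C.nalt_mem k).2
      have hp : Pp P C.s1 (fhAlt C.s2 C.s1 k) := by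
        rw [← mem_PsW_iff C.hs1 hn, (C.projG_nalt k).2]
        exact C.up1 k (by omega)
      have := fhT_mul C.hs1 hn hp
      rw [(C.projG_nalt k).2, projG_mul (S_mem_N C.hs1) hn, (C.projG_nalt k).2] at this
      exact this
    · rw [fhAlt_succ, ih1, fhAlt_succ]
      have hn := (C.nalt_mem k).1
      have hp : Pp P C.s2 (fhAlt C.s1 C.s2 k) := by
        rw [← mem_PsW_iff C.hs2 hn, (C.projG_nalt k).1]
        exact C.up2 k (by omega)
      have := fhT_mul C.hs2 hn hp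
      rw [(C.projG_nalt k).1, projG_mul (S_mem_N C.hs2) hn, (C.projG_nalt k).1] at this
      exact this

theorem braidM : fhAlt C.a C.b C.m = fhAlt C.b C.a C.m := by
  rw [(C.alt_mat C.m le_rfl).1, (C.alt_mat C.m le_rfl).2, C.braidW]

end Mat

end FhCtx

section RowSum

variable {Ω : Type*} [Fintype Ω]

/-- constant row sums -/
def fhRS (M : Matrix Ω Ω ℝ) (ρ : ℝ) : Prop := ∀ x, ∑ y, M x y = ρ

theorem fhRS_one [DecidableEq Ω] : fhRS (1 : Matrix Ω Ω ℝ) 1 := by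
  intro x
  simp [Matrix.one_apply]

theorem fhRS_add {M M' : Matrix Ω Ω ℝ} {ρ ρ' : ℝ} (h : fhRS M ρ) (h' : fhRS M' ρ') :
    fhRS (M + M') (ρ + ρ') := by
  intro x
  simp only [Matrix.add_apply]
  rw [Finset.sum_add_distrib, h x, h' x]

theorem fhRS_smul {M : Matrix Ω Ω ℝ} {ρ : ℝ} (c : ℝ) (h : fhRS M ρ) : fhRS (c • M) (c * ρ) := by
  intro x
  simp only [Matrix.smul_apply, smul_eq_mul]
  rw [← Finset.mul_sum, h x]

theorem fhRS_mul {M M' : Matrix Ω Ω ℝ} {ρ ρ' : ℝ} (h : fhRS M ρ) (h' : fhRS M' ρ') :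
    fhRS (M * M') (ρ * ρ') := by
  intro x
  simp only [Matrix.mul_apply]
  rw [Finset.sum_comm]
  calc ∑ z, ∑ y, M x z * M' z y = ∑ z, M x z * ρ' := by
        apply Finset.sum_congr rfl
        intro z _
        rw [← Finset.mul_sum, h' z]
    _ = ρ * ρ' := by rw [← Finset.sum_mul, h x]

theorem fhRS_alt [DecidableEq Ω] {M M' : Matrix Ω Ω ℝ} {ρ ρ' : ℝ} (h : fhRS M ρ) (h' : fhRS M' ρ')
    (k : ℕ) : fhRS (fhAlt M M' k) (fhAlt ρ ρ' k) := by
  induction k generalizing M M' ρ ρ' with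
  | zero => exact fhRS_one
  | succ k ih =>
    rw [fhAlt_succ, fhAlt_succ]
    exact fhRS_mul h (ih h' h)

theorem fhRS_unique [Nonempty Ω] {M : Matrix Ω Ω ℝ} {ρ ρ' : ℝ} (h : fhRS M ρ) (h' : fhRS M ρ') :
    ρ = ρ' := by
  obtain ⟨x⟩ := ‹Nonempty Ω›
  rw [← h x, h' x]

end RowSum

section Alt

theorem fhAlt_real_even (q r : ℝ) (i : ℕ) : fhAlt q r (2 * i) = (q * r) ^ i := by
  induction i with
  | zero => simp [fhAlt]
  | succ i ih =>
    have : 2 * (i + 1) = 2 * i + 1 + 1 := by ring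
    rw [this, fhAlt_succ, fhAlt_succ, ih, pow_succ]
    ring

theorem fhAlt_real_odd (q r : ℝ) (i : ℕ) : fhAlt q r (2 * i + 1) = q * (r * q) ^ i := by
  rw [fhAlt_succ, fhAlt_real_even]

end Alt

namespace FhCtx

variable {P : Cfsg.BNPair G} (C : FhCtx P) [Finite G]

instance : Nonempty (fhFlag P) := ⟨fhMk P 1⟩

theorem rs_a : fhRS C.a C.q := fun x => fhT_rowsum _ x
theorem rs_b : fhRS C.b C.r := fun x => fhT_rowsum _ x

/-- for odd `m` the two parameters agree. -/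
theorem q_eq_r_of_odd (hodd : ¬ Even C.m) : C.q = C.r := by
  obtain ⟨k, hk⟩ : ∃ k, C.m = k + 1 := ⟨C.m - 1, by have := C.m_pos; omega⟩
  have hkeven : Even k := by
    rw [hk, Nat.even_add_one] at hodd
    exact not_not.1 hodd
  have h1 : fhAlt C.a C.b (k + 1) = fhAlt C.b C.a k * C.b := by
    have := C.braidM
    rw [hk] at this
    rw [this, fhAlt_succ_right_even C.b C.a hkeven]
  have h2 : fhAlt C.a C.b (k + 1) = C.a * fhAlt C.b C.a k := fhAlt_succ _ _ _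
  have rs1 : fhRS (fhAlt C.a C.b (k + 1)) (fhAlt C.r C.q k * C.r) := by
    rw [h1]; exact fhRS_mul (fhRS_alt C.rs_b C.rs_a k) C.rs_b
  have rs2 : fhRS (fhAlt C.a C.b (k + 1)) (C.q * fhAlt C.r C.q k) := by
    rw [h2]; exact fhRS_mul C.rs_a (fhRS_alt C.rs_b C.rs_a k)
  have := fhRS_unique rs1 rs2
  have hpos : 0 < fhAlt C.r C.q k := by
    obtain ⟨j, rfl⟩ := hkeven
    rw [← two_mul, fhAlt_real_even]
    have := C.q_ge; have := C.r_ge
    positivity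
  nlinarith

end FhCtx

end Cfsg.Agent.Lib.Helper9
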