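import Mathlib
import Cfsg.Prelude.Def_LieExceptional
import Cfsg.Agent.Lib.helper3.BNLen
import Cfsg.Agent.Lib.helper3.BNSimple
import Cfsg.Agent.Lib.Helper9.FH1
import Cfsg.Agent.Lib.Helper9.FH2
import Cfsg.Agent.Lib.Helper9.FH3
import Cfsg.Agent.Lib.Helper9.FH4a

set_option autoImplicit false

namespace Cfsg.Agent.Lib.Helper9

open Cfsg.Agent.Lib.helper3 DoubleCoset Classical

variable {G : Type*} [Group G]

section Tset

variable {P : Cfsg.BNPair G} [Finite G]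

/-- the Hecke operator of a set of Bruhat cells -/
noncomputable def fhTset (S : Finset (Weyl P)) : Matrix (fhFlag P) (fhFlag P) ℝ :=
  fun a c => if fhCell P a c ∈ S then 1 else 0

theorem fhTset_apply (S : Finset (Weyl P)) (a c : fhFlag P) :
    fhTset S a c = if fhCell P a c ∈ S then 1 else 0 := rfl

theorem fhTset_eq_sum (S : Finset (Weyl P)) : fhTset S = ∑ w ∈ S, fhT P w := by
  ext a c
  rw [Matrix.sum_apply, fhTset_apply]
  simp only [fhT_apply]
  rw [Finset.sum_ite_eq]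

end Tset

namespace FhCtx

variable {P : Cfsg.BNPair G} (C : FhCtx P) [Finite G]

/-- the class index of a Weyl group element -/
noncomputable def clsIdx (w : Weyl P) : ℕ :=
  (min (wlen (TW P) w) (wlen (TW P) (C.t1 * w)) + 1) / 2

theorem t1_mul_al (k : ℕ) : C.t1 * fhAlt C.t1 C.t2 (k + 1) = fhAlt C.t2 C.t1 k := by
  rw [fhAlt_succ, ← mul_assoc, C.t1_sq, one_mul]

theorem clsIdx_al (k : ℕ) (hk : k ≤ C.m) : C.clsIdx (fhAlt C.t1 C.t2 k) = k / 2 := by
  unfold clsIdx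
  cases k with
  | zero =>
    have h1 : C.t1 * fhAlt C.t1 C.t2 0 = fhAlt C.t1 C.t2 1 := by
      rw [fhAlt_zero, fhAlt_one, mul_one]
    rw [h1, (C.wlen_alt 0 (by omega)).1, (C.wlen_alt 1 (by have := C.m_ge_two; omega)).1]
    simp
  | succ k =>
    rw [C.t1_mul_al, (C.wlen_alt (k + 1) hk).1, (C.wlen_alt k (by omega)).2]
    have : min (k + 1) k = k := by omega
    rw [this]

theorem clsIdx_be (k : ℕ) (hk : k < C.m) : C.clsIdx (fhAlt C.t2 C.t1 k) = (k + 1) / 2 := by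
  unfold clsIdx
  rw [← fhAlt_succ, (C.wlen_alt k (by omega)).2, (C.wlen_alt (k + 1) (by omega)).1]
  have : min k (k + 1) = k := by omega
  rw [this]

/-- the classes of `W` under `⟨t1⟩ \ W / ⟨t1⟩` -/
noncomputable def cls : ℕ → Finset (Weyl P)
  | 0 => {1, C.t1}
  | j + 1 => {fhAlt C.t2 C.t1 (2 * j + 1), fhAlt C.t1 C.t2 (2 * j + 2),
      fhAlt C.t2 C.t1 (2 * j + 2), fhAlt C.t1 C.t2 (2 * j + 3)}

theorem cls_zero : C.cls 0 = {1, C.t1} := rfl

theorem cls_succ (j : ℕ) : C.cls (j + 1) =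
    {fhAlt C.t2 C.t1 (2 * j + 1), fhAlt C.t1 C.t2 (2 * j + 2),
      fhAlt C.t2 C.t1 (2 * j + 2), fhAlt C.t1 C.t2 (2 * j + 3)} := rfl

theorem clsIdx_of_mem (i : ℕ) (hi : 2 * i ≤ C.m) {w : Weyl P} (hw : w ∈ C.cls i) :
    C.clsIdx w = i := by
  have hm := C.m_ge_two
  cases i with
  | zero =>
    rw [cls_zero] at hw
    simp only [Finset.mem_insert, Finset.mem_singleton] at hw
    rcases hw with rfl | rfl
    · have := C.clsIdx_al 0 (by omega)
      rw [fhAlt_zero] at this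
      rw [this]
    · have := C.clsIdx_al 1 (by omega)
      rw [fhAlt_one] at this
      rw [this]
  | succ j =>
    rw [cls_succ] at hw
    simp only [Finset.mem_insert, Finset.mem_singleton] at hw
    have hb1 : C.clsIdx (fhAlt C.t2 C.t1 (2 * j + 1)) = j + 1 := by
      rw [C.clsIdx_be _ (by omega)]; omega
    rcases hw with rfl | rfl | rfl | rfl
    · exact hb1
    · rw [C.clsIdx_al _ (by omega)]; omega
    · by_cases h : 2 * j + 2 < C.m
      · rw [C.clsIdx_be _ h]; omega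
      · have hm2 : C.m = 2 * j + 2 := by omega
        have := C.braidW
        rw [hm2] at this
        rw [← this, C.clsIdx_al _ (by omega)]; omega
    · by_cases h : 2 * j + 3 ≤ C.m
      · rw [C.clsIdx_al _ h]; omega
      · have hm2 : C.m = 2 * j + 2 := by omega
        have hbr := C.braidW
        rw [hm2] at hbr
        have : fhAlt C.t1 C.t2 (2 * j + 3) = fhAlt C.t2 C.t1 (2 * j + 1) := by
          rw [fhAlt_succ, ← hbr, C.t1_mul_al]
        rw [this]; exact hb1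

/-- the class matrices -/
noncomputable def DD (i : ℕ) : Matrix (fhFlag P) (fhFlag P) ℝ := fhTset (C.cls i)

theorem DD_apply (i : ℕ) (x y : fhFlag P) :
    C.DD i x y = if fhCell P x y ∈ C.cls i then 1 else 0 := rfl

theorem DD_01 (i : ℕ) (x y : fhFlag P) : C.DD i x y = 0 ∨ C.DD i x y = 1 := by
  rw [DD_apply]
  split_ifs
  · right; rfl
  · left; rfl

theorem DD_disj (i j : ℕ) (hi : 2 * i ≤ C.m) (hj : 2 * j ≤ C.m) (hij : i ≠ j) (x y : fhFlag P)
    (h : C.DD i x y = 1) : C.DD j x y = 0 := by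
  rw [DD_apply] at h ⊢
  have hmem : fhCell P x y ∈ C.cls i := by
    by_contra hn
    rw [if_neg hn] at h
    exact zero_ne_one h
  rw [if_neg]
  intro hmem'
  apply hij
  rw [← C.clsIdx_of_mem i hi hmem, ← C.clsIdx_of_mem j hj hmem']

theorem DD_diag (x : fhFlag P) : C.DD 0 x x = 1 := by
  rw [DD_apply, if_pos]
  rw [(fhCell_eq_one_iff x x).2 rfl, cls_zero]
  simp

theorem DD_zero : C.DD 0 = fhDt C.a C.b 0 := by
  unfold DD
  rw [fhTset_eq_sum, cls_zero, Finset.sum_pair (Ne.symm C.t1_ne_one), fhDt_zero, fhT_one]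
  rfl

/-- the generic link -/
theorem DD_succ (j : ℕ) (hj : 2 * j + 3 ≤ C.m) : C.DD (j + 1) = fhDt C.a C.b (j + 1) := by
  unfold DD
  rw [fhTset_eq_sum, cls_succ, fhDt_expand, (C.alt_mat (2 * j + 1) (by omega)).2,
    (C.alt_mat (2 * j + 2) (by omega)).1, (C.alt_mat (2 * j + 2) (by omega)).2,
    (C.alt_mat (2 * j + 3) (by omega)).1]
  have w1 := (C.wlen_alt (2 * j + 1) (by omega)).2
  have w2 := (C.wlen_alt (2 * j + 2) (by omega)).1
  have w3 := (C.wlen_alt (2 * j + 2) (by omega)).2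
  have w4 := (C.wlen_alt (2 * j + 3) (by omega)).1
  have h12 : fhAlt C.t2 C.t1 (2 * j + 1) ≠ fhAlt C.t1 C.t2 (2 * j + 2) := by
    intro h; rw [h, w2] at w1; omega
  have h13 : fhAlt C.t2 C.t1 (2 * j + 1) ≠ fhAlt C.t2 C.t1 (2 * j + 2) := by
    intro h; rw [h, w3] at w1; omega
  have h14 : fhAlt C.t2 C.t1 (2 * j + 1) ≠ fhAlt C.t1 C.t2 (2 * j + 3) := by
    intro h; rw [h, w4] at w1; omega
  have h23 : fhAlt C.t1 C.t2 (2 * j + 2) ≠ fhAlt C.t2 C.t1 (2 * j + 2) :=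
    C.alt_ne _ (by omega) (by omega)
  have h24 : fhAlt C.t1 C.t2 (2 * j + 2) ≠ fhAlt C.t1 C.t2 (2 * j + 3) := by
    intro h; rw [h, w4] at w2; omega
  have h34 : fhAlt C.t2 C.t1 (2 * j + 2) ≠ fhAlt C.t1 C.t2 (2 * j + 3) := by
    intro h; rw [h, w4] at w3; omega
  rw [Finset.sum_insert (by simp [h12, h13, h14]), Finset.sum_insert (by simp [h23, h24]),
    Finset.sum_insert (by simp [h34]), Finset.sum_singleton]
  abel

/-- the link at the end, `m` even -/
theorem DD_end_even (e : ℕ) (hm : C.m = 2 * e + 4) :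
    fhDt C.a C.b (e + 2) = (C.q + 1) • C.DD (e + 2) := by
  have hbrM : fhAlt C.a C.b (2 * e + 4) = fhAlt C.b C.a (2 * e + 4) := by
    have := C.braidM; rwa [hm] at this
  have hbrW : fhAlt C.t1 C.t2 (2 * e + 4) = fhAlt C.t2 C.t1 (2 * e + 4) := by
    have := C.braidW; rwa [hm] at this
  rw [fhDt_expand_even C.ha e hbrM]
  congr 1
  unfold DD
  rw [fhTset_eq_sum, cls_succ]
  have e1 : 2 * (e + 1) + 1 = 2 * e + 3 := by ring
  have e2 : 2 * (e + 1) + 2 = 2 * e + 4 := by ring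
  have e3 : 2 * (e + 1) + 3 = (2 * e + 4) + 1 := by ring
  rw [e1, e2, e3]
  have h5 : fhAlt C.t1 C.t2 (2 * e + 4 + 1) = fhAlt C.t2 C.t1 (2 * e + 3) := by
    rw [fhAlt_succ, ← hbrW, C.t1_mul_al]
  rw [h5, ← hbrW]
  have w1 := (C.wlen_alt (2 * e + 3) (by omega)).2
  have w2 := (C.wlen_alt (2 * e + 4) (by omega)).1
  have h12 : fhAlt C.t2 C.t1 (2 * e + 3) ≠ fhAlt C.t1 C.t2 (2 * e + 4) := by
    intro h; rw [h, w2] at w1; omega
  have hset : ({fhAlt C.t2 C.t1 (2 * e + 3), fhAlt C.t1 C.t2 (2 * e + 4),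
      fhAlt C.t1 C.t2 (2 * e + 4), fhAlt C.t2 C.t1 (2 * e + 3)} : Finset (Weyl P)) =
      {fhAlt C.t2 C.t1 (2 * e + 3), fhAlt C.t1 C.t2 (2 * e + 4)} := by
    ext w
    simp only [Finset.mem_insert, Finset.mem_singleton]
    tauto
  rw [hset, Finset.sum_pair h12, (C.alt_mat (2 * e + 3) (by omega)).2,
    (C.alt_mat (2 * e + 4) (by omega)).1]

end FhCtx

end Cfsg.Agent.Lib.Helper9
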