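import Mathlib

set_option autoImplicit false

namespace Cfsg.Agent.Lib.Helper9

open Matrix Finset

section Span

variable {Ω : Type*} [Fintype Ω] [DecidableEq Ω]

/-- `M` is a linear combination of `D 0, …, D d`. -/
def fhSpan (d : ℕ) (D : ℕ → Matrix Ω Ω ℝ) (M : Matrix Ω Ω ℝ) : Prop :=
  ∃ ε : ℕ → ℝ, M = ∑ i ∈ range (d + 1), ε i • D i

theorem fhSpan_zero (d : ℕ) (D : ℕ → Matrix Ω Ω ℝ) : fhSpan d D 0 :=
  ⟨fun _ => 0, by simp⟩

theorem fhSpan_add {d : ℕ} {D : ℕ → Matrix Ω Ω ℝ} {M M' : Matrix Ω Ω ℝ}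
    (h : fhSpan d D M) (h' : fhSpan d D M') : fhSpan d D (M + M') := by
  obtain ⟨ε, rfl⟩ := h
  obtain ⟨ε', rfl⟩ := h'
  refine ⟨fun i => ε i + ε' i, ?_⟩
  rw [← sum_add_distrib]
  apply sum_congr rfl
  intro i _
  rw [add_smul]

theorem fhSpan_smul {d : ℕ} {D : ℕ → Matrix Ω Ω ℝ} {M : Matrix Ω Ω ℝ} (c : ℝ)
    (h : fhSpan d D M) : fhSpan d D (c • M) := by
  obtain ⟨ε, rfl⟩ := h
  refine ⟨fun i => c * ε i, ?_⟩
  rw [smul_sum]
  apply sum_congr rfl
  intro i _
  rw [smul_smul]

theorem fhSpan_sum {d : ℕ} {D : ℕ → Matrix Ω Ω ℝ} {ι : Type*} (s : Finset ι)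
    (f : ι → Matrix Ω Ω ℝ) (h : ∀ i ∈ s, fhSpan d D (f i)) : fhSpan d D (∑ i ∈ s, f i) := by
  classical
  induction s using Finset.induction_on with
  | empty => simpa using fhSpan_zero d D
  | insert a s ha ih =>
    rw [sum_insert ha]
    exact fhSpan_add (h a (mem_insert_self a s))
      (ih (fun i hi => h i (mem_insert_of_mem hi)))

end Span

/-- the combinatorial data of a "zonal" commutative scheme attached to a symmetric matrix. -/
structure FhData (Ω : Type*) [Fintype Ω] [DecidableEq Ω] where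
  d : ℕ
  D : ℕ → Matrix Ω Ω ℝ
  A : Matrix Ω Ω ℝ
  κ : ℕ → ℝ
  Lop : (ℕ → ℝ) → ℕ → ℝ
  h01 : ∀ i ≤ d, ∀ x y, D i x y = 0 ∨ D i x y = 1
  hdisj : ∀ i ≤ d, ∀ j ≤ d, i ≠ j → ∀ x y, D i x y = 1 → D j x y = 0
  hdiag : ∀ x, D 0 x x = 1
  hrow : ∀ i ≤ d, ∀ x, ∑ y, D i x y = κ i
  hκ : ∀ i ≤ d, 0 < κ i
  hsymm : A.IsHermitian
  hAspan : fhSpan d D A
  hmul : ∀ ε : ℕ → ℝ, A * ∑ i ∈ range (d + 1), ε i • D i = ∑ j ∈ range (d + 1), Lop ε j • D j

namespace FhData

variable {Ω : Type*} [Fintype Ω] [DecidableEq Ω] [Nonempty Ω] (F : FhData Ω)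

theorem exists_one (i : ℕ) (hi : i ≤ F.d) : ∃ x y, F.D i x y = 1 := by
  obtain ⟨x⟩ := ‹Nonempty Ω›
  by_contra hcon
  push Not at hcon
  have : ∑ y, F.D i x y = 0 := by
    apply sum_eq_zero
    intro y _
    rcases F.h01 i hi x y with h | h
    · exact h
    · exact absurd h (hcon x y)
  have h2 := F.hrow i hi x
  have h3 := F.hκ i hi
  linarith

theorem entry_sum (ε : ℕ → ℝ) (x y : Ω) (i : ℕ) (hi : i ≤ F.d) (h : F.D i x y = 1) :
    (∑ j ∈ range (F.d + 1), ε j • F.D j) x y = ε i := by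
  rw [Matrix.sum_apply]
  rw [sum_eq_single i]
  · rw [Matrix.smul_apply, h, smul_eq_mul, mul_one]
  · intro j hj hji
    rw [Matrix.smul_apply, F.hdisj i hi j (by rw [mem_range] at hj; omega) (Ne.symm hji) x y h,
      smul_zero]
  · intro hn
    exact absurd (mem_range.2 (by omega)) hn

theorem entry_sum_zero (ε : ℕ → ℝ) (x y : Ω) (h : ∀ i ≤ F.d, F.D i x y = 0) :
    (∑ j ∈ range (F.d + 1), ε j • F.D j) x y = 0 := by
  rw [Matrix.sum_apply]
  apply sum_eq_zero
  intro j hj
  rw [Matrix.smul_apply, h j (by rw [mem_range] at hj; omega), smul_zero]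

theorem indep {ε ε' : ℕ → ℝ}
    (h : ∑ i ∈ range (F.d + 1), ε i • F.D i = ∑ i ∈ range (F.d + 1), ε' i • F.D i) :
    ∀ j ≤ F.d, ε j = ε' j := by
  intro j hj
  obtain ⟨x, y, hxy⟩ := F.exists_one j hj
  have := congrFun (congrFun h x) y
  rwa [F.entry_sum ε x y j hj hxy, F.entry_sum ε' x y j hj hxy] at this

theorem diag_zero (i : ℕ) (hi : i ≤ F.d) (hi0 : i ≠ 0) (x : Ω) : F.D i x x = 0 :=
  F.hdisj 0 (Nat.zero_le _) i hi (Ne.symm hi0) x x (F.hdiag x)

theorem trace_sum (ε : ℕ → ℝ) :
    (∑ i ∈ range (F.d + 1), ε i • F.D i).trace = ε 0 * (Fintype.card Ω : ℝ) := by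
  unfold Matrix.trace
  have : ∀ x : Ω, Matrix.diag (∑ i ∈ range (F.d + 1), ε i • F.D i) x = ε 0 := by
    intro x
    rw [Matrix.diag_apply]
    exact F.entry_sum ε x x 0 (Nat.zero_le _) (F.hdiag x)
  simp only [this]
  rw [sum_const, card_univ, nsmul_eq_mul, mul_comm]

theorem sq_sum (ε : ℕ → ℝ) :
    ∑ x, ∑ y, ((∑ i ∈ range (F.d + 1), ε i • F.D i) x y) ^ 2 =
      (Fintype.card Ω : ℝ) * ∑ i ∈ range (F.d + 1), ε i ^ 2 * F.κ i := by
  have key : ∀ x y : Ω, ((∑ i ∈ range (F.d + 1), ε i • F.D i) x y) ^ 2 =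
      ∑ i ∈ range (F.d + 1), ε i ^ 2 * F.D i x y := by
    intro x y
    by_cases h : ∃ i ≤ F.d, F.D i x y = 1
    · obtain ⟨i, hi, hxy⟩ := h
      rw [F.entry_sum ε x y i hi hxy, sum_eq_single i]
      · rw [hxy, mul_one]
      · intro j hj hji
        rw [F.hdisj i hi j (by rw [mem_range] at hj; omega) (Ne.symm hji) x y hxy, mul_zero]
      · intro hn
        exact absurd (mem_range.2 (by omega)) hn
    · push Not at h
      have h0 : ∀ i ≤ F.d, F.D i x y = 0 := by
        intro i hi
        rcases F.h01 i hi x y with h' | h'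
        · exact h'
        · exact absurd h' (h i hi)
      rw [F.entry_sum_zero ε x y h0]
      rw [sum_eq_zero]
      · ring
      · intro i hi
        rw [h0 i (by rw [mem_range] at hi; omega), mul_zero]
  simp only [key]
  calc ∑ x, ∑ y, ∑ i ∈ range (F.d + 1), ε i ^ 2 * F.D i x y
      = ∑ x, ∑ i ∈ range (F.d + 1), ε i ^ 2 * ∑ y, F.D i x y := by
        apply sum_congr rfl
        intro x _
        rw [sum_comm]
        apply sum_congr rfl
        intro i _
        rw [mul_sum]
    _ = ∑ x : Ω, ∑ i ∈ range (F.d + 1), ε i ^ 2 * F.κ i := by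
        apply sum_congr rfl
        intro x _
        apply sum_congr rfl
        intro i hi
        rw [F.hrow i (by rw [mem_range] at hi; omega) x]
    _ = (Fintype.card Ω : ℝ) * ∑ i ∈ range (F.d + 1), ε i ^ 2 * F.κ i := by
        rw [sum_const, card_univ, nsmul_eq_mul]

theorem span_mul {M : Matrix Ω Ω ℝ} (h : fhSpan F.d F.D M) : fhSpan F.d F.D (F.A * M) := by
  obtain ⟨ε, rfl⟩ := h
  exact ⟨F.Lop ε, F.hmul ε⟩

theorem span_pow (k : ℕ) : fhSpan F.d F.D (F.A ^ (k + 1)) := by
  induction k with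
  | zero => simpa using F.hAspan
  | succ k ih =>
    rw [pow_succ']
    exact F.span_mul ih

/-- the eigenvalue multiset of `A`. -/
noncomputable def ev : Ω → ℝ := F.hsymm.eigenvalues

/-- multiplicity of `lam` as an eigenvalue of `A`. -/
noncomputable def mult (lam : ℝ) : ℕ := (univ.filter (fun i : Ω => F.ev i = lam)).card

theorem spec_aux :
    ∃ U : Matrix Ω Ω ℝ, U.transpose * U = 1 ∧ U * U.transpose = 1 ∧
      F.A = U * Matrix.diagonal F.ev * U.transpose := by
  have hstar : star (F.hsymm.eigenvectorUnitary : Matrix Ω Ω ℝ) =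
      (F.hsymm.eigenvectorUnitary : Matrix Ω Ω ℝ).transpose := by
    rw [Matrix.star_eq_conjTranspose, Matrix.conjTranspose_eq_transpose_of_trivial]
  refine ⟨(F.hsymm.eigenvectorUnitary : Matrix Ω Ω ℝ), ?_, ?_, ?_⟩
  · rw [← hstar]; exact Unitary.coe_star_mul_self _
  · rw [← hstar]; exact Unitary.coe_mul_star_self _
  · have := F.hsymm.spectral_theorem
    rw [Unitary.conjStarAlgAut_apply] at this
    have e : (RCLike.ofReal ∘ F.hsymm.eigenvalues : Ω → ℝ) = F.ev := by
      ext i; simp [ev]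
    rw [e, hstar] at this
    exact this

theorem conj_mul_conj {U : Matrix Ω Ω ℝ} (hVU : U.transpose * U = 1) (X Y : Matrix Ω Ω ℝ) :
    (U * X * U.transpose) * (U * Y * U.transpose) = U * (X * Y) * U.transpose := by
  calc (U * X * U.transpose) * (U * Y * U.transpose)
      = U * X * (U.transpose * U) * Y * U.transpose := by simp only [Matrix.mul_assoc]
    _ = U * (X * Y) * U.transpose := by rw [hVU]; simp only [Matrix.mul_one, Matrix.mul_assoc]

/-- the spectral projector of a nonzero eigenvalue. -/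
theorem exists_proj {lam : ℝ} (hlam : lam ≠ 0) :
    ∃ E : Matrix Ω Ω ℝ, fhSpan F.d F.D E ∧ F.A * E = lam • E ∧ E * E = E ∧ E.transpose = E ∧
      E.trace = (F.mult lam : ℝ) ∧ ∀ M : Matrix Ω Ω ℝ, F.A * M = lam • M → E * M = M := by
  obtain ⟨U, hVU, hUV, hA⟩ := F.spec_aux
  set χ : Ω → ℝ := fun i => if F.ev i = lam then 1 else 0 with hχ
  refine ⟨U * Matrix.diagonal χ * U.transpose, ?_, ?_, ?_, ?_, ?_, ?_⟩
  · -- in the span
    set s : Finset ℝ := univ.image F.ev with hs
    set r : ℝ → ℝ := fun t => if t = lam then lam⁻¹ else 0 with hr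
    set p1 : Polynomial ℝ := Lagrange.interpolate s id r with hp1
    have hev : ∀ i : Ω, p1.eval (F.ev i) = r (F.ev i) := by
      intro i
      have := Lagrange.eval_interpolate_at_node (s := s) (v := id) r
        (Set.injOn_id _) (i := F.ev i) (by rw [hs]; exact mem_image_of_mem _ (mem_univ i))
      exact this
    have hχ' : ∀ i : Ω, χ i = ∑ k ∈ range (p1.natDegree + 1), p1.coeff k * F.ev i ^ (k + 1) := by
      intro i
      have h1 : p1.eval (F.ev i) = ∑ k ∈ range (p1.natDegree + 1), p1.coeff k * F.ev i ^ k :=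
        Polynomial.eval_eq_sum_range _
      have h2 : χ i = F.ev i * p1.eval (F.ev i) := by
        rw [hev i, hχ, hr]
        by_cases h : F.ev i = lam
        · simp only [h, if_true]
          rw [mul_inv_cancel₀ hlam]
        · simp only [h, if_false, mul_zero]
      rw [h2, h1, mul_sum]
      apply sum_congr rfl
      intro k _
      ring
    have hpow : ∀ k : ℕ, F.A ^ k = U * Matrix.diagonal (fun i => F.ev i ^ k) * U.transpose := by
      intro k
      induction k with
      | zero =>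
        simp only [pow_zero]
        have : Matrix.diagonal (fun _ : Ω => (1 : ℝ)) = 1 := Matrix.diagonal_one
        rw [this, Matrix.mul_one, hUV]
      | succ k ih =>
        rw [pow_succ, ih]
        have hA' : (U * Matrix.diagonal (fun i => F.ev i ^ k)) * U.transpose * F.A =
            (U * Matrix.diagonal (fun i => F.ev i ^ k)) * U.transpose *
              (U * Matrix.diagonal F.ev * U.transpose) := by rw [← hA]
        rw [hA', conj_mul_conj hVU, Matrix.diagonal_mul_diagonal]
        rfl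
    have hdiag : Matrix.diagonal χ =
        ∑ k ∈ range (p1.natDegree + 1), p1.coeff k • Matrix.diagonal (fun i => F.ev i ^ (k + 1)) := by
      ext i j
      rw [Matrix.sum_apply]
      by_cases hij : i = j
      · subst hij
        simp only [Matrix.diagonal_apply_eq, Matrix.smul_apply, smul_eq_mul]
        exact hχ' i
      · simp only [Matrix.diagonal_apply_ne _ hij, Matrix.smul_apply, smul_zero, sum_const_zero]
    have hE : U * Matrix.diagonal χ * U.transpose =
        ∑ k ∈ range (p1.natDegree + 1), p1.coeff k • F.A ^ (k + 1) := by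
      rw [hdiag, Matrix.mul_sum, Matrix.sum_mul]
      apply sum_congr rfl
      intro k _
      rw [hpow (k + 1), Matrix.mul_smul, Matrix.smul_mul]
    rw [hE]
    apply fhSpan_sum
    intro k _
    exact fhSpan_smul _ (F.span_pow k)
  · nth_rewrite 1 [hA]
    rw [conj_mul_conj hVU, Matrix.diagonal_mul_diagonal]
    have : (fun i => F.ev i * χ i) = fun i => lam * χ i := by
      ext i
      rw [hχ]
      by_cases h : F.ev i = lam
      · simp only [h]
      · simp only [h, if_false, mul_zero]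
    rw [this]
    have h2 : Matrix.diagonal (fun i => lam * χ i) = lam • Matrix.diagonal χ := by
      ext i j
      by_cases hij : i = j
      · subst hij; simp
      · simp [Matrix.diagonal_apply_ne _ hij]
    rw [h2, Matrix.mul_smul, Matrix.smul_mul]
  · rw [conj_mul_conj hVU, Matrix.diagonal_mul_diagonal]
    congr 3
    ext i
    rw [hχ]
    by_cases h : F.ev i = lam
    · simp only [h, if_true, mul_one]
    · simp only [h, if_false, mul_zero]
  · rw [Matrix.transpose_mul, Matrix.transpose_mul, Matrix.transpose_transpose,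
      Matrix.diagonal_transpose, Matrix.mul_assoc]
  · rw [Matrix.mul_assoc, Matrix.trace_mul_comm, Matrix.mul_assoc, hVU, Matrix.mul_one,
      Matrix.trace_diagonal]
    unfold mult
    rw [hχ, sum_boole]
  · intro M hM
    set Y := U.transpose * M with hY
    have h1 : Matrix.diagonal F.ev * Y = lam • Y := by
      have : U.transpose * (F.A * M) = Matrix.diagonal F.ev * Y := by
        rw [hA]
        calc U.transpose * (U * Matrix.diagonal F.ev * U.transpose * M)
            = (U.transpose * U) * Matrix.diagonal F.ev * (U.transpose * M) := by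
              simp only [Matrix.mul_assoc]
          _ = Matrix.diagonal F.ev * Y := by rw [hVU, Matrix.one_mul]
      rw [← this, hM, Matrix.mul_smul]
    have h2 : Matrix.diagonal χ * Y = Y := by
      ext i j
      have := congrFun (congrFun h1 i) j
      rw [Matrix.diagonal_mul, Matrix.smul_apply, smul_eq_mul] at this
      rw [Matrix.diagonal_mul, hχ]
      by_cases h : F.ev i = lam
      · simp only [h, if_true, one_mul]
      · simp only [h, if_false, zero_mul]
        have h3 : (F.ev i - lam) * Y i j = 0 := by rw [sub_mul, this, sub_self]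
        rcases mul_eq_zero.1 h3 with h4 | h4
        · exact absurd (sub_eq_zero.1 h4) h
        · exact h4.symm
    calc U * Matrix.diagonal χ * U.transpose * M
        = U * (Matrix.diagonal χ * Y) := by simp only [Matrix.mul_assoc, hY]
      _ = U * Y := by rw [h2]
      _ = M := by rw [hY, ← Matrix.mul_assoc, hUV, Matrix.one_mul]

/-- eigenvalues of the small operator are eigenvalues of `A`. -/
theorem mult_pos_of_vec {lam : ℝ} (hlam : lam ≠ 0) {g : ℕ → ℝ}
    (hg : ∀ j ≤ F.d, F.Lop g j = lam * g j) (hg0 : ∃ j ≤ F.d, g j ≠ 0) : 0 < F.mult lam := by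
  obtain ⟨E, -, -, -, -, htr, hfix⟩ := F.exists_proj hlam
  set M := ∑ i ∈ range (F.d + 1), g i • F.D i with hM
  have hAM : F.A * M = lam • M := by
    rw [hM, F.hmul, smul_sum]
    apply sum_congr rfl
    intro j hj
    rw [hg j (by rw [mem_range] at hj; omega), smul_smul]
  have hEM := hfix M hAM
  by_contra hcon
  have h0 : F.mult lam = 0 := by omega
  -- then the spectral projector is zero... use trace of E = 0 and E idempotent symmetric
  obtain ⟨E', hspan, hAE, hEE, hEt, htr', hfix'⟩ := F.exists_proj hlam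
  obtain ⟨ε, rfl⟩ := hspan
  have h1 : ∑ x, ∑ y, ((∑ i ∈ range (F.d + 1), ε i • F.D i) x y) ^ 2 = 0 := by
    have : ∑ x, ∑ y, ((∑ i ∈ range (F.d + 1), ε i • F.D i) x y) ^ 2 =
        ((∑ i ∈ range (F.d + 1), ε i • F.D i) *
          (∑ i ∈ range (F.d + 1), ε i • F.D i).transpose).trace := by
      unfold Matrix.trace
      apply sum_congr rfl
      intro x _
      rw [Matrix.diag_apply, Matrix.mul_apply]
      apply sum_congr rfl
      intro y _
      rw [Matrix.transpose_apply]; ring
    rw [this, hEt, hEE, htr', h0]; simp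
  have h2 : ∀ x y, (∑ i ∈ range (F.d + 1), ε i • F.D i) x y = 0 := by
    intro x y
    have hx := (sum_eq_zero_iff_of_nonneg (fun x _ => sum_nonneg (fun y _ => sq_nonneg _))).1 h1 x
      (mem_univ x)
    have hy := (sum_eq_zero_iff_of_nonneg (fun y _ => sq_nonneg _)).1 hx y (mem_univ y)
    exact pow_eq_zero_iff (two_ne_zero) |>.1 hy
  have h3 : (∑ i ∈ range (F.d + 1), ε i • F.D i) = 0 := by
    ext x y; exact h2 x y
  have hM0 : M = 0 := by
    rw [← hfix' M hAM, h3, Matrix.zero_mul]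
  obtain ⟨j, hj, hgj⟩ := hg0
  have := F.indep (ε := g) (ε' := fun _ => 0) (by rw [← hM, hM0]; simp) j hj
  exact hgj this

/-- eigenvalues of `A` (nonzero) are eigenvalues of the small operator. -/
theorem exists_vec_of_mult_pos {lam : ℝ} (hlam : lam ≠ 0) (hpos : 0 < F.mult lam) :
    ∃ ε : ℕ → ℝ, (∃ j ≤ F.d, ε j ≠ 0) ∧ ∀ j ≤ F.d, F.Lop ε j = lam * ε j := by
  obtain ⟨E, hspan, hAE, hEE, hEt, htr, hfix⟩ := F.exists_proj hlam
  obtain ⟨ε, rfl⟩ := hspan
  refine ⟨ε, ?_, ?_⟩
  · by_contra hcon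
    push Not at hcon
    have : (∑ i ∈ range (F.d + 1), ε i • F.D i) = 0 := by
      apply sum_eq_zero
      intro i hi
      rw [hcon i (by rw [mem_range] at hi; omega), zero_smul]
    rw [this, Matrix.trace_zero] at htr
    have : (F.mult lam : ℝ) = 0 := htr.symm
    have : F.mult lam = 0 := by exact_mod_cast this
    omega
  · have h := hAE
    rw [F.hmul, smul_sum] at h
    have h' : ∑ j ∈ range (F.d + 1), F.Lop ε j • F.D j =
        ∑ j ∈ range (F.d + 1), (lam * ε j) • F.D j := by
      rw [h]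
      apply sum_congr rfl
      intro j _
      rw [smul_smul]
    exact F.indep h'

/-- the multiplicity formula. -/
theorem mult_formula {lam : ℝ} (hlam : lam ≠ 0) (hpos : 0 < F.mult lam) {g : ℕ → ℝ}
    (huniq : ∀ ε : ℕ → ℝ, (∀ j ≤ F.d, F.Lop ε j = lam * ε j) → ∃ c : ℝ, ∀ j ≤ F.d, ε j = c * g j) :
    (F.mult lam : ℝ) * ∑ i ∈ range (F.d + 1), g i ^ 2 * F.κ i =
      (Fintype.card Ω : ℝ) * g 0 ^ 2 := by
  obtain ⟨E, hspan, hAE, hEE, hEt, htr, hfix⟩ := F.exists_proj hlam
  obtain ⟨ε, rfl⟩ := hspan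
  have hε : ∀ j ≤ F.d, F.Lop ε j = lam * ε j := by
    have h := hAE
    rw [F.hmul, smul_sum] at h
    have h' : ∑ j ∈ range (F.d + 1), F.Lop ε j • F.D j =
        ∑ j ∈ range (F.d + 1), (lam * ε j) • F.D j := by
      rw [h]
      apply sum_congr rfl
      intro j _
      rw [smul_smul]
    exact F.indep h'
  obtain ⟨c, hc⟩ := huniq ε hε
  have htr1 : (F.mult lam : ℝ) = ε 0 * (Fintype.card Ω : ℝ) := by
    rw [← htr, F.trace_sum]
  have htr2 : (F.mult lam : ℝ) = (Fintype.card Ω : ℝ) * ∑ i ∈ range (F.d + 1), ε i ^ 2 * F.κ i := by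
    rw [← F.sq_sum, ← htr]
    have : ∑ x, ∑ y, ((∑ i ∈ range (F.d + 1), ε i • F.D i) x y) ^ 2 =
        ((∑ i ∈ range (F.d + 1), ε i • F.D i) *
          (∑ i ∈ range (F.d + 1), ε i • F.D i).transpose).trace := by
      unfold Matrix.trace
      apply sum_congr rfl
      intro x _
      rw [Matrix.diag_apply, Matrix.mul_apply]
      apply sum_congr rfl
      intro y _
      rw [Matrix.transpose_apply]; ring
    rw [this, hEt, hEE]
  have hsum : ∑ i ∈ range (F.d + 1), ε i ^ 2 * F.κ i =
      c ^ 2 * ∑ i ∈ range (F.d + 1), g i ^ 2 * F.κ i := by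
    rw [mul_sum]
    apply sum_congr rfl
    intro i hi
    rw [hc i (by rw [mem_range] at hi; omega)]
    ring
  have h0 : ε 0 = c * g 0 := hc 0 (Nat.zero_le _)
  set S := ∑ i ∈ range (F.d + 1), g i ^ 2 * F.κ i with hS
  set N := (Fintype.card Ω : ℝ) with hN
  have hNpos : 0 < N := by
    rw [hN]; exact_mod_cast Fintype.card_pos
  have hmpos : (0 : ℝ) < F.mult lam := by exact_mod_cast hpos
  rw [hsum] at htr2
  rw [h0] at htr1
  -- n = c g0 N, n = N c^2 S
  have hc0 : c ≠ 0 := by
    intro hc0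
    rw [hc0] at htr1
    simp at htr1
    linarith
  have h3 : g 0 = c * S := by
    have : c * g 0 * N = N * (c ^ 2 * S) := by rw [← htr1, htr2]
    have h4 : c * (g 0 * N) = c * (c * S * N) := by nlinarith
    have h5 := mul_left_cancel₀ hc0 h4
    exact mul_right_cancel₀ (ne_of_gt hNpos) h5
  rw [htr1, h3]
  ring

end FhData

end Cfsg.Agent.Lib.Helper9
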