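import Mathlib

set_option autoImplicit false

namespace Cfsg.Agent.Lib.Helper9

open Finset

/-- the tridiagonal operator on coefficient vectors -/
def fhLop (d : ℕ) (lo di up : ℕ → ℝ) (ε : ℕ → ℝ) (j : ℕ) : ℝ :=
  (if 1 ≤ j then up (j - 1) * ε (j - 1) else 0) + di j * ε j +
    (if j + 1 ≤ d then lo (j + 1) * ε (j + 1) else 0)

theorem fh_tridiag_sum {V : Type*} [AddCommGroup V] [Module ℝ V] (D : ℕ → V) (d : ℕ)
    (lo di up : ℕ → ℝ) (hlo : lo 0 = 0) (hup : up d = 0) (ε : ℕ → ℝ) :
    ∑ i ∈ range (d + 1), ε i • (up i • D (i + 1) + di i • D i + lo i • D (i - 1)) =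
      ∑ j ∈ range (d + 1), fhLop d lo di up ε j • D j := by
  have h1 : ∑ i ∈ range (d + 1), (ε i * up i) • D (i + 1) =
      ∑ j ∈ range (d + 1), (if 1 ≤ j then up (j - 1) * ε (j - 1) else 0) • D j := by
    rw [sum_range_succ, hup, mul_zero, zero_smul, add_zero, sum_range_succ']
    simp only [Nat.le_zero, one_ne_zero, if_false, zero_smul, add_zero]
    apply sum_congr rfl
    intro j _
    rw [if_pos (by omega), Nat.add_sub_cancel, mul_comm]
  have h3 : ∑ i ∈ range (d + 1), (ε i * lo i) • D (i - 1) =
      ∑ j ∈ range (d + 1), (if j + 1 ≤ d then lo (j + 1) * ε (j + 1) else 0) • D j := by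
    rw [sum_range_succ', hlo, mul_zero, zero_smul, add_zero, sum_range_succ]
    rw [if_neg (by omega), zero_smul, add_zero]
    apply sum_congr rfl
    intro j hj
    rw [mem_range] at hj
    rw [if_pos (by omega), Nat.add_sub_cancel, mul_comm]
  calc ∑ i ∈ range (d + 1), ε i • (up i • D (i + 1) + di i • D i + lo i • D (i - 1))
      = ∑ i ∈ range (d + 1), (ε i * up i) • D (i + 1) + ∑ i ∈ range (d + 1), (di i * ε i) • D i
        + ∑ i ∈ range (d + 1), (ε i * lo i) • D (i - 1) := by
        rw [← sum_add_distrib, ← sum_add_distrib]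
        apply sum_congr rfl
        intro i _
        rw [smul_add, smul_add, smul_smul, smul_smul, smul_smul, mul_comm (ε i) (di i)]
    _ = ∑ j ∈ range (d + 1), fhLop d lo di up ε j • D j := by
        rw [h1, h3, ← sum_add_distrib, ← sum_add_distrib]
        apply sum_congr rfl
        intro j _
        unfold fhLop
        rw [add_smul, add_smul]

theorem fhLop_unique (d : ℕ) (lo di up : ℕ → ℝ) (hlo : ∀ j < d, lo (j + 1) ≠ 0) (lam : ℝ)
    {g ε : ℕ → ℝ} (hg : ∀ j ≤ d, fhLop d lo di up g j = lam * g j) (hg0 : g 0 ≠ 0)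
    (hε : ∀ j ≤ d, fhLop d lo di up ε j = lam * ε j) :
    ∃ c : ℝ, ∀ j ≤ d, ε j = c * g j := by
  refine ⟨ε 0 / g 0, ?_⟩
  set c := ε 0 / g 0 with hc
  have key : ∀ j : ℕ, j ≤ d → ∀ k ≤ j, ε k = c * g k := by
    intro j
    induction j with
    | zero =>
      intro _ k hk
      have : k = 0 := by omega
      subst this
      rw [hc]; field_simp
    | succ j ih =>
      intro hj k hk
      have ih' := ih (by omega)
      by_cases hkj : k ≤ j
      · exact ih' k hkj
      · have hk' : k = j + 1 := by omega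
        subst hk'
        have e1 := hε j (by omega)
        have e2 := hg j (by omega)
        unfold fhLop at e1 e2
        rw [if_pos hj] at e1 e2
        have hlo' := hlo j (by omega)
        have hj0 := ih' j le_rfl
        by_cases h1 : 1 ≤ j
        · rw [if_pos h1] at e1 e2
          have hj1 := ih' (j - 1) (by omega)
          rw [hj0, hj1] at e1
          have : lo (j + 1) * (ε (j + 1) - c * g (j + 1)) = 0 := by
            have e2' : c * (up (j - 1) * g (j - 1) + di j * g j + lo (j + 1) * g (j + 1)) =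
                c * (lam * g j) := by rw [e2]
            nlinarith
          rcases mul_eq_zero.1 this with h | h
          · exact absurd h hlo'
          · linarith
        · rw [if_neg h1] at e1 e2
          rw [hj0] at e1
          have : lo (j + 1) * (ε (j + 1) - c * g (j + 1)) = 0 := by
            have e2' : c * (0 + di j * g j + lo (j + 1) * g (j + 1)) =
                c * (lam * g j) := by rw [e2]
            nlinarith
          rcases mul_eq_zero.1 this with h | h
          · exact absurd h hlo'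
          · linarith
  intro j hj
  exact key j hj j le_rfl

/-- valencies -/
def fhKap (q r : ℝ) : ℕ → ℝ
  | 0 => 1 + q
  | j + 1 => (1 + q) * (r * (q * r) ^ j) * (1 + q)

/-- valencies, `m` even -/
noncomputable def fhKapE (d : ℕ) (q r : ℝ) (i : ℕ) : ℝ :=
  if i = d then fhKap q r i / (1 + q) else fhKap q r i

/-- lower coefficients -/
def fhLo (q r : ℝ) : ℕ → ℝ
  | 0 => 0
  | 1 => (q + 1) * (r * (q + 1))
  | _ + 2 => (q + 1) * (r * q)

/-- diagonal coefficients, `m` odd -/
noncomputable def fhDiO (d : ℕ) (q r : ℝ) (i : ℕ) : ℝ :=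
  if i = 0 then 0 else if i = d then (q + 1) * (r - 1 + q * q) else (q + 1) * (r - 1)

/-- diagonal coefficients, `m` even -/
noncomputable def fhDiE (d : ℕ) (q r : ℝ) (i : ℕ) : ℝ :=
  if i = 0 then 0 else if i = d then (q + 1) * ((q + 1) * (r - 1)) else (q + 1) * (r - 1)

/-- upper coefficients, `m` odd -/
noncomputable def fhUpO (d : ℕ) (q : ℝ) (i : ℕ) : ℝ := if i = d then 0 else q + 1

/-- upper coefficients, `m` even -/
noncomputable def fhUpE (d : ℕ) (q : ℝ) (i : ℕ) : ℝ :=
  if i = d then 0 else if i + 1 = d then (q + 1) * (q + 1) else q + 1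

end Cfsg.Agent.Lib.Helper9
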