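import Mathlib
import Cfsg.Prelude.Def_LieExceptional
import Cfsg.Agent.Lib.helper3.BNLen
import Cfsg.Agent.Lib.helper3.BNSimple
import Cfsg.Agent.Lib.Helper9.FH1
import Cfsg.Agent.Lib.Helper9.FH2
import Cfsg.Agent.Lib.Helper9.FH3
import Cfsg.Agent.Lib.Helper9.FH4a
import Cfsg.Agent.Lib.Helper9.FH4b
import Cfsg.Agent.Lib.Helper9.FH5
import Cfsg.Agent.Lib.Helper9.FH5b

set_option autoImplicit false

namespace Cfsg.Agent.Lib.Helper9

open Cfsg.Agent.Lib.helper3 DoubleCoset Classical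

variable {G : Type*} [Group G]

namespace FhCtx

variable {P : Cfsg.BNPair G} (C : FhCtx P) [Finite G]

/-- the adjacency operator `J b J` -/
noncomputable def AA : Matrix (fhFlag P) (fhFlag P) ℝ := (1 + C.a) * C.b * (1 + C.a)

theorem AA_eq : C.AA = fhDt C.a C.b 1 := by
  unfold AA
  rw [fhDt_succ, Nat.mul_zero, Nat.zero_add, fhAlt_one]

theorem AA_symm : C.AA.IsHermitian := by
  unfold Matrix.IsHermitian AA
  rw [Matrix.conjTranspose_eq_transpose_of_trivial, Matrix.transpose_mul, Matrix.transpose_mul,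
    Matrix.transpose_add, Matrix.transpose_one, C.a_transpose, C.b_transpose, Matrix.mul_assoc]

theorem rs_J : fhRS (1 + C.a) (1 + C.q) := fhRS_add fhRS_one C.rs_a

theorem rs_Dt (j : ℕ) : fhRS (fhDt C.a C.b (j + 1)) (fhKap C.q C.r (j + 1)) := by
  rw [fhDt_succ]
  have := fhRS_mul (fhRS_mul C.rs_J (fhRS_alt C.rs_b C.rs_a (2 * j + 1))) C.rs_J
  rw [fhAlt_real_odd] at this
  exact this

theorem DD_rs (i : ℕ) (hi : 2 * i + 1 ≤ C.m) : fhRS (C.DD i) (fhKap C.q C.r i) := by
  cases i with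
  | zero =>
    rw [DD_zero, fhDt_zero]
    exact C.rs_J
  | succ j =>
    rw [C.DD_succ j (by omega)]
    exact C.rs_Dt j

theorem q1_pos : 0 < C.q + 1 := by have := C.q_ge; linarith
theorem q1_ne : C.q + 1 ≠ 0 := ne_of_gt C.q1_pos

theorem DD_rs_end (e : ℕ) (hm : C.m = 2 * e + 4) :
    fhRS (C.DD (e + 2)) (fhKap C.q C.r (e + 2) / (1 + C.q)) := by
  have h1 := C.rs_Dt (e + 1)
  rw [C.DD_end_even e hm] at h1
  have h2 := fhRS_smul (C.q + 1)⁻¹ h1
  rw [smul_smul, inv_mul_cancel₀ C.q1_ne, one_smul] at h2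
  have e1 : (C.q + 1)⁻¹ * fhKap C.q C.r (e + 1 + 1) = fhKap C.q C.r (e + 2) / (1 + C.q) := by
    rw [add_comm C.q 1]; field_simp
  rw [← e1]; exact h2

theorem AA_DD_one (h3 : 3 ≤ C.m) : C.AA = C.DD 1 := by
  rw [C.AA_eq, C.DD_succ 0 (by omega)]

theorem AA_span (d : ℕ) (hd : 1 ≤ d) (h3 : 3 ≤ C.m) : fhSpan d C.DD C.AA := by
  refine ⟨fun i => if i = 1 then 1 else 0, ?_⟩
  rw [C.AA_DD_one h3]
  rw [Finset.sum_eq_single 1]
  · simp
  · intro i _ hi
    simp [hi]
  · intro h
    exact absurd (Finset.mem_range.2 (by omega)) h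

/-- the rational form of the adjacency matrix -/
noncomputable def AAq : Matrix (fhFlag P) (fhFlag P) ℚ :=
  fun x y => if fhCell P x y ∈ C.cls 1 then 1 else 0

theorem AA_map (h3 : 3 ≤ C.m) : C.AA = C.AAq.map (algebraMap ℚ ℝ) := by
  rw [C.AA_DD_one h3]
  ext x y
  rw [Matrix.map_apply, DD_apply]
  unfold AAq
  split_ifs <;> simp

/-- the multiplication table, `m` odd -/
theorem table_odd (d : ℕ) (hd : 2 ≤ d) (hm : C.m = 2 * d + 1) (i : ℕ) (hi : i ≤ d) :
    C.AA * C.DD i = fhUpO d C.q i • C.DD (i + 1) + fhDiO d C.q C.r i • C.DD i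
      + fhLo C.q C.r i • C.DD (i - 1) := by
  have hAA : C.AA = (1 + C.a) * C.b * (1 + C.a) := rfl
  rcases i with _ | _ | j
  · -- i = 0
    rw [C.DD_succ 0 (by omega), DD_zero, hAA, fh_table_zero C.ha]
    have h1 : fhUpO d C.q 0 = C.q + 1 := by unfold fhUpO; rw [if_neg (by omega)]
    have h2 : fhDiO d C.q C.r 0 = 0 := by unfold fhDiO; rw [if_pos rfl]
    have h3 : fhLo C.q C.r 0 = 0 := rfl
    rw [h1, h2, h3]
    module
  · -- i = 1
    rw [C.DD_succ 0 (by omega), C.DD_succ 1 (by omega), DD_zero, hAA, fh_table_one C.ha C.hb]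
    have h1 : fhUpO d C.q (0 + 1) = C.q + 1 := by unfold fhUpO; rw [if_neg (by omega)]
    have h2 : fhDiO d C.q C.r (0 + 1) = (C.q + 1) * (C.r - 1) := by
      unfold fhDiO; rw [if_neg (by omega), if_neg (by omega)]
    have h3 : fhLo C.q C.r (0 + 1) = (C.q + 1) * (C.r * (C.q + 1)) := rfl
    rw [h1, h2, h3]
    show _ = (C.q + 1) • fhDt C.a C.b 2 + ((C.q + 1) * (C.r - 1)) • fhDt C.a C.b 1 +
      ((C.q + 1) * (C.r * (C.q + 1))) • fhDt C.a C.b 0
    module
  · -- i = j + 2
    have h3 : fhLo C.q C.r (j + 1 + 1) = (C.q + 1) * (C.r * C.q) := rfl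
    have e0 : j + 1 + 1 - 1 = j + 1 := by omega
    rw [e0, C.DD_succ (j + 1) (by omega), C.DD_succ j (by omega), hAA,
      fh_table_succ C.ha C.hb j, h3]
    by_cases hjd : j + 2 = d
    · have h1 : fhUpO d C.q (j + 1 + 1) = 0 := by unfold fhUpO; rw [if_pos (by omega)]
      have h2 : fhDiO d C.q C.r (j + 1 + 1) = (C.q + 1) * (C.r - 1 + C.q * C.q) := by
        unfold fhDiO; rw [if_neg (by omega), if_pos (by omega)]
      have hbr : fhAlt C.a C.b (2 * (j + 1 + 1) + 1) = fhAlt C.b C.a (2 * (j + 1 + 1) + 1) := by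
        have := C.braidM
        have e : C.m = 2 * (j + 1 + 1) + 1 := by omega
        rwa [e] at this
      have hend := fh_end_odd C.ha (j + 1) hbr
      rw [h1, h2, hend]
      module
    · have h1 : fhUpO d C.q (j + 1 + 1) = C.q + 1 := by unfold fhUpO; rw [if_neg (by omega)]
      have h2 : fhDiO d C.q C.r (j + 1 + 1) = (C.q + 1) * (C.r - 1) := by
        unfold fhDiO; rw [if_neg (by omega), if_neg (by omega)]
      rw [h1, h2, C.DD_succ (j + 2) (by omega)]
      module

/-- the multiplication table, `m` even -/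
theorem table_even (e : ℕ) (he : 1 ≤ e) (hm : C.m = 2 * e + 4) (i : ℕ) (hi : i ≤ e + 2) :
    C.AA * C.DD i = fhUpE (e + 2) C.q i • C.DD (i + 1) + fhDiE (e + 2) C.q C.r i • C.DD i
      + fhLo C.q C.r i • C.DD (i - 1) := by
  have hAA : C.AA = (1 + C.a) * C.b * (1 + C.a) := rfl
  rcases i with _ | _ | j
  · -- i = 0
    rw [C.DD_succ 0 (by omega), DD_zero, hAA, fh_table_zero C.ha]
    have h1 : fhUpE (e + 2) C.q 0 = C.q + 1 := by
      unfold fhUpE; rw [if_neg (by omega), if_neg (by omega)]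
    have h2 : fhDiE (e + 2) C.q C.r 0 = 0 := by unfold fhDiE; rw [if_pos rfl]
    have h3 : fhLo C.q C.r 0 = 0 := rfl
    rw [h1, h2, h3]
    module
  · -- i = 1
    rw [C.DD_succ 0 (by omega), C.DD_succ 1 (by omega), DD_zero, hAA, fh_table_one C.ha C.hb]
    have h1 : fhUpE (e + 2) C.q (0 + 1) = C.q + 1 := by
      unfold fhUpE; rw [if_neg (by omega), if_neg (by omega)]
    have h2 : fhDiE (e + 2) C.q C.r (0 + 1) = (C.q + 1) * (C.r - 1) := by
      unfold fhDiE; rw [if_neg (by omega), if_neg (by omega)]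
    have h3 : fhLo C.q C.r (0 + 1) = (C.q + 1) * (C.r * (C.q + 1)) := rfl
    rw [h1, h2, h3]
    show _ = (C.q + 1) • fhDt C.a C.b 2 + ((C.q + 1) * (C.r - 1)) • fhDt C.a C.b 1 +
      ((C.q + 1) * (C.r * (C.q + 1))) • fhDt C.a C.b 0
    module
  · -- i = j + 2
    have h3 : fhLo C.q C.r (j + 1 + 1) = (C.q + 1) * (C.r * C.q) := rfl
    have e0 : j + 1 + 1 - 1 = j + 1 := by omega
    rw [e0, C.DD_succ j (by omega), h3]
    by_cases hjd : j = e
    · -- i = d
      subst hjd
      have h1 : fhUpE (j + 2) C.q (j + 1 + 1) = 0 := by unfold fhUpE; rw [if_pos rfl]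
      have h2 : fhDiE (j + 2) C.q C.r (j + 1 + 1) = (C.q + 1) * ((C.q + 1) * (C.r - 1)) := by
        unfold fhDiE; rw [if_neg (by omega), if_pos rfl]
      have hbr : fhAlt C.a C.b (2 * j + 4) = fhAlt C.b C.a (2 * j + 4) := by
        have := C.braidM
        rwa [hm] at this
      have hend := fh_end_even C.ha C.hb j hbr
      have hD := C.DD_end_even j hm
      have htab := fh_table_succ C.ha C.hb j
      rw [hend, hD, ← hAA] at htab
      rw [h1, h2]
      apply smul_right_injective _ C.q1_ne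
      show (C.q + 1) • (C.AA * C.DD (j + 2)) = _
      rw [← Matrix.mul_smul, htab]
      module
    · by_cases hje : j + 1 = e
      · -- i = d - 1
        have h1 : fhUpE (e + 2) C.q (j + 1 + 1) = (C.q + 1) * (C.q + 1) := by
          unfold fhUpE; rw [if_neg (by omega), if_pos (by omega)]
        have h2 : fhDiE (e + 2) C.q C.r (j + 1 + 1) = (C.q + 1) * (C.r - 1) := by
          unfold fhDiE; rw [if_neg (by omega), if_neg (by omega)]
        have hD := C.DD_end_even e hm
        have e1 : j + 1 + 1 + 1 = e + 2 := by omega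
        rw [C.DD_succ (j + 1) (by omega), hAA, fh_table_succ C.ha C.hb j, h1, h2, e1]
        rw [hD]
        module
      · have h1 : fhUpE (e + 2) C.q (j + 1 + 1) = C.q + 1 := by
          unfold fhUpE; rw [if_neg (by omega), if_neg (by omega)]
        have h2 : fhDiE (e + 2) C.q C.r (j + 1 + 1) = (C.q + 1) * (C.r - 1) := by
          unfold fhDiE; rw [if_neg (by omega), if_neg (by omega)]
        rw [C.DD_succ (j + 1) (by omega), hAA, fh_table_succ C.ha C.hb j, h1, h2,
          C.DD_succ (j + 2) (by omega)]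
        module

theorem hmul_of_table (d : ℕ) (lo di up : ℕ → ℝ) (hlo : lo 0 = 0) (hup : up d = 0)
    (htab : ∀ i ≤ d, C.AA * C.DD i = up i • C.DD (i + 1) + di i • C.DD i + lo i • C.DD (i - 1))
    (ε : ℕ → ℝ) :
    C.AA * ∑ i ∈ Finset.range (d + 1), ε i • C.DD i =
      ∑ j ∈ Finset.range (d + 1), fhLop d lo di up ε j • C.DD j := by
  rw [Matrix.mul_sum, ← fh_tridiag_sum C.DD d lo di up hlo hup ε]
  apply Finset.sum_congr rfl
  intro i hi
  rw [Matrix.mul_smul, htab i (by rw [Finset.mem_range] at hi; omega)]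

theorem fhKap_pos {q r : ℝ} (hq : 0 < q) (hr : 0 < r) (i : ℕ) : 0 < fhKap q r i := by
  cases i with
  | zero => unfold fhKap; linarith
  | succ j => unfold fhKap; positivity

/-- the scheme data, `m` odd -/
noncomputable def dataOdd (d : ℕ) (hd : 2 ≤ d) (hm : C.m = 2 * d + 1) : FhData (fhFlag P) where
  d := d
  D := C.DD
  A := C.AA
  κ := fhKap C.q C.r
  Lop := fhLop d (fhLo C.q C.r) (fhDiO d C.q C.r) (fhUpO d C.q)
  h01 := fun i _ x y => C.DD_01 i x y
  hdisj := fun i hi j hj hij x y h => C.DD_disj i j (by omega) (by omega) hij x y h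
  hdiag := C.DD_diag
  hrow := fun i hi x => C.DD_rs i (by omega) x
  hκ := fun i _ => fhKap_pos (by have := C.q_ge; linarith) (by have := C.r_ge; linarith) i
  hsymm := C.AA_symm
  hAspan := C.AA_span d (by omega) (by omega)
  hmul := C.hmul_of_table d _ _ _ rfl (by unfold fhUpO; rw [if_pos rfl]) (C.table_odd d hd hm)

/-- the scheme data, `m` even -/
noncomputable def dataEven (e : ℕ) (he : 1 ≤ e) (hm : C.m = 2 * e + 4) : FhData (fhFlag P) where
  d := e + 2
  D := C.DD
  A := C.AA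
  κ := fhKapE (e + 2) C.q C.r
  Lop := fhLop (e + 2) (fhLo C.q C.r) (fhDiE (e + 2) C.q C.r) (fhUpE (e + 2) C.q)
  h01 := fun i _ x y => C.DD_01 i x y
  hdisj := fun i hi j hj hij x y h => C.DD_disj i j (by omega) (by omega) hij x y h
  hdiag := C.DD_diag
  hrow := fun i hi x => by
    unfold fhKapE
    by_cases h : i = e + 2
    · rw [if_pos h, h]
      exact C.DD_rs_end e hm x
    · rw [if_neg h]
      exact C.DD_rs i (by omega) x
  hκ := fun i _ => by
    have hq : 0 < C.q := by have := C.q_ge; linarith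
    have hr : 0 < C.r := by have := C.r_ge; linarith
    have := fhKap_pos hq hr i
    unfold fhKapE
    split_ifs
    · positivity
    · exact this
  hsymm := C.AA_symm
  hAspan := C.AA_span (e + 2) (by omega) (by omega)
  hmul := C.hmul_of_table (e + 2) _ _ _ rfl (by unfold fhUpE; rw [if_pos rfl])
    (C.table_even e he hm)

theorem q_nat : ∃ n : ℕ, C.q = n := ⟨_, rfl⟩
theorem r_nat : ∃ n : ℕ, C.r = n := ⟨_, rfl⟩

end FhCtx

end Cfsg.Agent.Lib.Helper9
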