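import Mathlib
import Cfsg.Agent.Lib.Helper9.FH5b

set_option autoImplicit false

namespace Cfsg.Agent.Lib.Helper9

open Real Finset

section Rows

variable (d : ℕ) (q r : ℝ) (g : ℕ → ℝ)

theorem fhLopO_zero (hd : 1 ≤ d) :
    fhLop d (fhLo q r) (fhDiO d q r) (fhUpO d q) g 0 = (q + 1) * (r * (q + 1)) * g 1 := by
  unfold fhLop
  rw [if_neg (by omega), if_pos (by omega)]
  have h1 : fhDiO d q r 0 = 0 := by unfold fhDiO; rw [if_pos rfl]
  have h2 : fhLo q r (0 + 1) = (q + 1) * (r * (q + 1)) := rfl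
  rw [h1, h2]; ring

theorem fhLopO_mid (k : ℕ) (hk : k + 1 < d) :
    fhLop d (fhLo q r) (fhDiO d q r) (fhUpO d q) g (k + 1) =
      (q + 1) * (g k + (r - 1) * g (k + 1) + r * q * g (k + 2)) := by
  unfold fhLop
  rw [if_pos (by omega), if_pos (by omega)]
  have h1 : fhDiO d q r (k + 1) = (q + 1) * (r - 1) := by
    unfold fhDiO; rw [if_neg (by omega), if_neg (by omega)]
  have h2 : fhLo q r (k + 1 + 1) = (q + 1) * (r * q) := rfl
  have h3 : fhUpO d q (k + 1 - 1) = q + 1 := by unfold fhUpO; rw [if_neg (by omega)]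
  rw [h1, h2, h3, Nat.add_sub_cancel]; ring

theorem fhLopO_end (k : ℕ) (hk : k + 1 = d) :
    fhLop d (fhLo q r) (fhDiO d q r) (fhUpO d q) g (k + 1) =
      (q + 1) * (g k + (r - 1 + q * q) * g (k + 1)) := by
  unfold fhLop
  rw [if_pos (by omega), if_neg (by omega)]
  have h1 : fhDiO d q r (k + 1) = (q + 1) * (r - 1 + q * q) := by
    unfold fhDiO; rw [if_neg (by omega), if_pos (by omega)]
  have h3 : fhUpO d q (k + 1 - 1) = q + 1 := by unfold fhUpO; rw [if_neg (by omega)]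
  rw [h1, h3, Nat.add_sub_cancel]; ring

theorem fhLopE_zero (hd : 2 ≤ d) :
    fhLop d (fhLo q r) (fhDiE d q r) (fhUpE d q) g 0 = (q + 1) * (r * (q + 1)) * g 1 := by
  unfold fhLop
  rw [if_neg (by omega), if_pos (by omega)]
  have h1 : fhDiE d q r 0 = 0 := by unfold fhDiE; rw [if_pos rfl]
  have h2 : fhLo q r (0 + 1) = (q + 1) * (r * (q + 1)) := rfl
  rw [h1, h2]; ring

theorem fhLopE_mid (k : ℕ) (hk : k + 1 < d) :
    fhLop d (fhLo q r) (fhDiE d q r) (fhUpE d q) g (k + 1) =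
      (q + 1) * (g k + (r - 1) * g (k + 1) + r * q * g (k + 2)) := by
  unfold fhLop
  rw [if_pos (by omega), if_pos (by omega)]
  have h1 : fhDiE d q r (k + 1) = (q + 1) * (r - 1) := by
    unfold fhDiE; rw [if_neg (by omega), if_neg (by omega)]
  have h2 : fhLo q r (k + 1 + 1) = (q + 1) * (r * q) := rfl
  have h3 : fhUpE d q (k + 1 - 1) = q + 1 := by
    unfold fhUpE; rw [if_neg (by omega), if_neg (by omega)]
  rw [h1, h2, h3, Nat.add_sub_cancel]; ring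

theorem fhLopE_end (k : ℕ) (hk : k + 1 = d) :
    fhLop d (fhLo q r) (fhDiE d q r) (fhUpE d q) g (k + 1) =
      (q + 1) * ((q + 1) * g k + (q + 1) * (r - 1) * g (k + 1)) := by
  unfold fhLop
  rw [if_pos (by omega), if_neg (by omega)]
  have h1 : fhDiE d q r (k + 1) = (q + 1) * ((q + 1) * (r - 1)) := by
    unfold fhDiE; rw [if_neg (by omega), if_pos (by omega)]
  have h3 : fhUpE d q (k + 1 - 1) = (q + 1) * (q + 1) := by
    unfold fhUpE; rw [if_neg (by omega), if_pos (by omega)]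
  rw [h1, h3, Nat.add_sub_cancel]; ring

end Rows

section Trig

/-- numerator of the zonal eigenvector -/
noncomputable def fhNum (r u φ : ℝ) (i : ℕ) : ℝ :=
  ((u * u - r) * cos φ + (r - 1) * u) * sin ((i : ℝ) * φ) +
    ((u * u + r) * sin φ) * cos ((i : ℝ) * φ)

/-- the zonal eigenvector -/
noncomputable def fhG (r u φ : ℝ) (i : ℕ) : ℝ := fhNum r u φ i / u ^ i

theorem fhNum_rec (r u φ : ℝ) (k : ℕ) :
    fhNum r u φ (k + 2) = 2 * cos φ * fhNum r u φ (k + 1) - fhNum r u φ k := by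
  unfold fhNum
  have e2 : ((k + 2 : ℕ) : ℝ) * φ = ((k + 1 : ℕ) : ℝ) * φ + φ := by push_cast; ring
  have e0 : ((k : ℕ) : ℝ) * φ = ((k + 1 : ℕ) : ℝ) * φ - φ := by push_cast; ring
  rw [e2, e0, sin_add, cos_add, sin_sub, cos_sub]
  ring

theorem fhNum_zero (r u φ : ℝ) : fhNum r u φ 0 = (u * u + r) * sin φ := by
  unfold fhNum
  simp

theorem fhNum_one (r u φ : ℝ) : fhNum r u φ 1 =
    ((u * u - r) * cos φ + (r - 1) * u) * sin φ + ((u * u + r) * sin φ) * cos φ := by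
  unfold fhNum
  simp

theorem fhG_zero (r u φ : ℝ) : fhG r u φ 0 = (u * u + r) * sin φ := by
  unfold fhG
  rw [fhNum_zero, pow_zero, div_one]

variable {q r u : ℝ} (φ : ℝ)

theorem fhG_mid (hu : u * u = q * r) (hu0 : u ≠ 0) (k : ℕ) :
    fhG r u φ k + (r * q) * fhG r u φ (k + 2) = (2 * u * cos φ) * fhG r u φ (k + 1) := by
  unfold fhG
  have hrq : r * q = u * u := by rw [hu]; ring
  rw [fhNum_rec, hrq, pow_succ, pow_succ]
  field_simp
  ring

theorem fhG_row0 (hu : u * u = q * r) (hu0 : u ≠ 0) :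
    r * (q + 1) * fhG r u φ 1 = (r - 1 + 2 * u * cos φ) * fhG r u φ 0 := by
  unfold fhG
  have hrq : r * (q + 1) = u * u + r := by rw [hu]; ring
  rw [fhNum_zero, fhNum_one, hrq, pow_zero, pow_one]
  field_simp
  ring

end Trig

section Trig2

variable {q r u : ℝ} (φ : ℝ)

/-- end condition, `m` odd: `g (d+1) = g d`. -/
theorem fhG_endO (hq0 : q ≠ 0) (d : ℕ)
    (h1 : sin (((d + 1 : ℕ) : ℝ) * φ) = - sin ((d : ℝ) * φ))
    (h2 : cos (((d + 1 : ℕ) : ℝ) * φ) = cos ((d : ℝ) * φ)) :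
    fhG q q φ (d + 1) = fhG q q φ d := by
  have hadd : sin (((d + 1 : ℕ) : ℝ) * φ) =
      sin ((d : ℝ) * φ) * cos φ + cos ((d : ℝ) * φ) * sin φ := by
    have : ((d + 1 : ℕ) : ℝ) * φ = (d : ℝ) * φ + φ := by push_cast; ring
    rw [this, sin_add]
  rw [h1] at hadd
  have hN : fhNum q q φ (d + 1) = q * fhNum q q φ d := by
    unfold fhNum
    rw [h1, h2]
    linear_combination (q * (q - 1) * (q + 1)) * hadd
  unfold fhG
  rw [hN, pow_succ]
  field_simp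

/-- end condition, `m` even. -/
theorem fhG_endE (hu : u * u = q * r) (hu0 : u ≠ 0) (k : ℕ)
    (h1 : sin (((k + 1 : ℕ) : ℝ) * φ) = 0) :
    (q + 1) * fhG r u φ k + (q + 1) * (r - 1) * fhG r u φ (k + 1) =
      (r - 1 + 2 * u * cos φ) * fhG r u φ (k + 1) := by
  have hadd : sin (((k + 1 : ℕ) : ℝ) * φ) =
      sin ((k : ℝ) * φ) * cos φ + cos ((k : ℝ) * φ) * sin φ := by
    have : ((k + 1 : ℕ) : ℝ) * φ = (k : ℝ) * φ + φ := by push_cast; ring
    rw [this, sin_add]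
  have hadd2 : cos (((k + 1 : ℕ) : ℝ) * φ) =
      cos ((k : ℝ) * φ) * cos φ - sin ((k : ℝ) * φ) * sin φ := by
    have : ((k + 1 : ℕ) : ℝ) * φ = (k : ℝ) * φ + φ := by push_cast; ring
    rw [this, cos_add]
  rw [h1] at hadd
  have hsc : sin φ ^ 2 + cos φ ^ 2 = 1 := sin_sq_add_cos_sq φ
  set S := sin ((k : ℝ) * φ) with hS
  set C := cos ((k : ℝ) * φ) with hC
  set s := sin φ with hs
  set c := cos φ with hc
  set t := C * c - S * s with ht
  have eS : S = - t * s := by rw [ht]; linear_combination (-c) * hadd - S * hsc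
  have eC : C = t * c := by rw [ht]; linear_combination (-s) * hadd - C * hsc
  have hN1 : fhNum r u φ (k + 1) = ((u * u + r) * s) * t := by
    unfold fhNum
    rw [h1, hadd2]
    ring
  have hN0 : fhNum r u φ k = ((u * u - r) * c + (r - 1) * u) * (- t * s) +
      ((u * u + r) * s) * (t * c) := by
    unfold fhNum
    rw [← hS, ← hC, ← eS, ← eC]
  unfold fhG
  rw [hN1, hN0, pow_succ]
  field_simp
  linear_combination (t * s * (-(r - 1) - 2 * u * c)) * hu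

end Trig2

section Sums

theorem fh_sq_sum (a b φ : ℝ) (n : ℕ) :
    2 * sin φ * ∑ i ∈ range n,
        (a * sin (((i + 1 : ℕ) : ℝ) * φ) + b * cos (((i + 1 : ℕ) : ℝ) * φ)) ^ 2 =
      (a ^ 2 + b ^ 2) * n * sin φ + ((b ^ 2 - a ^ 2) / 2) * (sin (((2 * n + 1 : ℕ) : ℝ) * φ) - sin φ)
        + a * b * (cos φ - cos (((2 * n + 1 : ℕ) : ℝ) * φ)) := by
  induction n with
  | zero => simp
  | succ n ih =>
    rw [sum_range_succ, mul_add, ih]
    have e1 : ((2 * n + 1 : ℕ) : ℝ) * φ = 2 * (((n + 1 : ℕ) : ℝ) * φ) - φ := by push_cast; ring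
    have e3 : ((2 * (n + 1) + 1 : ℕ) : ℝ) * φ = 2 * (((n + 1 : ℕ) : ℝ) * φ) + φ := by
      push_cast; ring
    rw [e1, e3, sin_sub, sin_add, cos_sub, cos_add, sin_two_mul, cos_two_mul]
    have hsc := sin_sq_add_cos_sq (((n + 1 : ℕ) : ℝ) * φ)
    push_cast
    push_cast at hsc
    linear_combination (2 * a ^ 2 * sin φ) * hsc

variable {q r u : ℝ} (φ : ℝ)

theorem fhG_sq_kap (hu : u * u = q * r) (hu0 : u ≠ 0) (hq0 : q ≠ 0) (hr0 : r ≠ 0) (i : ℕ) :
    fhG r u φ (i + 1) ^ 2 * fhKap q r (i + 1) = (1 + q) ^ 2 / q * fhNum r u φ (i + 1) ^ 2 := by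
  have hp : (u ^ (i + 1)) ^ 2 = (q * r) ^ (i + 1) := by
    rw [← hu, ← pow_two, ← pow_mul, ← pow_mul, mul_comm]
  have hqr : q * r ≠ 0 := mul_ne_zero hq0 hr0
  unfold fhG
  rw [div_pow, hp]
  show _ * ((1 + q) * (r * (q * r) ^ i) * (1 + q)) = _
  have : (q * r) ^ i ≠ 0 := pow_ne_zero _ hqr
  field_simp
  ring

theorem fhG_sum_kap (hu : u * u = q * r) (hu0 : u ≠ 0) (hq0 : q ≠ 0) (hr0 : r ≠ 0) (d : ℕ) :
    ∑ i ∈ range (d + 1), fhG r u φ i ^ 2 * fhKap q r i =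
      (1 + q) * fhNum r u φ 0 ^ 2 + (1 + q) ^ 2 / q * ∑ i ∈ range d, fhNum r u φ (i + 1) ^ 2 := by
  rw [sum_range_succ', mul_sum, add_comm]
  congr 1
  · unfold fhG
    rw [pow_zero, div_one]
    show _ * (1 + q) = _
    ring
  · apply sum_congr rfl
    intro i _
    exact fhG_sq_kap φ hu hu0 hq0 hr0 i

end Sums

section Formula

variable {q r u : ℝ} (φ : ℝ)

theorem fhNum_succ_eq (r u φ : ℝ) (i : ℕ) : fhNum r u φ (i + 1) =
    ((u * u - r) * cos φ + (r - 1) * u) * sin (((i + 1 : ℕ) : ℝ) * φ) +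
      ((u * u + r) * sin φ) * cos (((i + 1 : ℕ) : ℝ) * φ) := rfl

/-- the norm of the zonal eigenvector, `m` odd. -/
theorem fhG_formulaO (hq0 : q ≠ 0) (d : ℕ) (hs : sin φ ≠ 0)
    (h1 : sin (((2 * d + 1 : ℕ) : ℝ) * φ) = 0) (h2 : cos (((2 * d + 1 : ℕ) : ℝ) * φ) = 1) :
    (∑ i ∈ range (d + 1), fhG q q φ i ^ 2 * fhKap q q i) * (4 * q) =
      (q + 1) ^ 2 * (2 * d + 1) * (q * (2 * q + 2 * q * cos φ) * (q * q + 1 - 2 * q * cos φ)) := by
  rw [fhG_sum_kap φ rfl hq0 hq0 hq0 d, fhNum_zero]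
  have hS := fh_sq_sum ((q * q - q) * cos φ + (q - 1) * q) ((q * q + q) * sin φ) φ d
  rw [h1, h2] at hS
  have hsc : sin φ ^ 2 + cos φ ^ 2 = 1 := sin_sq_add_cos_sq φ
  simp only [fhNum_succ_eq]
  set T := ∑ i ∈ range d, (((q * q - q) * cos φ + (q - 1) * q) * sin (((i + 1 : ℕ) : ℝ) * φ) +
      ((q * q + q) * sin φ) * cos (((i + 1 : ℕ) : ℝ) * φ)) ^ 2 with hT
  have e1 : ((1 + q) * ((q * q + q) * sin φ) ^ 2 + (1 + q) ^ 2 / q * T) * (4 * q) =
      4 * q * (1 + q) * ((q * q + q) * sin φ) ^ 2 + 4 * (1 + q) ^ 2 * T := by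
    field_simp
  rw [e1]
  apply mul_left_cancel₀ (mul_ne_zero two_ne_zero hs)
  set s := sin φ with hs'
  set c := cos φ with hc'
  linear_combination (4 * (1 + q) ^ 2) * hS +
    (4 * (1 + q) ^ 2 * d * s * (q ^ 2 * (q + 1) ^ 2) + 2 * s * (q + 1) ^ 2 * (q ^ 2 * (q + 1) ^ 2)
      + 4 * (1 + q) ^ 2 * (q * (q + 1) * s) * (q * (q - 1))) * hsc

end Formula

section FormulaE

variable {q r u : ℝ} (φ : ℝ)

theorem fhKapE_lt {d i : ℕ} (q r : ℝ) (h : i < d) : fhKapE d q r i = fhKap q r i := by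
  unfold fhKapE; rw [if_neg (by omega)]

theorem fhKapE_self (d : ℕ) (q r : ℝ) : fhKapE d q r d = fhKap q r d / (1 + q) := by
  unfold fhKapE; rw [if_pos rfl]

/-- the norm of the zonal eigenvector, `m` even. -/
theorem fhG_formulaE (hu : u * u = q * r) (hu0 : u ≠ 0) (hq0 : q ≠ 0) (hr0 : r ≠ 0)
    (hq1 : 1 + q ≠ 0) (k : ℕ) (hs : sin φ ≠ 0)
    (h1 : sin (((k + 1 : ℕ) : ℝ) * φ) = 0) :
    (∑ i ∈ range (k + 2), fhG r u φ i ^ 2 * fhKapE (k + 1) q r i) * (4 * q) =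
      (q + 1) ^ 2 * (2 * (k + 1)) *
        (r * (q + r + 2 * u * cos φ) * (q * r + 1 - 2 * u * cos φ)) := by
  have hsum : ∑ i ∈ range (k + 2), fhG r u φ i ^ 2 * fhKapE (k + 1) q r i =
      ∑ i ∈ range (k + 1), fhG r u φ i ^ 2 * fhKap q r i +
        fhG r u φ (k + 1) ^ 2 * (fhKap q r (k + 1) / (1 + q)) := by
    rw [sum_range_succ, fhKapE_self]
    congr 1
    apply sum_congr rfl
    intro i hi
    rw [fhKapE_lt q r (mem_range.1 hi)]
  have hlast : fhG r u φ (k + 1) ^ 2 * (fhKap q r (k + 1) / (1 + q)) =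
      (1 + q) / q * fhNum r u φ (k + 1) ^ 2 := by
    rw [← mul_div_assoc, fhG_sq_kap φ hu hu0 hq0 hr0 k]
    field_simp
  have hc2 : cos (((k + 1 : ℕ) : ℝ) * φ) ^ 2 = 1 := by
    have := sin_sq_add_cos_sq (((k + 1 : ℕ) : ℝ) * φ)
    rw [h1] at this
    linarith
  have hNk : fhNum r u φ (k + 1) ^ 2 = ((u * u + r) * sin φ) ^ 2 := by
    rw [fhNum_succ_eq, h1, mul_zero, zero_add, mul_pow, hc2, mul_one]
  rw [hsum, hlast, hNk, fhG_sum_kap φ hu hu0 hq0 hr0 k, fhNum_zero]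
  have hS := fh_sq_sum ((u * u - r) * cos φ + (r - 1) * u) ((u * u + r) * sin φ) φ k
  have e1 : ((2 * k + 1 : ℕ) : ℝ) * φ = 2 * (((k + 1 : ℕ) : ℝ) * φ) - φ := by push_cast; ring
  have hs2 : sin (2 * (((k + 1 : ℕ) : ℝ) * φ)) = 0 := by rw [sin_two_mul, h1]; ring
  have hc2' : cos (2 * (((k + 1 : ℕ) : ℝ) * φ)) = 1 := by rw [cos_two_mul, hc2]; ring
  rw [e1, sin_sub, cos_sub, hs2, hc2'] at hS
  have hsc : sin φ ^ 2 + cos φ ^ 2 = 1 := sin_sq_add_cos_sq φ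
  simp only [fhNum_succ_eq]
  set T := ∑ i ∈ range k, (((u * u - r) * cos φ + (r - 1) * u) * sin (((i + 1 : ℕ) : ℝ) * φ) +
      ((u * u + r) * sin φ) * cos (((i + 1 : ℕ) : ℝ) * φ)) ^ 2 with hT
  have e2 : ((1 + q) * ((u * u + r) * sin φ) ^ 2 + (1 + q) ^ 2 / q * T +
      (1 + q) / q * ((u * u + r) * sin φ) ^ 2) * (4 * q) =
      4 * (1 + q) ^ 2 * ((u * u + r) * sin φ) ^ 2 + 4 * (1 + q) ^ 2 * T := by
    field_simp
    ring
  rw [e2]
  apply mul_left_cancel₀ (mul_ne_zero two_ne_zero hs)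
  set s := sin φ with hs'
  set c := cos φ with hc'
  linear_combination (4 * (1 + q) ^ 2) * hS +
    (4 * (1 + q) ^ 2 * s * (k + 1) * (u * u + r) ^ 2) * hsc +
    (4 * (1 + q) ^ 2 * s * (k + 1) *
      (u * u + q * r + 1 - 2 * u * c + r ^ 2 + r * (2 * u * c))) * hu

end FormulaE

end Cfsg.Agent.Lib.Helper9
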