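import Mathlib
import Cfsg.Agent.Lib.Helper9.FH5b
import Cfsg.Agent.Lib.Helper9.FH7

set_option autoImplicit false

namespace Cfsg.Agent.Lib.Helper9

open Real Finset

section Eigen

variable {q r u : ℝ} (φ : ℝ)

/-- the zonal eigenvector, `m` odd -/
theorem fhG_eigenO (hq0 : q ≠ 0) (d : ℕ) (hd : 1 ≤ d)
    (h1 : sin (((d + 1 : ℕ) : ℝ) * φ) = - sin ((d : ℝ) * φ))
    (h2 : cos (((d + 1 : ℕ) : ℝ) * φ) = cos ((d : ℝ) * φ)) :
    ∀ j ≤ d, fhLop d (fhLo q q) (fhDiO d q q) (fhUpO d q) (fhG q q φ) j =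
      ((q + 1) * (q - 1 + 2 * q * cos φ)) * fhG q q φ j := by
  intro j hj
  rcases j with _ | k
  · rw [fhLopO_zero d q q _ hd]
    have := fhG_row0 (q := q) (r := q) (u := q) φ rfl hq0
    linear_combination (q + 1) * this
  · have hmid := fhG_mid (q := q) (r := q) (u := q) φ rfl hq0 k
    by_cases hk : k + 1 < d
    · rw [fhLopO_mid d q q _ k hk]
      linear_combination (q + 1) * hmid
    · have hkd : k + 1 = d := by omega
      rw [fhLopO_end d q q _ k hkd]
      subst hkd
      have hend := fhG_endO φ hq0 (k + 1) h1 h2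
      rw [show k + 1 + 1 = k + 2 from rfl] at hend
      rw [hend] at hmid
      linear_combination (q + 1) * hmid

/-- the zonal eigenvector, `m` even -/
theorem fhG_eigenE (hu : u * u = q * r) (hu0 : u ≠ 0) (d : ℕ) (hd : 2 ≤ d)
    (h1 : sin ((d : ℝ) * φ) = 0) :
    ∀ j ≤ d, fhLop d (fhLo q r) (fhDiE d q r) (fhUpE d q) (fhG r u φ) j =
      ((q + 1) * (r - 1 + 2 * u * cos φ)) * fhG r u φ j := by
  intro j hj
  rcases j with _ | k
  · rw [fhLopE_zero d q r _ hd]
    have := fhG_row0 (q := q) (r := r) (u := u) φ hu hu0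
    linear_combination (q + 1) * this
  · by_cases hk : k + 1 < d
    · rw [fhLopE_mid d q r _ k hk]
      have hmid := fhG_mid (q := q) (r := r) (u := u) φ hu hu0 k
      linear_combination (q + 1) * hmid
    · have hkd : k + 1 = d := by omega
      rw [fhLopE_end d q r _ k hkd]
      subst hkd
      have hend := fhG_endE φ hu hu0 k h1
      linear_combination (q + 1) * hend

/-- the trivial eigenvector, `m` even -/
theorem fh_const_eigenE (d : ℕ) (hd : 2 ≤ d) :
    ∀ j ≤ d, fhLop d (fhLo q r) (fhDiE d q r) (fhUpE d q) (fun _ => 1) j =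
      ((q + 1) * (r * (q + 1))) * (fun _ : ℕ => (1 : ℝ)) j := by
  intro j hj
  rcases j with _ | k
  · rw [fhLopE_zero d q r _ hd]
  · by_cases hk : k + 1 < d
    · rw [fhLopE_mid d q r _ k hk]; ring
    · have hkd : k + 1 = d := by omega
      rw [fhLopE_end d q r _ k hkd]; ring

/-- the sign-type eigenvector, `m` even -/
theorem fh_alt_eigenE (hr0 : r ≠ 0) (d : ℕ) (hd : 2 ≤ d) :
    ∀ j ≤ d, fhLop d (fhLo q r) (fhDiE d q r) (fhUpE d q) (fun i => (-1 / r) ^ i) j =
      (-((q + 1) * (q + 1))) * (fun i : ℕ => (-1 / r) ^ i) j := by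
  intro j hj
  rcases j with _ | k
  · rw [fhLopE_zero d q r _ hd]
    simp only [pow_one, pow_zero]
    field_simp
  · by_cases hk : k + 1 < d
    · rw [fhLopE_mid d q r _ k hk]
      simp only [pow_succ]
      field_simp
      ring
    · have hkd : k + 1 = d := by omega
      rw [fhLopE_end d q r _ k hkd]
      simp only [pow_succ]
      field_simp
      ring

end Eigen

end Cfsg.Agent.Lib.Helper9
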