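import Mathlib
import Cfsg.Agent.Lib.Helper9.FH5
import Cfsg.Agent.Lib.Helper9.FH5b
import Cfsg.Agent.Lib.Helper9.FH7
import Cfsg.Agent.Lib.Helper9.FH7b

set_option autoImplicit false

namespace Cfsg.Agent.Lib.Helper9

open Real Finset

theorem fhLo_ne {q r : ℝ} (hq : 0 < q) (hr : 0 < r) (j : ℕ) : fhLo q r (j + 1) ≠ 0 := by
  rcases j with _ | k
  · show (q + 1) * (r * (q + 1)) ≠ 0
    positivity
  · show (q + 1) * (r * q) ≠ 0
    positivity

/-- `m = 2d+1 ≥ 5` is impossible. -/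
theorem fh_odd_false {Ω : Type*} [Fintype Ω] [DecidableEq Ω] [Nonempty Ω] (F : FhData Ω)
    (d : ℕ) (hd : 2 ≤ d) (q : ℝ) (hq : 2 ≤ q) (hqN : ∃ n : ℕ, q = n)
    (hFd : F.d = d) (hFL : F.Lop = fhLop d (fhLo q q) (fhDiO d q q) (fhUpO d q))
    (hFκ : ∀ i ≤ d, F.κ i = fhKap q q i) : False := by
  subst hFd
  have hq0 : q ≠ 0 := by linarith
  have hqpos : 0 < q := by linarith
  set M : ℝ := 2 * (F.d : ℝ) + 1 with hM
  have hMpos : 0 < M := by positivity
  have hM5 : 5 ≤ M := by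
    have : (2 : ℝ) ≤ F.d := by exact_mod_cast hd
    rw [hM]; linarith
  set φ : ℝ := 2 * π / M with hφ
  have hMφ : M * φ = 2 * π := by rw [hφ]; field_simp
  have hφpos : 0 < φ := by rw [hφ]; positivity
  have hφlt : φ < π / 2 := by
    rw [hφ, div_lt_div_iff₀ hMpos two_pos]
    nlinarith [pi_pos]
  have hs : 0 < sin φ := sin_pos_of_pos_of_lt_pi hφpos (by linarith [pi_pos])
  have hc : 0 < cos φ := cos_pos_of_mem_Ioo ⟨by linarith [pi_pos], hφlt⟩
  -- angle facts
  have e1 : ((2 * F.d + 1 : ℕ) : ℝ) * φ = 2 * π := by push_cast; rw [← hM]; exact hMφ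
  have h1 : sin (((2 * F.d + 1 : ℕ) : ℝ) * φ) = 0 := by rw [e1]; exact sin_two_pi
  have h2 : cos (((2 * F.d + 1 : ℕ) : ℝ) * φ) = 1 := by rw [e1]; exact cos_two_pi
  have e2 : ((F.d + 1 : ℕ) : ℝ) * φ = 2 * π - (F.d : ℝ) * φ := by
    push_cast
    have : M * φ = (F.d : ℝ) * φ + ((F.d : ℝ) + 1) * φ := by rw [hM]; ring
    linarith
  have h3 : sin (((F.d + 1 : ℕ) : ℝ) * φ) = - sin ((F.d : ℝ) * φ) := by
    rw [e2, sin_two_pi_sub]
  have h4 : cos (((F.d + 1 : ℕ) : ℝ) * φ) = cos ((F.d : ℝ) * φ) := by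
    rw [e2, cos_two_pi_sub]
  -- eigenvector
  set x : ℝ := 2 * q * cos φ with hx
  have hxpos : 0 < x := by rw [hx]; positivity
  set lam : ℝ := (q + 1) * (q - 1 + 2 * q * cos φ) with hlam
  have hlampos : 0 < lam := by rw [hlam]; nlinarith
  have hlam0 : lam ≠ 0 := ne_of_gt hlampos
  have hrows : ∀ j ≤ F.d, F.Lop (fhG q q φ) j = lam * fhG q q φ j := by
    rw [hFL]
    exact fhG_eigenO φ hq0 F.d (by omega) h3 h4
  have hg0 : fhG q q φ 0 ≠ 0 := by
    rw [fhG_zero]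
    have : 0 < (q * q + q) * sin φ := by positivity
    exact ne_of_gt this
  have hpos : 0 < F.mult lam := F.mult_pos_of_vec hlam0 hrows ⟨0, Nat.zero_le _, hg0⟩
  have huniq : ∀ ε : ℕ → ℝ, (∀ j ≤ F.d, F.Lop ε j = lam * ε j) →
      ∃ c : ℝ, ∀ j ≤ F.d, ε j = c * fhG q q φ j := by
    intro ε hε
    rw [hFL] at hε hrows
    exact fhLop_unique F.d _ _ _ (fun j _ => fhLo_ne hqpos hqpos j) lam hrows hg0 hε
  have hform := F.mult_formula hlam0 hpos huniq
  have hsum : ∑ i ∈ range (F.d + 1), fhG q q φ i ^ 2 * F.κ i =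
      ∑ i ∈ range (F.d + 1), fhG q q φ i ^ 2 * fhKap q q i := by
    apply sum_congr rfl
    intro i hi
    rw [hFκ i (by rw [mem_range] at hi; omega)]
  rw [hsum] at hform
  have hF := fhG_formulaO φ hq0 F.d (ne_of_gt hs) h1 h2
  rw [fhG_zero] at hform
  set n : ℝ := (F.mult lam : ℝ) with hn
  set N : ℝ := (Fintype.card Ω : ℝ) with hN
  have hnpos : 0 < n := by rw [hn]; exact_mod_cast hpos
  have hNpos : 0 < N := by rw [hN]; exact_mod_cast Fintype.card_pos
  have hsc : sin φ ^ 2 + cos φ ^ 2 = 1 := sin_sq_add_cos_sq φ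
  -- n * M * (q^2 + 1 - x) = N * (2 q - x)
  have hkey : n * M * (q * q + 1 - x) = N * (2 * q - x) := by
    have h5 : n * ((q + 1) ^ 2 * M * (q * (2 * q + x) * (q * q + 1 - x))) =
        N * (q * (q + 1) ^ 2 * ((2 * q - x) * (2 * q + x))) := by
      have h6 : n * ((∑ i ∈ range (F.d + 1), fhG q q φ i ^ 2 * fhKap q q i) * (4 * q)) =
          N * ((q * q + q) * sin φ) ^ 2 * (4 * q) := by rw [← hform]; ring
      rw [hF] at h6
      rw [hM, hx]
      rw [h6]
      linear_combination (N * 4 * q ^ 3 * (q + 1) ^ 2) * hsc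
    have h7 : 0 < q * (q + 1) ^ 2 * (2 * q + x) := by positivity
    have h8 : (q * (q + 1) ^ 2 * (2 * q + x)) * (n * M * (q * q + 1 - x)) =
        (q * (q + 1) ^ 2 * (2 * q + x)) * (N * (2 * q - x)) := by linear_combination h5
    exact mul_left_cancel₀ (ne_of_gt h7) h8
  -- x is rational
  obtain ⟨qn, hqn⟩ := hqN
  have hNK : N - n * M ≠ 0 := by
    intro h0
    have h9 : N = n * M := by linarith
    rw [← h9] at hkey
    have h10 : N * (q - 1) ^ 2 = 0 := by linear_combination hkey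
    have hq1 : 0 < (q - 1) ^ 2 := by
      have : 0 < q - 1 := by linarith
      positivity
    exact absurd h10 (ne_of_gt (mul_pos hNpos hq1))
  have hxq : x = (2 * q * N - n * M * (q * q + 1)) / (N - n * M) := by
    rw [eq_div_iff hNK]
    linarith
  have hxrat : ∃ c : ℚ, x = c := by
    refine ⟨(2 * qn * (Fintype.card Ω) - (F.mult lam) * (2 * F.d + 1) * (qn * qn + 1)) /
      ((Fintype.card Ω) - (F.mult lam) * (2 * F.d + 1)), ?_⟩
    rw [hxq, hqn, hN, hn, hM]
    push_cast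
    ring
  obtain ⟨cx, hcx⟩ := hxrat
  have hcosrat : ∃ c : ℚ, cos (((2 / (2 * F.d + 1) : ℚ) : ℝ) * π) = c := by
    refine ⟨cx / (2 * qn), ?_⟩
    have e3 : ((2 / (2 * F.d + 1) : ℚ) : ℝ) * π = φ := by
      rw [hφ, hM]; push_cast; ring
    rw [e3]
    have : cos φ = x / (2 * q) := by rw [hx]; field_simp
    rw [this, hcx, hqn]
    push_cast
    ring
  have hbnd : (2 / (2 * F.d + 1) : ℚ) ∈ Set.Icc (0 : ℚ) 1 := by
    constructor
    · positivity
    · rw [div_le_one (by positivity)]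
      have : (2 : ℚ) ≤ F.d := by exact_mod_cast hd
      linarith
  have hniv := niven_angle_div_pi_eq hcosrat hbnd
  simp only [Set.mem_insert_iff, Set.mem_singleton_iff] at hniv
  have hdq : (2 : ℚ) ≤ F.d := by exact_mod_cast hd
  have hpos' : (0 : ℚ) < 2 * F.d + 1 := by positivity
  rcases hniv with h | h | h | h | h
  · rw [div_eq_iff (ne_of_gt hpos')] at h; linarith
  · rw [div_eq_iff (ne_of_gt hpos')] at h
    have : (2 * F.d + 1 : ℚ) = 6 := by linarith
    have : 2 * F.d + 1 = 6 := by exact_mod_cast this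
    omega
  · rw [div_eq_iff (ne_of_gt hpos')] at h
    have : (2 * F.d + 1 : ℚ) = 4 := by linarith
    have : 2 * F.d + 1 = 4 := by exact_mod_cast this
    omega
  · rw [div_eq_iff (ne_of_gt hpos')] at h
    linarith
  · rw [div_eq_iff (ne_of_gt hpos')] at h
    linarith

end Cfsg.Agent.Lib.Helper9
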