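import Mathlib
import Cfsg.Agent.Lib.Helper9.FH5

set_option autoImplicit false

namespace Cfsg.Agent.Lib.Helper9

open Polynomial

/-- conjugate real roots of an irreducible rational polynomial have the same multiplicity in any
rational polynomial. -/
theorem fh_rootMult_conj {Φ : ℚ[X]} (hΦ : Irreducible Φ) {x y : ℝ}
    (hx : aeval x Φ = 0) (hy : aeval y Φ = 0) :
    ∀ n : ℕ, ∀ p : ℚ[X], p.natDegree = n → p ≠ 0 →
      rootMultiplicity x (p.map (algebraMap ℚ ℝ)) = rootMultiplicity y (p.map (algebraMap ℚ ℝ)) := by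
  have hΦ0 : Φ ≠ 0 := hΦ.ne_zero
  have hsep : (Φ.map (algebraMap ℚ ℝ)).Separable := (hΦ.separable).map
  have hΦmap0 : Φ.map (algebraMap ℚ ℝ) ≠ 0 := by
    rw [Ne, Polynomial.map_eq_zero]; exact hΦ0
  have hone : ∀ z : ℝ, aeval z Φ = 0 → rootMultiplicity z (Φ.map (algebraMap ℚ ℝ)) = 1 := by
    intro z hz
    have h1 : rootMultiplicity z (Φ.map (algebraMap ℚ ℝ)) ≤ 1 :=
      rootMultiplicity_le_one_of_separable hsep z
    have h2 : 0 < rootMultiplicity z (Φ.map (algebraMap ℚ ℝ)) := by
      rw [rootMultiplicity_pos hΦmap0, IsRoot, eval_map_algebraMap]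
      exact hz
    omega
  have hdeg : 0 < Φ.natDegree := hΦ.natDegree_pos
  intro n
  induction n using Nat.strong_induction_on with
  | _ n ih =>
    intro p hpn hp0
    by_cases hdvd : Φ ∣ p
    · obtain ⟨p', rfl⟩ := hdvd
      have hp'0 : p' ≠ 0 := right_ne_zero_of_mul hp0
      have hlt : p'.natDegree < n := by
        rw [← hpn, natDegree_mul hΦ0 hp'0]; omega
      have hmap0 : Φ.map (algebraMap ℚ ℝ) * p'.map (algebraMap ℚ ℝ) ≠ 0 := by
        apply mul_ne_zero hΦmap0
        rw [Ne, Polynomial.map_eq_zero]; exact hp'0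
      rw [Polynomial.map_mul, rootMultiplicity_mul hmap0, rootMultiplicity_mul hmap0,
        hone x hx, hone y hy, ih _ hlt p' rfl hp'0]
    · have hcop : IsCoprime Φ p := hΦ.coprime_iff_not_dvd.2 hdvd
      obtain ⟨u, v, huv⟩ := hcop
      have key : ∀ z : ℝ, aeval z Φ = 0 → rootMultiplicity z (p.map (algebraMap ℚ ℝ)) = 0 := by
        intro z hz
        apply rootMultiplicity_eq_zero
        rw [IsRoot, eval_map_algebraMap]
        intro hpz
        have := congrArg (aeval z) huv
        rw [map_add, map_mul, map_mul, hz, hpz, mul_zero, mul_zero, add_zero, map_one] at this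
        exact zero_ne_one this
      rw [key x hx, key y hy]

namespace FhData

variable {Ω : Type*} [Fintype Ω] [DecidableEq Ω] [Nonempty Ω] (F : FhData Ω)

theorem mult_eq_rootMultiplicity (lam : ℝ) :
    F.mult lam = rootMultiplicity lam F.A.charpoly := by
  rw [← count_roots, F.hsymm.roots_charpoly_eq_eigenvalues, Multiset.count_map]
  unfold mult
  rw [← Finset.filter_val, Finset.card_def]
  congr 2
  ext i
  simp only [Finset.mem_filter, Finset.mem_univ, true_and]
  constructor
  · intro h; rw [← h]; simp [ev]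
  · intro h; rw [h]; simp [ev]

/-- Galois: an irrational eigenvalue of a rational symmetric matrix has a different irrational
conjugate eigenvalue with the same multiplicity. -/
theorem exists_conj (Aq : Matrix Ω Ω ℚ) (hAq : F.A = Aq.map (algebraMap ℚ ℝ)) {lam : ℝ}
    (hirr : Irrational lam) (hpos : 0 < F.mult lam) :
    ∃ lam' : ℝ, lam' ≠ lam ∧ Irrational lam' ∧ F.mult lam' = F.mult lam := by
  set p : ℚ[X] := Aq.charpoly with hp
  have hpm : F.A.charpoly = p.map (algebraMap ℚ ℝ) := by
    rw [hAq, hp, Matrix.charpoly_map]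
  have hp0 : p ≠ 0 := (Matrix.charpoly_monic Aq).ne_zero
  have hpm0 : p.map (algebraMap ℚ ℝ) ≠ 0 := by
    rw [Ne, Polynomial.map_eq_zero]; exact hp0
  have hroot : aeval lam p = 0 := by
    have h1 : 0 < rootMultiplicity lam (p.map (algebraMap ℚ ℝ)) := by
      rw [← hpm, ← F.mult_eq_rootMultiplicity]; exact hpos
    rw [rootMultiplicity_pos hpm0, IsRoot, eval_map_algebraMap] at h1
    exact h1
  have hint : IsIntegral ℚ lam := ⟨p, Matrix.charpoly_monic Aq, by
    rw [← aeval_def]; exact hroot⟩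
  set Φ := minpoly ℚ lam with hΦ
  have hirred : Irreducible Φ := minpoly.irreducible hint
  have hΦdvd : Φ ∣ p := minpoly.dvd ℚ lam hroot
  have hΦ0 : Φ ≠ 0 := hirred.ne_zero
  have hΦmap0 : Φ.map (algebraMap ℚ ℝ) ≠ 0 := by
    rw [Ne, Polynomial.map_eq_zero]; exact hΦ0
  have hsplit : (Φ.map (algebraMap ℚ ℝ)).Splits := by
    have h1 : (p.map (algebraMap ℚ ℝ)).Splits := by
      rw [← hpm]; exact F.hsymm.splits_charpoly
    exact h1.of_dvd hpm0 (Polynomial.map_dvd _ hΦdvd)
  have hsep : (Φ.map (algebraMap ℚ ℝ)).Separable := (hirred.separable).map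
  have hdeg2 : 2 ≤ Φ.natDegree := by
    by_contra h
    have h1 : Φ.natDegree = 1 := by
      have := hirred.natDegree_pos
      omega
    have := (minpoly.natDegree_eq_one_iff (A := ℚ) (x := lam)).1 h1
    obtain ⟨c, hc⟩ := this
    exact hirr ⟨c, hc⟩
  have hcard : (Φ.map (algebraMap ℚ ℝ)).roots.card = Φ.natDegree := by
    rw [splits_iff_card_roots.1 hsplit, natDegree_map]
  have hnodup := nodup_roots hsep
  -- a second root
  have hex : ∃ lam' ∈ (Φ.map (algebraMap ℚ ℝ)).roots, lam' ≠ lam := by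
    by_contra hcon
    push Not at hcon
    have hsub : (Φ.map (algebraMap ℚ ℝ)).roots ≤ {lam} := by
      rw [Multiset.le_iff_subset hnodup]
      intro z hz
      rw [Multiset.mem_singleton]
      exact hcon z hz
    have := Multiset.card_le_card hsub
    rw [hcard, Multiset.card_singleton] at this
    omega
  obtain ⟨lam', hmem, hne⟩ := hex
  have hroot' : aeval lam' Φ = 0 := by
    rw [mem_roots hΦmap0, IsRoot, eval_map_algebraMap] at hmem
    exact hmem
  refine ⟨lam', hne, ?_, ?_⟩
  · rintro ⟨c, hc⟩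
    have h1 : aeval (algebraMap ℚ ℝ c) Φ = 0 := by
      have : (algebraMap ℚ ℝ c) = lam' := hc
      rw [this]; exact hroot'
    rw [aeval_algebraMap_apply, map_eq_zero_iff _ (algebraMap ℚ ℝ).injective] at h1
    have h2 : Φ.degree = 1 := degree_eq_one_of_irreducible_of_root hirred h1
    have h3 : Φ.natDegree = 1 := natDegree_eq_of_degree_eq_some h2
    omega
  · rw [F.mult_eq_rootMultiplicity, F.mult_eq_rootMultiplicity, hpm]
    exact fh_rootMult_conj hirred hroot' (minpoly.aeval ℚ lam) _ p rfl hp0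

end FhData

end Cfsg.Agent.Lib.Helper9
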