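import Mathlib
import Cfsg.Agent.Lib.Helper9.FH5b

set_option autoImplicit false

namespace Cfsg.Agent.Lib.Helper9

open Finset

theorem fhLop_congr (d : ℕ) (lo di up : ℕ → ℝ) {ε ε' : ℕ → ℝ} (h : ∀ j ≤ d, ε j = ε' j) :
    ∀ j ≤ d, fhLop d lo di up ε j = fhLop d lo di up ε' j := by
  intro j hj
  unfold fhLop
  rw [h j hj]
  congr 1
  · congr 1
    split_ifs with h1
    · rw [h (j - 1) (by omega)]
    · rfl
  · split_ifs with h2
    · rw [h (j + 1) h2]
    · rfl

/-- extend a vector on `Fin (d+1)` to a sequence -/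
def fhExt (d : ℕ) (v : Fin (d + 1) → ℝ) (j : ℕ) : ℝ := v (Fin.ofNat (d + 1) j)

theorem fhExt_apply (d : ℕ) (g : ℕ → ℝ) (j : ℕ) (hj : j ≤ d) :
    fhExt d (fun i : Fin (d + 1) => g i) j = g j := by
  unfold fhExt
  simp only [Fin.ofNat, Nat.mod_eq_of_lt (Nat.lt_succ_of_le hj)]

/-- the tridiagonal operator as a linear map -/
noncomputable def fhLin (d : ℕ) (lo di up : ℕ → ℝ) :
    (Fin (d + 1) → ℝ) →ₗ[ℝ] (Fin (d + 1) → ℝ) where
  toFun v := fun i => fhLop d lo di up (fhExt d v) i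
  map_add' v w := by
    ext i
    simp only [Pi.add_apply]
    unfold fhLop fhExt
    simp only [Pi.add_apply]
    split_ifs <;> ring
  map_smul' c v := by
    ext i
    simp only [Pi.smul_apply, smul_eq_mul, RingHom.id_apply]
    unfold fhLop fhExt
    simp only [Pi.smul_apply, smul_eq_mul]
    split_ifs <;> ring

theorem fhLin_apply (d : ℕ) (lo di up : ℕ → ℝ) (v : Fin (d + 1) → ℝ) (i : Fin (d + 1)) :
    fhLin d lo di up v i = fhLop d lo di up (fhExt d v) i := rfl

/-- at most `d + 1` eigenvalues -/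
theorem fh_card_eigen_le (d : ℕ) (lo di up : ℕ → ℝ) (S : Finset ℝ)
    (hS : ∀ μ ∈ S, ∃ g : ℕ → ℝ, (∃ j ≤ d, g j ≠ 0) ∧
      ∀ j ≤ d, fhLop d lo di up g j = μ * g j) : S.card ≤ d + 1 := by
  classical
  choose! g hg0 hg using hS
  set f := fhLin d lo di up with hf
  let v : S → (Fin (d + 1) → ℝ) := fun μ => fun i : Fin (d + 1) => g μ.1 i
  have hv : ∀ μ : S, Module.End.HasEigenvector f (μ.1) (v μ) := by
    intro μ
    rw [Module.End.hasEigenvector_iff, Module.End.mem_eigenspace_iff]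
    constructor
    · ext i
      rw [hf, fhLin_apply, Pi.smul_apply, smul_eq_mul]
      have h1 := fhLop_congr d lo di up (fun j hj => fhExt_apply d (g μ.1) j hj) i
        (Nat.lt_succ_iff.1 i.2)
      rw [h1, hg μ.1 μ.2 i (Nat.lt_succ_iff.1 i.2)]
    · intro h0
      obtain ⟨j, hj, hne⟩ := hg0 μ.1 μ.2
      apply hne
      have := congrFun h0 ⟨j, Nat.lt_succ_of_le hj⟩
      exact this
  have hli := Module.End.eigenvectors_linearIndependent' f (fun μ : S => μ.1)
    Subtype.val_injective v hv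
  have := hli.fintype_card_le_finrank
  rw [Fintype.card_coe, Module.finrank_fin_fun] at this
  exact this

end Cfsg.Agent.Lib.Helper9
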