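import Mathlib
import Cfsg.Agent.Lib.Helper9.FH5
import Cfsg.Agent.Lib.Helper9.FH5b
import Cfsg.Agent.Lib.Helper9.FH6
import Cfsg.Agent.Lib.Helper9.FH7
import Cfsg.Agent.Lib.Helper9.FH7b
import Cfsg.Agent.Lib.Helper9.FH8
import Cfsg.Agent.Lib.Helper9.FH9a

set_option autoImplicit false

namespace Cfsg.Agent.Lib.Helper9

open Real Finset

/-- `√(qr)` -/
noncomputable def fhU (q r : ℝ) : ℝ := Real.sqrt (q * r)

/-- the angles `π j / d` -/
noncomputable def fhPhi (d j : ℕ) : ℝ := π * j / d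

/-- the eigenvalue parameters -/
noncomputable def fhX (q r : ℝ) (d j : ℕ) : ℝ := 2 * fhU q r * cos (fhPhi d j)

/-- eigenvalue of the adjacency operator from the parameter -/
def fhLam (q r x : ℝ) : ℝ := (q + 1) * (r - 1 + x)

theorem fhLam_inj {q r x y : ℝ} (hq : 0 < q + 1) (h : fhLam q r x = fhLam q r y) : x = y := by
  unfold fhLam at h
  have := mul_left_cancel₀ (ne_of_gt hq) h
  linarith

theorem fh_irr_iff {q r : ℝ} (hqN : ∃ n : ℕ, q = n) (hrN : ∃ n : ℕ, r = n) (x : ℝ) :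
    Irrational (fhLam q r x) ↔ Irrational x := by
  obtain ⟨a, rfl⟩ := hqN
  obtain ⟨b, rfl⟩ := hrN
  have ha : ((a : ℝ) + 1) ≠ 0 := by positivity
  unfold fhLam
  constructor
  · intro h hx
    apply h
    obtain ⟨c, hc⟩ := hx
    refine ⟨(a + 1) * (b - 1 + c), ?_⟩
    rw [← hc]; push_cast; ring
  · intro h hx
    apply h
    obtain ⟨c, hc⟩ := hx
    refine ⟨c / (a + 1) - (b - 1), ?_⟩
    push_cast
    rw [hc]
    field_simp
    ring

section PhiFacts

variable {d j : ℕ}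

theorem fhPhi_pos (hd : 0 < d) (hj : 1 ≤ j) : 0 < fhPhi d j := by
  unfold fhPhi
  have : (0 : ℝ) < j := by exact_mod_cast hj
  have : (0 : ℝ) < d := by exact_mod_cast hd
  positivity

theorem fhPhi_lt (hd : 0 < d) (hj : j < d) : fhPhi d j < π := by
  unfold fhPhi
  have h1 : (0 : ℝ) < d := by exact_mod_cast hd
  have h2 : (j : ℝ) < d := by exact_mod_cast hj
  rw [div_lt_iff₀ h1]
  exact mul_lt_mul_of_pos_left h2 pi_pos

theorem fhPhi_mul (hd : 0 < d) : (d : ℝ) * fhPhi d j = j * π := by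
  unfold fhPhi
  have h1 : (d : ℝ) ≠ 0 := by exact_mod_cast (ne_of_gt hd)
  field_simp

theorem fhPhi_sin (hd : 0 < d) : sin ((d : ℝ) * fhPhi d j) = 0 := by
  rw [fhPhi_mul hd, sin_nat_mul_pi]

theorem fhPhi_sin_pos (hd : 0 < d) (hj : 1 ≤ j) (hjd : j < d) : 0 < sin (fhPhi d j) :=
  sin_pos_of_pos_of_lt_pi (fhPhi_pos hd hj) (fhPhi_lt hd hjd)

theorem fhPhi_inj {j j' : ℕ} (hd : 0 < d) (h : fhPhi d j = fhPhi d j') : j = j' := by
  unfold fhPhi at h
  have h1 : (d : ℝ) ≠ 0 := by exact_mod_cast (ne_of_gt hd)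
  field_simp at h
  exact_mod_cast h

theorem fhPhi_mem (hd : 0 < d) (hj : 1 ≤ j) (hjd : j < d) : fhPhi d j ∈ Set.Icc 0 π :=
  ⟨le_of_lt (fhPhi_pos hd hj), le_of_lt (fhPhi_lt hd hjd)⟩

end PhiFacts

section UFacts

variable {q r : ℝ}

theorem fhU_sq (hq : 2 ≤ q) (hr : 2 ≤ r) : fhU q r * fhU q r = q * r := by
  unfold fhU
  exact Real.mul_self_sqrt (by positivity)

theorem fhU_pos (hq : 2 ≤ q) (hr : 2 ≤ r) : 0 < fhU q r := by
  unfold fhU
  exact Real.sqrt_pos.2 (by positivity)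

theorem fhU_gt_one (hq : 2 ≤ q) (hr : 2 ≤ r) : 1 < fhU q r := by
  have h1 := fhU_sq hq hr
  have h2 := fhU_pos hq hr
  by_contra h
  push Not at h
  have : fhU q r * fhU q r ≤ 1 := by nlinarith
  nlinarith

theorem fhU_le (hq : 2 ≤ q) (hr : 2 ≤ r) : 2 * fhU q r ≤ q + r := by
  have h1 := fhU_sq hq hr
  have h2 := fhU_pos hq hr
  by_contra h
  push Not at h
  nlinarith [sq_nonneg (q - r)]

theorem fhU_lt (hq : 2 ≤ q) (hr : 2 ≤ r) : 2 * fhU q r < q * r + 1 := by
  have h1 := fhU_sq hq hr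
  have h2 := fhU_gt_one hq hr
  nlinarith

end UFacts

section Even

variable {Ω : Type*} [Fintype Ω] [DecidableEq Ω] [Nonempty Ω]

/-- the hypotheses of the even case -/
structure FhEven (F : FhData Ω) (d : ℕ) (q r : ℝ) : Prop where
  hd : 3 ≤ d
  hq : 2 ≤ q
  hr : 2 ≤ r
  hqN : ∃ n : ℕ, q = n
  hrN : ∃ n : ℕ, r = n
  hFd : F.d = d
  hFL : F.Lop = fhLop d (fhLo q r) (fhDiE d q r) (fhUpE d q)
  hFκ : ∀ i ≤ d, F.κ i = fhKapE d q r i

namespace FhEven

variable {F : FhData Ω} {d : ℕ} {q r : ℝ} (H : FhEven F d q r)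

include H

theorem rows (j : ℕ) : ∀ i ≤ F.d, F.Lop (fhG r (fhU q r) (fhPhi d j)) i =
    fhLam q r (fhX q r d j) * fhG r (fhU q r) (fhPhi d j) i := by
  rw [H.hFL, H.hFd]
  unfold fhLam fhX
  have hd := H.hd
  exact fhG_eigenE (fhPhi d j) (fhU_sq H.hq H.hr) (ne_of_gt (fhU_pos H.hq H.hr)) d (by omega)
    (fhPhi_sin (by omega))

theorem g0_ne {j : ℕ} (hj : 1 ≤ j) (hjd : j < d) : fhG r (fhU q r) (fhPhi d j) 0 ≠ 0 := by
  rw [fhG_zero]
  have h1 := fhPhi_sin_pos (d := d) (by omega) hj hjd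
  have h2 := fhU_pos H.hq H.hr
  have h3 := H.hr
  have : 0 < (fhU q r * fhU q r + r) * sin (fhPhi d j) := by positivity
  exact ne_of_gt this

theorem qpos : 0 < q := by have := H.hq; linarith
theorem rpos : 0 < r := by have := H.hr; linarith

/-- the multiplicity formula -/
theorem formula {j : ℕ} (hj : 1 ≤ j) (hjd : j < d) (hlam : fhLam q r (fhX q r d j) ≠ 0) :
    0 < F.mult (fhLam q r (fhX q r d j)) ∧
      (F.mult (fhLam q r (fhX q r d j)) : ℝ) * (2 * d) *
        ((q + r + fhX q r d j) * (q * r + 1 - fhX q r d j)) =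
      (Fintype.card Ω : ℝ) * (4 * q * r - fhX q r d j ^ 2) := by
  have hrows := H.rows j
  have hg0 := H.g0_ne hj hjd
  have hpos : 0 < F.mult (fhLam q r (fhX q r d j)) :=
    F.mult_pos_of_vec hlam hrows ⟨0, Nat.zero_le _, hg0⟩
  refine ⟨hpos, ?_⟩
  have huniq : ∀ ε : ℕ → ℝ, (∀ i ≤ F.d, F.Lop ε i = fhLam q r (fhX q r d j) * ε i) →
      ∃ c : ℝ, ∀ i ≤ F.d, ε i = c * fhG r (fhU q r) (fhPhi d j) i := by
    intro ε hε
    rw [H.hFL] at hε hrows
    rw [H.hFd] at hε hrows ⊢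
    exact fhLop_unique d _ _ _ (fun i _ => fhLo_ne H.qpos H.rpos i) _ hrows hg0 hε
  have hform := F.mult_formula hlam hpos huniq
  have hsum : ∑ i ∈ range (F.d + 1), fhG r (fhU q r) (fhPhi d j) i ^ 2 * F.κ i =
      ∑ i ∈ range (d + 1), fhG r (fhU q r) (fhPhi d j) i ^ 2 * fhKapE d q r i := by
    rw [H.hFd]
    apply sum_congr rfl
    intro i hi
    rw [H.hFκ i (by rw [mem_range] at hi; omega)]
  rw [hsum, fhG_zero] at hform
  have hd := H.hd
  obtain ⟨k, hk⟩ : ∃ k, d = k + 1 := ⟨d - 1, by omega⟩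
  have hu := fhU_sq H.hq H.hr
  have hu0 := ne_of_gt (fhU_pos H.hq H.hr)
  have hs := fhPhi_sin_pos (d := d) (by omega) hj hjd
  have h1 : sin (((k + 1 : ℕ) : ℝ) * fhPhi d j) = 0 := by
    rw [← hk]; exact fhPhi_sin (by omega)
  have hF := fhG_formulaE (fhPhi d j) hu hu0 (ne_of_gt H.qpos) (ne_of_gt H.rpos)
    (by have := H.qpos; linarith) k (ne_of_gt hs) h1
  have hk2 : k + 2 = d + 1 := by omega
  rw [hk2, ← hk] at hF
  have hkd : ((k : ℝ) + 1) = d := by rw [hk]; push_cast; ring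
  rw [hkd] at hF
  have hsc : sin (fhPhi d j) ^ 2 + cos (fhPhi d j) ^ 2 = 1 := sin_sq_add_cos_sq _
  set n : ℝ := (F.mult (fhLam q r (fhX q r d j)) : ℝ) with hn
  set N : ℝ := (Fintype.card Ω : ℝ) with hN
  set u := fhU q r with hu'
  set s := sin (fhPhi d j) with hs'
  set c := cos (fhPhi d j) with hc'
  have hx : fhX q r d j = 2 * u * c := rfl
  rw [hx]
  have h6 : n * ((∑ i ∈ range (d + 1), fhG r u (fhPhi d j) i ^ 2 * fhKapE d q r i) * (4 * q)) =
      N * ((u * u + r) * s) ^ 2 * (4 * q) := by rw [← hform]; ring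
  rw [hF] at h6
  have h7 : 0 < r * (q + 1) ^ 2 := by
    have := H.qpos; have := H.rpos; positivity
  apply mul_left_cancel₀ (ne_of_gt h7)
  linear_combination h6 + (N * 4 * q * r ^ 2 * (q + 1) ^ 2) * hsc +
    (N * (4 * q * s ^ 2 * (u * u + q * r + 2 * r) + 4 * r * (q + 1) ^ 2 * c ^ 2)) * hu

end FhEven

end Even

section Even2

variable {Ω : Type*} [Fintype Ω] [DecidableEq Ω] [Nonempty Ω]

namespace FhEven

variable {F : FhData Ω} {d : ℕ} {q r : ℝ} (H : FhEven F d q r)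

include H

theorem q1pos : 0 < q + 1 := by have := H.hq; linarith

theorem x_lt {j : ℕ} : fhX q r d j < q * r + 1 := by
  unfold fhX
  have h1 := fhU_lt H.hq H.hr
  have h2 := fhU_pos H.hq H.hr
  have h3 := cos_le_one (fhPhi d j)
  nlinarith

theorem x_gt {j : ℕ} (hj : 1 ≤ j) (hjd : j < d) : -(q + r) < fhX q r d j := by
  unfold fhX
  have h1 := fhU_le H.hq H.hr
  have h2 := fhU_pos H.hq H.hr
  have hd : 0 < d := by omega
  have h3 : -1 < cos (fhPhi d j) := by
    have := Real.strictAntiOn_cos (fhPhi_mem hd hj hjd) ⟨le_of_lt pi_pos, le_rfl⟩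
      (fhPhi_lt hd hjd)
    rwa [cos_pi] at this
  nlinarith

theorem x_inj {j j' : ℕ} (hj : 1 ≤ j) (hjd : j < d) (hj' : 1 ≤ j') (hjd' : j' < d)
    (h : fhX q r d j = fhX q r d j') : j = j' := by
  unfold fhX at h
  have h2 := fhU_pos H.hq H.hr
  have hd : 0 < d := by omega
  have h3 : cos (fhPhi d j) = cos (fhPhi d j') := by
    have : (2 * fhU q r) ≠ 0 := by positivity
    exact mul_left_cancel₀ this h
  exact fhPhi_inj hd (Real.injOn_cos (fhPhi_mem hd hj hjd) (fhPhi_mem hd hj' hjd') h3)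

theorem lamC_eq : (q + 1) * (r * (q + 1)) = fhLam q r (q * r + 1) := by
  unfold fhLam; ring

theorem lamA_eq : -((q + 1) * (q + 1)) = fhLam q r (-(q + r)) := by
  unfold fhLam; ring

/-- every nonzero eigenvalue is in the list -/
theorem complete {lam : ℝ} (hlam : lam ≠ 0) (hpos : 0 < F.mult lam) :
    lam = fhLam q r (q * r + 1) ∨ lam = fhLam q r (-(q + r)) ∨
      ∃ j, 1 ≤ j ∧ j < d ∧ lam = fhLam q r (fhX q r d j) := by
  obtain ⟨ε, hε0, hε⟩ := F.exists_vec_of_mult_pos hlam hpos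
  by_contra hcon
  push Not at hcon
  obtain ⟨hC, hA, hJ⟩ := hcon
  have hd := H.hd
  have hq1 := H.q1pos
  set I := Finset.Ico 1 d with hI
  set L := I.image (fun j => fhLam q r (fhX q r d j)) with hL
  have hLcard : L.card = d - 1 := by
    rw [hL, Finset.card_image_of_injOn, hI, Nat.card_Ico]
    intro j hj j' hj' h
    simp only [hI, Finset.coe_Ico, Set.mem_Ico] at hj hj'
    exact H.x_inj hj.1 hj.2 hj'.1 hj'.2 (fhLam_inj hq1 h)
  have hA' : fhLam q r (-(q + r)) ∉ L := by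
    intro hmem
    rw [hL, Finset.mem_image] at hmem
    obtain ⟨j, hj, hjeq⟩ := hmem
    simp only [hI, Finset.mem_Ico] at hj
    have := fhLam_inj hq1 hjeq
    have := H.x_gt hj.1 hj.2
    linarith
  have hC' : fhLam q r (q * r + 1) ∉ insert (fhLam q r (-(q + r))) L := by
    intro hmem
    rw [Finset.mem_insert] at hmem
    rcases hmem with h | hmem
    · have := fhLam_inj hq1 h
      have := H.qpos; have := H.rpos
      nlinarith
    · rw [hL, Finset.mem_image] at hmem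
      obtain ⟨j, hj, hjeq⟩ := hmem
      have := fhLam_inj hq1 hjeq
      have := H.x_lt (j := j)
      linarith
  have hlam' : lam ∉ insert (fhLam q r (q * r + 1)) (insert (fhLam q r (-(q + r))) L) := by
    intro hmem
    rw [Finset.mem_insert, Finset.mem_insert] at hmem
    rcases hmem with h | h | hmem
    · exact hC h
    · exact hA h
    · rw [hL, Finset.mem_image] at hmem
      obtain ⟨j, hj, hjeq⟩ := hmem
      simp only [hI, Finset.mem_Ico] at hj
      exact hJ j hj.1 hj.2 hjeq.symm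
  set S := insert lam (insert (fhLam q r (q * r + 1)) (insert (fhLam q r (-(q + r))) L)) with hS
  have hScard : S.card = d + 2 := by
    rw [hS, Finset.card_insert_of_notMem hlam', Finset.card_insert_of_notMem hC',
      Finset.card_insert_of_notMem hA', hLcard]
    omega
  have hle := fh_card_eigen_le d (fhLo q r) (fhDiE d q r) (fhUpE d q) S (by
    intro μ hμ
    rw [hS, Finset.mem_insert, Finset.mem_insert, Finset.mem_insert] at hμ
    rcases hμ with rfl | rfl | rfl | hμ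
    · refine ⟨ε, ?_, ?_⟩
      · rw [← H.hFd]; exact hε0
      · rw [← H.hFL, ← H.hFd]; exact hε
    · refine ⟨fun _ => 1, ⟨0, Nat.zero_le _, one_ne_zero⟩, ?_⟩
      rw [← H.lamC_eq]
      exact fh_const_eigenE d (by omega)
    · refine ⟨fun i => (-1 / r) ^ i, ⟨0, Nat.zero_le _, by simp⟩, ?_⟩
      rw [← H.lamA_eq]
      exact fh_alt_eigenE (ne_of_gt H.rpos) d (by omega)
    · rw [hL, Finset.mem_image] at hμ
      obtain ⟨j, hj, rfl⟩ := hμ
      simp only [hI, Finset.mem_Ico] at hj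
      refine ⟨fhG r (fhU q r) (fhPhi d j), ⟨0, Nat.zero_le _, H.g0_ne hj.1 hj.2⟩, ?_⟩
      have := H.rows j
      rw [H.hFL, H.hFd] at this
      exact this)
  omega

end FhEven

end Even2

section Even3

variable {Ω : Type*} [Fintype Ω] [DecidableEq Ω] [Nonempty Ω]

namespace FhEven

variable {F : FhData Ω} {d : ℕ} {q r : ℝ} (H : FhEven F d q r)

include H

theorem xC_rat : ¬ Irrational (fhLam q r (q * r + 1)) := by
  rw [fh_irr_iff H.hqN H.hrN]
  obtain ⟨a, ha⟩ := H.hqN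
  obtain ⟨b, hb⟩ := H.hrN
  intro h
  exact h ⟨a * b + 1, by rw [ha, hb]; push_cast; ring⟩

theorem xA_rat : ¬ Irrational (fhLam q r (-(q + r))) := by
  rw [fh_irr_iff H.hqN H.hrN]
  obtain ⟨a, ha⟩ := H.hqN
  obtain ⟨b, hb⟩ := H.hrN
  intro h
  exact h ⟨-(a + b), by rw [ha, hb]; push_cast; ring⟩

theorem x_sq_lt {j : ℕ} (hj : 1 ≤ j) (hjd : j < d) : fhX q r d j ^ 2 < 4 * q * r := by
  unfold fhX
  have hu := fhU_sq H.hq H.hr
  have hs := fhPhi_sin_pos (d := d) (by omega) hj hjd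
  have hsc := sin_sq_add_cos_sq (fhPhi d j)
  have hqr : 0 < q * r := mul_pos H.qpos H.rpos
  have h1 : (2 * fhU q r * cos (fhPhi d j)) ^ 2 = 4 * (q * r) * cos (fhPhi d j) ^ 2 := by
    rw [mul_pow, mul_pow, pow_two (fhU q r), hu]; ring
  rw [h1]
  have h2 : cos (fhPhi d j) ^ 2 < 1 := by
    have : 0 < sin (fhPhi d j) ^ 2 := by positivity
    linarith
  nlinarith

/-- the Galois conjugate of an irrational eigenvalue -/
theorem conj (Aq : Matrix Ω Ω ℚ) (hAq : F.A = Aq.map (algebraMap ℚ ℝ)) {j : ℕ} (hj : 1 ≤ j)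
    (hjd : j < d) (hx : 0 < fhX q r d j) (hirr : Irrational (fhLam q r (fhX q r d j))) :
    ∃ j', 1 ≤ j' ∧ j' < d ∧ Irrational (fhLam q r (fhX q r d j')) ∧
      fhX q r d j + fhX q r d j' < 0 := by
  have hlam0 : fhLam q r (fhX q r d j) ≠ 0 := hirr.ne_zero
  obtain ⟨hpos, hform⟩ := H.formula hj hjd hlam0
  obtain ⟨lam', hne, hirr', hmult⟩ := F.exists_conj Aq hAq hirr hpos
  have hlam0' : lam' ≠ 0 := hirr'.ne_zero
  have hpos' : 0 < F.mult lam' := by rw [hmult]; exact hpos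
  rcases H.complete hlam0' hpos' with h | h | ⟨j', hj', hjd', h⟩
  · exfalso; rw [h] at hirr'; exact H.xC_rat hirr'
  · exfalso; rw [h] at hirr'; exact H.xA_rat hirr'
  · subst h
    refine ⟨j', hj', hjd', hirr', ?_⟩
    obtain ⟨_, hform'⟩ := H.formula hj' hjd' hlam0'
    rw [hmult] at hform'
    have hQ := H.x_sq_lt hj hjd
    have hxne : fhX q r d j ≠ fhX q r d j' := by
      intro h; apply hne; rw [h]
    have hq := H.hq
    have hr := H.hr
    have hd := H.hd
    set x := fhX q r d j with hx'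
    set x' := fhX q r d j' with hx''
    set n : ℝ := (F.mult (fhLam q r x) : ℝ) with hn
    set N : ℝ := (Fintype.card Ω : ℝ) with hN
    have hnpos : 0 < n := by rw [hn]; exact_mod_cast hpos
    have hdpos : (0 : ℝ) < d := by exact_mod_cast (show 0 < d by omega)
    set K : ℝ := n * (2 * d) with hK
    have hKpos : 0 < K := by rw [hK]; positivity
    -- N > K
    have hPQ : 4 * q * r - x ^ 2 < (q + r + x) * (q * r + 1 - x) := by
      have h1 : 0 < (q - 1) * (r - 1) * x := by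
        have : 0 < q - 1 := by linarith
        have : 0 < r - 1 := by linarith
        positivity
      have h2 : 4 * q * r < (q + r) * (q * r + 1) := by nlinarith [mul_pos H.qpos H.rpos]
      nlinarith
    have hNK : K < N := by
      have hQpos : 0 < 4 * q * r - x ^ 2 := by linarith
      have h1 : K * (4 * q * r - x ^ 2) < N * (4 * q * r - x ^ 2) := by
        calc K * (4 * q * r - x ^ 2) < K * ((q + r + x) * (q * r + 1 - x)) :=
              mul_lt_mul_of_pos_left hPQ hKpos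
          _ = N * (4 * q * r - x ^ 2) := hform
      exact lt_of_mul_lt_mul_right h1 (le_of_lt hQpos)
    have h1 : (x - x') * (K * (q - 1) * (r - 1) + (N - K) * (x + x')) = 0 := by
      linear_combination hform - hform'
    have h2 : K * (q - 1) * (r - 1) + (N - K) * (x + x') = 0 := by
      rcases mul_eq_zero.1 h1 with h | h
      · exact absurd (sub_eq_zero.1 h) hxne
      · exact h
    by_contra hcon
    push Not at hcon
    have h3 : 0 ≤ (N - K) * (x + x') := mul_nonneg (by linarith) hcon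
    have h4 : 0 < K * (q - 1) * (r - 1) := by
      have : 0 < q - 1 := by linarith
      have : 0 < r - 1 := by linarith
      positivity
    linarith

end FhEven

end Even3

end Cfsg.Agent.Lib.Helper9
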