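import Mathlib
import Cfsg.Agent.Lib.Helper9.FH5
import Cfsg.Agent.Lib.Helper9.FH5b
import Cfsg.Agent.Lib.Helper9.FH6
import Cfsg.Agent.Lib.Helper9.FH9b

set_option autoImplicit false

namespace Cfsg.Agent.Lib.Helper9

open Real Finset

theorem fh_sqrt_three_irr : Irrational (√3 : ℝ) := by
  have := Nat.Prime.irrational_sqrt Nat.prime_three
  simpa using this

section Even4

variable {Ω : Type*} [Fintype Ω] [DecidableEq Ω] [Nonempty Ω]

namespace FhEven

variable {F : FhData Ω} {d : ℕ} {q r : ℝ} (H : FhEven F d q r)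

include H

/-- all parameters are at least `-x_1`. -/
theorem x_ge_neg {j : ℕ} (hj : 1 ≤ j) (hjd : j < d) : - fhX q r d 1 ≤ fhX q r d j := by
  unfold fhX
  have hu := fhU_pos H.hq H.hr
  have hd : 0 < d := by omega
  have hdR : (0 : ℝ) < d := by exact_mod_cast hd
  have h1 : fhPhi d j ≤ π - fhPhi d 1 := by
    unfold fhPhi
    have : (j : ℝ) + 1 ≤ d := by exact_mod_cast hjd
    rw [div_le_iff₀ hdR, sub_mul, div_mul_cancel₀ _ (ne_of_gt hdR)]
    push_cast
    nlinarith [pi_pos]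
  have h2 : cos (π - fhPhi d 1) ≤ cos (fhPhi d j) :=
    cos_le_cos_of_nonneg_of_le_pi (le_of_lt (fhPhi_pos hd hj))
      (by have := fhPhi_pos (d := d) (j := 1) hd le_rfl; linarith) h1
  rw [cos_pi_sub] at h2
  nlinarith

theorem x_one_pos : 0 < fhX q r d 1 := by
  unfold fhX
  have hu := fhU_pos H.hq H.hr
  have hd := H.hd
  have hdR : (3 : ℝ) ≤ d := by exact_mod_cast hd
  have h1 : fhPhi d 1 < π / 2 := by
    unfold fhPhi
    rw [div_lt_div_iff₀ (by linarith) two_pos]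
    push_cast
    nlinarith [pi_pos]
  have h2 : 0 < cos (fhPhi d 1) :=
    cos_pos_of_mem_Ioo ⟨by have := fhPhi_pos (d := d) (j := 1) (by omega) le_rfl; linarith, h1⟩
  positivity

/-- the first parameter is rational -/
theorem x_one_rat (Aq : Matrix Ω Ω ℚ) (hAq : F.A = Aq.map (algebraMap ℚ ℝ)) :
    ∃ c : ℚ, fhX q r d 1 = c := by
  have hd := H.hd
  by_contra hcon
  have hirr : Irrational (fhX q r d 1) := by
    intro ⟨c, hc⟩
    exact hcon ⟨c, hc.symm⟩
  rw [← fh_irr_iff H.hqN H.hrN] at hirr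
  obtain ⟨j', hj', hjd', _, hlt⟩ := H.conj Aq hAq le_rfl (by omega) H.x_one_pos hirr
  have := H.x_ge_neg hj' hjd'
  linarith

theorem cos_rat (Aq : Matrix Ω Ω ℚ) (hAq : F.A = Aq.map (algebraMap ℚ ℝ)) :
    ∃ c : ℚ, cos (((2 / d : ℚ) : ℝ) * π) = c := by
  obtain ⟨c1, hc1⟩ := H.x_one_rat Aq hAq
  obtain ⟨a, ha⟩ := H.hqN
  obtain ⟨b, hb⟩ := H.hrN
  have hd := H.hd
  have hdR : (d : ℝ) ≠ 0 := by
    have : (0 : ℝ) < d := by exact_mod_cast (show 0 < d by omega)
    exact ne_of_gt this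
  have hu := fhU_sq H.hq H.hr
  have hqr : q * r ≠ 0 := ne_of_gt (mul_pos H.qpos H.rpos)
  refine ⟨c1 ^ 2 / (2 * (a * b)) - 1, ?_⟩
  have e1 : ((2 / d : ℚ) : ℝ) * π = 2 * fhPhi d 1 := by
    unfold fhPhi; push_cast; field_simp
  rw [e1, cos_two_mul]
  have e2 : fhX q r d 1 ^ 2 = 4 * (q * r) * cos (fhPhi d 1) ^ 2 := by
    unfold fhX
    rw [mul_pow, mul_pow, pow_two (fhU q r), hu]; ring
  have e3 : cos (fhPhi d 1) ^ 2 = fhX q r d 1 ^ 2 / (4 * (q * r)) := by
    rw [e2, mul_comm, mul_div_assoc, div_self (mul_ne_zero four_ne_zero hqr), mul_one]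
  rw [e3, hc1]
  push_cast
  rw [← ha, ← hb]
  field_simp
  ring

theorem d_cases (Aq : Matrix Ω Ω ℚ) (hAq : F.A = Aq.map (algebraMap ℚ ℝ)) :
    d = 3 ∨ d = 4 ∨ d = 6 := by
  have hd := H.hd
  have hdQ : (3 : ℚ) ≤ d := by exact_mod_cast hd
  have hbnd : (2 / d : ℚ) ∈ Set.Icc (0 : ℚ) 1 := by
    constructor
    · positivity
    · rw [div_le_one (by linarith)]; linarith
  have hniv := niven_angle_div_pi_eq (H.cos_rat Aq hAq) hbnd
  simp only [Set.mem_insert_iff, Set.mem_singleton_iff] at hniv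
  have hpos' : (0 : ℚ) < d := by linarith
  rcases hniv with h | h | h | h | h
  · rw [div_eq_iff (ne_of_gt hpos')] at h; linarith
  · rw [div_eq_iff (ne_of_gt hpos')] at h
    have : (d : ℚ) = 6 := by linarith
    right; right; exact_mod_cast this
  · rw [div_eq_iff (ne_of_gt hpos')] at h
    have : (d : ℚ) = 4 := by linarith
    right; left; exact_mod_cast this
  · rw [div_eq_iff (ne_of_gt hpos')] at h
    have : (d : ℚ) = 3 := by linarith
    left; exact_mod_cast this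
  · rw [div_eq_iff (ne_of_gt hpos')] at h
    linarith

end FhEven

end Even4

section Even5

variable {Ω : Type*} [Fintype Ω] [DecidableEq Ω] [Nonempty Ω]

namespace FhEven

variable {F : FhData Ω} {d : ℕ} {q r : ℝ} (H : FhEven F d q r)

include H

theorem d_ne_six (Aq : Matrix Ω Ω ℚ) (hAq : F.A = Aq.map (algebraMap ℚ ℝ)) : d ≠ 6 := by
  intro h6
  subst h6
  obtain ⟨c1, hc1⟩ := H.x_one_rat Aq hAq
  have hu := fhU_pos H.hq H.hr
  have e1 : fhX q r 6 1 = √3 * fhU q r := by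
    unfold fhX fhPhi
    have : π * ((1 : ℕ) : ℝ) / ((6 : ℕ) : ℝ) = π / 6 := by push_cast; ring
    rw [this, cos_pi_div_six]; ring
  have e2 : fhX q r 6 2 = fhU q r := by
    unfold fhX fhPhi
    have : π * ((2 : ℕ) : ℝ) / ((6 : ℕ) : ℝ) = π / 3 := by push_cast; ring
    rw [this, cos_pi_div_three]; ring
  have e5 : fhX q r 6 5 = - fhX q r 6 1 := by
    unfold fhX fhPhi
    have : π * ((5 : ℕ) : ℝ) / ((6 : ℕ) : ℝ) = π - π * ((1 : ℕ) : ℝ) / ((6 : ℕ) : ℝ) := by
      push_cast; ring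
    rw [this, cos_pi_sub]; ring
  have huirr : Irrational (fhU q r) := by
    intro ⟨c, hc⟩
    apply fh_sqrt_three_irr
    refine ⟨c1 / c, ?_⟩
    have hc0 : (c : ℝ) ≠ 0 := by rw [hc]; exact ne_of_gt hu
    push_cast
    rw [div_eq_iff hc0, hc, ← e1, hc1]
  have hirr2 : Irrational (fhLam q r (fhX q r 6 2)) := by
    rw [fh_irr_iff H.hqN H.hrN, e2]; exact huirr
  obtain ⟨j', hj', hjd', hirr', hlt⟩ :=
    H.conj Aq hAq (by norm_num) (by norm_num) (by rw [e2]; exact hu) hirr2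
  rw [fh_irr_iff H.hqN H.hrN] at hirr'
  have hj5 : j' = 5 := by
    by_contra hne
    have hj4 : j' ≤ 4 := by omega
    have hj4R : (j' : ℝ) ≤ 4 := by exact_mod_cast hj4
    have h1 : fhPhi 6 j' ≤ π - π / 3 := by
      unfold fhPhi
      push_cast
      nlinarith [pi_pos]
    have h2 : cos (π - π / 3) ≤ cos (fhPhi 6 j') :=
      cos_le_cos_of_nonneg_of_le_pi (le_of_lt (fhPhi_pos (by norm_num) hj'))
        (by nlinarith [pi_pos]) h1
    rw [cos_pi_sub, cos_pi_div_three] at h2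
    rw [e2] at hlt
    unfold fhX at hlt
    nlinarith
  subst hj5
  rw [e5, hc1] at hirr'
  exact hirr' ⟨-c1, by push_cast; ring⟩

/-- the even case: `m = 2d ≥ 6` forces `d ∈ {3, 4}` -/
theorem main (Aq : Matrix Ω Ω ℚ) (hAq : F.A = Aq.map (algebraMap ℚ ℝ)) : d = 3 ∨ d = 4 := by
  rcases H.d_cases Aq hAq with h | h | h
  · left; exact h
  · right; exact h
  · exact absurd h (H.d_ne_six Aq hAq)

end FhEven

end Even5

end Cfsg.Agent.Lib.Helper9
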