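import Mathlib
import Cfsg.Prelude.Def_LieExceptional
import Cfsg.Agent.Lib.Helper9.FH4a
import Cfsg.Agent.Lib.Helper9.FH4b
import Cfsg.Agent.Lib.Helper9.FH4c
import Cfsg.Agent.Lib.Helper9.FH9a
import Cfsg.Agent.Lib.Helper9.FH9b
import Cfsg.Agent.Lib.Helper9.FH9c

set_option autoImplicit false

namespace Cfsg.Agent.Lib.Helper9

open Cfsg.Agent.Lib.helper3

variable {G : Type*} [Group G]

/-- Feit–Higman for the Weyl group of a rank two BN-pair -/
theorem fh_weyl_card (P : Cfsg.BNPair G) [Finite G] (h2 : P.rank = 2) :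
    ∃ m ∈ ({2, 3, 4, 6, 8} : Set ℕ), Nat.card (Weyl P) = 2 * m := by
  obtain ⟨C⟩ := fh_exists_ctx P h2
  refine ⟨C.m, ?_, C.card_weyl⟩
  have hm2 := C.m_ge_two
  by_cases h4 : C.m ≤ 4
  · obtain ⟨m, hm⟩ : ∃ m, C.m = m := ⟨_, rfl⟩
    rw [hm] at hm2 h4 ⊢
    interval_cases m <;> simp
  · push Not at h4
    rcases Nat.even_or_odd C.m with he | ho
    · obtain ⟨t, ht⟩ := he
      obtain ⟨e, he1, hme⟩ : ∃ e, 1 ≤ e ∧ C.m = 2 * e + 4 := ⟨t - 2, by omega, by omega⟩
      have H : FhEven (C.dataEven e he1 hme) (e + 2) C.q C.r :=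
        ⟨by omega, C.q_ge, C.r_ge, C.q_nat, C.r_nat, rfl, rfl, fun i _ => rfl⟩
      have hmain := H.main C.AAq (C.AA_map (by omega))
      rcases hmain with h | h
      · have : C.m = 6 := by omega
        rw [this]; simp
      · have : C.m = 8 := by omega
        rw [this]; simp
    · obtain ⟨d, hd⟩ := ho
      exfalso
      have hqr : C.q = C.r := C.q_eq_r_of_odd (by rw [Nat.not_even_iff_odd]; exact ⟨d, hd⟩)
      refine fh_odd_false (C.dataOdd d (by omega) hd) d (by omega) C.q C.q_ge C.q_nat rfl ?_ ?_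
      · show fhLop d (fhLo C.q C.r) (fhDiO d C.q C.r) (fhUpO d C.q) = _
        rw [← hqr]
      · intro i _
        show fhKap C.q C.r i = _
        rw [← hqr]

end Cfsg.Agent.Lib.Helper9
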