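import Mathlib
import Cfsg.Prelude.Def_Solvable
import Cfsg.Agent.Lib.Helper1.FrobeniusThm

set_option autoImplicit false

namespace Cfsg.Agent.Lib.Helper9

open scoped Pointwise

/-- the norm over a subgroup is fixed by the subgroup -/
theorem norm_fixed {F M : Type*} [Group F] [Fintype F] [CommGroup M] (φ : F →* MulAut M)
    (X : Subgroup F) [Fintype X] (w : M) (y : F) (hy : y ∈ X) :
    φ y (∏ x : X, φ (x : F) w) = ∏ x : X, φ (x : F) w := by
  rw [map_prod]
  refine Fintype.prod_equiv (Equiv.mulLeft (⟨y, hy⟩ : X)) _ _ ?_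
  intro x
  simp [map_mul]

/-- A Frobenius group `F = K ⋊ H` acting on a commutative group with no nontrivial fixed
points of `K` nor of `H`: every element is killed by `|K|`. -/
theorem frob_act_pow {F M : Type*} [Group F] [Finite F] [CommGroup M] (φ : F →* MulAut M)
    (K H : Subgroup F) (hH : Cfsg.IsFrobeniusComplement H)
    (hK : (K : Set F) = Cfsg.frobeniusKernel H) (hKH : Subgroup.IsComplement' K H)
    (hfK : ∀ m : M, (∀ k ∈ K, φ k m = m) → m = 1)
    (hfH : ∀ m : M, (∀ h ∈ H, φ h m = m) → m = 1) (m : M) :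
    m ^ Nat.card K = 1 := by
  classical
  have : Fintype F := Fintype.ofFinite F
  have hNK : ∀ w : M, ∏ x : K, φ (x : F) w = 1 := fun w =>
    hfK _ (fun k hk => norm_fixed φ K w k hk)
  have hNH : ∀ w : M, ∏ x : H, φ (x : F) w = 1 := fun w =>
    hfH _ (fun k hk => norm_fixed φ H w k hk)
  have hdisj : ∀ x : F, x ∈ K → x ∈ H → x = 1 := by
    intro x hxK hxH
    have := hKH.disjoint
    rw [Subgroup.disjoint_def] at this
    exact this hxK hxH
  -- the full norm
  have hF : ∏ f : F, φ f m = 1 := by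
    have h1 : ∏ f : F, φ f m = ∏ x : K × H, φ ((x.1 : F) * (x.2 : F)) m := by
      symm
      exact Fintype.prod_equiv (Equiv.ofBijective _ hKH) _ _ (fun x => rfl)
    rw [h1, Fintype.prod_prod_type, Finset.prod_comm]
    apply Finset.prod_eq_one
    intro h _
    have := hNK (φ (h : F) m)
    simpa [map_mul] using this
  -- split F into K and its complement
  have hsplit : (∏ f ∈ Finset.univ.filter (fun f : F => f ∈ K), φ f m) *
      (∏ f ∈ Finset.univ.filter (fun f : F => ¬ f ∈ K), φ f m) = 1 := by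
    rw [Finset.prod_filter_mul_prod_filter_not]
    exact hF
  have hKpart : ∏ f ∈ Finset.univ.filter (fun f : F => f ∈ K), φ f m = 1 := by
    rw [← hNK m]
    symm
    rw [← Finset.prod_subtype (Finset.univ.filter (fun f : F => f ∈ K)) (p := fun f => f ∈ K)
      (by simp) (fun f => φ f m)]
  have hcompl : ∏ f ∈ Finset.univ.filter (fun f : F => ¬ f ∈ K), φ f m = 1 := by
    rw [hKpart, one_mul] at hsplit
    exact hsplit
  -- the conjugate norms
  have hconj : ∏ x : K × H, φ ((x.1 : F) * (x.2 : F) * (x.1 : F)⁻¹) m = 1 := by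
    rw [Fintype.prod_prod_type]
    apply Finset.prod_eq_one
    intro k _
    have := hNH (φ ((k : F)⁻¹) m)
    have h2 : ∏ h : H, φ ((k : F) * (h : F) * (k : F)⁻¹) m =
        φ (k : F) (∏ h : H, φ (h : F) (φ ((k : F)⁻¹) m)) := by
      rw [map_prod]
      apply Finset.prod_congr rfl
      intro h _
      simp [map_mul]
    rw [h2, this, map_one]
  have hsplit2 : (∏ x ∈ Finset.univ.filter (fun x : K × H => x.2 = 1),
        φ ((x.1 : F) * (x.2 : F) * (x.1 : F)⁻¹) m) *
      (∏ x ∈ Finset.univ.filter (fun x : K × H => ¬ x.2 = 1),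
        φ ((x.1 : F) * (x.2 : F) * (x.1 : F)⁻¹) m) = 1 := by
    rw [Finset.prod_filter_mul_prod_filter_not]
    exact hconj
  have hpart1 : ∏ x ∈ Finset.univ.filter (fun x : K × H => x.2 = 1),
        φ ((x.1 : F) * (x.2 : F) * (x.1 : F)⁻¹) m = m ^ Nat.card K := by
    have h1 : ∀ x ∈ Finset.univ.filter (fun x : K × H => x.2 = 1),
        φ ((x.1 : F) * (x.2 : F) * (x.1 : F)⁻¹) m = m := by
      intro x hx
      rw [Finset.mem_filter] at hx
      rw [hx.2]
      simp
    rw [Finset.prod_congr rfl h1, Finset.prod_const]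
    congr 1
    rw [Nat.card_eq_fintype_card, ← Finset.card_univ]
    symm
    apply Finset.card_bij (fun (k : K) _ => ((k, 1) : K × H))
    · intro k _
      simp
    · intro a _ b _ hab
      exact (Prod.mk.inj hab).1
    · intro x hx
      rw [Finset.mem_filter] at hx
      refine ⟨x.1, Finset.mem_univ _, ?_⟩
      ext1
      · rfl
      · exact hx.2.symm
  have hpart2 : ∏ x ∈ Finset.univ.filter (fun x : K × H => ¬ x.2 = 1),
        φ ((x.1 : F) * (x.2 : F) * (x.1 : F)⁻¹) m =
      ∏ f ∈ Finset.univ.filter (fun f : F => ¬ f ∈ K), φ f m := by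
    apply Finset.prod_bij (fun (x : K × H) _ => (x.1 : F) * (x.2 : F) * (x.1 : F)⁻¹)
    · intro x hx
      rw [Finset.mem_filter] at hx ⊢
      refine ⟨Finset.mem_univ _, ?_⟩
      intro hmem
      have hmem' : (x.1 : F) * (x.2 : F) * (x.1 : F)⁻¹ ∈ (K : Set F) := hmem
      rw [hK] at hmem'
      rcases hmem' with h1 | h1
      · apply hx.2
        have : (x.2 : F) = 1 := by
          have e : (x.2 : F) = (x.1 : F)⁻¹ * ((x.1 : F) * (x.2 : F) * (x.1 : F)⁻¹) * (x.1 : F) := by
            group
          rw [e, h1]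
          group
        exact Subtype.ext this
      · apply h1 (x.1 : F)
        rw [Subgroup.mem_pointwise_smul_iff_inv_smul_mem]
        simp only [MulAut.smul_def, MulAut.inv_apply, MulAut.conj_symm_apply]
        have e : (x.1 : F)⁻¹ * ((x.1 : F) * (x.2 : F) * (x.1 : F)⁻¹) * (x.1 : F) = (x.2 : F) := by
          group
        rw [e]
        exact x.2.2
    · intro a ha b hb hab
      rw [Finset.mem_filter] at ha hb
      have ha1 : (a.2 : F) ≠ 1 := fun h => ha.2 (Subtype.ext h)
      set y : F := (b.1 : F)⁻¹ * (a.1 : F) with hy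
      have hyc : y * (a.2 : F) * y⁻¹ = (b.2 : F) := by
        have : y * (a.2 : F) * y⁻¹ =
            (b.1 : F)⁻¹ * ((a.1 : F) * (a.2 : F) * (a.1 : F)⁻¹) * (b.1 : F) := by
          rw [hy]; group
        rw [this, hab]
        group
      have hyH : y⁻¹ ∈ H := by
        rw [← Cfsg.Agent.Lib.Helper1.frob_conj_mem_iff H hH a.2.2 ha1 y⁻¹]
        rw [inv_inv, hyc]
        exact b.2.2
      have hyK : y⁻¹ ∈ K := K.inv_mem (K.mul_mem (K.inv_mem b.1.2) a.1.2)
      have hy1 : y⁻¹ = 1 := hdisj _ hyK hyH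
      have hy1' : y = 1 := by rwa [inv_eq_one] at hy1
      have hab1 : (a.1 : F) = (b.1 : F) := by
        have : (b.1 : F) * y = (a.1 : F) := by rw [hy]; group
        rw [← this, hy1', mul_one]
      have hab2 : (a.2 : F) = (b.2 : F) := by
        rw [← hyc, hy1']
        group
      exact Prod.ext (Subtype.ext hab1) (Subtype.ext hab2)
    · intro f hf
      rw [Finset.mem_filter] at hf
      have hfK' : f ∉ (K : Set F) := hf.2
      rw [hK] at hfK'
      have hf1 : f ≠ 1 := fun h => hfK' (Or.inl h)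
      have : ∃ g : F, f ∈ MulAut.conj g • H := by
        by_contra hcon
        push Not at hcon
        exact hfK' (Or.inr hcon)
      obtain ⟨g, hg⟩ := this
      rw [Subgroup.mem_pointwise_smul_iff_inv_smul_mem] at hg
      simp only [MulAut.smul_def, MulAut.inv_apply, MulAut.conj_symm_apply] at hg
      obtain ⟨⟨k, h0⟩, hkh⟩ := hKH.2 g
      simp only at hkh
      set h1 : F := (h0 : F) * (g⁻¹ * f * g) * (h0 : F)⁻¹ with hh1
      have hh1H : h1 ∈ H := H.mul_mem (H.mul_mem h0.2 hg) (H.inv_mem h0.2)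
      have hfe : f = (k : F) * h1 * (k : F)⁻¹ := by
        rw [hh1, ← hkh]
        group
      refine ⟨(k, ⟨h1, hh1H⟩), ?_, hfe.symm⟩
      rw [Finset.mem_filter]
      refine ⟨Finset.mem_univ _, ?_⟩
      intro h
      apply hf1
      have : h1 = 1 := congrArg Subtype.val h
      rw [hfe, this]
      group
    · intro x _
      rfl
  rw [hpart1, hpart2, hcompl, mul_one] at hsplit2
  exact hsplit2

end Cfsg.Agent.Lib.Helper9
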