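import Mathlib
import Cfsg.Agent.Lib.Helper9.F3G

set_option autoImplicit false

/-! A 2-group with commuting automorphisms `ρ` (order 3, fixed-point-free) and `t` (order 2)
whose fixed points form a group of order 4: basic facts. -/

namespace Cfsg.Agent.Lib.Helper9

/-- fixed points of an automorphism -/
def g3Fix {T : Type*} [Group T] (t : MulAut T) : Subgroup T where
  carrier := {g | t g = g}
  one_mem' := map_one t
  mul_mem' := by
    intro a b ha hb
    show t (a * b) = a * b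
    rw [map_mul, show t a = a from ha, show t b = b from hb]
  inv_mem' := by
    intro a ha
    show t a⁻¹ = a⁻¹
    rw [map_inv, show t a = a from ha]

theorem g3_mem_fix {T : Type*} [Group T] (t : MulAut T) (g : T) : g ∈ g3Fix t ↔ t g = g := Iff.rfl

/-- the hypotheses -/
structure G3Hyp (T : Type*) [Group T] (ρ t : MulAut T) : Prop where
  f : F3Hyp T ρ
  pg : IsPGroup 2 T
  inv2 : ∀ g : T, t (t g) = g
  comm : ∀ g : T, t (ρ g) = ρ (t g)

section basic
variable {T : Type*} [Group T] [Finite T] {ρ t : MulAut T}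

theorem g3_card_nonid (S : Subgroup T) :
    Nat.card S = Nat.card ({g | g ∈ S ∧ g ≠ 1} : Set T) + 1 := by
  classical
  let X : Set T := {g | g ∈ S ∧ g ≠ 1}
  have e : ↥S ≃ Option X :=
    { toFun := fun y => if hy : y.1 = 1 then none else some ⟨y.1, y.2, hy⟩
      invFun := fun o => match o with
        | none => 1
        | some x => ⟨x.1, x.2.1⟩
      left_inv := by
        intro y
        by_cases hy : y.1 = 1
        · simp only [hy, dite_true]
          exact Subtype.ext hy.symm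
        · simp only [hy, dite_false]
      right_inv := by
        intro o
        cases o with
        | none => simp
        | some x =>
          have : x.1 ≠ 1 := x.2.2
          simp [this] }
  haveI : Fintype X := Fintype.ofFinite X
  show Nat.card S = Nat.card X + 1
  rw [Nat.card_congr e, Nat.card_eq_fintype_card, Fintype.card_option,
    ← Nat.card_eq_fintype_card]

/-- an involutory automorphism has a fixed point on every invariant set of odd size -/
theorem g3_exists_fixed_set (β : MulAut T) (hβ : ∀ g, β (β g) = g)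
    (X : Set T) (hX : ∀ g, β g ∈ X ↔ g ∈ X) (hc : ¬ 2 ∣ Nat.card X) : ∃ g ∈ X, β g = g := by
  classical
  haveI : Fact (Nat.Prime 2) := ⟨Nat.prime_two⟩
  haveI : Fintype X := Fintype.ofFinite X
  let f : Equiv.Perm T := MulAut.toPerm T β
  have hf : f ^ (2 ^ 1) = 1 := by
    ext g
    show (f ^ (2 ^ 1)) g = g
    rw [pow_one, pow_two]
    exact hβ g
  have hX' : ∀ x : T, (fun g => g ∈ X) (f x) ↔ (fun g => g ∈ X) x := hX
  let σ : Equiv.Perm X := f.subtypePerm hX'
  have hσ : σ ^ (2 ^ 1) = 1 := by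
    show (f.subtypePerm hX') ^ (2 ^ 1) = 1
    rw [Equiv.Perm.subtypePerm_pow f (2 ^ 1) hX']
    ext x
    simp only [Equiv.Perm.subtypePerm_apply, hf, Equiv.Perm.coe_one, id_eq]
  have hc' : ¬ 2 ∣ Fintype.card X := by rwa [← Nat.card_eq_fintype_card]
  obtain ⟨a, ha⟩ := Equiv.Perm.exists_fixed_point_of_prime (p := 2) (n := 1) hc' hσ
  exact ⟨a.1, a.2, congrArg Subtype.val ha⟩

/-- an involutory automorphism of a 2-group has a nontrivial fixed point on every
nontrivial invariant subgroup -/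
theorem g3_exists_fixed (h : G3Hyp T ρ t) (S : Subgroup T) (hS : r2Inv t S) (hne : S ≠ ⊥) :
    ∃ x ∈ S, x ≠ 1 ∧ t x = x := by
  haveI : Fact (Nat.Prime 2) := ⟨Nat.prime_two⟩
  let X : Set T := {g | g ∈ S ∧ g ≠ 1}
  have hX : ∀ g, t g ∈ X ↔ g ∈ X := by
    intro g
    show (t g ∈ S ∧ t g ≠ 1) ↔ (g ∈ S ∧ g ≠ 1)
    rw [r2Inv_iff hS]
    constructor
    · rintro ⟨h1, h2⟩
      refine ⟨h1, fun h0 => h2 (by rw [h0, map_one])⟩
    · rintro ⟨h1, h2⟩
      refine ⟨h1, fun h0 => h2 ?_⟩
      apply t.injective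
      rw [h0, map_one]
  have hcard := g3_card_nonid S
  obtain ⟨k, hk⟩ := IsPGroup.iff_card.mp (h.pg.to_subgroup S)
  have hk0 : k ≠ 0 := by
    rintro rfl
    rw [pow_zero] at hk
    exact hne ((Subgroup.card_eq_one).mp hk)
  have hodd : ¬ 2 ∣ Nat.card X := by
    intro hd
    have h2 : 2 ∣ Nat.card S := by rw [hk]; exact dvd_pow_self 2 hk0
    rw [hcard] at h2
    have hd' : 2 ∣ Nat.card ({g | g ∈ S ∧ g ≠ 1} : Set T) := hd
    omega
  obtain ⟨g, hg, hfix⟩ := g3_exists_fixed_set t h.inv2 X hX hodd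
  exact ⟨g, hg.1, hg.2, hfix⟩

theorem g3Fix_inv (h : G3Hyp T ρ t) : r2Inv ρ (g3Fix t) := by
  intro g hg
  show t (ρ g) = ρ g
  rw [h.comm, show t g = g from hg]

theorem g3Fix_tinv : r2Inv t (g3Fix t) := by
  intro g hg
  show t (t g) = t g
  have e : t g = g := hg
  rw [e, e]

theorem g3_center_tinv : r2Inv t (Subgroup.center T) := r2Inv_center

/-- powers of two that are `≡ 1 mod 3` and at most 4 -/
theorem g3_small_card (n : ℕ) (hd : n ∣ 4) (hm : n % 3 = 1) : n = 1 ∨ n = 4 := by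
  have : n ≤ 4 := Nat.le_of_dvd (by norm_num) hd
  interval_cases n <;> omega

/-- a nontrivial `ρ`-invariant subgroup of a `ρ`-invariant group of order 4 is everything -/
theorem g3_irred (h : F3Hyp T ρ) (V S : Subgroup T) (hV : r2Inv ρ V) (hS : r2Inv ρ S)
    (hV4 : Nat.card V = 4) (hne : V ⊓ S ≠ ⊥) : V ≤ S := by
  have hinv : r2Inv ρ (V ⊓ S) := r2Inv_inf hV hS
  have hm := f3_card_mod3 h _ hinv
  have hd : Nat.card ↥(V ⊓ S) ∣ 4 := by
    rw [← hV4]; exact Subgroup.card_dvd_of_le inf_le_left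
  rcases g3_small_card _ hd hm with h1 | h1
  · exact absurd ((Subgroup.card_eq_one).mp h1) hne
  · have : V ⊓ S = V := by
      apply Subgroup.eq_of_le_of_card_ge inf_le_left
      rw [h1, hV4]
    rw [← this]; exact inf_le_right

end basic

section fix
variable {T : Type*} [Group T] [Finite T] {ρ t : MulAut T}

theorem g3_fix_ne_bot (h : G3Hyp T ρ t) [Nontrivial T] : g3Fix t ≠ ⊥ := by
  obtain ⟨x, -, hx1, hxf⟩ := g3_exists_fixed h ⊤ r2Inv_top top_ne_bot
  intro hb
  apply hx1
  have : x ∈ g3Fix t := hxf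
  rw [hb] at this
  exact Subgroup.mem_bot.mp this

theorem g3_pow2_le4 (n k : ℕ) (hk : n = 2 ^ k) (h4 : n ≤ 4) : n ∣ 4 := by
  have hk2 : k ≤ 2 := by
    by_contra hcon
    have : 2 ^ 3 ≤ 2 ^ k := Nat.pow_le_pow_right (by norm_num) (by omega)
    omega
  rw [hk]
  exact pow_dvd_pow 2 hk2

theorem g3_fix_card (h : G3Hyp T ρ t) (h4 : Nat.card (g3Fix t) ≤ 4) [Nontrivial T] :
    Nat.card (g3Fix t) = 4 := by
  have hm := f3_card_mod3 h.f _ (g3Fix_inv h)
  obtain ⟨k, hk⟩ := IsPGroup.iff_card.mp (h.pg.to_subgroup (g3Fix t))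
  rcases g3_small_card _ (g3_pow2_le4 _ k hk h4) hm with h1 | h1
  · exact absurd ((Subgroup.card_eq_one).mp h1) (g3_fix_ne_bot h)
  · exact h1

theorem g3_nontrivial_of_fix (h4 : Nat.card (g3Fix t) = 4) : Nontrivial T := by
  by_contra hnt
  rw [not_nontrivial_iff_subsingleton] at hnt
  have : Nat.card (g3Fix t) ≤ 1 := Finite.card_le_one_iff_subsingleton.mpr inferInstance
  omega

theorem g3_fix_central (h : G3Hyp T ρ t) (h4 : Nat.card (g3Fix t) = 4) :
    g3Fix t ≤ Subgroup.center T := by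
  haveI : Fact (Nat.Prime 2) := ⟨Nat.prime_two⟩
  haveI := g3_nontrivial_of_fix h4
  haveI hZnt : Nontrivial (Subgroup.center T) := h.pg.center_nontrivial
  have hZne : Subgroup.center T ≠ ⊥ := by
    intro hb
    have := (Subgroup.nontrivial_iff_ne_bot _).mp hZnt
    exact this hb
  obtain ⟨x, hxZ, hx1, hxf⟩ := g3_exists_fixed h _ g3_center_tinv hZne
  apply g3_irred h.f _ _ (g3Fix_inv h) r2Inv_center h4
  intro hb
  apply hx1
  have : x ∈ g3Fix t ⊓ Subgroup.center T := ⟨hxf, hxZ⟩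
  rw [hb] at this
  exact Subgroup.mem_bot.mp this

theorem g3_fix_sq (h : G3Hyp T ρ t) (h4 : Nat.card (g3Fix t) = 4) :
    ∀ v ∈ g3Fix t, v ^ 2 = 1 := by
  haveI : Fact (Nat.Prime 2) := ⟨Nat.prime_two⟩
  have hcen := g3_fix_central h h4
  obtain ⟨x, hx⟩ := exists_prime_orderOf_dvd_card' (G := ↥(g3Fix t)) 2 (by rw [h4]; norm_num)
  have hx2 : (x : T) ^ 2 = 1 := by
    have := pow_orderOf_eq_one x
    rw [hx] at this
    exact congrArg Subtype.val this
  have hx1 : (x : T) ≠ 1 := by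
    intro hh
    have : x = 1 := Subtype.ext hh
    rw [this, orderOf_one] at hx
    norm_num at hx
  have hle : g3Fix t ≤ r2Om T := by
    apply g3_irred h.f _ _ (g3Fix_inv h) r2Inv_om h4
    intro hb
    apply hx1
    have : (x : T) ∈ g3Fix t ⊓ r2Om T := ⟨x.2, hcen x.2, hx2⟩
    rw [hb] at this
    exact Subgroup.mem_bot.mp this
  intro v hv
  exact (hle hv).2

end fix

end Cfsg.Agent.Lib.Helper9
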