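import Mathlib
import Cfsg.Agent.Lib.Helper9.G3A

set_option autoImplicit false

/-! The abelian case. -/

namespace Cfsg.Agent.Lib.Helper9

section abel
variable {T : Type*} [Group T] [Finite T] {ρ t : MulAut T}

/-- the inverted elements of an abelian group -/
def g3Invd (t : MulAut T) (hc : ∀ a b : T, a * b = b * a) : Subgroup T where
  carrier := {x | t x = x⁻¹}
  one_mem' := by show t 1 = 1⁻¹; rw [map_one, inv_one]
  mul_mem' := by
    intro a b ha hb
    show t (a * b) = (a * b)⁻¹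
    rw [map_mul, show t a = a⁻¹ from ha, show t b = b⁻¹ from hb, mul_inv_rev, hc]
  inv_mem' := by
    intro a ha
    show t a⁻¹ = a⁻¹⁻¹
    rw [map_inv, show t a = a⁻¹ from ha]

/-- the squares of a subgroup of an abelian group -/
def g3Sq (hc : ∀ a b : T, a * b = b * a) (I : Subgroup T) : Subgroup T where
  carrier := {s | ∃ y ∈ I, y * y = s}
  one_mem' := ⟨1, I.one_mem, one_mul 1⟩
  mul_mem' := by
    rintro a b ⟨y, hy, rfl⟩ ⟨z, hz, rfl⟩
    refine ⟨y * z, I.mul_mem hy hz, ?_⟩
    rw [mul_assoc, ← mul_assoc z, hc z y, mul_assoc, ← mul_assoc]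
  inv_mem' := by
    rintro a ⟨y, hy, rfl⟩
    exact ⟨y⁻¹, I.inv_mem hy, by rw [mul_inv_rev]⟩

theorem g3Sq_le (hc : ∀ a b : T, a * b = b * a) (I : Subgroup T) : g3Sq hc I ≤ I := by
  rintro s ⟨y, hy, rfl⟩
  exact I.mul_mem hy hy

theorem g3Invd_inv (h : G3Hyp T ρ t) (hc : ∀ a b : T, a * b = b * a) :
    r2Inv ρ (g3Invd t hc) := by
  intro x hx
  show t (ρ x) = (ρ x)⁻¹
  rw [h.comm, show t x = x⁻¹ from hx, map_inv]

theorem g3Sq_inv (hc : ∀ a b : T, a * b = b * a) (I : Subgroup T) (hI : r2Inv ρ I) :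
    r2Inv ρ (g3Sq hc I) := by
  rintro s ⟨y, hy, rfl⟩
  exact ⟨ρ y, hI y hy, by rw [map_mul]⟩

/-- the norm map `x ↦ x * t x` -/
def g3Norm (t : MulAut T) (hc : ∀ a b : T, a * b = b * a) : T →* T where
  toFun x := x * t x
  map_one' := by rw [map_one, one_mul]
  map_mul' := by
    intro a b
    rw [map_mul, mul_assoc, ← mul_assoc b, hc b (t a), mul_assoc, ← mul_assoc]

theorem g3_pow2_le16 (n k : ℕ) (hk : n = 2 ^ k) (h16 : n ≤ 16) (hm : n % 3 = 1) :
    n = 1 ∨ n = 4 ∨ n = 16 := by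
  have hk4 : k ≤ 4 := by
    by_contra hcon
    have : 2 ^ 5 ≤ 2 ^ k := Nat.pow_le_pow_right (by norm_num) (by omega)
    omega
  interval_cases k <;> simp_all

theorem g3_abelian (h : G3Hyp T ρ t) (h4 : Nat.card (g3Fix t) = 4)
    (hc : ∀ a b : T, a * b = b * a) :
    (Nat.card T = 16 ∧ ∀ x : T, x ^ 2 = 1) ∨ (∀ x : T, x ^ 2 = 1 → t x = x) := by
  haveI : Fact (Nat.Prime 2) := ⟨Nat.prime_two⟩
  by_cases hall : ∀ x : T, x ^ 2 = 1 → t x = x
  · exact Or.inr hall
  left
  push Not at hall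
  obtain ⟨u, hu2, hut⟩ := hall
  have hVsq := g3_fix_sq h h4
  have hinv_of_sq : ∀ x : T, x ^ 2 = 1 → x⁻¹ = x := by
    intro x hx
    rw [pow_two] at hx
    exact inv_eq_of_mul_eq_one_left hx
  set I := g3Invd t hc with hI
  have hVI : g3Fix t ≤ I := by
    intro v hv
    show t v = v⁻¹
    rw [hinv_of_sq v (hVsq v hv)]
    exact hv
  have hΩI : ∀ x ∈ I, x ^ 2 = 1 → t x = x := by
    intro x hx hx2
    rw [show t x = x⁻¹ from hx, hinv_of_sq x hx2]
  have huI : u ∉ I := fun hu => hut (hΩI u hu hu2)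
  have hνV : u * t u ∈ g3Fix t := by
    show t (u * t u) = u * t u
    rw [map_mul, h.inv2, hc]
  have hIV : ∀ y ∈ I, t y = y := by
    by_contra hcon
    push Not at hcon
    obtain ⟨y0, hy0I, hy0⟩ := hcon
    have hy0sq : y0 * y0 ≠ 1 := by
      intro hh
      apply hy0
      apply hΩI y0 hy0I
      rw [pow_two]; exact hh
    set S := g3Sq hc I with hS
    have hSne : S ≠ ⊥ := by
      intro hb
      apply hy0sq
      have : y0 * y0 ∈ S := ⟨y0, hy0I, rfl⟩
      rw [hb] at this
      exact Subgroup.mem_bot.mp this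
    obtain ⟨k, hk⟩ := IsPGroup.iff_card.mp (h.pg.to_subgroup S)
    have hk0 : k ≠ 0 := by
      rintro rfl
      rw [pow_zero] at hk
      exact hSne ((Subgroup.card_eq_one).mp hk)
    obtain ⟨s, hs⟩ := exists_prime_orderOf_dvd_card' (G := ↥S) 2
      (by rw [hk]; exact dvd_pow_self 2 hk0)
    have hs2 : (s : T) ^ 2 = 1 := by
      have := pow_orderOf_eq_one s
      rw [hs] at this
      exact congrArg Subtype.val this
    have hs1 : (s : T) ≠ 1 := by
      intro hh
      have : s = 1 := Subtype.ext hh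
      rw [this, orderOf_one] at hs
      norm_num at hs
    have hsV : (s : T) ∈ g3Fix t := hΩI _ (g3Sq_le hc I s.2) hs2
    have hVS : g3Fix t ≤ S := by
      apply g3_irred h.f _ _ (g3Fix_inv h) (g3Sq_inv hc I (g3Invd_inv h hc)) h4
      intro hb
      apply hs1
      have : (s : T) ∈ g3Fix t ⊓ S := ⟨hsV, s.2⟩
      rw [hb] at this
      exact Subgroup.mem_bot.mp this
    obtain ⟨y, hyI, hyy⟩ := hVS hνV
    have huy : t (u * y) = u * y := by
      rw [map_mul, show t y = y⁻¹ from hyI]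
      have e1 : t u = u * (y * y) := by
        rw [hyy, ← mul_assoc, ← pow_two, hu2, one_mul]
      rw [e1, mul_assoc, mul_assoc, mul_inv_cancel, mul_one]
    apply huI
    have : u = (u * y) * y⁻¹ := by group
    rw [this]
    exact I.mul_mem (hVI huy) (I.inv_mem hyI)
  -- the order
  have hker : (g3Norm t hc).ker ≤ g3Fix t := by
    intro x hx
    have hx' : x * t x = 1 := hx
    have : x ∈ I := by
      show t x = x⁻¹
      exact eq_inv_of_mul_eq_one_right hx'
    exact hIV x this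
  have hrange : (g3Norm t hc).range ≤ g3Fix t := by
    rintro _ ⟨x, rfl⟩
    show t (x * t x) = x * t x
    rw [map_mul, h.inv2, hc]
  have hcard : Nat.card T ≤ 16 := by
    have h1 := Subgroup.card_mul_index (g3Norm t hc).ker
    rw [Subgroup.index_ker] at h1
    have h2 : Nat.card (g3Norm t hc).ker ≤ 4 := by
      rw [← h4]; exact Subgroup.card_le_of_le hker
    have h3 : Nat.card (g3Norm t hc).range ≤ 4 := by
      rw [← h4]; exact Subgroup.card_le_of_le hrange
    calc Nat.card T = Nat.card (g3Norm t hc).ker * Nat.card (g3Norm t hc).range := h1.symm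
      _ ≤ 4 * 4 := Nat.mul_le_mul h2 h3
      _ = 16 := by norm_num
  obtain ⟨k, hk⟩ := IsPGroup.iff_card.mp h.pg
  have huV : u ∉ g3Fix t := hut
  have hT16 : Nat.card T = 16 := by
    rcases g3_pow2_le16 _ k hk hcard (f3_card_mod3_top h.f) with h1 | h1 | h1
    · exfalso
      have := Subgroup.card_le_card_group (g3Fix t)
      omega
    · exfalso
      apply huV
      have : g3Fix t = ⊤ := (Subgroup.card_eq_iff_eq_top _).mp (by rw [h4, h1])
      rw [this]; exact Subgroup.mem_top _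
    · exact h1
  refine ⟨hT16, ?_⟩
  -- elementary abelian
  have hcen : ∀ x : T, x ∈ Subgroup.center T := by
    intro x
    rw [Subgroup.mem_center_iff]
    intro g
    exact hc g x
  have hVΩ : g3Fix t ≤ r2Om T := fun v hv => ⟨hcen v, hVsq v hv⟩
  have huΩ : u ∈ r2Om T := ⟨hcen u, hu2⟩
  obtain ⟨k', hk'⟩ := IsPGroup.iff_card.mp (h.pg.to_subgroup (r2Om T))
  have hΩle : Nat.card (r2Om T) ≤ 16 := by
    rw [← hT16]; exact Subgroup.card_le_card_group _
  have hΩtop : r2Om T = ⊤ := by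
    rcases g3_pow2_le16 _ k' hk' hΩle (f3_card_mod3 h.f _ r2Inv_om) with h1 | h1 | h1
    · exfalso
      have := Subgroup.card_le_of_le hVΩ
      omega
    · exfalso
      apply huV
      have : g3Fix t = r2Om T := by
        apply Subgroup.eq_of_le_of_card_ge hVΩ
        rw [h1, h4]
      rw [this]; exact huΩ
    · exact (Subgroup.card_eq_iff_eq_top _).mp (by rw [h1, hT16])
  intro x
  have : x ∈ r2Om T := by rw [hΩtop]; exact Subgroup.mem_top _
  exact this.2

end abel

end Cfsg.Agent.Lib.Helper9
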