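import Mathlib
import Cfsg.Agent.Lib.Helper9.G3B

set_option autoImplicit false

/-! The 2-Engel property, and the quotient by the fixed points. -/

namespace Cfsg.Agent.Lib.Helper9

section engel
variable {T : Type*} [Group T] [Finite T] {ρ : MulAut T}

theorem f3_lang_surj (h : F3Hyp T ρ) : Function.Surjective (fun u : T => ρ u * u⁻¹) := by
  apply Finite.surjective_of_injective
  intro a b hab
  have hab' : ρ a * a⁻¹ = ρ b * b⁻¹ := hab
  have h1 : ρ (b⁻¹ * a) = b⁻¹ * a := by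
    rw [map_mul, map_inv]
    have : ρ a = ρ b * b⁻¹ * a := by rw [← hab']; group
    rw [this]; group
  have h2 := h.fpf _ h1
  have : a = b * (b⁻¹ * a) := by group
  rw [this, h2, mul_one]

theorem f3_star (h : F3Hyp T ρ) (x m : T) :
    x * (m⁻¹ * ρ x * m) = (m⁻¹ * ρ x * m) * x := by
  obtain ⟨u, hu⟩ := f3_lang_surj h m
  have hu' : ρ u * u⁻¹ = m := hu
  subst hu'
  obtain ⟨y, hy⟩ : ∃ y, y = u⁻¹ * x * u := ⟨_, rfl⟩
  have hx : x = u * y * u⁻¹ := by rw [hy]; group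
  have hyc := r2_ord3_comm h.fpf h.ord3 y
  have l : x * ((ρ u * u⁻¹)⁻¹ * ρ x * (ρ u * u⁻¹)) = u * (y * ρ y) * u⁻¹ := by
    rw [hx]; simp only [map_mul, map_inv]; group
  have r : (ρ u * u⁻¹)⁻¹ * ρ x * (ρ u * u⁻¹) * x = u * (ρ y * y) * u⁻¹ := by
    rw [hx]; simp only [map_mul, map_inv]; group
  rw [l, r, hyc]

theorem f3_star2 (h : F3Hyp T ρ) (x m : T) :
    x * (m⁻¹ * ρ (ρ x) * m) = (m⁻¹ * ρ (ρ x) * m) * x := by
  have hb := f3_star h (ρ (ρ x)) m⁻¹
  rw [h.ord3, inv_inv] at hb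
  have e : x * (m⁻¹ * ρ (ρ x) * m) = m⁻¹ * ((m * x * m⁻¹) * ρ (ρ x)) * m := by group
  have e' : (m⁻¹ * ρ (ρ x) * m) * x = m⁻¹ * (ρ (ρ x) * (m * x * m⁻¹)) * m := by group
  rw [e, e', hb]

/-- every element commutes with all its conjugates -/
theorem f3_engel (h : F3Hyp T ρ) (x m : T) :
    x * (m⁻¹ * x * m) = (m⁻¹ * x * m) * x := by
  have h1 : Commute x (m⁻¹ * ρ x * m) := f3_star h x m
  have h2 : Commute x (m⁻¹ * ρ (ρ x) * m) := f3_star2 h x m
  have h3 := h1.mul_right h2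
  have hp := r2_ord3_prod h.fpf h.ord3 x
  have e : m⁻¹ * ρ x * m * (m⁻¹ * ρ (ρ x) * m) = (m⁻¹ * x * m)⁻¹ := by
    have : ρ x * ρ (ρ x) = x⁻¹ := by
      have : x * (ρ x * ρ (ρ x)) = 1 := by rw [← mul_assoc]; exact hp
      exact (eq_inv_of_mul_eq_one_right this)
    calc m⁻¹ * ρ x * m * (m⁻¹ * ρ (ρ x) * m) = m⁻¹ * (ρ x * ρ (ρ x)) * m := by group
      _ = (m⁻¹ * x * m)⁻¹ := by rw [this]; group
  rw [e] at h3
  exact (Commute.inv_right_iff.mp h3).eq

/-- `b` commutes with `r2c b a` -/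
theorem f3_engel_comm (h : F3Hyp T ρ) (b a : T) : b * r2c b a = r2c b a * b := by
  have h1 : Commute b (a * b * a⁻¹) := by
    have := f3_engel h b a⁻¹
    rw [inv_inv] at this
    exact this
  have h2 : Commute b (b * (a * b * a⁻¹)⁻¹) := (Commute.refl b).mul_right h1.inv_right
  have e : r2c b a = b * (a * b * a⁻¹)⁻¹ := by unfold r2c; group
  rw [e]
  exact h2.eq

end engel

section quot
variable {T : Type*} [Group T] [Finite T] {ρ t : MulAut T}

theorem g3_fix_normal (h : G3Hyp T ρ t) (h4 : Nat.card (g3Fix t) = 4) : (g3Fix t).Normal := by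
  constructor
  intro n hn g
  have hc := g3_fix_central h h4 hn
  rw [Subgroup.mem_center_iff] at hc
  rw [hc g, mul_assoc, mul_inv_cancel, mul_one]
  exact hn

theorem g3_quot_hyp (h : G3Hyp T ρ t) [(g3Fix t).Normal] :
    G3Hyp (T ⧸ g3Fix t) (f3quot ρ (g3Fix t) (g3Fix_inv h)) (f3quot t (g3Fix t) g3Fix_tinv) := by
  refine ⟨f3_quot h.f _ _, h.pg.to_quotient _, ?_, ?_⟩
  · intro q
    induction q using QuotientGroup.induction_on with
    | H g => rw [f3quot_mk, f3quot_mk, h.inv2]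
  · intro q
    induction q using QuotientGroup.induction_on with
    | H g => rw [f3quot_mk, f3quot_mk, f3quot_mk, f3quot_mk, h.comm]

theorem g3_quot_fix_le (h : G3Hyp T ρ t) [(g3Fix t).Normal] (h4 : Nat.card (g3Fix t) = 4) :
    Nat.card (g3Fix (f3quot t (g3Fix t) g3Fix_tinv)) ≤ 4 := by
  have key : ∀ q : ↥(g3Fix (f3quot t (g3Fix t) g3Fix_tinv)),
      (Quotient.out (q : T ⧸ g3Fix t))⁻¹ * t (Quotient.out (q : T ⧸ g3Fix t)) ∈ g3Fix t := by
    intro q
    rw [← QuotientGroup.eq_one_iff, QuotientGroup.mk_mul, QuotientGroup.mk_inv,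
      ← f3quot_mk (g3Fix t) g3Fix_tinv, QuotientGroup.out_eq']
    have : f3quot t (g3Fix t) g3Fix_tinv (q : T ⧸ g3Fix t) = q := q.2
    rw [this, inv_mul_cancel]
  let φ : ↥(g3Fix (f3quot t (g3Fix t) g3Fix_tinv)) → ↥(g3Fix t) := fun q => ⟨_, key q⟩
  have hφ : Function.Injective φ := by
    intro q1 q2 h12
    have e : (Quotient.out (q1 : T ⧸ g3Fix t))⁻¹ * t (Quotient.out (q1 : T ⧸ g3Fix t)) =
        (Quotient.out (q2 : T ⧸ g3Fix t))⁻¹ * t (Quotient.out (q2 : T ⧸ g3Fix t)) :=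
      congrArg Subtype.val h12
    set x1 := Quotient.out (q1 : T ⧸ g3Fix t) with hx1
    set x2 := Quotient.out (q2 : T ⧸ g3Fix t) with hx2
    have hfix : t (x1 * x2⁻¹) = x1 * x2⁻¹ := by
      rw [map_mul, map_inv]
      have e1 : t x1 = x1 * (x2⁻¹ * t x2) := by rw [← e]; group
      rw [e1]; group
    apply Subtype.ext
    rw [← QuotientGroup.out_eq' (q1 : T ⧸ g3Fix t), ← QuotientGroup.out_eq' (q2 : T ⧸ g3Fix t)]
    rw [QuotientGroup.eq]
    have : x1⁻¹ * x2 = ((x1 * x2⁻¹)⁻¹ : T) * (x1 * x2⁻¹ * x1⁻¹ * x2) := by group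
    show x1⁻¹ * x2 ∈ g3Fix t
    have hmem : x2 * x1⁻¹ ∈ g3Fix t := by
      have : x2 * x1⁻¹ = (x1 * x2⁻¹)⁻¹ := by group
      rw [this]
      exact (g3Fix t).inv_mem hfix
    have hn : (g3Fix t).Normal := inferInstance
    have := hn.conj_mem _ hmem x1⁻¹
    rw [inv_inv] at this
    have e2 : x1⁻¹ * (x2 * x1⁻¹) * x1 = x1⁻¹ * x2 := by group
    rw [e2] at this
    exact this
  have := Nat.card_le_card_of_injective φ hφ
  rwa [h4] at this

end quot

end Cfsg.Agent.Lib.Helper9
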