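import Mathlib
import Cfsg.Agent.Lib.Helper9.G3C

set_option autoImplicit false

/-! Class two groups with a fixed-point-free automorphism of order 3 and centre of index 16:
all commutators lie in an invariant subgroup of order at most 4. -/

namespace Cfsg.Agent.Lib.Helper9

section classtwo
variable {T : Type*} [Group T] [Finite T] {ρ : MulAut T}

/-- commutation with a fixed element, as a homomorphism (class two) -/
def g3CommHom (hcl : ∀ g k : T, r2c g k ∈ Subgroup.center T) (x : T) : T →* T where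
  toFun g := r2c x g
  map_one' := (r2c_eq_one_iff x 1).mpr (by rw [mul_one, one_mul])
  map_mul' a b := r2c_mul_right x a b (hcl x b)

theorem g3CommHom_apply (hcl : ∀ g k : T, r2c g k ∈ Subgroup.center T) (x g : T) :
    g3CommHom hcl x g = r2c x g := rfl

theorem g3CommHom_range_inv (h : F3Hyp T ρ) (hcl : ∀ g k : T, r2c g k ∈ Subgroup.center T)
    (x : T) : r2Inv ρ (g3CommHom hcl x).range := by
  have key : ∀ r ∈ (g3CommHom hcl x).range, ρ (ρ r) ∈ (g3CommHom hcl x).range := by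
    rintro _ ⟨a, rfl⟩
    exact ⟨ρ a, f3_I3 h hcl x a⟩
  intro r hr
  have h1 := key _ (key r hr)
  rwa [h.ord3] at h1

/-- the centraliser of the orbit of `x` -/
def g3Cen3 (ρ : MulAut T) (x : T) : Subgroup T :=
  Subgroup.centralizer {x} ⊓ Subgroup.centralizer {ρ x} ⊓ Subgroup.centralizer {ρ (ρ x)}

theorem g3_mem_cen3 (x g : T) :
    g ∈ g3Cen3 ρ x ↔ g * x = x * g ∧ g * ρ x = ρ x * g ∧ g * ρ (ρ x) = ρ (ρ x) * g := by
  unfold g3Cen3
  rw [Subgroup.mem_inf, Subgroup.mem_inf, Subgroup.mem_centralizer_singleton_iff,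
    Subgroup.mem_centralizer_singleton_iff, Subgroup.mem_centralizer_singleton_iff, and_assoc]

theorem g3Cen3_inv (h : F3Hyp T ρ) (x : T) : r2Inv ρ (g3Cen3 ρ x) := by
  intro g hg
  rw [g3_mem_cen3] at hg ⊢
  obtain ⟨h1, h2, h3⟩ := hg
  refine ⟨?_, ?_, ?_⟩
  · have := congrArg ρ h3
    rwa [map_mul, map_mul, h.ord3] at this
  · have := congrArg ρ h1
    rwa [map_mul, map_mul] at this
  · have := congrArg ρ h2
    rwa [map_mul, map_mul] at this

theorem g3_self_mem_cen3 (h : F3Hyp T ρ) (x : T) : x ∈ g3Cen3 ρ x := by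
  rw [g3_mem_cen3]
  have h1 := r2_ord3_comm h.fpf h.ord3 x
  have hp := r2_ord3_prod h.fpf h.ord3 x
  have hrr : ρ (ρ x) = (x * ρ x)⁻¹ := eq_inv_of_mul_eq_one_right hp
  refine ⟨rfl, h1, ?_⟩
  rw [hrr]
  have hc : Commute x (x * ρ x) := (Commute.refl x).mul_right h1
  exact hc.inv_right.eq

theorem g3_center_le_cen3 (x : T) : Subgroup.center T ≤ g3Cen3 ρ x := by
  intro z hz
  rw [Subgroup.mem_center_iff] at hz
  rw [g3_mem_cen3]
  exact ⟨(hz _).symm, (hz _).symm, (hz _).symm⟩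

theorem g3_cen3_le_ker (hcl : ∀ g k : T, r2c g k ∈ Subgroup.center T) (x : T) :
    g3Cen3 ρ x ≤ (g3CommHom hcl x).ker := by
  intro g hg
  rw [g3_mem_cen3] at hg
  rw [MonoidHom.mem_ker, g3CommHom_apply, r2c_eq_one_iff]
  exact hg.1.symm

theorem g3_cen3_card (h : F3Hyp T ρ) (hp : IsPGroup 2 T) (x : T)
    (hx : x ∉ Subgroup.center T) :
    4 * Nat.card (Subgroup.center T) ≤ Nat.card (g3Cen3 ρ x) := by
  have hle := g3_center_le_cen3 (ρ := ρ) x
  obtain ⟨m, hm⟩ := Subgroup.card_dvd_of_le hle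
  have hZm := f3_card_mod3 h _ (r2Inv_center (α := ρ))
  have hHm := f3_card_mod3 h _ (g3Cen3_inv h x)
  obtain ⟨k, hk⟩ := IsPGroup.iff_card.mp (hp.to_subgroup (g3Cen3 ρ x))
  have hmd : m ∣ 2 ^ k := by rw [← hk, hm]; exact dvd_mul_left _ _
  obtain ⟨j, -, hj⟩ := (Nat.dvd_prime_pow Nat.prime_two).mp hmd
  have hm1 : m ≠ 1 := by
    intro h1
    rw [h1, mul_one] at hm
    apply hx
    have : Subgroup.center T = g3Cen3 ρ x :=
      Subgroup.eq_of_le_of_card_ge hle (by rw [hm])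
    rw [this]
    exact g3_self_mem_cen3 h x
  have hm3 : m % 3 = 1 := by
    have := hHm
    rw [hm, Nat.mul_mod, hZm] at this
    omega
  have hj2 : 2 ≤ j := by
    by_contra hcon
    have : j = 0 ∨ j = 1 := by omega
    rcases this with rfl | rfl
    · exact hm1 (by rw [hj, pow_zero])
    · rw [hj] at hm3; norm_num at hm3
  have hm4 : 4 ≤ m := by
    rw [hj]
    calc 4 = 2 ^ 2 := by norm_num
      _ ≤ 2 ^ j := Nat.pow_le_pow_right (by norm_num) hj2
  rw [hm, mul_comm]
  exact Nat.mul_le_mul_left _ hm4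

theorem g3_comm_range_le4 (h : F3Hyp T ρ) (hp : IsPGroup 2 T)
    (hcl : ∀ g k : T, r2c g k ∈ Subgroup.center T)
    (hidx : Nat.card T = 16 * Nat.card (Subgroup.center T)) (x : T)
    (hx : x ∉ Subgroup.center T) : Nat.card (g3CommHom hcl x).range ≤ 4 := by
  have h1 := Subgroup.card_mul_index (g3CommHom hcl x).ker
  rw [Subgroup.index_ker] at h1
  have h2 := Subgroup.card_le_of_le (g3_cen3_le_ker (ρ := ρ) hcl x)
  have h3 := g3_cen3_card h hp x hx
  have hZpos : 0 < Nat.card (Subgroup.center T) := Nat.card_pos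
  by_contra hcon
  push Not at hcon
  have : 5 * (4 * Nat.card (Subgroup.center T)) ≤
      Nat.card (g3CommHom hcl x).range * Nat.card (g3CommHom hcl x).ker :=
    Nat.mul_le_mul hcon (h3.trans h2)
  rw [mul_comm (Nat.card (g3CommHom hcl x).range), h1, hidx] at this
  omega

theorem g3_comm_range_card (h : F3Hyp T ρ) (hp : IsPGroup 2 T)
    (hcl : ∀ g k : T, r2c g k ∈ Subgroup.center T)
    (hidx : Nat.card T = 16 * Nat.card (Subgroup.center T)) (x z : T)
    (hxz : r2c x z ≠ 1) : Nat.card (g3CommHom hcl x).range = 4 := by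
  have hx : x ∉ Subgroup.center T := by
    intro hx
    apply hxz
    rw [r2c_eq_one_iff]
    exact ((Subgroup.mem_center_iff.mp hx) z).symm
  have hle := g3_comm_range_le4 h hp hcl hidx x hx
  obtain ⟨k, hk⟩ := IsPGroup.iff_card.mp (hp.to_subgroup (g3CommHom hcl x).range)
  have hm := f3_card_mod3 h _ (g3CommHom_range_inv h hcl x)
  rcases g3_small_card _ (g3_pow2_le4 _ k hk hle) hm with h1 | h1
  · exfalso
    apply hxz
    have hb := (Subgroup.card_eq_one).mp h1
    have : r2c x z ∈ (g3CommHom hcl x).range := ⟨z, rfl⟩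
    rw [hb] at this
    exact Subgroup.mem_bot.mp this
  · exact h1

theorem g3_comm_range_eq (h : F3Hyp T ρ) (hp : IsPGroup 2 T)
    (hcl : ∀ g k : T, r2c g k ∈ Subgroup.center T)
    (hidx : Nat.card T = 16 * Nat.card (Subgroup.center T)) (x z : T)
    (hxz : r2c x z ≠ 1) : (g3CommHom hcl x).range = (g3CommHom hcl z).range := by
  have hzx : r2c z x ≠ 1 := by
    rw [r2c_symm x z]
    exact inv_ne_one.mpr hxz
  have cx := g3_comm_range_card h hp hcl hidx x z hxz
  have cz := g3_comm_range_card h hp hcl hidx z x hzx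
  have m1 : r2c x z ∈ (g3CommHom hcl x).range := ⟨z, rfl⟩
  have m2 : r2c x z ∈ (g3CommHom hcl z).range := by
    have : r2c x z = (r2c z x)⁻¹ := r2c_symm z x
    rw [this]
    exact Subgroup.inv_mem _ ⟨x, rfl⟩
  have hne : (g3CommHom hcl x).range ⊓ (g3CommHom hcl z).range ≠ ⊥ := by
    intro hb
    apply hxz
    have : r2c x z ∈ (g3CommHom hcl x).range ⊓ (g3CommHom hcl z).range := ⟨m1, m2⟩
    rw [hb] at this
    exact Subgroup.mem_bot.mp this
  have hle := g3_irred h _ _ (g3CommHom_range_inv h hcl x) (g3CommHom_range_inv h hcl z) cx hne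
  exact Subgroup.eq_of_le_of_card_ge hle (by rw [cx, cz])

theorem g3_connect (hcl : ∀ g k : T, r2c g k ∈ Subgroup.center T) (x y : T)
    (hx : x ∉ Subgroup.center T) (hy : y ∉ Subgroup.center T) :
    ∃ z : T, r2c x z ≠ 1 ∧ r2c y z ≠ 1 := by
  have ex : ∀ w : T, w ∉ Subgroup.center T → ∃ a : T, r2c w a ≠ 1 := by
    intro w hw
    rw [Subgroup.mem_center_iff] at hw
    push Not at hw
    obtain ⟨g, hg⟩ := hw
    refine ⟨g, fun hh => hg ?_⟩
    exact ((r2c_eq_one_iff w g).mp hh).symm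
  obtain ⟨a, ha⟩ := ex x hx
  obtain ⟨b, hb⟩ := ex y hy
  by_cases h1 : r2c y a = 1
  · by_cases h2 : r2c x b = 1
    · refine ⟨a * b, ?_, ?_⟩
      · rw [r2c_mul_right _ _ _ (hcl _ _), h2, mul_one]; exact ha
      · rw [r2c_mul_right _ _ _ (hcl _ _), h1, one_mul]; exact hb
    · exact ⟨b, h2, hb⟩
  · exact ⟨a, ha, h1⟩

/-- all commutators lie in an invariant subgroup of order at most 4 -/
theorem g3_class2_comm_small (h : F3Hyp T ρ) (hp : IsPGroup 2 T)
    (hcl : ∀ g k : T, r2c g k ∈ Subgroup.center T)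
    (hidx : Nat.card T = 16 * Nat.card (Subgroup.center T)) :
    ∃ L : Subgroup T, r2Inv ρ L ∧ Nat.card L ≤ 4 ∧ (∀ g k : T, r2c g k ∈ L) ∧
      ∀ l ∈ L, ∃ a b : T, l = r2c a b := by
  by_cases hab : ∀ x : T, x ∈ Subgroup.center T
  · refine ⟨⊥, r2Inv_bot, by simp, ?_, ?_⟩
    · intro g k
      rw [Subgroup.mem_bot, r2c_eq_one_iff]
      exact ((Subgroup.mem_center_iff.mp (hab g)) k).symm
    · intro l hl
      rw [Subgroup.mem_bot] at hl
      exact ⟨1, 1, by rw [hl]; unfold r2c; group⟩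
  · push Not at hab
    obtain ⟨x0, hx0⟩ := hab
    refine ⟨(g3CommHom hcl x0).range, g3CommHom_range_inv h hcl x0,
      g3_comm_range_le4 h hp hcl hidx x0 hx0, ?_, ?_⟩
    swap
    · rintro _ ⟨a, rfl⟩
      exact ⟨x0, a, rfl⟩
    intro g k
    by_cases hgk : r2c g k = 1
    · rw [hgk]; exact Subgroup.one_mem _
    · have hg : g ∉ Subgroup.center T := by
        intro hg
        apply hgk
        rw [r2c_eq_one_iff]
        exact ((Subgroup.mem_center_iff.mp hg) k).symm
      obtain ⟨z, hz1, hz2⟩ := g3_connect hcl g x0 hg hx0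
      have e1 := g3_comm_range_eq h hp hcl hidx g z hz1
      have e2 := g3_comm_range_eq h hp hcl hidx x0 z hz2
      rw [e2, ← e1]
      exact ⟨k, rfl⟩

end classtwo

end Cfsg.Agent.Lib.Helper9
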