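import Mathlib
import Cfsg.Agent.Lib.Helper9.G3D

set_option autoImplicit false

/-! A non-abelian group in the situation `G3Hyp` with four fixed points has order 64. -/

namespace Cfsg.Agent.Lib.Helper9

universe u

/-- squaring on an abelian group -/
def g3SqHom {G : Type*} [Group G] (hc : ∀ a b : G, a * b = b * a) : G →* G where
  toFun x := x * x
  map_one' := one_mul 1
  map_mul' := by
    intro a b
    rw [mul_assoc, ← mul_assoc b, hc b a, mul_assoc, ← mul_assoc]

section lift
variable {T : Type*} [Group T] [Finite T] {ρ t : MulAut T}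

theorem g3_mk_r2c (N : Subgroup T) [N.Normal] (a b : T) :
    (QuotientGroup.mk (r2c a b) : T ⧸ N) = r2c (QuotientGroup.mk a) (QuotientGroup.mk b) :=
  r2c_hom (QuotientGroup.mk' N) a b

theorem g3_lift_abelian (h : G3Hyp T ρ t) (h4 : Nat.card (g3Fix t) = 4) [(g3Fix t).Normal]
    (hqc : ∀ a b : T ⧸ g3Fix t, a * b = b * a)
    (hΩ : ∀ q : T ⧸ g3Fix t, q ^ 2 = 1 → f3quot t (g3Fix t) g3Fix_tinv q = q) :
    ∀ a b : T, a * b = b * a := by
  haveI : Fact (Nat.Prime 2) := ⟨Nat.prime_two⟩
  have hVcen := g3_fix_central h h4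
  have hVsq := g3_fix_sq h h4
  have hcV : ∀ a b : T, r2c a b ∈ g3Fix t := by
    intro a b
    rw [← QuotientGroup.eq_one_iff, g3_mk_r2c, r2c_eq_one_iff]
    exact hqc _ _
  have hsqcen : ∀ y : T, y * y ∈ Subgroup.center T := by
    intro y
    rw [Subgroup.mem_center_iff]
    intro g
    have e : r2c (y * y) g = 1 := by
      rw [r2c_mul_left y y g (hVcen (hcV y g)), ← pow_two]
      exact hVsq _ (hcV y g)
    exact ((r2c_eq_one_iff _ _).mp e).symm
  set sq := g3SqHom hqc with hsq
  have hker : sq.ker ≤ g3Fix (f3quot t (g3Fix t) g3Fix_tinv) := by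
    intro q hq
    have hq' : q * q = 1 := hq
    apply hΩ
    rw [pow_two]; exact hq'
  have hker4 : Nat.card sq.ker ≤ 4 :=
    (Subgroup.card_le_of_le hker).trans (g3_quot_fix_le h h4)
  have hM : sq.range.comap (QuotientGroup.mk' (g3Fix t)) ≤ Subgroup.center T := by
    intro x hx
    obtain ⟨q, hq⟩ := hx
    obtain ⟨y, rfl⟩ := QuotientGroup.mk_surjective q
    have hq' : (QuotientGroup.mk (y * y) : T ⧸ g3Fix t) = QuotientGroup.mk x := hq
    have hv : (y * y)⁻¹ * x ∈ g3Fix t := QuotientGroup.eq.mp hq'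
    have : x = (y * y) * ((y * y)⁻¹ * x) := by group
    rw [this]
    exact Subgroup.mul_mem _ (hsqcen y) (hVcen hv)
  have hidx1 : (Subgroup.center T).index ∣ sq.range.index := by
    have := Subgroup.index_dvd_of_le hM
    rwa [Subgroup.index_comap_of_surjective _ (QuotientGroup.mk'_surjective _)] at this
  have hidx2 : sq.range.index = Nat.card sq.ker := by
    have h1 := Subgroup.card_mul_index sq.ker
    rw [Subgroup.index_ker] at h1
    have h2 := Subgroup.card_mul_index sq.range
    have hpos : 0 < Nat.card sq.range := Nat.card_pos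
    have : Nat.card sq.range * sq.range.index = Nat.card sq.range * Nat.card sq.ker := by
      rw [h2, mul_comm, h1]
    exact Nat.eq_of_mul_eq_mul_left hpos this
  obtain ⟨k, hk⟩ := IsPGroup.iff_card.mp ((h.pg.to_quotient (g3Fix t)).to_subgroup sq.ker)
  have hd4 : (Subgroup.center T).index ∣ 4 := by
    rw [hidx2] at hidx1
    exact hidx1.trans (g3_pow2_le4 _ k hk hker4)
  have hci := Subgroup.card_mul_index (Subgroup.center T)
  have hTm := f3_card_mod3_top h.f
  have hZm := f3_card_mod3 h.f _ (r2Inv_center (α := ρ))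
  have hle : (Subgroup.center T).index ≤ 4 := Nat.le_of_dvd (by norm_num) hd4
  have hcases : (Subgroup.center T).index = 1 ∨ (Subgroup.center T).index = 2 ∨
      (Subgroup.center T).index = 4 := by
    have hpos : 0 < (Subgroup.center T).index := Nat.pos_of_dvd_of_pos hd4 (by norm_num)
    interval_cases hi : (Subgroup.center T).index
    · exact Or.inl rfl
    · exact Or.inr (Or.inl rfl)
    · exfalso; norm_num at hd4
    · exact Or.inr (Or.inr rfl)
  rcases hcases with h1 | h1 | h1
  · have htop : Subgroup.center T = ⊤ := Subgroup.index_eq_one.mp h1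
    intro a b
    have : b ∈ Subgroup.center T := by rw [htop]; exact Subgroup.mem_top _
    exact (Subgroup.mem_center_iff.mp this) a
  · exfalso
    rw [h1] at hci
    omega
  · exfalso
    rw [h1] at hci
    exact f3_no_index4 h.f (by rw [← hci, mul_comm])

end lift

section big
variable {T : Type*} [Group T] [Finite T] {ρ t : MulAut T}

theorem g3_no256 (h : G3Hyp T ρ t) (h4 : Nat.card (g3Fix t) = 4) [(g3Fix t).Normal]
    (hq64 : Nat.card (T ⧸ g3Fix t) = 64) (hqna : ∃ a b : T ⧸ g3Fix t, a * b ≠ b * a) : False := by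
  haveI : Fact (Nat.Prime 2) := ⟨Nat.prime_two⟩
  have hVcen := g3_fix_central h h4
  have hq := g3_quot_hyp h
  have stq := f3_struct64 hq.f hq64 hqna
  have hT256 : Nat.card T = 256 := by
    rw [Subgroup.card_eq_card_quotient_mul_card_subgroup (g3Fix t), hq64, h4]
  set W : Subgroup T := (Subgroup.center (T ⧸ g3Fix t)).comap (QuotientGroup.mk' (g3Fix t))
    with hW
  have hmemW : ∀ x : T, x ∈ W ↔ (QuotientGroup.mk x : T ⧸ g3Fix t) ∈
      Subgroup.center (T ⧸ g3Fix t) := fun x => Iff.rfl
  have hWinv : r2Inv ρ W := by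
    intro x hx
    rw [hmemW] at hx ⊢
    rw [← f3quot_mk (g3Fix t) (g3Fix_inv h)]
    exact r2Inv_center _ hx
  have hW16 : Nat.card W = 16 := by
    have h1 : W.index = (Subgroup.center (T ⧸ g3Fix t)).index :=
      Subgroup.index_comap_of_surjective _ (QuotientGroup.mk'_surjective _)
    have h2 := Subgroup.card_mul_index (Subgroup.center (T ⧸ g3Fix t))
    rw [stq.cen4, hq64] at h2
    have h3 := Subgroup.card_mul_index W
    rw [h1, hT256] at h3
    have : (Subgroup.center (T ⧸ g3Fix t)).index = 16 := by omega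
    rw [this] at h3
    omega
  have hWab : ∀ a ∈ W, ∀ b ∈ W, a * b = b * a := by
    intro a ha b hb
    have := f3_comm_small (f3_res h.f W hWinv) (h.pg.to_subgroup W) (by rw [hW16])
      ⟨a, ha⟩ ⟨b, hb⟩
    exact congrArg Subtype.val this
  have hcW : ∀ g k : T, r2c g k ∈ W := by
    intro g k
    rw [hmemW, g3_mk_r2c]
    exact stq.cl2 _ _
  -- elements outside W centralise W
  have hout : ∀ b : T, b ∉ W → ∀ w ∈ W, b * w = w * b := by
    intro b hb w hw
    rw [hmemW] at hb hw
    set ψ := g3CommHom stq.cl2 (QuotientGroup.mk b : T ⧸ g3Fix t) with hψ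
    have hRinv := g3CommHom_range_inv hq.f stq.cl2 (QuotientGroup.mk b : T ⧸ g3Fix t)
    have hRle : ψ.range ≤ Subgroup.center (T ⧸ g3Fix t) := by
      rintro _ ⟨a, rfl⟩
      exact stq.cl2 _ _
    have hRne : Subgroup.center (T ⧸ g3Fix t) ⊓ ψ.range ≠ ⊥ := by
      intro hbot
      apply hb
      rw [Subgroup.mem_center_iff]
      intro g
      have hm : r2c (QuotientGroup.mk b : T ⧸ g3Fix t) g ∈
          Subgroup.center (T ⧸ g3Fix t) ⊓ ψ.range := ⟨stq.cl2 _ _, ⟨g, rfl⟩⟩
      rw [hbot, Subgroup.mem_bot, r2c_eq_one_iff] at hm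
      exact hm.symm
    have hZR := g3_irred hq.f _ _ (r2Inv_center (α := f3quot ρ (g3Fix t) (g3Fix_inv h))) hRinv
      stq.cen4 hRne
    obtain ⟨abar, habar⟩ := hZR hw
    obtain ⟨a, rfl⟩ := QuotientGroup.mk_surjective abar
    have habar' : r2c (QuotientGroup.mk b : T ⧸ g3Fix t) (QuotientGroup.mk a) =
        QuotientGroup.mk w := habar
    rw [← g3_mk_r2c] at habar'
    have hv : (r2c b a)⁻¹ * w ∈ g3Fix t := QuotientGroup.eq.mp habar'
    have hvc := Subgroup.mem_center_iff.mp (hVcen hv)
    have hw' : w = r2c b a * ((r2c b a)⁻¹ * w) := by group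
    rw [hw', ← mul_assoc, f3_engel_comm h.f b a, mul_assoc, mul_assoc, hvc b]
  have hWcen : W ≤ Subgroup.center T := by
    intro w hw
    rw [Subgroup.mem_center_iff]
    intro g
    by_cases hg : g ∈ W
    · exact hWab g hg w hw
    · exact hout g hg w hw
  have hcenW : Subgroup.center T ≤ W := by
    intro z hz
    rw [hmemW, Subgroup.mem_center_iff]
    intro q
    obtain ⟨g, rfl⟩ := QuotientGroup.mk_surjective q
    rw [← QuotientGroup.mk_mul, ← QuotientGroup.mk_mul, (Subgroup.mem_center_iff.mp hz) g]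
  have hcenEq : Subgroup.center T = W := le_antisymm hcenW hWcen
  have hcl : ∀ g k : T, r2c g k ∈ Subgroup.center T := fun g k => hWcen (hcW g k)
  have hidx : Nat.card T = 16 * Nat.card (Subgroup.center T) := by
    rw [hcenEq, hW16, hT256]
  obtain ⟨L, hLρ, hL4, hLall, hLcomm⟩ := g3_class2_comm_small h.f h.pg hcl hidx
  have hLt : r2Inv t L := by
    intro l hl
    obtain ⟨a, b, rfl⟩ := hLcomm l hl
    rw [r2c_map]
    exact hLall _ _
  obtain ⟨abar, bbar, hab⟩ := hqna
  obtain ⟨a, rfl⟩ := QuotientGroup.mk_surjective abar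
  obtain ⟨b, rfl⟩ := QuotientGroup.mk_surjective bbar
  have hLne : L ≠ ⊥ := by
    intro hbot
    apply hab
    have hm := hLall a b
    rw [hbot, Subgroup.mem_bot, r2c_eq_one_iff] at hm
    rw [← QuotientGroup.mk_mul, ← QuotientGroup.mk_mul, hm]
  obtain ⟨x, hxL, hx1, hxf⟩ := g3_exists_fixed h L hLt hLne
  have hVL : g3Fix t ≤ L := by
    apply g3_irred h.f _ _ (g3Fix_inv h) hLρ h4
    intro hbot
    apply hx1
    have : x ∈ g3Fix t ⊓ L := ⟨hxf, hxL⟩
    rw [hbot] at this
    exact Subgroup.mem_bot.mp this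
  have hVeq : g3Fix t = L := Subgroup.eq_of_le_of_card_ge hVL (by rw [h4]; exact hL4)
  apply hab
  have hm : r2c a b ∈ g3Fix t := by rw [hVeq]; exact hLall a b
  have : (QuotientGroup.mk (r2c a b) : T ⧸ g3Fix t) = 1 := (QuotientGroup.eq_one_iff _).mpr hm
  rw [g3_mk_r2c, r2c_eq_one_iff] at this
  exact this

end big

/-- the order of a non-abelian group -/
theorem g3_card64 : ∀ (n : ℕ) (T : Type u) [Group T] [Finite T] (ρ t : MulAut T),
    Nat.card T = n → G3Hyp T ρ t → Nat.card (g3Fix t) ≤ 4 → (∃ a b : T, a * b ≠ b * a) →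
    Nat.card T = 64 := by
  intro n
  induction n using Nat.strong_induction_on with
  | _ n ih =>
    intro T _ _ ρ t hn h hle hna
    haveI : Nontrivial T := by
      obtain ⟨a, b, hab⟩ := hna
      exact ⟨⟨a * b, b * a, hab⟩⟩
    have h4 := g3_fix_card h hle
    haveI := g3_fix_normal h h4
    have hq := g3_quot_hyp h
    have hq4 := g3_quot_fix_le h h4
    have hcard : Nat.card T = Nat.card (T ⧸ g3Fix t) * 4 := by
      rw [Subgroup.card_eq_card_quotient_mul_card_subgroup (g3Fix t), h4]
    by_cases hqc : ∀ a b : T ⧸ g3Fix t, a * b = b * a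
    · by_cases hnt : Nontrivial (T ⧸ g3Fix t)
      · have hq4' := g3_fix_card hq hq4
        rcases g3_abelian hq hq4' hqc with ⟨h16, -⟩ | hΩ
        · rw [hcard, h16]
        · exfalso
          obtain ⟨a, b, hab⟩ := hna
          exact hab (g3_lift_abelian h h4 hqc hΩ a b)
      · exfalso
        rw [not_nontrivial_iff_subsingleton] at hnt
        obtain ⟨a, b, hab⟩ := hna
        apply hab
        have hmem : ∀ x : T, x ∈ g3Fix t := by
          intro x
          rw [← QuotientGroup.eq_one_iff]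
          exact Subsingleton.elim _ _
        have hb := g3_fix_central h h4 (hmem b)
        exact (Subgroup.mem_center_iff.mp hb) a
    · exfalso
      push Not at hqc
      have hlt : Nat.card (T ⧸ g3Fix t) < n := by
        rw [← hn, hcard]
        have : 0 < Nat.card (T ⧸ g3Fix t) := Nat.card_pos
        omega
      have h64 := ih _ hlt (T ⧸ g3Fix t) _ _ rfl hq hq4 hqc
      exact g3_no256 h h4 h64 hqc

end Cfsg.Agent.Lib.Helper9
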