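import Mathlib
import Cfsg.Agent.Lib.Helper9.G3E

set_option autoImplicit false

/-! Groups of order 64 and the final classification. -/

namespace Cfsg.Agent.Lib.Helper9

open Cfsg.Agent.Lib.Lead.F4

section sixtyfour
variable {T : Type*} [Group T] [Finite T] {ρ : MulAut T}

theorem g3_center_four (h : F3Hyp T ρ) (st : F3Str T) (c : T) (hc : c ∈ Subgroup.center T)
    (hc1 : c ≠ 1) (z : T) (hz : z ∈ Subgroup.center T) :
    z = 1 ∨ z = c ∨ z = ρ c ∨ z = ρ (ρ c) := by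
  have hρc : ρ c ∈ Subgroup.center T := r2Inv_center _ hc
  have hρρc : ρ (ρ c) ∈ Subgroup.center T := r2Inv_center _ hρc
  have n1 : ρ c ≠ 1 := fun hh => hc1 (ρ.injective (by rw [hh, map_one]))
  have n2 : ρ (ρ c) ≠ 1 := fun hh => n1 (ρ.injective (by rw [hh, map_one]))
  have n3 : c ≠ ρ c := fun hh => hc1 (h.fpf c hh.symm)
  have n4 : ρ c ≠ ρ (ρ c) := fun hh => n3 (ρ.injective hh)
  have n5 : c ≠ ρ (ρ c) := by
    intro hh
    apply n3
    have := congrArg ρ hh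
    rw [h.ord3] at this
    exact this.symm
  have := f3_four_exhaust st.cen4 (1 : ↥(Subgroup.center T)) ⟨c, hc⟩ ⟨ρ c, hρc⟩ ⟨ρ (ρ c), hρρc⟩
    (fun hh => hc1 (congrArg Subtype.val hh).symm)
    (fun hh => n1 (congrArg Subtype.val hh).symm)
    (fun hh => n2 (congrArg Subtype.val hh).symm)
    (fun hh => n3 (congrArg Subtype.val hh))
    (fun hh => n5 (congrArg Subtype.val hh))
    (fun hh => n4 (congrArg Subtype.val hh)) ⟨z, hz⟩
  rcases this with h1 | h1 | h1 | h1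
  · exact Or.inl (congrArg Subtype.val h1)
  · exact Or.inr (Or.inl (congrArg Subtype.val h1))
  · exact Or.inr (Or.inr (Or.inl (congrArg Subtype.val h1)))
  · exact Or.inr (Or.inr (Or.inr (congrArg Subtype.val h1)))

theorem g3_pair_of_noncentral (h : F3Hyp T ρ) (st : F3Str T) (e : T) (he : e * e = 1)
    (hec : e ∉ Subgroup.center T) : ∃ f : T, f * f = 1 ∧ r2c e f ≠ 1 := by
  rw [Subgroup.mem_center_iff] at hec
  push Not at hec
  obtain ⟨f0, hf0⟩ := hec
  have hc1 : r2c e f0 ≠ 1 := fun hh => hf0 ((r2c_eq_one_iff e f0).mp hh).symm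
  set c := r2c e f0 with hc
  have hcZ : c ∈ Subgroup.center T := st.cl2 e f0
  have hρcZ : ρ c ∈ Subgroup.center T := r2Inv_center _ hcZ
  have hρρcZ : ρ (ρ c) ∈ Subgroup.center T := r2Inv_center _ hρcZ
  have hz0Z : f0 * f0 ∈ Subgroup.center T := by rw [← pow_two]; exact st.sq f0
  have hsq : ∀ z ∈ Subgroup.center T, z * z = 1 := by
    intro z hz; rw [← pow_two]; exact st.cen2 z hz
  have hself : ∀ a : T, r2c a a = 1 := fun a => (r2c_eq_one_iff a a).mpr rfl
  have hρe2 : ρ e * ρ e = 1 := by rw [← map_mul, he, map_one]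
  have heρe : e * ρ e = ρ e * e := r2_ord3_comm h.fpf h.ord3 e
  have hcomm1 : r2c e (ρ e) = 1 := (r2c_eq_one_iff _ _).mpr heρe
  have hsqmul : ∀ u : T, u * u = 1 → (f0 * u) * (f0 * u) = r2c u f0 * (f0 * f0) := by
    intro u hu
    have := r2_sq_mul f0 u (st.cl2 u f0)
    rw [pow_two, pow_two, pow_two, hu, mul_one] at this
    exact this
  have k1 : r2c (ρ e) f0 = ρ (ρ c) := f3_I3' h st.cl2 e f0
  have hprod : c * ρ c * ρ (ρ c) = 1 := r2_ord3_prod h.fpf h.ord3 c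
  rcases g3_center_four h st c hcZ hc1 _ hz0Z with h0 | h0 | h0 | h0
  · exact ⟨f0, h0, hc1⟩
  · refine ⟨f0 * e, ?_, ?_⟩
    · rw [hsqmul e he, h0, ← hc, hsq c hcZ]
    · rw [r2c_mul_right _ _ _ (st.cl2 _ _), hself, mul_one]; exact hc1
  · refine ⟨f0 * (e * ρ e), ?_, ?_⟩
    · have hu : (e * ρ e) * (e * ρ e) = 1 := by
        calc (e * ρ e) * (e * ρ e) = e * (ρ e * e) * ρ e := by group
          _ = e * (e * ρ e) * ρ e := by rw [heρe]
          _ = (e * e) * (ρ e * ρ e) := by group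
          _ = 1 := by rw [he, hρe2, one_mul]
      rw [hsqmul _ hu, h0, r2c_mul_left _ _ _ (st.cl2 _ _), ← hc, k1]
      -- c * ρ (ρ c) * ρ c = 1
      have hcomm : ρ (ρ c) * ρ c = ρ c * ρ (ρ c) := f3_Z_comm _ hρρcZ _
      rw [mul_assoc, hcomm, ← mul_assoc]
      exact hprod
    · rw [r2c_mul_right _ _ _ (st.cl2 _ _), r2c_mul_right _ _ _ (st.cl2 _ _), hself, hcomm1,
        mul_one, mul_one]
      exact hc1
  · refine ⟨f0 * ρ e, ?_, ?_⟩
    · rw [hsqmul _ hρe2, h0, k1, hsq _ hρρcZ]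
    · rw [r2c_mul_right _ _ _ (st.cl2 _ _), hcomm1, mul_one]; exact hc1

theorem g3_L34 (h : F3Hyp T ρ) (hT : Nat.card T = 64) (hna : ∃ a b : T, a * b ≠ b * a)
    (e f : T) (he : e * e = 1) (hf : f * f = 1) (hef : r2c e f ≠ 1)
    (P : Sylow 2 (Matrix.ProjectiveSpecialLinearGroup (Fin 3) F4c)) :
    Nonempty (T ≃* ↥(P : Subgroup (Matrix.ProjectiveSpecialLinearGroup (Fin 3) F4c))) := by
  haveI : Fact (Nat.Prime 2) := ⟨Nat.prime_two⟩
  haveI : Finite (Matrix.SpecialLinearGroup (Fin 3) F4c) := Subtype.finite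
  haveI : Finite (Matrix.ProjectiveSpecialLinearGroup (Fin 3) F4c) := Quotient.finite _
  have st := f3_struct64 h hT hna
  have hrel := f3_rel_of_pair h st e f he hf
  have hgen := f3_gen_of_pair h hT e f hef
  obtain ⟨iso⟩ := f3rel_unique hrel hgen hT f3heis_rel f3heis_gen f3heis_card
  obtain ⟨S, ⟨iso2⟩⟩ := f3_sylow_exists
  exact ⟨(iso.trans iso2).trans (Sylow.equiv S P)⟩

theorem g3_r2hyp_of_central (h : F3Hyp T ρ) (hp : IsPGroup 2 T) (st : F3Str T)
    (hall : ∀ x : T, x ^ 2 = 1 → x ∈ Subgroup.center T) : R2Hyp T ρ := by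
  refine ⟨hp, ⟨1, f3_pow h⟩, ?_, ?_, ?_⟩
  · intro x hx y
    exact ((Subgroup.mem_center_iff.mp (hall x hx)) y).symm
  · rw [← st.cen4]
    apply Nat.card_congr
    exact Equiv.subtypeEquivRight (fun x => ⟨hall x, st.cen2 x⟩)
  · intro x _ hfix
    exact h.fpf x hfix

end sixtyfour

section final
variable {T : Type*} [Group T] [Finite T] {ρ t : MulAut T}

theorem g3_r2hyp_of_abelian (h : G3Hyp T ρ t) (h4 : Nat.card (g3Fix t) = 4)
    (hc : ∀ a b : T, a * b = b * a) (hΩ : ∀ x : T, x ^ 2 = 1 → t x = x) : R2Hyp T ρ := by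
  refine ⟨h.pg, ⟨1, f3_pow h.f⟩, ?_, ?_, ?_⟩
  · intro x _ y
    exact hc x y
  · rw [← h4]
    apply Nat.card_congr
    exact Equiv.subtypeEquivRight (fun x => ⟨hΩ x, g3_fix_sq h h4 x⟩)
  · intro x _ hfix
    exact h.f.fpf x hfix

theorem g3_main (h : G3Hyp T ρ t) (h4 : Nat.card (g3Fix t) = 4) :
    (Nat.card T = 16 ∧ ∀ x : T, x ^ 2 = 1) ∨
    (∃ n : ℕ, 1 ≤ n ∧
      Nonempty (T ≃* Multiplicative (ZMod (2 ^ n)) × Multiplicative (ZMod (2 ^ n)))) ∨
    (∃ (F : Type) (_ : Field F) (_ : Fintype F), Fintype.card F = 4 ∧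
      ∀ P : Sylow 2 (Matrix.ProjectiveSpecialLinearGroup (Fin 3) F),
        Nonempty (T ≃* ↥(P : Subgroup (Matrix.ProjectiveSpecialLinearGroup (Fin 3) F)))) ∨
    (∃ (F : Type) (_ : Field F) (_ : Fintype F), Fintype.card F = 16 ∧
      ∀ P : Sylow 2 (Cfsg.PSU 3 F 4), Nonempty (T ≃* ↥(P : Subgroup (Cfsg.PSU 3 F 4)))) := by
  haveI : Fact (Nat.Prime 2) := ⟨Nat.prime_two⟩
  by_cases hc : ∀ a b : T, a * b = b * a
  · rcases g3_abelian h h4 hc with h16 | hΩ
    · exact Or.inl h16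
    · right; left
      obtain ⟨n, hn, ⟨iso⟩⟩ := r2_ab_iso (g3_r2hyp_of_abelian h h4 hc hΩ) hc
      exact ⟨n, hn, ⟨iso.trans (MulEquiv.prodMultiplicative _ _)⟩⟩
  · push Not at hc
    have hT := g3_card64 _ T ρ t rfl h (le_of_eq h4) hc
    have st := f3_struct64 h.f hT hc
    right; right
    by_cases hall : ∀ x : T, x ^ 2 = 1 → x ∈ Subgroup.center T
    · right
      have hR := g3_r2hyp_of_central h.f h.pg st hall
      letI : Fintype (GaloisField 2 4) := Fintype.ofFinite _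
      refine ⟨GaloisField 2 4, inferInstance, inferInstance, ?_, ?_⟩
      · rw [← Nat.card_eq_fintype_card, GaloisField.card 2 4 (by norm_num)]; norm_num
      · intro P
        exact r2_nonab_iso hR hc (by
          rw [← Nat.card_eq_fintype_card, GaloisField.card 2 4 (by norm_num)]; norm_num) P
    · left
      push Not at hall
      obtain ⟨e, he2, hec⟩ := hall
      rw [pow_two] at he2
      obtain ⟨f, hf, hef⟩ := g3_pair_of_noncentral h.f st e he2 hec
      exact ⟨F4c, inferInstance, inferInstance, by decide,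
        fun P => g3_L34 h.f hT hc e f he2 hf hef P⟩

end final

end Cfsg.Agent.Lib.Helper9
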