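import Mathlib
import Cfsg.Agent.Lib.Helper9.G3F

set_option autoImplicit false

/-! From normalising elements to automorphisms. -/

namespace Cfsg.Agent.Lib.Helper9

section conj
variable {G : Type*} [Group G]

/-- conjugation by a normalising element, as an automorphism of the subgroup -/
def g3Conj (T : Subgroup G) (g : G) (hg : g ∈ Subgroup.normalizer (T : Set G)) : MulAut ↥T where
  toFun x := ⟨g * x * g⁻¹, (Subgroup.mem_normalizer_iff.mp hg x).mp x.2⟩
  invFun x := ⟨g⁻¹ * x * g, by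
    apply (Subgroup.mem_normalizer_iff.mp hg (g⁻¹ * x * g)).mpr
    have : g * (g⁻¹ * x * g) * g⁻¹ = x := by group
    rw [this]; exact x.2⟩
  left_inv x := Subtype.ext (by show g⁻¹ * (g * x * g⁻¹) * g = x; group)
  right_inv x := Subtype.ext (by show g * (g⁻¹ * x * g) * g⁻¹ = x; group)
  map_mul' x y := Subtype.ext (by
    show g * (x * y) * g⁻¹ = (g * x * g⁻¹) * (g * y * g⁻¹); group)

theorem g3Conj_coe (T : Subgroup G) (g : G) (hg : g ∈ Subgroup.normalizer (T : Set G)) (x : ↥T) :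
    ((g3Conj T g hg x : ↥T) : G) = g * x * g⁻¹ := rfl

/-- an element of order dividing 3 fixing a non-identity element of a four-group it normalises
centralises it -/
theorem g3_cent_of_fix [Finite G] (V : Subgroup G) (hV4 : Nat.card V = 4)
    (hV2 : ∀ v ∈ V, v ^ 2 = 1) (ρ : G) (hρ3 : ρ ^ 3 = 1)
    (hρV : ρ ∈ Subgroup.normalizer (V : Set G)) (v : G) (hv : v ∈ V) (hv1 : v ≠ 1)
    (hfix : ρ * v * ρ⁻¹ = v) : ∀ a ∈ V, ρ * a * ρ⁻¹ = a := by
  intro a ha
  by_cases ha1 : a = 1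
  · rw [ha1]; group
  by_cases hav : a = v
  · rw [hav]; exact hfix
  have hinv : ∀ w ∈ V, w⁻¹ = w := by
    intro w hw
    have := hV2 w hw
    rw [pow_two] at this
    exact inv_eq_of_mul_eq_one_left this
  have hσa : ρ * a * ρ⁻¹ ∈ V := (Subgroup.mem_normalizer_iff.mp hρV a).mp ha
  have hex := f3_four_exhaust hV4 (1 : ↥V) ⟨v, hv⟩ ⟨a, ha⟩ ⟨a * v, V.mul_mem ha hv⟩
    (fun hh => hv1 (congrArg Subtype.val hh).symm)
    (fun hh => ha1 (congrArg Subtype.val hh).symm)
    (fun hh => by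
      have h1 : (1 : G) = a * v := congrArg Subtype.val hh
      apply hav
      have : a = v⁻¹ := eq_inv_of_mul_eq_one_left h1.symm
      rw [this, hinv v hv])
    (fun hh => hav (congrArg Subtype.val hh).symm)
    (fun hh => by
      have h1 : v = a * v := congrArg Subtype.val hh
      apply ha1
      have : a * v = 1 * v := by rw [one_mul]; exact h1.symm
      exact mul_right_cancel this)
    (fun hh => by
      have h1 : a = a * v := congrArg Subtype.val hh
      apply hv1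
      have : a * v = a * 1 := by rw [mul_one]; exact h1.symm
      exact mul_left_cancel this)
    ⟨ρ * a * ρ⁻¹, hσa⟩
  rcases hex with h1 | h1 | h1 | h1
  · exfalso
    have h2 : ρ * a * ρ⁻¹ = 1 := congrArg Subtype.val h1
    apply ha1
    have : a = ρ⁻¹ * (ρ * a * ρ⁻¹) * ρ := by group
    rw [this, h2]; group
  · exfalso
    have h2 : ρ * a * ρ⁻¹ = v := congrArg Subtype.val h1
    apply hav
    have e1 : ρ * a * ρ⁻¹ = ρ * v * ρ⁻¹ := by rw [h2, hfix]
    exact mul_left_cancel (mul_right_cancel e1)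
  · exact congrArg Subtype.val h1
  · exfalso
    have h2 : ρ * a * ρ⁻¹ = a * v := congrArg Subtype.val h1
    -- apply conjugation three times
    have h3 : ρ * (a * v) * ρ⁻¹ = a := by
      have : ρ * (a * v) * ρ⁻¹ = (ρ * a * ρ⁻¹) * (ρ * v * ρ⁻¹) := by group
      rw [this, h2, hfix, mul_assoc, ← pow_two, hV2 v hv, mul_one]
    have h4 : ρ ^ 3 * a * (ρ ^ 3)⁻¹ = ρ * (ρ * (ρ * a * ρ⁻¹) * ρ⁻¹) * ρ⁻¹ := by
      rw [pow_succ, pow_two]; group
    rw [h2, h3, h2, hρ3] at h4
    apply hv1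
    have : a * v = a * 1 := by rw [mul_one, ← h4]; group
    exact mul_left_cancel this

end conj

section fixed
variable {T : Type*} [Group T] [Finite T]

/-- an involutory automorphism of a 2-group has a nontrivial fixed point on every
nontrivial invariant subgroup -/
theorem g3_exists_fixed' {t : MulAut T} (hp : IsPGroup 2 T) (hinv2 : ∀ g : T, t (t g) = g)
    (S : Subgroup T) (hS : r2Inv t S) (hne : S ≠ ⊥) : ∃ x ∈ S, x ≠ 1 ∧ t x = x := by
  haveI : Fact (Nat.Prime 2) := ⟨Nat.prime_two⟩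
  let X : Set T := {g | g ∈ S ∧ g ≠ 1}
  have hX : ∀ g, t g ∈ X ↔ g ∈ X := by
    intro g
    show (t g ∈ S ∧ t g ≠ 1) ↔ (g ∈ S ∧ g ≠ 1)
    rw [r2Inv_iff hS]
    constructor
    · rintro ⟨h1, h2⟩
      refine ⟨h1, fun h0 => h2 (by rw [h0, map_one])⟩
    · rintro ⟨h1, h2⟩
      refine ⟨h1, fun h0 => h2 ?_⟩
      apply t.injective
      rw [h0, map_one]
  have hcard := g3_card_nonid S
  obtain ⟨k, hk⟩ := IsPGroup.iff_card.mp (hp.to_subgroup S)
  have hk0 : k ≠ 0 := by
    rintro rfl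
    rw [pow_zero] at hk
    exact hne ((Subgroup.card_eq_one).mp hk)
  have hodd : ¬ 2 ∣ Nat.card X := by
    intro hd
    have h2 : 2 ∣ Nat.card S := by rw [hk]; exact dvd_pow_self 2 hk0
    rw [hcard] at h2
    have hd' : 2 ∣ Nat.card ({g | g ∈ S ∧ g ≠ 1} : Set T) := hd
    omega
  obtain ⟨g, hg, hfix⟩ := g3_exists_fixed_set t hinv2 X hX hodd
  exact ⟨g, hg.1, hg.2, hfix⟩

end fixed

section translate
variable {G : Type*} [Group G] [Finite G]

theorem g3_translate (T V : Subgroup G) (hT : IsPGroup 2 ↥T)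
    (hV : Nat.card ↥V = 4 ∧ ∀ v ∈ V, v ^ 2 = 1) (t ρ : G) (ht : orderOf t = 2)
    (hρ : orderOf ρ = 3)
    (htT : t ∈ Subgroup.normalizer (T : Set G))
    (hρV : ρ ∈ Subgroup.normalizer (V : Set G)) (hρT : ρ ∈ Subgroup.normalizer (T : Set G))
    (htρ : t * ρ = ρ * t) (hVρ : ⁅V, Subgroup.zpowers ρ⁆ = V)
    (hCt : T ⊓ Subgroup.centralizer ({t} : Set G) = V) :
    G3Hyp ↥T (g3Conj T ρ hρT) (g3Conj T t htT) ∧ Nat.card (g3Fix (g3Conj T t htT)) = 4 := by
  have ht2 : t ^ 2 = 1 := by rw [← ht]; exact pow_orderOf_eq_one t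
  have hρ3 : ρ ^ 3 = 1 := by rw [← hρ]; exact pow_orderOf_eq_one ρ
  have hinv2 : ∀ g : ↥T, g3Conj T t htT (g3Conj T t htT g) = g := by
    intro g
    apply Subtype.ext
    rw [g3Conj_coe, g3Conj_coe]
    have : t * (t * (g : G) * t⁻¹) * t⁻¹ = t ^ 2 * g * (t ^ 2)⁻¹ := by rw [pow_two]; group
    rw [this, ht2]; group
  have hord3 : ∀ g : ↥T, g3Conj T ρ hρT (g3Conj T ρ hρT (g3Conj T ρ hρT g)) = g := by
    intro g
    apply Subtype.ext
    rw [g3Conj_coe, g3Conj_coe, g3Conj_coe]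
    have : ρ * (ρ * (ρ * (g : G) * ρ⁻¹) * ρ⁻¹) * ρ⁻¹ = ρ ^ 3 * g * (ρ ^ 3)⁻¹ := by
      rw [pow_succ, pow_two]; group
    rw [this, hρ3]; group
  have hcomm : ∀ g : ↥T, g3Conj T t htT (g3Conj T ρ hρT g) =
      g3Conj T ρ hρT (g3Conj T t htT g) := by
    intro g
    apply Subtype.ext
    rw [g3Conj_coe, g3Conj_coe, g3Conj_coe, g3Conj_coe]
    have e1 : t * (ρ * (g : G) * ρ⁻¹) * t⁻¹ = (t * ρ) * g * (t * ρ)⁻¹ := by group
    have e2 : ρ * (t * (g : G) * t⁻¹) * ρ⁻¹ = (ρ * t) * g * (ρ * t)⁻¹ := by group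
    rw [e1, e2, htρ]
  -- fixed points of t
  have hfixV : ∀ x : ↥T, x ∈ g3Fix (g3Conj T t htT) ↔ (x : G) ∈ V := by
    intro x
    rw [g3_mem_fix, ← hCt, Subgroup.mem_inf, Subgroup.mem_centralizer_singleton_iff]
    constructor
    · intro hx
      refine ⟨x.2, ?_⟩
      have h1 : t * (x : G) * t⁻¹ = x := by
        have := congrArg Subtype.val hx
        rwa [g3Conj_coe] at this
      have : (x : G) * t = (t * x * t⁻¹) * t := by rw [h1]
      rw [this]; group
    · rintro ⟨-, hx⟩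
      apply Subtype.ext
      rw [g3Conj_coe, ← hx]; group
  have hVT : V ≤ T := by rw [← hCt]; exact inf_le_left
  have hcardfix : Nat.card (g3Fix (g3Conj T t htT)) = 4 := by
    rw [← hV.1]
    apply Nat.card_congr
    exact
      { toFun := fun y => ⟨(y.1 : G), (hfixV y.1).mp y.2⟩
        invFun := fun v => ⟨⟨v.1, hVT v.2⟩, (hfixV _).mpr v.2⟩
        left_inv := fun y => rfl
        right_inv := fun v => rfl }
  -- ρ is fixed-point-free
  have hfpf : ∀ g : ↥T, g3Conj T ρ hρT g = g → g = 1 := by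
    intro g hg
    by_contra hg1
    set F := g3Fix (g3Conj T ρ hρT) with hF
    have hFne : F ≠ ⊥ := by
      intro hb
      apply hg1
      have : g ∈ F := hg
      rw [hb] at this
      exact Subgroup.mem_bot.mp this
    have hFt : r2Inv (g3Conj T t htT) F := by
      intro y hy
      show g3Conj T ρ hρT (g3Conj T t htT y) = g3Conj T t htT y
      rw [← hcomm, show g3Conj T ρ hρT y = y from hy]
    obtain ⟨z, hzF, hz1, hzt⟩ := g3_exists_fixed' hT hinv2 F hFt hFne
    have hzV : (z : G) ∈ V := (hfixV z).mp hzt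
    have hzρ : ρ * (z : G) * ρ⁻¹ = z := by
      have := congrArg Subtype.val (show g3Conj T ρ hρT z = z from hzF)
      rwa [g3Conj_coe] at this
    have hz1' : (z : G) ≠ 1 := fun hh => hz1 (Subtype.ext hh)
    have hcent := g3_cent_of_fix V hV.1 hV.2 ρ hρ3 hρV z hzV hz1' hzρ
    have hbot : ⁅V, Subgroup.zpowers ρ⁆ = ⊥ := by
      rw [Subgroup.commutator_eq_bot_iff_le_centralizer]
      intro a ha
      rw [Subgroup.mem_centralizer_iff]
      rintro _ ⟨k, rfl⟩
      have hc : Commute ρ a := by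
        have := hcent a ha
        show ρ * a = a * ρ
        have e : ρ * a = (ρ * a * ρ⁻¹) * ρ := by group
        rw [e, this]
      exact (hc.zpow_left k).eq
    rw [hbot] at hVρ
    have : Nat.card (⊥ : Subgroup G) = 4 := by rw [hVρ]; exact hV.1
    simp at this
  exact ⟨⟨⟨hord3, hfpf⟩, hT, hinv2, hcomm⟩, hcardfix⟩

end translate

end Cfsg.Agent.Lib.Helper9
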