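import Mathlib
import Cfsg.Agent.Lib.Helper20.GLE.Defs
import Cfsg.Agent.Lib.Helper20.GLE.DefsP
import Cfsg.Agent.Lib.helper23.SPMP01

/-!
# Project GLE (designer helper20, S2291), row P9 (helper9), VERBATIM: `pres_abstract` (port of `Helper9.SPMP09`)
-/

set_option autoImplicit false

namespace Cfsg.Agent.Lib.Helper20.GLE

open Cfsg.Agent.Lib.helper3.STC (ng ab)
open Cfsg.Agent.Lib.helper3.SPM (Pts pe sgm sn sig2 ptsFin pe2 inN inL evG evN evL)
open Cfsg.Agent.Lib.Helper27.STU
open Cfsg.Agent.Lib.helper17.SLP (cm)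

universe u v w x v' y

section P

variable {F : Type u} [Field F] [StarRing F] {L : Type x} [Group L] {ι : Type w} [Fintype ι] [DecidableEq ι] {k : ℕ}
  (S₂ : SysU F False (Fin 2) L) (swL : L) (ζ : F)

/-- P9 [M]  model SPM P9: the abstract side of the amalgam presentation. -/
theorem pres_abstract (gL : Fin 6 → L) (relsN : Set (FreeGroup (Fin k))) (eN : PresentedGroup relsN ≃* Equiv.Perm ι)
    (wN : Equiv.Perm ι → FreeGroup (Fin k)) (hwN : ∀ σ, eN (PresentedGroup.mk relsN (wN σ)) = σ)
    (L6 : Finset (FreeGroup (Fin 6)))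
    (hL : ∀ (G : Type) [Group G] (g : Fin 6 → G), (∀ r ∈ L6, evL g r = 1) → ∃ φ : L →* G, ∀ i, φ (gL i) = g i)
    (wL : L → FreeGroup (Fin 6)) (hwL : ∀ m, evL gL (wL m) = m)
    (rels : Set (FreeGroup (Fin (k + 6)))) (hN : ∀ r ∈ relsN, inN r ∈ rels) (hLr : ∀ r ∈ L6, inL r ∈ rels) :
    ∃ (ν : Equiv.Perm ι →* PresentedGroup rels) (lam : L →* PresentedGroup rels),
      (∀ σ, ν σ = evN (fun i => PresentedGroup.of (Fin.castAdd 6 i)) (wN σ)) ∧
      (∀ m, lam m = evL (fun i => PresentedGroup.of (Fin.natAdd k i)) (wL m)) ∧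
      Subgroup.closure (Set.range ν ∪ Set.range lam) = ⊤ ∧
      ∀ x : FreeGroup (Fin (k + 6)), evG (fun i => (PresentedGroup.of (Fin.castAdd 6 i) : PresentedGroup rels))
        (fun i => PresentedGroup.of (Fin.natAdd k i)) x = PresentedGroup.mk rels x := by
  set s : Fin k → PresentedGroup rels := fun i => PresentedGroup.of (Fin.castAdd 6 i) with hs
  set g : Fin 6 → PresentedGroup rels := fun i => PresentedGroup.of (Fin.natAdd k i) with hg
  -- the evaluation at the generators is the quotient map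
  have hev : ∀ x : FreeGroup (Fin (k + 6)), evG s g x = PresentedGroup.mk rels x := by
    have hh : evG s g = PresentedGroup.mk rels := by
      apply FreeGroup.ext_hom
      intro i
      simp only [evG, FreeGroup.lift_apply_of]
      refine Fin.addCases (fun j => ?_) (fun j => ?_) i
      · rw [Fin.append_left]; rfl
      · rw [Fin.append_right]; rfl
    exact fun x => DFunLike.congr_fun hh x
  have hone : ∀ r ∈ rels, PresentedGroup.mk rels r = 1 := fun r hr => PresentedGroup.one_of_mem hr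
  -- `ν`
  have hrelN : ∀ r ∈ relsN, FreeGroup.lift s r = 1 := by
    intro r hr
    have h1 : FreeGroup.lift s r = evN s r := rfl
    rw [h1, ← Cfsg.Agent.Lib.helper3.SPM.evG_inN s g, hev]
    exact hone _ (hN r hr)
  set ψ : PresentedGroup relsN →* PresentedGroup rels := PresentedGroup.toGroup hrelN with hψ
  have hψmk : ∀ x : FreeGroup (Fin k), ψ (PresentedGroup.mk relsN x) = evN s x := fun x => rfl
  have hψof : ∀ i : Fin k, ψ (PresentedGroup.of i) = s i := fun i => PresentedGroup.toGroup.of hrelN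
  set ν : Equiv.Perm ι →* PresentedGroup rels := ψ.comp eN.symm.toMonoidHom with hνdef
  have hν : ∀ σ, ν σ = evN s (wN σ) := by
    intro σ
    have h1 : eN.symm σ = PresentedGroup.mk relsN (wN σ) := by
      rw [MulEquiv.symm_apply_eq, hwN]
    show ψ (eN.symm σ) = _
    rw [h1, hψmk]
  -- `lam`
  have hrelL : ∀ r ∈ L6, evL g r = 1 := by
    intro r hr
    rw [← Cfsg.Agent.Lib.helper3.SPM.evG_inL s g, hev]
    exact hone _ (hLr r hr)
  obtain ⟨lam, hlam0⟩ := hL (PresentedGroup rels) g hrelL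
  have hlam : ∀ m, lam m = evL g (wL m) := by
    intro m
    conv_lhs => rw [← hwL m]
    rw [Cfsg.Agent.Lib.helper3.SPM.evL_map]
    congr 2
    funext i
    exact hlam0 i
  refine ⟨ν, lam, hν, hlam, ?_, hev⟩
  -- generation
  rw [eq_top_iff, ← PresentedGroup.closure_range_of rels, Subgroup.closure_le]
  rintro _ ⟨i, rfl⟩
  apply Subgroup.subset_closure
  refine Fin.addCases (fun j => ?_) (fun j => ?_) i
  · left
    refine ⟨eN (PresentedGroup.of j), ?_⟩
    show ψ (eN.symm (eN (PresentedGroup.of j))) = _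
    rw [eN.symm_apply_apply, hψof]
  · right
    exact ⟨gL j, hlam0 j⟩

end P

end Cfsg.Agent.Lib.Helper20.GLE
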