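import Mathlib
import Cfsg.Agent.Lib.Helper20.GLE.Defs
import Cfsg.Agent.Lib.Helper20.GLE.DefsP
import Cfsg.Agent.Lib.helper23.SPMP01
import Cfsg.Agent.Lib.Helper24.SPMP07
import Cfsg.Agent.Lib.Helper21.SPM.P06
import Cfsg.Agent.Lib.Helper22.GLEP4
import Cfsg.Agent.Lib.Helper11.GLEP5
import Cfsg.Agent.Lib.Helper26.GLEP3
import Cfsg.Agent.Lib.Helper9.GLEP9

/-!
# Project GLE (designer helper20, S2291), row P12 (helper9): core of `gle_pres_core` on the statement of Y8 `iso_of_glue`
(P3 P4 P5 P6 P9 P10 P11 and SPM P01 P06 P07 imported).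
-/

set_option autoImplicit false

namespace Cfsg.Agent.Lib.Helper20.GLE

open Cfsg.Agent.Lib.helper3.STC (ng ab)
open Cfsg.Agent.Lib.helper3.SPM (Pts pe sgm sn sig2 ptsFin pe2 inN inL evG evN evL)
open Cfsg.Agent.Lib.Helper27.STU
open Cfsg.Agent.Lib.helper17.SLP (cm)

universe u v w x v' y

section P

variable {F : Type u} [Field F] [StarRing F] {L : Type x} [Group L] {ι : Type w} [Fintype ι] [DecidableEq ι] {k : ℕ}
  (S₂ : SysU F False (Fin 2) L) (swL : L) (ζ : F)

/-- core of P12 on the statement of Y8 (at `G : Type`, with `hF H hU` and the target data already applied) -/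
theorem glep12_core (p : Pts ι) (relsN : Finset (FreeGroup (Fin k)))
    (eN : PresentedGroup (↑relsN : Set (FreeGroup (Fin k))) ≃* Equiv.Perm ι)
    (relsL : Finset (FreeGroup (Fin 6))) (eL : PresentedGroup (↑relsL : Set (FreeGroup (Fin 6))) ≃* L)
    (b : Fin 3 → L) (hb : ∀ i, b i ∈ B1 S₂) (hB : (B1 S₂ : Set L) ⊆ Subgroup.closure (Set.range b))
    {M : Type v'} [Group M]
    (ν₀ : Equiv.Perm ι →* M) (lam₀ : L →* M) (hglue₀ : Glue S₂ swL ζ p ν₀ lam₀)
    (hY8 : ∀ (G : Type) [Group G] (ν : Equiv.Perm ι →* G) (lam : L →* G), Glue S₂ swL ζ p ν lam →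
      Subgroup.closure (Set.range ν ∪ Set.range lam) = ⊤ →
      ∀ π : G →* M, π.comp ν = ν₀ → π.comp lam = lam₀ → Function.Bijective π) :
    ∃ rels : Finset (FreeGroup (Fin (k + 6))), rels.card ≤ relsN.card + relsL.card + (if p.o3 = none then 25 else 29) ∧
      Nonempty (PresentedGroup (↑rels : Set (FreeGroup (Fin (k + 6)))) ≃* M) := by
  classical
  obtain ⟨gL, hLM, hgenL, hL⟩ := marked_of_iso relsL eL
  obtain ⟨wL, hwL⟩ := exists_wL gL hgenL
  obtain ⟨wN, hwN⟩ := Cfsg.Agent.Lib.helper3.SPM.exists_wN (↑relsN : Set (FreeGroup (Fin k))) eN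
  obtain ⟨c, d, hc, hd, hcd⟩ := Cfsg.Agent.Lib.helper3.SPM.stab1_gens p
  obtain ⟨c', d', hc', hd', hcd'⟩ := Cfsg.Agent.Lib.helper3.SPM.stab01_gens p
  set W := wordsGlue S₂ swL ζ p wN wL c d c' d' b with hW
  set rels : Finset (FreeGroup (Fin (k + 6))) := relsN.image inN ∪ relsL.image inL ∪ W.toFinset with hrels
  have hmemN : ∀ r ∈ (↑relsN : Set (FreeGroup (Fin k))), inN r ∈ (↑rels : Set (FreeGroup (Fin (k + 6)))) := by
    intro r hr
    simp only [hrels, Finset.coe_union, Finset.coe_image, Set.mem_union, Set.mem_image, Finset.mem_coe]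
    exact Or.inl (Or.inl ⟨r, hr, rfl⟩)
  have hmemL : ∀ r ∈ relsL, inL r ∈ (↑rels : Set (FreeGroup (Fin (k + 6)))) := by
    intro r hr
    simp only [hrels, Finset.coe_union, Finset.coe_image, Set.mem_union, Set.mem_image, Finset.mem_coe]
    exact Or.inl (Or.inr ⟨r, hr, rfl⟩)
  have hmemW : ∀ r ∈ W, r ∈ (↑rels : Set (FreeGroup (Fin (k + 6)))) := by
    intro r hr
    simp only [hrels, Finset.coe_union, Set.mem_union, Finset.mem_coe, List.mem_toFinset]
    exact Or.inr hr
  refine ⟨rels, ?_, ?_⟩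
  · have h1 : (relsN.image (inN (k := k))).card ≤ relsN.card := Finset.card_image_le
    have h2 : (relsL.image (inL (k := k))).card ≤ relsL.card := Finset.card_image_le
    have h3 : W.toFinset.card ≤ (if p.o3 = none then 25 else 29) := by
      refine (List.toFinset_card_le _).trans ?_
      rw [hW, wordsGlue_length]
    have h4 := Finset.card_union_le (relsN.image (inN (k := k)) ∪ relsL.image (inL (k := k))) W.toFinset
    have h5 := Finset.card_union_le (relsN.image (inN (k := k))) (relsL.image (inL (k := k)))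
    rw [hrels]; omega
  · obtain ⟨ν, lam, hν, hlam, hgen, hev⟩ :=
      pres_abstract gL (↑relsN : Set (FreeGroup (Fin k))) eN wN hwN relsL hL wL hwL
        (↑rels : Set (FreeGroup (Fin (k + 6)))) hmemN hmemL
    have hone : ∀ r ∈ (↑rels : Set (FreeGroup (Fin (k + 6)))),
        PresentedGroup.mk (↑rels : Set (FreeGroup (Fin (k + 6)))) r = 1 := fun r hr => PresentedGroup.one_of_mem hr
    have hrelW : ∀ r ∈ wordsGlue S₂ swL ζ p wN wL c d c' d' b,
        evG (fun i => (PresentedGroup.of (Fin.castAdd 6 i) : PresentedGroup (↑rels : Set (FreeGroup (Fin (k + 6))))))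
          (fun i => PresentedGroup.of (Fin.natAdd k i)) r = 1 := by
      intro r hr
      rw [hev]
      exact hone r (hmemW r hr)
    have HG : Glue S₂ swL ζ p ν lam :=
      glue_of_words S₂ swL ζ p wN wL c d c' d' b hcd hcd' hB _ _ ν lam hν hlam hrelW
    obtain ⟨h1, h2, h3, h4, h5⟩ :=
      pres_target S₂ swL ζ p gL (↑relsN : Set (FreeGroup (Fin k))) eN wN hwN relsL hLM wL hwL c d c' d' b
        hc hd hc' hd' hb ν₀ lam₀ hglue₀
    set s : Fin k → M := fun i => ν₀ (eN (PresentedGroup.of i)) with hs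
    set g : Fin 6 → M := fun i => lam₀ (gL i) with hg
    have hΦrel : ∀ r ∈ (↑rels : Set (FreeGroup (Fin (k + 6)))), FreeGroup.lift (Fin.append s g) r = 1 := by
      intro r hr
      simp only [hrels, Finset.coe_union, Finset.coe_image, Set.mem_union, Set.mem_image, Finset.mem_coe,
        List.mem_toFinset] at hr
      rcases hr with (⟨x, hx, rfl⟩ | ⟨x, hx, rfl⟩) | hr
      · exact h1 x hx
      · exact h2 x hx
      · exact h3 r hr
    set Φ : PresentedGroup (↑rels : Set (FreeGroup (Fin (k + 6)))) →* M := PresentedGroup.toGroup hΦrel with hΦ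
    have hΦof : ∀ i : Fin (k + 6), Φ (PresentedGroup.of i) = Fin.append s g i :=
      fun i => PresentedGroup.toGroup.of hΦrel
    have hΦν : Φ.comp ν = ν₀ := by
      ext1 σ
      rw [MonoidHom.comp_apply, hν, Cfsg.Agent.Lib.helper3.SPM.evN_map, h4 σ]
      congr 2
      funext i
      simp only [Function.comp_apply, hΦof, Fin.append_left]
    have hΦlam : Φ.comp lam = lam₀ := by
      ext1 m
      rw [MonoidHom.comp_apply, hlam, Cfsg.Agent.Lib.helper3.SPM.evL_map, h5 m]
      congr 2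
      funext i
      simp only [Function.comp_apply, hΦof, Fin.append_right]
    exact ⟨MulEquiv.ofBijective Φ (hY8 _ ν lam HG hgen Φ hΦν hΦlam)⟩

end P

end Cfsg.Agent.Lib.Helper20.GLE
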