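import Mathlib
import Cfsg.Agent.Lib.Helper20.GLE.Defs
import Cfsg.Agent.Lib.Helper20.GLE.DefsP
import Cfsg.Agent.Lib.Helper9.GLEP12core
import Cfsg.Agent.Lib.helper6.GLEY1

/-!
# Project GLE (designer helper20, S2291), row P12 (helper9), VERBATIM: `gle_pres_core`
= `glep12_core` on helper6's Y8 `iso_of_glue`.
-/

set_option autoImplicit false

namespace Cfsg.Agent.Lib.Helper20.GLE

open Cfsg.Agent.Lib.helper3.STC (ng ab)
open Cfsg.Agent.Lib.helper3.SPM (Pts pe sgm sn sig2 ptsFin pe2 inN inL evG evN evL)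
open Cfsg.Agent.Lib.Helper27.STU
open Cfsg.Agent.Lib.helper17.SLP (cm)

universe u v w x v' y

section P

variable {F : Type u} [Field F] [StarRing F] {L : Type x} [Group L] {ι : Type w} [Fintype ι] [DecidableEq ι] {k : ℕ}
  (S₂ : SysU F False (Fin 2) L) (swL : L) (ζ : F)

/-- P12 [M-L]  assembly (model SPM P12 `spm_pres_core`). -/
theorem gle_pres_core (hF : Hyp F) (hU : UFacts S₂ swL ζ) (p : Pts ι) (relsN : Finset (FreeGroup (Fin k)))
    (eN : PresentedGroup (↑relsN : Set (FreeGroup (Fin k))) ≃* Equiv.Perm ι)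
    (relsL : Finset (FreeGroup (Fin 6))) (eL : PresentedGroup (↑relsL : Set (FreeGroup (Fin 6))) ≃* L)
    (b : Fin 3 → L) (hb : ∀ i, b i ∈ B1 S₂) (hB : (B1 S₂ : Set L) ⊆ Subgroup.closure (Set.range b))
    {M : Type v'} [Group M] (S₀ : SysU F False ι M) {V : Type y} [AddCommGroup V] [Module F V] (R₀ : S₀.Rep V)
    (hgen₀ : S₀.XQ (fun _ _ => True) = ⊤)
    (ν₀ : Equiv.Perm ι →* M) (lam₀ : L →* M) (hglue₀ : Glue S₂ swL ζ p ν₀ lam₀)
    (hxs₀ : ∀ a b t, ab a ≠ ab b → xrs S₂ p ν₀ lam₀ a b t = S₀.xs a b t)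
    (hxl₀ : ∀ a ξ, xrl S₂ p ν₀ lam₀ a ξ = S₀.xl a ξ)
    (hinj : ∀ (G : Type) [Group G] (S : SysU F False ι G) (R : S.Rep V), S.XQ (fun _ _ => True) = ⊤ → Function.Injective R.φ) :
    ∃ rels : Finset (FreeGroup (Fin (k + 6))), rels.card ≤ relsN.card + relsL.card + (if p.o3 = none then 25 else 29) ∧
      Nonempty (PresentedGroup (↑rels : Set (FreeGroup (Fin (k + 6)))) ≃* M) :=
  glep12_core S₂ swL ζ p relsN eN relsL eL b hb hB ν₀ lam₀ hglue₀
    (fun G _ ν lam H hgen π hν hlam =>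
      iso_of_glue S₂ swL ζ p ν lam hF H hU hgen S₀ R₀ hgen₀ π
        (fun a b t hab => by rw [hν, hlam]; exact hxs₀ a b t hab)
        (fun a ξ => by rw [hν, hlam]; exact hxl₀ a ξ)
        (fun S R h => hinj G S R h))

end P

end Cfsg.Agent.Lib.Helper20.GLE
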