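import Mathlib
import Cfsg.Agent.Lib.Helper20.GLE.Defs
import Cfsg.Agent.Lib.Helper20.GLE.DefsP
import Cfsg.Agent.Lib.Helper20.GLE.DefsM
import Cfsg.Agent.Lib.Helper27.STU.Frob
import Cfsg.Agent.Lib.Helper19.MODMain
import Cfsg.Agent.Lib.Helper20.GLEM9
import Cfsg.Agent.Lib.Helper20.GLEU1
import Cfsg.Agent.Lib.Helper11.GLEU4
import Cfsg.Agent.Lib.Helper26.GLEL1
import Cfsg.Agent.Lib.Helper24.STUM3
import Cfsg.Agent.Lib.Helper16.STUH4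
import Cfsg.Agent.Lib.Helper9.SPX.Bridge

/-!
# Project GLE (designer helper20, S2291), row P13 (helper9): core of `glue_even`

From the statements of SU4 FIN5 `su4_main` (`hsu4`), STU K3 `SysU.Rep.injective` (`hK3`) and GLE P12 `gle_pres_core` (`hP12`, at
`L = SU₄(q)`, `ι = Fin m`, `M = SU_{2m}(q)`, `V = Fin (2 m) → F`); everything else is imported: MOD (`exists_ctx sys rep sys_gen`),
block M (`glue_M xrs_M xrl_M sw_mon_M`), block U (`ufacts_of B1_gen3`), `exists_zeta`, STU M4 / H4 (`hW_all hH_all`), `frobStar_hyp`,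
`S_m` on two generators with at most six relators (`Helper9.SPX.sym_two_gen`).  `6 + 35 + 29 = 70 ≤ 77`.
-/

set_option autoImplicit false

namespace Cfsg.Agent.Lib.Helper20.GLE

open Cfsg.Agent.Lib.helper3.STC (ng ab)
open Cfsg.Agent.Lib.helper3.SPM (Pts pe sgm sn sig2 ptsFin pe2 inN inL evG evN evL)
open Cfsg.Agent.Lib.Helper27.STU
open Cfsg.Agent.Lib.helper17.SLP (cm)
open Cfsg.Agent.Lib.Helper19.MOD (Ctx sys rep sys_gen exists_ctx)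

universe u

/-- core of P13 -/
theorem glep13_core {F : Type u} [Field F] [Fintype F] {q : ℕ} (hF : Fintype.card F = q ^ 2) (m : ℕ) (hm : 3 ≤ m)
    (hsu4 : ∃ rels : Finset (FreeGroup (Fin 6)), rels.card ≤ 35 ∧
      Nonempty (PresentedGroup (↑rels : Set (FreeGroup (Fin 6))) ≃* ↥(Cfsg.SU 4 F q)))
    (hK3 : letI := frobStar hF
      ∀ (G : Type) [Group G] (S : SysU F False (Fin m) G) (R : S.Rep (Fin (2 * m) → F)),
        S.XQ (fun _ _ => True) = ⊤ → Function.Injective R.φ)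
    (hP12 : letI := frobStar hF
      ∀ (S₂ : SysU F False (Fin 2) ↥(Cfsg.SU 4 F q)) (swL : ↥(Cfsg.SU 4 F q)) (ζ : F), Hyp F → UFacts S₂ swL ζ →
      ∀ (p : Pts (Fin m)) (relsN : Finset (FreeGroup (Fin 2)))
      (_ : PresentedGroup (↑relsN : Set (FreeGroup (Fin 2))) ≃* Equiv.Perm (Fin m))
      (relsL : Finset (FreeGroup (Fin 6))) (_ : PresentedGroup (↑relsL : Set (FreeGroup (Fin 6))) ≃* ↥(Cfsg.SU 4 F q))
      (b : Fin 3 → ↥(Cfsg.SU 4 F q)), (∀ i, b i ∈ B1 S₂) →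
      ((B1 S₂ : Set ↥(Cfsg.SU 4 F q)) ⊆ Subgroup.closure (Set.range b)) →
      ∀ (S₀ : SysU F False (Fin m) ↥(Cfsg.SU (2 * m) F q)) (_ : S₀.Rep (Fin (2 * m) → F)),
      S₀.XQ (fun _ _ => True) = ⊤ →
      ∀ (ν₀ : Equiv.Perm (Fin m) →* ↥(Cfsg.SU (2 * m) F q)) (lam₀ : ↥(Cfsg.SU 4 F q) →* ↥(Cfsg.SU (2 * m) F q)),
      Glue S₂ swL ζ p ν₀ lam₀ →
      (∀ a b t, ab a ≠ ab b → xrs S₂ p ν₀ lam₀ a b t = S₀.xs a b t) →
      (∀ a ξ, xrl S₂ p ν₀ lam₀ a ξ = S₀.xl a ξ) →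
      (∀ (G : Type) [Group G] (S : SysU F False (Fin m) G) (R : S.Rep (Fin (2 * m) → F)),
        S.XQ (fun _ _ => True) = ⊤ → Function.Injective R.φ) →
      ∃ rels : Finset (FreeGroup (Fin (2 + 6))), rels.card ≤ relsN.card + relsL.card + (if p.o3 = none then 25 else 29) ∧
        Nonempty (PresentedGroup (↑rels : Set (FreeGroup (Fin (2 + 6)))) ≃* ↥(Cfsg.SU (2 * m) F q))) :
    ∃ (k : ℕ) (R : Finset (FreeGroup (Fin k))), R.card ≤ 77 ∧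
      Nonempty (PresentedGroup (↑R : Set (FreeGroup (Fin k))) ≃* ↥(Cfsg.SU (2 * m) F q)) := by
  classical
  letI := frobStar hF
  have hHyp : Hyp F := frobStar_hyp hF
  obtain ⟨C⟩ := exists_ctx hF (2 * m) m False (Or.inl ⟨not_false, rfl⟩)
  obtain ⟨C₂⟩ := exists_ctx hF 4 2 False (Or.inl ⟨not_false, rfl⟩)
  obtain ⟨ζ, hζ⟩ := exists_zeta (F := F) hHyp
  obtain ⟨relsL, hL35, ⟨eL⟩⟩ := hsu4
  obtain ⟨relsN, hN, ⟨eN⟩⟩ := Cfsg.Agent.Lib.Helper9.SPX.sym_two_gen m hm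
  have hN6 : relsN.card ≤ 6 := by
    split_ifs at hN <;> omega
  set S₀ := sys C with hS₀
  set S₂ := sys C₂ with hS₂
  have hgen₀ : S₀.XQ (fun _ _ => True) = ⊤ := sys_gen C hF (by omega)
  have hgen₂ : S₂.XQ (fun _ _ => True) = ⊤ := sys_gen C₂ hF (le_refl 4)
  have hW : S₂.HW := SysU.hW_all S₂
  have hH : S₂.HH := SysU.hH_all S₂ hW
  have hsw : S₂.IsMon (nuM C₂ (Equiv.swap 0 1)) (sgm (Equiv.swap 0 1)) (fun _ => 1) 1 :=
    sw_mon_M C₂ S₂ (fun _ _ _ => rfl) (fun _ _ => rfl)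
  have hU : UFacts S₂ (nuM C₂ (Equiv.swap 0 1)) ζ := ufacts_of S₂ _ ζ hHyp hsw hgen₂ hζ hW hH
  obtain ⟨b, hb, hB⟩ := B1_gen3 S₂ hHyp hW hH
  set p := ptsFin m hm with hp
  have hglue : Glue S₂ (nuM C₂ (Equiv.swap 0 1)) ζ p (nuM C) (lamM C C₂ p) :=
    glue_M C C₂ p S₀ (fun _ _ _ => rfl) (fun _ _ => rfl) S₂ (fun _ _ _ => rfl) (fun _ _ => rfl) ζ
  obtain ⟨rels, hcard, hiso⟩ := hP12 S₂ (nuM C₂ (Equiv.swap 0 1)) ζ hHyp hU p relsN eN relsL eL b hb hB S₀ (rep C) hgen₀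
    (nuM C) (lamM C C₂ p) hglue
    (fun a b t hab => xrs_M C C₂ p S₂ (fun _ _ _ => rfl) hab t)
    (fun a ξ => xrl_M C C₂ p S₂ (fun _ _ => rfl) a ξ) hK3
  refine ⟨2 + 6, rels, ?_, hiso⟩
  have h29 : (if p.o3 = none then 25 else 29) ≤ 29 := by split_ifs <;> omega
  omega

end Cfsg.Agent.Lib.Helper20.GLE
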