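import Mathlib
import Cfsg.Agent.Lib.Helper20.GLE.Defs
import Cfsg.Agent.Lib.Helper20.GLE.DefsP
import Cfsg.Agent.Lib.Helper20.GLE.DefsM
import Cfsg.Agent.Lib.Helper27.STU.Frob
import Cfsg.Agent.Lib.Helper9.GLEP12
import Cfsg.Agent.Lib.Helper9.GLEP13core
import Cfsg.Agent.Lib.Helper18.STUK2
import Cfsg.Agent.Lib.Helper22.SU4FIN5

/-!
# Project GLE (designer helper20, S2291), row P13 (helper9), VERBATIM: `glue_even` = THE END THEOREM of block GLE
= `glep13_core` on SU4 FIN5 `su4_main`, STU K3 `SysU.Rep.injective` (`Helper18.STUK2`) and P12 `gle_pres_core` (`Helper9.GLEP12`).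
-/

set_option autoImplicit false

namespace Cfsg.Agent.Lib.Helper20.GLE

open Cfsg.Agent.Lib.helper3.STC (ng ab)
open Cfsg.Agent.Lib.helper3.SPM (Pts pe sgm sn sig2 ptsFin pe2 inN inL evG evN evL)
open Cfsg.Agent.Lib.Helper27.STU
open Cfsg.Agent.Lib.helper17.SLP (cm)

universe u v w x v' y

/-- P13 [M]  **the end theorem of block GLE**. -/
theorem glue_even {F : Type u} [Field F] [Fintype F] {q : ℕ} (hF : Fintype.card F = q ^ 2) (m : ℕ) (hm : 3 ≤ m) :
    ∃ (k : ℕ) (R : Finset (FreeGroup (Fin k))), R.card ≤ 77 ∧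
      Nonempty (PresentedGroup (↑R : Set (FreeGroup (Fin k))) ≃* ↥(Cfsg.SU (2 * m) F q)) :=
  glep13_core hF m hm (Cfsg.Agent.Lib.Helper22.SU4.su4_main q hF)
    (by
      letI := frobStar hF
      exact fun G _ S R hgen => SysU.Rep.injective (frobStar_hyp hF) R hgen)
    (by
      letI := frobStar hF
      exact fun S₂ swL ζ hHyp hU p relsN eN relsL eL b hb hB S₀ R₀ hgen₀ ν₀ lam₀ hglue hxs hxl hinj =>
        gle_pres_core S₂ swL ζ hHyp hU p relsN eN relsL eL b hb hB S₀ R₀ hgen₀ ν₀ lam₀ hglue hxs hxl hinj)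

end Cfsg.Agent.Lib.Helper20.GLE
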