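import Mathlib
import Cfsg.Prelude.Def_QuasithinSetup
import Cfsg.Agent.Lib.Helper9.FStarP

set_option autoImplicit false

namespace Cfsg.Agent.Lib.Helper9

open Cfsg

variable {G : Type*} [Group G]

theorem he_o2_le (H : Subgroup G) : Cfsg.pCoreTwoOf H ≤ H := by
  unfold Cfsg.pCoreTwoOf
  exact Subgroup.map_subtype_le _

theorem he_o2_isPGroup [Finite G] (H : Subgroup G) : IsPGroup 2 (Cfsg.pCoreTwoOf H) := by
  haveI : Fact (Nat.Prime 2) := ⟨Nat.prime_two⟩
  unfold Cfsg.pCoreTwoOf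
  exact (Cfsg.Agent.Lib.Helper1.pCore_isPGroup (G := ↥H) 2).map H.subtype

theorem he_o2_normalized (H : Subgroup G) : H ≤ Subgroup.normalizer (Cfsg.pCoreTwoOf H : Set G) := by
  intro h hh
  have hn : (Cfsg.pCore 2 ↥H).Normal := Cfsg.Agent.Lib.Helper1.pCore_normal 2
  have key : ∀ g : G, g ∈ H → ∀ x, x ∈ Cfsg.pCoreTwoOf H → g * x * g⁻¹ ∈ Cfsg.pCoreTwoOf H := by
    intro g hg x hx
    unfold Cfsg.pCoreTwoOf at hx ⊢
    obtain ⟨x', hx', rfl⟩ := Subgroup.mem_map.1 hx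
    refine Subgroup.mem_map.2 ⟨(⟨g, hg⟩ : ↥H) * x' * (⟨g, hg⟩ : ↥H)⁻¹, hn.conj_mem x' hx' _, ?_⟩
    simp
  rw [Subgroup.mem_normalizer_iff]
  intro x
  constructor
  · intro hx
    exact key h hh x hx
  · intro hx
    have := key h⁻¹ (H.inv_mem hh) _ hx
    simpa [mul_assoc] using this

theorem he_le_o2 {H V : Subgroup G} (hVH : V ≤ H) (hV : IsPGroup 2 V)
    (hn : H ≤ Subgroup.normalizer (V : Set G)) : V ≤ Cfsg.pCoreTwoOf H := by
  have hnorm : (V.subgroupOf H).Normal := (Subgroup.normal_subgroupOf_iff_le_normalizer hVH).2 hn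
  have hp : IsPGroup 2 (V.subgroupOf H) := hV.comap_subtype
  have hle : V.subgroupOf H ≤ Cfsg.pCore 2 ↥H := Cfsg.Agent.Lib.Helper1.le_pCore hnorm hp
  intro v hv
  unfold Cfsg.pCoreTwoOf
  refine Subgroup.mem_map.2 ⟨⟨v, hVH hv⟩, hle ?_, rfl⟩
  rw [Subgroup.mem_subgroupOf]
  exact hv

/-- internal form of `C_H(O_2(H)) ≤ O_2(H)`. -/
def HeCh2 (H : Subgroup G) : Prop :=
  ∀ y ∈ H, Odd (orderOf y) → (∀ x ∈ Cfsg.pCoreTwoOf H, y * x = x * y) → y = 1

theorem he_eq_one_of_odd_of_two_pow {y : G} (hodd : Odd (orderOf y)) {k : ℕ}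
    (hk : y ^ (2 ^ k) = 1) : y = 1 := by
  have h1 : orderOf y ∣ 2 ^ k := orderOf_dvd_of_pow_eq_one hk
  have h2 : (orderOf y).Coprime (2 ^ k) := (Nat.coprime_two_right.2 hodd).pow_right k
  have h3 : orderOf y = 1 := Nat.Coprime.eq_one_of_dvd h2 h1
  exact orderOf_eq_one_iff.1 h3

theorem heCh2_of_char2 [Finite G] (M : Subgroup G) (h : Cfsg.IsOfCharacteristicTwo ↥M) :
    HeCh2 M := by
  haveI : Fact (Nat.Prime 2) := ⟨Nat.prime_two⟩
  intro y hy hodd hc
  unfold Cfsg.IsOfCharacteristicTwo at h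
  have hmem : (⟨y, hy⟩ : ↥M) ∈ Subgroup.centralizer (Cfsg.pCore 2 ↥M : Set ↥M) := by
    rw [Subgroup.mem_centralizer_iff]
    intro x hx
    have hx' : (x : G) ∈ Cfsg.pCoreTwoOf M := by
      unfold Cfsg.pCoreTwoOf
      exact Subgroup.mem_map.2 ⟨x, hx, rfl⟩
    have := hc (x : G) hx'
    apply Subtype.ext
    simp only [Subgroup.coe_mul]
    exact this.symm
  have h2 := h hmem
  have hpg : IsPGroup 2 (Cfsg.pCore 2 ↥M) := Cfsg.Agent.Lib.Helper1.pCore_isPGroup 2
  obtain ⟨k, hk⟩ := hpg ⟨⟨y, hy⟩, h2⟩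
  have hk' : y ^ (2 ^ k) = 1 := by
    have := congrArg (fun t : ↥(Cfsg.pCore 2 ↥M) => ((t : ↥M) : G)) hk
    simpa using this
  exact he_eq_one_of_odd_of_two_pow hodd hk'

theorem he_mem_normalizer_inf {A B : Subgroup G} {n : G}
    (hA : n ∈ Subgroup.normalizer (A : Set G)) (hB : n ∈ Subgroup.normalizer (B : Set G)) :
    n ∈ Subgroup.normalizer ((A ⊓ B : Subgroup G) : Set G) := by
  rw [Subgroup.mem_normalizer_iff] at hA hB ⊢
  intro h
  rw [Subgroup.mem_inf, Subgroup.mem_inf, hA h, hB h]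

theorem heCh2_normalizer_inf [Finite G] {M U : Subgroup G} (hM : HeCh2 M) (hUM : U ≤ M)
    (hU : IsPGroup 2 U) : HeCh2 (M ⊓ Subgroup.normalizer (U : Set G)) := by
  haveI : Fact (Nat.Prime 2) := ⟨Nat.prime_two⟩
  intro y hy hodd hc
  obtain ⟨hyM, hyN⟩ := Subgroup.mem_inf.1 hy
  set N := M ⊓ Subgroup.normalizer (U : Set G) with hN
  set Q := Cfsg.pCoreTwoOf M with hQ
  have hUN : U ≤ N := le_inf hUM Subgroup.le_normalizer
  have hUO : U ≤ Cfsg.pCoreTwoOf N := he_le_o2 hUN hU inf_le_right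
  have hQN : Q ⊓ Subgroup.normalizer (U : Set G) ≤ Cfsg.pCoreTwoOf N := by
    apply he_le_o2
    · exact inf_le_inf_right _ (he_o2_le M)
    · exact (he_o2_isPGroup M).to_le inf_le_left
    · intro n hn
      obtain ⟨hnM, hnN⟩ := Subgroup.mem_inf.1 hn
      exact he_mem_normalizer_inf (he_o2_normalized M hnM) (Subgroup.le_normalizer hnN)
  have hY : Subgroup.zpowers y = ⊥ := by
    apply eq_bot_of_thompson 2 U Q (Subgroup.zpowers y) hU (he_o2_isPGroup M)
    · rw [Nat.card_zpowers]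
      exact Nat.coprime_two_right.2 hodd
    · exact hUM.trans (he_o2_normalized M)
    · rw [Subgroup.zpowers_le]
      exact he_o2_normalized M hyM
    · intro y' hy' x hx
      obtain ⟨k, rfl⟩ := Subgroup.mem_zpowers_iff.1 hy'
      have : Commute y x := hc x (hUO hx)
      exact (this.zpow_left k).eq
    · intro y' hy' x hx hxU
      obtain ⟨k, rfl⟩ := Subgroup.mem_zpowers_iff.1 hy'
      have hxN : x ∈ Subgroup.normalizer (U : Set G) := by
        apply Subgroup.centralizer_le_normalizer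
        rw [Subgroup.mem_centralizer_iff]
        intro u hu
        exact hxU u hu
      have : Commute y x := hc x (hQN (Subgroup.mem_inf.2 ⟨hx, hxN⟩))
      exact (this.zpow_left k).eq
    · intro hcent
      have hy1 : y = 1 := by
        apply hM y hyM hodd
        intro x hx
        have h1 : y ∈ Subgroup.centralizer (Q : Set G) := hcent (Subgroup.mem_zpowers y)
        rw [Subgroup.mem_centralizer_iff] at h1
        exact (h1 x hx).symm
      rw [hy1]
      simp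
  have : y ∈ Subgroup.zpowers y := Subgroup.mem_zpowers y
  rw [hY, Subgroup.mem_bot] at this
  exact this

end Cfsg.Agent.Lib.Helper9
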