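import Mathlib
import Cfsg.Prelude.Def_QuasithinSetup
import Cfsg.Agent.Lib.Helper9.HeChar

set_option autoImplicit false

namespace Cfsg.Agent.Lib.Helper9

open Cfsg

variable {G : Type*} [Group G]

/-- conjugation formula: if `y` commutes with `c = x⁻¹ y⁻¹ x y` then `y⁻ⁿ x yⁿ = x cⁿ`. -/
theorem he_conj_pow {x y c : G} (hc : c = x⁻¹ * y⁻¹ * x * y) (hyc : y * c = c * y) (n : ℕ) :
    (y ^ n)⁻¹ * x * y ^ n = x * c ^ n := by
  induction n with
  | zero => simp
  | succ n ih =>
    have h1 : (y ^ (n + 1))⁻¹ * x * y ^ (n + 1) = y⁻¹ * ((y ^ n)⁻¹ * x * y ^ n) * y := by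
      rw [pow_succ]
      group
    rw [h1, ih]
    have h2 : y⁻¹ * x * y = x * c := by
      rw [hc]; group
    have h3 : Commute y (c ^ n) := (show Commute y c from hyc).pow_right n
    have h4 : y⁻¹ * (x * c ^ n) * y = (y⁻¹ * x * y) * c ^ n := by
      have : c ^ n * y = y * c ^ n := h3.eq.symm
      calc y⁻¹ * (x * c ^ n) * y = y⁻¹ * x * (c ^ n * y) := by group
        _ = y⁻¹ * x * (y * c ^ n) := by rw [this]
        _ = (y⁻¹ * x * y) * c ^ n := by group
    rw [h4, h2, pow_succ', mul_assoc]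

theorem he_commute_of_odd [Finite G] {x y : G} {k : ℕ} (hodd : Odd (orderOf y))
    (hck : (x⁻¹ * y⁻¹ * x * y) ^ (2 ^ k) = 1)
    (hyc : y * (x⁻¹ * y⁻¹ * x * y) = (x⁻¹ * y⁻¹ * x * y) * y) : y * x = x * y := by
  set c := x⁻¹ * y⁻¹ * x * y with hc
  have h1 := he_conj_pow hc hyc (orderOf y)
  rw [pow_orderOf_eq_one] at h1
  simp only [inv_one, one_mul, mul_one] at h1
  have h2 : c ^ orderOf y = 1 := by
    have : x * c ^ orderOf y = x * 1 := by rw [mul_one]; exact h1.symm
    exact mul_left_cancel this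
  have h3 : orderOf c ∣ orderOf y := orderOf_dvd_of_pow_eq_one h2
  have h4 : Odd (orderOf c) := by
    obtain ⟨m, hm⟩ := h3
    rw [hm] at hodd
    exact (Nat.odd_mul.1 hodd).1
  have h5 : c = 1 := he_eq_one_of_odd_of_two_pow h4 hck
  have h6 : x⁻¹ * y⁻¹ * x * y = 1 := by rw [← hc]; exact h5
  have h7 : y⁻¹ * x * y = x := by
    have : x * (x⁻¹ * y⁻¹ * x * y) = x * 1 := by rw [h6]
    simpa [mul_assoc] using this
  calc y * x = y * (y⁻¹ * x * y) := by rw [h7]
    _ = x * y := by group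

/-- the subgroup `C_H(O_2(H))` is normalized by `H`. -/
theorem he_cent_conj_mem {H : Subgroup G} {h w : G} (hh : h ∈ H)
    (hw : w ∈ H ⊓ Subgroup.centralizer (Cfsg.pCoreTwoOf H : Set G)) :
    h * w * h⁻¹ ∈ H ⊓ Subgroup.centralizer (Cfsg.pCoreTwoOf H : Set G) := by
  obtain ⟨hwH, hwC⟩ := Subgroup.mem_inf.1 hw
  refine Subgroup.mem_inf.2 ⟨H.mul_mem (H.mul_mem hh hwH) (H.inv_mem hh), ?_⟩
  rw [Subgroup.mem_centralizer_iff] at hwC ⊢
  intro r hr
  have hr' : h⁻¹ * r * h ∈ Cfsg.pCoreTwoOf H := by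
    have hn := he_o2_normalized H (H.inv_mem hh)
    rw [Subgroup.mem_normalizer_iff] at hn
    have := (hn r).1 hr
    simpa using this
  have h1 := hwC _ hr'
  calc r * (h * w * h⁻¹) = h * ((h⁻¹ * r * h) * w) * h⁻¹ := by group
    _ = h * (w * (h⁻¹ * r * h)) * h⁻¹ := by rw [h1]
    _ = h * w * h⁻¹ * r := by group

theorem he_cent_normalized (H : Subgroup G) :
    H ≤ Subgroup.normalizer ((H ⊓ Subgroup.centralizer (Cfsg.pCoreTwoOf H : Set G) : Subgroup G) : Set G) := by
  intro h hh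
  rw [Subgroup.mem_normalizer_iff]
  intro w
  constructor
  · intro hw
    exact he_cent_conj_mem hh hw
  · intro hw
    have := he_cent_conj_mem (H.inv_mem hh) hw
    simpa [mul_assoc] using this

/-- `O_2(X) ≤ O_2(H)` when `X ≤ H` is normalized by `H`. -/
theorem he_o2_mono_of_normalized [Finite G] {H X : Subgroup G} (hXH : X ≤ H)
    (hn : H ≤ Subgroup.normalizer (X : Set G)) : Cfsg.pCoreTwoOf X ≤ Cfsg.pCoreTwoOf H := by
  apply he_le_o2 ((he_o2_le X).trans hXH) (he_o2_isPGroup X)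
  -- H normalizes O_2(X)
  have key : ∀ h ∈ H, ∀ w ∈ Cfsg.pCoreTwoOf X, h * w * h⁻¹ ∈ Cfsg.pCoreTwoOf X := by
    intro h hh w hw
    -- the conjugate subgroup
    set W' : Subgroup G := (Cfsg.pCoreTwoOf X).map (MulAut.conj h).toMonoidHom with hW'
    have hW'le : W' ≤ Cfsg.pCoreTwoOf X := by
      apply he_le_o2
      · intro v hv
        obtain ⟨w', hw', rfl⟩ := Subgroup.mem_map.1 hv
        have hnX := hn hh
        rw [Subgroup.mem_normalizer_iff] at hnX
        have := (hnX w').1 (he_o2_le X hw')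
        simpa using this
      · exact (he_o2_isPGroup X).map _
      · intro x hx
        rw [Subgroup.mem_normalizer_iff]
        have hx' : h⁻¹ * x * h ∈ X := by
          have hnX := hn (H.inv_mem hh)
          rw [Subgroup.mem_normalizer_iff] at hnX
          have := (hnX x).1 hx
          simpa using this
        have hnO := he_o2_normalized X hx'
        rw [Subgroup.mem_normalizer_iff] at hnO
        intro v
        constructor
        · intro hv
          obtain ⟨w', hw', rfl⟩ := Subgroup.mem_map.1 hv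
          refine Subgroup.mem_map.2 ⟨(h⁻¹ * x * h) * w' * (h⁻¹ * x * h)⁻¹, (hnO w').1 hw', ?_⟩
          simp only [MulEquiv.coe_toMonoidHom, MulAut.conj_apply]
          group
        · intro hv
          obtain ⟨w', hw', hw'eq⟩ := Subgroup.mem_map.1 hv
          simp only [MulEquiv.coe_toMonoidHom, MulAut.conj_apply] at hw'eq
          have h1 : (h⁻¹ * x * h) * (h⁻¹ * v * h) * (h⁻¹ * x * h)⁻¹ = w' := by
            have : h⁻¹ * (x * v * x⁻¹) * h = w' := by
              rw [← hw'eq]; group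
            rw [← this]; group
          have h2 : h⁻¹ * v * h ∈ Cfsg.pCoreTwoOf X := by
            apply (hnO _).2
            rw [h1]; exact hw'
          refine Subgroup.mem_map.2 ⟨h⁻¹ * v * h, h2, ?_⟩
          simp only [MulEquiv.coe_toMonoidHom, MulAut.conj_apply]
          group
    apply hW'le
    exact Subgroup.mem_map.2 ⟨w, hw, by simp⟩
  intro h hh
  rw [Subgroup.mem_normalizer_iff]
  intro w
  constructor
  · intro hw
    exact key h hh w hw
  · intro hw
    have := key h⁻¹ (H.inv_mem hh) _ hw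
    simpa [mul_assoc] using this

theorem heCh2_of_sub [Finite G] {H H0 : Subgroup G} (hH0 : H0 ≤ H) (h0 : HeCh2 H0)
    (hC : ∀ y ∈ H, (∀ x ∈ Cfsg.pCoreTwoOf H, y * x = x * y) → y ∈ H0) : HeCh2 H := by
  intro y hy hodd hc
  set X : Subgroup G := H ⊓ Subgroup.centralizer (Cfsg.pCoreTwoOf H : Set G) with hX
  have hXH0 : X ≤ H0 := by
    intro w hw
    obtain ⟨hwH, hwC⟩ := Subgroup.mem_inf.1 hw
    rw [Subgroup.mem_centralizer_iff] at hwC
    exact hC w hwH (fun x hx => (hwC x hx).symm)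
  have hyX : y ∈ X := by
    refine Subgroup.mem_inf.2 ⟨hy, ?_⟩
    rw [Subgroup.mem_centralizer_iff]
    intro x hx
    exact (hc x hx).symm
  have hyH0 : y ∈ H0 := hXH0 hyX
  -- X ⊓ O_2(H0) ≤ O_2(H)
  have hXP : X ⊓ Cfsg.pCoreTwoOf H0 ≤ Cfsg.pCoreTwoOf H := by
    refine le_trans ?_ (he_o2_mono_of_normalized (inf_le_left : X ≤ H) (he_cent_normalized H))
    apply he_le_o2 inf_le_left ((he_o2_isPGroup H0).to_le inf_le_right)
    intro x hx
    exact he_mem_normalizer_inf (Subgroup.le_normalizer hx) (he_o2_normalized H0 (hXH0 hx))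
  apply h0 y hyH0 hodd
  intro x hx
  -- c = x⁻¹ y⁻¹ x y ∈ X ⊓ O_2(H0)
  have hcP : x⁻¹ * y⁻¹ * x * y ∈ Cfsg.pCoreTwoOf H0 := by
    have hn := he_o2_normalized H0 (H0.inv_mem hyH0)
    rw [Subgroup.mem_normalizer_iff] at hn
    have h1 : y⁻¹ * x * y ∈ Cfsg.pCoreTwoOf H0 := by
      have := (hn x).1 hx
      simpa using this
    have : x⁻¹ * y⁻¹ * x * y = x⁻¹ * (y⁻¹ * x * y) := by group
    rw [this]
    exact (Cfsg.pCoreTwoOf H0).mul_mem ((Cfsg.pCoreTwoOf H0).inv_mem hx) h1
  have hxH : x ∈ H := hH0 (he_o2_le H0 hx)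
  have hcX : x⁻¹ * y⁻¹ * x * y ∈ X := by
    have h1 : x⁻¹ * y⁻¹ * (x⁻¹)⁻¹ ∈ X := he_cent_conj_mem (H.inv_mem hxH) (X.inv_mem hyX)
    have : x⁻¹ * y⁻¹ * x * y = (x⁻¹ * y⁻¹ * (x⁻¹)⁻¹) * y := by group
    rw [this]
    exact X.mul_mem h1 hyX
  have hcR : x⁻¹ * y⁻¹ * x * y ∈ Cfsg.pCoreTwoOf H := hXP (Subgroup.mem_inf.2 ⟨hcX, hcP⟩)
  obtain ⟨k, hk⟩ := (he_o2_isPGroup H0) ⟨_, hcP⟩
  have hk' : (x⁻¹ * y⁻¹ * x * y) ^ (2 ^ k) = 1 := by
    have := congrArg (fun t : ↥(Cfsg.pCoreTwoOf H0) => (t : G)) hk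
    simpa using this
  exact he_commute_of_odd hodd hk' (hc _ hcR)

theorem heCh2_step [Finite G] {E U : Subgroup G}
    (hE : HeCh2 (Subgroup.normalizer (E : Set G))) (hEU : E ≤ U)
    (hUE : U ≤ Subgroup.normalizer (E : Set G)) (hU : IsPGroup 2 U) :
    HeCh2 (Subgroup.normalizer (U : Set G)) := by
  have h0 := heCh2_normalizer_inf hE hUE hU
  apply heCh2_of_sub (inf_le_right) h0
  intro y hy hc
  refine Subgroup.mem_inf.2 ⟨?_, hy⟩
  have hUO : U ≤ Cfsg.pCoreTwoOf (Subgroup.normalizer (U : Set G)) :=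
    he_le_o2 Subgroup.le_normalizer hU le_rfl
  apply Subgroup.centralizer_le_normalizer
  rw [Subgroup.mem_centralizer_iff]
  intro e he
  exact (hc e (hUO (hEU he))).symm

theorem heCh2_chain [Finite G] {U : Subgroup G} (hU : IsPGroup 2 U) :
    ∀ n : ℕ, ∀ E : Subgroup G, E ≤ U → Nat.card U - Nat.card E ≤ n →
      HeCh2 (Subgroup.normalizer (E : Set G)) → HeCh2 (Subgroup.normalizer (U : Set G)) := by
  haveI : Fact (Nat.Prime 2) := ⟨Nat.prime_two⟩
  intro n
  induction n with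
  | zero =>
    intro E hEU hcard hE
    have h1 : Nat.card E ≤ Nat.card U := Subgroup.card_le_of_le hEU
    have h2 : Nat.card E = Nat.card U := by omega
    have : E = U := Subgroup.eq_of_le_of_card_ge hEU (le_of_eq h2.symm)
    rw [← this]; exact hE
  | succ n ih =>
    intro E hEU hcard hE
    by_cases hEq : E = U
    · rw [← hEq]; exact hE
    · -- normalizer grows
      have hlt : E.subgroupOf U < ⊤ := by
        rw [lt_top_iff_ne_top]
        intro h
        rw [Subgroup.subgroupOf_eq_top] at h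
        exact hEq (le_antisymm hEU h)
      haveI : Group.IsNilpotent ↥U := hU.isNilpotent
      have hnc := Group.normalizerCondition_of_isNilpotent (G := ↥U) (E.subgroupOf U) hlt
      obtain ⟨u, hu1, hu2⟩ := SetLike.exists_of_lt hnc
      set E' : Subgroup G := U ⊓ Subgroup.normalizer (E : Set G) with hE'
      have hEE' : E ≤ E' := le_inf hEU Subgroup.le_normalizer
      have huE' : (u : G) ∈ E' := by
        refine Subgroup.mem_inf.2 ⟨u.2, ?_⟩
        rw [← Subgroup.subgroupOf_normalizer_eq hEU] at hu1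
        exact Subgroup.mem_subgroupOf.1 hu1
      have huE : (u : G) ∉ E := fun h => hu2 (Subgroup.mem_subgroupOf.2 h)
      have hlt' : Nat.card E < Nat.card E' := by
        have h4 : Nat.card E ≤ Nat.card E' := Subgroup.card_le_of_le hEE'
        rcases lt_or_eq_of_le h4 with h5 | h5
        · exact h5
        · exfalso
          have : E = E' := Subgroup.eq_of_le_of_card_ge hEE' (le_of_eq h5.symm)
          exact huE (this ▸ huE')
      have hE'U : E' ≤ U := inf_le_left
      have h3 : Nat.card E' ≤ Nat.card U := Subgroup.card_le_of_le hE'U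
      apply ih E' hE'U (by omega)
      exact heCh2_step hE hEE' inf_le_right (hU.to_le hE'U)

end Cfsg.Agent.Lib.Helper9
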