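import Mathlib
import Cfsg.Prelude.Def_QuasithinSetup
import Cfsg.Agent.Lib.Helper9.HeChar2
import Cfsg.Agent.Lib.Helper1.Nilp

set_option autoImplicit false

namespace Cfsg.Agent.Lib.Helper9

open Cfsg

variable {G : Type*} [Group G]

theorem he_le_normalizer_of_conj_mem {A B : Subgroup G}
    (h : ∀ a ∈ A, ∀ b ∈ B, a * b * a⁻¹ ∈ B) : A ≤ Subgroup.normalizer (B : Set G) := by
  intro a ha
  rw [Subgroup.mem_normalizer_iff]
  intro b
  constructor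
  · intro hb
    exact h a ha b hb
  · intro hb
    have := h a⁻¹ (A.inv_mem ha) _ hb
    simpa [mul_assoc] using this

theorem he_conj_mem_of_le_normalizer {A B : Subgroup G}
    (h : A ≤ Subgroup.normalizer (B : Set G)) {a b : G} (ha : a ∈ A) (hb : b ∈ B) :
    a * b * a⁻¹ ∈ B := by
  have := h ha
  rw [Subgroup.mem_normalizer_iff] at this
  exact (this b).1 hb

theorem he_conj_mem_of_le_normalizer' {A B : Subgroup G}
    (h : A ≤ Subgroup.normalizer (B : Set G)) {a b : G} (ha : a ∈ A) (hb : b ∈ B) :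
    a⁻¹ * b * a ∈ B := by
  have := he_conj_mem_of_le_normalizer h (A.inv_mem ha) hb
  simpa using this

/-- `Y` normalizes `O_2(X)` when it normalizes `X`. -/
theorem he_o2_normalized_of_normalized [Finite G] {X Y : Subgroup G}
    (hn : Y ≤ Subgroup.normalizer (X : Set G)) :
    Y ≤ Subgroup.normalizer (Cfsg.pCoreTwoOf X : Set G) := by
  apply he_le_normalizer_of_conj_mem
  intro h hh w hw
  set W' : Subgroup G := (Cfsg.pCoreTwoOf X).map (MulAut.conj h).toMonoidHom with hW'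
  have hW'le : W' ≤ Cfsg.pCoreTwoOf X := by
    apply he_le_o2
    · intro v hv
      obtain ⟨w', hw', rfl⟩ := Subgroup.mem_map.1 hv
      have := he_conj_mem_of_le_normalizer hn hh (he_o2_le X hw')
      simpa using this
    · exact (he_o2_isPGroup X).map _
    · apply he_le_normalizer_of_conj_mem
      intro x hx v hv
      obtain ⟨w', hw', rfl⟩ := Subgroup.mem_map.1 hv
      have hx' : h⁻¹ * x * h ∈ X := he_conj_mem_of_le_normalizer' hn hh hx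
      have h1 : (h⁻¹ * x * h) * w' * (h⁻¹ * x * h)⁻¹ ∈ Cfsg.pCoreTwoOf X :=
        he_conj_mem_of_le_normalizer (he_o2_normalized X) hx' hw'
      refine Subgroup.mem_map.2 ⟨_, h1, ?_⟩
      simp only [MulEquiv.coe_toMonoidHom, MulAut.conj_apply]
      group
  apply hW'le
  exact Subgroup.mem_map.2 ⟨w, hw, by simp⟩

theorem he_inf_le_o2 [Finite G] {X Y : Subgroup G} (hXY : X ≤ Y)
    (_hn : Y ≤ Subgroup.normalizer (X : Set G)) :
    Cfsg.pCoreTwoOf Y ⊓ X ≤ Cfsg.pCoreTwoOf X := by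
  apply he_le_o2 inf_le_right ((he_o2_isPGroup Y).to_le inf_le_left)
  intro x hx
  exact he_mem_normalizer_inf (he_o2_normalized Y (hXY hx)) (Subgroup.le_normalizer hx)

/-- `y` centralizes the generators of `Ω₁(Z(O_2(X)))`. -/
def HeCentA (y : G) (X : Subgroup G) : Prop :=
  ∀ a ∈ Cfsg.pCoreTwoOf X, (∀ b ∈ Cfsg.pCoreTwoOf X, a * b = b * a) → a ^ 2 = 1 → y * a = a * y

theorem heCentA_up [Finite G] {X Y : Subgroup G} (hXY : X ≤ Y)
    (hn : Y ≤ Subgroup.normalizer (X : Set G)) {y : G} (hy : y ∈ X) (hodd : Odd (orderOf y))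
    (h : HeCentA y X) : HeCentA y Y := by
  intro a ha hac ha2
  have hQY := he_o2_le Y
  have hyY : y ∈ Y := hXY hy
  have haY : a ∈ Y := hQY ha
  -- a' = y⁻¹ a y
  have ha' : y⁻¹ * a * y ∈ Cfsg.pCoreTwoOf Y :=
    he_conj_mem_of_le_normalizer' (he_o2_normalized Y) hyY ha
  have hcX : a⁻¹ * y⁻¹ * a * y ∈ X := by
    have h1 : a⁻¹ * y⁻¹ * a ∈ X := by
      have := he_conj_mem_of_le_normalizer' hn haY (X.inv_mem hy)
      simpa [mul_assoc] using this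
    exact X.mul_mem h1 hy
  have hcQ : a⁻¹ * y⁻¹ * a * y ∈ Cfsg.pCoreTwoOf Y := by
    have : a⁻¹ * y⁻¹ * a * y = a⁻¹ * (y⁻¹ * a * y) := by group
    rw [this]
    exact (Cfsg.pCoreTwoOf Y).mul_mem ((Cfsg.pCoreTwoOf Y).inv_mem ha) ha'
  have hcQX : a⁻¹ * y⁻¹ * a * y ∈ Cfsg.pCoreTwoOf X :=
    he_inf_le_o2 hXY hn (Subgroup.mem_inf.2 ⟨hcQ, hcX⟩)
  have hQXQ : Cfsg.pCoreTwoOf X ≤ Cfsg.pCoreTwoOf Y := he_o2_mono_of_normalized hXY hn
  -- a' central in O_2(Y)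
  have ha'c : ∀ b ∈ Cfsg.pCoreTwoOf Y, (y⁻¹ * a * y) * b = b * (y⁻¹ * a * y) := by
    intro b hb
    have hb' : y * b * y⁻¹ ∈ Cfsg.pCoreTwoOf Y :=
      he_conj_mem_of_le_normalizer (he_o2_normalized Y) hyY hb
    have h1 := hac _ hb'
    calc (y⁻¹ * a * y) * b = y⁻¹ * (a * (y * b * y⁻¹)) * y := by group
      _ = y⁻¹ * ((y * b * y⁻¹) * a) * y := by rw [h1]
      _ = b * (y⁻¹ * a * y) := by group
  have hcc : ∀ b ∈ Cfsg.pCoreTwoOf X, (a⁻¹ * y⁻¹ * a * y) * b = b * (a⁻¹ * y⁻¹ * a * y) := by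
    intro b hb
    have hbQ := hQXQ hb
    have h1 := hac b hbQ
    have h2 := ha'c b hbQ
    have h3 : a⁻¹ * b = b * a⁻¹ := by
      calc a⁻¹ * b = a⁻¹ * (b * a) * a⁻¹ := by group
        _ = a⁻¹ * (a * b) * a⁻¹ := by rw [h1]
        _ = b * a⁻¹ := by group
    calc (a⁻¹ * y⁻¹ * a * y) * b = a⁻¹ * ((y⁻¹ * a * y) * b) := by group
      _ = a⁻¹ * (b * (y⁻¹ * a * y)) := by rw [h2]
      _ = (a⁻¹ * b) * (y⁻¹ * a * y) := by group
      _ = (b * a⁻¹) * (y⁻¹ * a * y) := by rw [h3]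
      _ = b * (a⁻¹ * y⁻¹ * a * y) := by group
  have hc2 : (a⁻¹ * y⁻¹ * a * y) ^ 2 = 1 := by
    have h1 : (y⁻¹ * a * y) * a⁻¹ = a⁻¹ * (y⁻¹ * a * y) :=
      ha'c _ ((Cfsg.pCoreTwoOf Y).inv_mem ha)
    have h2 : (y⁻¹ * a * y) ^ 2 = 1 := by
      have : (y⁻¹ * a * y) ^ 2 = y⁻¹ * a ^ 2 * y := by rw [pow_two, pow_two]; group
      rw [this, ha2]; group
    have h3 : a⁻¹ ^ 2 = 1 := by rw [inv_pow, ha2, inv_one]
    have h4 : (a⁻¹ * y⁻¹ * a * y) = a⁻¹ * (y⁻¹ * a * y) := by group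
    rw [h4, (show Commute a⁻¹ (y⁻¹ * a * y) from h1.symm).mul_pow, h3, h2, one_mul]
  have hyc := h _ hcQX hcc hc2
  have hk : (a⁻¹ * y⁻¹ * a * y) ^ (2 ^ 1) = 1 := by rw [pow_one]; exact hc2
  exact he_commute_of_odd hodd hk hyc

/-- existence of an element outside `M` whose commutators with `Q` lie in `M`. -/
theorem he_exists_fixed_mod [Finite G] {Q W M : Subgroup G} (hQ : IsPGroup 2 Q)
    (hMW : M ≤ W) (hWQ : W ≤ Q) (hnW : Q ≤ Subgroup.normalizer (W : Set G))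
    (hnM : Q ≤ Subgroup.normalizer (M : Set G)) (hne : M ≠ W) :
    ∃ w ∈ W, w ∉ M ∧ ∀ q ∈ Q, w⁻¹ * q⁻¹ * w * q ∈ M := by
  haveI : Fact (Nat.Prime 2) := ⟨Nat.prime_two⟩
  haveI : Group.IsNilpotent ↥Q := hQ.isNilpotent
  have hMQ : M ≤ Q := hMW.trans hWQ
  haveI hM' : (M.subgroupOf Q).Normal := (Subgroup.normal_subgroupOf_iff_le_normalizer hMQ).2 hnM
  have hW' : (W.subgroupOf Q).Normal := (Subgroup.normal_subgroupOf_iff_le_normalizer hWQ).2 hnW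
  set π := QuotientGroup.mk' (M.subgroupOf Q) with hπ
  have hπs : Function.Surjective π := QuotientGroup.mk'_surjective _
  haveI hN : ((W.subgroupOf Q).map π).Normal := Subgroup.Normal.map hW' π hπs
  -- an element of W outside M
  have hex : ∃ w0 ∈ W, w0 ∉ M := by
    by_contra hcon
    push Not at hcon
    exact hne (le_antisymm hMW hcon)
  obtain ⟨w0, hw0W, hw0M⟩ := hex
  have hNne : (W.subgroupOf Q).map π ≠ ⊥ := by
    intro hbot
    have h1 : π ⟨w0, hWQ hw0W⟩ ∈ (W.subgroupOf Q).map π :=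
      Subgroup.mem_map.2 ⟨⟨w0, hWQ hw0W⟩, Subgroup.mem_subgroupOf.2 hw0W, rfl⟩
    rw [hbot, Subgroup.mem_bot] at h1
    have h2 : (⟨w0, hWQ hw0W⟩ : ↥Q) ∈ M.subgroupOf Q := by
      rw [← QuotientGroup.eq_one_iff]
      exact h1
    exact hw0M (Subgroup.mem_subgroupOf.1 h2)
  have hcen := Cfsg.Agent.Lib.Helper1.normal_inf_center_ne_bot ((W.subgroupOf Q).map π) hNne
  obtain ⟨x, hx1⟩ := (Subgroup.ne_bot_iff_exists_ne_one).1 hcen
  obtain ⟨hxN, hxZ⟩ := Subgroup.mem_inf.1 x.2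
  obtain ⟨w', hw'W, hw'x⟩ := Subgroup.mem_map.1 hxN
  refine ⟨(w' : G), Subgroup.mem_subgroupOf.1 hw'W, ?_, ?_⟩
  · intro hmem
    have h1 : w' ∈ M.subgroupOf Q := Subgroup.mem_subgroupOf.2 hmem
    have h2 : π w' = 1 := (QuotientGroup.eq_one_iff w').2 h1
    apply hx1
    apply Subtype.ext
    rw [← hw'x, h2]
    rfl
  · intro q hq
    rw [Subgroup.mem_center_iff] at hxZ
    have h1 := hxZ (π ⟨q, hq⟩)
    rw [← hw'x] at h1
    have h2 : π (w'⁻¹ * (⟨q, hq⟩ : ↥Q)⁻¹ * w' * ⟨q, hq⟩) = 1 := by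
      have e1 : π (w'⁻¹ * (⟨q, hq⟩ : ↥Q)⁻¹ * w' * ⟨q, hq⟩) =
          (π w')⁻¹ * (π ⟨q, hq⟩)⁻¹ * π w' * π ⟨q, hq⟩ := by
        simp only [map_mul, map_inv]
      rw [e1]
      calc (π w')⁻¹ * (π ⟨q, hq⟩)⁻¹ * π w' * π ⟨q, hq⟩
          = (π w')⁻¹ * (π ⟨q, hq⟩)⁻¹ * (π w' * π ⟨q, hq⟩) := by group
        _ = (π w')⁻¹ * (π ⟨q, hq⟩)⁻¹ * (π ⟨q, hq⟩ * π w') := by rw [h1]
        _ = 1 := by group
    have h3 := (QuotientGroup.eq_one_iff _).1 h2
    have h4 := Subgroup.mem_subgroupOf.1 h3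
    simpa using h4

end Cfsg.Agent.Lib.Helper9
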