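import Mathlib
import Cfsg.Prelude.Def_QuasithinSetup
import Cfsg.Agent.Lib.Helper9.HeChar3

set_option autoImplicit false

namespace Cfsg.Agent.Lib.Helper9

open Cfsg

variable {G : Type*} [Group G]

/-- the set of elements of `Z(O_2(X))` with square one, as a subgroup. -/
def heOmegaZ (X : Subgroup G) : Subgroup G where
  carrier := {a | a ∈ Cfsg.pCoreTwoOf X ∧ (∀ b ∈ Cfsg.pCoreTwoOf X, a * b = b * a) ∧ a ^ 2 = 1}
  one_mem' := ⟨Subgroup.one_mem _, fun b _ => by simp, by simp⟩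
  mul_mem' := by
    rintro a a' ⟨ha, hac, ha2⟩ ⟨ha', ha'c, ha'2⟩
    refine ⟨Subgroup.mul_mem _ ha ha', ?_, ?_⟩
    · intro b hb
      calc a * a' * b = a * (a' * b) := by group
        _ = a * (b * a') := by rw [ha'c b hb]
        _ = (a * b) * a' := by group
        _ = (b * a) * a' := by rw [hac b hb]
        _ = b * (a * a') := by group
    · rw [(show Commute a a' from hac a' ha').mul_pow, ha2, ha'2, one_mul]
  inv_mem' := by
    rintro a ⟨ha, hac, ha2⟩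
    refine ⟨Subgroup.inv_mem _ ha, ?_, ?_⟩
    · intro b hb
      calc a⁻¹ * b = a⁻¹ * (b * a) * a⁻¹ := by group
        _ = a⁻¹ * (a * b) * a⁻¹ := by rw [hac b hb]
        _ = b * a⁻¹ := by group
    · rw [inv_pow, ha2, inv_one]

theorem mem_heOmegaZ {X : Subgroup G} {a : G} :
    a ∈ heOmegaZ X ↔ a ∈ Cfsg.pCoreTwoOf X ∧ (∀ b ∈ Cfsg.pCoreTwoOf X, a * b = b * a) ∧ a ^ 2 = 1 :=
  Iff.rfl

theorem heOmegaZ_comm {X : Subgroup G} {a a' : G} (ha : a ∈ heOmegaZ X) (ha' : a' ∈ heOmegaZ X) :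
    a * a' = a' * a :=
  ha.2.1 a' ha'.1

theorem heOmegaZ_conj_mem [Finite G] {X Y : Subgroup G}
    (hn : Y ≤ Subgroup.normalizer (X : Set G)) {g a : G} (hg : g ∈ Y) (ha : a ∈ heOmegaZ X) :
    g * a * g⁻¹ ∈ heOmegaZ X := by
  obtain ⟨ha1, hac, ha2⟩ := ha
  have hnQ := he_o2_normalized_of_normalized hn
  refine ⟨he_conj_mem_of_le_normalizer hnQ hg ha1, ?_, ?_⟩
  · intro b hb
    have hb' : g⁻¹ * b * g ∈ Cfsg.pCoreTwoOf X := he_conj_mem_of_le_normalizer' hnQ hg hb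
    have h1 := hac _ hb'
    calc g * a * g⁻¹ * b = g * (a * (g⁻¹ * b * g)) * g⁻¹ := by group
      _ = g * ((g⁻¹ * b * g) * a) * g⁻¹ := by rw [h1]
      _ = b * (g * a * g⁻¹) := by group
  · have : (g * a * g⁻¹) ^ 2 = g * a ^ 2 * g⁻¹ := by rw [pow_two, pow_two]; group
    rw [this, ha2]; group

theorem heCentA_down [Finite G] {X Y : Subgroup G} (hXY : X ≤ Y)
    (hn : Y ≤ Subgroup.normalizer (X : Set G)) {y : G} (hy : y ∈ X) (hodd : Odd (orderOf y))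
    (h : HeCentA y Y) : HeCentA y X := by
  set Q := Cfsg.pCoreTwoOf Y with hQ
  set W := heOmegaZ X with hW
  set M : Subgroup G := W ⊓ Subgroup.centralizer ({y} : Set G) with hM
  have hyY : y ∈ Y := hXY hy
  have hQXQ : Cfsg.pCoreTwoOf X ≤ Q := he_o2_mono_of_normalized hXY hn
  have hQY : Q ≤ Y := he_o2_le Y
  have hWQ : W ≤ Q := fun a ha => hQXQ ha.1
  have hMW : M ≤ W := inf_le_left
  have hmemM : ∀ a, a ∈ M ↔ a ∈ W ∧ a * y = y * a := by
    intro a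
    rw [hM, Subgroup.mem_inf, Subgroup.mem_centralizer_singleton_iff]
  have hnW : Q ≤ Subgroup.normalizer (W : Set G) := by
    apply he_le_normalizer_of_conj_mem
    intro q hq a ha
    exact heOmegaZ_conj_mem hn (hQY hq) ha
  -- commutator of y and q lies in O_2(X)
  have hcomm : ∀ q ∈ Q, y⁻¹ * q⁻¹ * y * q ∈ Cfsg.pCoreTwoOf X := by
    intro q hq
    apply he_inf_le_o2 hXY hn
    refine Subgroup.mem_inf.2 ⟨?_, ?_⟩
    · have h1 : y⁻¹ * q⁻¹ * y ∈ Q := by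
        have := he_conj_mem_of_le_normalizer' (he_o2_normalized Y) hyY (Q.inv_mem hq)
        simpa [mul_assoc] using this
      exact Q.mul_mem h1 hq
    · have h1 : q⁻¹ * y * q ∈ X := he_conj_mem_of_le_normalizer' hn (hQY hq) hy
      have : y⁻¹ * q⁻¹ * y * q = y⁻¹ * (q⁻¹ * y * q) := by group
      rw [this]
      exact X.mul_mem (X.inv_mem hy) h1
  have hnM : Q ≤ Subgroup.normalizer (M : Set G) := by
    apply he_le_normalizer_of_conj_mem
    intro q hq a ha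
    obtain ⟨haW, hay⟩ := (hmemM a).1 ha
    rw [hmemM]
    have hq' : q⁻¹ ∈ Q := Q.inv_mem hq
    refine ⟨heOmegaZ_conj_mem hn (hQY hq) haW, ?_⟩
    -- c = y⁻¹ q y q⁻¹ ∈ O_2(X) commutes with a
    have hc := hcomm q⁻¹ hq'
    rw [inv_inv] at hc
    have hca : a * (y⁻¹ * q * y * q⁻¹) = (y⁻¹ * q * y * q⁻¹) * a := haW.2.1 _ hc
    -- y (q a q⁻¹) y⁻¹ = q a q⁻¹
    have hay' : y⁻¹ * a * y = a := by
      calc y⁻¹ * a * y = y⁻¹ * (a * y) := by group
        _ = y⁻¹ * (y * a) := by rw [hay]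
        _ = a := by group
    have key : y⁻¹ * (q * a * q⁻¹) * y = q * a * q⁻¹ := by
      calc y⁻¹ * (q * a * q⁻¹) * y
          = (y⁻¹ * q * y * q⁻¹) * (q * (y⁻¹ * a * y) * q⁻¹) * (y⁻¹ * q * y * q⁻¹)⁻¹ := by group
        _ = (y⁻¹ * q * y * q⁻¹) * (q * a * q⁻¹) * (y⁻¹ * q * y * q⁻¹)⁻¹ := by rw [hay']
        _ = q * a * q⁻¹ := by
          have h2 : q * a * q⁻¹ ∈ W := heOmegaZ_conj_mem hn (hQY hq) haW
          have h3 := h2.2.1 _ hc
          calc (y⁻¹ * q * y * q⁻¹) * (q * a * q⁻¹) * (y⁻¹ * q * y * q⁻¹)⁻¹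
              = ((y⁻¹ * q * y * q⁻¹) * (q * a * q⁻¹)) * (y⁻¹ * q * y * q⁻¹)⁻¹ := by group
            _ = ((q * a * q⁻¹) * (y⁻¹ * q * y * q⁻¹)) * (y⁻¹ * q * y * q⁻¹)⁻¹ := by rw [h3]
            _ = q * a * q⁻¹ := by group
    calc q * a * q⁻¹ * y = y * (y⁻¹ * (q * a * q⁻¹) * y) := by group
      _ = y * (q * a * q⁻¹) := by rw [key]
  -- main claim
  have hMeq : M = W := by
    by_contra hne
    obtain ⟨w, hwW, hwM, hwq⟩ := he_exists_fixed_mod (he_o2_isPGroup Y) hMW hWQ hnW hnM hne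
    apply hwM
    rw [hmemM]
    refine ⟨hwW, ?_⟩
    -- v = w⁻¹ y⁻¹ w y
    have hyw : y⁻¹ * w * y ∈ W := by
      have := heOmegaZ_conj_mem hn (Y.inv_mem hyY) hwW
      simpa using this
    have hvW : w⁻¹ * y⁻¹ * w * y ∈ W := by
      have : w⁻¹ * y⁻¹ * w * y = w⁻¹ * (y⁻¹ * w * y) := by group
      rw [this]
      exact W.mul_mem (W.inv_mem hwW) hyw
    have hvc : ∀ q ∈ Q, (w⁻¹ * y⁻¹ * w * y) * q = q * (w⁻¹ * y⁻¹ * w * y) := by
      intro q hq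
      set m := w⁻¹ * q⁻¹ * w * q with hm
      have hmM : m ∈ M := hwq q hq
      obtain ⟨hmW, hmy⟩ := (hmemM m).1 hmM
      set c := y⁻¹ * q⁻¹ * y * q with hc
      have hcQX : c ∈ Cfsg.pCoreTwoOf X := hcomm q hq
      have hqw : q⁻¹ * w * q = w * m := by rw [hm]; group
      have hmy' : y⁻¹ * m * y = m := by
        calc y⁻¹ * m * y = y⁻¹ * (m * y) := by group
          _ = y⁻¹ * (y * m) := by rw [hmy]
          _ = m := by group
      have hu : (y⁻¹ * w * y) * m ∈ W := W.mul_mem hyw hmW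
      have hcu : c⁻¹ * ((y⁻¹ * w * y) * m) * c = (y⁻¹ * w * y) * m := by
        have h3 := hu.2.1 c hcQX
        calc c⁻¹ * ((y⁻¹ * w * y) * m) * c = c⁻¹ * (((y⁻¹ * w * y) * m) * c) := by group
          _ = c⁻¹ * (c * ((y⁻¹ * w * y) * m)) := by rw [h3]
          _ = (y⁻¹ * w * y) * m := by group
      have h5 : q⁻¹ * (y⁻¹ * w * y) * q = (y⁻¹ * w * y) * m := by
        calc q⁻¹ * (y⁻¹ * w * y) * q = c⁻¹ * (y⁻¹ * (q⁻¹ * w * q) * y) * c := by rw [hc]; group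
          _ = c⁻¹ * (y⁻¹ * (w * m) * y) * c := by rw [hqw]
          _ = c⁻¹ * ((y⁻¹ * w * y) * (y⁻¹ * m * y)) * c := by group
          _ = c⁻¹ * ((y⁻¹ * w * y) * m) * c := by rw [hmy']
          _ = (y⁻¹ * w * y) * m := hcu
      have h6 : q⁻¹ * (w⁻¹ * y⁻¹ * w * y) * q = w⁻¹ * y⁻¹ * w * y := by
        have hmv : m * (w⁻¹ * y⁻¹ * w * y) = (w⁻¹ * y⁻¹ * w * y) * m := heOmegaZ_comm hmW hvW
        calc q⁻¹ * (w⁻¹ * y⁻¹ * w * y) * q
            = (q⁻¹ * w * q)⁻¹ * (q⁻¹ * (y⁻¹ * w * y) * q) := by group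
          _ = (w * m)⁻¹ * ((y⁻¹ * w * y) * m) := by rw [hqw, h5]
          _ = m⁻¹ * ((w⁻¹ * y⁻¹ * w * y) * m) := by group
          _ = m⁻¹ * (m * (w⁻¹ * y⁻¹ * w * y)) := by rw [hmv]
          _ = w⁻¹ * y⁻¹ * w * y := by group
      calc (w⁻¹ * y⁻¹ * w * y) * q = q * (q⁻¹ * (w⁻¹ * y⁻¹ * w * y) * q) := by group
        _ = q * (w⁻¹ * y⁻¹ * w * y) := by rw [h6]
    have hyv := h _ (hWQ hvW) hvc hvW.2.2
    have hk : (w⁻¹ * y⁻¹ * w * y) ^ (2 ^ 1) = 1 := by rw [pow_one]; exact hvW.2.2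
    exact (he_commute_of_odd hodd hk hyv).symm
  intro a ha hac ha2
  have haW : a ∈ W := ⟨ha, hac, ha2⟩
  rw [← hMeq] at haW
  exact ((hmemM a).1 haW).2.symm

/-- induction along a subnormal chain below `H`. -/
theorem he_subnormal_induction {H : Subgroup G} (P : Subgroup G → Prop) (hH : P H)
    (hstep : ∀ X Y : Subgroup G, X ≤ Y → Y ≤ H → Y ≤ Subgroup.normalizer (X : Set G) →
      P Y → P X) :
    ∀ X' : Subgroup ↥H, X'.IsSubnormal → P (X'.map H.subtype) := by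
  intro X' hX'
  induction hX' with
  | top =>
    rw [← MonoidHom.range_eq_map, Subgroup.range_subtype]
    exact hH
  | step A B hle _ hN ih =>
    apply hstep (A.map H.subtype) (B.map H.subtype) (Subgroup.map_mono hle)
      (Subgroup.map_subtype_le _) ?_ ih
    apply he_le_normalizer_of_conj_mem
    intro b hb a ha
    obtain ⟨b', hb', rfl⟩ := Subgroup.mem_map.1 hb
    obtain ⟨a', ha', rfl⟩ := Subgroup.mem_map.1 ha
    have h1 : (⟨a', hle ha'⟩ : ↥B) ∈ A.subgroupOf B := Subgroup.mem_subgroupOf.2 ha'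
    have h2 := hN.conj_mem _ h1 ⟨b', hb'⟩
    have h3 := Subgroup.mem_subgroupOf.1 h2
    refine Subgroup.mem_map.2 ⟨b' * a' * b'⁻¹, ?_, by simp⟩
    simpa using h3

theorem heCh2_of_normal [Finite G] {X Y : Subgroup G} (hXY : X ≤ Y)
    (hn : Y ≤ Subgroup.normalizer (X : Set G)) (hY : HeCh2 Y) : HeCh2 X := by
  intro y hy hodd hc
  apply hY y (hXY hy) hodd
  intro x hx
  have hyY : y ∈ Y := hXY hy
  have hxY : x ∈ Y := he_o2_le Y hx
  have hcQ : x⁻¹ * y⁻¹ * x * y ∈ Cfsg.pCoreTwoOf Y := by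
    have h1 : y⁻¹ * x * y ∈ Cfsg.pCoreTwoOf Y :=
      he_conj_mem_of_le_normalizer' (he_o2_normalized Y) hyY hx
    have : x⁻¹ * y⁻¹ * x * y = x⁻¹ * (y⁻¹ * x * y) := by group
    rw [this]
    exact Subgroup.mul_mem _ (Subgroup.inv_mem _ hx) h1
  have hcX : x⁻¹ * y⁻¹ * x * y ∈ X := by
    have h1 : x⁻¹ * y⁻¹ * x ∈ X := by
      have := he_conj_mem_of_le_normalizer' hn hxY (X.inv_mem hy)
      simpa [mul_assoc] using this
    exact X.mul_mem h1 hy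
  have hcQX := he_inf_le_o2 hXY hn (Subgroup.mem_inf.2 ⟨hcQ, hcX⟩)
  obtain ⟨k, hk⟩ := (he_o2_isPGroup Y) ⟨_, hcQ⟩
  have hk' : (x⁻¹ * y⁻¹ * x * y) ^ (2 ^ k) = 1 := by
    have := congrArg (fun t : ↥(Cfsg.pCoreTwoOf Y) => (t : G)) hk
    simpa using this
  exact he_commute_of_odd hodd hk' (hc _ hcQX)

theorem heCh2_of_subnormal [Finite G] {H X : Subgroup G} (hXH : X ≤ H)
    (hsn : (X.subgroupOf H).IsSubnormal) (hH : HeCh2 H) : HeCh2 X := by
  have := he_subnormal_induction (H := H) (fun Z => HeCh2 Z) hH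
    (fun X Y hXY _ hn hY => heCh2_of_normal hXY hn hY) _ hsn
  rwa [Subgroup.map_subgroupOf_eq_of_le hXH] at this

theorem heCentA_iff_of_subnormal [Finite G] {H K : Subgroup G} (hKH : K ≤ H)
    (hsn : (K.subgroupOf H).IsSubnormal) {y : G} (hy : y ∈ K) (hodd : Odd (orderOf y)) :
    HeCentA y K ↔ HeCentA y H := by
  have := he_subnormal_induction (H := H) (fun Z => K ≤ Z → (HeCentA y Z ↔ HeCentA y H))
    (fun _ => Iff.rfl)
    (fun X Y hXY _ hn hY hKX =>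
      ⟨fun h => (hY (hKX.trans hXY)).1 (heCentA_up hXY hn (hKX hy) hodd h),
       fun h => heCentA_down hXY hn (hKX hy) hodd ((hY (hKX.trans hXY)).2 h)⟩) _ hsn
  rw [Subgroup.map_subgroupOf_eq_of_le hKH] at this
  exact this le_rfl

end Cfsg.Agent.Lib.Helper9
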