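import Mathlib
import Cfsg.Prelude.Def_QuasithinSetup
import Cfsg.Agent.Lib.Helper9.HeChar4

set_option autoImplicit false

namespace Cfsg.Agent.Lib.Helper9

open Cfsg

variable {G : Type*} [Group G]

/-- In a group of characteristic 2 (internal form) the centralizer of `O_2` lies in `O_2`. -/
theorem heCh2_cent_le [Finite G] {H : Subgroup G} (hH : HeCh2 H) {g : G} (hg : g ∈ H)
    (hc : ∀ x ∈ Cfsg.pCoreTwoOf H, g * x = x * g) : g ∈ Cfsg.pCoreTwoOf H := by
  set C : Subgroup G := H ⊓ Subgroup.centralizer (Cfsg.pCoreTwoOf H : Set G) with hC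
  have hCp : IsPGroup 2 C := by
    intro c
    obtain ⟨hcH, hcC⟩ := Subgroup.mem_inf.1 c.2
    obtain ⟨k, m, hm, hkm⟩ := Nat.exists_eq_two_pow_mul_odd (orderOf_pos (c : G)).ne'
    refine ⟨k, ?_⟩
    have hord : orderOf ((c : G) ^ (2 ^ k)) = m := by
      rw [orderOf_pow, hkm, Nat.gcd_eq_right (Dvd.intro _ rfl), Nat.mul_div_cancel_left _ (pow_pos (by norm_num) k)]
    have h1 : (c : G) ^ (2 ^ k) = 1 := by
      apply hH _ (H.pow_mem hcH _) (by rw [hord]; exact hm)
      intro x hx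
      rw [Subgroup.mem_centralizer_iff] at hcC
      have : Commute (c : G) x := (hcC x hx).symm
      exact (this.pow_left _).eq
    apply Subtype.ext
    simpa using h1
  have hle : C ≤ Cfsg.pCoreTwoOf H := he_le_o2 inf_le_left hCp (he_cent_normalized H)
  apply hle
  refine Subgroup.mem_inf.2 ⟨hg, ?_⟩
  rw [Subgroup.mem_centralizer_iff]
  intro x hx
  exact (hc x hx).symm

theorem he_o2_le_sylow [Finite G] (T : Sylow 2 G) {H : Subgroup G} (hTH : (T : Subgroup G) ≤ H) :
    Cfsg.pCoreTwoOf H ≤ (T : Subgroup G) := by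
  have h1 : IsPGroup 2 (Cfsg.pCoreTwoOf H ⊔ (T : Subgroup G) : Subgroup G) :=
    IsPGroup.to_sup_of_normal_left' (he_o2_isPGroup H) T.isPGroup'
      (hTH.trans (he_o2_normalized H))
  have h2 := T.is_maximal' h1 le_sup_right
  rw [← h2]
  exact le_sup_left

theorem heCh2_of_le_of_o2_le [Finite G] {N H : Subgroup G} (hN : HeCh2 N) (hHN : H ≤ N)
    (hO : Cfsg.pCoreTwoOf N ≤ H) : HeCh2 H := by
  intro y hy hodd hc
  apply hN y (hHN hy) hodd
  intro x hx
  apply hc
  have : Cfsg.pCoreTwoOf N ≤ Cfsg.pCoreTwoOf H :=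
    he_le_o2 hO (he_o2_isPGroup N) (hHN.trans (he_o2_normalized N))
  exact this hx

/-- members of `ℋ(T)` have characteristic 2 in a group of even characteristic. -/
theorem heCh2_of_evenChar [Finite G] (hE : Cfsg.IsOfEvenCharacteristic G) (T : Sylow 2 G)
    {H : Subgroup G} (hTH : (T : Subgroup G) ≤ H) (hne : Cfsg.pCore 2 ↥H ≠ ⊥) : HeCh2 H := by
  set N : Subgroup G := Subgroup.normalizer (Cfsg.pCoreTwoOf H : Set G) with hN
  have hHN : H ≤ N := he_o2_normalized H
  have hloc : Cfsg.IsTwoLocal N := by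
    refine ⟨Cfsg.pCoreTwoOf H, he_o2_isPGroup H, ?_, rfl⟩
    intro hbot
    apply hne
    unfold Cfsg.pCoreTwoOf at hbot
    exact (Subgroup.map_eq_bot_iff_of_injective _ H.subtype_injective).1 hbot
  have hNch : Cfsg.IsOfCharacteristicTwo ↥N := hE N hloc ⟨T, hTH.trans hHN⟩
  have hN2 : HeCh2 N := heCh2_of_char2 N hNch
  exact heCh2_of_le_of_o2_le hN2 hHN ((he_o2_le_sylow T (hTH.trans hHN)).trans hTH)

theorem heCentA_of_le [Finite G] (T : Sylow 2 G) {HL HK : Subgroup G}
    (hTL : (T : Subgroup G) ≤ HL) (hLK : HL ≤ HK) (hK : HeCh2 HK) {y : G}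
    (h : HeCentA y HK) : HeCentA y HL := by
  intro a ha hac ha2
  have hRK : Cfsg.pCoreTwoOf HK ≤ Cfsg.pCoreTwoOf HL := by
    apply he_le_o2 ((he_o2_le_sylow T (hTL.trans hLK)).trans hTL) (he_o2_isPGroup HK)
    exact hLK.trans (he_o2_normalized HK)
  have haK : a ∈ Cfsg.pCoreTwoOf HK := by
    apply heCh2_cent_le hK (hLK (he_o2_le HL ha))
    intro x hx
    exact hac x (hRK hx)
  apply h a haK _ ha2
  intro b hb
  exact hac b (hRK hb)

/-- a perfect subgroup is generated by its elements of odd order. -/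
theorem he_oddGenerated_eq_of_perfect [Finite G] {K : Subgroup G} (hK : ⁅K, K⁆ = K) :
    Cfsg.oddGenerated K = K := by
  haveI : Fact (Nat.Prime 2) := ⟨Nat.prime_two⟩
  have hle : Cfsg.oddGenerated K ≤ K := by
    unfold Cfsg.oddGenerated
    rw [Subgroup.closure_le]
    intro x hx
    exact hx.1
  apply le_antisymm hle
  -- normality in K
  have hn : K ≤ Subgroup.normalizer (Cfsg.oddGenerated K : Set G) := by
    apply he_le_normalizer_of_conj_mem
    intro k hk x hx
    unfold Cfsg.oddGenerated at hx ⊢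
    have hmap : (Subgroup.closure {x : G | x ∈ K ∧ Odd (orderOf x)}).map
        (MulAut.conj k).toMonoidHom ≤ Subgroup.closure {x : G | x ∈ K ∧ Odd (orderOf x)} := by
      rw [MonoidHom.map_closure, Subgroup.closure_le]
      rintro _ ⟨z, ⟨hzK, hzo⟩, rfl⟩
      apply Subgroup.subset_closure
      refine ⟨?_, ?_⟩
      · simp only [MulEquiv.coe_toMonoidHom, MulAut.conj_apply]
        exact K.mul_mem (K.mul_mem hk hzK) (K.inv_mem hk)
      · simp only [MulEquiv.coe_toMonoidHom]
        rw [MulEquiv.orderOf_eq]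
        exact hzo
    apply hmap
    exact Subgroup.mem_map.2 ⟨x, hx, by simp⟩
  haveI hN : ((Cfsg.oddGenerated K).subgroupOf K).Normal :=
    (Subgroup.normal_subgroupOf_iff_le_normalizer hle).2 hn
  haveI : Group.IsPerfect ↥K := Subgroup.isPerfect_iff.2 hK
  have hp : IsPGroup 2 (↥K ⧸ (Cfsg.oddGenerated K).subgroupOf K) := by
    intro g
    induction g using QuotientGroup.induction_on with
    | H g =>
      obtain ⟨k, m, hm, hkm⟩ := Nat.exists_eq_two_pow_mul_odd (orderOf_pos (g : G)).ne'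
      refine ⟨k, ?_⟩
      rw [← QuotientGroup.mk_pow, QuotientGroup.eq_one_iff, Subgroup.mem_subgroupOf]
      have hord : orderOf ((g : G) ^ (2 ^ k)) = m := by
        rw [orderOf_pow, hkm, Nat.gcd_eq_right (Dvd.intro _ rfl), Nat.mul_div_cancel_left _ (pow_pos (by norm_num) k)]
      unfold Cfsg.oddGenerated
      apply Subgroup.subset_closure
      refine ⟨?_, ?_⟩
      · simp only [Subgroup.coe_pow]
        exact K.pow_mem g.2 _
      · simp only [Subgroup.coe_pow]
        rw [hord]; exact hm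
  haveI : Group.IsNilpotent (↥K ⧸ (Cfsg.oddGenerated K).subgroupOf K) := hp.isNilpotent
  have hsub : Subsingleton (↥K ⧸ (Cfsg.oddGenerated K).subgroupOf K) := by
    by_contra hns
    rw [not_subsingleton_iff_nontrivial] at hns
    exact Group.IsPerfect.not_isNilpotent (G := ↥K ⧸ (Cfsg.oddGenerated K).subgroupOf K) inferInstance
  intro k hk
  have h1 : ((⟨k, hk⟩ : ↥K) : ↥K ⧸ (Cfsg.oddGenerated K).subgroupOf K) = 1 := Subsingleton.elim _ _
  rw [QuotientGroup.eq_one_iff, Subgroup.mem_subgroupOf] at h1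
  exact h1

end Cfsg.Agent.Lib.Helper9
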