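import Mathlib
import Cfsg.Prelude.Def_QuasithinSetup
import Cfsg.Agent.Lib.Helper9.HeChar5

set_option autoImplicit false

namespace Cfsg.Agent.Lib.Helper9

open Cfsg

variable {G : Type*} [Group G]

/-- `moduleV K = ⊥` gives `HeCentA y K` for `y ∈ K`. -/
theorem heCentA_of_moduleV_eq_bot {K : Subgroup G} (h : Cfsg.moduleV K = ⊥) {y : G} (hy : y ∈ K) :
    HeCentA y K := by
  intro a ha hac ha2
  unfold Cfsg.moduleV at h
  rw [Subgroup.commutator_eq_bot_iff_le_centralizer] at h
  have haO : a ∈ Cfsg.omegaOne 2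
      (Cfsg.pCoreTwoOf K ⊓ Subgroup.centralizer (Cfsg.pCoreTwoOf K : Set G)) := by
    unfold Cfsg.omegaOne
    apply Subgroup.subset_closure
    refine ⟨Subgroup.mem_inf.2 ⟨ha, ?_⟩, ha2⟩
    rw [Subgroup.mem_centralizer_iff]
    intro b hb
    exact (hac b hb).symm
  have := h haO
  rw [Subgroup.mem_centralizer_iff] at this
  exact this y hy

/-- conversely, if all odd-order elements of `L = O^2(L)` satisfy `HeCentA`, then `moduleV L = ⊥`. -/
theorem moduleV_eq_bot_of_heCentA {L : Subgroup G} (hodd : Cfsg.oddGenerated L = L)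
    (h : ∀ y ∈ L, Odd (orderOf y) → HeCentA y L) : Cfsg.moduleV L = ⊥ := by
  unfold Cfsg.moduleV
  rw [Subgroup.commutator_eq_bot_iff_le_centralizer]
  -- L ≤ centralizer of the omega subgroup
  have h1' : Cfsg.oddGenerated L ≤ Subgroup.centralizer ((Cfsg.omegaOne 2
      (Cfsg.pCoreTwoOf L ⊓ Subgroup.centralizer (Cfsg.pCoreTwoOf L : Set G)) : Subgroup G) : Set G) := by
    unfold Cfsg.oddGenerated
    rw [Subgroup.closure_le]
    intro y hy
    obtain ⟨hyL, hyo⟩ := hy
    show y ∈ Subgroup.centralizer _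
    -- y centralizes closure of generators
    have h2 : Cfsg.omegaOne 2
        (Cfsg.pCoreTwoOf L ⊓ Subgroup.centralizer (Cfsg.pCoreTwoOf L : Set G)) ≤
        Subgroup.centralizer ({y} : Set G) := by
      unfold Cfsg.omegaOne
      rw [Subgroup.closure_le]
      intro a ha
      obtain ⟨haZ, ha2⟩ := ha
      obtain ⟨haQ, haC⟩ := Subgroup.mem_inf.1 haZ
      rw [Subgroup.mem_centralizer_iff] at haC
      show a ∈ Subgroup.centralizer ({y} : Set G)
      rw [Subgroup.mem_centralizer_singleton_iff]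
      have := h y hyL hyo a haQ (fun b hb => (haC b hb).symm) ha2
      exact this.symm
    rw [Subgroup.mem_centralizer_iff]
    intro a ha
    have := h2 ha
    rw [Subgroup.mem_centralizer_singleton_iff] at this
    exact this
  have h1 : L ≤ Subgroup.centralizer ((Cfsg.omegaOne 2
      (Cfsg.pCoreTwoOf L ⊓ Subgroup.centralizer (Cfsg.pCoreTwoOf L : Set G)) : Subgroup G) : Set G) :=
    le_of_eq_of_le hodd.symm h1'
  intro a ha
  rw [Subgroup.mem_centralizer_iff]
  intro l hl
  have := h1 hl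
  rw [Subgroup.mem_centralizer_iff] at this
  exact (this a ha).symm

theorem heCh2_to_calHe [Finite G] {H : Subgroup G} (hH : HeCh2 H) : H ∈ Cfsg.calHe G := by
  haveI : Fact (Nat.Prime 2) := ⟨Nat.prime_two⟩
  show Cfsg.generalizedFittingSubgroup ↥H = Cfsg.pCore 2 ↥H
  apply gfs_eq_pCore_of_forall 2
  intro Y hYc hYcomm
  rw [Subgroup.eq_bot_iff_forall]
  intro y hy
  have hodd : Odd (orderOf ((y : G))) := by
    have h1 : orderOf y ∣ Nat.card Y := Subgroup.orderOf_dvd_natCard Y hy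
    have h2 : Odd (Nat.card Y) := Nat.coprime_two_right.1 hYc
    have h3 : Odd (orderOf y) := by
      obtain ⟨c, hc⟩ := h1
      rw [hc] at h2
      exact (Nat.odd_mul.1 h2).1
    rwa [Subgroup.orderOf_coe]
  have := hH (y : G) y.2 hodd ?_
  · exact Subtype.ext this
  · intro x hx
    unfold Cfsg.pCoreTwoOf at hx
    obtain ⟨x', hx', rfl⟩ := Subgroup.mem_map.1 hx
    have := hYcomm y hy x' hx'
    have h2 := congrArg (fun t : ↥H => (t : G)) this
    simpa using h2

/-- main upward-closure statement. -/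
theorem he_calLf_upward [Finite G] (hE : Cfsg.IsOfEvenCharacteristic G) (T : Sylow 2 G)
    {L K : Subgroup G} (hL : L ∈ Cfsg.calLf (T : Subgroup G))
    (hK : K ∈ Cfsg.calL (T : Subgroup G)) (hLK : L ≤ K) : K ∈ Cfsg.calLf (T : Subgroup G) := by
  obtain ⟨hLL, hLX, hLV⟩ := hL
  obtain ⟨hLne, hLodd, hLHe⟩ := hLX
  obtain ⟨hLC, _, hLO⟩ := hLL
  obtain ⟨hKC, _, hKO⟩ := id hK
  obtain ⟨hKne', hKperf', hKsn, _⟩ := hKC
  obtain ⟨_, _, hLsn, _⟩ := hLC
  set HK : Subgroup G := K ⊔ (T : Subgroup G) with hHK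
  set HL : Subgroup G := L ⊔ (T : Subgroup G) with hHL
  have hKHK : K ≤ HK := le_sup_left
  have hLHL : L ≤ HL := le_sup_left
  have hTHK : (T : Subgroup G) ≤ HK := le_sup_right
  have hTHL : (T : Subgroup G) ≤ HL := le_sup_right
  have hHLHK : HL ≤ HK := sup_le_sup_right hLK _
  have hHK2 : HeCh2 HK := heCh2_of_evenChar hE T hTHK hKO
  have hK2 : HeCh2 K := heCh2_of_subnormal hKHK hKsn hHK2
  -- K perfect as subgroup of G
  have hKperf : ⁅K, K⁆ = K := by
    have h1 : (K.subgroupOf HK).map HK.subtype = K := Subgroup.map_subgroupOf_eq_of_le hKHK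
    have h2 := congrArg (Subgroup.map HK.subtype) hKperf'
    rw [Subgroup.map_commutator, h1] at h2
    exact h2
  have hKne : K ≠ ⊥ := by
    intro h
    apply hKne'
    rw [h]
    simp
  refine ⟨hK, ⟨hKne, he_oddGenerated_eq_of_perfect hKperf, heCh2_to_calHe hK2⟩, ?_⟩
  intro hV
  apply hLV
  apply moduleV_eq_bot_of_heCentA hLodd
  intro y hy hyo
  have h1 : HeCentA y K := heCentA_of_moduleV_eq_bot hV (hLK hy)
  have h2 : HeCentA y HK := (heCentA_iff_of_subnormal hKHK hKsn (hLK hy) hyo).1 h1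
  have h3 : HeCentA y HL := heCentA_of_le T hTHL hHLHK hHK2 h2
  exact (heCentA_iff_of_subnormal hLHL hLsn hy hyo).2 h3

end Cfsg.Agent.Lib.Helper9
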