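import Mathlib
import Cfsg.Prelude.Def_IsolatedElements
import Cfsg.Prelude.Def_CaseTheorems
import Cfsg.Prelude.Def_Local
import Cfsg.Agent.S1946
import Cfsg.Agent.Lib.Helper5.ElemAb

set_option autoImplicit false

namespace Cfsg.Agent.Lib.Helper9

/-- conjugates of isolated elements are isolated -/
theorem isop_conj {G : Type*} [Group G] {x : G} (hiso : Cfsg.IsIsolated x) (h : G) :
    Cfsg.IsIsolated (h * x * h⁻¹) := by
  intro g hc
  have h1 : Commute x ((h⁻¹ * g * h) * x * (h⁻¹ * g * h)⁻¹) := by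
    have e := congrArg (fun t => h⁻¹ * t * h) hc.eq
    show x * ((h⁻¹ * g * h) * x * (h⁻¹ * g * h)⁻¹) = ((h⁻¹ * g * h) * x * (h⁻¹ * g * h)⁻¹) * x
    calc x * ((h⁻¹ * g * h) * x * (h⁻¹ * g * h)⁻¹)
        = h⁻¹ * ((h * x * h⁻¹) * (g * (h * x * h⁻¹) * g⁻¹)) * h := by group
      _ = h⁻¹ * ((g * (h * x * h⁻¹) * g⁻¹) * (h * x * h⁻¹)) * h := e
      _ = _ := by group
  have h2 := hiso _ h1
  calc g * (h * x * h⁻¹) * g⁻¹ = h * ((h⁻¹ * g * h) * x * (h⁻¹ * g * h)⁻¹) * h⁻¹ := by group
    _ = h * x * h⁻¹ := by rw [h2]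

/-- an isolated element of a `p`-subgroup is central in it -/
theorem isop_commute_of_pgroup {G : Type*} [Group G] [Finite G] {p : ℕ} [Fact p.Prime] {x : G}
    (hiso : Cfsg.IsIsolated x) (R : Subgroup G) (hR : IsPGroup p R) (hxR : x ∈ R) :
    ∀ r ∈ R, Commute r x := by
  classical
  haveI : Group.IsNilpotent R := hR.isNilpotent
  set H : Subgroup R := (Subgroup.centralizer {x}).subgroupOf R with hH
  by_cases htop : H = ⊤
  · intro r hr
    have hm : (⟨r, hr⟩ : R) ∈ H := by rw [htop]; trivial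
    rw [hH, Subgroup.mem_subgroupOf, Subgroup.mem_centralizer_iff] at hm
    exact (hm x rfl).symm
  · exfalso
    have hlt : H < ⊤ := lt_top_iff_ne_top.mpr htop
    have hnc := Group.normalizerCondition_of_isNilpotent (G := R) H hlt
    obtain ⟨g, hgN, hgH⟩ := SetLike.exists_of_lt hnc
    have hxH : (⟨x, hxR⟩ : R) ∈ H := by
      rw [hH, Subgroup.mem_subgroupOf, Subgroup.mem_centralizer_iff]
      intro y hy
      rw [Set.mem_singleton_iff] at hy
      subst hy
      rfl
    have h1 := (Subgroup.mem_normalizer_iff.mp hgN ⟨x, hxR⟩).mp hxH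
    rw [hH, Subgroup.mem_subgroupOf, Subgroup.mem_centralizer_iff] at h1
    have h2 := h1 x rfl
    have h3 : (g : G) * x * (g : G)⁻¹ = x := hiso (g : G) (by
      show x * ((g : G) * x * (g : G)⁻¹) = ((g : G) * x * (g : G)⁻¹) * x
      simpa using h2)
    apply hgH
    rw [hH, Subgroup.mem_subgroupOf, Subgroup.mem_centralizer_iff]
    intro y hy
    rw [Set.mem_singleton_iff] at hy
    subst hy
    calc y * (g : G) = ((g : G) * y * (g : G)⁻¹) * (g : G) := by rw [h3]
      _ = (g : G) * y := by group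

/-- the subgroup `{x^i z^j}` for commuting `x, z` -/
def isopPair {G : Type*} [Group G] (x z : G) (h : Commute x z) : Subgroup G where
  carrier := {a | ∃ i j : ℤ, a = x ^ i * z ^ j}
  one_mem' := ⟨0, 0, by simp⟩
  mul_mem' := by
    rintro a b ⟨i, j, rfl⟩ ⟨i', j', rfl⟩
    refine ⟨i + i', j + j', ?_⟩
    have hc : Commute (z ^ j) (x ^ i') := (h.symm.zpow_zpow j i')
    rw [zpow_add, zpow_add]
    calc x ^ i * z ^ j * (x ^ i' * z ^ j') = x ^ i * (z ^ j * x ^ i') * z ^ j' := by group
      _ = x ^ i * (x ^ i' * z ^ j) * z ^ j' := by rw [hc.eq]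
      _ = _ := by group
  inv_mem' := by
    rintro a ⟨i, j, rfl⟩
    refine ⟨-i, -j, ?_⟩
    have hc : Commute (x ^ i) (z ^ j) := h.zpow_zpow i j
    rw [mul_inv_rev, zpow_neg, zpow_neg]
    exact (hc.inv_inv).symm.eq

theorem mem_isopPair {G : Type*} [Group G] {x z : G} {h : Commute x z} {a : G} :
    a ∈ isopPair x z h ↔ ∃ i j : ℤ, a = x ^ i * z ^ j := Iff.rfl

theorem isop_mem_pair {G : Type*} [Group G] [Finite G] {p : ℕ} [hp : Fact p.Prime]
    (hrank : Cfsg.PRankLE p 2 G) {x z : G} (hxz : Commute x z) (hx : x ^ p = 1)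
    (hz : orderOf z = p) (hxz' : x ∉ Subgroup.zpowers z) {a : G} (hax : Commute a x)
    (haz : Commute a z) (ha : a ^ p = 1) :
    ∃ i j : ℤ, a = x ^ i * z ^ j := by
  classical
  set B : Subgroup G := Subgroup.closure {x, z, a} with hB
  have hBea : Cfsg.IsElementaryAbelian p B := by
    apply Cfsg.Agent.Lib.Helper5.elemAb_closure
    · intro u hu v hv
      simp only [Set.mem_insert_iff, Set.mem_singleton_iff] at hu hv
      rcases hu with rfl | rfl | rfl <;> rcases hv with rfl | rfl | rfl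
      · rfl
      · exact hxz.eq
      · exact hax.symm.eq
      · exact hxz.symm.eq
      · rfl
      · exact haz.symm.eq
      · exact hax.eq
      · exact haz.eq
      · rfl
    · intro u hu
      simp only [Set.mem_insert_iff, Set.mem_singleton_iff] at hu
      rcases hu with rfl | rfl | rfl
      · exact hx
      · rw [← hz]; exact pow_orderOf_eq_one _
      · exact ha
  have hBcard : Nat.card B ≤ p ^ 2 := hrank B hBea.1 hBea.2
  set A : Subgroup G := isopPair x z hxz with hA
  have hxA : x ∈ A := ⟨1, 0, by simp⟩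
  have hzA : z ∈ A := ⟨0, 1, by simp⟩
  have hxB : x ∈ B := Subgroup.subset_closure (by simp)
  have hzB : z ∈ B := Subgroup.subset_closure (by simp)
  have haB : a ∈ B := Subgroup.subset_closure (by simp)
  have hAB : A ≤ B := by
    rintro _ ⟨i, j, rfl⟩
    exact B.mul_mem (B.zpow_mem hxB i) (B.zpow_mem hzB j)
  have hBp : IsPGroup p B := by
    intro b
    refine ⟨1, ?_⟩
    apply Subtype.ext
    simpa using hBea.2 b b.2
  have hAp : IsPGroup p A := hBp.to_le hAB
  obtain ⟨n, hn⟩ := IsPGroup.iff_card.mp hBp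
  obtain ⟨m, hm⟩ := IsPGroup.iff_card.mp hAp
  have hZA : Subgroup.zpowers z < A := by
    refine lt_of_le_of_ne ?_ ?_
    · rw [Subgroup.zpowers_le]; exact hzA
    · intro h
      exact hxz' (h ▸ hxA)
  have hcardlt : Nat.card (Subgroup.zpowers z) < Nat.card A := by
    have h1 : Nat.card (Subgroup.zpowers z) ≤ Nat.card A := Subgroup.card_le_of_le hZA.le
    rcases Nat.lt_or_ge (Nat.card (Subgroup.zpowers z)) (Nat.card A) with h | h
    · exact h
    · exact absurd (Subgroup.eq_of_le_of_card_ge hZA.le h) hZA.ne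
  rw [Nat.card_zpowers, hz, hm] at hcardlt
  have hm2 : 2 ≤ m := by
    by_contra hlt
    have : m ≤ 1 := by omega
    have h2 : p ^ m ≤ p ^ 1 := Nat.pow_le_pow_right hp.out.pos this
    rw [pow_one] at h2
    omega
  have hn2 : n ≤ 2 := by
    rw [hn] at hBcard
    exact (Nat.pow_le_pow_iff_right hp.out.one_lt).mp hBcard
  have hcardAB : Nat.card A ≤ Nat.card B := Subgroup.card_le_of_le hAB
  have hmn : m ≤ n := by
    rw [hn, hm] at hcardAB
    exact (Nat.pow_le_pow_iff_right hp.out.one_lt).mp hcardAB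
  have hge : Nat.card B ≤ Nat.card A := by
    rw [hn, hm]
    exact Nat.pow_le_pow_right hp.out.pos (by omega)
  have hEq : A = B := Subgroup.eq_of_le_of_card_ge hAB hge
  have : a ∈ A := hEq ▸ haB
  exact this

theorem isop_exists_zpow_inv {G : Type*} [Group G] {p : ℕ} [hp : Fact p.Prime] {y : G}
    (hy : y ^ p = 1) {i : ℤ} (hi : ¬ (p : ℤ) ∣ i) : ∃ m : ℤ, (y ^ i) ^ m = y := by
  have hcop : IsCoprime (p : ℤ) i :=
    (Nat.prime_iff_prime_int.mp hp.out).irreducible.coprime_iff_not_dvd.mpr hi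
  obtain ⟨n, m, hmn⟩ := hcop
  refine ⟨m, ?_⟩
  rw [← zpow_mul]
  have e : i * m = 1 - n * p := by linarith
  rw [e, zpow_sub, zpow_one, zpow_mul, zpow_natCast, ]
  have : (y ^ n) ^ p = 1 := by rw [← zpow_natCast, ← zpow_mul, mul_comm, zpow_mul, zpow_natCast, hy, one_zpow]
  rw [this]
  simp

theorem isop_key {G : Type*} [Group G] [Finite G] {p : ℕ} [Fact p.Prime] (hp : p ≠ 2)
    {x z : G} (hx : orderOf x = p) (hiso : Cfsg.IsIsolated x) (hxz : Commute x z)
    (L : Subgroup G) (hLz : ∀ g ∈ L, Commute g z)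
    (T : Sylow p L)
    (hT : ∀ a : L, a ∈ T → a ^ p = 1 → ∃ i j : ℤ, (a : G) = x ^ i * z ^ j) :
    Cfsg.HasNormalPComplement p L := by
  rw [Cfsg.Agent.S1946.result T]
  intro a haT hap g hgT
  refine ⟨1, one_mem _, ?_⟩
  simp only [one_mul, inv_one, mul_one]
  have hap' : a ^ p = 1 := by
    rcases hap with h | ⟨h2, _⟩
    · exact h
    · exact absurd h2 hp
  obtain ⟨i, j, hij⟩ := hT a haT hap'
  have hgp : (g * a * g⁻¹) ^ p = 1 := by
    rw [conj_pow, hap']; group
  obtain ⟨i', j', hij'⟩ := hT _ hgT hgp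
  have hxp : x ^ p = 1 := by rw [← hx]; exact pow_orderOf_eq_one _
  have hgz : Commute (g : G) z := hLz g g.2
  -- `g a g⁻¹` commutes with `x`
  have hc1 : Commute ((g : G) * (a : G) * (g : G)⁻¹) x := by
    have : ((g * a * g⁻¹ : L) : G) = (g : G) * (a : G) * (g : G)⁻¹ := by simp
    rw [← this, hij']
    exact ((Commute.refl x).zpow_left i').mul_left (hxz.symm.zpow_left j')
  -- the key: `g` commutes with `a`
  have hga : Commute (g : G) (a : G) := by
    by_cases hi : (p : ℤ) ∣ i
    · have hxi : x ^ i = 1 := by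
        rw [← orderOf_dvd_iff_zpow_eq_one, hx]; exact hi
      rw [hij, hxi, one_mul]
      exact hgz.zpow_right j
    · -- `a` commutes with `g⁻¹ x g`
      set w : G := (g : G)⁻¹ * x * (g : G) with hw
      have hc2 : Commute (a : G) w := by
        show (a : G) * w = w * (a : G)
        have e := hc1.eq
        calc (a : G) * w = (g : G)⁻¹ * (((g : G) * (a : G) * (g : G)⁻¹) * x) * (g : G) := by
              rw [hw]; group
          _ = (g : G)⁻¹ * (x * ((g : G) * (a : G) * (g : G)⁻¹)) * (g : G) := by rw [e]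
          _ = w * (a : G) := by rw [hw]; group
      have hzw : Commute z w := by
        show z * w = w * z
        have e1 : z * (g : G)⁻¹ = (g : G)⁻¹ * z := (hgz.symm.inv_right).eq
        have e2 : z * x = x * z := hxz.symm.eq
        have e3 : z * (g : G) = (g : G) * z := hgz.symm.eq
        calc z * w = (z * (g : G)⁻¹) * x * (g : G) := by rw [hw]; group
          _ = (g : G)⁻¹ * (z * x) * (g : G) := by rw [e1]; group
          _ = (g : G)⁻¹ * x * (z * (g : G)) := by rw [e2]; group
          _ = w * z := by rw [e3, hw]; group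
      have hxiw : Commute (x ^ i) w := by
        have : x ^ i = (a : G) * (z ^ j)⁻¹ := by rw [hij]; group
        rw [this]
        exact hc2.mul_left (hzw.zpow_left j).inv_left
      obtain ⟨m, hm⟩ := isop_exists_zpow_inv hxp hi
      have hxw : Commute x w := by
        rw [← hm]
        exact hxiw.zpow_left m
      have hweq : w = x := by
        have := hiso (g : G)⁻¹ (by simpa [hw] using hxw)
        simpa [hw] using this
      have hgx : Commute (g : G) x := by
        show (g : G) * x = x * (g : G)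
        calc (g : G) * x = (g : G) * w := by rw [hweq]
          _ = x * (g : G) := by rw [hw]; group
      rw [hij]
      exact (hgx.zpow_right i).mul_right (hgz.zpow_right j)
  apply Subtype.ext
  have : ((g * a * g⁻¹ : L) : G) = (g : G) * (a : G) * (g : G)⁻¹ := by simp
  rw [this, hga.eq]
  group

theorem isop_not_npc {X : Type*} [Group X] [Finite X] {p : ℕ} [Fact p.Prime]
    (hperf : Group.IsPerfect X) (hdvd : p ∣ Nat.card X) : ¬ Cfsg.HasNormalPComplement p X := by
  rintro ⟨P, N, hN, hc⟩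
  have h1 : N.index = Nat.card P := hc.symm.index_eq_card
  have hPne : (P : Subgroup X) ≠ ⊥ := Sylow.ne_bot_of_dvd_card P hdvd
  have hq : IsPGroup p (X ⧸ N) := by
    obtain ⟨k, hk⟩ := IsPGroup.iff_card.mp P.2
    apply IsPGroup.of_card (n := k)
    rw [← hk, ← h1]
    rfl
  haveI : Group.IsNilpotent (X ⧸ N) := hq.isNilpotent
  haveI : Group.IsPerfect (X ⧸ N) := inferInstance
  by_cases hnt : Nontrivial (X ⧸ N)
  · exact Group.IsPerfect.not_isSolvable (X ⧸ N) inferInstance
  · rw [not_nontrivial_iff_subsingleton] at hnt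
    have h2 : N.index = 1 := by
      rw [Subgroup.index_eq_card]
      exact Nat.card_unique (α := X ⧸ N) |> fun h => by
        haveI := hnt
        exact Nat.card_of_subsingleton (1 : X ⧸ N)
    rw [h2] at h1
    apply hPne
    exact (Subgroup.card_eq_one).mp h1.symm

end Cfsg.Agent.Lib.Helper9
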