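import Mathlib
import Cfsg.Agent.Lib.Helper9.IsoP1
import Cfsg.Agent.Lib.Helper9.SylowConj
import Cfsg.Agent.S1265
import Cfsg.Agent.Lib.Helper10.Components
import Cfsg.Agent.Lib.Helper10.PComp
import Cfsg.Agent.Lib.Helper10.Bender1
import Cfsg.Agent.Lib.helper17.Subn
import Cfsg.Agent.Lib.helper17.QS5
import Cfsg.Agent.Lib.helper17.QS4
import Cfsg.Agent.Lib.Helper1.Cores

set_option autoImplicit false

namespace Cfsg.Agent.Lib.Helper9

section IsoP2
variable {G : Type*} [Group G] [Finite G] {p : ℕ} [Fact p.Prime]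

theorem isop_zpowers_isPGroup {y : G} (hy : orderOf y = p) : IsPGroup p (Subgroup.zpowers y) := by
  rw [IsPGroup.iff_card, Nat.card_zpowers, hy]
  exact ⟨1, (pow_one p).symm⟩

omit [Finite G] [Fact p.Prime] in
theorem isop_le_normalizer_of_commute {A B : Subgroup G} (h : ∀ a ∈ A, ∀ b ∈ B, Commute a b) :
    A ≤ Subgroup.normalizer (B : Set G) := by
  intro a ha
  rw [Subgroup.mem_normalizer_iff]
  intro y
  constructor
  · intro hy
    have : a * y * a⁻¹ = y := by rw [(h a ha y hy).eq]; group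
    rw [this]; exact hy
  · intro hy
    have e : a * (a * y * a⁻¹) * a⁻¹ = a * y * a⁻¹ := by rw [(h a ha _ hy).eq]; group
    have : a * y * a⁻¹ = y := by
      have := congrArg (fun t => a⁻¹ * t * a) e
      simpa [mul_assoc] using this
    rw [← this]; exact hy

/-- a conjugate of `x` centralizing a given `p`-subgroup -/
theorem isop_exists_conj_centralizing {x : G} (hx : orderOf x = p) (hiso : Cfsg.IsIsolated x)
    (R : Subgroup G) (hR : IsPGroup p R) :
    ∃ h : G, ∀ r ∈ R, Commute r (h * x * h⁻¹) := by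
  obtain ⟨S, hRS⟩ := hR.exists_le_sylow
  obtain ⟨h, hh⟩ := exists_sylow_conj_le S (Subgroup.zpowers x) (isop_zpowers_isPGroup hx)
  refine ⟨h, fun r hr => ?_⟩
  exact isop_commute_of_pgroup (isop_conj hiso h) S S.2 (hh x (Subgroup.mem_zpowers x)) r (hRS hr)

theorem isop_not_mem_pCore {x : G} (hiso : Cfsg.IsIsolated x) (hnc : x ∉ Subgroup.center G) :
    x ∉ Cfsg.pCore p G := by
  intro hxP
  apply hnc
  rw [Subgroup.mem_center_iff]
  intro g
  have hPn : (Cfsg.pCore p G).Normal := Cfsg.Agent.Lib.Helper1.pCore_normal p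
  have h1 : g * x * g⁻¹ ∈ Cfsg.pCore p G := hPn.conj_mem x hxP g
  have h2 := isop_commute_of_pgroup hiso _ (Cfsg.Agent.Lib.Helper1.pCore_isPGroup p) hxP _ h1
  have h3 := hiso g h2.symm
  calc g * x = (g * x * g⁻¹) * g := by group
    _ = x * g := by rw [h3]

theorem isop_commute_pCore {x : G} (hx : orderOf x = p) (hiso : Cfsg.IsIsolated x) :
    ∀ y ∈ Cfsg.pCore p G, Commute y x := by
  haveI hPn : (Cfsg.pCore p G).Normal := Cfsg.Agent.Lib.Helper1.pCore_normal p
  have hR : IsPGroup p (Cfsg.pCore p G ⊔ Subgroup.zpowers x : Subgroup G) :=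
    IsPGroup.to_sup_of_normal_left (Cfsg.Agent.Lib.Helper1.pCore_isPGroup p)
      (isop_zpowers_isPGroup hx)
  intro y hy
  exact isop_commute_of_pgroup hiso _ hR
    ((le_sup_right : Subgroup.zpowers x ≤ _) (Subgroup.mem_zpowers x)) y
    ((le_sup_left : Cfsg.pCore p G ≤ _) hy)

theorem isop_component_dvd (hcore : Cfsg.pPrimeCore p G = ⊥) {L : Subgroup G}
    (hL : Cfsg.IsComponent L) : p ∣ Nat.card L := by
  by_contra hnd
  have hcop : (Nat.card L).Coprime p :=
    ((Nat.Prime.coprime_iff_not_dvd (Fact.out)).2 hnd).symm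
  have := Cfsg.Agent.Lib.Helper10.subnormal_coprime_le_pPrimeCore p L hL.1 hcop
  rw [hcore] at this
  exact Cfsg.Agent.Lib.Helper10.isComponent_ne_bot hL (le_bot_iff.mp this)

theorem isop_component_not_npc (hcore : Cfsg.pPrimeCore p G = ⊥) {L : Subgroup G}
    (hL : Cfsg.IsComponent L) : ¬ Cfsg.HasNormalPComplement p L :=
  isop_not_npc hL.2.1 (isop_component_dvd hcore hL)

theorem isop_step (hp : p ≠ 2) (hcore : Cfsg.pPrimeCore p G = ⊥) (hrank : Cfsg.PRankLE p 2 G)
    {L : Subgroup G} (hL : Cfsg.IsComponent L) (T : Sylow p L) {x' : G} (hx' : orderOf x' = p)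
    (hiso' : Cfsg.IsIsolated x') (hxT : ∀ t : L, t ∈ T → Commute (t : G) x') {z : G}
    (hz : orderOf z = p) (hLz : ∀ g ∈ L, Commute g z) (hxz : Commute x' z) :
    x' ∈ Subgroup.zpowers z := by
  by_contra hnot
  apply isop_component_not_npc hcore hL
  apply isop_key hp hx' hiso' hxz L hLz T
  intro a haT hap
  have hxp : x' ^ p = 1 := by rw [← hx']; exact pow_orderOf_eq_one _
  have hap' : (a : G) ^ p = 1 := by
    have := congrArg (Subtype.val) hap
    simpa using this
  exact isop_mem_pair hrank hxz hxp hz hnot (hxT a haT) (hLz a a.2) hap'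

theorem isop_main (hp : p ≠ 2) (hcore : Cfsg.pPrimeCore p G = ⊥) (hrank : Cfsg.PRankLE p 2 G)
    (x : G) (hx : orderOf x = p) (hiso : Cfsg.IsIsolated x) (hnc : x ∉ Subgroup.center G) :
    IsSimpleGroup ↥(Cfsg.generalizedFittingSubgroup G) ∧
      ¬ IsMulCommutative ↥(Cfsg.generalizedFittingSubgroup G) := by
  classical
  have hPn : (Cfsg.pCore p G).Normal := Cfsg.Agent.Lib.Helper1.pCore_normal p
  have hPp : IsPGroup p (Cfsg.pCore p G) := Cfsg.Agent.Lib.Helper1.pCore_isPGroup p
  have hconj_iso : ∀ h : G, Cfsg.IsIsolated (h * x * h⁻¹) := fun h => isop_conj hiso h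
  have hconj_ord : ∀ h : G, orderOf (h * x * h⁻¹) = p := fun h => by rw [orderOf_conj_eq, hx]
  have hconj_nc : ∀ h : G, h * x * h⁻¹ ∉ Subgroup.center G := by
    intro h hc
    apply hnc
    have := (inferInstance : (Subgroup.center G).Normal).conj_mem _ hc h⁻¹
    simpa [mul_assoc] using this
  have hconj_nP : ∀ h : G, h * x * h⁻¹ ∉ Cfsg.pCore p G :=
    fun h => isop_not_mem_pCore (hconj_iso h) (hconj_nc h)
  -- the Fitting subgroup is `O_p(G)`
  have hF : Cfsg.fittingSubgroup G = Cfsg.pCore p G := by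
    rw [Cfsg.Agent.Lib.Helper10.Bender.fitting_eq_sup (Fact.out : p.Prime)]
    have h1 := Cfsg.Agent.Lib.Helper10.Bender.pcomp_normal_coprime (H := G) (Fact.out : p.Prime)
    have h2 : Cfsg.Agent.Lib.Helper10.Bender.pcomp G p ≤ Cfsg.pPrimeCore p G :=
      Cfsg.Agent.Lib.Helper1.le_pPrimeCore h1.1 h1.2
    rw [hcore] at h2
    rw [le_bot_iff.mp h2, sup_bot_eq]
  -- existence of a component
  have hex : ∃ L : Subgroup G, Cfsg.IsComponent L := by
    by_contra hno
    push Not at hno
    have hlayer : Cfsg.layer G = ⊥ := by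
      unfold Cfsg.layer
      rw [sSup_eq_bot]
      intro K hK
      exact absurd hK (hno K)
    have hgfs : Cfsg.generalizedFittingSubgroup G = Cfsg.pCore p G := by
      unfold Cfsg.generalizedFittingSubgroup
      rw [hlayer, bot_sup_eq, hF]
    have hxc : x ∈ Subgroup.centralizer (Cfsg.generalizedFittingSubgroup G : Set G) := by
      rw [hgfs, Subgroup.mem_centralizer_iff]
      intro y hy
      exact (isop_commute_pCore hx hiso y hy).eq
    have := Cfsg.Agent.S1265.result hxc
    rw [hgfs] at this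
    exact isop_not_mem_pCore hiso hnc this
  obtain ⟨L, hL⟩ := hex
  -- `O_p(G) = 1`
  have hP : Cfsg.pCore p G = ⊥ := by
    by_contra hPne
    obtain ⟨z, hzP, hz⟩ : ∃ z ∈ Cfsg.pCore p G, orderOf z = p := by
      obtain ⟨k, hk⟩ := IsPGroup.iff_card.mp hPp
      have hk0 : k ≠ 0 := by
        rintro rfl
        rw [pow_zero] at hk
        exact hPne ((Subgroup.card_eq_one).mp hk)
      have hdvd : p ∣ Nat.card (Cfsg.pCore p G) := by rw [hk]; exact dvd_pow_self p hk0
      obtain ⟨z, hz⟩ := exists_prime_orderOf_dvd_card' p hdvd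
      exact ⟨z, z.2, (Subgroup.orderOf_coe z).trans hz⟩
    obtain ⟨T⟩ : Nonempty (Sylow p L) := inferInstance
    set R : Subgroup G := (T : Subgroup L).map L.subtype with hRdef
    have hR : IsPGroup p R := T.2.map _
    obtain ⟨h, hh⟩ := isop_exists_conj_centralizing hx hiso R hR
    have hLz : ∀ g ∈ L, Commute g z := by
      intro g hg
      have h1 := Cfsg.Agent.Lib.Helper10.commutator_layer_fitting (G := G)
      rw [Subgroup.commutator_eq_bot_iff_le_centralizer] at h1
      have h2 := h1 (Cfsg.Agent.Lib.Helper10.component_le_layer hL hg)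
      rw [Subgroup.mem_centralizer_iff] at h2
      have hzF : z ∈ Cfsg.fittingSubgroup G := by rw [hF]; exact hzP
      exact (h2 z hzF).symm
    have hxz : Commute (h * x * h⁻¹) z :=
      (isop_commute_pCore (hconj_ord h) (hconj_iso h) z hzP).symm
    have := isop_step hp hcore hrank hL T (hconj_ord h) (hconj_iso h)
      (fun t ht => hh _ ⟨t, ht, rfl⟩) hz hLz hxz
    apply hconj_nP h
    exact (Subgroup.zpowers_le.mpr hzP) this
  -- uniqueness of the component
  have huniq : ∀ M : Subgroup G, Cfsg.IsComponent M → M = L := by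
    intro M hM
    by_contra hne
    have hcomm : ⁅L, M⁆ = ⊥ :=
      Cfsg.Agent.Lib.helper17.component_commute_of_ne hL hM (Ne.symm hne)
    have hLM : ∀ g ∈ L, ∀ m ∈ M, Commute g m := by
      intro g hg m hm
      rw [Subgroup.commutator_eq_bot_iff_le_centralizer] at hcomm
      have := hcomm hg
      rw [Subgroup.mem_centralizer_iff] at this
      exact (this m hm).symm
    obtain ⟨a, ha⟩ := exists_prime_orderOf_dvd_card' p (isop_component_dvd hcore hL)
    obtain ⟨b, hb⟩ := exists_prime_orderOf_dvd_card' p (isop_component_dvd hcore hM)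
    obtain ⟨T, hT⟩ := (isop_zpowers_isPGroup ha).exists_le_sylow
    obtain ⟨U, hU⟩ := (isop_zpowers_isPGroup hb).exists_le_sylow
    have haG : orderOf (a : G) = p := by rw [Subgroup.orderOf_coe]; exact ha
    have hbG : orderOf (b : G) = p := by rw [Subgroup.orderOf_coe]; exact hb
    set RT : Subgroup G := (T : Subgroup L).map L.subtype with hRT
    set RU : Subgroup G := (U : Subgroup M).map M.subtype with hRU
    have hRTL : RT ≤ L := by rintro _ ⟨t, -, rfl⟩; exact t.2
    have hRUM : RU ≤ M := by rintro _ ⟨t, -, rfl⟩; exact t.2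
    have hR : IsPGroup p (RT ⊔ RU : Subgroup G) :=
      IsPGroup.to_sup_of_normal_right' (T.2.map _) (U.2.map _)
        (isop_le_normalizer_of_commute
          (fun t ht u hu => hLM t (hRTL ht) u (hRUM hu)))
    obtain ⟨h, hh⟩ := isop_exists_conj_centralizing hx hiso _ hR
    have haT : (a : G) ∈ RT := ⟨a, hT (Subgroup.mem_zpowers a), rfl⟩
    have hbU : (b : G) ∈ RU := ⟨b, hU (Subgroup.mem_zpowers b), rfl⟩
    have h1 : h * x * h⁻¹ ∈ Subgroup.zpowers (b : G) :=
      isop_step hp hcore hrank hL T (hconj_ord h) (hconj_iso h)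
        (fun t ht => hh _ ((le_sup_left : RT ≤ RT ⊔ RU) ⟨t, ht, rfl⟩)) hbG
        (fun g hg => hLM g hg b b.2)
        (hh _ ((le_sup_right : RU ≤ RT ⊔ RU) hbU)).symm
    have h2 : h * x * h⁻¹ ∈ Subgroup.zpowers (a : G) :=
      isop_step hp hcore hrank hM U (hconj_ord h) (hconj_iso h)
        (fun t ht => hh _ ((le_sup_right : RU ≤ RT ⊔ RU) ⟨t, ht, rfl⟩)) haG
        (fun g hg => (hLM a a.2 g hg).symm)
        (hh _ ((le_sup_left : RT ≤ RT ⊔ RU) haT)).symm
    have hxL : h * x * h⁻¹ ∈ L := (Subgroup.zpowers_le.mpr a.2) h2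
    have hxM : h * x * h⁻¹ ∈ M := (Subgroup.zpowers_le.mpr b.2) h1
    have hzL : Subgroup.zpowers (h * x * h⁻¹) ≤ L := Subgroup.zpowers_le.mpr hxL
    have hzM : Subgroup.zpowers (h * x * h⁻¹) ≤ M := Subgroup.zpowers_le.mpr hxM
    have hsub : (Subgroup.zpowers (h * x * h⁻¹)).IsSubnormal := by
      refine Subgroup.IsSubnormal.step _ L hzL hL.1 ?_
      rw [Subgroup.normal_subgroupOf_iff_le_normalizer hzL]
      exact isop_le_normalizer_of_commute (fun g hg y hy => hLM g hg y (hzM hy))
    have := Cfsg.Agent.Lib.helper17.le_pCore_of_subnormal_isPGroup hsub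
      (isop_zpowers_isPGroup (hconj_ord h))
    exact hconj_nP h (this (Subgroup.mem_zpowers _))
  -- conclusion
  have hlayer : Cfsg.layer G = L := by
    unfold Cfsg.layer
    apply le_antisymm
    · apply sSup_le
      intro K hK
      rw [huniq K hK]
    · exact le_sSup hL
  have hFbot : Cfsg.fittingSubgroup G = ⊥ := by rw [hF, hP]
  have hgfs : Cfsg.generalizedFittingSubgroup G = L := by
    unfold Cfsg.generalizedFittingSubgroup
    rw [hlayer, hFbot, sup_bot_eq]
  rw [hgfs]
  have hcen : Subgroup.center L = ⊥ := by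
    rw [eq_bot_iff]
    intro c hc
    have h1 := Cfsg.Agent.Lib.helper17.center_layer_le_fitting (G := G)
    rw [hlayer, hFbot] at h1
    have h2 : (c : G) ∈ L ⊓ Subgroup.centralizer (L : Set G) := by
      refine Subgroup.mem_inf.mpr ⟨c.2, ?_⟩
      rw [Subgroup.mem_centralizer_iff]
      intro y hy
      have := Subgroup.mem_center_iff.mp hc ⟨y, hy⟩
      exact congrArg Subtype.val this
    have h3 := h1 h2
    rw [Subgroup.mem_bot] at h3 ⊢
    exact Subtype.ext h3
  have hqs := hL.2
  constructor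
  · haveI := hqs.2
    have e : L ⧸ Subgroup.center L ≃* L :=
      (QuotientGroup.quotientMulEquivOfEq hcen).trans QuotientGroup.quotientBot
    exact e.symm.isSimpleGroup
  · intro hcomm
    apply Cfsg.Agent.Lib.Helper10.isComponent_not_isSolvable hL
    haveI := hcomm
    letI : CommGroup L := { (inferInstance : Group L) with mul_comm := hcomm.is_comm.comm }
    infer_instance

end IsoP2

end Cfsg.Agent.Lib.Helper9
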