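import Mathlib
import Cfsg.Agent.Lib.Helper9.KJ1

set_option autoImplicit false
set_option maxHeartbeats 800000

namespace Cfsg.Agent.Lib.Helper9

section KJ2
variable {P : Type*} [Group P]

open Cfsg.Agent.Lib.Helper21.OmegaCent

theorem kj_mem_conj {F : Subgroup P} {t x : P} :
    x ∈ F.map (MulAut.conj t).toMonoidHom ↔ t⁻¹ * x * t ∈ F := by
  constructor
  · rintro ⟨f, hf, rfl⟩
    have : t⁻¹ * (MulAut.conj t).toMonoidHom f * t = f := by
      simp [MulAut.conj_apply, mul_assoc]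
    rw [this]; exact hf
  · intro h
    exact ⟨t⁻¹ * x * t, h, by simp [MulAut.conj_apply, mul_assoc]⟩

theorem kj_comm_of_comm_eq_one {a b : P} (h : a * b * a⁻¹ * b⁻¹ = 1) : a * b = b * a := by
  have : a * b = (a * b * a⁻¹ * b⁻¹) * (b * a) := by group
  rw [this, h, one_mul]

/-- the step in Alperin's theorem: from a non-normal `W⟨y⟩` to one with larger normalizer -/
theorem kj_alperin_step [Finite P] {p : ℕ} [hp : Fact p.Prime] (hp2 : p ≠ 2) (hP : IsPGroup p P)
    (W : Subgroup P) [hWn : W.Normal] (hWc : ∀ a ∈ W, ∀ b ∈ W, a * b = b * a)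
    (hWe : ∀ a ∈ W, a ^ p = 1)
    (y : P) (hyQ : y ∈ Subgroup.centralizer (W : Set P)) (hyp : y ^ p = 1) (hyW : y ∉ W)
    (hnn : ¬ (W ⊔ Subgroup.zpowers y).Normal) :
    ∃ y' : P, y' ∈ Subgroup.centralizer (W : Set P) ∧ y' ^ p = 1 ∧ y' ∉ W ∧
      Nat.card (Subgroup.normalizer ((W ⊔ Subgroup.zpowers y : Subgroup P) : Set P)) <
        Nat.card (Subgroup.normalizer ((W ⊔ Subgroup.zpowers y' : Subgroup P) : Set P)) := by
  classical
  haveI : Group.IsNilpotent P := hP.isNilpotent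
  set Q := Subgroup.centralizer (W : Set P) with hQ
  have hQn : Q.Normal := inferInstance
  have hyc : ∀ b ∈ W, y * b = b * y := fun b hb =>
    ((Subgroup.mem_centralizer_iff.mp hyQ) b hb).symm
  obtain ⟨hFcard, hFc, hFe⟩ := sup_zpowers_facts W y hyp hyW hyc hWc hWe
  set F : Subgroup P := W ⊔ Subgroup.zpowers y with hF
  have hWF : W ≤ F := le_sup_left
  have hyF : y ∈ F := (le_sup_right : Subgroup.zpowers y ≤ F) (Subgroup.mem_zpowers y)
  have hWQ : W ≤ Q := fun w hw => Subgroup.mem_centralizer_iff.mpr (fun b hb => hWc b hb w hw)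
  have hFQ : F ≤ Q := sup_le hWQ (Subgroup.zpowers_le.mpr hyQ)
  set N := Subgroup.normalizer (F : Set P) with hN
  have hFN : F ≤ N := Subgroup.le_normalizer
  have hNtop : N < ⊤ := by
    rw [lt_top_iff_ne_top]
    intro h
    exact hnn (Subgroup.normalizer_eq_top_iff.mp h)
  have hNT := Group.normalizerCondition_of_isNilpotent N hNtop
  set T := Subgroup.normalizer (N : Set P) with hT
  have hconjN : ∀ t ∈ T, ∀ n ∈ N, t * n * t⁻¹ ∈ N := fun t ht n hn =>
    ((Subgroup.mem_normalizer_iff.mp ht) n).mp hn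
  have hconjF : ∀ n ∈ N, ∀ f ∈ F, n * f * n⁻¹ ∈ F := fun n hn f hf =>
    ((Subgroup.mem_normalizer_iff.mp hn) f).mp hf
  -- conjugates of `F`
  set Fc : P → Subgroup P := fun t => F.map (MulAut.conj t).toMonoidHom with hFcdef
  have hmemFc : ∀ t x, x ∈ Fc t ↔ t⁻¹ * x * t ∈ F := fun t x => kj_mem_conj
  have hFcW : ∀ t, W ≤ Fc t := by
    intro t w hw
    rw [hmemFc]
    apply hWF
    have := hWn.conj_mem w hw t⁻¹
    rwa [inv_inv] at this
  have hFccard : ∀ t, Nat.card (Fc t) = p * Nat.card W := by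
    intro t
    rw [Subgroup.card_map_of_injective (MulAut.conj t).injective, hFcard, mul_comm]
  have hFccomm : ∀ t, ∀ a ∈ Fc t, ∀ b ∈ Fc t, a * b = b * a := by
    rintro t _ ⟨a, ha, rfl⟩ _ ⟨b, hb, rfl⟩
    rw [← map_mul, ← map_mul, hFc a ha b hb]
  have hFcN : ∀ t ∈ T, Fc t ≤ N := by
    intro t ht x hx
    rw [hmemFc] at hx
    have := hconjN t ht _ (hFN hx)
    have e : t * (t⁻¹ * x * t) * t⁻¹ = x := by group
    rwa [e] at this
  have hNFc : ∀ t ∈ T, ∀ n ∈ N, ∀ x ∈ Fc t, n * x * n⁻¹ ∈ Fc t := by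
    intro t ht n hn x hx
    rw [hmemFc] at hx ⊢
    have h1 := hconjN t⁻¹ (inv_mem ht) n hn
    have h2 := hconjF _ h1 _ hx
    have e : t⁻¹ * n * t⁻¹⁻¹ * (t⁻¹ * x * t) * (t⁻¹ * n * t⁻¹⁻¹)⁻¹ = t⁻¹ * (n * x * n⁻¹) * t := by
      group
    rwa [e] at h2
  -- the generating set
  set S : Set P := {s | ∃ t ∈ T, s ∈ Fc t} with hS
  have hSW : ∀ s ∈ S, ∀ s' ∈ S, s * s' * s⁻¹ * s'⁻¹ ∈ W := by
    rintro s ⟨t, ht, hs⟩ s' ⟨t', ht', hs'⟩
    have hsN : s ∈ N := hFcN t ht hs
    have hs'N : s' ∈ N := hFcN t' ht' hs'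
    have h1 : s * s' * s⁻¹ * s'⁻¹ ∈ Fc t' := by
      have := hNFc t' ht' s hsN s' hs'
      exact mul_mem this (inv_mem hs')
    have h2 : s * s' * s⁻¹ * s'⁻¹ ∈ Fc t := by
      have := hNFc t ht s' hs'N s⁻¹ (inv_mem hs)
      have e : s * s' * s⁻¹ * s'⁻¹ = s * (s' * s⁻¹ * s'⁻¹) := by group
      rw [e]; exact mul_mem hs this
    rcases kj_between_prime (W := W) (D := Fc t ⊓ Fc t') (F := Fc t)
      (le_inf (hFcW t) (hFcW t')) inf_le_left (hFccard t) with h | h
    · rw [← h]; exact ⟨h2, h1⟩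
    · have hle : Fc t ≤ Fc t' := by rw [← h]; exact inf_le_right
      have := hFccomm t' s (hle hs) s' hs'
      have e : s * s' * s⁻¹ * s'⁻¹ = 1 := by rw [this]; group
      rw [e]; exact W.one_mem
  have hSQ : ∀ s ∈ S, s ∈ Q := by
    rintro s ⟨t, ht, hs⟩
    rw [hmemFc] at hs
    have := hQn.conj_mem _ (hFQ hs) t
    have e : t * (t⁻¹ * s * t) * t⁻¹ = s := by group
    rwa [e] at this
  have hSe : ∀ s ∈ S, s ^ p = 1 := by
    rintro s ⟨t, ht, hs⟩
    rw [hmemFc] at hs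
    have h1 := hFe _ hs
    have e : s = t * (t⁻¹ * s * t) * t⁻¹ := by group
    rw [e, conj_pow, h1]; group
  set L : Subgroup P := Subgroup.closure S with hL
  have hLQ : L ≤ Q := (Subgroup.closure_le _).mpr hSQ
  have hSN : S ⊆ N := by
    rintro s ⟨t, ht, hs⟩
    exact hFcN t ht hs
  have hLN : L ≤ N := (Subgroup.closure_le _).mpr hSN
  have hNTle : N ≤ T := hNT.le
  have h1T : (1 : P) ∈ T := T.one_mem
  have hFS : ∀ f ∈ F, f ∈ S := by
    intro f hf
    refine ⟨1, h1T, ?_⟩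
    rw [hmemFc]
    simpa using hf
  have hWL : W ≤ L := fun w hw => Subgroup.subset_closure (hFS w (hWF hw))
  have hyL : y ∈ L := Subgroup.subset_closure (hFS y hyF)
  -- commutators of `L` lie in `W`
  have hLW : ∀ a ∈ L, ∀ b ∈ L, a * b * a⁻¹ * b⁻¹ ∈ W := by
    set π := QuotientGroup.mk' W with hπ
    have hπS : ∀ x ∈ π '' S, ∀ y ∈ π '' S, x * y = y * x := by
      rintro _ ⟨s, hs, rfl⟩ _ ⟨s', hs', rfl⟩
      have h := hSW s hs s' hs'
      rw [← QuotientGroup.eq_one_iff] at h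
      apply kj_comm_of_comm_eq_one
      rw [← h]
      simp [hπ]
    have hcl : IsMulCommutative (Subgroup.closure (π '' S)) :=
      Subgroup.isMulCommutative_closure hπS
    have hcl' := (Cfsg.Agent.Lib.Helper1.isMulCommutative_subgroup_iff _).mp hcl
    have hmapL : L.map π = Subgroup.closure (π '' S) := MonoidHom.map_closure π S
    intro a ha b hb
    have ha' : π a ∈ Subgroup.closure (π '' S) := by
      rw [← hmapL]; exact Subgroup.mem_map_of_mem π ha
    have hb' : π b ∈ Subgroup.closure (π '' S) := by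
      rw [← hmapL]; exact Subgroup.mem_map_of_mem π hb
    have h := hcl' (π a) ha' (π b) hb'
    rw [← QuotientGroup.eq_one_iff]
    have e : ((a * b * a⁻¹ * b⁻¹ : P) : P ⧸ W) = π a * π b * (π a)⁻¹ * (π b)⁻¹ := by
      simp [hπ]
    rw [e, h]
    group
  -- `L` has exponent `p`
  have hLe : ∀ a ∈ L, a ^ p = 1 := by
    intro a ha
    induction ha using Subgroup.closure_induction with
    | mem x hx => exact hSe x hx
    | one => exact one_pow p
    | mul x y hx hy ihx ihy =>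
      have hc : y⁻¹ * x⁻¹ * y⁻¹⁻¹ * x⁻¹⁻¹ ∈ W := hLW y⁻¹ (inv_mem hy) x⁻¹ (inv_mem hx)
      rw [inv_inv, inv_inv] at hc
      have hcx : Commute (y⁻¹ * x⁻¹ * y * x) x :=
        (Subgroup.mem_centralizer_iff.mp (hLQ hx)) _ hc
      have hcy : Commute (y⁻¹ * x⁻¹ * y * x) y :=
        (Subgroup.mem_centralizer_iff.mp (hLQ hy)) _ hc
      exact mul_pow_prime_class2 hp.out hp2 hcx hcy (by group) ihx ihy (hWe _ hc)
    | inv x hx ih => rw [inv_pow, ih, inv_one]
  -- `T` normalizes `L`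
  have hTL : ∀ t ∈ T, ∀ l ∈ L, t * l * t⁻¹ ∈ L := by
    intro t ht l hl
    induction hl using Subgroup.closure_induction with
    | mem s hs =>
      obtain ⟨t₁, ht₁, hs₁⟩ := hs
      apply Subgroup.subset_closure
      refine ⟨t * t₁, T.mul_mem ht ht₁, ?_⟩
      rw [hmemFc] at hs₁ ⊢
      have e : (t * t₁)⁻¹ * (t * s * t⁻¹) * (t * t₁) = t₁⁻¹ * s * t₁ := by group
      rw [e]; exact hs₁
    | one => simp
    | mul x y hx hy ihx ihy =>
      have e : t * (x * y) * t⁻¹ = (t * x * t⁻¹) * (t * y * t⁻¹) := by group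
      rw [e]; exact mul_mem ihx ihy
    | inv x hx ih =>
      have e : t * x⁻¹ * t⁻¹ = (t * x * t⁻¹)⁻¹ := by group
      rw [e]; exact inv_mem ih
  -- apply the normal-series lemma inside `T`
  have hTp : IsPGroup p ↥T := hP.to_subgroup T
  set M' : Subgroup ↥T := W.subgroupOf T with hM'
  set N' : Subgroup ↥T := L.subgroupOf T with hN'
  haveI hM'n : M'.Normal := by rw [hM']; infer_instance
  haveI hN'n : N'.Normal := by
    refine ⟨fun n hn g => ?_⟩
    rw [hN', Subgroup.mem_subgroupOf] at hn ⊢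
    have := hTL g.1 g.2 n.1 hn
    simpa using this
  have hM'N' : M' ≤ N' := fun x hx => Subgroup.mem_subgroupOf.mpr (hWL (Subgroup.mem_subgroupOf.mp hx))
  have hyT : y ∈ T := hNTle (hLN hyL)
  have hne : M' ≠ N' := by
    intro h
    have h1 : (⟨y, hyT⟩ : ↥T) ∈ N' := Subgroup.mem_subgroupOf.mpr hyL
    rw [← h] at h1
    exact hyW (Subgroup.mem_subgroupOf.mp h1)
  obtain ⟨x, hxN', hxM', -, hxc⟩ := kj_exists_over_in hTp M' N' hM'N' hne
  have hy'L : (x : P) ∈ L := Subgroup.mem_subgroupOf.mp hxN'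
  have hy'W : (x : P) ∉ W := fun h => hxM' (Subgroup.mem_subgroupOf.mpr h)
  have hy'c : ∀ t ∈ T, (x : P)⁻¹ * t * (x : P) * t⁻¹ ∈ W := by
    intro t ht
    have := hxc ⟨t, ht⟩
    rw [hM', Subgroup.mem_subgroupOf] at this
    simpa using this
  refine ⟨(x : P), hLQ hy'L, hLe _ hy'L, hy'W, ?_⟩
  have hy'F' : (x : P) ∈ W ⊔ Subgroup.zpowers (x : P) :=
    (le_sup_right : Subgroup.zpowers (x : P) ≤ _) (Subgroup.mem_zpowers _)
  have hTle : T ≤ Subgroup.normalizer ((W ⊔ Subgroup.zpowers (x : P) : Subgroup P) : Set P) := by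
    rw [Subgroup.le_normalizer_iff]
    intro t ht k hk
    have hmap : (W ⊔ Subgroup.zpowers (x : P)).map (MulAut.conj t).toMonoidHom ≤
        W ⊔ Subgroup.zpowers (x : P) := by
      rw [Subgroup.map_sup]
      apply sup_le
      · rintro _ ⟨a, ha, rfl⟩
        exact (le_sup_left : W ≤ _) (hWn.conj_mem a ha t)
      · rw [MonoidHom.map_zpowers, Subgroup.zpowers_le]
        have e : (MulAut.conj t).toMonoidHom (x : P) =
            (x : P) * ((x : P)⁻¹ * t * (x : P) * t⁻¹) := by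
          simp [MulAut.conj_apply]; group
        rw [e]
        exact mul_mem hy'F' ((le_sup_left : W ≤ _) (hy'c t ht))
    exact hmap ⟨k, hk, by simp [MulAut.conj_apply]⟩
  have hlt : Nat.card N < Nat.card T := by
    by_contra hge
    push Not at hge
    exact hNT.ne (Subgroup.eq_of_le_of_card_ge hNT.le hge)
  exact lt_of_lt_of_le hlt (Subgroup.card_le_of_le hTle)

/-- **Alperin**: for odd `p`, if `W` is a maximal normal elementary abelian subgroup of the `p`-group
`P`, then every element of order dividing `p` in `C_P(W)` lies in `W`. -/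
theorem kj_alperin [Finite P] {p : ℕ} [hp : Fact p.Prime] (hp2 : p ≠ 2) (hP : IsPGroup p P)
    (W : Subgroup P) [hWn : W.Normal] (hW : Cfsg.IsElementaryAbelian p W)
    (hmax : ∀ F : Subgroup P, F.Normal → Cfsg.IsElementaryAbelian p F → W ≤ F → F = W) :
    ∀ y ∈ Subgroup.centralizer (W : Set P), y ^ p = 1 → y ∈ W := by
  have hWc := (Cfsg.Agent.Lib.Helper1.isMulCommutative_subgroup_iff W).mp hW.1
  have hWe := hW.2
  have hnormal : ∀ y : P, y ∈ Subgroup.centralizer (W : Set P) → y ^ p = 1 → y ∉ W →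
      ¬ (W ⊔ Subgroup.zpowers y).Normal := by
    intro y hyQ hyp hyW hn
    have hyc : ∀ b ∈ W, y * b = b * y := fun b hb =>
      ((Subgroup.mem_centralizer_iff.mp hyQ) b hb).symm
    obtain ⟨-, hFc, hFe⟩ := sup_zpowers_facts W y hyp hyW hyc hWc hWe
    have hea : Cfsg.IsElementaryAbelian p (W ⊔ Subgroup.zpowers y) :=
      ⟨(Cfsg.Agent.Lib.Helper1.isMulCommutative_subgroup_iff _).mpr hFc, hFe⟩
    have := hmax _ hn hea le_sup_left
    apply hyW
    rw [← this]
    exact (le_sup_right : Subgroup.zpowers y ≤ _) (Subgroup.mem_zpowers y)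
  have key : ∀ k : ℕ, ∀ y : P, y ∈ Subgroup.centralizer (W : Set P) → y ^ p = 1 → y ∉ W →
      Nat.card P ≤
        Nat.card (Subgroup.normalizer ((W ⊔ Subgroup.zpowers y : Subgroup P) : Set P)) + k →
      False := by
    intro k
    induction k with
    | zero =>
      intro y hyQ hyp hyW hle
      obtain ⟨y', -, -, -, hlt⟩ :=
        kj_alperin_step hp2 hP W hWc hWe y hyQ hyp hyW (hnormal y hyQ hyp hyW)
      have := Subgroup.card_le_card_group
        (Subgroup.normalizer ((W ⊔ Subgroup.zpowers y' : Subgroup P) : Set P))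
      omega
    | succ k ih =>
      intro y hyQ hyp hyW hle
      obtain ⟨y', hy'Q, hy'p, hy'W, hlt⟩ :=
        kj_alperin_step hp2 hP W hWc hWe y hyQ hyp hyW (hnormal y hyQ hyp hyW)
      exact ih y' hy'Q hy'p hy'W (by omega)
  intro y hyQ hyp
  by_contra hyW
  exact key (Nat.card P) y hyQ hyp hyW (Nat.le_add_left _ _)

end KJ2

end Cfsg.Agent.Lib.Helper9
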