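import Mathlib
import Cfsg.Agent.Lib.Helper9.KJ2
import Cfsg.Agent.Lib.Helper9.RankComp3
import Cfsg.Agent.Lib.Helper21.OmegaCent2

set_option autoImplicit false
set_option maxHeartbeats 1600000

namespace Cfsg.Agent.Lib.Helper9

section KJ3
variable {P : Type*} [Group P]

open Cfsg.Agent.Lib.Helper21.OmegaCent

/-- two elementary abelian subgroups of order `p⁴` containing `U`, one normalizing the other,
coincide -/
theorem kj_unique [Finite P] {p : ℕ} [hp : Fact p.Prime] (hp2 : p ≠ 2) (hP : IsPGroup p P)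
    (W U : Subgroup P) [hWn : W.Normal] [hUn : U.Normal] (hW : Cfsg.IsElementaryAbelian p W)
    (hUW : U ≤ W) (hWcard : Nat.card W = p ^ 3) (hUcard : Nat.card U = p ^ 2)
    (hΩ : ∀ y ∈ Subgroup.centralizer (W : Set P), y ^ p = 1 → y ∈ W)
    (F F₁ : Subgroup P) (hF : Cfsg.IsElementaryAbelian p F) (hF₁ : Cfsg.IsElementaryAbelian p F₁)
    (hFcard : Nat.card F = p ^ 4) (hF₁card : Nat.card F₁ = p ^ 4) (hUF : U ≤ F) (hUF₁ : U ≤ F₁)
    (h2 : ∀ x ∈ F₁, ∀ f ∈ F, x * f * x⁻¹ ∈ F) :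
    F₁ ≤ F := by
  classical
  have hp1 := hp.out.one_lt
  have hppos := hp.out.pos
  have hWc := (Cfsg.Agent.Lib.Helper1.isMulCommutative_subgroup_iff W).mp hW.1
  have hFc := (Cfsg.Agent.Lib.Helper1.isMulCommutative_subgroup_iff F).mp hF.1
  have hF₁c := (Cfsg.Agent.Lib.Helper1.isMulCommutative_subgroup_iff F₁).mp hF₁.1
  have hUneW : U ≠ W := by
    intro h
    rw [h, hWcard] at hUcard
    exact absurd hUcard (ne_of_gt (Nat.pow_lt_pow_right hp1 (by norm_num)))
  obtain ⟨w₀, hw₀W, hw₀U, hw₀p, hw₀c⟩ := kj_exists_over_in hP U W hUW hUneW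
  set C := Subgroup.centralizer (U : Set P) with hC
  -- any element of `W` outside `U` generates `W` over `U`
  have hQC : ∀ w ∈ W, w ∉ U → ∀ c ∈ C, c * w = w * c →
      c ∈ Subgroup.centralizer (W : Set P) := by
    intro w hwW hwU c hc hcw
    have hwp : w ^ p ∈ U := by rw [hW.2 w hwW]; exact U.one_mem
    have hWeq : U ⊔ Subgroup.zpowers w = W := by
      apply Subgroup.eq_of_le_of_card_ge (sup_le hUW (Subgroup.zpowers_le.mpr hwW))
      rw [Cfsg.Agent.Lib.Helper24.nr_card_sup U w hwU hwp, hWcard, hUcard]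
      exact le_of_eq (by ring)
    have hle : U ⊔ Subgroup.zpowers w ≤ Subgroup.centralizer ({c} : Set P) := by
      apply sup_le
      · intro u hu
        rw [Subgroup.mem_centralizer_iff]
        intro h hh
        rw [Set.mem_singleton_iff] at hh
        rw [hh]
        exact ((Subgroup.mem_centralizer_iff.mp hc) u hu).symm
      · rw [Subgroup.zpowers_le, Subgroup.mem_centralizer_iff]
        intro h hh
        rw [Set.mem_singleton_iff] at hh
        rw [hh]
        exact hcw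
    rw [Subgroup.mem_centralizer_iff]
    intro x hx
    rw [← hWeq] at hx
    have := (Subgroup.mem_centralizer_iff.mp (hle hx)) c (Set.mem_singleton c)
    exact this.symm
  -- the commutator map
  set τ : P → P := fun c => c * w₀ * c⁻¹ * w₀⁻¹ with hτ
  have hτU : ∀ c, τ c ∈ U := by
    intro c
    have := hUn.conj_mem _ (hw₀c c) w₀
    have e : w₀ * (w₀⁻¹ * c * w₀ * c⁻¹) * w₀⁻¹ = τ c := by simp only [hτ]; group
    rwa [e] at this
  have hUc : ∀ a ∈ U, ∀ b ∈ U, a * b = b * a := fun a ha b hb => hWc a (hUW ha) b (hUW hb)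
  have hτmul : ∀ c ∈ C, ∀ c' ∈ C, τ (c * c') = τ c * τ c' := by
    intro c hc c' hc'
    have hcomm1 : τ c' * c = c * τ c' := (Subgroup.mem_centralizer_iff.mp hc) (τ c') (hτU c')
    calc τ (c * c') = c * τ c' * w₀ * c⁻¹ * w₀⁻¹ := by simp only [hτ]; group
      _ = τ c' * c * w₀ * c⁻¹ * w₀⁻¹ := by rw [hcomm1]
      _ = τ c' * τ c := by simp only [hτ]; group
      _ = τ c * τ c' := hUc _ (hτU c') _ (hτU c)
  have hτone : τ 1 = 1 := by simp only [hτ]; group
  have hτinv : ∀ c ∈ C, τ c⁻¹ = (τ c)⁻¹ := by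
    intro c hc
    have := hτmul c⁻¹ (inv_mem hc) c hc
    rw [inv_mul_cancel, hτone] at this
    exact eq_inv_of_mul_eq_one_left this.symm
  have hτker : ∀ c, τ c = 1 ↔ c * w₀ = w₀ * c := by
    intro c
    constructor
    · intro h
      have : c * w₀ = τ c * (w₀ * c) := by simp only [hτ]; group
      rw [this, h, one_mul]
    · intro h
      simp only [hτ]
      rw [h]; group
  -- properties of members of the family
  have hgen : ∀ X : Subgroup P, Cfsg.IsElementaryAbelian p X → Nat.card X = p ^ 4 → U ≤ X →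
      (X ≤ C) ∧ (∀ f ∈ X, f ∈ W → f ∈ U) ∧
        (∀ w ∈ W, w ∉ U → ∀ f ∈ X, f * w = w * f → f ∈ U) := by
    intro X hX hXcard hUX
    have hXc := (Cfsg.Agent.Lib.Helper1.isMulCommutative_subgroup_iff X).mp hX.1
    have hXC : X ≤ C := fun f hf =>
      Subgroup.mem_centralizer_iff.mpr (fun u hu => hXc u (hUX hu) f hf)
    have hXW : ∀ f ∈ X, f ∈ W → f ∈ U := by
      rcases kj_between_prime (W := U) (D := X ⊓ W) (F := W) (le_inf hUX hUW) inf_le_right
        (by rw [hWcard, hUcard]; ring) with h | h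
      · intro f hf hfW
        rw [← h]; exact ⟨hf, hfW⟩
      · exfalso
        have hWX : W ≤ X := by rw [← h]; exact inf_le_left
        have hXle : X ≤ W := fun f hf =>
          hΩ f (Subgroup.mem_centralizer_iff.mpr (fun w hw => hXc w (hWX hw) f hf)) (hX.2 f hf)
        have := Subgroup.card_le_of_le hXle
        rw [hXcard, hWcard] at this
        exact absurd this (not_le.mpr (Nat.pow_lt_pow_right hp1 (by norm_num)))
    refine ⟨hXC, hXW, ?_⟩
    intro w hwW hwU f hf hfw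
    exact hXW f hf (hΩ f (hQC w hwW hwU f (hXC hf) hfw) (hX.2 f hf))
  obtain ⟨hFC, hFW, hFQ⟩ := hgen F hF hFcard hUF
  obtain ⟨hF₁C, hF₁W, hF₁Q⟩ := hgen F₁ hF₁ hF₁card hUF₁
  -- surjectivity of `τ` on `F`
  have hsurj : ∀ u ∈ U, ∃ f ∈ F, τ f = u := by
    let φ : ↥F →* ↥U := MonoidHom.mk' (fun f => ⟨τ f.1, hτU f.1⟩)
      (fun a b => Subtype.ext (hτmul a.1 (hFC a.2) b.1 (hFC b.2)))
    have hker : φ.ker = U.subgroupOf F := by
      ext f
      rw [MonoidHom.mem_ker, Subgroup.mem_subgroupOf]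
      constructor
      · intro h
        have h' : τ f.1 = 1 := congrArg Subtype.val h
        exact hFQ w₀ hw₀W hw₀U f.1 f.2 ((hτker _).mp h')
      · intro h
        apply Subtype.ext
        show τ f.1 = 1
        rw [hτker]
        exact hWc _ (hUW h) _ hw₀W
    have hcardker : Nat.card φ.ker = p ^ 2 := by
      rw [hker, Cfsg.Agent.Lib.Helper5.card_subgroupOf_of_le hUF, hUcard]
    have hcr := kj_card_ker_mul_range φ
    rw [hFcard, hcardker] at hcr
    have hrange : Nat.card φ.range = p ^ 2 := by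
      have : p ^ 2 * p ^ 2 = p ^ 2 * Nat.card φ.range := by rw [← hcr]; ring
      exact (Nat.eq_of_mul_eq_mul_left (pow_pos hppos 2) this).symm
    have htop : φ.range = ⊤ := Subgroup.eq_top_of_card_eq _ (by rw [hrange, hUcard])
    intro u hu
    have : (⟨u, hu⟩ : ↥U) ∈ φ.range := by rw [htop]; exact Subgroup.mem_top _
    obtain ⟨f, hf⟩ := this
    exact ⟨f.1, f.2, congrArg Subtype.val hf⟩
  -- every element of `F₁` is in `F W`
  have hB1 : ∀ f₁ ∈ F₁, ∃ f ∈ F, ∃ w ∈ W, f₁ = f * w := by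
    intro f₁ hf₁
    obtain ⟨f, hf, hτf⟩ := hsurj (τ f₁) (hτU f₁)
    refine ⟨f, hf, f⁻¹ * f₁, ?_, by group⟩
    have hfC := hFC hf
    have hf₁C := hF₁C hf₁
    have hτq : τ (f⁻¹ * f₁) = 1 := by
      rw [hτmul _ (inv_mem hfC) _ hf₁C, hτinv f hfC, hτf, inv_mul_cancel]
    have hqcomm : (f⁻¹ * f₁) * w₀ = w₀ * (f⁻¹ * f₁) := (hτker _).mp hτq
    have hqQ := hQC w₀ hw₀W hw₀U _ (mul_mem (inv_mem hfC) hf₁C) hqcomm
    have hcF : f₁⁻¹ * f⁻¹⁻¹ * f₁ * f⁻¹ ∈ F := by
      have := h2 f₁⁻¹ (inv_mem hf₁) f hf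
      rw [inv_inv] at this ⊢
      exact mul_mem this (inv_mem hf)
    have hcC : f₁⁻¹ * f⁻¹⁻¹ * f₁ * f⁻¹ ∈ C := hFC hcF
    have hcτ : τ (f₁⁻¹ * f⁻¹⁻¹ * f₁ * f⁻¹) = 1 := by
      rw [inv_inv]
      rw [hτmul _ (mul_mem (mul_mem (inv_mem hf₁C) hfC) hf₁C) _ (inv_mem hfC),
        hτmul _ (mul_mem (inv_mem hf₁C) hfC) _ hf₁C,
        hτmul _ (inv_mem hf₁C) _ hfC, hτinv f hfC, hτinv f₁ hf₁C, hτf]
      group
    have hcU : f₁⁻¹ * f⁻¹⁻¹ * f₁ * f⁻¹ ∈ U :=
      hFQ w₀ hw₀W hw₀U _ hcF ((hτker _).mp hcτ)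
    have hca : Commute (f₁⁻¹ * f⁻¹⁻¹ * f₁ * f⁻¹) f⁻¹ :=
      (Subgroup.mem_centralizer_iff.mp (inv_mem hfC)) _ hcU
    have hcb : Commute (f₁⁻¹ * f⁻¹⁻¹ * f₁ * f⁻¹) f₁ :=
      (Subgroup.mem_centralizer_iff.mp hf₁C) _ hcU
    have hpow : (f⁻¹ * f₁) ^ p = 1 :=
      mul_pow_prime_class2 hp.out hp2 hca hcb (by group)
        (by rw [inv_pow, hF.2 f hf, inv_one]) (hF₁.2 f₁ hf₁) (hW.2 _ (hUW hcU))
    exact hΩ _ hqQ hpow
  -- an element of `F ⊓ F₁` outside `U`
  have hB2 : ∃ d, d ∈ F ∧ d ∈ F₁ ∧ d ∉ U := by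
    have hFR : F ≤ F ⊔ W := le_sup_left
    have hWR : W ≤ F ⊔ W := le_sup_right
    have hF₁R : F₁ ≤ F ⊔ W := by
      intro f₁ hf₁
      obtain ⟨f, hf, w, hw, rfl⟩ := hB1 f₁ hf₁
      exact mul_mem (hFR hf) (hWR hw)
    have hWF : W ⊓ F = U :=
      le_antisymm (fun x hx => hFW x hx.2 hx.1) (le_inf hUW hUF)
    have hUrel : U.relIndex F = p ^ 2 := by
      have h := Cfsg.Agent.Lib.Helper18.card_mul_relIndex_of_le_h18 hUF
      rw [hUcard, hFcard] at h
      have : p ^ 2 * U.relIndex F = p ^ 2 * p ^ 2 := by rw [h]; ring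
      exact Nat.eq_of_mul_eq_mul_left (pow_pos hppos 2) this
    have hWrel : W.relIndex (F ⊔ W) = p ^ 2 := by
      rw [Subgroup.relIndex_sup_right F W, ← Subgroup.inf_relIndex_right W F, hWF, hUrel]
    have hRcard : Nat.card (F ⊔ W : Subgroup P) = p ^ 5 := by
      rw [← Cfsg.Agent.Lib.Helper18.card_mul_relIndex_of_le_h18 hWR, hWcard, hWrel]; ring
    have hFrel : F.relIndex (F ⊔ W) = p := by
      have h := Cfsg.Agent.Lib.Helper18.card_mul_relIndex_of_le_h18 hFR
      rw [hFcard, hRcard] at h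
      have : p ^ 4 * F.relIndex (F ⊔ W) = p ^ 4 * p := by rw [h]; ring
      exact Nat.eq_of_mul_eq_mul_left (pow_pos hppos 4) this
    have hF₁rel : F₁.relIndex (F ⊔ W) = p := by
      have h := Cfsg.Agent.Lib.Helper18.card_mul_relIndex_of_le_h18 hF₁R
      rw [hF₁card, hRcard] at h
      have : p ^ 4 * F₁.relIndex (F ⊔ W) = p ^ 4 * p := by rw [h]; ring
      exact Nat.eq_of_mul_eq_mul_left (pow_pos hppos 4) this
    have hinf := Subgroup.relIndex_inf_le (H := F) (K := F₁) (L := F ⊔ W)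
    rw [hFrel, hF₁rel] at hinf
    have hDR : F ⊓ F₁ ≤ F ⊔ W := inf_le_left.trans hFR
    have hD := Cfsg.Agent.Lib.Helper18.card_mul_relIndex_of_le_h18 hDR
    rw [hRcard] at hD
    by_contra hcon
    push Not at hcon
    have hDU : F ⊓ F₁ ≤ U := fun d hd => hcon d hd.1 hd.2
    have hDcard := Subgroup.card_le_of_le hDU
    rw [hUcard] at hDcard
    have : p ^ 5 ≤ p ^ 2 * (p * p) := by
      rw [← hD]
      exact Nat.mul_le_mul hDcard hinf
    have h5 : p ^ 2 * (p * p) = p ^ 4 := by ring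
    rw [h5] at this
    exact absurd this (not_le.mpr (Nat.pow_lt_pow_right hp1 (by norm_num)))
  obtain ⟨d, hdF, hdF₁, hdU⟩ := hB2
  intro f₁ hf₁
  obtain ⟨f, hf, w, hw, rfl⟩ := hB1 f₁ hf₁
  by_cases hwU : w ∈ U
  · exact mul_mem hf (hUF hwU)
  · exfalso
    have hd1 : d * (f * w) = (f * w) * d := hF₁c d hdF₁ _ hf₁
    have hd2 : d * f = f * d := hFc d hdF f hf
    have hdw : d * w = w * d := by
      have : f * (d * w) = f * (w * d) := by
        rw [← mul_assoc, ← hd2, mul_assoc, hd1]; group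
      exact mul_left_cancel this
    exact hdU (hFQ w hw hwU d hdF hdw)

/-- **Konvisser–Jonah for `p⁴`**: for odd `p`, a `p`-group with an elementary abelian subgroup of
order `p⁴` has a normal one. -/
theorem kj_main [Finite P] {p : ℕ} [hp : Fact p.Prime] (hp2 : p ≠ 2) (hP : IsPGroup p P)
    (E : Subgroup P) (hE : Cfsg.IsElementaryAbelian p E) (hE4 : Nat.card E = p ^ 4) :
    ∃ A : Subgroup P, A.Normal ∧ Cfsg.IsElementaryAbelian p A ∧ Nat.card A = p ^ 4 := by
  classical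
  by_contra hno
  push Not at hno
  have hp1 := hp.out.one_lt
  have hppos := hp.out.pos
  haveI : Group.IsNilpotent P := hP.isNilpotent
  have hEc := (Cfsg.Agent.Lib.Helper1.isMulCommutative_subgroup_iff E).mp hE.1
  -- a normal elementary abelian subgroup of largest order
  obtain ⟨W, ⟨hWn, hW⟩, hWmax⟩ := Set.exists_max_image
    {A : Subgroup P | A.Normal ∧ Cfsg.IsElementaryAbelian p A} (fun A => Nat.card A)
    (Set.toFinite _) ⟨⊥, inferInstance, Cfsg.Agent.Lib.Helper5.elemAb_bot p⟩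
  haveI := hWn
  obtain ⟨k, hk⟩ := IsPGroup.iff_card.mp (hP.to_subgroup W)
  have hk4 : k < 4 := by
    by_contra hge
    push Not at hge
    obtain ⟨B, hBW, hBn, hBc⟩ := Cfsg.Agent.Lib.Helper24.nr_exists_normal_card hP 4 (k - 4) W
      (by rw [hk]; congr 1; omega)
    exact hno B hBn (Cfsg.Agent.Lib.Helper5.elemAb_of_le hBW hW) hBc
  have hk3 : 3 ≤ k := by
    obtain ⟨A₃, hA₃n, hA₃c, hA₃e, hA₃card⟩ := exists_normal_elemAb_cube hp2 hP
      ⟨E, hEc, hE.2, by rw [hE4]; exact Nat.pow_lt_pow_right hp1 (by norm_num)⟩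
    have := hWmax A₃ ⟨hA₃n, (Cfsg.Agent.Lib.Helper1.isMulCommutative_subgroup_iff A₃).mpr hA₃c,
      hA₃e⟩
    rw [hA₃card, hk] at this
    exact (Nat.pow_le_pow_iff_right hp1).mp this
  have hWcard : Nat.card W = p ^ 3 := by
    rw [hk]; congr 1; omega
  have hmaxW : ∀ F : Subgroup P, F.Normal → Cfsg.IsElementaryAbelian p F → W ≤ F → F = W := by
    intro F hFn hF hWF
    exact (Subgroup.eq_of_le_of_card_ge hWF (hWmax F ⟨hFn, hF⟩)).symm
  have hΩ := kj_alperin hp2 hP W hW hmaxW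
  obtain ⟨U, hUW, hUn, hUcard⟩ := Cfsg.Agent.Lib.Helper24.nr_exists_normal_card hP 2 1 W hWcard
  haveI := hUn
  have hU : Cfsg.IsElementaryAbelian p U := Cfsg.Agent.Lib.Helper5.elemAb_of_le hUW hW
  -- a member of the family
  have hex : ∃ F : Subgroup P, Cfsg.IsElementaryAbelian p F ∧ Nat.card F = p ^ 4 ∧ U ≤ F := by
    by_cases hUE : U ≤ E
    · exact ⟨E, hE, hE4, hUE⟩
    · set E₁ : Subgroup P := E ⊓ Subgroup.centralizer (U : Set P) with hE₁
      have h1 := rc_card_le hP U hU hUcard E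
      have hE₁card : p ^ 3 ≤ Nat.card E₁ := by
        rw [hE4] at h1
        have : p * p ^ 3 ≤ p * Nat.card E₁ := by
          calc p * p ^ 3 = p ^ 4 := by ring
            _ ≤ p * Nat.card E₁ := h1
        exact Nat.le_of_mul_le_mul_left this hppos
      have hE₁ea : Cfsg.IsElementaryAbelian p E₁ :=
        Cfsg.Agent.Lib.Helper5.elemAb_of_le inf_le_left hE
      have hE₁U : ∀ a ∈ E₁, ∀ b ∈ U, a * b = b * a := by
        intro a ha b hb
        have h2 : a ∈ Subgroup.centralizer (U : Set P) := ha.2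
        rw [Subgroup.mem_centralizer_iff] at h2
        exact (h2 b hb).symm
      have hBea := rc_ea_sup hE₁ea hU hE₁U
      set B : Subgroup P := E₁ ⊔ U with hB
      have hE₁B : E₁ ≤ B := le_sup_left
      have hUB : U ≤ B := le_sup_right
      have hlt : Nat.card E₁ < Nat.card B := by
        by_contra hge
        push Not at hge
        have := Subgroup.eq_of_le_of_card_ge hE₁B hge
        apply hUE
        have hUE₁ : U ≤ E₁ := by rw [this]; exact hUB
        exact hUE₁.trans inf_le_left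
      obtain ⟨m, hm⟩ := IsPGroup.iff_card.mp (hP.to_subgroup B)
      have hm4 : 4 ≤ m := by
        have h3 : p ^ 3 < p ^ m := by rw [← hm]; exact lt_of_le_of_lt hE₁card hlt
        have := (Nat.pow_lt_pow_iff_right hp1).mp h3
        omega
      have hdvd : p ^ 4 ∣ Nat.card ↥B := by
        rw [hm]; exact pow_dvd_pow p hm4
      have hH : Nat.card (U.subgroupOf B) = p ^ 2 := by
        rw [Cfsg.Agent.Lib.Helper5.card_subgroupOf_of_le hUB, hUcard]
      obtain ⟨K, hKcard, hHK⟩ := Sylow.exists_subgroup_card_pow_prime_le p hdvd (U.subgroupOf B) hH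
        (by norm_num : 2 ≤ 4)
      refine ⟨K.map B.subtype, ?_, ?_, ?_⟩
      · apply Cfsg.Agent.Lib.Helper5.elemAb_of_le _ hBea
        rintro _ ⟨y, -, rfl⟩
        exact y.2
      · rw [Subgroup.card_map_of_injective B.subtype_injective, hKcard]
      · intro u hu
        exact ⟨⟨u, hUB hu⟩, hHK (Subgroup.mem_subgroupOf.mpr hu), rfl⟩
  obtain ⟨F, hF, hFcard, hUF⟩ := hex
  set N := Subgroup.normalizer (F : Set P) with hN
  have hFN : F ≤ N := Subgroup.le_normalizer
  have hNtop : N < ⊤ := by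
    rw [lt_top_iff_ne_top]
    intro h
    exact hno F (Subgroup.normalizer_eq_top_iff.mp h) hF hFcard
  have hNT := Group.normalizerCondition_of_isNilpotent N hNtop
  obtain ⟨g, hgT, hgN⟩ := SetLike.exists_of_lt hNT
  have hconjN : ∀ t ∈ Subgroup.normalizer (N : Set P), ∀ n ∈ N, t * n * t⁻¹ ∈ N :=
    fun t ht n hn => ((Subgroup.mem_normalizer_iff.mp ht) n).mp hn
  have hconjF : ∀ n ∈ N, ∀ f ∈ F, n * f * n⁻¹ ∈ F := fun n hn f hf =>
    ((Subgroup.mem_normalizer_iff.mp hn) f).mp hf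
  set F₁ : Subgroup P := F.map (MulAut.conj g).toMonoidHom with hF₁def
  have hF₁ : Cfsg.IsElementaryAbelian p F₁ := Cfsg.Agent.Lib.Helper5.elemAb_map _ hF
  have hF₁card : Nat.card F₁ = p ^ 4 := by
    rw [hF₁def, Subgroup.card_map_of_injective (MulAut.conj g).injective, hFcard]
  have hUF₁ : U ≤ F₁ := by
    intro u hu
    rw [hF₁def, kj_mem_conj]
    apply hUF
    have := hUn.conj_mem u hu g⁻¹
    rwa [inv_inv] at this
  have hF₁N : F₁ ≤ N := by
    intro x hx
    rw [hF₁def, kj_mem_conj] at hx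
    have := hconjN g hgT _ (hFN hx)
    have e : g * (g⁻¹ * x * g) * g⁻¹ = x := by group
    rwa [e] at this
  have h2 : ∀ x ∈ F₁, ∀ f ∈ F, x * f * x⁻¹ ∈ F := fun x hx f hf => hconjF x (hF₁N hx) f hf
  have hle := kj_unique hp2 hP W U hW hUW hWcard hUcard hΩ F F₁ hF hF₁ hFcard hF₁card hUF hUF₁ h2
  have heq : F₁ = F := Subgroup.eq_of_le_of_card_ge hle (by rw [hFcard, hF₁card])
  apply hgN
  rw [hN, Subgroup.mem_normalizer_iff]
  intro h
  constructor
  · intro hh
    rw [← heq]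
    exact ⟨h, hh, by simp [MulAut.conj_apply]⟩
  · intro hh
    rw [← heq, hF₁def, kj_mem_conj] at hh
    have e : g⁻¹ * (g * h * g⁻¹) * g = h := by group
    rwa [e] at hh

end KJ3

end Cfsg.Agent.Lib.Helper9
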