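import Mathlib
import Cfsg.Agent.Lib.Helper9.KJ3

set_option autoImplicit false
set_option maxHeartbeats 1600000

namespace Cfsg.Agent.Lib.Helper9

section KJ4

open Cfsg.Agent.Lib.Helper21.OmegaCent

theorem kj_add_cube {A : Type*} [AddCommGroup A] (h3 : ∀ a : A, 3 • a = 0) (c : A →+ A)
    (hc : ∀ a, c (c (c a)) = a) (a : A) :
    c (c (c a - a) - (c a - a)) - (c (c a - a) - (c a - a)) = 0 := by
  have h : c (c (c a - a) - (c a - a)) - (c (c a - a) - (c a - a))
      = (c (c (c a)) - a) - 3 • (c (c a) - c a) := by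
    simp only [map_sub]
    abel
  rw [h, hc, sub_self, h3, sub_zero]

theorem kj_mul_cube {A : Type*} [CommGroup A] (h3 : ∀ a : A, a ^ 3 = 1) (c : A →* A)
    (hc : ∀ a, c (c (c a)) = a) (a : A) :
    c (c (c a / a) / (c a / a)) / (c (c a / a) / (c a / a)) = 1 :=
  kj_add_cube (A := Additive A) h3 (MonoidHom.toAdditive c) hc a

/-- an endomorphism with trivial cube has a kernel of order at least the cube root -/
theorem kj_card_le_ker_cube {G : Type*} [Group G] [Finite G] (φ : G →* G)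
    (h : ∀ g, φ (φ (φ g)) = 1) : Nat.card G ≤ (Nat.card φ.ker) ^ 3 := by
  have h1 := kj_card_ker_mul_range φ
  let φ₁ : ↥φ.range →* G := φ.comp φ.range.subtype
  have h2 := kj_card_ker_mul_range φ₁
  have hk : Nat.card φ₁.ker ≤ Nat.card φ.ker := by
    apply Nat.card_le_card_of_injective
      (fun x : φ₁.ker => (⟨x.1.1, by
        have := x.2
        rw [MonoidHom.mem_ker] at this ⊢
        exact this⟩ : φ.ker))
    intro x y hxy
    simp only [Subtype.mk.injEq] at hxy
    exact Subtype.ext (Subtype.ext hxy)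
  have hr : Nat.card φ₁.range ≤ Nat.card φ.ker := by
    apply Subgroup.card_le_of_le
    rintro _ ⟨⟨_, ⟨g, rfl⟩⟩, rfl⟩
    rw [MonoidHom.mem_ker]
    exact h g
  calc Nat.card G = Nat.card φ.ker * (Nat.card φ₁.ker * Nat.card φ₁.range) := by rw [h1, h2]
    _ ≤ Nat.card φ.ker * (Nat.card φ.ker * Nat.card φ.ker) :=
      Nat.mul_le_mul_left _ (Nat.mul_le_mul hk hr)
    _ = (Nat.card φ.ker) ^ 3 := by ring

variable {P : Type*} [Group P]

open scoped IsMulCommutative in
/-- an element of order 3 acting on a normal elementary abelian 3-subgroup `V` fixes at least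
`|V|^{1/3}` points -/
theorem kj_fixed_card [Finite P] (V : Subgroup P) [hVn : V.Normal]
    (hV : Cfsg.IsElementaryAbelian 3 V) (e : P) (he : e ^ 3 = 1) :
    Nat.card V ≤ (Nat.card (V ⊓ Subgroup.centralizer ({e} : Set P) : Subgroup P)) ^ 3 := by
  haveI := hV.1
  let cV : ↥V →* ↥V := MonoidHom.mk' (fun v => ⟨e * v.1 * e⁻¹, hVn.conj_mem v.1 v.2 e⟩) (by
    intro a b
    apply Subtype.ext
    show e * (a.1 * b.1) * e⁻¹ = (e * a.1 * e⁻¹) * (e * b.1 * e⁻¹)
    group)
  have hcV : ∀ v : ↥V, ((cV v : ↥V) : P) = e * v.1 * e⁻¹ := fun v => rfl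
  have hc : ∀ a, cV (cV (cV a)) = a := by
    intro a
    apply Subtype.ext
    rw [hcV, hcV, hcV]
    have : e * (e * (e * a.1 * e⁻¹) * e⁻¹) * e⁻¹ = e ^ 3 * a.1 * (e ^ 3)⁻¹ := by
      simp only [pow_succ, pow_zero, one_mul, mul_inv_rev, mul_assoc]
    rw [this, he]; simp
  have h3 : ∀ a : ↥V, a ^ 3 = 1 := fun a => Subtype.ext (by simpa using hV.2 a.1 a.2)
  let φ : ↥V →* ↥V := cV / MonoidHom.id ↥V
  have hφ : ∀ g, φ g = cV g / g := fun g => rfl
  have h3' : ∀ g, φ (φ (φ g)) = 1 := by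
    intro g
    rw [hφ, hφ, hφ]
    exact kj_mul_cube h3 cV hc g
  have h4 := kj_card_le_ker_cube φ h3'
  have h5 : Nat.card φ.ker ≤ Nat.card (V ⊓ Subgroup.centralizer ({e} : Set P) : Subgroup P) := by
    apply Nat.card_le_card_of_injective
      (fun x : φ.ker => (⟨x.1.1, by
        have hx := x.2
        rw [MonoidHom.mem_ker, hφ, div_eq_one] at hx
        have hx' : e * x.1.1 * e⁻¹ = x.1.1 := by rw [← hcV, hx]
        refine Subgroup.mem_inf.mpr ⟨x.1.2, ?_⟩
        rw [Subgroup.mem_centralizer_iff]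
        intro h hh
        rw [Set.mem_singleton_iff] at hh
        rw [hh]
        calc e * x.1.1 = (e * x.1.1 * e⁻¹) * e := by group
          _ = x.1.1 * e := by rw [hx']⟩ :
        (V ⊓ Subgroup.centralizer ({e} : Set P) : Subgroup P)))
    intro x y hxy
    simp only [Subtype.mk.injEq] at hxy
    exact Subtype.ext (Subtype.ext hxy)
  calc Nat.card V ≤ (Nat.card φ.ker) ^ 3 := h4
    _ ≤ _ := Nat.pow_le_pow_left h5 3

end KJ4

end Cfsg.Agent.Lib.Helper9
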