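import Mathlib
import Cfsg.Agent.Lib.Helper9.KJ4

set_option autoImplicit false
set_option maxHeartbeats 1600000

namespace Cfsg.Agent.Lib.Helper9

section KJ5
variable {P : Type*} [Group P]

open Cfsg.Agent.Lib.Helper21.OmegaCent

/-- in a 3-group with a normal `E₈₁`, every elementary abelian subgroup of order `≥ 9` has a
centralizer of rank `≥ 3` -/
theorem kj_cent_rank [Finite P] (hP : IsPGroup 3 P) (V : Subgroup P) [hVn : V.Normal]
    (hV : Cfsg.IsElementaryAbelian 3 V) (hVcard : Nat.card V = 3 ^ 4)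
    (X : Subgroup P) (hX : Cfsg.IsElementaryAbelian 3 X) (hXc : 3 ^ 2 ≤ Nat.card X) :
    ¬ Cfsg.PRankLE 3 2 ↥(Subgroup.centralizer (X : Set P)) := by
  classical
  haveI hp3 : Fact (Nat.Prime 3) := ⟨by norm_num⟩
  haveI : Group.IsNilpotent P := hP.isNilpotent
  by_cases hbig : 3 ^ 2 < Nat.card X
  · exact rc_not_rankLE_of X X hX (rc_le_centralizer_self hX) hbig
  have hXcard : Nat.card X = 3 ^ 2 := le_antisymm (not_lt.mp hbig) hXc
  have hXcomm := (Cfsg.Agent.Lib.Helper1.isMulCommutative_subgroup_iff X).mp hX.1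
  have hVcomm := (Cfsg.Agent.Lib.Helper1.isMulCommutative_subgroup_iff V).mp hV.1
  obtain ⟨U, hUV, hUn, hUcard⟩ := Cfsg.Agent.Lib.Helper24.nr_exists_normal_card hP 2 2 V hVcard
  haveI := hUn
  have hU : Cfsg.IsElementaryAbelian 3 U := Cfsg.Agent.Lib.Helper5.elemAb_of_le hUV hV
  set C := Subgroup.centralizer (U : Set P) with hC
  have hVC : V ≤ C := fun v hv =>
    Subgroup.mem_centralizer_iff.mpr (fun u hu => hVcomm u (hUV hu) v hv)
  -- a central element of order 3 in `U`
  have hUne : U ≠ ⊥ := by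
    intro h
    rw [h, Subgroup.card_bot] at hUcard
    norm_num at hUcard
  obtain ⟨⟨z, hz⟩, hz1⟩ := (Subgroup.ne_bot_iff_exists_ne_one).mp
    (Cfsg.Agent.Lib.Helper1.normal_inf_center_ne_bot U hUne)
  have hz1' : z ≠ 1 := fun h => hz1 (Subtype.ext h)
  have hzU : z ∈ U := hz.1
  have hzc : ∀ g : P, g * z = z * g := fun g => Subgroup.mem_center_iff.mp hz.2 g
  have hz3 : z ^ 3 = 1 := hU.2 z hzU
  -- general principle: an elementary abelian `Y` centralizing `X`, not inside `X`, does it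
  have hprinc : ∀ Y : Subgroup P, Cfsg.IsElementaryAbelian 3 Y →
      (∀ a ∈ X, ∀ b ∈ Y, a * b = b * a) → ¬ Y ≤ X →
      ¬ Cfsg.PRankLE 3 2 ↥(Subgroup.centralizer (X : Set P)) := by
    intro Y hY hXY hYX
    have hea := rc_ea_sup hX hY hXY
    have hle : X ⊔ Y ≤ Subgroup.centralizer (X : Set P) := by
      apply sup_le (rc_le_centralizer_self hX)
      intro y hy
      rw [Subgroup.mem_centralizer_iff]
      intro x hx
      exact hXY x hx y hy
    apply rc_not_rankLE_of X (X ⊔ Y) hea hle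
    rw [← hXcard]
    by_contra hge
    push Not at hge
    have := Subgroup.eq_of_le_of_card_ge (le_sup_left : X ≤ X ⊔ Y) hge
    apply hYX
    rw [this]
    exact le_sup_right
  have hZea : Cfsg.IsElementaryAbelian 3 (Subgroup.zpowers z) := by
    have : Subgroup.zpowers z = Subgroup.closure {z} := (Subgroup.zpowers_eq_closure z)
    rw [this]
    apply Cfsg.Agent.Lib.Helper5.elemAb_closure
    · intro x hx y hy
      rw [Set.mem_singleton_iff] at hx hy
      rw [hx, hy]
    · intro x hx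
      rw [Set.mem_singleton_iff] at hx
      rw [hx]; exact hz3
  have hZcen : ∀ g : P, ∀ b ∈ Subgroup.zpowers z, g * b = b * g := by
    intro g b hb
    obtain ⟨k, rfl⟩ := Subgroup.mem_zpowers_iff.mp hb
    exact ((Commute.zpow_right (hzc g) k)).eq
  by_cases hzX : z ∈ X
  swap
  · exact hprinc (Subgroup.zpowers z) hZea (fun a _ b hb => hZcen a b hb)
      (fun h => hzX (h (Subgroup.mem_zpowers z)))
  by_cases hXC : X ≤ C
  · -- `X` centralizes `U`
    have hXU : ∀ a ∈ X, ∀ b ∈ U, a * b = b * a := by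
      intro a ha b hb
      exact ((Subgroup.mem_centralizer_iff.mp (hXC ha)) b hb).symm
    by_cases hUX : U ≤ X
    · have hUeq : U = X := Subgroup.eq_of_le_of_card_ge hUX (by rw [hXcard, hUcard])
      have hle : V ≤ Subgroup.centralizer (X : Set P) := by rw [← hUeq]; exact hVC
      apply rc_not_rankLE_of X V hV hle
      rw [hVcard]; norm_num
    · exact hprinc U hU hXU hUX
  · obtain ⟨e, heX, heC⟩ := SetLike.not_le_iff_exists.mp hXC
    have he3 : e ^ 3 = 1 := hX.2 e heX
    have hUC : U ≤ C := fun u hu =>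
      Subgroup.mem_centralizer_iff.mpr (fun u' hu' => hVcomm u' (hUV hu') u (hUV hu))
    have heZ : e ∉ Subgroup.zpowers z := fun h =>
      heC (hUC ((Subgroup.zpowers_le.mpr hzU) h))
    have hZc : ∀ a ∈ Subgroup.zpowers z, ∀ b ∈ Subgroup.zpowers z, a * b = b * a :=
      fun a _ b hb => hZcen a b hb
    obtain ⟨hcard, -, -⟩ := sup_zpowers_facts (Subgroup.zpowers z) e he3 heZ
      (fun b hb => hZcen e b hb) hZc hZea.2
    have hZcard : Nat.card (Subgroup.zpowers z) = 3 := by
      rw [Nat.card_zpowers]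
      exact orderOf_eq_prime hz3 hz1'
    have hXeq : Subgroup.zpowers z ⊔ Subgroup.zpowers e = X := by
      apply Subgroup.eq_of_le_of_card_ge
        (sup_le (Subgroup.zpowers_le.mpr hzX) (Subgroup.zpowers_le.mpr heX))
      rw [hcard, hZcard, hXcard]; norm_num
    set K : Subgroup P := V ⊓ Subgroup.centralizer ({e} : Set P) with hK
    have hKV : K ≤ V := inf_le_left
    have hKea : Cfsg.IsElementaryAbelian 3 K := Cfsg.Agent.Lib.Helper5.elemAb_of_le hKV hV
    have hKcard : 3 ^ 2 ≤ Nat.card K := by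
      have h1 := kj_fixed_card V hV e he3
      rw [hVcard] at h1
      obtain ⟨j, hj⟩ := IsPGroup.iff_card.mp (hP.to_subgroup K)
      rw [← hK, hj] at h1
      rw [hj]
      have hj2 : 2 ≤ j := by
        by_contra hlt
        push Not at hlt
        have : j ≤ 1 := by omega
        have h2 : (3 ^ j) ^ 3 ≤ (3 ^ 1) ^ 3 :=
          Nat.pow_le_pow_left (Nat.pow_le_pow_right (by norm_num) this) 3
        norm_num at h2
        omega
      exact Nat.pow_le_pow_right (by norm_num) hj2
    have hXK : ∀ a ∈ X, ∀ b ∈ K, a * b = b * a := by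
      intro a ha b hb
      have hbe : e * b = b * e :=
        (Subgroup.mem_centralizer_iff.mp hb.2) e (Set.mem_singleton e)
      have hle : Subgroup.zpowers z ⊔ Subgroup.zpowers e ≤ Subgroup.centralizer ({b} : Set P) := by
        apply sup_le
        · rw [Subgroup.zpowers_le, Subgroup.mem_centralizer_iff]
          intro h hh
          rw [Set.mem_singleton_iff] at hh
          rw [hh]; exact hzc b
        · rw [Subgroup.zpowers_le, Subgroup.mem_centralizer_iff]
          intro h hh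
          rw [Set.mem_singleton_iff] at hh
          rw [hh]; exact hbe.symm
      rw [← hXeq] at ha
      have := (Subgroup.mem_centralizer_iff.mp (hle ha)) b (Set.mem_singleton b)
      exact this.symm
    apply hprinc K hKea hXK
    intro hKX
    have hKeq : K = X := Subgroup.eq_of_le_of_card_ge hKX (by rw [hXcard]; exact hKcard)
    apply heC
    apply hVC
    apply hKV
    rw [hKeq]; exact heX

/-- a 3-group of 3-rank at least 4 is 2-connected -/
theorem kj_connected [Finite P] (hP : IsPGroup 3 P) (hrk : ¬ Cfsg.PRankLE 3 3 P) :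
    Cfsg.IsKConnected 3 2 P := by
  classical
  haveI hp3 : Fact (Nat.Prime 3) := ⟨by norm_num⟩
  have hrk' := hrk
  unfold Cfsg.PRankLE at hrk'
  push Not at hrk'
  obtain ⟨A, hAc, hAp, hAcard⟩ := hrk'
  have hAea : Cfsg.IsElementaryAbelian 3 A := ⟨hAc, hAp⟩
  have hA4 : 3 ^ 4 ≤ Nat.card A := by
    obtain ⟨k, hk⟩ := IsPGroup.iff_card.mp (hP.to_subgroup A)
    rw [hk] at hAcard ⊢
    have : 3 < k := (Nat.pow_lt_pow_iff_right (by norm_num)).mp hAcard
    exact Nat.pow_le_pow_right (by norm_num) this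
  obtain ⟨E, hEA, hEc⟩ := Sylow.exists_subgroup_le_card_pow_prime_of_le_card hp3.out hP hA4
  have hE : Cfsg.IsElementaryAbelian 3 E := Cfsg.Agent.Lib.Helper5.elemAb_of_le hEA hAea
  obtain ⟨V, hVn, hV, hVcard⟩ := kj_main (p := 3) (by norm_num) hP E hE hEc
  haveI := hVn
  have hrk2 : ¬ Cfsg.PRankLE 3 2 P := by
    intro h
    have := h A hAc hAp
    have h2 : (3 : ℕ) ^ 2 < 3 ^ 3 := by norm_num
    omega
  obtain ⟨U', -, -, -, hconn⟩ := rc_main 3 hP hrk2
  intro E₁ E₂ hE₁ hc₁ hE₂ hc₂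
  have h1 := (hconn E₁ hE₁ hc₁).mpr (kj_cent_rank hP V hV hVcard E₁ hE₁ hc₁)
  have h2 := (hconn E₂ hE₂ hc₂).mpr (kj_cent_rank hP V hV hVcard E₂ hE₂ hc₂)
  have hsymm : ∀ A B : Subgroup P, Relation.ReflTransGen (fun A B : Subgroup P =>
      Cfsg.IsElementaryAbelian 3 A ∧
      3 ^ 2 ≤ Nat.card ↥A ∧ Cfsg.IsElementaryAbelian 3 B ∧ 3 ^ 2 ≤ Nat.card ↥B ∧
      ∀ a ∈ A, ∀ b ∈ B, a * b = b * a) A B → Relation.ReflTransGen (fun A B : Subgroup P =>
      Cfsg.IsElementaryAbelian 3 A ∧
      3 ^ 2 ≤ Nat.card ↥A ∧ Cfsg.IsElementaryAbelian 3 B ∧ 3 ^ 2 ≤ Nat.card ↥B ∧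
      ∀ a ∈ A, ∀ b ∈ B, a * b = b * a) B A := by
    intro A B h
    induction h with
    | refl => exact Relation.ReflTransGen.refl
    | tail _ hbc ih =>
      obtain ⟨hA, hAc, hB, hBc, hAB⟩ := hbc
      exact Relation.ReflTransGen.head
        ⟨hB, hBc, hA, hAc, fun a ha b hb => (hAB b hb a ha).symm⟩ ih
  exact h1.trans (hsymm _ _ h2)

end KJ5

end Cfsg.Agent.Lib.Helper9
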