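import Mathlib
import Cfsg.Prelude.Def_Local
import Cfsg.Agent.S0028
import Cfsg.Agent.Lib.Helper1.Cores

set_option autoImplicit false

namespace Cfsg.Agent.Lib.Helper9

open Cfsg

/-- If `X / M` is a `p`-group and `X = [X,X] M`, then `M = X`. -/
theorem eq_top_of_pgroup_quotient_of_perfect {X : Type*} [Group X] [Finite X] {p : ℕ}
    [Fact p.Prime] (M : Subgroup X) [M.Normal] (hp : ∀ x : X, ∃ k : ℕ, x ^ (p ^ k) ∈ M)
    (hperf : commutator X ⊔ M = ⊤) : M = ⊤ := by
  by_contra hM
  have hQp : IsPGroup p (X ⧸ M) := by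
    intro q
    obtain ⟨x, rfl⟩ := QuotientGroup.mk_surjective q
    obtain ⟨k, hk⟩ := hp x
    refine ⟨k, ?_⟩
    rw [← QuotientGroup.mk_pow]
    exact (QuotientGroup.eq_one_iff _).2 hk
  have hnil : Group.IsNilpotent (X ⧸ M) := hQp.isNilpotent
  have hsolv : Group.IsSolvable (X ⧸ M) := inferInstance
  have hnt : Nontrivial (X ⧸ M) := by
    rw [← Subgroup.index_eq_one] at hM
    by_contra h
    rw [not_nontrivial_iff_subsingleton] at h
    apply hM
    rw [Subgroup.index_eq_card]
    exact Nat.card_unique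
  have hlt := Group.IsSolvable.commutator_lt_top_of_nontrivial (X ⧸ M)
  apply hlt.ne
  rw [eq_top_iff]
  intro q _
  obtain ⟨x, rfl⟩ := QuotientGroup.mk_surjective q
  have hx : x ∈ commutator X ⊔ M := by rw [hperf]; exact Subgroup.mem_top x
  rw [Subgroup.mem_sup_of_normal_right] at hx
  obtain ⟨c, hc, m, hm, rfl⟩ := hx
  rw [QuotientGroup.mk_mul, (QuotientGroup.eq_one_iff m).2 hm, mul_one]
  have : (QuotientGroup.mk' M) c ∈ (commutator X).map (QuotientGroup.mk' M) :=
    Subgroup.mem_map_of_mem _ hc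
  rw [commutator_def, Subgroup.map_commutator] at this
  rw [commutator_def]
  exact Subgroup.commutator_mono le_top le_top this

/-- Thompson applied to a single `p'`-element. -/
theorem mem_centralizer_pCore_of_coprime {G : Type*} [Group G] [Finite G] (p : ℕ) [Fact p.Prime]
    (P : Subgroup G) (hP : IsPGroup p P) (x : G) (hx : (orderOf x).Coprime p)
    (hxP : ∀ y ∈ P, x * y = y * x)
    (hxQ : ∀ y ∈ Cfsg.pCore p G ⊓ Subgroup.normalizer (P : Set G), x * y = y * x) :
    x ∈ Subgroup.centralizer (Cfsg.pCore p G : Set G) := by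
  have hQn : (Cfsg.pCore p G).Normal := Cfsg.Agent.Lib.Helper1.pCore_normal p
  have hQp : IsPGroup p (Cfsg.pCore p G) := Cfsg.Agent.Lib.Helper1.pCore_isPGroup p
  have h1 : Subgroup.zpowers x ≤ Subgroup.centralizer (Cfsg.pCore p G : Set G) := by
    apply Cfsg.Agent.S0028.result p P (Subgroup.zpowers x) (Cfsg.pCore p G) hP
      (by rw [Nat.card_zpowers]; exact hx) hQp
    · intro y hy
      rw [Subgroup.mem_centralizer_iff]
      intro z hz
      obtain ⟨n, rfl⟩ := Subgroup.mem_zpowers_iff.1 hz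
      exact ((Commute.zpow_left (show Commute x y from hxP y hy) n)).eq
    · rw [Subgroup.normalizer_eq_top]; exact le_top
    · rw [Subgroup.normalizer_eq_top]; exact le_top
    · intro y hy
      obtain ⟨hyQ, hyP⟩ := Subgroup.mem_inf.1 hy
      rw [Subgroup.mem_centralizer_iff]
      intro z hz
      obtain ⟨n, rfl⟩ := Subgroup.mem_zpowers_iff.1 hz
      have hyN : y ∈ Subgroup.normalizer (P : Set G) := Subgroup.centralizer_le_normalizer _ hyP
      exact ((Commute.zpow_left (show Commute x y from hxQ y (Subgroup.mem_inf.2 ⟨hyQ, hyN⟩)) n)).eq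
  exact h1 (Subgroup.mem_zpowers x)

/-- A subgroup `X` centralizing `P` and `O_p(G) ∩ N_G(P)` which is perfect modulo `C(O_p(G))`
centralizes `O_p(G)`. -/
theorem le_centralizer_pCore_of_perfect {G : Type*} [Group G] [Finite G] (p : ℕ) [Fact p.Prime]
    (P : Subgroup G) (hP : IsPGroup p P) (X : Subgroup G)
    (hXP : ∀ x ∈ X, ∀ y ∈ P, x * y = y * x)
    (hXQ : ∀ x ∈ X, ∀ y ∈ Cfsg.pCore p G ⊓ Subgroup.normalizer (P : Set G), x * y = y * x)
    (hperf : ∀ x ∈ X, ∃ c ∈ ⁅X, X⁆, ∃ m ∈ X ⊓ Subgroup.centralizer (Cfsg.pCore p G : Set G),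
      c * m = x) :
    X ≤ Subgroup.centralizer (Cfsg.pCore p G : Set G) := by
  classical
  have hpp : p.Prime := Fact.out
  have hQn : (Cfsg.pCore p G).Normal := Cfsg.Agent.Lib.Helper1.pCore_normal p
  have hCn : (Subgroup.centralizer (Cfsg.pCore p G : Set G)).Normal := Subgroup.normal_centralizer
  have hMn : ((Subgroup.centralizer (Cfsg.pCore p G : Set G)).subgroupOf X).Normal := inferInstance
  have hM : (Subgroup.centralizer (Cfsg.pCore p G : Set G)).subgroupOf X = ⊤ := by
    apply eq_top_of_pgroup_quotient_of_perfect (p := p)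
    · intro x
      have hx0 : orderOf (x : G) ≠ 0 := (orderOf_pos (x : G)).ne'
      obtain ⟨k, m, hm, hkm⟩ := Nat.exists_eq_pow_mul_and_not_dvd hx0 p hpp.ne_one
      have hm0 : m ≠ 0 := by
        rintro rfl
        exact hm (dvd_zero p)
      have hord : orderOf ((x : G) ^ (p ^ k)) = m := by
        rw [orderOf_pow' (x : G) (pow_ne_zero k hpp.ne_zero), hkm,
          Nat.gcd_eq_right (dvd_mul_right _ _)]
        exact Nat.mul_div_cancel_left m (pow_pos hpp.pos k)
      refine ⟨k, ?_⟩
      rw [Subgroup.mem_subgroupOf, Subgroup.coe_pow]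
      apply mem_centralizer_pCore_of_coprime p P hP
      · rw [hord]; exact ((Nat.Prime.coprime_iff_not_dvd hpp).2 hm).symm
      · intro y hy
        exact ((Commute.pow_left (show Commute (x : G) y from hXP x x.2 y hy) _)).eq
      · intro y hy
        exact ((Commute.pow_left (show Commute (x : G) y from hXQ x x.2 y hy) _)).eq
    · rw [eq_top_iff]
      rintro ⟨x, hx⟩ -
      obtain ⟨c, hc, m, hm, hcm⟩ := hperf x hx
      have hcX : c ∈ X := Subgroup.commutator_le_self X hc
      have hmX : m ∈ X := (Subgroup.mem_inf.1 hm).1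
      have hc' : (⟨c, hcX⟩ : X) ∈ commutator X := by
        have h2 : c ∈ (commutator X).map X.subtype := by
          rw [Subgroup.map_subtype_commutator]; exact hc
        obtain ⟨c', hc'1, hc'2⟩ := h2
        have : c' = ⟨c, hcX⟩ := Subtype.ext hc'2
        rwa [← this]
      have hm' : (⟨m, hmX⟩ : X) ∈
          (Subgroup.centralizer (Cfsg.pCore p G : Set G)).subgroupOf X :=
        Subgroup.mem_subgroupOf.2 (Subgroup.mem_inf.1 hm).2
      have e : (⟨x, hx⟩ : X) = ⟨c, hcX⟩ * ⟨m, hmX⟩ := Subtype.ext hcm.symm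
      rw [e]
      exact Subgroup.mul_mem_sup hc' hm'
  intro x hx
  have : (⟨x, hx⟩ : X) ∈ (Subgroup.centralizer (Cfsg.pCore p G : Set G)).subgroupOf X := by
    rw [hM]; exact Subgroup.mem_top _
  exact Subgroup.mem_subgroupOf.1 this

end Cfsg.Agent.Lib.Helper9
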