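import Mathlib

/-!
# Sub-project N5400, piece FIND (core): the statement of `find_z` with the statements of ORB / STAB / ORBSIZE
(for the given `P`) as hypotheses (helper9).
-/

set_option autoImplicit false
set_option linter.unusedVariables false
set_option linter.unusedSectionVars false

namespace Cfsg.Agent.Lib.Helper10.N5400

open Classical

universe u

variable {G : Type u} [Group G] [Finite G]

theorem n5400find_core (P : Sylow 5 G) (hP : Nat.card ↥(P : Subgroup G) = 25)
    (hn : Nat.card (Sylow 5 G) = 36)
    (hN : Nat.card ↥(Subgroup.normalizer ((P : Subgroup G) : Set G)) = 150)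
    (horb : ∀ (d1 d2 : ℕ),
      (∀ h : ↥(Subgroup.normalizer ((P : Subgroup G) : Set G)), h • P = P) →
      (∀ x : Sylow 5 G, x ≠ P →
        d1 ∣ Nat.card (MulAction.orbit ↥(Subgroup.normalizer ((P : Subgroup G) : Set G)) x) ∨
        d2 ∣ Nat.card (MulAction.orbit ↥(Subgroup.normalizer ((P : Subgroup G) : Set G)) x)) →
      ∃ A B : ℕ, Nat.card (Sylow 5 G) = 1 + d1 * A + d2 * B)
    (hstab : ∀ Q : Sylow 5 G, ∃ j : ℕ,
      j ∣ (P : Subgroup G).relIndex (Subgroup.normalizer ((P : Subgroup G) : Set G)) ∧
      Nat.card ↥(Subgroup.normalizer ((P : Subgroup G) : Set G) ⊓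
        Subgroup.normalizer ((Q : Subgroup G) : Set G)) =
        Nat.card ↥((P : Subgroup G) ⊓ (Q : Subgroup G)) * j)
    (horbsz : ∀ Q : Sylow 5 G,
      Nat.card ↥(MulAction.orbit ↥(Subgroup.normalizer ((P : Subgroup G) : Set G)) Q) *
        Nat.card ↥(Subgroup.normalizer ((P : Subgroup G) : Set G) ⊓
          Subgroup.normalizer ((Q : Subgroup G) : Set G)) =
        Nat.card ↥(Subgroup.normalizer ((P : Subgroup G) : Set G))) :
    ∃ (Q : Sylow 5 G) (z : G), Q ≠ P ∧ Nat.card ↥((P : Subgroup G) ⊓ (Q : Subgroup G)) = 5 ∧
      orderOf z = 3 ∧ z ∈ Subgroup.normalizer ((P : Subgroup G) : Set G) ∧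
      z ∈ Subgroup.normalizer ((Q : Subgroup G) : Set G) := by
  by_contra hcon
  push Not at hcon
  haveI : Fact (Nat.Prime 3) := ⟨Nat.prime_three⟩
  haveI : Fact (Nat.Prime 5) := ⟨by norm_num⟩
  -- relIndex = 6
  have hrel : (P : Subgroup G).relIndex (Subgroup.normalizer ((P : Subgroup G) : Set G)) = 6 := by
    have h1 := ((P : Subgroup G).subgroupOf
      (Subgroup.normalizer ((P : Subgroup G) : Set G))).card_mul_index
    rw [Nat.card_congr (Subgroup.subgroupOfEquivOfLe
      (Subgroup.le_normalizer (H := (P : Subgroup G)))).toEquiv, hP, hN] at h1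
    change 25 * (P : Subgroup G).relIndex (Subgroup.normalizer ((P : Subgroup G) : Set G)) = 150
      at h1
    omega
  obtain ⟨A, B, hAB⟩ := horb 15 25
    (fun h => Sylow.smul_eq_iff_mem_normalizer.mpr h.2)
    (by
      intro Q hQ
      obtain ⟨j, hj, hT⟩ := hstab Q
      rw [hrel] at hj
      have hO := horbsz Q
      rw [hN, hT] at hO
      have hjle : j ≤ 6 := Nat.le_of_dvd (by norm_num) hj
      -- |P ⊓ Q| ∈ {1, 5}
      have hdvd : Nat.card ↥((P : Subgroup G) ⊓ (Q : Subgroup G)) ∣ 25 := by
        rw [← hP]
        exact Subgroup.card_dvd_of_le inf_le_left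
      have hne : Nat.card ↥((P : Subgroup G) ⊓ (Q : Subgroup G)) ≠ 25 := by
        intro h25
        apply hQ
        have hPQ : (P : Subgroup G) ⊓ (Q : Subgroup G) = (P : Subgroup G) := by
          apply Subgroup.eq_of_le_of_card_ge inf_le_left
          rw [h25, hP]
        have hle : (P : Subgroup G) ≤ (Q : Subgroup G) := by
          rw [← hPQ]; exact inf_le_right
        have hQc : Nat.card ↥(Q : Subgroup G) = 25 := by
          rw [Sylow.card_eq_multiplicity, ← Sylow.card_eq_multiplicity P, hP]
        have : (P : Subgroup G) = (Q : Subgroup G) := by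
          apply Subgroup.eq_of_le_of_card_ge hle
          rw [hQc, hP]
        exact (Sylow.ext this).symm
      have hle25 : Nat.card ↥((P : Subgroup G) ⊓ (Q : Subgroup G)) ≤ 25 :=
        Nat.le_of_dvd (by norm_num) hdvd
      set c := Nat.card ↥((P : Subgroup G) ⊓ (Q : Subgroup G)) with hc
      set o := Nat.card ↥(MulAction.orbit ↥(Subgroup.normalizer ((P : Subgroup G) : Set G)) Q)
        with ho
      have hc15 : c = 1 ∨ c = 5 := by
        have hmem : c ∈ Nat.divisors 25 := Nat.mem_divisors.mpr ⟨hdvd, by norm_num⟩
        have hdiv : Nat.divisors 25 = {1, 5, 25} := by decide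
        rw [hdiv] at hmem
        simp only [Finset.mem_insert, Finset.mem_singleton] at hmem
        rcases hmem with h | h | h
        · exact Or.inl h
        · exact Or.inr h
        · exact absurd h hne
      rcases hc15 with h1 | h5
      · right
        rw [h1, one_mul] at hO
        have hj' : j = 1 ∨ j = 2 ∨ j = 3 ∨ j = 6 := by
          have hmem : j ∈ Nat.divisors 6 := Nat.mem_divisors.mpr ⟨hj, by norm_num⟩
          have hdiv : Nat.divisors 6 = {1, 2, 3, 6} := by decide
          rw [hdiv] at hmem
          simpa only [Finset.mem_insert, Finset.mem_singleton] using hmem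
        rcases hj' with h | h | h | h <;> subst h <;> omega
      · by_cases h3 : 3 ∣ j
        · exfalso
          have h3T : 3 ∣ Nat.card ↥(Subgroup.normalizer ((P : Subgroup G) : Set G) ⊓
              Subgroup.normalizer ((Q : Subgroup G) : Set G)) := by
            rw [hT]; exact Dvd.dvd.mul_left h3 _
          obtain ⟨x, hx⟩ := exists_prime_orderOf_dvd_card' (G := ↥(Subgroup.normalizer
            ((P : Subgroup G) : Set G) ⊓ Subgroup.normalizer ((Q : Subgroup G) : Set G))) 3 h3T
          have hxm := x.2
          rw [Subgroup.mem_inf] at hxm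
          exact hcon Q (x : G) hQ h5 (by rw [Subgroup.orderOf_coe]; exact hx) hxm.1 hxm.2
        · left
          rw [h5] at hO
          have hj' : j = 1 ∨ j = 2 := by
            have hmem : j ∈ Nat.divisors 6 := Nat.mem_divisors.mpr ⟨hj, by norm_num⟩
            have hdiv : Nat.divisors 6 = {1, 2, 3, 6} := by decide
            rw [hdiv] at hmem
            simp only [Finset.mem_insert, Finset.mem_singleton] at hmem
            rcases hmem with h | h | h | h
            · exact Or.inl h
            · exact Or.inr h
            · exact absurd (by rw [h]) h3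
            · exact absurd (by rw [h]; norm_num) h3
          rcases hj' with h | h <;> subst h <;> omega)
  rw [hn] at hAB
  omega

end Cfsg.Agent.Lib.Helper10.N5400
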