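import Mathlib
import Cfsg.Agent.Lib.helper7.NCV.Defs
import Cfsg.Agent.Lib.Helper9.NCVA8

/-!
# NCV row A9 (helper9): `stab_proper`.
Self-contained: private copies `ncva9_sl_mem`, `ncva9_down_ne_top` of the A7 facts used.
-/

set_option autoImplicit false

namespace Cfsg.Agent.Lib.helper7.NCV

open Matrix

universe u

variable {F : Type u} [Field F] {n : ℕ}

theorem ncva9_sl_mem (G : Subgroup (GL (Fin n) F ⧸ Subgroup.center (GL (Fin n) F)))
    (hG : ((Matrix.SpecialLinearGroup.toGL :
      Matrix.SpecialLinearGroup (Fin n) F →* GL (Fin n) F).range).map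
      (QuotientGroup.mk' (Subgroup.center (GL (Fin n) F))) ≤ G)
    (y : Matrix.SpecialLinearGroup (Fin n) F) :
    prj n F (Matrix.SpecialLinearGroup.toGL y) ∈ G :=
  hG ⟨Matrix.SpecialLinearGroup.toGL y, ⟨y, rfl⟩, rfl⟩

theorem ncva9_down_ne_top (G : Subgroup (GL (Fin n) F ⧸ Subgroup.center (GL (Fin n) F)))
    (H : Subgroup (GL (Fin n) F)) (hZ : Subgroup.center (GL (Fin n) F) ≤ H)
    (x : GL (Fin n) F) (hx : prj n F x ∈ G) (hxH : x ∉ H) : down G H ≠ ⊤ := by
  intro htop
  unfold down at htop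
  rw [Subgroup.subgroupOf_eq_top] at htop
  obtain ⟨y, hyH, hy⟩ := htop hx
  apply hxH
  have h1 : y⁻¹ * x ∈ Subgroup.center (GL (Fin n) F) := by
    have := QuotientGroup.eq.mp hy
    exact this
  have h2 : x = y * (y⁻¹ * x) := by group
  rw [h2]
  exact mul_mem hyH (hZ h1)

/-- the transvection `1 + E_{ji}` moves the line `F v` when `v i ≠ 0`, `j ≠ i` -/
theorem ncva9_tv_not_mem (v : Fin n → F) (i j : Fin n) (hji : j ≠ i) (hvi : v i ≠ 0) :
    Matrix.SpecialLinearGroup.toGL (tvSL j i hji : SpecialLinearGroup (Fin n) F) ∉ stab v := by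
  rintro ⟨c, hc⟩
  have hM : ((Matrix.SpecialLinearGroup.toGL (tvSL j i hji : SpecialLinearGroup (Fin n) F) :
      GL (Fin n) F) : Matrix (Fin n) (Fin n) F) = transvection j i (1 : F) := rfl
  rw [hM] at hc
  have hval : ∀ k, (transvection j i (1 : F) *ᵥ v) k = v k + (if k = j then v i else 0) := by
    intro k
    rw [transvection, Matrix.add_mulVec, Matrix.one_mulVec, Pi.add_apply]
    congr 1
    simp [Matrix.mulVec, dotProduct, Matrix.single_apply]
    by_cases hk : k = j
    · subst hk; simp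
    · simp [hk, Ne.symm hk]
  have hi := congrFun hc i
  have hj := congrFun hc j
  rw [hval, if_neg (Ne.symm hji), add_zero, Pi.smul_apply, smul_eq_mul] at hi
  rw [hval, if_pos rfl, Pi.smul_apply, smul_eq_mul] at hj
  have hc1 : c = 1 := by
    have : (c - 1) * v i = 0 := by linear_combination -hi
    rcases mul_eq_zero.mp this with h | h
    · exact sub_eq_zero.mp h
    · exact absurd h hvi
  rw [hc1, one_mul] at hj
  exact hvi (by linear_combination hj)

/-- **A9 (STABPROP).** -/
theorem stab_proper (G : Subgroup (GL (Fin n) F ⧸ Subgroup.center (GL (Fin n) F)))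
    (hG : ((Matrix.SpecialLinearGroup.toGL :
      Matrix.SpecialLinearGroup (Fin n) F →* GL (Fin n) F).range).map
      (QuotientGroup.mk' (Subgroup.center (GL (Fin n) F))) ≤ G)
    (hn : 2 ≤ n) (v : Fin n → F) (hv : v ≠ 0) : down G (stab v) ≠ ⊤ := by
  have hex : ∃ i, v i ≠ 0 := by
    by_contra hcon
    push Not at hcon
    exact hv (funext hcon)
  obtain ⟨i, hvi⟩ := hex
  have hexj : ∃ j : Fin n, j ≠ i := by
    by_cases h0 : i.val = 0
    · refine ⟨⟨1, by omega⟩, ?_⟩
      intro h
      have := congrArg Fin.val h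
      simp at this
      omega
    · refine ⟨⟨0, by omega⟩, ?_⟩
      intro h
      have := congrArg Fin.val h
      simp at this
      omega
  obtain ⟨j, hji⟩ := hexj
  exact ncva9_down_ne_top G (stab v) (center_le_stab v) _
    (ncva9_sl_mem G hG (tvSL j i hji)) (ncva9_tv_not_mem v i j hji hvi)

end Cfsg.Agent.Lib.helper7.NCV
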