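import Mathlib
import Cfsg.Agent.Lib.Helper24.NormalRank
import Cfsg.Agent.Lib.Helper1.Nilp

set_option autoImplicit false
set_option linter.style.haveILetI false

namespace Cfsg.Agent.Lib.Helper9

open Cfsg.Agent.Lib.Helper24

section NRrel

variable {R : Type*} [Group R]

/-- relative version of `nr_exists_over`: an element of `S` just above `A` -/
theorem rel_exists_over [Finite R] {p : ℕ} [Fact p.Prime] (hR : IsPGroup p R) (S A : Subgroup R)
    [S.Normal] [A.Normal] (hAS : A ≤ S) (hne : A ≠ S) :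
    ∃ x ∈ S, x ∉ A ∧ x ^ p ∈ A ∧ ∀ g : R, x⁻¹ * g * x * g⁻¹ ∈ A := by
  classical
  have hQ : IsPGroup p (R ⧸ A) := hR.to_quotient A
  haveI : Group.IsNilpotent (R ⧸ A) := hQ.isNilpotent
  set N : Subgroup (R ⧸ A) := S.map (QuotientGroup.mk' A) with hN
  haveI hNn : N.Normal :=
    Subgroup.Normal.map inferInstance _ (QuotientGroup.mk'_surjective A)
  have hNne : N ≠ ⊥ := by
    intro h
    apply hne
    apply le_antisymm hAS
    intro s hs
    have h1 : QuotientGroup.mk' A s ∈ N := Subgroup.mem_map_of_mem _ hs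
    rw [h, Subgroup.mem_bot] at h1
    exact (QuotientGroup.eq_one_iff s).mp h1
  have hZ := Cfsg.Agent.Lib.Helper1.normal_inf_center_ne_bot N hNne
  obtain ⟨y, hyN, hy1⟩ := (Subgroup.bot_or_exists_ne_one _).resolve_left hZ
  have hexi : ∃ i, (y : R ⧸ A) ^ p ^ i = 1 := hQ (y : R ⧸ A)
  have hspec := Nat.find_spec hexi
  have hmin := fun i (hi : i < Nat.find hexi) => Nat.find_min hexi hi
  have hpos : Nat.find hexi ≠ 0 := by
    intro h0
    rw [h0, pow_zero, pow_one] at hspec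
    exact hy1 hspec
  obtain ⟨i, hi⟩ : ∃ i, Nat.find hexi = i + 1 := ⟨Nat.find hexi - 1, by omega⟩
  rw [hi] at hspec
  set y' : R ⧸ A := (y : R ⧸ A) ^ p ^ i with hy'
  have hy'1 : y' ≠ 1 := hmin i (by omega)
  have hy'p : y' ^ p = 1 := by
    rw [hy', ← pow_mul, ← pow_succ]; exact hspec
  have hy'N : y' ∈ N := N.pow_mem (Subgroup.mem_inf.mp hyN).1 _
  have hy'Z : y' ∈ Subgroup.center (R ⧸ A) :=
    (Subgroup.center (R ⧸ A)).pow_mem (Subgroup.mem_inf.mp hyN).2 _
  obtain ⟨x, hxS, hx⟩ := hy'N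
  refine ⟨x, hxS, ?_, ?_, ?_⟩
  · intro hxA
    apply hy'1
    rw [← hx]
    exact (QuotientGroup.eq_one_iff x).mpr hxA
  · apply (QuotientGroup.eq_one_iff (N := A) _).mp
    have : ((x ^ p : R) : R ⧸ A) = (QuotientGroup.mk' A x) ^ p := rfl
    rw [this, hx]; exact hy'p
  · intro g
    apply (QuotientGroup.eq_one_iff (N := A) _).mp
    have e : ((x⁻¹ * g * x * g⁻¹ : R) : R ⧸ A) =
        (QuotientGroup.mk' A x)⁻¹ * (QuotientGroup.mk' A g) * (QuotientGroup.mk' A x) *
          (QuotientGroup.mk' A g)⁻¹ := rfl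
    rw [e, hx]
    have hc := Subgroup.mem_center_iff.mp hy'Z (QuotientGroup.mk' A g)
    calc y'⁻¹ * (QuotientGroup.mk' A g) * y' * (QuotientGroup.mk' A g)⁻¹
        = y'⁻¹ * ((QuotientGroup.mk' A g) * y') * (QuotientGroup.mk' A g)⁻¹ := by group
      _ = y'⁻¹ * (y' * (QuotientGroup.mk' A g)) * (QuotientGroup.mk' A g)⁻¹ := by rw [hc]
      _ = 1 := by group

theorem rel_case_cyclic [Finite R] {p : ℕ} [Fact p.Prime] (hp2 : p ≠ 2) (hR : IsPGroup p R)
    (S : Subgroup R) [S.Normal]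
    (A : Subgroup R) [A.Normal] (hAS : A ≤ S) (hAc : IsCyclic A)
    (hmax : ∀ M : Subgroup R, M.Normal → IsMulCommutative M → A ≤ M → M ≤ S → M = A)
    (hAne : A ≠ S) :
    ∃ E : Subgroup R, E ≤ S ∧ E.Normal ∧ Cfsg.IsElementaryAbelian p E ∧ Nat.card E = p ^ 2 := by
  have hp := (Fact.out : p.Prime)
  obtain ⟨x, hxS, hxA, hxp, hall⟩ := rel_exists_over hR S A hAS hAne
  set B := A ⊔ Subgroup.zpowers x with hB
  have hAB : A ≤ B := le_sup_left
  have hBS : B ≤ S := sup_le hAS (by rw [Subgroup.zpowers_le]; exact hxS)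
  have hxB : x ∈ B := (le_sup_right : Subgroup.zpowers x ≤ B) (Subgroup.mem_zpowers x)
  have hBn : B.Normal := nr_sup_normal A x hall
  have hBcard : Nat.card B = p * Nat.card A := nr_card_sup A x hxA hxp
  have hBnc : ¬ IsCyclic B := by
    intro hc
    have := hmax B hBn (nr_isMulCommutative_of_isCyclic B hc) hAB hBS
    rw [this] at hxB
    exact hxA hxB
  have hCc : IsCyclic (A.subgroupOf B) :=
    isCyclic_of_surjective (Subgroup.subgroupOfEquivOfLe hAB).symm
      (Subgroup.subgroupOfEquivOfLe hAB).symm.surjective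
  have hCi : (A.subgroupOf B).index = p := by
    have h1 : Nat.card A * A.relIndex B = Nat.card B :=
      Cfsg.Agent.Lib.Helper18.card_mul_relIndex_of_le_h18 hAB
    rw [hBcard, mul_comm] at h1
    exact Nat.eq_of_mul_eq_mul_right Nat.card_pos h1
  obtain ⟨T, hT, hTcard⟩ := cm_main hp2 (hR.to_subgroup B) hBnc (A.subgroupOf B) hCc hCi
  refine ⟨T.map B.subtype, (Subgroup.map_subtype_le _).trans hBS, ?_, ⟨?_, ?_⟩, ?_⟩
  · constructor
    rintro _ ⟨s, hs, rfl⟩ g
    have hsp : s ^ p = 1 := by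
      have : s ∈ (T : Set B) := hs
      rw [hT] at this
      exact this
    have hconjB : g * (s : R) * g⁻¹ ∈ B := hBn.conj_mem _ s.2 g
    refine ⟨⟨g * (s : R) * g⁻¹, hconjB⟩, ?_, rfl⟩
    have : (⟨g * (s : R) * g⁻¹, hconjB⟩ : B) ∈ (T : Set B) := by
      rw [hT]
      show (⟨g * (s : R) * g⁻¹, hconjB⟩ : B) ^ p = 1
      apply Subtype.ext
      simp only [Subgroup.coe_pow, Subgroup.coe_one]
      rw [conj_pow]
      have := congrArg Subtype.val hsp
      simp only [Subgroup.coe_pow, Subgroup.coe_one] at this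
      rw [this]
      group
    exact this
  · apply IsPGroup.isMulCommutative_of_card_eq_prime_sq (p := p)
    rw [Subgroup.card_subtype, hTcard]
  · rintro _ ⟨s, hs, rfl⟩
    have hsp : s ^ p = 1 := by
      have : s ∈ (T : Set B) := hs
      rw [hT] at this
      exact this
    have := congrArg Subtype.val hsp
    simpa using this
  · rw [Subgroup.card_subtype, hTcard]

open scoped IsMulCommutative in
theorem rel_case_noncyclic [Finite R] {p : ℕ} [Fact p.Prime] (hR : IsPGroup p R)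
    (A : Subgroup R) [A.Normal] (hA : IsMulCommutative A) (hAnc : ¬ IsCyclic A) :
    ∃ E : Subgroup R, E ≤ A ∧ E.Normal ∧ Cfsg.IsElementaryAbelian p E ∧ Nat.card E = p ^ 2 := by
  have hp := (Fact.out : p.Prime)
  obtain ⟨r, hr, x, y, hx1, hxr, hyr, hyx⟩ := Cfsg.Agent.Lib.Helper1.exists_noncyclic_pair hAnc
  have hrp : r = p := by
    haveI : Fact r.Prime := ⟨hr⟩
    have ho : orderOf x = r := orderOf_eq_prime hxr hx1
    obtain ⟨k, hk⟩ := (hR.to_subgroup A) x
    have hd : r ∣ p ^ k := by rw [← ho]; exact orderOf_dvd_of_pow_eq_one hk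
    exact (Nat.prime_dvd_prime_iff_eq hr hp).mp (hr.dvd_of_dvd_pow hd)
  subst hrp
  set Ω := nrOmega r A hA with hΩ
  have hΩA : Ω ≤ A := fun u hu => hu.1
  have hxΩ : (x : R) ∈ Ω := ⟨x.2, by
    have := congrArg Subtype.val hxr
    simpa using this⟩
  have hyΩ : (y : R) ∈ Ω := ⟨y.2, by
    have := congrArg Subtype.val hyr
    simpa using this⟩
  have hΩn : Ω.Normal := by
    constructor
    rintro u ⟨hu, hup⟩ g
    exact ⟨‹A.Normal›.conj_mem u hu g, by rw [conj_pow, hup]; group⟩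
  have hox : orderOf (x : R) = r := by
    rw [Subgroup.orderOf_coe]
    exact orderOf_eq_prime hxr hx1
  have hlt : Subgroup.zpowers (x : R) < Ω := by
    refine lt_of_le_of_ne (by rw [Subgroup.zpowers_le]; exact hxΩ) ?_
    intro h
    apply hyx
    have : (y : R) ∈ Subgroup.zpowers (x : R) := by rw [h]; exact hyΩ
    obtain ⟨i, hi⟩ := Subgroup.mem_zpowers_iff.mp this
    rw [Subgroup.mem_zpowers_iff]
    exact ⟨i, Subtype.ext (by simpa using hi)⟩
  obtain ⟨e, he⟩ := (hR.to_subgroup Ω).exists_card_eq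
  have he2 : 2 ≤ e := by
    have h1 : Nat.card (Subgroup.zpowers (x : R)) < Nat.card Ω := by
      rcases lt_or_eq_of_le (Subgroup.card_le_of_le hlt.le) with h | h
      · exact h
      · exact absurd (Subgroup.eq_of_le_of_card_ge hlt.le h.ge) hlt.ne
    rw [Nat.card_zpowers, hox, he] at h1
    have : r ^ 1 < r ^ e := by rwa [pow_one]
    have := (Nat.pow_lt_pow_iff_right hp.one_lt).mp this
    omega
  haveI := hΩn
  obtain ⟨E, hEΩ, hEn, hEc⟩ := nr_exists_normal_card hR 2 (e - 2) Ω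
    (by rw [he]; congr 1; omega)
  refine ⟨E, hEΩ.trans hΩA, hEn, ⟨?_, ?_⟩, hEc⟩
  · exact IsPGroup.isMulCommutative_of_card_eq_prime_sq hEc
  · intro a ha
    exact (hEΩ ha).2

theorem rel_main [Finite R] {p : ℕ} [Fact p.Prime] (hp2 : p ≠ 2) (hR : IsPGroup p R)
    (S : Subgroup R) [S.Normal] (hnc : ¬ IsCyclic S) :
    ∃ A : Subgroup R, A ≤ S ∧ A.Normal ∧ Cfsg.IsElementaryAbelian p A ∧ Nat.card A = p ^ 2 := by
  have hfin : {A : Subgroup R | A.Normal ∧ IsMulCommutative A ∧ A ≤ S}.Finite := Set.toFinite _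
  have hne : {A : Subgroup R | A.Normal ∧ IsMulCommutative A ∧ A ≤ S}.Nonempty :=
    ⟨⊥, Subgroup.normal_bot, by
      refine ⟨⟨fun a b => ?_⟩⟩
      have ha : a = 1 := Subsingleton.elim _ _
      have hb : b = 1 := Subsingleton.elim _ _
      rw [ha, hb], bot_le⟩
  obtain ⟨A, hAmax⟩ := hfin.exists_maximal hne
  obtain ⟨⟨hAn, hAc, hAS⟩, hAm⟩ := hAmax
  haveI := hAn
  have hmax : ∀ M : Subgroup R, M.Normal → IsMulCommutative M → A ≤ M → M ≤ S → M = A := by
    intro M hMn hMc hAM hMS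
    exact le_antisymm (hAm ⟨hMn, hMc, hMS⟩ hAM) hAM
  by_cases hcyc : IsCyclic A
  · have hAne : A ≠ S := by
      intro h
      apply hnc
      rw [h] at hcyc
      exact hcyc
    exact rel_case_cyclic hp2 hR S A hAS hcyc hmax hAne
  · obtain ⟨E, hEA, hEn, hE, hEc⟩ := rel_case_noncyclic hR A hAc hcyc
    exact ⟨E, hEA.trans hAS, hEn, hE, hEc⟩

end NRrel

end Cfsg.Agent.Lib.Helper9
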