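import Mathlib
import Cfsg.Prelude.Def_KGroupFacts
import Cfsg.Agent.Lib.Helper12.TCG.ONPres
import Cfsg.Agent.Lib.helper17.ONM.Defs

/-!
Project ONM (helper17), piece LIFT: the universal property of the presented group `ON`, for letters in any group
(the proof of `Cfsg.Agent.Lib.Helper12.TCG.ONPres.hlift` with an arbitrary group as target).
-/

set_option autoImplicit false

namespace Cfsg.Agent.Lib.helper17.ONM

open Cfsg.Spor Cfsg.Agent.Lib.Helper12.TC Cfsg.Agent.Lib.Helper12.TCG

theorem onm_lift {K : Type*} [Group K] (f : ℕ → K) (hf : ∀ s < 8, f (invS ONPres.cIV s) = (f s)⁻¹)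
    (hw : ∀ b ∈ ONPres.baseL, wprod f b = 1) : ∃ ρ : ON →* K, ∀ x < 8, ρ (ONPres.v x) = f x := by
  let φ : FreeGroup ON.Gen →* K := FreeGroup.lift (fun y => f (ONPres.idx y))
  have hφ : ∀ y, φ (FreeGroup.of y) = f (ONPres.idx y) := fun y => FreeGroup.lift_apply_of
  have h7 : f 7 = (f 6)⁻¹ := hf 6 (by decide)
  have hvf : ∀ i < 8, ONPres.vOf (fun y => φ (FreeGroup.of y)) i = f i := by
    intro i hi
    interval_cases i
    · exact hφ _
    · exact hφ _
    · exact hφ _
    · exact hφ _
    · exact hφ _
    · exact hφ _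
    · exact hφ _
    · show (φ (FreeGroup.of ON.Gen.g))⁻¹ = f 7
      rw [hφ, h7]
      rfl
  have hwv : ∀ l : List ℕ, (∀ s ∈ l, s < 8) →
      wprod (ONPres.vOf (fun y => φ (FreeGroup.of y))) l = wprod f l := by
    intro l
    induction l with
    | nil => intro _; rfl
    | cons s l ih =>
      intro hl
      rw [wprod_cons, wprod_cons, ih (fun t ht => hl t (List.mem_cons_of_mem _ ht)),
        hvf s (hl s List.mem_cons_self)]
  have hw' : ∀ b ∈ ONPres.baseL, wprod (ONPres.vOf (fun y => φ (FreeGroup.of y))) b = 1 := by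
    intro b hb
    rw [hwv b (fun s hs => lettersK_lt ONPres.hlet hb hs)]
    exact hw b hb
  have hsq : ∀ y ∈ coxNodes ON.edges, φ (FreeGroup.of y) * φ (FreeGroup.of y) = 1 := by
    intro y hy
    obtain ⟨i, hi, rfl⟩ := ONPres.nodes_cases y hy
    have h1 := hw' [i, i] (by
      interval_cases i <;> decide)
    rw [wprod_cons, wprod_cons, wprod_nil, mul_one, ONPres.vOf_gen φ (by omega)] at h1
    exact h1
  have hrel : ∀ r ∈ ONPres.rels, φ r = 1 := by
    intro r hr
    rcases hr with hr | hr
    · refine ONPres.cox_hom_of_words' φ hsq (fun b hb => ?_) r hr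
      have hl : ∀ s ∈ b, s < 6 := by
        intro s hs
        have : lettersK 6 (coxWords ON.edges ONPres.gen 6) = true := by decide
        exact lettersK_lt this hb hs
      rw [← ONPres.wprod_vOf_of_lt φ b hl]
      exact hw' b (List.mem_append_left _ hb)
    · exact (ONPres.hextra φ hsq).mpr (fun b hb =>
        hw' b (List.mem_append_right _ (List.mem_append_left _ hb))) r hr
  refine ⟨PresentedGroup.toGroup hrel, ?_⟩
  intro x hx
  have hof : ∀ y, PresentedGroup.toGroup hrel (PresentedGroup.mk ONPres.rels (FreeGroup.of y)) =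
      f (ONPres.idx y) :=
    fun y => PresentedGroup.toGroup.of hrel
  interval_cases x
  · exact hof _
  · exact hof _
  · exact hof _
  · exact hof _
  · exact hof _
  · exact hof _
  · exact hof _
  · show PresentedGroup.toGroup hrel ((PresentedGroup.mk ONPres.rels (FreeGroup.of ON.Gen.g))⁻¹) = f 7
    rw [map_inv, hof, h7]
    rfl

end Cfsg.Agent.Lib.helper17.ONM
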