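import Mathlib
import Cfsg.Prelude.Def_KGroupFacts
import Cfsg.Agent.Lib.Helper12.TCG.ONPres
import Cfsg.Agent.Lib.helper17.ONM.Defs
import Cfsg.Agent.Lib.Helper9.ONMLIFT

/-!
Project ONM (helper17), piece SPLIT: a stem extension of `ON` in which lifts of the letters satisfy all the base
words is trivial.
-/

set_option autoImplicit false

namespace Cfsg.Agent.Lib.helper17.ONM

open Cfsg.Spor Cfsg.Agent.Lib.Helper12.TC Cfsg.Agent.Lib.Helper12.TCG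
open scoped commutatorElement

/-- central factors do not change commutators -/
theorem onmsplit_comm_central {Γ : Type*} [Group Γ] (x y k : Γ) (hk : k ∈ Subgroup.center Γ) :
    ⁅x * k, y⁆ = ⁅x, y⁆ ∧ ⁅y, x * k⁆ = ⁅y, x⁆ := by
  have hk' : ∀ g, g * k = k * g := Subgroup.mem_center_iff.mp hk
  constructor
  · rw [commutatorElement_def, commutatorElement_def, mul_inv_rev]
    calc x * k * y * (k⁻¹ * x⁻¹) * y⁻¹ = x * (k * y) * k⁻¹ * x⁻¹ * y⁻¹ := by group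
      _ = x * (y * k) * k⁻¹ * x⁻¹ * y⁻¹ := by rw [hk' y]
      _ = x * y * x⁻¹ * y⁻¹ := by group
  · rw [commutatorElement_def, commutatorElement_def, mul_inv_rev]
    calc y * (x * k) * y⁻¹ * (k⁻¹ * x⁻¹) = y * x * (k * y⁻¹) * k⁻¹ * x⁻¹ := by group
      _ = y * x * (y⁻¹ * k) * k⁻¹ * x⁻¹ := by rw [hk' y⁻¹]
      _ = y * x * y⁻¹ * x⁻¹ := by group

theorem onm_split {Γ : Type*} [Group Γ] (σ : Γ →* ON) (hσ : Cfsg.IsStemExtension σ) (f : ℕ → Γ)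
    (hf : ∀ s < 8, f (invS ONPres.cIV s) = (f s)⁻¹) (hσf : ∀ s < 8, σ (f s) = ONPres.v s)
    (hw : ∀ b ∈ ONPres.baseL, wprod f b = 1) : ∀ k ∈ σ.ker, k = 1 := by
  obtain ⟨hs, hc, hcomm⟩ := hσ
  obtain ⟨ρ, hρ⟩ := onm_lift f hf hw
  have hσρ : ∀ y : ON, σ (ρ y) = y := by
    intro y
    have h1 : σ.comp ρ = MonoidHom.id ON := by
      apply MonoidHom.eq_of_eqOn_dense (s := {y | ∃ x < 8, y = ONPres.v x})
      · rw [eq_top_iff]
        intro γ _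
        exact ONPres.hgen γ
      · rintro _ ⟨x, hx, rfl⟩
        show σ (ρ (ONPres.v x)) = ONPres.v x
        rw [hρ x hx, hσf x hx]
    exact DFunLike.congr_fun h1 y
  have hker : ∀ a : Γ, (ρ (σ a))⁻¹ * a ∈ Subgroup.center Γ := by
    intro a
    apply hc
    rw [MonoidHom.mem_ker, map_mul, map_inv, hσρ, inv_mul_cancel]
  have hcommR : commutator Γ ≤ ρ.range := by
    rw [commutator_eq_closure, Subgroup.closure_le]
    rintro _ ⟨a, b, rfl⟩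
    have ha : a = ρ (σ a) * ((ρ (σ a))⁻¹ * a) := by group
    have hb : b = ρ (σ b) * ((ρ (σ b))⁻¹ * b) := by group
    have h1 : ⁅a, b⁆ = ⁅ρ (σ a), ρ (σ b)⁆ := by
      calc ⁅a, b⁆ = ⁅ρ (σ a) * ((ρ (σ a))⁻¹ * a), b⁆ := by rw [← ha]
        _ = ⁅ρ (σ a), b⁆ := (onmsplit_comm_central _ _ _ (hker a)).1
        _ = ⁅ρ (σ a), ρ (σ b) * ((ρ (σ b))⁻¹ * b)⁆ := by rw [← hb]
        _ = ⁅ρ (σ a), ρ (σ b)⁆ := (onmsplit_comm_central _ _ _ (hker b)).2
    rw [h1, ← map_commutatorElement]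
    exact ⟨_, rfl⟩
  intro k hk
  obtain ⟨y, rfl⟩ := hcommR (hcomm hk)
  have h2 : σ (ρ y) = 1 := MonoidHom.mem_ker.mp hk
  rw [hσρ] at h2
  rw [h2, map_one]

end Cfsg.Agent.Lib.helper17.ONM
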