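import Mathlib
import Cfsg.Agent.Lib.Helper9.OPH.Defs
import Cfsg.Agent.Lib.Helper16.SpinG

set_option autoImplicit false
set_option linter.unusedVariables false
set_option linter.unusedSectionVars false

/-!
# Project OPH, row CAYLEY (helper9): the Cayley transform of a skew-adjoint nilpotent matrix
-/

namespace Cfsg.Agent.Lib.Helper9.OPH

open Module Cfsg.Agent.Lib.helper14.JTa Cfsg.Agent.Lib.Helper16

variable {F : Type*} [Field F]

/-- CAYLEY [M] -/
theorem oph_cayley (h2 : (2 : F) ≠ 0) (s : ℕ) (T : Matrix (Fin s ⊕ Fin s) (Fin s ⊕ Fin s) F)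
    (hT : ∀ u v : Fin s ⊕ Fin s → F, QuadraticMap.polar (Cfsg.quadFormPlus s F) (T.mulVec u) v =
      - QuadraticMap.polar (Cfsg.quadFormPlus s F) u (T.mulVec v))
    (K : ℕ) (hK : T ^ K = 0) :
    ∃ y : Matrix (Fin s ⊕ Fin s) (Fin s ⊕ Fin s) F, IsUnit y ∧
      (∀ v, Cfsg.quadFormPlus s F (y.mulVec v) = Cfsg.quadFormPlus s F v) ∧
      (y - 1) ^ K = 0 ∧ ∀ k, dk (Matrix.toLin' y - 1) k = dk (Matrix.toLin' T) k := by
  classical
  set M : Matrix (Fin s ⊕ Fin s) (Fin s ⊕ Fin s) F := (2⁻¹ : F) • T with hM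
  have hMK : M ^ K = 0 := by
    rw [hM, smul_pow, hK, smul_zero]
  have hMnil : IsNilpotent M := ⟨K, hMK⟩
  have uA : IsUnit (1 - M) := hMnil.isUnit_one_sub
  have uC : IsUnit (1 + M) := hMnil.isUnit_one_add
  obtain ⟨a, ha⟩ := uA
  -- `a` is the unit `1 - M`
  have hcomm : Commute T (a : Matrix (Fin s ⊕ Fin s) (Fin s ⊕ Fin s) F) := by
    rw [ha, hM]
    exact (Commute.one_right T).sub_right ((Commute.refl T).smul_right _)
  have hcommi : Commute T ((a⁻¹ : (Matrix (Fin s ⊕ Fin s) (Fin s ⊕ Fin s) F)ˣ) : Matrix (Fin s ⊕ Fin s) (Fin s ⊕ Fin s) F) :=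
    hcomm.units_inv_right
  set Ai : Matrix (Fin s ⊕ Fin s) (Fin s ⊕ Fin s) F := ((a⁻¹ : (Matrix (Fin s ⊕ Fin s) (Fin s ⊕ Fin s) F)ˣ) : Matrix (Fin s ⊕ Fin s) (Fin s ⊕ Fin s) F) with hAi
  have hAAi : (1 - M) * Ai = 1 := by
    rw [← ha, hAi, Units.mul_inv]
  have hAiu : IsUnit Ai := ⟨a⁻¹, rfl⟩
  -- polar (w, T w) = 0
  have hpol0 : ∀ w : Fin s ⊕ Fin s → F, QuadraticMap.polar (Cfsg.quadFormPlus s F) w (T.mulVec w) = 0 := by
    intro w
    have h1 := hT w w
    rw [QuadraticMap.polar_comm] at h1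
    have h3 : (2 : F) * QuadraticMap.polar (Cfsg.quadFormPlus s F) w (T.mulVec w) = 0 := by
      linear_combination h1
    rcases mul_eq_zero.mp h3 with h | h
    · exact absurd h h2
    · exact h
  have hpolM : ∀ w : Fin s ⊕ Fin s → F, QuadraticMap.polar (Cfsg.quadFormPlus s F) w (M.mulVec w) = 0 := by
    intro w
    rw [hM, Matrix.smul_mulVec, ← qfPlus_coe, QuadraticMap.polar_smul_right, qfPlus_coe, hpol0, smul_zero]
  have hy1 : (1 + M) * Ai - 1 = T * Ai := by
    have h1 : (1 + M) * Ai - 1 = (1 + M) * Ai - (1 - M) * Ai := by rw [hAAi]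
    rw [h1, ← sub_mul]
    congr 1
    rw [hM]
    have h3 : (1 + (2⁻¹ : F) • T) - (1 - (2⁻¹ : F) • T) = ((2⁻¹ : F) + 2⁻¹) • T := by
      rw [add_smul]
      abel
    rw [h3]
    have h4 : (2⁻¹ : F) + 2⁻¹ = 1 := by
      field_simp
      norm_num
    rw [h4, one_smul]
  refine ⟨(1 + M) * Ai, uC.mul hAiu, ?_, ?_, ?_⟩
  · -- isometry
    intro v
    set w := Ai.mulVec v with hw
    have hv : v = w - M.mulVec w := by
      have h : ((1 - M) * Ai).mulVec v = (1 : Matrix (Fin s ⊕ Fin s) (Fin s ⊕ Fin s) F).mulVec v := by rw [hAAi]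
      rw [← Matrix.mulVec_mulVec, Matrix.sub_mulVec, Matrix.one_mulVec, Matrix.one_mulVec] at h
      exact h.symm
    have hyv : ((1 + M) * Ai).mulVec v = w + M.mulVec w := by
      rw [← Matrix.mulVec_mulVec, ← hw, Matrix.add_mulVec, Matrix.one_mulVec]
    rw [hyv, hv]
    have e1 : Cfsg.quadFormPlus s F (w + M.mulVec w) =
        Cfsg.quadFormPlus s F w + Cfsg.quadFormPlus s F (M.mulVec w) +
          QuadraticMap.polar (Cfsg.quadFormPlus s F) w (M.mulVec w) := by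
      unfold QuadraticMap.polar
      ring
    have e2 : Cfsg.quadFormPlus s F (w - M.mulVec w) =
        Cfsg.quadFormPlus s F w + Cfsg.quadFormPlus s F (M.mulVec w) -
          QuadraticMap.polar (Cfsg.quadFormPlus s F) w (M.mulVec w) := by
      have h5 : Cfsg.quadFormPlus s F (w + -M.mulVec w) =
          Cfsg.quadFormPlus s F w + Cfsg.quadFormPlus s F (-M.mulVec w) +
            QuadraticMap.polar (Cfsg.quadFormPlus s F) w (-M.mulVec w) := by
        unfold QuadraticMap.polar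
        ring
      rw [sub_eq_add_neg, h5, ← qfPlus_coe, QuadraticMap.map_neg, QuadraticMap.polar_neg_right]
      ring
    rw [e1, e2, hpolM]
    ring
  · rw [hy1, hcommi.mul_pow, hK, zero_mul]
  · intro k
    unfold dk
    have h1 : (Matrix.toLin' ((1 + M) * Ai) - 1) ^ k = Matrix.toLin' (Ai ^ k) ∘ₗ (Matrix.toLin' T) ^ k := by
      have h3 : Matrix.toLin' ((1 + M) * Ai) - 1 = Matrix.toLin' ((1 + M) * Ai - 1) := by
        rw [map_sub, Matrix.toLin'_one]
        rfl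
      rw [h3, hy1, ← Matrix.toLin'_pow, hcommi.mul_pow, (hcommi.pow_pow k k).eq, Matrix.toLin'_mul, Matrix.toLin'_pow T]
    have hker : LinearMap.ker (Matrix.toLin' (Ai ^ k)) = ⊥ := by
      rw [LinearMap.ker_eq_bot]
      have h5 : IsUnit (Ai ^ k) := hAiu.pow k
      have := Matrix.mulVec_injective_iff_isUnit.mpr h5
      intro x y hxy
      apply this
      rw [Matrix.toLin'_apply, Matrix.toLin'_apply] at hxy
      exact hxy
    rw [h1, LinearMap.ker_comp_of_ker_eq_bot _ hker]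

end Cfsg.Agent.Lib.Helper9.OPH
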