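import Mathlib
import Cfsg.Agent.Lib.Helper9.OPH.Defs
import Cfsg.Agent.Lib.Helper9.OPHREALALL
import Cfsg.Agent.Lib.Helper9.OPHCAYLEY

set_option autoImplicit false
set_option linter.unusedVariables false
set_option linter.unusedSectionVars false

/-!
# Project OPH, row CONSTR (helper9), core: OMEGA as a hypothesis
-/

namespace Cfsg.Agent.Lib.Helper9.OPH

open Module Cfsg.Agent.Lib.helper14.JTa

variable {F : Type*} [Field F]

theorem ophconstr_ty_le (μ : Multiset ℕ) (p : ℕ) (hμp : ∀ e ∈ μ, e ≤ p) : ty μ p = μ.sum := by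
  unfold ty
  rw [Multiset.map_congr rfl (fun b hb => min_eq_left (hμp b hb)), Multiset.map_id']

/-- CONSTR with the instance of OMEGA as a hypothesis -/
theorem ophconstr_core [Fintype F] {p : ℕ} [Fact p.Prime] [CharP F p] (hp2 : p ≠ 2) (d : ℕ) (hd : 3 ≤ d) (μ : Multiset ℕ)
    (hμp : ∀ e ∈ μ, 0 < e ∧ e ≤ p) (hμe : ∀ e : ℕ, Even e → Even (μ.count e)) (hμs : μ.sum = 2 * d)
    (homega : ∀ y : GL (Fin d ⊕ Fin d) F,
      (∀ v, Cfsg.quadFormPlus d F ((y : Matrix (Fin d ⊕ Fin d) (Fin d ⊕ Fin d) F).mulVec v) = Cfsg.quadFormPlus d F v) →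
      y ^ p = 1 → y ∈ Cfsg.Geo.omegaGL (Cfsg.quadFormPlus d F)) :
    ∃ x : GL (Fin d ⊕ Fin d) F, x ∈ Cfsg.Geo.omegaGL (Cfsg.quadFormPlus d F) ∧ x ^ p = 1 ∧
      ((x : Matrix (Fin d ⊕ Fin d) (Fin d ⊕ Fin d) F) - 1) ^ p = 0 ∧
      ∀ k, dk (Matrix.toLin' (x : Matrix (Fin d ⊕ Fin d) (Fin d ⊕ Fin d) F) - 1) k = ty μ k := by
  classical
  have h2 : (2 : F) ≠ 0 := by
    intro h
    have h3 : ((2 : ℕ) : F) = 0 := by exact_mod_cast h
    have h4 := (CharP.cast_eq_zero_iff F p 2).mp h3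
    have h5 := (Nat.prime_dvd_prime_iff_eq (Fact.out : p.Prime) Nat.prime_two).mp h4
    exact hp2 h5
  obtain ⟨T, hT, hdk⟩ := oph_real_all (F := F) h2 d μ (fun e he => (hμp e he).1) hμe hμs
  have hTp : T ^ p = 0 := by
    have h3 : dk (Matrix.toLin' T) p = finrank F (Fin d ⊕ Fin d → F) := by
      rw [hdk, ophconstr_ty_le μ p (fun e he => (hμp e he).2), hμs, Module.finrank_fintype_fun_eq_card, Fintype.card_sum,
        Fintype.card_fin]
      omega
    have h4 := pow_eq_zero_of_dk (Matrix.toLin' T) p h3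
    rw [← Matrix.toLin'_pow] at h4
    exact Matrix.toLin'.injective (by rw [h4, map_zero])
  obtain ⟨y, hyu, hyiso, hyK, hydk⟩ := oph_cayley h2 d T hT p hTp
  have : Nonempty (Fin d ⊕ Fin d) := ⟨Sum.inl ⟨0, by omega⟩⟩
  have hyp : y ^ p = 1 := by
    have h3 : y = (y - 1) + 1 := by abel
    rw [h3, add_pow_char_of_commute p (Commute.one_right _), hyK, one_pow, zero_add]
  have hxp : hyu.unit ^ p = 1 := by
    apply Units.ext
    rw [Units.val_pow_eq_pow_val, IsUnit.unit_spec, hyp]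
    rfl
  refine ⟨hyu.unit, homega hyu.unit ?_ hxp, hxp, ?_, ?_⟩
  · intro v
    rw [IsUnit.unit_spec]
    exact hyiso v
  · rw [IsUnit.unit_spec]
    exact hyK
  · intro k
    rw [IsUnit.unit_spec, hydk, hdk]

end Cfsg.Agent.Lib.Helper9.OPH
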