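import Mathlib
import Cfsg.Agent.Lib.Helper9.OPH.Defs
import Cfsg.Agent.Lib.Helper16.OB25
import Cfsg.Agent.Lib.Helper16.PlusFam
import Cfsg.Agent.Lib.Helper16.SpinA

set_option autoImplicit false
set_option linter.unusedVariables false
set_option linter.unusedSectionVars false

/-!
# Project OPH, row OMEGA (helper9, second copy): isometries of odd order lie in `Ω`
-/

namespace Cfsg.Agent.Lib.Helper9.OPH

open Module Cfsg.Agent.Lib.Helper16

universe u

/-- OMEGA (exact statement of the row, seat-prefixed name) -/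
theorem ophomega_h9 {F : Type u} [Field F] [Fintype F] {p : ℕ} [Fact p.Prime] (hp2 : p ≠ 2) (d : ℕ) (hd : 3 ≤ d)
    (y : GL (Fin d ⊕ Fin d) F)
    (hy : ∀ v, Cfsg.quadFormPlus d F ((y : Matrix (Fin d ⊕ Fin d) (Fin d ⊕ Fin d) F).mulVec v) = Cfsg.quadFormPlus d F v)
    (hyp : y ^ p = 1) : y ∈ Cfsg.Geo.omegaGL (Cfsg.quadFormPlus d F) := by
  classical
  have hyiso : y ∈ Cfsg.isometryGroup F (Cfsg.quadFormPlus d F) := (mem_iso_iff _ _).mpr hy
  set g : ↥(Cfsg.isometryGroup F (Cfsg.quadFormPlus d F)) := ⟨y, hyiso⟩ with hg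
  have hgp : g ^ p = 1 := by
    apply Subtype.ext
    rw [Subgroup.coe_pow]
    exact hyp
  obtain ⟨t, ht⟩ := (Fact.out : p.Prime).eq_two_or_odd'.resolve_left hp2
  have hzz : g ^ (t + 1) * g ^ (t + 1) = g := by
    rw [← pow_add, show t + 1 + (t + 1) = p + 1 by omega, pow_succ, hgp, one_mul]
  have hne : ∃ v, (qfPlus d F) v ≠ 0 := by
    refine ⟨Sum.elim (fun i => if i = (⟨0, by omega⟩ : Fin d) then 1 else 0)
      (fun i => if i = (⟨0, by omega⟩ : Fin d) then 1 else 0), ?_⟩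
    rw [qfPlus_coe]
    unfold Cfsg.quadFormPlus
    simp
  have hn : 5 ≤ Fintype.card (Fin d ⊕ Fin d) := by
    rw [Fintype.card_sum, Fintype.card_fin]
    omega
  have hmem := OB.sq_mem_omega_all (qfPlus d F) (qfPlus_nondeg d F) hn hne (g ^ (t + 1))
  have hmem' : g ^ (t + 1) * g ^ (t + 1) ∈ Cfsg.Omega F (Cfsg.quadFormPlus d F) := hmem
  rw [hzz] at hmem'
  unfold Cfsg.Geo.omegaGL
  exact Subgroup.mem_map.mpr ⟨g, hmem', rfl⟩

end Cfsg.Agent.Lib.Helper9.OPH
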