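import Mathlib
import Cfsg.Agent.Lib.Helper9.OPH.Defs
import Cfsg.Agent.Lib.Helper9.OPHCONSTRcore
import Cfsg.Agent.Lib.Helper9.OPHOMEGA

set_option autoImplicit false
set_option linter.unusedVariables false
set_option linter.unusedSectionVars false

/-!
# Project OPH, row CONSTR (helper9)
-/

namespace Cfsg.Agent.Lib.Helper9.OPH

open Module Cfsg.Agent.Lib.helper14.JTa

variable {F : Type*} [Field F]

/-- CONSTR [M] -/
theorem oph_constr [Fintype F] {p : ℕ} [Fact p.Prime] [CharP F p] (hp2 : p ≠ 2) (d : ℕ) (hd : 3 ≤ d) (μ : Multiset ℕ)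
    (hμp : ∀ e ∈ μ, 0 < e ∧ e ≤ p) (hμe : ∀ e : ℕ, Even e → Even (μ.count e)) (hμs : μ.sum = 2 * d) :
    ∃ x : GL (Fin d ⊕ Fin d) F, x ∈ Cfsg.Geo.omegaGL (Cfsg.quadFormPlus d F) ∧ x ^ p = 1 ∧
      ((x : Matrix (Fin d ⊕ Fin d) (Fin d ⊕ Fin d) F) - 1) ^ p = 0 ∧
      ∀ k, dk (Matrix.toLin' (x : Matrix (Fin d ⊕ Fin d) (Fin d ⊕ Fin d) F) - 1) k = ty μ k :=
  ophconstr_core hp2 d hd μ hμp hμe hμs (fun y hy hyp => ophomega_h9 hp2 d hd y hy hyp)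

end Cfsg.Agent.Lib.Helper9.OPH
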