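import Mathlib
import Cfsg.Agent.Lib.Helper19.ORE.Defs

set_option autoImplicit false

/-!
# Project ORE (designer helper19), row E4 (helper9): `two_main`, core on the statements of
`two_all` (E3, with `Q2` unfolded) and `bridge` (M1).
-/

namespace Cfsg.Agent.Lib.Helper19.ORE

open Polynomial Module

/-- a map represented by a `k × k` matrix lives on a space of dimension `k` -/
theorem oree4_finrank_of_rep {F : Type*} [Field F] {V : Type*} [AddCommGroup V] [Module F V]
    {k : ℕ} {g : V ≃ₗ[F] V} {M : Matrix (Fin k) (Fin k) F} (h : Rep g M) : finrank F V = k := by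
  obtain ⟨e, -⟩ := h
  rw [e.finrank_eq]
  simp

/-- E4 on the statements of the cited rows (`P` = the second half of `Q2`, not used) -/
theorem oree4_core (n : ℕ) (hn : 3 ≤ n) (g : Matrix.SpecialLinearGroup (Fin n) (ZMod 2))
    (P : Prop)
    (hall : Subsingleton (Fin n → ZMod 2) ∨
      Rep (Matrix.SpecialLinearGroup.toLin' g) (comp2 (0 : ZMod 2) 1) ∨
      (SolP (Matrix.SpecialLinearGroup.toLin' g) 1 1 0 ∧ P))
    (hbridge : SolP (Matrix.SpecialLinearGroup.toLin' g) 1 1 0 →
      ∃ a b : Matrix.SpecialLinearGroup (Fin n) (ZMod 2), g = a * b * a⁻¹ * b⁻¹) :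
    ∃ a b : Matrix.SpecialLinearGroup (Fin n) (ZMod 2), g = a * b * a⁻¹ * b⁻¹ := by
  rcases hall with h | h | h
  · exfalso
    have hfr : finrank (ZMod 2) (Fin n → ZMod 2) = n := by simp
    have h0 : finrank (ZMod 2) (Fin n → ZMod 2) = 0 := finrank_zero_of_subsingleton
    omega
  · exfalso
    have hfr : finrank (ZMod 2) (Fin n → ZMod 2) = n := by simp
    have h2 := oree4_finrank_of_rep h
    omega
  · exact hbridge h.1

end Cfsg.Agent.Lib.Helper19.ORE
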