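import Mathlib
import Cfsg.Agent.Lib.Helper19.ORE.Defs
import Cfsg.Agent.Lib.Helper9.OREE4core
import Cfsg.Agent.Lib.Helper19.ORE.Defs2
import Cfsg.Agent.Lib.helper2.OREM1
import Cfsg.Agent.Lib.helper14.OREE3

set_option autoImplicit false

/-!
# Project ORE (designer helper19), row E4 (helper9): `two_main`, verbatim.
-/

namespace Cfsg.Agent.Lib.Helper19.ORE

open Polynomial Module

/-- **E4**.  `two_all` for `V = Fin n → ZMod 2` + `bridge`. -/
theorem two_main (n : ℕ) (hn : 3 ≤ n) (g : Matrix.SpecialLinearGroup (Fin n) (ZMod 2)) :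
    ∃ a b : Matrix.SpecialLinearGroup (Fin n) (ZMod 2), g = a * b * a⁻¹ * b⁻¹ :=
  oree4_core n hn g _
    (two_all n (Fin n → ZMod 2) (Matrix.SpecialLinearGroup.toLin' g) (by simp))
    (bridge n g)

end Cfsg.Agent.Lib.Helper19.ORE
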