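import Mathlib
import Cfsg.Agent.Lib.Helper19.ORE.Defs
import Cfsg.Agent.Lib.Helper19.ORE.X3

set_option autoImplicit false

/-!
# Project ORE (designer helper19), row G2 (helper9): `three_single`, core on the statements of
`line_sol` (C3), `rep_two` (D2), `cyc_flex` (C4), `solP_of_msol` (D4); `msol3_j` is landed (X3).
The conclusion is `IsK g ∨ Flex g` with `IsK` unfolded.
-/

namespace Cfsg.Agent.Lib.Helper19.ORE

open Polynomial Module

/-- forget the annihilating polynomial -/
theorem oreg2_solP_zero {F : Type*} [Field F] {V : Type*} [AddCommGroup V] [Module F V]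
    {g : V ≃ₗ[F] V} {D E : Fˣ} {p : F[X]} (h : SolP g D E p) : SolP g D E 0 := by
  obtain ⟨A, y, h1, h2, h3, -⟩ := h
  exact ⟨A, y, h1, h2, h3, by simp⟩

/-- G2 on the statements of the cited rows -/
theorem oreg2_core {V : Type} [AddCommGroup V] [Module (ZMod 3) V]
    [FiniteDimensional (ZMod 3) V] [Nontrivial V] (g : V ≃ₗ[ZMod 3] V)
    (hline : finrank (ZMod 3) V = 1 → LinearEquiv.det g = 1 → ∀ a e : (ZMod 3)ˣ,
      SolP g a e (X - C (a : ZMod 3)))
    (hrep2 : IsCyc g → finrank (ZMod 3) V = 2 →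
      ∃ t : ZMod 3, Rep g (comp2 t ((LinearEquiv.det g : (ZMod 3)ˣ) : ZMod 3)))
    (hflex : IsCyc g → 3 ≤ finrank (ZMod 3) V → LinearEquiv.det g = 1 → Flex g)
    (hmsol : ∀ {M : Matrix (Fin 2) (Fin 2) (ZMod 3)}, Rep g M → ∀ {D E : (ZMod 3)ˣ},
      MSol M (D : ZMod 3) (E : ZMod 3) 0 → SolP g D E 0)
    (hg : IsCyc g) (hdet : LinearEquiv.det g = 1) :
    (∃ t : ZMod 3, t ≠ 0 ∧ Rep g (comp2 t 1)) ∨ Flex g := by
  have hpos : 0 < finrank (ZMod 3) V := finrank_pos
  rcases Nat.lt_or_ge (finrank (ZMod 3) V) 3 with hlt | hge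
  · have h12 : finrank (ZMod 3) V = 1 ∨ finrank (ZMod 3) V = 2 := by omega
    rcases h12 with h1 | h2
    · right
      intro D E
      exact oreg2_solP_zero (hline h1 hdet D E)
    · obtain ⟨t, ht⟩ := hrep2 hg h2
      rw [hdet] at ht
      have ht' : Rep g (comp2 t 1) := by simpa using ht
      by_cases ht0 : t = 0
      · right
        intro D E
        rw [ht0] at ht'
        exact hmsol ht' (msol3_j D E)
      · left
        exact ⟨t, ht0, ht'⟩
  · right
    exact hflex hg hge hdet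

end Cfsg.Agent.Lib.Helper19.ORE
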