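import Mathlib
import Cfsg.Agent.Lib.Helper19.ORE.Defs
import Cfsg.Agent.Lib.Helper9.OREG2core
import Cfsg.Agent.Lib.Helper19.ORE.Defs2
import Cfsg.Agent.Lib.helper8.OREC3
import Cfsg.Agent.Lib.helper4.OREC4
import Cfsg.Agent.Lib.Helper22.ORED2
import Cfsg.Agent.Lib.Helper21.ORED4

set_option autoImplicit false

/-!
# Project ORE (designer helper19), row G2 (helper9): `three_single`, verbatim.
-/

namespace Cfsg.Agent.Lib.Helper19.ORE

open Polynomial Module

/-- **G2** (single cyclic pieces of determinant 1 over `ZMod 3`). -/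
theorem three_single {V : Type} [AddCommGroup V] [Module (ZMod 3) V]
    [FiniteDimensional (ZMod 3) V] [Nontrivial V] (g : V ≃ₗ[ZMod 3] V) (hg : IsCyc g)
    (hdet : LinearEquiv.det g = 1) : IsK g ∨ Flex g :=
  oreg2_core g (fun h1 hd a e => line_sol g h1 hd a e) (fun hc h2 => rep_two g hc h2)
    (fun hc h3 hd => cyc_flex g hc h3 hd) (fun hM _ _ hs => solP_of_msol hM hs) hg hdet

end Cfsg.Agent.Lib.Helper19.ORE
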