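import Mathlib
import Cfsg.Agent.Lib.Helper9.OddAut1

set_option autoImplicit false

namespace Cfsg.Agent.Lib.Helper9

section OddAut2
variable {X : Type*} [Group X]

/-- an element of odd order normalizing a cyclic `2`-subgroup `⟨a⟩` centralizes it -/
theorem oa_cyclic_centralized [Finite X] (g a : X) (j : ℕ) (hodd : Odd (orderOf g))
    (ha : orderOf a = 2 ^ j) (hga : g * a * g⁻¹ ∈ Subgroup.zpowers a) : g * a = a * g := by
  obtain ⟨k, hk⟩ : ∃ k : ℕ, a ^ k = g * a * g⁻¹ := by
    have := (isOfFinOrder_of_finite a).mem_powers_iff_mem_zpowers.mpr hga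
    exact Submonoid.mem_powers_iff _ _ |>.mp this
  have hpow : ∀ m : ℕ, g ^ m * a * (g ^ m)⁻¹ = a ^ (k ^ m) := by
    intro m
    induction m with
    | zero => simp
    | succ m ih =>
      have h1 : g ^ (m + 1) * a * (g ^ (m + 1))⁻¹ = g * (g ^ m * a * (g ^ m)⁻¹) * g⁻¹ := by
        rw [pow_succ']; group
      rw [h1, ih, ← conj_pow, ← hk, ← pow_mul, pow_succ']
  have hord : orderOf (a ^ k) = orderOf a := by
    rw [hk]
    have := (MulAut.conj g).orderOf_eq a
    rwa [MulAut.conj_apply] at this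
  have hpos : 0 < orderOf a := orderOf_pos a
  have hcop : Nat.Coprime k (orderOf a) := by
    rw [orderOf_pow] at hord
    have h2 := (Nat.div_eq_self.mp hord).resolve_left hpos.ne'
    rw [Nat.coprime_comm]
    exact h2
  have h3 := Nat.ModEq.pow_totient hcop
  have h4 : a ^ (k ^ Nat.totient (orderOf a)) = a := by
    have := (pow_eq_pow_iff_modEq (x := a)).mpr h3
    rwa [pow_one] at this
  have h5 := hpow (Nat.totient (orderOf a))
  rw [h4] at h5
  have h6 : Commute (g ^ Nat.totient (orderOf a)) a := by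
    have : g ^ Nat.totient (orderOf a) * a = a * g ^ Nat.totient (orderOf a) := by
      calc g ^ Nat.totient (orderOf a) * a
          = (g ^ Nat.totient (orderOf a) * a * (g ^ Nat.totient (orderOf a))⁻¹)
              * g ^ Nat.totient (orderOf a) := by group
        _ = a * g ^ Nat.totient (orderOf a) := by rw [h5]
    exact this
  have h7 : Nat.Coprime (Nat.totient (orderOf a)) (orderOf g) := by
    rw [ha]
    rcases Nat.eq_zero_or_pos j with hj | hj
    · subst hj; simp
    · rw [Nat.totient_prime_pow Nat.prime_two hj]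
      simp only [Nat.add_one_sub_one, mul_one]
      exact Nat.Coprime.pow_left _ (Nat.coprime_two_left.mpr hodd)
  obtain ⟨m, hm⟩ := exists_pow_eq_self_of_coprime h7
  have h8 : Commute g a := by
    rw [← hm]
    exact h6.pow_left m
  exact h8

/-- an element normalizing all subgroups of order `2^m` of a noncyclic group `F` of order `2^(m+1)`
maps `F` into itself -/
theorem oa_conj_mem_of_noncyclic [Finite X] (h : X) (F : Subgroup X) (m : ℕ)
    (hF : Nat.card F = 2 ^ (m + 1)) (hnc : ¬ IsCyclic F)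
    (hM : ∀ M : Subgroup X, M ≤ F → Nat.card M = 2 ^ m → h ∈ Subgroup.normalizer (M : Set X))
    (x : X) (hx : x ∈ F) : h * x * h⁻¹ ∈ F := by
  haveI : Fact (Nat.Prime 2) := ⟨Nat.prime_two⟩
  have hzx : Subgroup.zpowers x ≤ F := (Subgroup.zpowers_le).mpr hx
  have hdvd : Nat.card (Subgroup.zpowers x) ∣ 2 ^ (m + 1) := hF ▸ Subgroup.card_dvd_of_le hzx
  obtain ⟨i, hi, hi2⟩ := (Nat.dvd_prime_pow Nat.prime_two).mp hdvd
  have him : i ≤ m := by
    by_contra hcon
    have hi' : i = m + 1 := by omega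
    apply hnc
    have heq : Subgroup.zpowers x = F :=
      Subgroup.eq_of_le_of_card_ge hzx (by rw [hi2, hi', hF])
    rw [← heq]
    infer_instance
  obtain ⟨M, hxM, hMF, hMc⟩ := oa_exists_between 2 (Subgroup.zpowers x) F hzx hi2 hF him (by omega)
  have hn := hM M hMF hMc
  have : h * x * h⁻¹ ∈ M :=
    (Subgroup.mem_normalizer_iff.mp hn x).mp (hxM (Subgroup.mem_zpowers x))
  exact hMF this

theorem oa_normalizer_of_noncyclic [Finite X] (g : X) (F : Subgroup X) (m : ℕ)
    (hF : Nat.card F = 2 ^ (m + 1)) (hnc : ¬ IsCyclic F)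
    (hM : ∀ M : Subgroup X, M ≤ F → Nat.card M = 2 ^ m → g ∈ Subgroup.normalizer (M : Set X)) :
    g ∈ Subgroup.normalizer (F : Set X) := by
  rw [Subgroup.mem_normalizer_iff]
  intro x
  constructor
  · exact oa_conj_mem_of_noncyclic g F m hF hnc hM x
  · intro hx
    have := oa_conj_mem_of_noncyclic g⁻¹ F m hF hnc
      (fun M h1 h2 => Subgroup.inv_mem _ (hM M h1 h2)) _ hx
    simpa [mul_assoc] using this

/-- the fixed point argument: an element of odd prime power order normalizing `F` of order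
`2^(m+1)` and all its subgroups of order `2^m` centralizes `F` -/
theorem oa_centralizes [Finite X] (q e : ℕ) [hq : Fact q.Prime] (hq2 : q ≠ 2) (g : X)
    (hg : g ^ q ^ e = 1) (F : Subgroup X) (m : ℕ) (hF : Nat.card F = 2 ^ (m + 1))
    (hgF : g ∈ Subgroup.normalizer (F : Set X))
    (hM : ∀ M : Subgroup X, M ≤ F → Nat.card M = 2 ^ m → g ∈ Subgroup.normalizer (M : Set X))
    (x : X) (hx : x ∈ F) : g * x = x * g := by
  haveI : Fact (Nat.Prime 2) := ⟨Nat.prime_two⟩
  set H : Subgroup X := F ⊓ Subgroup.centralizer {g} with hH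
  have hHF : H ≤ F := inf_le_left
  have hdvd : Nat.card H ∣ 2 ^ (m + 1) := hF ▸ Subgroup.card_dvd_of_le hHF
  obtain ⟨i, hi, hi2⟩ := (Nat.dvd_prime_pow Nat.prime_two).mp hdvd
  by_cases him : i ≤ m
  · exfalso
    obtain ⟨M, hHM, hMF, hMc⟩ := oa_exists_between 2 H F hHF hi2 hF him (by omega)
    have hn := hM M hMF hMc
    have hY : ∀ y ∈ ((F : Set X) \ (M : Set X)), g * y * g⁻¹ ∈ ((F : Set X) \ (M : Set X)) := by
      rintro y ⟨hyF, hyM⟩
      refine ⟨(Subgroup.mem_normalizer_iff.mp hgF y).mp hyF, fun hcon => hyM ?_⟩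
      exact (Subgroup.mem_normalizer_iff.mp hn y).mpr hcon
    have hcard : ((F : Set X) \ (M : Set X)).ncard = 2 ^ m := by
      rw [Set.ncard_sdiff (by exact_mod_cast hMF)]
      have h1 : (F : Set X).ncard = 2 ^ (m + 1) := by
        rw [← hF]; exact (Nat.card_coe_set_eq _).symm
      have h2 : (M : Set X).ncard = 2 ^ m := by
        rw [← hMc]; exact (Nat.card_coe_set_eq _).symm
      rw [h1, h2, pow_succ]
      omega
    have hnd : ¬ q ∣ ((F : Set X) \ (M : Set X)).ncard := by
      rw [hcard]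
      intro hcon
      have := hq.out.dvd_of_dvd_pow hcon
      exact hq2 ((Nat.prime_dvd_prime_iff_eq hq.out Nat.prime_two).mp this)
    obtain ⟨y, ⟨hyF, hyM⟩, hy⟩ := oa_fixed_point q e g hg _ hY hnd
    apply hyM
    apply hHM
    refine ⟨hyF, ?_⟩
    show y ∈ Subgroup.centralizer {g}
    rw [Subgroup.mem_centralizer_iff]
    intro z hz
    rw [Set.mem_singleton_iff] at hz
    subst hz
    calc z * y = (z * y * z⁻¹) * z := by group
      _ = y * z := by rw [hy]
  · have hi' : i = m + 1 := by omega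
    have heq : H = F := Subgroup.eq_of_le_of_card_ge hHF (by rw [hi2, hi', hF])
    have hxH : x ∈ H := heq ▸ hx
    have : x ∈ Subgroup.centralizer {g} := hxH.2
    rw [Subgroup.mem_centralizer_iff] at this
    exact this g rfl

end OddAut2

end Cfsg.Agent.Lib.Helper9
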