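import Mathlib
import Cfsg.Agent.Lib.Helper9.OddAut2

set_option autoImplicit false

namespace Cfsg.Agent.Lib.Helper9

section OddAut3
variable {X : Type*} [Group X]

theorem oa_key [Finite X] (q e : ℕ) [hq : Fact q.Prime] (g : X) (hgo : orderOf g = q ^ e)
    (hodd : Odd (orderOf g)) (P D : Subgroup X) (hP : IsPGroup 2 P)
    (hgP : g ∈ Subgroup.normalizer (P : Set X)) (hDP : D ≤ P) (hD1 : 1 < Nat.card D)
    (hD2 : Nat.card D < Nat.card P)
    (hinv : ∀ E : Subgroup X, E ≤ P →
      (Nat.card E = Nat.card D ∨ (Nat.card D = 2 ∧ Nat.card E = 4)) →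
      g ∈ Subgroup.normalizer (E : Set X)) :
    g ∈ Subgroup.centralizer (P : Set X) := by
  haveI : Fact (Nat.Prime 2) := ⟨Nat.prime_two⟩
  by_cases hg1 : g = 1
  · subst hg1; exact Subgroup.one_mem _
  have hq2 : q ≠ 2 := by
    rintro rfl
    have he : e = 0 := by
      by_contra he
      rw [hgo] at hodd
      exact (Nat.not_even_iff_odd.mpr hodd) ((Nat.even_pow).mpr ⟨even_two, he⟩)
    rw [he, pow_zero, orderOf_eq_one_iff] at hgo
    exact hg1 hgo
  have hgq : g ^ q ^ e = 1 := by rw [← hgo]; exact pow_orderOf_eq_one g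
  obtain ⟨n, hn⟩ := IsPGroup.iff_card.mp hP
  obtain ⟨d, hd⟩ := IsPGroup.iff_card.mp (hP.to_le hDP)
  have hd1 : 1 ≤ d := by
    rcases Nat.eq_zero_or_pos d with h | h
    · subst h; rw [pow_zero] at hd; omega
    · exact h
  have hdn : d < n := by
    rw [hd, hn] at hD2
    exact (Nat.pow_lt_pow_iff_right (by norm_num)).mp hD2
  have hcop : (orderOf g).Coprime 2 := Nat.coprime_two_right.mpr hodd
  apply Helper21.comm_of_comm_small g hcop P hP hgP
  intro a haP ha
  have ha4 : a ^ 4 = 1 := by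
    rcases ha with h | ⟨-, h⟩
    · calc a ^ 4 = (a ^ 2) ^ 2 := by rw [← pow_mul]
        _ = 1 := by rw [h, one_pow]
    · exact h
  have hoa : orderOf a ∣ 2 ^ 2 := orderOf_dvd_of_pow_eq_one ha4
  obtain ⟨j, hj, hj2⟩ := (Nat.dvd_prime_pow Nat.prime_two).mp hoa
  have hza : Subgroup.zpowers a ≤ P := Subgroup.zpowers_le.mpr haP
  have hzc : Nat.card (Subgroup.zpowers a) = 2 ^ j := by rw [Nat.card_zpowers, hj2]
  by_cases hd2 : d = 1
  · rcases Nat.eq_zero_or_pos j with hj0 | hjpos
    · subst hj0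
      rw [pow_zero, orderOf_eq_one_iff] at hj2
      subst hj2; simp
    have hnorm : g ∈ Subgroup.normalizer ((Subgroup.zpowers a : Subgroup X) : Set X) := by
      apply hinv _ hza
      rw [hzc, hd, hd2]
      have : j = 1 ∨ j = 2 := by omega
      rcases this with rfl | rfl
      · left; rfl
      · right; exact ⟨by norm_num, by norm_num⟩
    apply oa_cyclic_centralized g a j hodd hj2
    exact (Subgroup.mem_normalizer_iff.mp hnorm a).mp (Subgroup.mem_zpowers a)
  · have hd2' : 2 ≤ d := by omega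
    obtain ⟨E, haE, hEP, hEc⟩ :=
      oa_exists_between 2 (Subgroup.zpowers a) P hza hzc hn (le_trans hj hd2') hdn.le
    have hgE : g ∈ Subgroup.normalizer (E : Set X) := hinv E hEP (Or.inl (by rw [hEc, hd]))
    have haE' : a ∈ E := haE (Subgroup.mem_zpowers a)
    by_cases hcyc : IsCyclic E
    · obtain ⟨b, hb⟩ := (Subgroup.isCyclic_iff_exists_zpowers_eq_top E).mp hcyc
      have hbE : b ∈ E := hb ▸ Subgroup.mem_zpowers b
      have hob : orderOf b = 2 ^ d := by rw [← Nat.card_zpowers, hb, hEc]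
      have hgb : g * b * g⁻¹ ∈ Subgroup.zpowers b := by
        rw [hb]
        exact (Subgroup.mem_normalizer_iff.mp hgE b).mp hbE
      have hcb : Commute g b := oa_cyclic_centralized g b d hodd hob hgb
      have : a ∈ Subgroup.zpowers b := hb ▸ haE'
      obtain ⟨z, rfl⟩ := Subgroup.mem_zpowers_iff.mp this
      exact hcb.zpow_right z
    · obtain ⟨F, hEF, hFP, hFc⟩ :=
        oa_exists_between 2 E P hEP hEc hn (Nat.le_succ d) hdn
      have hncF : ¬ IsCyclic F := fun h => hcyc (Subgroup.isCyclic_of_le hEF)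
      have hMs : ∀ M : Subgroup X, M ≤ F → Nat.card M = 2 ^ d →
          g ∈ Subgroup.normalizer (M : Set X) :=
        fun M hMF hMc => hinv M (hMF.trans hFP) (Or.inl (by rw [hMc, hd]))
      have hgF := oa_normalizer_of_noncyclic g F d hFc hncF hMs
      exact oa_centralizes q e hq2 g hgq F d hFc hgF hMs a (hEF haE')

theorem oa_main [Finite X] (P A D : Subgroup X) (hP : IsPGroup 2 P) (hA : Odd (Nat.card A))
    (hAP : A ≤ Subgroup.normalizer (P : Set X)) (hDP : D ≤ P) (hD1 : 1 < Nat.card D)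
    (hD2 : Nat.card D < Nat.card P)
    (hinv : ∀ E : Subgroup X, E ≤ P →
      (Nat.card E = Nat.card D ∨ (Nat.card D = 2 ∧ Nat.card E = 4)) →
      A ≤ Subgroup.normalizer (E : Set X)) :
    A ≤ Subgroup.centralizer (P : Set X) := by
  have key : (Subgroup.centralizer (P : Set X)).subgroupOf A = ⊤ := by
    apply Helper22.eq_top_of_sylow_le
    intro r hr
    let R : Sylow r A := default
    refine ⟨R, fun x hx => ?_⟩
    rw [Subgroup.mem_subgroupOf]
    obtain ⟨k, hk⟩ := R.isPGroup' ⟨x, hx⟩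
    have hxk : (x : X) ^ r ^ k = 1 := by
      have := congrArg (fun t : R => ((t : A) : X)) hk
      simpa using this
    obtain ⟨e, -, he⟩ := (Nat.dvd_prime_pow hr.out).mp (orderOf_dvd_of_pow_eq_one hxk)
    have hoddx : Odd (orderOf (x : X)) := by
      have h1 : orderOf (x : X) ∣ Nat.card A := by
        rw [Subgroup.orderOf_coe]
        exact orderOf_dvd_natCard x
      exact hA.of_dvd_nat h1
    exact oa_key r e (x : X) he hoddx P D hP (hAP x.2) hDP hD1 hD2
      (fun E hE h => hinv E hE h x.2)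
  intro x hx
  have : (⟨x, hx⟩ : A) ∈ (Subgroup.centralizer (P : Set X)).subgroupOf A := by
    rw [key]; trivial
  exact Subgroup.mem_subgroupOf.mp this

end OddAut3

end Cfsg.Agent.Lib.Helper9
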