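import Mathlib
import Cfsg.Agent.Lib.helper6.P4T.Defs

set_option autoImplicit false

/-!
# Project P4T (designer helper6), row TA1 (helper9): the core, on the statements of TS2 (`rho12_ss`) and TR5 (`rho12M_uni`).
-/

namespace Cfsg.Agent.Lib.helper23.P4S

open Matrix

/-- arithmetic of `q = 3 ^ (2 t)` -/
theorem p4tta1_arith (t : ℕ) :
    Nat.gcd 2 (3 ^ (2 * t) - 1) = 2 ∧ 2 * (((3 ^ (2 * t)) ^ 2 + 1) / 2) = (3 ^ (2 * t)) ^ 2 + 1 ∧
      2 * (((3 ^ (2 * t)) ^ 2 - 1) / 2) = (3 ^ (2 * t)) ^ 2 - 1 := by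
  have hodd : Odd (3 ^ (2 * t)) := Odd.pow (by decide)
  obtain ⟨m, hm⟩ := hodd
  refine ⟨?_, ?_, ?_⟩
  · rw [hm]
    have : 2 * m + 1 - 1 = 2 * m := by omega
    rw [this]
    exact Nat.gcd_eq_left (dvd_mul_right 2 m)
  · rw [hm]
    have : (2 * m + 1) ^ 2 + 1 = 2 * (2 * m * m + 2 * m + 1) := by ring
    rw [this, Nat.mul_div_cancel_left _ (by norm_num : 0 < 2)]
  · rw [hm]
    have : (2 * m + 1) ^ 2 - 1 = 2 * (2 * m * m + 2 * m) := by
      have : (2 * m + 1) ^ 2 = 2 * (2 * m * m + 2 * m) + 1 := by ring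
      omega
    rw [this, Nat.mul_div_cancel_left _ (by norm_num : 0 < 2)]

/-- TA1, on the statements of TS2 and TR5 -/
theorem p4tta1_core {E : Type} [Field E] [Fintype E] [CharP E 3] (t : ℕ) (ht : 1 ≤ t)
    (A : Matrix.SpecialLinearGroup (Fin 2) E)
    (hTS2 : A.1.trace ^ 2 ≠ 4 →
      ∃ r : ℕ, 0 < r ∧ ¬ r ∣ 2 ∧ orderOf A = r ∧ (r ∣ (3 ^ (2 * t)) ^ 2 - 1 ∨ r ∣ (3 ^ (2 * t)) ^ 2 + 1) ∧
      (∀ k : ℕ, (rho12 (frq E 3 (2 * t)) (frq E 3 (2 * t + 1)) A) ^ k = 1 ↔ r ∣ 2 * k) ∧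
      (gsum ((rho12 (frq E 3 (2 * t)) (frq E 3 (2 * t + 1)) A : GL (Fin 3 × (Fin 2 × Fin 2)) E) :
            Matrix (Fin 3 × (Fin 2 × Fin 2)) (Fin 3 × (Fin 2 × Fin 2)) E)
          (orderOf (rho12 (frq E 3 (2 * t)) (frq E 3 (2 * t + 1)) A)) ≠ 0 ↔
        (r ∣ 2 * (3 ^ (2 * t) + 1) ∨ r ∣ 2 * (3 ^ (2 * t) - 1))))
    (hTR5 : A.1.trace ^ 2 = 4 → rho12M (frq E 3 (2 * t)) (frq E 3 (2 * t + 1)) A.1 ^ 3 = 1) :
    InT4 3 (3 ^ (2 * t)) (orderOf (rho12 (frq E 3 (2 * t)) (frq E 3 (2 * t + 1)) A)) ∧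
      (gsum ((rho12 (frq E 3 (2 * t)) (frq E 3 (2 * t + 1)) A : GL (Fin 3 × (Fin 2 × Fin 2)) E) :
            Matrix (Fin 3 × (Fin 2 × Fin 2)) (Fin 3 × (Fin 2 × Fin 2)) E)
          (orderOf (rho12 (frq E 3 (2 * t)) (frq E 3 (2 * t + 1)) A)) ≠ 0 →
        InT4 3 (3 ^ (2 * t)) (3 * orderOf (rho12 (frq E 3 (2 * t)) (frq E 3 (2 * t + 1)) A))) := by
  obtain ⟨hgcd, hplus, hminus⟩ := p4tta1_arith t
  set g := rho12 (frq E 3 (2 * t)) (frq E 3 (2 * t + 1)) A with hg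
  by_cases htr : A.1.trace ^ 2 = 4
  · -- unipotent case
    have h3 : g ^ 3 = 1 := by
      apply Units.ext
      rw [Units.val_pow_eq_pow_val, hg, rho12_coe, hTR5 htr]
      rfl
    have ho : orderOf g ∣ 3 := orderOf_dvd_of_pow_eq_one h3
    refine ⟨?_, fun _ => ?_⟩
    · right; right; right; right; right
      exact ⟨rfl, dvd_trans ho (by norm_num)⟩
    · right; right; right; right; right
      refine ⟨rfl, ?_⟩
      have : 3 * orderOf g ∣ 3 * 3 := Nat.mul_dvd_mul_left 3 ho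
      exact this
  · obtain ⟨r, hr0, hr2, hAr, hrq, hk, hgs⟩ := hTS2 htr
    have hchar : ∀ k : ℕ, orderOf g ∣ k ↔ r ∣ 2 * k := by
      intro k
      rw [orderOf_dvd_iff_pow_eq_one]
      exact hk k
    refine ⟨?_, fun hne => ?_⟩
    · rcases hrq with h | h
      · right; left
        rw [hgcd, hchar, hminus]
        exact h
      · left
        rw [hgcd, hchar, hplus]
        exact h
    · rcases hgs.1 hne with h | h
      · right; right; left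
        exact Nat.mul_dvd_mul_left 3 ((hchar _).2 h)
      · right; right; right; left
        exact Nat.mul_dvd_mul_left 3 ((hchar _).2 h)

end Cfsg.Agent.Lib.helper23.P4S
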