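import Mathlib
import Cfsg.Agent.Lib.helper6.P4T.Defs

set_option autoImplicit false

/-!
# Project P4T (designer helper6), row TW4 (helper9): the core, on the statements of TW1 (`wt12_zpow`) and TW3 (`lam12_arith`).
-/

namespace Cfsg.Agent.Lib.helper23.P4S

open Matrix

/-- `b ^ i = 1 ↔ orderOf b ∣ i` for a nonzero element of a field and an integer exponent -/
theorem p4ttw4_zpow_eq_one {K : Type} [Field K] (b : K) (hb : b ≠ 0) (i : ℤ) :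
    b ^ i = 1 ↔ (orderOf b : ℤ) ∣ i := by
  have h1 : orderOf (Units.mk0 b hb) = orderOf b := by
    rw [← orderOf_units, Units.val_mk0]
  rw [← h1, orderOf_dvd_iff_zpow_eq_one, Units.ext_iff, Units.val_zpow_eq_zpow_val, Units.val_mk0,
    Units.val_one]

/-- TW4, on the statements of TW1 and TW3 -/
theorem p4ttw4_core {K : Type} [Field K] (b : K) (hb : b ≠ 0) (t : ℕ) (ht : 1 ≤ t) (h2 : ¬ orderOf b ∣ 2)
    (hr : orderOf b ∣ (3 ^ (2 * t)) ^ 2 - 1 ∨ orderOf b ∣ (3 ^ (2 * t)) ^ 2 + 1)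
    (hW1 : ∀ j : Fin 3 × (Fin 2 × Fin 2), wt12 b (3 ^ (2 * t)) j = b ^ lam12 (3 ^ (2 * t)) j)
    (hW3 : ∀ j : Fin 3 × (Fin 2 × Fin 2), ((orderOf b : ℕ) : ℤ) ∣ lam12 (3 ^ (2 * t)) j →
      orderOf b ∣ 2 * (3 ^ (2 * t) + 1) ∨ orderOf b ∣ 2 * (3 ^ (2 * t) - 1)) :
    (∃ j, wt12 b (3 ^ (2 * t)) j = 1) ↔
      (orderOf b ∣ 2 * (3 ^ (2 * t) + 1) ∨ orderOf b ∣ 2 * (3 ^ (2 * t) - 1)) := by
  have hq1 : 1 ≤ 3 ^ (2 * t) := Nat.one_le_pow _ _ (by norm_num)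
  constructor
  · rintro ⟨j, hj⟩
    rw [hW1, p4ttw4_zpow_eq_one b hb] at hj
    exact hW3 j hj
  · rintro (h | h)
    · refine ⟨(0, (1, 0)), ?_⟩
      rw [hW1, p4ttw4_zpow_eq_one b hb]
      have e : lam12 (3 ^ (2 * t)) (0, (1, 0)) = ((2 * (3 ^ (2 * t) + 1) : ℕ) : ℤ) := by
        simp [lam12]
        ring
      rw [e]
      exact Int.natCast_dvd_natCast.2 h
    · refine ⟨(2, (1, 0)), ?_⟩
      rw [hW1, p4ttw4_zpow_eq_one b hb]
      have e : lam12 (3 ^ (2 * t)) (2, (1, 0)) = ((2 * (3 ^ (2 * t) - 1) : ℕ) : ℤ) := by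
        rw [Nat.cast_mul, Nat.cast_sub hq1]
        simp [lam12]
        ring
      rw [e]
      exact Int.natCast_dvd_natCast.2 h

end Cfsg.Agent.Lib.helper23.P4S
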