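import Mathlib
import Cfsg.Agent.Lib.helper6.P4T.Defs
import Cfsg.Agent.Lib.Helper9.P4TTA1core
import Cfsg.Agent.Lib.Helper25.P4TTR5
import Cfsg.Agent.Lib.helper6.P4TTS2

set_option autoImplicit false

/-!
# Project P4T (designer helper6), row TA1 (helper9): the verbatim statement.
-/

namespace Cfsg.Agent.Lib.helper23.P4S

open Matrix

/-- TA1 [M-L] ASSEMBLY -/
theorem t3_inner {E : Type} [Field E] [Fintype E] [CharP E 3] (t : ℕ) (ht : 1 ≤ t)
    (hE : Fintype.card E = 3 ^ (2 * (2 * t))) (A : Matrix.SpecialLinearGroup (Fin 2) E) :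
    InT4 3 (3 ^ (2 * t)) (orderOf (rho12 (frq E 3 (2 * t)) (frq E 3 (2 * t + 1)) A)) ∧
      (gsum ((rho12 (frq E 3 (2 * t)) (frq E 3 (2 * t + 1)) A : GL (Fin 3 × (Fin 2 × Fin 2)) E) :
            Matrix (Fin 3 × (Fin 2 × Fin 2)) (Fin 3 × (Fin 2 × Fin 2)) E)
          (orderOf (rho12 (frq E 3 (2 * t)) (frq E 3 (2 * t + 1)) A)) ≠ 0 →
        InT4 3 (3 ^ (2 * t)) (3 * orderOf (rho12 (frq E 3 (2 * t)) (frq E 3 (2 * t + 1)) A))) :=
  p4tta1_core t ht A (fun htr => rho12_ss t ht hE A htr) (fun htr => rho12M_uni _ _ A.1 A.2 htr)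

end Cfsg.Agent.Lib.helper23.P4S
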