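import Mathlib
import Cfsg.Agent.Lib.helper6.P4T.Defs
import Cfsg.Agent.Lib.Helper9.P4TTW4core
import Cfsg.Agent.Lib.Helper20.P4TTW1
import Cfsg.Agent.Lib.Helper1.P4TTW3

set_option autoImplicit false

/-!
# Project P4T (designer helper6), row TW4 (helper9): the verbatim statement.
-/

namespace Cfsg.Agent.Lib.helper23.P4S

open Matrix

/-- TW4 [M] -/
theorem wt12_fix {K : Type} [Field K] (b : K) (hb : b ≠ 0) (t : ℕ) (ht : 1 ≤ t) (h2 : ¬ orderOf b ∣ 2)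
    (hr : orderOf b ∣ (3 ^ (2 * t)) ^ 2 - 1 ∨ orderOf b ∣ (3 ^ (2 * t)) ^ 2 + 1) :
    (∃ j, wt12 b (3 ^ (2 * t)) j = 1) ↔
      (orderOf b ∣ 2 * (3 ^ (2 * t) + 1) ∨ orderOf b ∣ 2 * (3 ^ (2 * t) - 1)) :=
  p4ttw4_core b hb t ht h2 hr (fun j => wt12_zpow b hb _ j)
    (fun j hj => lam12_arith t ht (orderOf b) h2 hr j hj)

end Cfsg.Agent.Lib.helper23.P4S
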