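import Mathlib
import Cfsg.Prelude.Def_Classical
import Cfsg.Agent.Lib.helper23.P4V.Defs
import Cfsg.Agent.Lib.Helper9.P4VII1

/-!
# P4V row II2 (helper9): `exists_eigen_pairs`.
-/

set_option autoImplicit false

namespace Cfsg.Agent.Lib.helper23.P4V

open Matrix

universe u

section Field

variable {F : Type u} [Field F]

/-- **II2**.  `g ≠ 1`: some `u` with `m₁ = g u - u ≠ 0`, `g m₁ = -m₁`; `w` with `om m₁ w = 1`,
`m₂ = (2⁻¹) • (w - g w)`.  `g ≠ -1`: `p₁ = g u + u ≠ 0`, `p₂ = 2⁻¹ • (w + g w)`. -/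
theorem exists_eigen_pairs (h2 : (2 : F) ≠ 0) (g : M4 F) (hsq : g * g = 1)
    (hsa : ∀ u v : V F, om u (g *ᵥ v) = om (g *ᵥ u) v) (h1 : g ≠ 1) (hm1 : g ≠ -1) :
    ∃ p₁ p₂ m₁ m₂ : V F, g *ᵥ p₁ = p₁ ∧ g *ᵥ p₂ = p₂ ∧ g *ᵥ m₁ = -m₁ ∧ g *ᵥ m₂ = -m₂ ∧
      om p₁ p₂ = 1 ∧ om m₁ m₂ = 1 := by
  have hgg : ∀ w : V F, g *ᵥ (g *ᵥ w) = w := by
    intro w
    rw [Matrix.mulVec_mulVec, hsq, Matrix.one_mulVec]
  -- the `-1`-eigenvectors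
  have hex1 : ∃ u : V F, g *ᵥ u - u ≠ 0 := by
    by_contra hcon
    push Not at hcon
    apply h1
    rw [Matrix.ext_iff_mulVec]
    intro w
    rw [Matrix.one_mulVec]
    exact sub_eq_zero.mp (hcon w)
  have hex2 : ∃ u : V F, g *ᵥ u + u ≠ 0 := by
    by_contra hcon
    push Not at hcon
    apply hm1
    rw [Matrix.ext_iff_mulVec]
    intro w
    rw [Matrix.neg_mulVec, Matrix.one_mulVec]
    exact eq_neg_of_add_eq_zero_left (hcon w)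
  obtain ⟨u, hu⟩ := hex1
  obtain ⟨u', hu'⟩ := hex2
  obtain ⟨w, hw⟩ := p4vii1_om_nondeg _ hu
  obtain ⟨w', hw'⟩ := p4vii1_om_nondeg _ hu'
  have hm₁ : g *ᵥ (g *ᵥ u - u) = -(g *ᵥ u - u) := by
    rw [Matrix.mulVec_sub, hgg]; abel
  have hp₁ : g *ᵥ (g *ᵥ u' + u') = g *ᵥ u' + u' := by
    rw [Matrix.mulVec_add, hgg]; abel
  refine ⟨g *ᵥ u' + u', (2 : F)⁻¹ • (w' + g *ᵥ w'), g *ᵥ u - u, (2 : F)⁻¹ • (w - g *ᵥ w),
    hp₁, ?_, hm₁, ?_, ?_, ?_⟩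
  · rw [Matrix.mulVec_smul, Matrix.mulVec_add, hgg, add_comm]
  · rw [Matrix.mulVec_smul, Matrix.mulVec_sub, hgg, ← smul_neg, neg_sub]
  · rw [p4vii1_om_smul_right, p4vii1_om_add_right, hsa, hp₁, hw']
    field_simp
    norm_num
  · rw [p4vii1_om_smul_right, p4vii1_om_sub_right, hsa, hm₁, p4vii1_om_neg_left, hw]
    field_simp
    norm_num

end Field

end Cfsg.Agent.Lib.helper23.P4V
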