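import Cfsg.Agent.Lib.Helper1.PLK.Defs

/-!
# PLK row Z1b : orbits of the centre on the conjugacy classes = conjugacy classes of the quotient
-/

set_option autoImplicit false

namespace Cfsg.Agent.Lib.Helper1.PLK

open Polynomial
open Cfsg.Agent.Lib.Helper29.GLK
open Cfsg.Agent.Lib.Helper1.SLK

universe u

/-- the map `[x] ↦ [π x]` on conjugacy classes -/
def plkz1b_f (S : Type*) [Group S] : ConjClasses S → ConjClasses (S ⧸ Subgroup.center S) :=
  ConjClasses.map (QuotientGroup.mk' (Subgroup.center S))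

theorem plkz1b_f_mk (S : Type*) [Group S] (x : S) :
    plkz1b_f S (ConjClasses.mk x) = ConjClasses.mk ((x : S ⧸ Subgroup.center S)) := rfl

theorem plkz1b_f_smul (S : Type*) [Group S] (z : Subgroup.center S) (C : ConjClasses S) :
    plkz1b_f S (czSmul z C) = plkz1b_f S C := by
  obtain ⟨x, rfl⟩ := ConjClasses.mk_surjective C
  rw [czSmul_mk, plkz1b_f_mk, plkz1b_f_mk]
  congr 1
  rw [QuotientGroup.mk_mul]
  have : ((z : S) : S ⧸ Subgroup.center S) = 1 := (QuotientGroup.eq_one_iff _).mpr z.2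
  rw [this, one_mul]

theorem plkz1b_f_eq (S : Type*) [Group S] (C D : ConjClasses S)
    (h : plkz1b_f S C = plkz1b_f S D) : ∃ z : Subgroup.center S, czSmul z D = C := by
  obtain ⟨x, rfl⟩ := ConjClasses.mk_surjective C
  obtain ⟨y, rfl⟩ := ConjClasses.mk_surjective D
  rw [plkz1b_f_mk, plkz1b_f_mk, ConjClasses.mk_eq_mk_iff_isConj, isConj_iff] at h
  obtain ⟨c, hc⟩ := h
  obtain ⟨g, rfl⟩ := QuotientGroup.mk_surjective c
  -- π (g x g⁻¹) = π y
  have h1 : ((g * x * g⁻¹ : S) : S ⧸ Subgroup.center S) = (y : S ⧸ Subgroup.center S) := by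
    rw [QuotientGroup.mk_mul, QuotientGroup.mk_mul, QuotientGroup.mk_inv]
    exact hc
  have h2 : (g * x * g⁻¹)⁻¹ * y ∈ Subgroup.center S := QuotientGroup.eq.mp h1
  -- x = z' * (g⁻¹ y g) ...  we need czSmul z (mk y) = mk x, i.e. mk (z y) = mk x
  -- take z = ((g x g⁻¹)⁻¹ y)⁻¹ ; then z * y = ... conj to x
  refine ⟨⟨((g * x * g⁻¹)⁻¹ * y)⁻¹, Subgroup.inv_mem _ h2⟩, ?_⟩
  rw [czSmul_mk, ConjClasses.mk_eq_mk_iff_isConj, isConj_iff]
  refine ⟨g⁻¹, ?_⟩
  have hcomm := Subgroup.mem_center_iff.mp (Subgroup.inv_mem _ h2) y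
  show g⁻¹ * (((g * x * g⁻¹)⁻¹ * y)⁻¹ * y) * g⁻¹⁻¹ = x
  rw [← hcomm]
  group

/-- Z1b [M-L] orbits of the centre on the classes = classes of the quotient.  Map the orbit of `[x]`
to `[π x]` (`Quotient.lift`; well defined since `π (z x) = π x`); injective: `π y = π (g x g⁻¹)` gives
`y = z g x g⁻¹` with `z ∈ centre` (`QuotientGroup.eq`), so `[y] = z • [x]`; surjective. -/
theorem exists_orbit_equiv (S : Type*) [Group S] :
    letI := czAction S
    Nonempty (MulAction.orbitRel.Quotient (Subgroup.center S) (ConjClasses S) ≃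
      ConjClasses (S ⧸ Subgroup.center S)) := by
  let _i := czAction S
  refine ⟨Equiv.ofBijective
    (Quotient.lift (s := MulAction.orbitRel (Subgroup.center S) (ConjClasses S)) (plkz1b_f S) ?_)
    ⟨?_, ?_⟩⟩
  · intro a b hab
    obtain ⟨z, hz⟩ := (MulAction.orbitRel_apply.mp hab)
    have : czSmul z b = a := hz
    rw [← this, plkz1b_f_smul]
  · intro a b
    induction a using Quotient.inductionOn
    induction b using Quotient.inductionOn
    rename_i a b
    intro h
    have h' : plkz1b_f S a = plkz1b_f S b := h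
    obtain ⟨z, hz⟩ := plkz1b_f_eq S a b h'
    apply Quotient.sound
    exact MulAction.orbitRel_apply.mpr ⟨z, hz⟩
  · intro C
    obtain ⟨c, rfl⟩ := ConjClasses.mk_surjective C
    obtain ⟨x, rfl⟩ := QuotientGroup.mk_surjective c
    exact ⟨Quotient.mk _ (ConjClasses.mk x), rfl⟩

end Cfsg.Agent.Lib.Helper1.PLK
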