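import Cfsg.Agent.Lib.Helper1.PLK.Defs

/-!
# PLK row Z3 (SPARE copy; the verbatim one is Helper25.PLKZ3) : central elements of `SL_n(F)` are scalars `ζ 1` with `ζ^n = 1`
-/

set_option autoImplicit false

namespace Cfsg.Agent.Lib.Helper1.PLK

open Polynomial
open Cfsg.Agent.Lib.Helper29.GLK
open Cfsg.Agent.Lib.Helper1.SLK

universe u

/-- Z3 [S-M] `Matrix.SpecialLinearGroup.mem_center_iff`, `Matrix.smul_one_eq_diagonal`. -/
theorem plkz3_h9_center_scalar {F : Type u} [Field F] (n : ℕ) (hn : 1 ≤ n)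
    (z : Matrix.SpecialLinearGroup (Fin n) F)
    (hz : z ∈ Subgroup.center (Matrix.SpecialLinearGroup (Fin n) F)) :
    ∃ ζ : Fˣ, ζ ^ n = 1 ∧
      (z : Matrix (Fin n) (Fin n) F) = (ζ : F) • (1 : Matrix (Fin n) (Fin n) F) := by
  obtain ⟨r, hr, hrz⟩ := Matrix.SpecialLinearGroup.mem_center_iff.mp hz
  rw [Fintype.card_fin] at hr
  have hn0 : n ≠ 0 := by omega
  have hr0 : r ≠ 0 := by
    rintro rfl
    rw [zero_pow hn0] at hr
    exact zero_ne_one hr
  refine ⟨Units.mk0 r hr0, ?_, ?_⟩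
  · apply Units.ext
    rw [Units.val_pow_eq_pow_val, Units.val_mk0, hr, Units.val_one]
  · rw [← hrz, Units.val_mk0, Matrix.scalar_apply, Matrix.smul_one_eq_diagonal]

end Cfsg.Agent.Lib.Helper1.PLK
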