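import Mathlib
import Cfsg.Prelude.Def_Solvable
import Cfsg.Agent.Lib.Helper1.CFitting
import Cfsg.Agent.Lib.Helper1.Fitting
import Cfsg.Agent.Lib.Helper1.Cores
import Cfsg.Agent.Lib.helper17.PClosed
import Cfsg.Agent.S4037

set_option autoImplicit false

namespace Cfsg.Agent.Lib.Helper9

open scoped Pointwise commutatorElement
open Cfsg.Agent.Lib.Helper1

variable {G : Type*} [Group G]

/-- A perfect subgroup inside a solvable subgroup is trivial. -/
theorem ppc_eq_bot_of_le_commutator {N E : Subgroup G} (hsol : Group.IsSolvable N) (hEN : E ≤ N)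
    (hE : E ≤ ⁅E, E⁆) : E = ⊥ := by
  haveI := hsol
  haveI hsolE : Group.IsSolvable E :=
    Group.isSolvable_of_isSolvable_injective (Subgroup.inclusion_injective hEN)
  by_contra hne
  have hnt : Nontrivial E := by
    rw [Subgroup.nontrivial_iff_ne_bot]; exact hne
  have h1 : _root_.commutator E < ⊤ := Group.IsSolvable.commutator_lt_top_of_nontrivial E
  have h2 : (_root_.commutator E).map E.subtype = ⁅E, E⁆ := Subgroup.map_subtype_commutator E
  have h3 : (_root_.commutator E).map E.subtype = E := by
    apply le_antisymm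
    · exact Subgroup.map_subtype_le _
    · rw [h2]; exact hE
  have h4 : _root_.commutator E = ⊤ := by
    rw [eq_top_iff]
    intro y _
    have hy : (y : G) ∈ (_root_.commutator E).map E.subtype := by rw [h3]; exact y.2
    obtain ⟨z, hz, hzy⟩ := hy
    have : z = y := Subtype.ext hzy
    rwa [← this]
  exact absurd h4 (ne_of_lt h1)

/-- A solvable normal subgroup centralizing the Fitting subgroup lies in the Fitting subgroup. -/
theorem ppc_le_fitting_of_centralizes [Finite G] (N : Subgroup G) [hNn : N.Normal]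
    (hsol : Group.IsSolvable N)
    (hcent : N ≤ Subgroup.centralizer (Cfsg.fittingSubgroup G : Set G)) :
    N ≤ Cfsg.fittingSubgroup G := by
  set F := Cfsg.fittingSubgroup G with hF
  have hFn : F.Normal := fittingSubgroup_normal
  set D := N ⊓ F with hD
  have hDn : D.Normal := Subgroup.normal_inf_normal N F
  by_contra hNF
  have hDN : D < N := lt_of_le_of_ne inf_le_left (fun h => hNF (h ▸ inf_le_right))
  have hfin : {E : Subgroup G | E.Normal ∧ D < E ∧ E ≤ N}.Finite := Set.toFinite _
  obtain ⟨E, hE⟩ := hfin.exists_minimal ⟨N, hNn, hDN, le_rfl⟩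
  obtain ⟨⟨hEn, hDE, hEN⟩, hEmin⟩ := hE
  have hDcent : ∀ d ∈ D, ∀ e ∈ E, e * d = d * e := by
    intro d hd e he
    have h1 : e ∈ Subgroup.centralizer (F : Set G) := hcent (hEN he)
    rw [Subgroup.mem_centralizer_iff] at h1
    exact (h1 d hd.2).symm
  have key : ⁅E, E⁆ ≤ D := by
    set T := ⁅E, E⁆ ⊔ D with hT
    have hE'n : (⁅E, E⁆ : Subgroup G).Normal := inferInstance
    have hTn : T.Normal := Subgroup.sup_normal _ _
    have hE'E : ⁅E, E⁆ ≤ E := Subgroup.commutator_le_left E E
    have hTE : T ≤ E := sup_le hE'E hDE.le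
    by_cases hDT : D < T
    · have hET : E ≤ T := hEmin ⟨hTn, hDT, le_trans hTE hEN⟩ hTE
      have h1 : ⁅E, E⁆ ≤ ⁅⁅E, E⁆, ⁅E, E⁆⁆ := by
        rw [Subgroup.commutator_le]
        intro x hx y hy
        obtain ⟨x', hx', d, hd, rfl⟩ := Subgroup.mem_sup_of_normal_left.mp (hET hx)
        obtain ⟨y', hy', d', hd', rfl⟩ := Subgroup.mem_sup_of_normal_left.mp (hET hy)
        have e1 : ⁅x' * d, y' * d'⁆ = ⁅x', y'⁆ := by
          rw [commElem_mul_right_of_comm (hDcent d' hd' _ (hTE (hET hx))),
            commElem_mul_left_of_comm (hDcent d hd y' (hE'E hy'))]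
        rw [e1]
        exact Subgroup.commutator_mem_commutator hx' hy'
      have h2 : (⁅E, E⁆ : Subgroup G) = ⊥ :=
        ppc_eq_bot_of_le_commutator hsol (hE'E.trans hEN) h1
      rw [hT, h2, bot_sup_eq] at hDT
      exact absurd hDT (lt_irrefl D)
    · have hTD : T = D := by
        by_contra hne
        exact hDT (lt_of_le_of_ne le_sup_right (Ne.symm hne))
      rw [← hTD]; exact le_sup_left
  have hEnil : Group.IsNilpotent E := by
    apply nilpotent_of_commutators_central
    intro x hx y hy z hz
    exact hDcent _ (key (Subgroup.commutator_mem_commutator hx hy)) z hz |>.symm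
  have hEF : E ≤ F := le_fittingSubgroup hEn hEnil
  have hED : E ≤ D := le_inf hEN hEF
  exact absurd hED (not_le_of_gt hDE)

end Cfsg.Agent.Lib.Helper9
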