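import Mathlib
import Cfsg.Agent.Lib.Helper9.PPowClass1
import Cfsg.Agent.Lib.Helper22.Basic

set_option autoImplicit false

namespace Cfsg.Agent.Lib.Helper9

open scoped Pointwise commutatorElement
open Cfsg.Agent.Lib.Helper1

variable {G : Type*} [Group G]

/-- If `x` has `p`-power class size, then `O_q(G)` centralizes `x` for every prime `q ≠ p`. -/
theorem ppc_pCore_le_centralizer [Finite G] (p : ℕ) [hp : Fact p.Prime] (x : G) (a : ℕ)
    (hx : (Subgroup.centralizer ({x} : Set G)).index = p ^ a)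
    (q : ℕ) [hq : Fact q.Prime] (hqp : q ≠ p) :
    Cfsg.pCore q G ≤ Subgroup.centralizer ({x} : Set G) := by
  set C := Subgroup.centralizer ({x} : Set G) with hC
  set K := Cfsg.pCore q G with hK
  haveI hKn : K.Normal := pCore_normal q G
  have h1 : C.relIndex K ∣ p ^ a := by
    rw [← hx]; exact Cfsg.Agent.S4037.relIndex_normal_dvd C K
  have h2 : C.relIndex K ∣ Nat.card K := Subgroup.index_dvd_card _
  obtain ⟨n, hn⟩ := IsPGroup.iff_card.mp (pCore_isPGroup (G := G) q)
  rw [hn] at h2
  have hcop : Nat.Coprime (p ^ a) (q ^ n) := by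
    apply Nat.Coprime.pow
    rw [Nat.coprime_primes hp.out hq.out]
    exact hqp.symm
  have h3 : C.relIndex K = 1 :=
    Nat.Coprime.eq_one_of_dvd (Nat.Coprime.coprime_dvd_left h1 hcop) h2
  exact Subgroup.relIndex_eq_one.mp h3

/-- Core case `O_p(G) = 1`: conjugates of an element of `p`-power class size commute. -/
theorem ppc_comm_of_pCore_eq_bot [Finite G] (p : ℕ) [hp : Fact p.Prime] (x : G) (a : ℕ)
    (hx : (Subgroup.centralizer ({x} : Set G)).index = p ^ a)
    (hO : Cfsg.pCore p G = ⊥) (g h : G) :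
    (g * x * g⁻¹) * (h * x * h⁻¹) = (h * x * h⁻¹) * (g * x * g⁻¹) := by
  set F := Cfsg.fittingSubgroup G with hF
  haveI hFn : F.Normal := fittingSubgroup_normal
  have hFC : F ≤ Subgroup.centralizer ({x} : Set G) := by
    rw [hF, fittingSubgroup_eq_iSup_pCore]
    apply iSup_le
    intro q
    by_cases hqp : (q : ℕ) = p
    · rw [hqp, hO]; exact bot_le
    · haveI : Fact (q : ℕ).Prime := ⟨q.2⟩
      exact ppc_pCore_le_centralizer p x a hx q hqp
  have hxF : x ∈ Subgroup.centralizer (F : Set G) := by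
    rw [Subgroup.mem_centralizer_iff]
    intro f hf
    have h1 := hFC hf
    rw [Subgroup.mem_centralizer_iff] at h1
    exact (h1 x (Set.mem_singleton x)).symm
  haveI hCn : (Subgroup.centralizer (F : Set G)).Normal := Subgroup.normal_centralizer
  set N := Subgroup.normalClosure ({x} : Set G) with hN
  have hNC : N ≤ Subgroup.centralizer (F : Set G) := by
    apply Subgroup.normalClosure_le_normal
    rw [Set.singleton_subset_iff]
    exact hxF
  have hsol : Group.IsSolvable N := by
    apply Cfsg.Agent.S4037.result x hp.out a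
    rw [← hx, Cfsg.Agent.Lib.Helper22.index_centralizer_eq_ncard_conj]
    congr 1
  have hNF : N ≤ F := ppc_le_fitting_of_centralizes N hsol hNC
  have hxN : x ∈ N := Subgroup.subset_normalClosure (Set.mem_singleton x)
  haveI hNn : N.Normal := Subgroup.normalClosure_normal
  have hgN : g * x * g⁻¹ ∈ N := hNn.conj_mem x hxN g
  have hhN : h * x * h⁻¹ ∈ N := hNn.conj_mem x hxN h
  have h1 := hNC hhN
  rw [Subgroup.mem_centralizer_iff] at h1
  exact h1 _ (hNF hgN)

/-- General case. -/
theorem ppc_main [Finite G] (p : ℕ) [hp : Fact p.Prime] (x : G) (a : ℕ)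
    (hx : (Subgroup.centralizer ({x} : Set G)).index = p ^ a) (g h : G) :
    (g * x * g⁻¹) * (h * x * h⁻¹) * (g * x * g⁻¹)⁻¹ * (h * x * h⁻¹)⁻¹ ∈ Cfsg.pCore p G := by
  haveI hDn : (Cfsg.pCore p G).Normal := pCore_normal p G
  set D := Cfsg.pCore p G with hD
  have hQ : Cfsg.pCore p (G ⧸ D) = ⊥ := by
    rw [Cfsg.Agent.Lib.helper17.pCore_quotient D (pCore_isPGroup p), ← hD]
    exact QuotientGroup.map_mk'_self D
  set π := QuotientGroup.mk' D with hπ
  have hsurj : Function.Surjective π := QuotientGroup.mk'_surjective D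
  have hle : Subgroup.centralizer ({x} : Set G) ≤
      (Subgroup.centralizer ({π x} : Set (G ⧸ D))).comap π := by
    intro c hc
    rw [Subgroup.mem_comap, Subgroup.mem_centralizer_iff]
    intro y hy
    rw [Set.mem_singleton_iff] at hy
    subst hy
    rw [Subgroup.mem_centralizer_iff] at hc
    have := hc x (Set.mem_singleton x)
    rw [← map_mul, ← map_mul, this]
  have hdvd : (Subgroup.centralizer ({π x} : Set (G ⧸ D))).index ∣ p ^ a := by
    rw [← hx, ← Subgroup.index_comap_of_surjective _ hsurj]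
    exact Subgroup.index_dvd_of_le hle
  obtain ⟨b, -, hb⟩ := (Nat.dvd_prime_pow hp.out).mp hdvd
  have hcomm := ppc_comm_of_pCore_eq_bot p (π x) b hb hQ (π g) (π h)
  rw [← QuotientGroup.eq_one_iff]
  have e : ((((g * x * g⁻¹) * (h * x * h⁻¹) * (g * x * g⁻¹)⁻¹ * (h * x * h⁻¹)⁻¹ : G)) : G ⧸ D) =
      (π g * π x * (π g)⁻¹) * (π h * π x * (π h)⁻¹) * (π g * π x * (π g)⁻¹)⁻¹ *
        (π h * π x * (π h)⁻¹)⁻¹ := by
    simp [hπ]
  rw [e, hcomm]
  group

end Cfsg.Agent.Lib.Helper9
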