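import Mathlib
import Cfsg.Agent.Lib.Helper9.QDF19

set_option autoImplicit false

namespace Cfsg.Agent.Lib.Helper9

open Cfsg.Agent.Lib.helper14

namespace QD

section transport

variable {H S : Type*} [Group H] [Group S]

/-- transport the data of a quasi-dihedral group along an isomorphism -/
noncomputable def ofEquiv (e : H ≃* S) (D : QD S) : QD H where
  n := D.n
  hn := D.hn
  card := (Nat.card_congr e.toEquiv).trans D.card
  x := e.symm D.x
  y := e.symm D.y
  hx := by rw [MulEquiv.orderOf_eq]; exact D.hx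
  hy := by rw [MulEquiv.orderOf_eq]; exact D.hy
  hc := by rw [← map_inv, ← map_mul, ← map_mul, D.hc, map_pow]

variable (e : H ≃* S) (D : QD S)

theorem ofEquiv_X (i : ZMod D.N) : (ofEquiv e D).X i = e.symm (D.X i) := by
  have h1 : (ofEquiv e D).X i = (ofEquiv e D).x ^ (ZMod.val (n := (ofEquiv e D).N) i) :=
    zmodPow_eq_pow _ _ _ _
  have h2 : D.X i = D.x ^ i.val := zmodPow_eq_pow _ _ _ _
  rw [h2, map_pow]; exact h1

theorem ofEquiv_Y (i : ZMod D.N) : (ofEquiv e D).Y i = e.symm (D.Y i) := by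
  unfold Y
  rw [map_mul, ← ofEquiv_X]; rfl

theorem ofEquiv_z : (ofEquiv e D).z = e.symm D.z := ofEquiv_X e D D.u

end transport

section quat

variable {S : Type*} [Group S]

theorem exists_Q8 (D : QD S) : ∃ Q : Subgroup S, Nonempty (Q ≃* QuaternionGroup 2) := by
  have hord : orderOf (D.X D.v) = 2 * 2 := D.orderOf_X_v
  have hw : D.Y 1 * D.Y 1 = (D.X D.v) ^ 2 := by
    rw [D.Y_sq, D.X_pow, mul_one]
    congr 1
    have := D.two_v
    push_cast
    exact this.symm
  have hwt : D.Y 1 * D.X D.v * (D.Y 1)⁻¹ = (D.X D.v)⁻¹ := by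
    rw [D.Y_conj_X, ← D.X_neg, D.ρ_mul_v]
  obtain ⟨Q, -, -, -, hQ⟩ := exists_quaternion_subgroup 2 (by norm_num) (D.X D.v) (D.Y 1)
    hord hw hwt
  exact ⟨Q, hQ⟩

end quat

end QD

section fuse

variable {G : Type*} [Group G] [Finite G] (S : Sylow 2 G) (D : QD ↥(S : Subgroup G))

/-- Thompson transfer: if `X v` and `Y 1` are not fused there is a subgroup of index two -/
theorem exists_index_two_of_not_fused_XY
    (hx : ¬ IsConj ((D.X D.v : ↥(S : Subgroup G)) : G) ((D.Y 1 : ↥(S : Subgroup G)) : G)) :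
    ∃ K : Subgroup G, K.index = 2 := by
  classical
  set M : Subgroup G := D.M3.map (S : Subgroup G).subtype with hM_def
  have hMS : M ≤ (S : Subgroup G) := Subgroup.map_subtype_le _
  have hM : M.relIndex (S : Subgroup G) = 2 := by
    rw [hM_def, relIndex_map_subtype_eq]; exact D.index_M3
  have hoY1 : orderOf ((D.Y 1 : ↥(S : Subgroup G)) : G) = 2 ^ 2 := by
    rw [Subgroup.orderOf_coe]; exact D.orderOf_Y_odd D.not_ev_one
  obtain ⟨K, -, hKi, -⟩ := Cfsg.Agent.Lib.Helper19.exists_index_two_of_not_conj_mem S M hMS hM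
    2 (by norm_num)
    (by
      intro y hyS hyM
      have hpos : 0 < orderOf y := orderOf_pos y
      have hne1 : orderOf y ≠ 1 := by
        intro h1
        rw [orderOf_eq_one_iff] at h1
        exact hyM (h1 ▸ M.one_mem)
      have hne2 : orderOf y ≠ 2 := by
        intro h2
        apply hyM
        have h3 : orderOf (⟨y, hyS⟩ : ↥(S : Subgroup G)) = 2 := by
          rw [← Subgroup.orderOf_coe]; exact h2
        refine ⟨⟨y, hyS⟩, ?_, rfl⟩
        rcases (D.orderOf_two_iff _).mp h3 with h4 | ⟨i, hi, h4⟩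
        · rw [h4]; exact D.z_mem_M3
        · rw [h4]; exact (D.Y_mem_M3 i).mpr hi
      simp only [Nat.add_one_sub_one, pow_one]
      omega)
    ((D.Y 1 : ↥(S : Subgroup G)) : G) (D.Y 1).2 hoY1
    (by
      rintro g ⟨m, hm, hmg⟩
      have hmo : orderOf m = 4 := by
        rw [← Subgroup.orderOf_coe]
        show orderOf ((S : Subgroup G).subtype m) = 4
        rw [hmg, orderOf_conj_eq]; exact hoY1
      have hc : IsConj ((D.Y 1 : ↥(S : Subgroup G)) : G) (m : G) := by
        rw [isConj_iff]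
        exact ⟨g, hmg.symm⟩
      rcases (D.orderOf_four_iff _).mp hmo with h1 | h1 | ⟨i, hi, h1⟩
      · apply hx
        rw [h1] at hc
        exact hc.symm
      · apply hx
        rw [h1] at hc
        have h2 : IsConj ((D.X D.v : ↥(S : Subgroup G)) : G)
            ((D.X (-D.v) : ↥(S : Subgroup G)) : G) :=
          isConj_coe (D.isConj_X_neg D.v D.u_mul_v)
        exact h2.trans hc.symm
      · rw [h1] at hm
        exact hi ((D.Y_mem_M3 i).mp hm))
  exact ⟨K, hKi⟩

/-- without subgroups of index two, everything is fused -/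
theorem qd_all_fused (hG : ∀ H : Subgroup G, H.index ≠ 2) :
    IsConj ((D.z : ↥(S : Subgroup G)) : G) ((D.Y 0 : ↥(S : Subgroup G)) : G) ∧
    IsConj ((D.X D.v : ↥(S : Subgroup G)) : G) ((D.Y 1 : ↥(S : Subgroup G)) : G) := by
  have hxY : IsConj ((D.X D.v : ↥(S : Subgroup G)) : G) ((D.Y 1 : ↥(S : Subgroup G)) : G) := by
    by_contra hx
    obtain ⟨K, hK⟩ := exists_index_two_of_not_fused_XY S D hx
    exact hG K hK
  refine ⟨?_, hxY⟩
  by_contra hz
  obtain ⟨K, -, hKi, -⟩ := exists_K_M2 S D hz hxY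
  exact hG K hKi

/-- relative fusion: the fusing element centralizes `z` -/
theorem qd_fused_rel
    (hxY : IsConj ((D.X D.v : ↥(S : Subgroup G)) : G) ((D.Y 1 : ↥(S : Subgroup G)) : G)) :
    ∃ h : G, h * ((D.z : ↥(S : Subgroup G)) : G) * h⁻¹ = ((D.z : ↥(S : Subgroup G)) : G) ∧
      h * ((D.X D.v : ↥(S : Subgroup G)) : G) * h⁻¹ = ((D.Y 1 : ↥(S : Subgroup G)) : G) := by
  classical
  obtain ⟨Q0, ⟨eQ0⟩⟩ := D.exists_Q8
  set Q : Subgroup G := Q0.map (S : Subgroup G).subtype with hQ_def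
  have hQS : Q ≤ (S : Subgroup G) := Subgroup.map_subtype_le _
  have eQ : Q ≃* QuaternionGroup 2 :=
    (Q0.equivMapOfInjective _ (S : Subgroup G).subtype_injective).symm.trans eQ0
  obtain ⟨g, hg⟩ := isConj_iff.mp hxY
  have h6 := quat_index_of_fused S D Q hQS eQ D.not_ev_one hg
  obtain ⟨a, hQ⟩ := qsetup_of_iso (S : Subgroup G) D Q hQS eQ
  obtain ⟨n, hnN, hn⟩ := hQ.index_cases.2.1.mp h6
  set a₀ : G := ((D.X D.v : ↥(S : Subgroup G)) : G) with ha₀
  set b : G := n * a₀ * n⁻¹ with hb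
  have hbQ : b ∈ Q := (Subgroup.mem_normalizer_iff.mp hnN a₀).mp hQ.xv_mem
  have hbS : b ∈ (S : Subgroup G) := hQ.le hbQ
  have hb4 : orderOf (⟨b, hbS⟩ : ↥(S : Subgroup G)) = 4 := by
    rw [← Subgroup.orderOf_coe]
    show orderOf (n * a₀ * n⁻¹) = 4
    rw [orderOf_conj_eq]; exact hQ.orderOf_xv
  have hmap : (Subgroup.zpowers a₀).map (MulAut.conj n).toMonoidHom = Subgroup.zpowers b := by
    rw [map_conj_zpowers]
  have key : ∃ j, ¬ D.Ev j ∧ b = ((D.Y j : ↥(S : Subgroup G)) : G) := by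
    rcases (D.orderOf_four_iff _).mp hb4 with h1 | h1 | ⟨j, hj, h1⟩
    · exfalso
      apply hn
      have : b = a₀ := congrArg Subtype.val h1
      rw [hmap, this]
    · exfalso
      apply hn
      have : b = a₀⁻¹ := by
        have h2 := congrArg (Subtype.val : ↥(S : Subgroup G) → G) h1
        rw [D.X_neg_v] at h2
        exact h2
      rw [hmap, this, Subgroup.zpowers_inv]
    · exact ⟨j, hj, congrArg Subtype.val h1⟩
  obtain ⟨j, hj, hbj⟩ := key
  -- conjugate `Y j` to `Y 1` inside `S`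
  obtain ⟨s, hs⟩ := isConj_iff.mp (D.isConj_Y (D.ev_sub_of_not_ev D.not_ev_one hj))
  have hs' : (s : G) * ((D.Y j : ↥(S : Subgroup G)) : G) * (s : G)⁻¹ =
      ((D.Y 1 : ↥(S : Subgroup G)) : G) := by
    have := congrArg (Subtype.val : ↥(S : Subgroup G) → G) hs
    simpa using this
  have hz_sq : ((D.z : ↥(S : Subgroup G)) : G) = a₀ * a₀ := by
    have h1 : D.z = D.X D.v * D.X D.v := by
      unfold QD.z
      rw [← D.X_add, ← two_mul, D.two_v]
    have := congrArg (Subtype.val : ↥(S : Subgroup G) → G) h1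
    simpa using this
  have hz_sq' : ((D.z : ↥(S : Subgroup G)) : G) = b * b := by
    obtain ⟨k, rfl⟩ := D.odd_form hj
    have h1 := D.Y_sq_odd k
    have := congrArg (Subtype.val : ↥(S : Subgroup G) → G) h1
    rw [hbj]
    simpa using this.symm
  have hnz : n * ((D.z : ↥(S : Subgroup G)) : G) * n⁻¹ = ((D.z : ↥(S : Subgroup G)) : G) := by
    conv_lhs => rw [hz_sq]
    rw [hz_sq', hb]; group
  have hsz : (s : G) * ((D.z : ↥(S : Subgroup G)) : G) =
      ((D.z : ↥(S : Subgroup G)) : G) * (s : G) := by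
    have := congrArg (Subtype.val : ↥(S : Subgroup G) → G) (D.z_central s)
    simpa using this
  refine ⟨(s : G) * n, ?_, ?_⟩
  · calc (s : G) * n * ((D.z : ↥(S : Subgroup G)) : G) * ((s : G) * n)⁻¹
        = (s : G) * (n * ((D.z : ↥(S : Subgroup G)) : G) * n⁻¹) * (s : G)⁻¹ := by group
      _ = (s : G) * ((D.z : ↥(S : Subgroup G)) : G) * (s : G)⁻¹ := by rw [hnz]
      _ = ((D.z : ↥(S : Subgroup G)) : G) := by rw [hsz]; group
  · calc (s : G) * n * a₀ * ((s : G) * n)⁻¹
        = (s : G) * (n * a₀ * n⁻¹) * (s : G)⁻¹ := by group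
      _ = ((D.Y 1 : ↥(S : Subgroup G)) : G) := by rw [← hb, hbj, hs']

end fuse

end Cfsg.Agent.Lib.Helper9
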