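import Mathlib
import Cfsg.Agent.Lib.Helper9.WF5

set_option autoImplicit false

namespace Cfsg.Agent.Lib.Helper9

namespace WD

section internal

variable {S : Type*} [Group S] (D : WD S)

theorem g2_notMem_zpowers_g1 (k l : ZMod D.N) :
    D.B k l ∉ Subgroup.zpowers (D.A D.v (-D.v)) := by
  intro h
  have hle : Subgroup.zpowers (D.A D.v (-D.v)) ≤ D.U := Subgroup.zpowers_le.mpr (D.A_mem_U _ _)
  exact D.B_notMem_U k l (hle h)

theorem card_Q8s [Finite S] (c : ZMod D.N) : Nat.card (D.Q8s c) = 8 := by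
  have hle := D.card_Q8s_le c
  have hz : Subgroup.zpowers (D.A D.v (-D.v)) ≤ D.Q8s c := Subgroup.zpowers_le.mpr (D.g1_mem c)
  have h4 : Nat.card (Subgroup.zpowers (D.A D.v (-D.v))) = 4 := by
    rw [Nat.card_zpowers, D.orderOf_g1]
  have hdvd := Subgroup.card_dvd_of_le hz
  rw [h4] at hdvd
  have hne : Nat.card (D.Q8s c) ≠ 4 := by
    intro h
    have : Subgroup.zpowers (D.A D.v (-D.v)) = D.Q8s c :=
      Subgroup.eq_of_le_of_card_ge hz (by rw [h, h4])
    apply D.g2_notMem_zpowers_g1 c (D.u - c)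
    rw [this]; exact D.g2_mem c
  have hpos : 0 < Nat.card (D.Q8s c) := Nat.card_pos
  obtain ⟨k, hk⟩ := hdvd
  omega

end internal

section WF6

variable {G : Type*} [Group G] {S : Subgroup G} (D : WD ↥S)

/-- the quaternion subgroups, inside `G` -/
noncomputable def Qg (c : ZMod D.N) : Subgroup G := (D.Q8s c).map S.subtype

/-- the centre of `S`, inside `G` -/
noncomputable def Zg (_D : WD ↥S) : Subgroup G := (Subgroup.center ↥S).map S.subtype

/-- the subgroup `V = Q Z(S)` -/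
noncomputable def Vg (c : ZMod D.N) : Subgroup G := D.Qg c ⊔ D.Zg

theorem Qg_le (c : ZMod D.N) : D.Qg c ≤ S := Subgroup.map_subtype_le _

theorem Zg_le : D.Zg ≤ S := Subgroup.map_subtype_le _

theorem Vg_le (c : ZMod D.N) : D.Vg c ≤ S := sup_le (D.Qg_le c) D.Zg_le

theorem coe_mem_Qg_iff (c : ZMod D.N) (a : ↥S) : (a : G) ∈ D.Qg c ↔ a ∈ D.Q8s c := by
  constructor
  · rintro ⟨b, hb, hba⟩
    have : b = a := Subtype.ext hba
    rw [← this]; exact hb
  · intro h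
    exact ⟨a, h, rfl⟩

theorem coe_mem_Zg_iff (a : ↥S) : (a : G) ∈ D.Zg ↔ a ∈ Subgroup.center ↥S := by
  constructor
  · rintro ⟨b, hb, hba⟩
    have : b = a := Subtype.ext hba
    rw [← this]; exact hb
  · intro h
    exact ⟨a, h, rfl⟩

theorem exists_of_mem_Zg {a : G} (ha : a ∈ D.Zg) : ∃ m, a = ((D.A m m : ↥S) : G) := by
  obtain ⟨b, hb, rfl⟩ := ha
  obtain ⟨m, rfl⟩ := (D.mem_center_iff b).mp hb
  exact ⟨m, rfl⟩

theorem AA_mem_Zg (m : ZMod D.N) : ((D.A m m : ↥S) : G) ∈ D.Zg :=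
  (D.coe_mem_Zg_iff _).mpr ((D.mem_center_iff _).mpr ⟨m, rfl⟩)

theorem Zg_comm {a : G} (ha : a ∈ D.Zg) {s : G} (hs : s ∈ S) : a * s = s * a := by
  obtain ⟨b, hb, rfl⟩ := ha
  have h1 := Subgroup.mem_center_iff.mp hb ⟨s, hs⟩
  have h2 := congrArg (Subtype.val : ↥S → G) h1
  simpa using h2.symm

theorem Zg_le_Ug : D.Zg ≤ D.Ug := by
  intro a ha
  obtain ⟨m, rfl⟩ := D.exists_of_mem_Zg ha
  exact D.A_mem_Ug m m

theorem Zg_eq_zpowers : D.Zg = Subgroup.zpowers ((D.A 1 1 : ↥S) : G) := by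
  unfold Zg
  rw [D.center_eq, MonoidHom.map_zpowers]
  rfl

theorem mem_Vg_iff (c : ZMod D.N) {x : G} :
    x ∈ D.Vg c ↔ ∃ q ∈ D.Qg c, ∃ a ∈ D.Zg, x = q * a := by
  unfold Vg
  apply mem_sup_of_commute
  intro q hq a ha
  exact (D.Zg_comm ha (D.Qg_le c hq)).symm

theorem Qg_le_Vg (c : ZMod D.N) : D.Qg c ≤ D.Vg c := le_sup_left

theorem Zg_le_Vg (c : ZMod D.N) : D.Zg ≤ D.Vg c := le_sup_right

theorem card_Qg [Finite G] (c : ZMod D.N) : Nat.card (D.Qg c) = 8 := by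
  unfold Qg
  rw [Subgroup.card_map_of_injective S.subtype_injective]
  exact D.card_Q8s c

theorem card_Zg : Nat.card D.Zg = 2 ^ D.n := by
  unfold Zg
  rw [Subgroup.card_map_of_injective S.subtype_injective]
  exact D.card_center

/-- the generators -/
@[reducible] noncomputable def g1 : G := ((D.A D.v (-D.v) : ↥S) : G)

@[reducible] noncomputable def g2 (c : ZMod D.N) : G := ((D.B c (D.u - c) : ↥S) : G)

@[reducible] noncomputable def g3 (c : ZMod D.N) : G :=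
  ((D.B (c + D.v) (D.u - c - D.v) : ↥S) : G)

@[reducible] noncomputable def zeta : G := ((D.A D.u D.u : ↥S) : G)

theorem g1_mem_Qg (c : ZMod D.N) : D.g1 ∈ D.Qg c := (D.coe_mem_Qg_iff c _).mpr (D.g1_mem c)

theorem g2_mem_Qg (c : ZMod D.N) : D.g2 c ∈ D.Qg c := (D.coe_mem_Qg_iff c _).mpr (D.g2_mem c)

theorem g3_mem_Qg (c : ZMod D.N) : D.g3 c ∈ D.Qg c := (D.coe_mem_Qg_iff c _).mpr (D.g3_mem c)

theorem zeta_mem_Qg (c : ZMod D.N) : D.zeta ∈ D.Qg c :=
  (D.coe_mem_Qg_iff c _).mpr (D.zeta_mem_Q8s c)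

theorem zeta_mem_Zg : D.zeta ∈ D.Zg := D.AA_mem_Zg D.u

theorem orderOf_g1g : orderOf D.g1 = 4 := by
  rw [Subgroup.orderOf_coe]; exact D.orderOf_g1

theorem orderOf_g2g (c : ZMod D.N) : orderOf (D.g2 c) = 4 := by
  rw [Subgroup.orderOf_coe]; exact D.orderOf_B_of_sum (by ring)

theorem orderOf_g3g (c : ZMod D.N) : orderOf (D.g3 c) = 4 := by
  rw [Subgroup.orderOf_coe]; exact D.orderOf_B_of_sum (by ring)

/-- the three cyclic subgroups of order four of `Qg c` -/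
noncomputable def A₁ (c : ZMod D.N) : Cyc4 (D.Qg c) :=
  ⟨Subgroup.zpowers D.g1, Subgroup.zpowers_le.mpr (D.g1_mem_Qg c), _, D.orderOf_g1g, rfl⟩

noncomputable def A₂ (c : ZMod D.N) : Cyc4 (D.Qg c) :=
  ⟨Subgroup.zpowers (D.g2 c), Subgroup.zpowers_le.mpr (D.g2_mem_Qg c), _, D.orderOf_g2g c, rfl⟩

noncomputable def A₃ (c : ZMod D.N) : Cyc4 (D.Qg c) :=
  ⟨Subgroup.zpowers (D.g3 c), Subgroup.zpowers_le.mpr (D.g3_mem_Qg c), _, D.orderOf_g3g c, rfl⟩

theorem zpowers_g1_le_Ug : Subgroup.zpowers D.g1 ≤ D.Ug :=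
  Subgroup.zpowers_le.mpr (D.A_mem_Ug _ _)

theorem A₁_ne_A₂ (c : ZMod D.N) : D.A₁ c ≠ D.A₂ c := by
  intro he
  have h1 : D.g2 c ∈ (D.A₂ c).1 := Subgroup.mem_zpowers _
  rw [← he] at h1
  exact D.B_notMem_Ug _ _ (D.zpowers_g1_le_Ug h1)

theorem A₁_ne_A₃ (c : ZMod D.N) : D.A₁ c ≠ D.A₃ c := by
  intro he
  have h1 : D.g3 c ∈ (D.A₃ c).1 := Subgroup.mem_zpowers _
  rw [← he] at h1
  exact D.B_notMem_Ug _ _ (D.zpowers_g1_le_Ug h1)

theorem g3_notMem_zpowers_g2 (c : ZMod D.N) : D.g3 c ∉ Subgroup.zpowers (D.g2 c) := by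
  intro h1
  rcases mem_zpowers_order_four (D.orderOf_g2g c) h1 (D.orderOf_g3g c) with h | h
  · have h2 : D.B (c + D.v) (D.u - c - D.v) = D.B c (D.u - c) := Subtype.ext h
    have := (D.B_inj h2).1
    apply D.v_ne_zero
    linear_combination this
  · have h2 : D.B (c + D.v) (D.u - c - D.v) = (D.B c (D.u - c))⁻¹ := Subtype.ext (by simpa using h)
    rw [D.g2_inv] at h2
    have := (D.B_inj h2).1
    apply D.two_v_ne
    linear_combination 2 * this + D.two_u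

theorem A₂_ne_A₃ (c : ZMod D.N) : D.A₂ c ≠ D.A₃ c := by
  intro he
  have h1 : D.g3 c ∈ (D.A₃ c).1 := Subgroup.mem_zpowers _
  rw [← he] at h1
  exact D.g3_notMem_zpowers_g2 c h1

theorem cyc4_cases (c : ZMod D.N) (A : Cyc4 (D.Qg c)) : A = D.A₁ c ∨ A = D.A₂ c ∨ A = D.A₃ c := by
  obtain ⟨A', hle, g, hg4, hA'⟩ := A
  subst hA'
  have hgQ : g ∈ D.Qg c := hle (Subgroup.mem_zpowers g)
  have hgS : g ∈ S := D.Qg_le c hgQ
  have hb4 : orderOf (⟨g, hgS⟩ : ↥S) = 4 := by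
    rw [← Subgroup.orderOf_coe]; exact hg4
  have hbQ : (⟨g, hgS⟩ : ↥S) ∈ D.Q8s c := (D.coe_mem_Qg_iff c ⟨g, hgS⟩).mp hgQ
  rcases D.Q8s_order_four c hbQ hb4 with hb | hb | hb | hb | hb | hb
  · left
    apply Subtype.ext
    show Subgroup.zpowers g = Subgroup.zpowers D.g1
    have : g = D.g1 := congrArg Subtype.val hb
    rw [this]
  · left
    apply Subtype.ext
    show Subgroup.zpowers g = Subgroup.zpowers D.g1
    have : g = D.g1⁻¹ := by
      have h1 := congrArg (Subtype.val : ↥S → G) hb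
      simpa using h1
    rw [this, Subgroup.zpowers_inv]
  · right; left
    apply Subtype.ext
    show Subgroup.zpowers g = Subgroup.zpowers (D.g2 c)
    have : g = D.g2 c := congrArg Subtype.val hb
    rw [this]
  · right; left
    apply Subtype.ext
    show Subgroup.zpowers g = Subgroup.zpowers (D.g2 c)
    have : g = (D.g2 c)⁻¹ := by
      have h1 := congrArg (Subtype.val : ↥S → G) hb
      simpa using h1
    rw [this, Subgroup.zpowers_inv]
  · right; right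
    apply Subtype.ext
    show Subgroup.zpowers g = Subgroup.zpowers (D.g3 c)
    have : g = D.g3 c := congrArg Subtype.val hb
    rw [this]
  · right; right
    apply Subtype.ext
    show Subgroup.zpowers g = Subgroup.zpowers (D.g3 c)
    have : g = (D.g3 c)⁻¹ := by
      have h1 := congrArg (Subtype.val : ↥S → G) hb
      simpa using h1
    rw [this, Subgroup.zpowers_inv]

theorem card_cyc4 (c : ZMod D.N) : Nat.card (Cyc4 (D.Qg c)) = 3 := by
  unfold Cyc4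
  exact card_subtype_eq_three' _ (D.A₁ c).1 (D.A₂ c).1 (D.A₃ c).1
    (fun he => D.A₁_ne_A₂ c (Subtype.ext he)) (fun he => D.A₁_ne_A₃ c (Subtype.ext he))
    (fun he => D.A₂_ne_A₃ c (Subtype.ext he)) (D.A₁ c).2 (D.A₂ c).2 (D.A₃ c).2
    (fun d hd => by
      rcases D.cyc4_cases c ⟨d, hd⟩ with h1 | h1 | h1
      · left; exact congrArg Subtype.val h1
      · right; left; exact congrArg Subtype.val h1
      · right; right; exact congrArg Subtype.val h1)

end WF6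

end WD

end Cfsg.Agent.Lib.Helper9
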