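import Mathlib
import Cfsg.Agent.Lib.Helper9.WF6

set_option autoImplicit false

namespace Cfsg.Agent.Lib.Helper9

namespace WD

section internal

variable {S : Type*} [Group S] (D : WD S)

theorem Q8s_sq (c : ZMod D.N) {s : S} (hs : s ∈ D.Q8s c) :
    s ∈ Subgroup.center S ∨ s * s = D.A D.u D.u := by
  rcases hs with ⟨k, hk, rfl⟩ | ⟨k, l, hkl, hk, rfl⟩
  · rcases D.two_mul_eq_zero (2 * k) (by linear_combination hk) with h0 | h0
    · left
      rw [D.mem_center_iff]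
      exact ⟨k, by congr 1; linear_combination -h0⟩
    · right
      rw [D.A_mul_A]; congr 1
      · linear_combination h0
      · linear_combination -h0 - D.two_u
  · right
    exact D.B_sq_of_sum hkl

theorem g2_conj_g1 (c : ZMod D.N) :
    D.B c (D.u - c) * D.A D.v (-D.v) * (D.B c (D.u - c))⁻¹ = (D.A D.v (-D.v))⁻¹ := by
  rw [D.B_conj_A, D.g1_inv]

theorem g1_conj_g2 (c : ZMod D.N) :
    D.A D.v (-D.v) * D.B c (D.u - c) * (D.A D.v (-D.v))⁻¹ = (D.B c (D.u - c))⁻¹ := by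
  rw [D.A_conj_B, D.g2_inv]; congr 1
  · linear_combination D.two_v
  · linear_combination -D.two_v

theorem g3_conj_g1 (c : ZMod D.N) :
    D.B (c + D.v) (D.u - c - D.v) * D.A D.v (-D.v) * (D.B (c + D.v) (D.u - c - D.v))⁻¹ =
      (D.A D.v (-D.v))⁻¹ := by
  rw [D.B_conj_A, D.g1_inv]

theorem g3_conj_g2 (c : ZMod D.N) :
    D.B (c + D.v) (D.u - c - D.v) * D.B c (D.u - c) * (D.B (c + D.v) (D.u - c - D.v))⁻¹ =
      (D.B c (D.u - c))⁻¹ := by
  rw [D.B_conj_B, D.g2_inv]; congr 1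
  · linear_combination D.two_v
  · linear_combination -D.two_v

theorem s0_conj_g1 : D.A D.v 0 * D.A D.v (-D.v) * (D.A D.v 0)⁻¹ = D.A D.v (-D.v) :=
  D.A_conj_A _ _ _ _

theorem s0_conj_g2 (c : ZMod D.N) :
    D.A D.v 0 * D.B c (D.u - c) * (D.A D.v 0)⁻¹ = D.B (c + D.v) (D.u - c - D.v) := by
  rw [D.A_conj_B]; congr 1 <;> ring

theorem s0_conj_mem (c : ZMod D.N) {s : S} (hs : s ∈ D.Q8s c) :
    D.A D.v 0 * s * (D.A D.v 0)⁻¹ ∈ D.Q8s c := by
  rcases hs with ⟨k, hk, rfl⟩ | ⟨k, l, hkl, hk, rfl⟩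
  · rw [D.A_conj_A]; exact (D.A_mem_Q8s _ _ _).mpr ⟨rfl, hk⟩
  · rw [D.A_conj_B, D.B_mem_Q8s]
    exact ⟨by linear_combination hkl, by linear_combination hk + D.four_v⟩

end internal

section WF7

variable {G : Type*} [Group G] {S : Subgroup G} (D : WD ↥S)

theorem coe_eq_of_eq {a b : ↥S} (h : a = b) : (a : G) = (b : G) := congrArg Subtype.val h

theorem mem_Zg_of_commute (c : ZMod D.N) {x : G} (hx : x ∈ S) (h1 : x * D.g1 = D.g1 * x)
    (h2 : x * D.g2 c = D.g2 c * x) : x ∈ D.Zg := by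
  have h1' : (⟨x, hx⟩ : ↥S) * D.A D.v (-D.v) = D.A D.v (-D.v) * ⟨x, hx⟩ := Subtype.ext h1
  have h2' : (⟨x, hx⟩ : ↥S) * D.B c (D.u - c) = D.B c (D.u - c) * ⟨x, hx⟩ := Subtype.ext h2
  exact (D.coe_mem_Zg_iff ⟨x, hx⟩).mpr (D.mem_center_of_commute c h1' h2')

theorem g1_notMem_Zg : D.g1 ∉ D.Zg := fun h =>
  D.g1_notMem_center ((D.coe_mem_Zg_iff _).mp h)

theorem B_notMem_Zg (k l : ZMod D.N) : ((D.B k l : ↥S) : G) ∉ D.Zg := fun h =>
  D.B_notMem_center k l ((D.coe_mem_Zg_iff _).mp h)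

theorem conj_commute_of {n a g : G} (hay : a * (n⁻¹ * g * n) = (n⁻¹ * g * n) * a) :
    (n * a * n⁻¹) * g = g * (n * a * n⁻¹) := by
  calc (n * a * n⁻¹) * g = n * (a * (n⁻¹ * g * n)) * n⁻¹ := by group
    _ = n * ((n⁻¹ * g * n) * a) * n⁻¹ := by rw [hay]
    _ = g * (n * a * n⁻¹) := by group

theorem inv_conj_mem_of_mem_normalizer {H : Subgroup G} {n g : G}
    (hn : n ∈ Subgroup.normalizer (H : Set G)) (hg : g ∈ H) : n⁻¹ * g * n ∈ H := by
  have := (Subgroup.mem_normalizer_iff.mp (Subgroup.inv_mem _ hn) g).mp hg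
  simpa using this

theorem conj_mem_of_mem_normalizer {H : Subgroup G} {n g : G}
    (hn : n ∈ Subgroup.normalizer (H : Set G)) (hg : g ∈ H) : n * g * n⁻¹ ∈ H :=
  (Subgroup.mem_normalizer_iff.mp hn g).mp hg

theorem normalizer_Vg_le_Zg [Finite G] (c : ZMod D.N) :
    Subgroup.normalizer (D.Vg c : Set G) ≤ Subgroup.normalizer (D.Zg : Set G) := by
  intro n hn
  apply mem_normalizer_of_conj_mem'
  intro a ha
  have hxV : n * a * n⁻¹ ∈ D.Vg c := conj_mem_of_mem_normalizer hn (D.Zg_le_Vg c ha)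
  apply D.mem_Zg_of_commute c (D.Vg_le c hxV)
  · apply conj_commute_of
    have hy : n⁻¹ * D.g1 * n ∈ D.Vg c :=
      inv_conj_mem_of_mem_normalizer hn (D.Qg_le_Vg c (D.g1_mem_Qg c))
    exact D.Zg_comm ha (D.Vg_le c hy)
  · apply conj_commute_of
    have hy : n⁻¹ * D.g2 c * n ∈ D.Vg c :=
      inv_conj_mem_of_mem_normalizer hn (D.Qg_le_Vg c (D.g2_mem_Qg c))
    exact D.Zg_comm ha (D.Vg_le c hy)

end WF7

section WF7s

variable {G : Type*} [Group G] [Finite G] (S : Sylow 2 G) (D : WD ↥(S : Subgroup G))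

theorem normalizer_Zg_le :
    Subgroup.normalizer (D.Zg : Set G) ≤ Subgroup.centralizer (D.Zg : Set G) := by
  intro u hu
  have hSN : (S : Subgroup G) ≤ Subgroup.normalizer (D.Zg : Set G) := by
    intro s hs
    apply mem_normalizer_of_conj_mem'
    intro a ha
    have h1 := D.Zg_comm ha hs
    have : s * a * s⁻¹ = a := by rw [← h1]; group
    rw [this]; exact ha
  obtain ⟨s, hs, hsx⟩ := cyc_control S D.Zg (by rw [D.Zg_eq_zpowers]; infer_instance)
    D.Zg_le hSN hu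
  rw [Subgroup.mem_centralizer_iff]
  intro a ha
  have h1 := hsx a ha
  have h2 := D.Zg_comm ha hs
  have h3 : s * a * s⁻¹ = a := by rw [← h2]; group
  rw [h3] at h1
  calc a * u = (u * a * u⁻¹) * u := by rw [h1]
    _ = u * a := by group

theorem normalizer_Vg_centralizes (c : ZMod D.N) {n : G}
    (hn : n ∈ Subgroup.normalizer (D.Vg c : Set G)) {a : G} (ha : a ∈ D.Zg) :
    n * a * n⁻¹ = a := by
  have h1 := normalizer_Zg_le S D (D.normalizer_Vg_le_Zg c hn)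
  have h2 := Subgroup.mem_centralizer_iff.mp h1 a ha
  rw [← h2]; group

theorem normalizer_Vg_le_Qg (c : ZMod D.N) :
    Subgroup.normalizer (D.Vg c : Set G) ≤ Subgroup.normalizer (D.Qg c : Set G) := by
  intro n hn
  apply mem_normalizer_of_conj_mem'
  intro q hq
  by_cases hqZ : q ∈ D.Zg
  · rw [normalizer_Vg_centralizes S D c hn hqZ]; exact hq
  · have hxV : n * q * n⁻¹ ∈ D.Vg c := conj_mem_of_mem_normalizer hn (D.Qg_le_Vg c hq)
    have hxZ : n * q * n⁻¹ ∉ D.Zg := by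
      intro h
      apply hqZ
      have := inv_conj_mem_of_mem_normalizer (D.normalizer_Vg_le_Zg c hn) h
      have e : n⁻¹ * (n * q * n⁻¹) * n = q := by group
      rwa [e] at this
    have hqq : q * q = D.zeta := by
      obtain ⟨s, hs, rfl⟩ := hq
      rcases D.Q8s_sq c hs with h | h
      · exact absurd ((D.coe_mem_Zg_iff s).mpr h) hqZ
      · exact coe_eq_of_eq h
    have hxx : (n * q * n⁻¹) * (n * q * n⁻¹) = D.zeta := by
      have e : (n * q * n⁻¹) * (n * q * n⁻¹) = n * (q * q) * n⁻¹ := by group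
      rw [e, hqq]
      exact normalizer_Vg_centralizes S D c hn D.zeta_mem_Zg
    obtain ⟨q', hq', a, ha, hx⟩ := (D.mem_Vg_iff c).mp hxV
    obtain ⟨s', hs', rfl⟩ := hq'
    obtain ⟨m, rfl⟩ := D.exists_of_mem_Zg ha
    rw [hx] at hxx hxZ ⊢
    have h1 : (s' * D.A m m) * (s' * D.A m m) = D.A D.u D.u := Subtype.ext hxx
    have h2 : s' * D.A m m ∉ Subgroup.center ↥(S : Subgroup G) := fun h =>
      hxZ ((D.coe_mem_Zg_iff _).mpr h)
    exact (D.coe_mem_Qg_iff c _).mpr (D.mem_Q8s_of_sq c hs' m h1 h2)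

theorem Vg_sup_le_fix (c : ZMod D.N) (A : Cyc4 (D.Qg c)) :
    D.Vg c ⊔ Subgroup.centralizer (D.Vg c : Set G) ≤ Subgroup.normalizer (A.1 : Set G) := by
  apply sup_le
  · apply sup_le
    · intro q hq
      exact Subgroup.mem_normalizer_iff_map_conj_eq.mpr (cyc4_fix_of_mem (D.card_Qg c) hq A)
    · intro a ha
      apply Subgroup.mem_normalizer_iff_map_conj_eq.mpr
      apply cyc4_fix_of_commute _ A
      intro x hx
      exact D.Zg_comm ha (D.Qg_le c hx)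
  · intro z hz
    apply Subgroup.mem_normalizer_iff_map_conj_eq.mpr
    apply cyc4_fix_of_commute _ A
    intro x hx
    exact (Subgroup.mem_centralizer_iff.mp hz x (D.Qg_le_Vg c hx)).symm

theorem mem_centralizer_Qg_of_commute (c : ZMod D.N) {z : G} (h1 : z * D.g1 = D.g1 * z)
    (h2 : z * D.g2 c = D.g2 c * z) : ∀ q ∈ D.Qg c, q * z = z * q := by
  intro q hq
  obtain ⟨s, hs, rfl⟩ := hq
  have hcl := D.Q8s_le_closure c hs
  have hmap : ((s : ↥(S : Subgroup G)) : G) ∈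
      (Subgroup.closure {D.A D.v (-D.v), D.B c (D.u - c)}).map (S : Subgroup G).subtype :=
    ⟨s, hcl, rfl⟩
  rw [MonoidHom.map_closure] at hmap
  have hle : Subgroup.closure ((S : Subgroup G).subtype '' {D.A D.v (-D.v), D.B c (D.u - c)}) ≤
      Subgroup.centralizer ({z} : Set G) := by
    rw [Subgroup.closure_le]
    rintro _ ⟨y, hy, rfl⟩
    rw [SetLike.mem_coe, Subgroup.mem_centralizer_singleton_iff]
    rcases hy with rfl | rfl
    · exact h1.symm
    · exact h2.symm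
  have := hle hmap
  rw [Subgroup.mem_centralizer_singleton_iff] at this
  exact this

theorem mem_Vg_sup_of_fix (c : ZMod D.N) {n : G} (hn : n ∈ Subgroup.normalizer (D.Vg c : Set G))
    (h1 : (D.A₁ c).1.map (MulAut.conj n).toMonoidHom = (D.A₁ c).1)
    (h2 : (D.A₂ c).1.map (MulAut.conj n).toMonoidHom = (D.A₂ c).1) :
    n ∈ D.Vg c ⊔ Subgroup.centralizer (D.Vg c : Set G) := by
  have hx := conj_mem_of_map_eq' h1 (Subgroup.mem_zpowers D.g1)
  have hy := conj_mem_of_map_eq' h2 (Subgroup.mem_zpowers (D.g2 c))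
  have hx' := mem_zpowers_order_four D.orderOf_g1g hx (by rw [orderOf_conj_eq]; exact D.orderOf_g1g)
  have hy' := mem_zpowers_order_four (D.orderOf_g2g c) hy
    (by rw [orderOf_conj_eq]; exact D.orderOf_g2g c)
  have e21 : D.g2 c * D.g1 * (D.g2 c)⁻¹ = D.g1⁻¹ := by
    have := coe_eq_of_eq (D.g2_conj_g1 c); simpa using this
  have e12 : D.g1 * D.g2 c * D.g1⁻¹ = (D.g2 c)⁻¹ := by
    have := coe_eq_of_eq (D.g1_conj_g2 c); simpa using this
  have e31 : D.g3 c * D.g1 * (D.g3 c)⁻¹ = D.g1⁻¹ := by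
    have := coe_eq_of_eq (D.g3_conj_g1 c); simpa using this
  have e32 : D.g3 c * D.g2 c * (D.g3 c)⁻¹ = (D.g2 c)⁻¹ := by
    have := coe_eq_of_eq (D.g3_conj_g2 c); simpa using this
  have e11 : D.g1 * D.g1 * D.g1⁻¹ = D.g1 := by group
  have e22 : D.g2 c * D.g2 c * (D.g2 c)⁻¹ = D.g2 c := by group
  obtain ⟨q, hqQ, hq1, hq2⟩ : ∃ q ∈ D.Qg c, q * D.g1 * q⁻¹ = n * D.g1 * n⁻¹ ∧
      q * D.g2 c * q⁻¹ = n * D.g2 c * n⁻¹ := by
    rcases hx' with hh | hh <;> rcases hy' with hh' | hh'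
    · exact ⟨1, Subgroup.one_mem _, by rw [hh]; group, by rw [hh']; group⟩
    · exact ⟨D.g1, D.g1_mem_Qg c, by rw [hh, e11], by rw [hh', e12]⟩
    · exact ⟨D.g2 c, D.g2_mem_Qg c, by rw [hh, e21], by rw [hh', e22]⟩
    · exact ⟨D.g3 c, D.g3_mem_Qg c, by rw [hh, e31], by rw [hh', e32]⟩
  have hqV : q ∈ D.Vg c := D.Qg_le_Vg c hqQ
  have hzN : q⁻¹ * n ∈ Subgroup.normalizer (D.Vg c : Set G) :=
    Subgroup.mul_mem _ (Subgroup.inv_mem _ (Subgroup.le_normalizer hqV)) hn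
  have hc1 : q⁻¹ * n * D.g1 = D.g1 * (q⁻¹ * n) := by
    have e : q⁻¹ * n * D.g1 = q⁻¹ * (n * D.g1 * n⁻¹) * n := by group
    rw [e, ← hq1]; group
  have hc2 : q⁻¹ * n * D.g2 c = D.g2 c * (q⁻¹ * n) := by
    have e : q⁻¹ * n * D.g2 c = q⁻¹ * (n * D.g2 c * n⁻¹) * n := by group
    rw [e, ← hq2]; group
  have hcQ := mem_centralizer_Qg_of_commute S D c hc1 hc2
  have hcZ : q⁻¹ * n ∈ Subgroup.centralizer (D.Zg : Set G) :=
    normalizer_Zg_le S D (D.normalizer_Vg_le_Zg c hzN)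
  have hc : q⁻¹ * n ∈ Subgroup.centralizer (D.Vg c : Set G) := by
    rw [Subgroup.mem_centralizer_iff]
    intro x hx
    obtain ⟨q', hq', a, ha, rfl⟩ := (D.mem_Vg_iff c).mp hx
    have h3 := hcQ q' hq'
    have h4 := Subgroup.mem_centralizer_iff.mp hcZ a ha
    calc q' * a * (q⁻¹ * n) = q' * (a * (q⁻¹ * n)) := by group
      _ = q' * ((q⁻¹ * n) * a) := by rw [h4]
      _ = (q' * (q⁻¹ * n)) * a := by group
      _ = ((q⁻¹ * n) * q') * a := by rw [h3]
      _ = q⁻¹ * n * (q' * a) := by group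
  have e : n = q * (q⁻¹ * n) := by group
  rw [e]
  exact Subgroup.mul_mem _ (Subgroup.mem_sup_left hqV) (Subgroup.mem_sup_right hc)

theorem Vg_ker_eq (c : ZMod D.N) :
    (letI := conjActSubOf (D.Qg c) (Subgroup.normalizer (D.Vg c : Set G))
        (normalizer_Vg_le_Qg S D c);
    (D.Vg c ⊔ Subgroup.centralizer (D.Vg c : Set G)).subgroupOf
        (Subgroup.normalizer (D.Vg c : Set G)) =
      (MulAction.toPermHom ↥(Subgroup.normalizer (D.Vg c : Set G)) (Cyc4 (D.Qg c))).ker) := by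
  letI := conjActSubOf (D.Qg c) (Subgroup.normalizer (D.Vg c : Set G))
    (normalizer_Vg_le_Qg S D c)
  ext n
  rw [conjActSubOf_mem_ker, Subgroup.mem_subgroupOf]
  constructor
  · intro hn A
    exact Subgroup.mem_normalizer_iff_map_conj_eq.mp (Vg_sup_le_fix S D c A hn)
  · intro hA
    exact mem_Vg_sup_of_fix S D c n.2 (hA (D.A₁ c)) (hA (D.A₂ c))

end WF7s

end WD

end Cfsg.Agent.Lib.Helper9
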