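import Mathlib
import Cfsg.Agent.Lib.Helper9.WF7

set_option autoImplicit false

namespace Cfsg.Agent.Lib.Helper9

namespace WD

section WF8

variable {G : Type*} [Group G] {S : Subgroup G} (D : WD ↥S)

@[reducible] noncomputable def s0 : G := ((D.A D.v 0 : ↥S) : G)

theorem s0_mem : D.s0 ∈ S := (D.A D.v 0).2

theorem s0_conj_g1g : D.s0 * D.g1 * D.s0⁻¹ = D.g1 := by
  have := coe_eq_of_eq D.s0_conj_g1; simpa using this

theorem s0_conj_g2g (c : ZMod D.N) : D.s0 * D.g2 c * D.s0⁻¹ = D.g3 c := by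
  have := coe_eq_of_eq (D.s0_conj_g2 c); simpa using this

theorem s0_conj_mem_Qg (c : ZMod D.N) {q : G} (hq : q ∈ D.Qg c) : D.s0 * q * D.s0⁻¹ ∈ D.Qg c := by
  obtain ⟨s, hs, rfl⟩ := hq
  have h1 := (D.coe_mem_Qg_iff c _).mpr (D.s0_conj_mem c hs)
  simpa using h1

theorem s0_mem_normalizer [Finite G] (c : ZMod D.N) :
    D.s0 ∈ Subgroup.normalizer (D.Vg c : Set G) := by
  apply mem_normalizer_of_conj_mem'
  intro x hx
  obtain ⟨q, hq, a, ha, rfl⟩ := (D.mem_Vg_iff c).mp hx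
  have h1 := D.Zg_comm ha D.s0_mem
  have h2 : a * D.s0⁻¹ = D.s0⁻¹ * a := by
    calc a * D.s0⁻¹ = D.s0⁻¹ * (D.s0 * a) * D.s0⁻¹ := by group
      _ = D.s0⁻¹ * (a * D.s0) * D.s0⁻¹ := by rw [h1]
      _ = D.s0⁻¹ * a := by group
  have e : D.s0 * (q * a) * D.s0⁻¹ = (D.s0 * q * D.s0⁻¹) * a := by
    calc D.s0 * (q * a) * D.s0⁻¹ = D.s0 * q * (a * D.s0⁻¹) := by group
      _ = D.s0 * q * (D.s0⁻¹ * a) := by rw [h2]
      _ = (D.s0 * q * D.s0⁻¹) * a := by group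
  rw [e]
  exact (D.mem_Vg_iff c).mpr ⟨_, D.s0_conj_mem_Qg c hq, a, ha, rfl⟩

theorem s0_fix_A₁ (c : ZMod D.N) :
    (D.A₁ c).1.map (MulAut.conj D.s0).toMonoidHom = (D.A₁ c).1 := by
  show (Subgroup.zpowers D.g1).map _ = Subgroup.zpowers D.g1
  rw [map_conj_zpowers, D.s0_conj_g1g]

theorem s0_move_A₂ (c : ZMod D.N) :
    (D.A₂ c).1.map (MulAut.conj D.s0).toMonoidHom ≠ (D.A₂ c).1 := by
  intro hc
  have h0 := conj_mem_of_map_eq' hc (Subgroup.mem_zpowers (D.g2 c))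
  rw [D.s0_conj_g2g] at h0
  exact D.g3_notMem_zpowers_g2 c h0

end WF8

section WF8s

variable {G : Type*} [Group G] [Finite G] (S : Sylow 2 G) (D : WD ↥(S : Subgroup G))

/-- the action of `N_G(V)` on the three cyclic subgroups of order four of `Q` -/
theorem V_index (c : ZMod D.N) :
    ((D.Vg c ⊔ Subgroup.centralizer (D.Vg c : Set G)).relIndex
        (Subgroup.normalizer (D.Vg c : Set G)) = 2 ∨
      (D.Vg c ⊔ Subgroup.centralizer (D.Vg c : Set G)).relIndex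
        (Subgroup.normalizer (D.Vg c : Set G)) = 6) ∧
    ((D.Vg c ⊔ Subgroup.centralizer (D.Vg c : Set G)).relIndex
        (Subgroup.normalizer (D.Vg c : Set G)) = 6 ↔
      ∃ n ∈ Subgroup.normalizer (D.Vg c : Set G),
        (Subgroup.zpowers D.g1).map (MulAut.conj n).toMonoidHom ≠ Subgroup.zpowers D.g1) ∧
    ((D.Vg c ⊔ Subgroup.centralizer (D.Vg c : Set G)).relIndex
        (Subgroup.normalizer (D.Vg c : Set G)) = 6 →
      ∃ n ∈ Subgroup.normalizer (D.Vg c : Set G),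
        (Subgroup.zpowers D.g1).map (MulAut.conj n).toMonoidHom = Subgroup.zpowers (D.g2 c)) ∧
    ((D.Vg c ⊔ Subgroup.centralizer (D.Vg c : Set G)).relIndex
        (Subgroup.normalizer (D.Vg c : Set G)) = 6 →
      ∃ ν ∈ Subgroup.normalizer (D.Vg c : Set G), Odd (orderOf ν) ∧
        ∀ A : Cyc4 (D.Qg c), A.1.map (MulAut.conj ν).toMonoidHom ≠ A.1) := by
  classical
  letI := conjActSubOf (D.Qg c) (Subgroup.normalizer (D.Vg c : Set G))
    (normalizer_Vg_le_Qg S D c)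
  have h3 := three_point_action (N := ↥(Subgroup.normalizer (D.Vg c : Set G)))
    (X := Cyc4 (D.Qg c)) (D.card_cyc4 c)
    ((D.Vg c ⊔ Subgroup.centralizer (D.Vg c : Set G)).subgroupOf
      (Subgroup.normalizer (D.Vg c : Set G)))
    (Vg_ker_eq S D c) ⟨D.s0, D.s0_mem_normalizer c⟩ (D.A₁ c)
    (Subtype.ext (D.s0_fix_A₁ c))
    (by
      rw [Subgroup.mem_subgroupOf]
      intro hc
      exact D.s0_move_A₂ c
        (Subgroup.mem_normalizer_iff_map_conj_eq.mp (Vg_sup_le_fix S D c (D.A₂ c) hc)))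
  obtain ⟨h3a, h3b, h3c⟩ := h3
  refine ⟨h3a, ?_, ?_, ?_⟩
  · constructor
    · intro h6
      obtain ⟨n, hn⟩ := h3b.mp h6
      refine ⟨n.1, n.2, ?_⟩
      intro hc
      apply hn
      exact Subtype.ext hc
    · rintro ⟨n, hnN, hn⟩
      apply h3b.mpr
      refine ⟨⟨n, hnN⟩, ?_⟩
      intro hc
      apply hn
      exact congrArg Subtype.val hc
  · intro h6
    obtain ⟨n, hn⟩ := h3c h6 (D.A₁ c) (D.A₂ c)
    exact ⟨n.1, n.2, congrArg Subtype.val hn⟩
  · intro h6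
    obtain ⟨ν, hν, hmove⟩ := three_point_odd_mover
      (N := ↥(Subgroup.normalizer (D.Vg c : Set G))) (X := Cyc4 (D.Qg c)) (D.card_cyc4 c)
      ((D.Vg c ⊔ Subgroup.centralizer (D.Vg c : Set G)).subgroupOf
        (Subgroup.normalizer (D.Vg c : Set G)))
      (Vg_ker_eq S D c) h6
    refine ⟨(ν : G), ν.2, ?_, ?_⟩
    · rw [Subgroup.orderOf_coe]; exact hν
    · intro A hc
      exact hmove A (Subtype.ext hc)

end WF8s

end WD

end Cfsg.Agent.Lib.Helper9
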