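import Mathlib
import Cfsg.Agent.Lib.Helper9.WF8

set_option autoImplicit false

namespace Cfsg.Agent.Lib.Helper9

namespace WD

section WF9

variable {G : Type*} [Group G] {S : Subgroup G} (D : WD ↥S)

theorem Ug_unique [Finite G] (U : Subgroup G) (hUS : U ≤ S)
    (hc : ∀ a ∈ U, ∀ b ∈ U, a * b = b * a) (hcard : Nat.card U = 2 ^ (2 * D.n)) : U = D.Ug := by
  have h1 : U.subgroupOf S = D.U := by
    apply D.abelian_unique
    · intro a ha b hb
      rw [Subgroup.mem_subgroupOf] at ha hb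
      exact Subtype.ext (hc _ ha _ hb)
    · rw [Nat.card_congr (Subgroup.subgroupOfEquivOfLe hUS).toEquiv]; exact hcard
  unfold Ug
  rw [← h1, Subgroup.map_subgroupOf_eq_of_le hUS]

theorem Qg_of_iso [Finite G] (Q : Subgroup G) (hQS : Q ≤ S) (eQ : Q ≃* QuaternionGroup 2) :
    ∃ c, Q = D.Qg c := by
  have e' : Q.subgroupOf S ≃* QuaternionGroup 2 := (Subgroup.subgroupOfEquivOfLe hQS).trans eQ
  obtain ⟨c, hc⟩ := D.q8_classify (Q.subgroupOf S) e'
  refine ⟨c, ?_⟩
  unfold Qg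
  rw [← hc, Subgroup.map_subgroupOf_eq_of_le hQS]

theorem comm_of_isMulCommutative {U : Subgroup G} (h : IsMulCommutative U) :
    ∀ a ∈ U, ∀ b ∈ U, a * b = b * a := by
  intro a ha b hb
  exact congrArg Subtype.val (mul_comm' (⟨a, ha⟩ : U) ⟨b, hb⟩)

theorem n_eq {n : ℕ} (hn : Nat.card ↥S = 2 ^ (2 * n + 1)) : n = D.n := by
  have h1 := D.card
  rw [hn] at h1
  have h2 := Nat.pow_right_injective (le_refl 2) h1
  omega

end WF9

end WD

end Cfsg.Agent.Lib.Helper9
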