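import Mathlib
import Cfsg.Agent.Lib.Helper9.WF9

set_option autoImplicit false

namespace Cfsg.Agent.Lib.Helper9

theorem two_sub_juggle {G : Type*} [Group G] [Finite G] {p : ℕ} [Fact p.Prime] (S : Sylow p G)
    (H P₁ P₂ : Subgroup G) (hP₁ : IsPGroup p P₁) (hP₂ : IsPGroup p P₂) (h1 : P₁ ≤ H)
    (h2 : P₂ ≤ H) :
    ∃ k : G, ∃ m ∈ H, (∀ x ∈ P₁, k * x * k⁻¹ ∈ (S : Subgroup G)) ∧
      (∀ y ∈ P₂, k * (m * y * m⁻¹) * k⁻¹ ∈ (S : Subgroup G)) := by
  have hP₁' : IsPGroup p (P₁.subgroupOf H) :=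
    hP₁.comap_of_injective H.subtype H.subtype_injective
  have hP₂' : IsPGroup p (P₂.subgroupOf H) :=
    hP₂.comap_of_injective H.subtype H.subtype_injective
  obtain ⟨R, hR⟩ := hP₁'.exists_le_sylow
  obtain ⟨R₂, hR₂⟩ := hP₂'.exists_le_sylow
  obtain ⟨m, hm⟩ := sylow_conj R R₂
  have hRp : IsPGroup p ((R : Subgroup ↥H).map H.subtype) := R.2.map _
  obtain ⟨S', hS'⟩ := hRp.exists_le_sylow
  obtain ⟨k, hk⟩ := sylow_conj S S'
  refine ⟨k, m, m.2, ?_, ?_⟩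
  · intro x hx
    have hx1 : (⟨x, h1 hx⟩ : ↥H) ∈ (R : Subgroup ↥H) :=
      hR (by rw [Subgroup.mem_subgroupOf]; exact hx)
    have hx2 : x ∈ (S' : Subgroup G) := hS' ⟨⟨x, h1 hx⟩, hx1, rfl⟩
    exact (hk x).mp hx2
  · intro y hy
    have hy1 : (⟨y, h2 hy⟩ : ↥H) ∈ (R₂ : Subgroup ↥H) :=
      hR₂ (by rw [Subgroup.mem_subgroupOf]; exact hy)
    have hy2 := (hm _).mp hy1
    have hy3 : (m : G) * y * (m : G)⁻¹ ∈ (S' : Subgroup G) :=
      hS' ⟨_, hy2, by simp⟩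
    exact (hk _).mp hy3

namespace WD

section internal

variable {S : Type*} [Group S] (D : WD S)

theorem s0_conj_of_rel {i j k l : ZMod D.N}
    (h1 : D.B k l * D.A i j * (D.B k l)⁻¹ = (D.A i j)⁻¹)
    (h2 : D.B k l * D.B k l = D.A i j * D.A i j) (h3 : D.A i j * D.A i j ≠ 1) :
    D.A D.v 0 * D.B k l * (D.A D.v 0)⁻¹ = D.A i j * D.B k l ∨
      D.A D.v 0 * D.B k l * (D.A D.v 0)⁻¹ = (D.A i j)⁻¹ * D.B k l := by
  rw [D.B_conj_A, D.A_inv] at h1
  obtain ⟨hj, -⟩ := D.A_inj h1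
  subst hj
  rw [D.B_mul_B, D.A_mul_A] at h2
  obtain ⟨h4, h5⟩ := D.A_inj h2
  have h4i : 4 * i = 0 := by linear_combination h5 - h4
  rw [D.A_conj_B, D.A_inv, D.A_mul_B, D.A_mul_B]
  rcases D.four_mul_eq_zero i h4i with rfl | rfl | rfl | rfl
  · exfalso; apply h3
    rw [D.A_mul_A]
    simp [D.A_zero]
  · left; congr 1 <;> ring
  · exfalso; apply h3
    rw [D.A_mul_A]
    have e1 : D.u + D.u = 0 := by linear_combination D.two_u
    have e2 : -D.u + -D.u = 0 := by linear_combination -D.two_u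
    rw [e1, e2, D.A_zero]
  · right; congr 1 <;> ring

theorem t_eq : D.A D.v (-D.v) * D.A D.v D.v = D.A D.u 0 := by
  rw [D.A_mul_A]; congr 1
  · linear_combination D.two_v
  · ring

theorem g2_mul_a (c : ZMod D.N) :
    D.B c (D.u - c) * D.A D.v D.v = D.B (c + D.v) (-(c + D.v)) := by
  rw [D.B_mul_A]; congr 1
  linear_combination D.two_v + D.two_u

theorem g2_inv_mul_a (c : ZMod D.N) :
    (D.B c (D.u - c))⁻¹ * D.A D.v D.v = D.B (c + D.u + D.v) (-(c + D.u + D.v)) := by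
  rw [D.g2_inv, D.B_mul_A]; congr 1
  linear_combination D.two_v + D.two_u

theorem a_sq : D.A D.v D.v * D.A D.v D.v = D.A D.u D.u := by
  rw [D.A_mul_A]; congr 1 <;> linear_combination D.two_v

theorem t_ne_zeta : D.A D.u 0 ≠ D.A D.u D.u := by
  intro h
  exact D.u_ne_zero (D.A_inj h).2.symm

theorem orderOf_zeta : orderOf (D.A D.u D.u) = 2 :=
  (D.orderOf_two_iff _).mpr (Or.inl rfl)

theorem orderOf_t : orderOf (D.A D.u 0) = 2 :=
  (D.orderOf_two_iff _).mpr (Or.inr (Or.inl rfl))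

theorem orderOf_Binv (k : ZMod D.N) : orderOf (D.B k (-k)) = 2 :=
  (D.orderOf_two_iff _).mpr (Or.inr (Or.inr (Or.inr ⟨k, rfl⟩)))

end internal

section WF10

variable {G : Type*} [Group G] {S : Subgroup G} (D : WD ↥S)

@[reducible] noncomputable def tt : G := ((D.A D.u 0 : ↥S) : G)

@[reducible] noncomputable def tt' : G := ((D.A 0 D.u : ↥S) : G)

@[reducible] noncomputable def zz : G := ((D.B 0 0 : ↥S) : G)

/-- an element of `S` commuting with `A 0 u` lies in `Ug` -/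
theorem mem_Ug_of_commute' {s : G} (hs : s ∈ S) (hc : s * D.tt' * s⁻¹ = D.tt') : s ∈ D.Ug := by
  rcases D.cases ⟨s, hs⟩ with ⟨i, j, h⟩ | ⟨i, j, h⟩
  · have : s = ((D.A i j : ↥S) : G) := congrArg Subtype.val h
    rw [this]; exact D.A_mem_Ug i j
  · exfalso
    have hs' : s = ((D.B i j : ↥S) : G) := congrArg Subtype.val h
    have h1 : D.B i j * D.A 0 D.u * (D.B i j)⁻¹ = D.A D.u 0 := D.B_conj_A _ _ _ _
    have h2 := congrArg (Subtype.val : ↥S → G) h1
    have h3 : s * D.tt' * s⁻¹ = D.tt := by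
      rw [hs']; simpa using h2
    rw [hc] at h3
    have h4 : D.A 0 D.u = D.A D.u 0 := Subtype.ext h3
    exact D.u_ne_zero (D.A_inj h4).1.symm

theorem isConj_tt_tt' : IsConj D.tt D.tt' := isConj_coe (D.isConj_A_swap D.u 0)

theorem isConj_zz_B (k : ZMod D.N) : IsConj D.zz ((D.B k (-k) : ↥S) : G) :=
  isConj_coe (D.isConj_B_z k)

theorem tt_ne_zeta : D.tt ≠ D.zeta := fun h => D.t_ne_zeta (Subtype.ext h)

theorem zeta_sq_g : D.zeta * D.zeta = 1 := by
  have := coe_eq_of_eq D.zeta_sq; simpa using this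

theorem zeta_ne_one_g : D.zeta ≠ 1 := fun h => D.zeta_ne_one (Subtype.ext h)

theorem orderOf_zeta_g : orderOf D.zeta = 2 := by
  rw [Subgroup.orderOf_coe]; exact D.orderOf_zeta

/-- involutions of `Ug` -/
theorem involution_Ug_cases {a : G} (ha : a ∈ D.Ug) (ho : orderOf a = 2) :
    a = D.zeta ∨ a = D.tt ∨ a = D.tt' := by
  obtain ⟨i, j, rfl⟩ := D.exists_of_mem_Ug ha
  rw [Subgroup.orderOf_coe] at ho
  rcases (D.orderOf_two_iff _).mp ho with h | h | h | ⟨k, h⟩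
  · left; exact coe_eq_of_eq h
  · right; left; exact coe_eq_of_eq h
  · right; right; exact coe_eq_of_eq h
  · exact absurd h.symm (D.B_ne_A _ _ _ _)

/-- involutions of `S` which are squares in `S` -/
theorem sq_involution_g {a b : G} (hb : b ∈ S) (ho : orderOf a = 2) (hab : a = b * b) :
    a = D.zeta ∨ a = D.tt ∨ a = D.tt' := by
  have haS : a ∈ S := by rw [hab]; exact S.mul_mem hb hb
  have ho' : orderOf (⟨a, haS⟩ : ↥S) = 2 := by rw [← Subgroup.orderOf_coe]; exact ho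
  have hab' : (⟨a, haS⟩ : ↥S) = ⟨b, hb⟩ * ⟨b, hb⟩ := Subtype.ext hab
  rcases D.sq_involution _ _ ho' hab' with h | h | h
  · left; exact coe_eq_of_eq h
  · right; left; exact coe_eq_of_eq h
  · right; right; exact coe_eq_of_eq h

end WF10

section WF10s

variable {G : Type*} [Group G] [Finite G] (S : Sylow 2 G) (D : WD ↥(S : Subgroup G))

theorem map_conj_Ug_eq {w : G} (hw : ∀ a ∈ D.Ug, w * a * w⁻¹ ∈ (S : Subgroup G)) :
    D.Ug.map (MulAut.conj w).toMonoidHom = D.Ug := by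
  apply D.Ug_unique
  · rintro _ ⟨a, ha, rfl⟩
    exact hw a ha
  · rintro _ ⟨a, ha, rfl⟩ _ ⟨b, hb, rfl⟩
    have := D.Ug_comm a ha b hb
    simp only [MulEquiv.coe_toMonoidHom, MulAut.conj_apply]
    calc w * a * w⁻¹ * (w * b * w⁻¹) = w * (a * b) * w⁻¹ := by group
      _ = w * (b * a) * w⁻¹ := by rw [this]
      _ = w * b * w⁻¹ * (w * a * w⁻¹) := by group
  · rw [Subgroup.card_map_of_injective (MulAut.conj w).injective, D.card_Ug]

/-- (I1w) if `ζ` and `t` are fused then `N_G(U)` is of index six -/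
theorem index_U_of_fused (h : IsConj D.zeta D.tt) :
    (Subgroup.centralizer (D.Ug : Set G)).relIndex (Subgroup.normalizer (D.Ug : Set G)) = 6 := by
  haveI : Fact (Nat.Prime 2) := ⟨Nat.prime_two⟩
  obtain ⟨g, hg⟩ := isConj_iff.mp h
  have hgS : ∀ s ∈ (S : Subgroup G), g * s * g⁻¹ ∈ Subgroup.centralizer ({D.tt} : Set G) := by
    intro s hs
    rw [Subgroup.mem_centralizer_singleton_iff, ← hg]
    have h1 := D.Zg_comm D.zeta_mem_Zg hs
    calc g * s * g⁻¹ * (g * D.zeta * g⁻¹) = g * (s * D.zeta) * g⁻¹ := by group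
      _ = g * (D.zeta * s) * g⁻¹ := by rw [h1]
      _ = g * D.zeta * g⁻¹ * (g * s * g⁻¹) := by group
  have hUH : D.Ug ≤ Subgroup.centralizer ({D.tt} : Set G) := by
    intro a ha
    rw [Subgroup.mem_centralizer_singleton_iff]
    exact D.Ug_comm a ha _ (D.A_mem_Ug _ _)
  obtain ⟨m, hm, hmq⟩ := sylow_juggle S _ g hgS D.Ug (D.Ug_isPGroup S.2) hUH
  have hmap := map_conj_Ug_eq S D hmq
  have hwN : g⁻¹ * m ∈ Subgroup.normalizer (D.Ug : Set G) :=
    Subgroup.mem_normalizer_iff_map_conj_eq.mpr hmap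
  rw [Subgroup.mem_centralizer_singleton_iff] at hm
  apply (WD.U_index S D).2.1.mpr
  refine ⟨(g⁻¹ * m)⁻¹, Subgroup.inv_mem _ hwN, ?_⟩
  have e : (g⁻¹ * m)⁻¹ * D.zeta * (g⁻¹ * m)⁻¹⁻¹ = D.tt := by
    have h1 : m⁻¹ * D.tt * m = D.tt := by
      calc m⁻¹ * D.tt * m = m⁻¹ * (D.tt * m) := by group
        _ = m⁻¹ * (m * D.tt) := by rw [hm]
        _ = D.tt := by group
    calc (g⁻¹ * m)⁻¹ * D.zeta * (g⁻¹ * m)⁻¹⁻¹ = m⁻¹ * (g * D.zeta * g⁻¹) * m := by group
      _ = m⁻¹ * D.tt * m := by rw [hg]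
      _ = D.tt := h1
  rw [e]
  exact D.tt_ne_zeta

/-- (I3w) if `ζ` and `z` are fused then so are `ζ` and `t` -/
theorem fused_zeta_tt_of_zz (h : IsConj D.zeta D.zz) : IsConj D.zeta D.tt := by
  haveI : Fact (Nat.Prime 2) := ⟨Nat.prime_two⟩
  obtain ⟨g, hg⟩ := isConj_iff.mp h
  have hzzS : D.zz ∈ (S : Subgroup G) := (D.B 0 0).2
  have hgS : ∀ s ∈ (S : Subgroup G), g * s * g⁻¹ ∈ Subgroup.centralizer ({D.zz} : Set G) := by
    intro s hs
    rw [Subgroup.mem_centralizer_singleton_iff, ← hg]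
    have h1 := D.Zg_comm D.zeta_mem_Zg hs
    calc g * s * g⁻¹ * (g * D.zeta * g⁻¹) = g * (s * D.zeta) * g⁻¹ := by group
      _ = g * (D.zeta * s) * g⁻¹ := by rw [h1]
      _ = g * D.zeta * g⁻¹ * (g * s * g⁻¹) := by group
  have hZH : D.Zg ≤ Subgroup.centralizer ({D.zz} : Set G) := by
    intro a ha
    rw [Subgroup.mem_centralizer_singleton_iff]
    exact D.Zg_comm ha hzzS
  obtain ⟨m, hm, hmq⟩ := sylow_juggle S _ g hgS D.Zg (S.2.to_le D.Zg_le) hZH
  rw [Subgroup.mem_centralizer_singleton_iff] at hm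
  set w := g⁻¹ * m with hw
  set a : G := ((D.A D.v D.v : ↥(S : Subgroup G)) : G) with ha
  have haZ : a ∈ D.Zg := D.AA_mem_Zg D.v
  have hbS : w * a * w⁻¹ ∈ (S : Subgroup G) := hmq a haZ
  have haa : a * a = D.zeta := by
    have := coe_eq_of_eq D.a_sq; simpa using this
  have hζ' : w * D.zeta * w⁻¹ = (w * a * w⁻¹) * (w * a * w⁻¹) := by
    rw [← haa]; group
  have hoζ' : orderOf (w * D.zeta * w⁻¹) = 2 := by rw [orderOf_conj_eq]; exact D.orderOf_zeta_g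
  have hwzz : w * D.zz * w⁻¹ = D.zeta := by
    have h1 : m * D.zz * m⁻¹ = D.zz := by
      calc m * D.zz * m⁻¹ = (m * D.zz) * m⁻¹ := by group
        _ = (D.zz * m) * m⁻¹ := by rw [hm]
        _ = D.zz := by group
    calc w * D.zz * w⁻¹ = g⁻¹ * (m * D.zz * m⁻¹) * g := by rw [hw]; group
      _ = g⁻¹ * D.zz * g := by rw [h1]
      _ = g⁻¹ * (g * D.zeta * g⁻¹) * g := by rw [hg]
      _ = D.zeta := by group
  have hne : w * D.zeta * w⁻¹ ≠ D.zeta := by
    intro hc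
    have hc' : w * D.zeta * w⁻¹ = w * D.zz * w⁻¹ := hc.trans hwzz.symm
    have h2 : D.zeta = D.zz := mul_left_cancel (mul_right_cancel hc')
    have h3 : D.A D.u D.u = D.B 0 0 := Subtype.ext h2
    exact D.B_ne_A _ _ _ _ h3.symm
  rcases D.sq_involution_g hbS hoζ' hζ' with h1 | h1 | h1
  · exact absurd h1 hne
  · exact isConj_iff.mpr ⟨w, h1⟩
  · exact (isConj_iff.mpr ⟨w, h1⟩).trans D.isConj_tt_tt'.symm

/-- (V2) if `N_G(V)` is of index six then `t` and `z` are fused -/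
theorem fused_tt_zz_of_index_V (c : ZMod D.N)
    (h6 : (D.Vg c ⊔ Subgroup.centralizer (D.Vg c : Set G)).relIndex
        (Subgroup.normalizer (D.Vg c : Set G)) = 6) : IsConj D.tt D.zz := by
  obtain ⟨n, hn, hmap⟩ := (WD.V_index S D c).2.2.1 h6
  rw [map_conj_zpowers] at hmap
  have hmem : n * D.g1 * n⁻¹ ∈ Subgroup.zpowers (D.g2 c) := by
    rw [← hmap]; exact Subgroup.mem_zpowers _
  set a : G := ((D.A D.v D.v : ↥(S : Subgroup G)) : G) with ha
  have haZ : a ∈ D.Zg := D.AA_mem_Zg D.v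
  have hna : n * a * n⁻¹ = a := normalizer_Vg_centralizes S D c hn haZ
  have ht : D.tt = D.g1 * a := by
    have := coe_eq_of_eq D.t_eq; simpa using this.symm
  have hnt : n * D.tt * n⁻¹ = (n * D.g1 * n⁻¹) * a := by
    rw [ht]
    calc n * (D.g1 * a) * n⁻¹ = (n * D.g1 * n⁻¹) * (n * a * n⁻¹) := by group
      _ = (n * D.g1 * n⁻¹) * a := by rw [hna]
  rcases mem_zpowers_order_four (D.orderOf_g2g c) hmem
    (by rw [orderOf_conj_eq]; exact D.orderOf_g1g) with hh | hh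
  · rw [hh] at hnt
    have e : D.g2 c * a = ((D.B (c + D.v) (-(c + D.v)) : ↥(S : Subgroup G)) : G) := by
      have := coe_eq_of_eq (D.g2_mul_a c); simpa using this
    rw [e] at hnt
    exact (isConj_iff.mpr ⟨n, hnt⟩).trans (D.isConj_zz_B _).symm
  · rw [hh] at hnt
    have e : (D.g2 c)⁻¹ * a =
        ((D.B (c + D.u + D.v) (-(c + D.u + D.v)) : ↥(S : Subgroup G)) : G) := by
      have := coe_eq_of_eq (D.g2_inv_mul_a c); simpa using this
    rw [e] at hnt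
    exact (isConj_iff.mpr ⟨n, hnt⟩).trans (D.isConj_zz_B _).symm

end WF10s

end WD

end Cfsg.Agent.Lib.Helper9
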