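import Mathlib
import Cfsg.Agent.Lib.Helper9.WF10

set_option autoImplicit false

namespace Cfsg.Agent.Lib.Helper9

namespace WD

section WF11

variable {G : Type*} [Group G] {S : Subgroup G} (D : WD ↥S)

/-- the abelian subgroup `E = Z(S)⟨g₂⟩` -/
noncomputable def Eg (c : ZMod D.N) : Subgroup G := D.Zg ⊔ Subgroup.zpowers (D.g2 c)

theorem zpowers_g2_le (c : ZMod D.N) : Subgroup.zpowers (D.g2 c) ≤ D.Qg c :=
  Subgroup.zpowers_le.mpr (D.g2_mem_Qg c)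

theorem Eg_le_Vg (c : ZMod D.N) : D.Eg c ≤ D.Vg c :=
  sup_le (D.Zg_le_Vg c) ((D.zpowers_g2_le c).trans (D.Qg_le_Vg c))

theorem Zg_le_Eg (c : ZMod D.N) : D.Zg ≤ D.Eg c := le_sup_left

theorem g2_mem_Eg (c : ZMod D.N) : D.g2 c ∈ D.Eg c :=
  (le_sup_right : Subgroup.zpowers (D.g2 c) ≤ D.Eg c) (Subgroup.mem_zpowers _)

theorem mem_Eg_iff (c : ZMod D.N) {x : G} :
    x ∈ D.Eg c ↔ ∃ a ∈ D.Zg, ∃ b ∈ Subgroup.zpowers (D.g2 c), x = a * b := by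
  unfold Eg
  apply mem_sup_of_commute
  intro a ha b hb
  exact D.Zg_comm ha (D.Qg_le c (D.zpowers_g2_le c hb))

theorem Eg_comm (c : ZMod D.N) : ∀ x ∈ D.Eg c, ∀ y ∈ D.Eg c, x * y = y * x := by
  intro x hx y hy
  obtain ⟨a, ha, b, hb, rfl⟩ := (D.mem_Eg_iff c).mp hx
  obtain ⟨a', ha', b', hb', rfl⟩ := (D.mem_Eg_iff c).mp hy
  have hbS : b ∈ S := D.Qg_le c (D.zpowers_g2_le c hb)
  have hb'S : b' ∈ S := D.Qg_le c (D.zpowers_g2_le c hb')
  have h1 := D.Zg_comm ha' hbS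
  have h2 := D.Zg_comm ha hb'S
  have h3 := D.Zg_comm ha (D.Zg_le ha')
  have h4 : b * b' = b' * b := by
    obtain ⟨i, rfl⟩ := Subgroup.mem_zpowers_iff.mp hb
    obtain ⟨j, rfl⟩ := Subgroup.mem_zpowers_iff.mp hb'
    exact zpow_mul_comm _ _ _
  calc a * b * (a' * b') = a * (b * a') * b' := by group
    _ = a * (a' * b) * b' := by rw [← h1]
    _ = (a * a') * (b * b') := by group
    _ = (a' * a) * (b' * b) := by rw [h3, h4]
    _ = a' * (a * b') * b := by group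
    _ = a' * (b' * a) * b := by rw [h2]
    _ = a' * b' * (a * b) := by group

theorem Vg_le_normalizer_Eg [Finite G] (c : ZMod D.N) :
    D.Vg c ≤ Subgroup.normalizer (D.Eg c : Set G) := by
  apply sup_le
  · intro q hq
    apply mem_normalizer_of_conj_mem'
    intro e he
    obtain ⟨a, ha, b, hb, rfl⟩ := (D.mem_Eg_iff c).mp he
    have h1 := D.Zg_comm ha (D.Qg_le c hq)
    have h2 : q * b * q⁻¹ ∈ Subgroup.zpowers (D.g2 c) :=
      conj_mem_of_map_eq' (cyc4_fix_of_mem (D.card_Qg c) hq (D.A₂ c)) hb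
    have e : q * (a * b) * q⁻¹ = a * (q * b * q⁻¹) := by
      calc q * (a * b) * q⁻¹ = (q * a) * b * q⁻¹ := by group
        _ = (a * q) * b * q⁻¹ := by rw [h1]
        _ = a * (q * b * q⁻¹) := by group
    rw [e]
    exact (D.mem_Eg_iff c).mpr ⟨a, ha, _, h2, rfl⟩
  · exact (D.Zg_le_Eg c).trans Subgroup.le_normalizer

/-- `Qg c` is generated by the two generators -/
theorem Qg_le_closure (c : ZMod D.N) : D.Qg c ≤ Subgroup.closure {D.g1, D.g2 c} := by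
  intro q hq
  obtain ⟨s, hs, rfl⟩ := hq
  have hcl := D.Q8s_le_closure c hs
  have hmap : ((s : ↥S) : G) ∈
      (Subgroup.closure {D.A D.v (-D.v), D.B c (D.u - c)}).map S.subtype := ⟨s, hcl, rfl⟩
  rw [MonoidHom.map_closure] at hmap
  have : S.subtype '' {D.A D.v (-D.v), D.B c (D.u - c)} = {D.g1, D.g2 c} := by
    ext x
    simp only [Set.mem_image, Set.mem_insert_iff, Set.mem_singleton_iff]
    constructor
    · rintro ⟨y, rfl | rfl, rfl⟩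
      · left; rfl
      · right; rfl
    · rintro (rfl | rfl)
      · exact ⟨_, Or.inl rfl, rfl⟩
      · exact ⟨_, Or.inr rfl, rfl⟩
  rwa [this] at hmap

end WF11

section WF11s

variable {G : Type*} [Group G] [Finite G] (S : Sylow 2 G) (D : WD ↥(S : Subgroup G))

/-- Step D: a conjugating element with good properties forces index six -/
theorem stepD (c : ZMod D.N) (h : G) (hV : ∀ x ∈ D.Vg c, h * x * h⁻¹ ∈ (S : Subgroup G))
    (hE : ∀ e ∈ D.Eg c, h * e * h⁻¹ ∈ D.Ug) :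
    (D.Vg c ⊔ Subgroup.centralizer (D.Vg c : Set G)).relIndex
      (Subgroup.normalizer (D.Vg c : Set G)) = 6 := by
  have e12 : D.g1 * D.g2 c * D.g1⁻¹ = (D.g2 c)⁻¹ := by
    have := coe_eq_of_eq (D.g1_conj_g2 c); simpa using this
  have hg11 : D.g1 * D.g1 = D.zeta := by
    have := coe_eq_of_eq D.g1_sq; simpa using this
  have hg22 : D.g2 c * D.g2 c = D.zeta := by
    have := coe_eq_of_eq (D.B_sq_of_sum (k := c) (l := D.u - c) (by ring)); simpa using this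
  have hp1S : h * D.g1 * h⁻¹ ∈ (S : Subgroup G) := hV _ (D.Qg_le_Vg c (D.g1_mem_Qg c))
  have hp2U : h * D.g2 c * h⁻¹ ∈ D.Ug := hE _ (D.g2_mem_Eg c)
  obtain ⟨i, j, hp2⟩ := D.exists_of_mem_Ug hp2U
  -- the relations, transported
  have r1 : (h * D.g1 * h⁻¹) * (h * D.g2 c * h⁻¹) * (h * D.g1 * h⁻¹)⁻¹ = (h * D.g2 c * h⁻¹)⁻¹ := by
    calc (h * D.g1 * h⁻¹) * (h * D.g2 c * h⁻¹) * (h * D.g1 * h⁻¹)⁻¹
        = h * (D.g1 * D.g2 c * D.g1⁻¹) * h⁻¹ := by group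
      _ = h * (D.g2 c)⁻¹ * h⁻¹ := by rw [e12]
      _ = (h * D.g2 c * h⁻¹)⁻¹ := by group
  have r2 : (h * D.g1 * h⁻¹) * (h * D.g1 * h⁻¹) = (h * D.g2 c * h⁻¹) * (h * D.g2 c * h⁻¹) := by
    calc (h * D.g1 * h⁻¹) * (h * D.g1 * h⁻¹) = h * (D.g1 * D.g1) * h⁻¹ := by group
      _ = h * (D.g2 c * D.g2 c) * h⁻¹ := by rw [hg11, hg22]
      _ = (h * D.g2 c * h⁻¹) * (h * D.g2 c * h⁻¹) := by group
  have r3 : (h * D.g2 c * h⁻¹) * (h * D.g2 c * h⁻¹) ≠ 1 := by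
    intro hc
    have e : (h * D.g2 c * h⁻¹) * (h * D.g2 c * h⁻¹) = h * (D.g2 c * D.g2 c) * h⁻¹ := by group
    rw [e, hg22] at hc
    apply D.zeta_ne_one_g
    have := congrArg (fun x => h⁻¹ * x * h) hc
    simpa [mul_assoc] using this
  rcases D.cases ⟨h * D.g1 * h⁻¹, hp1S⟩ with ⟨k, l, hp1⟩ | ⟨k, l, hp1⟩
  · exfalso
    have hp1' : h * D.g1 * h⁻¹ = ((D.A k l : ↥(S : Subgroup G)) : G) := congrArg Subtype.val hp1
    have hp1U : h * D.g1 * h⁻¹ ∈ D.Ug := by rw [hp1']; exact D.A_mem_Ug k l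
    have hcomm := D.Ug_comm _ hp1U _ hp2U
    have e1 : (h * D.g1 * h⁻¹) * (h * D.g2 c * h⁻¹) * (h * D.g1 * h⁻¹)⁻¹ = h * D.g2 c * h⁻¹ := by
      rw [hcomm]; group
    rw [e1] at r1
    apply r3
    nth_rewrite 1 [r1]
    exact inv_mul_cancel _
  have hp1' : h * D.g1 * h⁻¹ = ((D.B k l : ↥(S : Subgroup G)) : G) := congrArg Subtype.val hp1
  rw [hp1', hp2] at r1 r2
  rw [hp2] at r3
  have R1 : D.B k l * D.A i j * (D.B k l)⁻¹ = (D.A i j)⁻¹ := Subtype.ext (by simpa using r1)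
  have R2 : D.B k l * D.B k l = D.A i j * D.A i j := Subtype.ext (by simpa using r2)
  have R3 : D.A i j * D.A i j ≠ 1 := by
    intro hc
    apply r3
    have := coe_eq_of_eq hc
    simpa using this
  have hs0p2 : D.s0 * (h * D.g2 c * h⁻¹) * D.s0⁻¹ = h * D.g2 c * h⁻¹ := by
    have := D.Ug_comm _ (D.A_mem_Ug D.v 0) _ hp2U
    rw [this]; group
  have hs0p1 : D.s0 * (h * D.g1 * h⁻¹) * D.s0⁻¹ = (h * D.g2 c * h⁻¹) * (h * D.g1 * h⁻¹) ∨
      D.s0 * (h * D.g1 * h⁻¹) * D.s0⁻¹ = (h * D.g2 c * h⁻¹)⁻¹ * (h * D.g1 * h⁻¹) := by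
    rw [hp1', hp2]
    rcases D.s0_conj_of_rel R1 R2 R3 with hh | hh
    · left
      have := coe_eq_of_eq hh; simpa using this
    · right
      have := coe_eq_of_eq hh; simpa using this
  set σ := h⁻¹ * D.s0 * h with hσ
  have hσ2 : σ * D.g2 c * σ⁻¹ = D.g2 c := by
    calc σ * D.g2 c * σ⁻¹ = h⁻¹ * (D.s0 * (h * D.g2 c * h⁻¹) * D.s0⁻¹) * h := by rw [hσ]; group
      _ = h⁻¹ * (h * D.g2 c * h⁻¹) * h := by rw [hs0p2]
      _ = D.g2 c := by group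
  have hσ1 : σ * D.g1 * σ⁻¹ = D.g2 c * D.g1 ∨ σ * D.g1 * σ⁻¹ = (D.g2 c)⁻¹ * D.g1 := by
    have e : σ * D.g1 * σ⁻¹ = h⁻¹ * (D.s0 * (h * D.g1 * h⁻¹) * D.s0⁻¹) * h := by rw [hσ]; group
    rcases hs0p1 with hh | hh
    · left; rw [e, hh]; group
    · right; rw [e, hh]; group
  have hσZ : ∀ a ∈ D.Zg, σ * a * σ⁻¹ = a := by
    intro a ha
    have h1 := D.Ug_comm _ (D.A_mem_Ug D.v 0) _ (hE a (D.Zg_le_Eg c ha))
    calc σ * a * σ⁻¹ = h⁻¹ * (D.s0 * (h * a * h⁻¹)) * D.s0⁻¹ * h := by rw [hσ]; group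
      _ = h⁻¹ * ((h * a * h⁻¹) * D.s0) * D.s0⁻¹ * h := by rw [h1]
      _ = a := by group
  have hσQ : ∀ q ∈ D.Qg c, σ * q * σ⁻¹ ∈ D.Qg c := by
    have hle : Subgroup.closure {D.g1, D.g2 c} ≤
        (D.Qg c).comap (MulAut.conj σ).toMonoidHom := by
      rw [Subgroup.closure_le]
      rintro x (rfl | rfl)
      · show σ * D.g1 * σ⁻¹ ∈ D.Qg c
        rcases hσ1 with hh | hh
        · rw [hh]; exact Subgroup.mul_mem _ (D.g2_mem_Qg c) (D.g1_mem_Qg c)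
        · rw [hh]
          exact Subgroup.mul_mem _ (Subgroup.inv_mem _ (D.g2_mem_Qg c)) (D.g1_mem_Qg c)
      · show σ * D.g2 c * σ⁻¹ ∈ D.Qg c
        rw [hσ2]; exact D.g2_mem_Qg c
    intro q hq
    exact hle (D.Qg_le_closure c hq)
  have hσN : σ ∈ Subgroup.normalizer (D.Vg c : Set G) := by
    apply mem_normalizer_of_conj_mem'
    intro x hx
    obtain ⟨q, hq, a, ha, rfl⟩ := (D.mem_Vg_iff c).mp hx
    have e : σ * (q * a) * σ⁻¹ = (σ * q * σ⁻¹) * (σ * a * σ⁻¹) := by group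
    rw [e, hσZ a ha]
    exact (D.mem_Vg_iff c).mpr ⟨_, hσQ q hq, a, ha, rfl⟩
  apply (WD.V_index S D c).2.1.mpr
  refine ⟨σ, hσN, ?_⟩
  rw [map_conj_zpowers]
  intro hc
  have hmem : σ * D.g1 * σ⁻¹ ∈ Subgroup.zpowers D.g1 := by
    rw [← hc]; exact Subgroup.mem_zpowers _
  have hg1z : D.g1⁻¹ ∈ Subgroup.zpowers D.g1 := Subgroup.inv_mem _ (Subgroup.mem_zpowers _)
  have hg2z : D.g2 c ∈ Subgroup.zpowers D.g1 := by
    rcases hσ1 with hh | hh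
    · rw [hh] at hmem
      have := Subgroup.mul_mem _ hmem hg1z
      simpa using this
    · rw [hh] at hmem
      have := Subgroup.inv_mem _ (Subgroup.mul_mem _ hmem hg1z)
      simpa using this
  exact D.B_notMem_Ug _ _ (D.zpowers_g1_le_Ug hg2z)

end WF11s

end WD

end Cfsg.Agent.Lib.Helper9
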