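import Mathlib
import Cfsg.Agent.Lib.Helper9.WF11

set_option autoImplicit false

namespace Cfsg.Agent.Lib.Helper9

namespace WD

section WF12s

variable {G : Type*} [Group G] [Finite G] (S : Sylow 2 G) (D : WD ↥(S : Subgroup G))

theorem commute_conj_iff {k x y : G} (h : (k * x * k⁻¹) * (k * y * k⁻¹) = (k * y * k⁻¹) * (k * x * k⁻¹)) :
    x * y = y * x := by
  have e1 : (k * x * k⁻¹) * (k * y * k⁻¹) = k * (x * y) * k⁻¹ := by group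
  have e2 : (k * y * k⁻¹) * (k * x * k⁻¹) = k * (y * x) * k⁻¹ := by group
  rw [e1, e2] at h
  exact mul_left_cancel (mul_right_cancel h)

/-- Step A': a conjugate of `E` lies in `U` -/
theorem stepA (c : ZMod D.N) (h : IsConj D.tt D.zz) :
    ∃ k₁ : G, ∀ e ∈ D.Eg c, k₁ * e * k₁⁻¹ ∈ D.Ug := by
  haveI : Fact (Nat.Prime 2) := ⟨Nat.prime_two⟩
  set a : G := ((D.A D.v D.v : ↥(S : Subgroup G)) : G) with ha
  have haZ : a ∈ D.Zg := D.AA_mem_Zg D.v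
  set zc : G := D.g2 c * a with hzc
  have hzc' : zc = ((D.B (c + D.v) (-(c + D.v)) : ↥(S : Subgroup G)) : G) := by
    have := coe_eq_of_eq (D.g2_mul_a c); simpa using this
  have hzcE : zc ∈ D.Eg c :=
    Subgroup.mul_mem _ (D.g2_mem_Eg c) (D.Zg_le_Eg c haZ)
  have hconj : IsConj D.tt zc := by
    rw [hzc']; exact h.trans (D.isConj_zz_B _)
  obtain ⟨g, hg⟩ := isConj_iff.mp hconj
  have hE2 : IsPGroup 2 (D.Eg c) := S.2.to_le ((D.Eg_le_Vg c).trans (D.Vg_le c))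
  have hEH : D.Eg c ≤ Subgroup.centralizer ({zc} : Set G) := by
    intro e he
    rw [Subgroup.mem_centralizer_singleton_iff]
    exact D.Eg_comm c e he zc hzcE
  have hP2 : IsPGroup 2 (D.Ug.map (MulAut.conj g).toMonoidHom) := (D.Ug_isPGroup S.2).map _
  have hP2H : D.Ug.map (MulAut.conj g).toMonoidHom ≤ Subgroup.centralizer ({zc} : Set G) := by
    rintro _ ⟨a', ha', rfl⟩
    rw [Subgroup.mem_centralizer_singleton_iff, ← hg]
    have h1 := D.Ug_comm a' ha' D.tt (D.A_mem_Ug _ _)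
    simp only [MulEquiv.coe_toMonoidHom, MulAut.conj_apply]
    calc g * a' * g⁻¹ * (g * D.tt * g⁻¹) = g * (a' * D.tt) * g⁻¹ := by group
      _ = g * (D.tt * a') * g⁻¹ := by rw [h1]
      _ = g * D.tt * g⁻¹ * (g * a' * g⁻¹) := by group
  obtain ⟨k, m, hm, hk1, hk2⟩ := two_sub_juggle S _ (D.Eg c) _ hE2 hP2 hEH hP2H
  rw [Subgroup.mem_centralizer_singleton_iff] at hm
  have hw : ∀ a' ∈ D.Ug, (k * m * g) * a' * (k * m * g)⁻¹ ∈ (S : Subgroup G) := by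
    intro a' ha'
    have h1 := hk2 (g * a' * g⁻¹) ⟨a', ha', by simp⟩
    have e : (k * m * g) * a' * (k * m * g)⁻¹ = k * (m * (g * a' * g⁻¹) * m⁻¹) * k⁻¹ := by group
    rw [e]; exact h1
  have hmap := map_conj_Ug_eq S D hw
  have hz1 : k * zc * k⁻¹ ∈ D.Ug := by
    have h1 := conj_mem_of_map_eq' hmap (D.A_mem_Ug D.u 0)
    have e : (k * m * g) * D.tt * (k * m * g)⁻¹ = k * zc * k⁻¹ := by
      calc (k * m * g) * D.tt * (k * m * g)⁻¹ = k * (m * (g * D.tt * g⁻¹)) * m⁻¹ * k⁻¹ := by group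
        _ = k * (m * zc) * m⁻¹ * k⁻¹ := by rw [hg]
        _ = k * (zc * m) * m⁻¹ * k⁻¹ := by rw [hm]
        _ = k * zc * k⁻¹ := by group
    rw [← e]; exact h1
  have hoz1 : orderOf (k * zc * k⁻¹) = 2 := by
    rw [orderOf_conj_eq, hzc', Subgroup.orderOf_coe]; exact D.orderOf_Binv _
  have hζ1 : k * D.zeta * k⁻¹ = (k * a * k⁻¹) * (k * a * k⁻¹) := by
    have haa : a * a = D.zeta := by
      have := coe_eq_of_eq D.a_sq; simpa using this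
    rw [← haa]; group
  have hoζ1 : orderOf (k * D.zeta * k⁻¹) = 2 := by rw [orderOf_conj_eq]; exact D.orderOf_zeta_g
  have hne : k * zc * k⁻¹ ≠ k * D.zeta * k⁻¹ := by
    intro hc
    have h2 : zc = D.zeta := mul_left_cancel (mul_right_cancel hc)
    rw [hzc'] at h2
    exact D.B_ne_A _ _ _ _ (Subtype.ext h2)
  -- some conjugate of an element of `E` is `t` or `t'`
  have hτ : ∃ e₀ ∈ D.Eg c, k * e₀ * k⁻¹ = D.tt ∨ k * e₀ * k⁻¹ = D.tt' := by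
    rcases D.involution_Ug_cases hz1 hoz1 with h1 | h1 | h1
    · rcases D.sq_involution_g (hk1 a (D.Zg_le_Eg c haZ)) hoζ1 hζ1 with h2 | h2 | h2
      · exact absurd (h1.trans h2.symm) hne
      · exact ⟨D.zeta, D.Zg_le_Eg c D.zeta_mem_Zg, Or.inl h2⟩
      · exact ⟨D.zeta, D.Zg_le_Eg c D.zeta_mem_Zg, Or.inr h2⟩
    · exact ⟨zc, hzcE, Or.inl h1⟩
    · exact ⟨zc, hzcE, Or.inr h1⟩
  obtain ⟨e₀, he₀, hτ⟩ := hτ
  refine ⟨k, fun e he => ?_⟩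
  have hcomm := D.Eg_comm c e he e₀ he₀
  have hcomm' : (k * e * k⁻¹) * (k * e₀ * k⁻¹) = (k * e₀ * k⁻¹) * (k * e * k⁻¹) := by
    calc (k * e * k⁻¹) * (k * e₀ * k⁻¹) = k * (e * e₀) * k⁻¹ := by group
      _ = k * (e₀ * e) * k⁻¹ := by rw [hcomm]
      _ = (k * e₀ * k⁻¹) * (k * e * k⁻¹) := by group
  rcases hτ with hτ | hτ
  · apply D.mem_Ug_of_commute (hk1 e he)
    rw [hτ] at hcomm'
    show (k * e * k⁻¹) * D.tt * (k * e * k⁻¹)⁻¹ = D.tt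
    rw [hcomm']; group
  · apply D.mem_Ug_of_commute' (hk1 e he)
    rw [hτ] at hcomm'
    rw [hcomm']; group

/-- Step B': a conjugating element putting `V` into `S` and `E` into `U` -/
theorem stepB (c : ZMod D.N) (k₁ : G) (hk₁ : ∀ e ∈ D.Eg c, k₁ * e * k₁⁻¹ ∈ D.Ug) :
    ∃ h : G, (∀ x ∈ D.Vg c, h * x * h⁻¹ ∈ (S : Subgroup G)) ∧
      (∀ e ∈ D.Eg c, h * e * h⁻¹ ∈ D.Ug) := by
  haveI : Fact (Nat.Prime 2) := ⟨Nat.prime_two⟩
  have hV2 : IsPGroup 2 (D.Vg c) := S.2.to_le (D.Vg_le c)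
  have hP2 : IsPGroup 2 (D.Ug.map (MulAut.conj k₁⁻¹).toMonoidHom) := (D.Ug_isPGroup S.2).map _
  have hcent : ∀ a' ∈ D.Ug, ∀ e ∈ D.Eg c, (k₁⁻¹ * a' * k₁) * e = e * (k₁⁻¹ * a' * k₁) := by
    intro a' ha' e he
    have h1 := D.Ug_comm a' ha' _ (hk₁ e he)
    calc (k₁⁻¹ * a' * k₁) * e = k₁⁻¹ * (a' * (k₁ * e * k₁⁻¹)) * k₁ := by group
      _ = k₁⁻¹ * ((k₁ * e * k₁⁻¹) * a') * k₁ := by rw [h1]
      _ = e * (k₁⁻¹ * a' * k₁) := by group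
  have hP2H : D.Ug.map (MulAut.conj k₁⁻¹).toMonoidHom ≤
      Subgroup.normalizer (D.Eg c : Set G) := by
    rintro _ ⟨a', ha', rfl⟩
    apply Subgroup.centralizer_le_normalizer
    rw [Subgroup.mem_centralizer_iff]
    intro e he
    simp only [MulEquiv.coe_toMonoidHom, MulAut.conj_apply, inv_inv]
    exact (hcent a' ha' e he).symm
  obtain ⟨h, m, hm, hk1, hk2⟩ := two_sub_juggle S _ (D.Vg c) _ hV2 hP2
    (D.Vg_le_normalizer_Eg c) hP2H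
  have hw : ∀ a' ∈ D.Ug, (h * m * k₁⁻¹) * a' * (h * m * k₁⁻¹)⁻¹ ∈ (S : Subgroup G) := by
    intro a' ha'
    have h1 := hk2 (k₁⁻¹ * a' * k₁) ⟨a', ha', by simp⟩
    have e : (h * m * k₁⁻¹) * a' * (h * m * k₁⁻¹)⁻¹ =
        h * (m * (k₁⁻¹ * a' * k₁) * m⁻¹) * h⁻¹ := by group
    rw [e]; exact h1
  have hmap := map_conj_Ug_eq S D hw
  have hwN : h * m * k₁⁻¹ ∈ Subgroup.normalizer (D.Ug : Set G) :=
    Subgroup.mem_normalizer_iff_map_conj_eq.mpr hmap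
  refine ⟨h, hk1, fun e he => ?_⟩
  have heS : h * e * h⁻¹ ∈ (S : Subgroup G) := hk1 e (D.Eg_le_Vg c he)
  apply D.mem_Ug_of_commute heS
  -- write `t` as a conjugate
  set a' := (h * m * k₁⁻¹)⁻¹ * D.tt * (h * m * k₁⁻¹) with ha'
  have ha'U : a' ∈ D.Ug := inv_conj_mem_of_mem_normalizer hwN (D.A_mem_Ug D.u 0)
  have ht : D.tt = h * (m * (k₁⁻¹ * a' * k₁) * m⁻¹) * h⁻¹ := by rw [ha']; group
  have hme : m⁻¹ * e * m ∈ D.Eg c := inv_conj_mem_of_mem_normalizer hm he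
  have h1 := hcent a' ha'U _ hme
  have h2 : e * (m * (k₁⁻¹ * a' * k₁) * m⁻¹) = (m * (k₁⁻¹ * a' * k₁) * m⁻¹) * e := by
    calc e * (m * (k₁⁻¹ * a' * k₁) * m⁻¹) = m * ((m⁻¹ * e * m) * (k₁⁻¹ * a' * k₁)) * m⁻¹ := by
          group
      _ = m * ((k₁⁻¹ * a' * k₁) * (m⁻¹ * e * m)) * m⁻¹ := by rw [h1]
      _ = (m * (k₁⁻¹ * a' * k₁) * m⁻¹) * e := by group
  show (h * e * h⁻¹) * D.tt * (h * e * h⁻¹)⁻¹ = D.tt
  nth_rewrite 1 [ht]
  calc h * e * h⁻¹ * (h * (m * (k₁⁻¹ * a' * k₁) * m⁻¹) * h⁻¹) * (h * e * h⁻¹)⁻¹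
      = h * (e * (m * (k₁⁻¹ * a' * k₁) * m⁻¹)) * e⁻¹ * h⁻¹ := by group
    _ = h * ((m * (k₁⁻¹ * a' * k₁) * m⁻¹) * e) * e⁻¹ * h⁻¹ := by rw [h2]
    _ = h * (m * (k₁⁻¹ * a' * k₁) * m⁻¹) * h⁻¹ := by group
    _ = D.tt := ht.symm

/-- (I2w) if `t` and `z` are fused then `N_G(V)` is of index six -/
theorem index_V_of_fused (c : ZMod D.N) (h : IsConj D.tt D.zz) :
    (D.Vg c ⊔ Subgroup.centralizer (D.Vg c : Set G)).relIndex
      (Subgroup.normalizer (D.Vg c : Set G)) = 6 := by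
  obtain ⟨k₁, hk₁⟩ := stepA S D c h
  obtain ⟨h', hV, hE⟩ := stepB S D c k₁ hk₁
  exact stepD S D c h' hV hE

end WF12s

end WD

end Cfsg.Agent.Lib.Helper9
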