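import Mathlib
import Cfsg.Agent.Lib.Helper9.WF12
import Cfsg.Agent.Lib.Helper1.NPC

set_option autoImplicit false

namespace Cfsg.Agent.Lib.Helper9

open MonoidHom MulAction Subgroup in
/-- the transfer into `S / M` for a subgroup `M` of index two in the Sylow subgroup `S` -/
noncomputable def transferTwo {G : Type*} [Group G] [Finite G] (S : Sylow 2 G) (M : Subgroup G)
    (hM : M.relIndex (S : Subgroup G) = 2) : G →* ℤˣ :=
  MonoidHom.transfer
    (Cfsg.Agent.Lib.Helper19.signHomOfIndexTwo (S : Subgroup G) (M.subgroupOf (S : Subgroup G)) hM)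

section transfer

open MonoidHom MulAction Subgroup

variable {G : Type*} [Group G] [Finite G]

theorem transferTwo_eq_one (S : Sylow 2 G) (M : Subgroup G)
    (hM : M.relIndex (S : Subgroup G) = 2) (x : G)
    (hx : ∀ (g : G) (k : ℕ), g⁻¹ * x ^ k * g ∈ (S : Subgroup G) → g⁻¹ * x ^ k * g ∈ M) :
    transferTwo S M hM x = 1 := by
  classical
  unfold transferTwo
  set H : Subgroup G := (S : Subgroup G) with hH
  set ϕ := Cfsg.Agent.Lib.Helper19.signHomOfIndexTwo H (M.subgroupOf H) hM with hϕ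
  let _ : Fintype (Quotient (orbitRel (zpowers x) (G ⧸ H))) := Fintype.ofFinite _
  rw [transfer_eq_prod_quotient_orbitRel_zpowers_quot ϕ x]
  apply Finset.prod_eq_one
  intro q _
  exact (Cfsg.Agent.Lib.Helper19.signHomOfIndexTwo_apply H (M.subgroupOf H) hM _).mpr
    (mem_subgroupOf.mpr (hx _ _ (QuotientGroup.out_conj_pow_minimalPeriod_mem H x q.out)))

theorem transferTwo_eq_neg_one (S : Sylow 2 G) (M : Subgroup G)
    (hM : M.relIndex (S : Subgroup G) = 2)
    (n : ℕ) (hn : 1 ≤ n) (hord : ∀ y ∈ (S : Subgroup G), y ∉ M → 2 ^ (n - 1) < orderOf y)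
    (x : G) (hxn : orderOf x = 2 ^ n) (hnc : ∀ g : G, g * x * g⁻¹ ∉ M) :
    transferTwo S M hM x = -1 := by
  classical
  have : Fact (Nat.Prime 2) := ⟨Nat.prime_two⟩
  unfold transferTwo
  set H : Subgroup G := (S : Subgroup G) with hH
  have hQ : (M.subgroupOf H).index = 2 := hM
  set ϕ := Cfsg.Agent.Lib.Helper19.signHomOfIndexTwo H (M.subgroupOf H) hM with hϕ
  let _ : Fintype (Quotient (orbitRel (zpowers x) (G ⧸ H))) := Fintype.ofFinite _
  have hV := transfer_eq_prod_quotient_orbitRel_zpowers_quot ϕ x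
  have hsum := Subgroup.index_eq_sum_minimalPeriod H x
  have hdvd : ∀ q : Quotient (orbitRel (zpowers x) (G ⧸ H)),
      Function.minimalPeriod (x • ·) q.out ∣ 2 ^ n := by
    intro q
    rw [← hxn, ← pow_smul_eq_iff_minimalPeriod_dvd, pow_orderOf_eq_one, one_smul]
  have hgen : ∀ (g : G) (k : ℕ) (hk : g⁻¹ * x ^ k * g ∈ H), k ∣ 2 ^ n →
      ϕ ⟨g⁻¹ * x ^ k * g, hk⟩ = (-1 : ℤˣ) ^ k := by
    intro g k hk hkd
    obtain ⟨j, hj, rfl⟩ := (Nat.dvd_prime_pow Nat.prime_two).mp hkd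
    rcases Nat.eq_zero_or_pos j with h0 | h0
    · subst h0
      simp only [pow_zero, pow_one]
      apply Cfsg.Agent.Lib.Helper19.signHomOfIndexTwo_apply_of_not_mem
      rw [mem_subgroupOf]
      simp only []
      have := hnc (g⁻¹)
      simpa using this
    · have heven : Even (2 ^ j) := (Nat.even_pow.mpr ⟨even_two, by omega⟩)
      rw [Even.neg_one_pow heven]
      apply (Cfsg.Agent.Lib.Helper19.signHomOfIndexTwo_apply H (M.subgroupOf H) hQ _).mpr
      rw [mem_subgroupOf]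
      simp only []
      by_contra hnot
      have hlt := hord _ hk hnot
      have hconj : g⁻¹ * x ^ 2 ^ j * g = MulAut.conj (g⁻¹) (x ^ 2 ^ j) := by
        simp
      rw [hconj, MulEquiv.orderOf_eq, orderOf_pow' x (by positivity), hxn] at hlt
      have hgcd : Nat.gcd (2 ^ n) (2 ^ j) = 2 ^ j := by
        apply Nat.gcd_eq_right
        exact pow_dvd_pow 2 hj
      rw [hgcd, Nat.pow_div hj (by norm_num)] at hlt
      have h1 : n - j ≤ n - 1 := by omega
      have h2 := Nat.pow_le_pow_right (show 0 < 2 by norm_num) h1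
      omega
  have hterm : ∀ q : Quotient (orbitRel (zpowers x) (G ⧸ H)),
      ϕ ⟨q.out.out⁻¹ * x ^ Function.minimalPeriod (x • ·) q.out * q.out.out,
            QuotientGroup.out_conj_pow_minimalPeriod_mem H x q.out⟩ =
        (-1 : ℤˣ) ^ (Function.minimalPeriod (x • ·) q.out) :=
    fun q => hgen q.out.out _ _ (hdvd q)
  have hVx : transfer ϕ x = (-1 : ℤˣ) ^ H.index := by
    rw [hV, hsum, ← Finset.prod_pow_eq_pow_sum]
    exact Finset.prod_congr rfl (fun q _ => hterm q)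
  have hodd : Odd H.index := by
    have : ¬ 2 ∣ H.index := S.not_dvd_index
    exact Nat.odd_iff.mpr (by omega)
  rw [Odd.neg_one_pow hodd] at hVx
  exact hVx

theorem index_ker_of_eq_neg_one (f : G →* ℤˣ) (x : G) (hx : f x = -1) : f.ker.index = 2 := by
  rw [Subgroup.index_ker]
  have hrange : f.range = ⊤ := by
    rw [eq_top_iff]
    intro u _
    rcases Int.units_eq_one_or u with rfl | rfl
    · exact one_mem _
    · exact ⟨x, hx⟩
  rw [hrange, Subgroup.card_top]
  simp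

end transfer

section classes

variable {G : Type*} [Group G]

theorem card_classes_eq_three (k : ℕ) (g₁ g₂ g₃ : G) (h₁ : orderOf g₁ = k) (h₂ : orderOf g₂ = k)
    (h₃ : orderOf g₃ = k) (h12 : ¬ IsConj g₁ g₂) (h13 : ¬ IsConj g₁ g₃) (h23 : ¬ IsConj g₂ g₃)
    (h : ∀ t : G, orderOf t = k → IsConj t g₁ ∨ IsConj t g₂ ∨ IsConj t g₃) :
    Nat.card {C : ConjClasses G // ∃ t : G, orderOf t = k ∧ ConjClasses.mk t = C} = 3 := by
  apply card_subtype_eq_three' _ (ConjClasses.mk g₁) (ConjClasses.mk g₂) (ConjClasses.mk g₃)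
  · intro hc; exact h12 (ConjClasses.mk_eq_mk_iff_isConj.mp hc)
  · intro hc; exact h13 (ConjClasses.mk_eq_mk_iff_isConj.mp hc)
  · intro hc; exact h23 (ConjClasses.mk_eq_mk_iff_isConj.mp hc)
  · exact ⟨g₁, h₁, rfl⟩
  · exact ⟨g₂, h₂, rfl⟩
  · exact ⟨g₃, h₃, rfl⟩
  · rintro C ⟨t, ht, rfl⟩
    rcases h t ht with hc | hc | hc
    · left; exact ConjClasses.mk_eq_mk_iff_isConj.mpr hc
    · right; left; exact ConjClasses.mk_eq_mk_iff_isConj.mpr hc
    · right; right; exact ConjClasses.mk_eq_mk_iff_isConj.mpr hc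

theorem oddClosure_le_of_index_two {H : Subgroup G} (hH : H.index = 2) : oddClosure G ≤ H := by
  haveI : H.Normal := Subgroup.normal_of_index_eq_two hH
  unfold oddClosure
  apply Subgroup.normalClosure_le_normal
  intro g hg
  exact mem_of_odd_of_index_two hH hg

theorem no_index_two_of_sylow_le [Finite G] (S : Sylow 2 G)
    (h : (S : Subgroup G) ≤ oddClosure G) (H : Subgroup G) : H.index ≠ 2 := by
  intro hH
  have h1 : (S : Subgroup G) ≤ H := h.trans (oddClosure_le_of_index_two hH)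
  have h2 := Subgroup.index_dvd_of_le h1
  rw [hH] at h2
  exact S.not_dvd_index h2

/-- a fixed-point-free element of odd order: every element is a commutator -/
theorem fpf_surj [Finite G] (U : Subgroup G) (hU2 : IsPGroup 2 U)
    (hUab : ∀ a ∈ U, ∀ b ∈ U, a * b = b * a) {ν : G}
    (hν : ν ∈ Subgroup.normalizer (U : Set G))
    (hfix : ∀ a ∈ U, orderOf a = 2 → ν * a * ν⁻¹ ≠ a) :
    ∀ b ∈ U, ∃ a ∈ U, b = a⁻¹ * (ν * a * ν⁻¹) := by
  classical
  haveI : Fact (Nat.Prime 2) := ⟨Nat.prime_two⟩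
  have hconj : ∀ a ∈ U, ν * a * ν⁻¹ ∈ U := fun a ha =>
    (Subgroup.mem_normalizer_iff.mp hν a).mp ha
  -- fixed points are trivial
  have hfp : ∀ d ∈ U, ν * d * ν⁻¹ = d → d = 1 := by
    intro d hd hdf
    by_contra hd1
    set C : Subgroup G := U ⊓ Subgroup.centralizer ({ν} : Set G) with hC
    have hdC : d ∈ C := by
      refine Subgroup.mem_inf.mpr ⟨hd, ?_⟩
      rw [Subgroup.mem_centralizer_singleton_iff]
      calc d * ν = (ν * d * ν⁻¹) * ν := by rw [hdf]
        _ = ν * d := by group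
    have hC2 : IsPGroup 2 C := hU2.to_le inf_le_left
    have hCnt : Nontrivial C := ⟨⟨⟨d, hdC⟩, 1, fun h => hd1 (congrArg Subtype.val h)⟩⟩
    obtain ⟨m, hm⟩ := IsPGroup.iff_card.mp hC2
    have hm0 : m ≠ 0 := by
      rintro rfl
      rw [pow_zero] at hm
      have := (Nat.card_eq_one_iff_unique.mp hm).1
      exact not_subsingleton C this
    have h2dvd : 2 ∣ Nat.card C := by rw [hm]; exact dvd_pow_self 2 hm0
    obtain ⟨y, hy⟩ := exists_prime_orderOf_dvd_card' 2 h2dvd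
    have hyU : (y : G) ∈ U := (Subgroup.mem_inf.mp y.2).1
    have hyν := (Subgroup.mem_inf.mp y.2).2
    rw [Subgroup.mem_centralizer_singleton_iff] at hyν
    apply hfix (y : G) hyU (by rw [Subgroup.orderOf_coe]; exact hy)
    rw [← hyν]; group
  -- the map is injective on `U`
  let f : U → U := fun a => ⟨(a : G)⁻¹ * (ν * a * ν⁻¹), U.mul_mem (U.inv_mem a.2) (hconj a a.2)⟩
  have hinj : Function.Injective f := by
    intro a b hab
    have h1 : (a : G)⁻¹ * (ν * a * ν⁻¹) = (b : G)⁻¹ * (ν * b * ν⁻¹) := congrArg Subtype.val hab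
    have hd : (b : G) * (a : G)⁻¹ ∈ U := U.mul_mem b.2 (U.inv_mem a.2)
    have h2 : ν * ((b : G) * (a : G)⁻¹) * ν⁻¹ = (b : G) * (a : G)⁻¹ := by
      have e1 : ν * ((b : G) * (a : G)⁻¹) * ν⁻¹ = (ν * b * ν⁻¹) * (ν * a * ν⁻¹)⁻¹ := by group
      have e2 : ν * a * ν⁻¹ = (a : G) * ((b : G)⁻¹ * (ν * b * ν⁻¹)) := by rw [← h1]; group
      rw [e1, e2]
      have c1 := hUab _ (hconj b b.2) _ (U.inv_mem (U.inv_mem b.2))
      have c2 := hUab _ (hconj b b.2) _ (U.inv_mem a.2)
      calc ν * ↑b * ν⁻¹ * (↑a * ((b : G)⁻¹ * (ν * ↑b * ν⁻¹)))⁻¹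
          = (ν * ↑b * ν⁻¹) * ((ν * ↑b * ν⁻¹)⁻¹ * (b : G)⁻¹⁻¹ * (a : G)⁻¹) := by group
        _ = (b : G) * (a : G)⁻¹ := by group
    have h3 := hfp _ hd h2
    apply Subtype.ext
    have : (b : G) = a := by
      calc (b : G) = ((b : G) * (a : G)⁻¹) * a := by group
        _ = a := by rw [h3, one_mul]
    exact this.symm
  have hsurj : Function.Surjective f := Finite.surjective_of_injective hinj
  intro b hb
  obtain ⟨a, ha⟩ := hsurj ⟨b, hb⟩
  exact ⟨a, a.2, (congrArg Subtype.val ha).symm⟩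

end classes

end Cfsg.Agent.Lib.Helper9
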