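import Mathlib
import Cfsg.Agent.Lib.Helper9.WF13

set_option autoImplicit false

namespace Cfsg.Agent.Lib.Helper9

namespace WD

section internal

variable {S : Type*} [Group S] (D : WD S)

theorem A_mem_zpowers_g1 (k : ZMod D.N) (hk : 4 * k = 0) :
    D.A k (-k) ∈ Subgroup.zpowers (D.A D.v (-D.v)) := by
  have h1 : D.A D.v (-D.v) ∈ Subgroup.zpowers (D.A D.v (-D.v)) := Subgroup.mem_zpowers _
  rcases D.four_mul_eq_zero k hk with rfl | rfl | rfl | rfl
  · rw [neg_zero, D.A_zero]; exact Subgroup.one_mem _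
  · exact h1
  · have : D.A D.u (-D.u) = D.A D.v (-D.v) * D.A D.v (-D.v) := by
      rw [D.A_mul_A]; congr 1
      · linear_combination -D.two_v
      · linear_combination D.two_v
    rw [this]; exact Subgroup.mul_mem _ h1 h1
  · rw [← D.A_inv]; exact Subgroup.inv_mem _ h1

/-- every nonzero residue has a multiple equal to `u` -/
theorem exists_mul_eq_u (j : ZMod D.N) (hj : j ≠ 0) : ∃ r : ℕ, (r : ZMod D.N) * j = D.u := by
  have key : ∀ i : ℕ, ∀ j : ZMod D.N, ((2 ^ i : ℕ) : ZMod D.N) * j = 0 → j ≠ 0 →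
      ∃ r : ℕ, (r : ZMod D.N) * j = D.u := by
    intro i
    induction i with
    | zero =>
      intro j h0 hj
      exfalso; apply hj
      simpa using h0
    | succ i ih =>
      intro j h0 hj
      by_cases h2 : 2 * j = 0
      · rcases D.two_mul_eq_zero j h2 with h | h
        · exact absurd h hj
        · exact ⟨1, by rw [h]; simp⟩
      · have h3 : ((2 ^ i : ℕ) : ZMod D.N) * (2 * j) = 0 := by
          rw [← h0]; push_cast; ring
        obtain ⟨r, hr⟩ := ih (2 * j) h3 h2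
        exact ⟨r * 2, by rw [← hr]; push_cast; ring⟩
  apply key D.n j _ hj
  have : ((2 ^ D.n : ℕ) : ZMod D.N) = 0 := D.natCast_N
  rw [this, zero_mul]

end internal

section WF14

variable {G : Type*} [Group G] [Finite G] (S : Sylow 2 G) (D : WD ↥(S : Subgroup G))

theorem orderOf_tt_g : orderOf D.tt = 2 := by
  rw [Subgroup.orderOf_coe]; exact D.orderOf_t

theorem orderOf_zz_g : orderOf D.zz = 2 := by
  rw [Subgroup.orderOf_coe]
  have := D.orderOf_Binv 0
  rwa [neg_zero] at this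

theorem invol_cases_w (t : G) (ht : orderOf t = 2) :
    IsConj t D.zeta ∨ IsConj t D.tt ∨ IsConj t D.zz := by
  haveI : Fact (Nat.Prime 2) := ⟨Nat.prime_two⟩
  obtain ⟨m, -, hm⟩ := exists_conj_mem_sylow_of_mem (p := 2) ⊤ S le_top t ⟨1, by rw [ht]; rfl⟩
    (Subgroup.mem_top t)
  have ho : orderOf (⟨m * t * m⁻¹, hm⟩ : ↥(S : Subgroup G)) = 2 := by
    rw [← Subgroup.orderOf_coe]
    show orderOf (m * t * m⁻¹) = 2
    rw [orderOf_conj_eq]; exact ht
  have hconj : IsConj t (m * t * m⁻¹) := isConj_iff.mpr ⟨m, rfl⟩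
  rcases (D.orderOf_two_iff _).mp ho with h | h | h | ⟨i, h⟩
  · left
    have : m * t * m⁻¹ = D.zeta := congrArg Subtype.val h
    rw [← this]; exact hconj
  · right; left
    have : m * t * m⁻¹ = D.tt := congrArg Subtype.val h
    rw [← this]; exact hconj
  · right; left
    have : m * t * m⁻¹ = D.tt' := congrArg Subtype.val h
    exact (this ▸ hconj).trans D.isConj_tt_tt'.symm
  · right; right
    have : m * t * m⁻¹ = ((D.B i (-i) : ↥(S : Subgroup G)) : G) := congrArg Subtype.val h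
    exact (this ▸ hconj).trans (D.isConj_zz_B i).symm

theorem relIndex_Ug : D.Ug.relIndex (S : Subgroup G) = 2 := by
  unfold Ug
  rw [relIndex_map_subtype_eq]; exact D.index_U

theorem Ug_le_oddClosure
    (h₁ : (Subgroup.centralizer (D.Ug : Set G)).relIndex (Subgroup.normalizer (D.Ug : Set G)) = 6) :
    D.Ug ≤ oddClosure G := by
  obtain ⟨ν, hνN, hνo, hνf⟩ := (WD.U_index S D).2.2.2 h₁
  intro b hb
  obtain ⟨a, -, rfl⟩ := fpf_surj D.Ug (D.Ug_isPGroup S.2) D.Ug_comm hνN
    (fun a ha hao => hνf a ((D.mem_Tg_iff_sq ha).mpr (by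
      rw [← pow_two, ← hao]; exact pow_orderOf_eq_one a)) (by
      intro h1
      rw [h1, orderOf_one] at hao
      omega)) b hb
  exact comm_mem_oddClosure hνo a

theorem exists_B_mem_oddClosure (c : ZMod D.N)
    (h₂ : (D.Vg c ⊔ Subgroup.centralizer (D.Vg c : Set G)).relIndex
        (Subgroup.normalizer (D.Vg c : Set G)) = 6) :
    ∃ k l, ((D.B k l : ↥(S : Subgroup G)) : G) ∈ oddClosure G := by
  obtain ⟨ν, hνN, hνo, hνf⟩ := (WD.V_index S D c).2.2.2 h₂
  have hνQ := normalizer_Vg_le_Qg S D c hνN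
  have hx : ν * D.g1 * ν⁻¹ ∈ D.Qg c := conj_mem_of_mem_normalizer hνQ (D.g1_mem_Qg c)
  obtain ⟨s, hs, hsx⟩ := hx
  have hmove := hνf (D.A₁ c)
  have hmove' : Subgroup.zpowers (ν * D.g1 * ν⁻¹) ≠ Subgroup.zpowers D.g1 := by
    intro hc
    apply hmove
    show (Subgroup.zpowers D.g1).map _ = Subgroup.zpowers D.g1
    rw [map_conj_zpowers]; exact hc
  rcases hs with ⟨k, hk, rfl⟩ | ⟨k, l, hkl, hk, rfl⟩
  · exfalso
    apply hmove'
    have hmem : ν * D.g1 * ν⁻¹ ∈ Subgroup.zpowers D.g1 := by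
      have h1 := D.A_mem_zpowers_g1 k hk
      have h2 : ((D.A k (-k) : ↥(S : Subgroup G)) : G) ∈
          (Subgroup.zpowers (D.A D.v (-D.v))).map (S : Subgroup G).subtype := ⟨_, h1, rfl⟩
      rw [MonoidHom.map_zpowers] at h2
      rw [← hsx]; exact h2
    apply zpowers_eq_of_mem_of_orderOf_eq hmem
    · rw [orderOf_conj_eq]
    · rw [D.orderOf_g1g]; norm_num
  · refine ⟨-D.v + k, D.v + l, ?_⟩
    have h1 := comm_mem_oddClosure hνo D.g1
    have e : D.g1⁻¹ * (ν * D.g1 * ν⁻¹) =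
        ((D.B (-D.v + k) (D.v + l) : ↥(S : Subgroup G)) : G) := by
      have e1 : (D.A D.v (-D.v))⁻¹ * D.B k l = D.B (-D.v + k) (D.v + l) := by
        rw [D.A_inv, D.A_mul_B, neg_neg]
      have := coe_eq_of_eq e1
      rw [← this]
      have hsx' : ν * D.g1 * ν⁻¹ = ((D.B k l : ↥(S : Subgroup G)) : G) := hsx.symm
      rw [hsx']; simp
    rw [← e]; exact h1

theorem sylow_le_oddClosure (c : ZMod D.N)
    (h₁ : (Subgroup.centralizer (D.Ug : Set G)).relIndex (Subgroup.normalizer (D.Ug : Set G)) = 6)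
    (h₂ : (D.Vg c ⊔ Subgroup.centralizer (D.Vg c : Set G)).relIndex
        (Subgroup.normalizer (D.Vg c : Set G)) = 6) :
    (S : Subgroup G) ≤ oddClosure G := by
  have hU := Ug_le_oddClosure S D h₁
  obtain ⟨k, l, hB⟩ := exists_B_mem_oddClosure S D c h₂
  intro s hs
  by_cases hsU : s ∈ D.Ug
  · exact hU hsU
  · have hidx : (D.Ug.subgroupOf (S : Subgroup G)).index = 2 := relIndex_Ug S D
    have hb : (D.B k l : ↥(S : Subgroup G)) ∉ D.Ug.subgroupOf (S : Subgroup G) := by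
      rw [Subgroup.mem_subgroupOf]; exact D.B_notMem_Ug k l
    have hs' : (⟨s, hs⟩ : ↥(S : Subgroup G)) ∉ D.Ug.subgroupOf (S : Subgroup G) := by
      rw [Subgroup.mem_subgroupOf]; exact hsU
    have h1 := (Subgroup.mul_mem_iff_of_index_two hidx
      (a := (⟨s, hs⟩ : ↥(S : Subgroup G))) (b := D.B k l)).mpr (iff_of_false hs' hb)
    rw [Subgroup.mem_subgroupOf] at h1
    have h2 : s * ((D.B k l : ↥(S : Subgroup G)) : G) ∈ oddClosure G := hU h1
    have := Subgroup.mul_mem _ h2 (Subgroup.inv_mem _ hB)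
    simpa using this

end WF14

end WD

end Cfsg.Agent.Lib.Helper9
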