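import Mathlib
import Cfsg.Agent.Lib.Helper9.WF14

set_option autoImplicit false

namespace Cfsg.Agent.Lib.Helper9

section npc

variable {G : Type*} [Group G]

/-- Burnside's theorem applied inside a normal subgroup of index two -/
theorem npc_of_index_two [Finite G] (S : Sylow 2 G) (U K : Subgroup G) (hKn : K.Normal)
    (hK : K.index = 2) (hUK : U ≤ K) (hUS : U ≤ (S : Subgroup G))
    (hU2 : U.relIndex (S : Subgroup G) = 2)
    (hNC : ∀ k ∈ K, k ∈ Subgroup.normalizer (U : Set G) → k ∈ Subgroup.centralizer (U : Set G)) :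
    Cfsg.HasNormalPComplement 2 G := by
  classical
  haveI : Fact (Nat.Prime 2) := ⟨Nat.prime_two⟩
  have hidx : U.relIndex K = (S : Subgroup G).index := by
    have h1 := Subgroup.relIndex_mul_index hUK
    have h2 := Subgroup.relIndex_mul_index hUS
    rw [hK] at h1; rw [hU2] at h2; omega
  have hU2g : IsPGroup 2 U := S.2.to_le hUS
  have hP2 : IsPGroup 2 (U.subgroupOf K) :=
    hU2g.comap_of_injective K.subtype K.subtype_injective
  have hPi : ¬ 2 ∣ (U.subgroupOf K).index := by
    show ¬ 2 ∣ U.relIndex K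
    rw [hidx]; exact S.not_dvd_index
  set P : Sylow 2 ↥K := hP2.toSylow hPi with hP
  have hPcoe : (P : Subgroup ↥K) = U.subgroupOf K := rfl
  have hNCK : Subgroup.normalizer ((P : Subgroup ↥K) : Set ↥K) ≤
      Subgroup.centralizer ((P : Subgroup ↥K) : Set ↥K) := by
    intro k hk
    rw [hPcoe] at hk ⊢
    have hkN : (k : G) ∈ Subgroup.normalizer (U : Set G) := by
      apply mem_normalizer_of_conj_mem'
      intro a ha
      have h1 := (Subgroup.mem_normalizer_iff.mp hk ⟨a, hUK ha⟩).mp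
        (by rw [Subgroup.mem_subgroupOf]; exact ha)
      rw [Subgroup.mem_subgroupOf] at h1
      simpa using h1
    have hkC := hNC k k.2 hkN
    rw [Subgroup.mem_centralizer_iff] at hkC ⊢
    intro a ha
    rw [SetLike.mem_coe, Subgroup.mem_subgroupOf] at ha
    exact Subtype.ext (hkC a ha)
  have hcomp := MonoidHom.ker_transferSylow_isComplement' P hNCK
  set N₀ : Subgroup ↥K := (MonoidHom.transferSylow P hNCK).ker with hN₀
  haveI hN₀n : N₀.Normal := MonoidHom.normal_ker _
  set N : Subgroup G := N₀.map K.subtype with hN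
  have hmemN : ∀ x : G, x ∈ N ↔ x ∈ K ∧ Nat.Coprime (orderOf x) 2 := by
    intro x
    constructor
    · rintro ⟨y, hy, rfl⟩
      refine ⟨y.2, ?_⟩
      have := (Cfsg.Agent.Lib.Helper1.mem_normal_complement_iff P N₀ hcomp y).mp hy
      show (orderOf (y : G)).Coprime 2
      rw [Subgroup.orderOf_coe]; exact this
    · rintro ⟨hxK, hxo⟩
      refine ⟨⟨x, hxK⟩, ?_, rfl⟩
      apply (Cfsg.Agent.Lib.Helper1.mem_normal_complement_iff P N₀ hcomp ⟨x, hxK⟩).mpr
      rwa [← Subgroup.orderOf_coe]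
  have hNn : N.Normal := by
    constructor
    intro x hx g
    rw [hmemN] at hx ⊢
    exact ⟨hKn.conj_mem x hx.1 g, by rw [orderOf_conj_eq]; exact hx.2⟩
  have hcardN : Nat.card N = (S : Subgroup G).index := by
    rw [hN, Subgroup.card_map_of_injective K.subtype_injective]
    have h1 := hcomp.card_mul_card
    have h2 := Subgroup.card_mul_index (P : Subgroup ↥K)
    have h3 : (P : Subgroup ↥K).index = (S : Subgroup G).index := by
      rw [hPcoe]; exact hidx
    have hpos : 0 < Nat.card (P : Subgroup ↥K) := Nat.card_pos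
    rw [h3] at h2
    nlinarith
  refine ⟨S, N, hNn, ?_⟩
  apply Subgroup.isComplement'_of_coprime
  · rw [hcardN, mul_comm]; exact Subgroup.card_mul_index _
  · rw [hcardN]
    obtain ⟨m, hm⟩ := IsPGroup.iff_card.mp S.2
    rw [hm]
    apply Nat.Coprime.pow_right
    exact ((Nat.Prime.coprime_iff_not_dvd Nat.prime_two).mpr S.not_dvd_index).symm

end npc

end Cfsg.Agent.Lib.Helper9

namespace Cfsg.Agent.Lib.Helper9

namespace WD

section WF15

variable {G : Type*} [Group G] [Finite G] (S : Sylow 2 G) (D : WD ↥(S : Subgroup G))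

/-- under no fusion of `ζ, t, z`, no element `A k 0` is fused to an element outside `U` -/
theorem B_not_conj_A (hζt : ¬ IsConj D.zeta D.tt) (htz : ¬ IsConj D.tt D.zz)
    (k p q : ZMod D.N) (g : G) :
    g⁻¹ * ((D.A k 0 : ↥(S : Subgroup G)) : G) * g ≠ ((D.B p q : ↥(S : Subgroup G)) : G) := by
  intro heq
  have hsq : g⁻¹ * ((D.A (k + k) 0 : ↥(S : Subgroup G)) : G) * g =
      ((D.A (p + q) (q + p) : ↥(S : Subgroup G)) : G) := by
    have e1 : ((D.A (k + k) 0 : ↥(S : Subgroup G)) : G) =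
        ((D.A k 0 : ↥(S : Subgroup G)) : G) * ((D.A k 0 : ↥(S : Subgroup G)) : G) := by
      have : D.A k 0 * D.A k 0 = D.A (k + k) 0 := by rw [D.A_mul_A, add_zero]
      have := coe_eq_of_eq this; simpa using this.symm
    have e2 : ((D.A (p + q) (q + p) : ↥(S : Subgroup G)) : G) =
        ((D.B p q : ↥(S : Subgroup G)) : G) * ((D.B p q : ↥(S : Subgroup G)) : G) := by
      have := coe_eq_of_eq (D.B_mul_B p q p q); simpa using this.symm
    rw [e1, e2, ← heq]; group
  by_cases h2k : k + k = 0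
  · rcases D.two_mul_eq_zero k (by linear_combination h2k) with rfl | rfl
    · rw [D.A_zero] at heq
      have h1 : ((D.B p q : ↥(S : Subgroup G)) : G) = 1 := by rw [← heq]; simp
      have h2 : D.B p q = D.A 0 0 := by rw [D.A_zero]; exact Subtype.ext h1
      exact D.B_ne_A _ _ _ _ h2
    · rw [h2k, D.A_zero] at hsq
      have h1 : ((D.A (p + q) (q + p) : ↥(S : Subgroup G)) : G) = 1 := by rw [← hsq]; simp
      have h2 : D.A (p + q) (q + p) = 1 := Subtype.ext h1
      have hq : q = -p := by linear_combination (D.A_eq_one _ _ h2).1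
      subst hq
      apply htz
      exact (isConj_iff.mpr ⟨g⁻¹, by rw [inv_inv]; exact heq⟩).trans (D.isConj_zz_B p).symm
  · obtain ⟨r, hr⟩ := D.exists_mul_eq_u (k + k) h2k
    have hpow : g⁻¹ * D.tt * g =
        ((D.A ((r : ZMod D.N) * (p + q)) ((r : ZMod D.N) * (q + p)) : ↥(S : Subgroup G)) : G) := by
      have e1 : D.tt = ((D.A (k + k) 0 : ↥(S : Subgroup G)) : G) ^ r := by
        have : (D.A (k + k) 0) ^ r = D.A D.u 0 := by
          rw [D.A_pow, hr, mul_zero]
        have := coe_eq_of_eq this; simpa using this.symm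
      have e2 : ((D.A ((r : ZMod D.N) * (p + q)) ((r : ZMod D.N) * (q + p)) :
          ↥(S : Subgroup G)) : G) = ((D.A (p + q) (q + p) : ↥(S : Subgroup G)) : G) ^ r := by
        have := coe_eq_of_eq (D.A_pow (p + q) (q + p) r); simpa using this.symm
      rw [e1, e2, ← hsq]
      have := conj_pow (a := g⁻¹) (b := ((D.A (k + k) 0 : ↥(S : Subgroup G)) : G)) (i := r)
      rw [inv_inv] at this
      exact this.symm
    have ho : orderOf (D.A ((r : ZMod D.N) * (p + q)) ((r : ZMod D.N) * (q + p))) = 2 := by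
      rw [← Subgroup.orderOf_coe, ← hpow]
      have := orderOf_conj_eq g⁻¹ D.tt
      rw [inv_inv] at this
      rw [this]; exact WD.orderOf_tt_g S D
    have hmm : (r : ZMod D.N) * (p + q) = (r : ZMod D.N) * (q + p) := by ring
    rcases (D.orderOf_two_iff _).mp ho with h | h | h | ⟨i, h⟩
    · apply hζt
      rw [h] at hpow
      exact (isConj_iff.mpr ⟨g⁻¹, by rw [inv_inv]; exact hpow⟩).symm
    · obtain ⟨h1, h2⟩ := D.A_inj h
      apply D.u_ne_zero
      rw [← h1, hmm, h2]
    · obtain ⟨h1, h2⟩ := D.A_inj h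
      apply D.u_ne_zero
      rw [← h2, ← hmm, h1]
    · exact D.B_ne_A _ _ _ _ h.symm

theorem xx_mem_ker (hζt : ¬ IsConj D.zeta D.tt) (htz : ¬ IsConj D.tt D.zz) :
    ((D.A 1 0 : ↥(S : Subgroup G)) : G) ∈ (transferTwo S D.Ug (relIndex_Ug S D)).ker := by
  rw [MonoidHom.mem_ker]
  apply transferTwo_eq_one
  intro g k hk
  have e : ((D.A 1 0 : ↥(S : Subgroup G)) : G) ^ k = ((D.A (k : ZMod D.N) 0 : ↥(S : Subgroup G)) : G) := by
    have : (D.A 1 0) ^ k = D.A (k : ZMod D.N) 0 := by
      rw [D.A_pow, mul_one, mul_zero]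
    have := coe_eq_of_eq this; simpa using this
  rw [e] at hk ⊢
  rcases D.cases ⟨_, hk⟩ with ⟨i, j, h⟩ | ⟨i, j, h⟩
  · have := congrArg (Subtype.val : ↥(S : Subgroup G) → G) h
    simp only at this
    rw [this]; exact D.A_mem_Ug i j
  · exfalso
    have := congrArg (Subtype.val : ↥(S : Subgroup G) → G) h
    simp only at this
    exact B_not_conj_A S D hζt htz _ i j g this

theorem Ug_le_transferTwo_ker (hζt : ¬ IsConj D.zeta D.tt) (htz : ¬ IsConj D.tt D.zz) :
    D.Ug ≤ (transferTwo S D.Ug (relIndex_Ug S D)).ker := by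
  set K := (transferTwo S D.Ug (relIndex_Ug S D)).ker with hK
  haveI hKn : K.Normal := MonoidHom.normal_ker _
  have hx := xx_mem_ker S D hζt htz
  have hy : ((D.A 0 1 : ↥(S : Subgroup G)) : G) ∈ K := by
    have h1 := hKn.conj_mem _ hx D.zz
    have e : D.zz * ((D.A 1 0 : ↥(S : Subgroup G)) : G) * D.zz⁻¹ =
        ((D.A 0 1 : ↥(S : Subgroup G)) : G) := by
      have := coe_eq_of_eq (D.B_conj_A 0 0 1 0); simpa using this
    rwa [e] at h1
  intro a ha
  obtain ⟨i, j, rfl⟩ := D.exists_of_mem_Ug ha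
  have e : ((D.A i j : ↥(S : Subgroup G)) : G) =
      ((D.A 1 0 : ↥(S : Subgroup G)) : G) ^ i.val * ((D.A 0 1 : ↥(S : Subgroup G)) : G) ^ j.val := by
    have : D.A i j = (D.A 1 0) ^ i.val * (D.A 0 1) ^ j.val := by
      rw [D.A_pow, D.A_pow, D.A_mul_A, ZMod.natCast_zmod_val, ZMod.natCast_zmod_val]
      congr 1 <;> ring
    have := coe_eq_of_eq this; simpa using this
  rw [e]
  exact K.mul_mem (K.pow_mem hx _) (K.pow_mem hy _)

theorem transferTwo_zz (hζz : ¬ IsConj D.zeta D.zz) (htz : ¬ IsConj D.tt D.zz) :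
    transferTwo S D.Ug (relIndex_Ug S D) D.zz = -1 := by
  apply transferTwo_eq_neg_one S D.Ug (relIndex_Ug S D) 1 le_rfl
  · intro y _ hyM
    have hpos : 0 < orderOf y := orderOf_pos y
    have hne : orderOf y ≠ 1 := by
      intro h1
      rw [orderOf_eq_one_iff] at h1
      exact hyM (h1 ▸ D.Ug.one_mem)
    simp only [Nat.sub_self, pow_zero]
    omega
  · rw [pow_one]; exact WD.orderOf_zz_g S D
  · intro g hg
    have ho : orderOf (g * D.zz * g⁻¹) = 2 := by
      rw [orderOf_conj_eq]; exact WD.orderOf_zz_g S D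
    have hconj : IsConj D.zz (g * D.zz * g⁻¹) := isConj_iff.mpr ⟨g, rfl⟩
    rcases D.involution_Ug_cases hg ho with h | h | h
    · rw [h] at hconj; exact hζz hconj.symm
    · rw [h] at hconj; exact htz hconj.symm
    · rw [h] at hconj; exact htz (D.isConj_tt_tt'.trans hconj.symm)

/-- the normal 2-complement in the nilpotent case -/
theorem npc_w (hζt : ¬ IsConj D.zeta D.tt) (hζz : ¬ IsConj D.zeta D.zz)
    (htz : ¬ IsConj D.tt D.zz)
    (h₁ : (Subgroup.centralizer (D.Ug : Set G)).relIndex (Subgroup.normalizer (D.Ug : Set G)) = 2) :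
    Cfsg.HasNormalPComplement 2 G := by
  haveI : Fact (Nat.Prime 2) := ⟨Nat.prime_two⟩
  set K := (transferTwo S D.Ug (relIndex_Ug S D)).ker with hK
  haveI hKn : K.Normal := MonoidHom.normal_ker _
  have hzz := transferTwo_zz S D hζz htz
  have hKi : K.index = 2 := index_ker_of_eq_neg_one _ D.zz hzz
  have hzzK : D.zz ∉ K := by
    rw [hK, MonoidHom.mem_ker, hzz]; decide
  have hUK := Ug_le_transferTwo_ker S D hζt htz
  -- `S ∩ K = U`
  have hSK : ∀ s ∈ (S : Subgroup G), s ∈ K → s ∈ D.Ug := by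
    intro s hs hsK
    by_contra hsU
    have hidx : (D.Ug.subgroupOf (S : Subgroup G)).index = 2 := relIndex_Ug S D
    have hb : (D.B 0 0 : ↥(S : Subgroup G)) ∉ D.Ug.subgroupOf (S : Subgroup G) := by
      rw [Subgroup.mem_subgroupOf]; exact D.B_notMem_Ug 0 0
    have hs' : (⟨s, hs⟩ : ↥(S : Subgroup G)) ∉ D.Ug.subgroupOf (S : Subgroup G) := by
      rw [Subgroup.mem_subgroupOf]; exact hsU
    have h1 := (Subgroup.mul_mem_iff_of_index_two hidx
      (a := (⟨s, hs⟩ : ↥(S : Subgroup G))) (b := D.B 0 0)).mpr (iff_of_false hs' hb)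
    rw [Subgroup.mem_subgroupOf] at h1
    have h2 : s * D.zz ∈ K := hUK h1
    apply hzzK
    have := K.mul_mem (K.inv_mem hsK) h2
    simpa using this
  apply npc_of_index_two S D.Ug K hKn hKi hUK D.Ug_le (relIndex_Ug S D)
  intro k hkK hkN
  obtain ⟨e, r, hr, hcop, ho1, ho2⟩ := exists_two_odd_parts k
  have h1 : k ^ (2 ^ e) ∈ Subgroup.centralizer (D.Ug : Set G) := by
    have hmem : k ^ (2 ^ e) ∈ Subgroup.normalizer (D.Ug : Set G) := Subgroup.pow_mem _ hkN _
    have hodd : Odd (orderOf (⟨k ^ (2 ^ e), hmem⟩ : ↥(Subgroup.normalizer (D.Ug : Set G)))) := by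
      rw [← Subgroup.orderOf_coe]
      show Odd (orderOf (k ^ (2 ^ e)))
      rw [ho1]; exact hr
    have h3 : ((Subgroup.centralizer (D.Ug : Set G)).subgroupOf
        (Subgroup.normalizer (D.Ug : Set G))).index = 2 := h₁
    have := mem_of_odd_of_index_two h3 hodd
    rwa [Subgroup.mem_subgroupOf] at this
  have h2 : k ^ r ∈ Subgroup.centralizer (D.Ug : Set G) := by
    obtain ⟨m, hm, hms⟩ := exists_conj_mem_sylow_of_mem (p := 2)
      (Subgroup.normalizer (D.Ug : Set G)) S D.le_normalizer_Ug (k ^ r) ⟨e, ho2⟩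
      (Subgroup.pow_mem _ hkN _)
    have hmsK : m * k ^ r * m⁻¹ ∈ K := hKn.conj_mem _ (K.pow_mem hkK _) m
    have hmsU := hSK _ hms hmsK
    have h3 := inv_conj_mem_of_mem_normalizer hm hmsU
    have e2 : m⁻¹ * (m * k ^ r * m⁻¹) * m = k ^ r := by group
    rw [e2] at h3
    rw [Subgroup.mem_centralizer_iff]
    intro a ha
    exact D.Ug_comm a ha _ h3
  exact mem_of_pow_mem_of_coprime hcop h1 h2

end WF15

end WD

end Cfsg.Agent.Lib.Helper9
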