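import Mathlib
import Cfsg.Agent.Lib.Helper9.WF15

set_option autoImplicit false

namespace Cfsg.Agent.Lib.Helper9

namespace WD

section WF16

variable {G : Type*} [Group G] [Finite G] (S : Sylow 2 G) (D : WD ↥(S : Subgroup G))

theorem zz_mem_normalizer_Ug : D.zz ∈ Subgroup.normalizer (D.Ug : Set G) :=
  D.le_normalizer_Ug (D.B 0 0).2

theorem zz_notMem_centralizer_Ug : D.zz ∉ Subgroup.centralizer (D.Ug : Set G) := by
  intro hc
  have h1 := Subgroup.mem_centralizer_iff.mp hc _ (D.A_mem_Ug D.u 0)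
  have h2 : D.A D.u 0 * D.B 0 0 = D.B 0 0 * D.A D.u 0 := Subtype.ext (by simpa using h1)
  rw [D.A_mul_B, D.B_mul_A] at h2
  have h3 := (D.B_inj h2).1
  apply D.u_ne_zero
  linear_combination h3

theorem normalizer_Ug_cases
    (h₁ : (Subgroup.centralizer (D.Ug : Set G)).relIndex (Subgroup.normalizer (D.Ug : Set G)) = 2)
    {x : G} (hx : x ∈ Subgroup.normalizer (D.Ug : Set G)) :
    x ∈ Subgroup.centralizer (D.Ug : Set G) ∨ D.zz⁻¹ * x ∈ Subgroup.centralizer (D.Ug : Set G) := by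
  by_cases hxC : x ∈ Subgroup.centralizer (D.Ug : Set G)
  · left; exact hxC
  · right
    have hidx : ((Subgroup.centralizer (D.Ug : Set G)).subgroupOf
        (Subgroup.normalizer (D.Ug : Set G))).index = 2 := h₁
    have hzN := zz_mem_normalizer_Ug S D
    have hz' : (⟨D.zz, hzN⟩ : ↥(Subgroup.normalizer (D.Ug : Set G)))⁻¹ ∉
        (Subgroup.centralizer (D.Ug : Set G)).subgroupOf (Subgroup.normalizer (D.Ug : Set G)) := by
      rw [Subgroup.inv_mem_iff, Subgroup.mem_subgroupOf]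
      exact zz_notMem_centralizer_Ug S D
    have hx' : (⟨x, hx⟩ : ↥(Subgroup.normalizer (D.Ug : Set G))) ∉
        (Subgroup.centralizer (D.Ug : Set G)).subgroupOf (Subgroup.normalizer (D.Ug : Set G)) := by
      rw [Subgroup.mem_subgroupOf]; exact hxC
    have h1 := (Subgroup.mul_mem_iff_of_index_two hidx
      (a := (⟨D.zz, hzN⟩ : ↥(Subgroup.normalizer (D.Ug : Set G)))⁻¹)
      (b := ⟨x, hx⟩)).mpr (iff_of_false hz' hx')
    rw [Subgroup.mem_subgroupOf] at h1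
    simpa using h1

/-- fusion in `U` is controlled by `S` when `N_G(U)` has index two over `C_G(U)` -/
theorem Ug_fusion
    (h₁ : (Subgroup.centralizer (D.Ug : Set G)).relIndex (Subgroup.normalizer (D.Ug : Set G)) = 2)
    {a : G} (ha : a ∈ D.Ug) {w : G} (hw : w * a * w⁻¹ ∈ D.Ug) :
    w * a * w⁻¹ = a ∨ w * a * w⁻¹ = D.zz * a * D.zz⁻¹ := by
  haveI : Fact (Nat.Prime 2) := ⟨Nat.prime_two⟩
  set a₁ := w * a * w⁻¹ with ha₁
  have hU2 : IsPGroup 2 D.Ug := D.Ug_isPGroup S.2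
  have hP1 : D.Ug ≤ Subgroup.centralizer ({a₁} : Set G) := by
    intro b hb
    rw [Subgroup.mem_centralizer_singleton_iff]
    exact D.Ug_comm b hb a₁ hw
  have hP2 : D.Ug.map (MulAut.conj w).toMonoidHom ≤ Subgroup.centralizer ({a₁} : Set G) := by
    rintro _ ⟨b, hb, rfl⟩
    rw [Subgroup.mem_centralizer_singleton_iff]
    have h1 := D.Ug_comm b hb a ha
    simp only [MulEquiv.coe_toMonoidHom, MulAut.conj_apply]
    rw [ha₁]
    calc w * b * w⁻¹ * (w * a * w⁻¹) = w * (b * a) * w⁻¹ := by group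
      _ = w * (a * b) * w⁻¹ := by rw [h1]
      _ = w * a * w⁻¹ * (w * b * w⁻¹) := by group
  obtain ⟨k, m, hm, hk1, hk2⟩ := two_sub_juggle S _ D.Ug _ hU2 (hU2.map _) hP1 hP2
  rw [Subgroup.mem_centralizer_singleton_iff] at hm
  have hkN : k ∈ Subgroup.normalizer (D.Ug : Set G) :=
    Subgroup.mem_normalizer_iff_map_conj_eq.mpr (map_conj_Ug_eq S D hk1)
  have hkmw : ∀ b ∈ D.Ug, (k * m * w) * b * (k * m * w)⁻¹ ∈ (S : Subgroup G) := by
    intro b hb
    have h1 := hk2 (w * b * w⁻¹) ⟨b, hb, by simp⟩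
    have e : (k * m * w) * b * (k * m * w)⁻¹ = k * (m * (w * b * w⁻¹) * m⁻¹) * k⁻¹ := by group
    rw [e]; exact h1
  have hkmwN : k * m * w ∈ Subgroup.normalizer (D.Ug : Set G) :=
    Subgroup.mem_normalizer_iff_map_conj_eq.mpr (map_conj_Ug_eq S D hkmw)
  have hxN : m * w ∈ Subgroup.normalizer (D.Ug : Set G) := by
    have := Subgroup.mul_mem _ (Subgroup.inv_mem _ hkN) hkmwN
    have e : k⁻¹ * (k * m * w) = m * w := by group
    rwa [e] at this
  have hxa : (m * w) * a * (m * w)⁻¹ = a₁ := by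
    calc (m * w) * a * (m * w)⁻¹ = m * (w * a * w⁻¹) * m⁻¹ := by group
      _ = (m * a₁) * m⁻¹ := by rw [ha₁]
      _ = (a₁ * m) * m⁻¹ := by rw [hm]
      _ = a₁ := by group
  rcases normalizer_Ug_cases S D h₁ hxN with hc | hc
  · left
    have h1 := Subgroup.mem_centralizer_iff.mp hc a ha
    rw [← hxa, ← h1]; group
  · right
    have h1 := Subgroup.mem_centralizer_iff.mp hc a ha
    rw [← hxa]
    calc (m * w) * a * (m * w)⁻¹
        = D.zz * ((D.zz⁻¹ * (m * w)) * a) * (D.zz⁻¹ * (m * w))⁻¹ * D.zz⁻¹ := by group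
      _ = D.zz * (a * (D.zz⁻¹ * (m * w))) * (D.zz⁻¹ * (m * w))⁻¹ * D.zz⁻¹ := by rw [h1]
      _ = D.zz * a * D.zz⁻¹ := by group

/-- (W1) central elements are not moved inside `U` -/
theorem conj_eq_of_mem_Ug
    (h₁ : (Subgroup.centralizer (D.Ug : Set G)).relIndex (Subgroup.normalizer (D.Ug : Set G)) = 2)
    {a : G} (ha : a ∈ D.Zg) {w : G} (hw : w * a * w⁻¹ ∈ D.Ug) : w * a * w⁻¹ = a := by
  rcases Ug_fusion S D h₁ (D.Zg_le_Ug ha) hw with h | h
  · exact h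
  · rw [h]
    have := D.Zg_comm ha (D.B 0 0).2
    calc D.zz * a * D.zz⁻¹ = (a * D.zz) * D.zz⁻¹ := by rw [this]
      _ = a := by group

/-- (W2) central elements are not fused to elements outside `U` -/
theorem not_conj_B_of_mem_Zg
    (h₁ : (Subgroup.centralizer (D.Ug : Set G)).relIndex (Subgroup.normalizer (D.Ug : Set G)) = 2)
    (htz : IsConj D.tt D.zz) {a : G} (ha : a ∈ D.Zg) (w : G) (p q : ZMod D.N) :
    w * a * w⁻¹ ≠ ((D.B p q : ↥(S : Subgroup G)) : G) := by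
  intro heq
  obtain ⟨m, rfl⟩ := D.exists_of_mem_Zg ha
  -- squares
  have hsq : w * ((D.A (m + m) (m + m) : ↥(S : Subgroup G)) : G) * w⁻¹ =
      ((D.A (p + q) (q + p) : ↥(S : Subgroup G)) : G) := by
    have e1 : ((D.A (m + m) (m + m) : ↥(S : Subgroup G)) : G) =
        ((D.A m m : ↥(S : Subgroup G)) : G) * ((D.A m m : ↥(S : Subgroup G)) : G) := by
      have := coe_eq_of_eq (D.A_mul_A m m m m); simpa using this.symm
    have e2 : ((D.A (p + q) (q + p) : ↥(S : Subgroup G)) : G) =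
        ((D.B p q : ↥(S : Subgroup G)) : G) * ((D.B p q : ↥(S : Subgroup G)) : G) := by
      have := coe_eq_of_eq (D.B_mul_B p q p q); simpa using this.symm
    rw [e1, e2, ← heq]; group
  have h2 := conj_eq_of_mem_Ug S D h₁ (D.AA_mem_Zg (m + m)) (w := w)
    (by rw [hsq]; exact D.A_mem_Ug _ _)
  rw [hsq] at h2
  have hpq : p + q = m + m := (D.A_inj (Subtype.ext h2)).1
  set c := p - m + D.v with hc
  have hmem : ((D.B p q : ↥(S : Subgroup G)) : G) ∈ D.Eg c := by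
    have e : D.B p q = D.A (m - D.v) (m - D.v) * D.B c (D.u - c) := by
      rw [D.A_mul_B]; congr 1
      · rw [hc]; ring
      · rw [hc]; linear_combination hpq + D.two_v
    have e' := coe_eq_of_eq e
    rw [e']
    have : ((D.A (m - D.v) (m - D.v) * D.B c (D.u - c) : ↥(S : Subgroup G)) : G) =
        ((D.A (m - D.v) (m - D.v) : ↥(S : Subgroup G)) : G) * D.g2 c := by simp
    rw [this]
    exact Subgroup.mul_mem _ (D.Zg_le_Eg c (D.AA_mem_Zg _)) (D.g2_mem_Eg c)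
  obtain ⟨k₁, hk₁⟩ := stepA S D c htz
  have h3 := conj_eq_of_mem_Ug S D h₁ (D.AA_mem_Zg m) (w := k₁)
    (hk₁ _ (D.Zg_le_Eg c (D.AA_mem_Zg m)))
  have h4 : (k₁ * w) * ((D.A m m : ↥(S : Subgroup G)) : G) * (k₁ * w)⁻¹ ∈ D.Ug := by
    have e : (k₁ * w) * ((D.A m m : ↥(S : Subgroup G)) : G) * (k₁ * w)⁻¹ =
        k₁ * (w * ((D.A m m : ↥(S : Subgroup G)) : G) * w⁻¹) * k₁⁻¹ := by group
    rw [e, heq]; exact hk₁ _ hmem
  have h5 := conj_eq_of_mem_Ug S D h₁ (D.AA_mem_Zg m) h4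
  have h6 : k₁ * ((D.B p q : ↥(S : Subgroup G)) : G) * k₁⁻¹ =
      k₁ * ((D.A m m : ↥(S : Subgroup G)) : G) * k₁⁻¹ := by
    rw [h3, ← h5, ← heq]; group
  have h7 : ((D.B p q : ↥(S : Subgroup G)) : G) = ((D.A m m : ↥(S : Subgroup G)) : G) :=
    mul_left_cancel (mul_right_cancel h6)
  exact D.B_ne_A _ _ _ _ (Subtype.ext h7)

/-- every subgroup of the centre is weakly closed -/
theorem weaklyClosed_of_le_Zg
    (h₁ : (Subgroup.centralizer (D.Ug : Set G)).relIndex (Subgroup.normalizer (D.Ug : Set G)) = 2)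
    (htz : IsConj D.tt D.zz) (Z₀ : Subgroup G) (hZ₀ : Z₀ ≤ D.Zg) :
    Cfsg.IsWeaklyClosed Z₀ (S : Subgroup G) := by
  refine ⟨hZ₀.trans D.Zg_le, ?_⟩
  intro g hg
  haveI : Finite Z₀ := inferInstance
  apply map_conj_eq_of_forall_mem
  intro a ha
  have haS : g * a * g⁻¹ ∈ (S : Subgroup G) := hg ⟨a, ha, by simp⟩
  rcases D.cases ⟨_, haS⟩ with ⟨i, j, h⟩ | ⟨i, j, h⟩
  · have h' : g * a * g⁻¹ = ((D.A i j : ↥(S : Subgroup G)) : G) := congrArg Subtype.val h
    have := conj_eq_of_mem_Ug S D h₁ (hZ₀ ha) (w := g) (by rw [h']; exact D.A_mem_Ug i j)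
    rw [this]; exact ha
  · exfalso
    have h' : g * a * g⁻¹ = ((D.B i j : ↥(S : Subgroup G)) : G) := congrArg Subtype.val h
    exact not_conj_B_of_mem_Zg S D h₁ htz (hZ₀ ha) g i j h'

end WF16

end WD

end Cfsg.Agent.Lib.Helper9
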