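import Mathlib
import Cfsg.Agent.Lib.Helper9.WF16

set_option autoImplicit false

namespace Cfsg.Agent.Lib.Helper9

namespace WD

section internal

variable {S : Type*} [Group S] (D : WD S)

open Classical in
/-- the homomorphism `S → ZMod N` with kernel `Qs`, as a function -/
noncomputable def phiFun (s : S) : ZMod D.N :=
  if h : ∃ i j, s = D.A i j then h.choose + h.choose_spec.choose
  else if h' : ∃ i j, s = D.B i j then h'.choose + h'.choose_spec.choose - D.u else 0

theorem phiFun_A (i j : ZMod D.N) : D.phiFun (D.A i j) = i + j := by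
  classical
  have h : ∃ i' j', D.A i j = D.A i' j' := ⟨i, j, rfl⟩
  unfold phiFun
  rw [dif_pos h]
  obtain ⟨h1, h2⟩ := D.A_inj h.choose_spec.choose_spec
  linear_combination -h1 - h2

theorem phiFun_B (i j : ZMod D.N) : D.phiFun (D.B i j) = i + j - D.u := by
  classical
  have hn : ¬ ∃ i' j', D.B i j = D.A i' j' := by
    rintro ⟨i', j', h⟩
    exact D.B_ne_A _ _ _ _ h
  have h : ∃ i' j', D.B i j = D.B i' j' := ⟨i, j, rfl⟩
  unfold phiFun
  rw [dif_neg hn, dif_pos h]
  obtain ⟨h1, h2⟩ := D.B_inj h.choose_spec.choose_spec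
  linear_combination -h1 - h2

theorem phiFun_mul (s t : S) : D.phiFun (s * t) = D.phiFun s + D.phiFun t := by
  rcases D.cases s with ⟨i, j, rfl⟩ | ⟨i, j, rfl⟩ <;> rcases D.cases t with ⟨k, l, rfl⟩ | ⟨k, l, rfl⟩
  · rw [D.A_mul_A, D.phiFun_A, D.phiFun_A, D.phiFun_A]; ring
  · rw [D.A_mul_B, D.phiFun_B, D.phiFun_A, D.phiFun_B]; ring
  · rw [D.B_mul_A, D.phiFun_B, D.phiFun_B, D.phiFun_A]; ring
  · rw [D.B_mul_B, D.phiFun_A, D.phiFun_B, D.phiFun_B]
    linear_combination D.two_u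

/-- the homomorphism `S → ZMod N` with kernel `Qs` -/
noncomputable def phi : S →* Multiplicative (ZMod D.N) where
  toFun s := Multiplicative.ofAdd (D.phiFun s)
  map_one' := by
    rw [← D.A_zero, D.phiFun_A, add_zero]; rfl
  map_mul' s t := by
    rw [D.phiFun_mul]; rfl

theorem phi_A (i j : ZMod D.N) : D.phi (D.A i j) = Multiplicative.ofAdd (i + j) := by
  show Multiplicative.ofAdd (D.phiFun (D.A i j)) = _
  rw [D.phiFun_A]

theorem phi_B (i j : ZMod D.N) : D.phi (D.B i j) = Multiplicative.ofAdd (i + j - D.u) := by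
  show Multiplicative.ofAdd (D.phiFun (D.B i j)) = _
  rw [D.phiFun_B]

theorem Qs_le_ker_phi : D.Qs ≤ D.phi.ker := by
  rintro g (⟨k, rfl⟩ | ⟨k, l, hkl, rfl⟩)
  · rw [MonoidHom.mem_ker, D.phi_A]
    have : k + -k = 0 := by ring
    rw [this]; rfl
  · rw [MonoidHom.mem_ker, D.phi_B, hkl, sub_self]; rfl

end internal

section WF17

variable {G : Type*} [Group G] [Finite G] (S : Sylow 2 G) (D : WD ↥(S : Subgroup G))

@[reducible] noncomputable def xx : G := ((D.A 1 0 : ↥(S : Subgroup G)) : G)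

theorem xx_pow (r : ℕ) : D.xx ^ r = ((D.A (r : ZMod D.N) 0 : ↥(S : Subgroup G)) : G) := by
  have : (D.A 1 0) ^ r = D.A (r : ZMod D.N) 0 := by
    rw [D.A_pow, mul_one, mul_zero]
  have := coe_eq_of_eq this; simpa using this

/-- if `A k 0` is fused to an element outside `U` (and `ζ`, `t` are not fused) then both are
involutions -/
theorem conj_A_eq_B (hζt : ¬ IsConj D.zeta D.tt) (k p q : ZMod D.N) (g : G)
    (heq : g⁻¹ * ((D.A k 0 : ↥(S : Subgroup G)) : G) * g = ((D.B p q : ↥(S : Subgroup G)) : G)) :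
    k = D.u ∧ q = -p := by
  have hsq : g⁻¹ * ((D.A (k + k) 0 : ↥(S : Subgroup G)) : G) * g =
      ((D.A (p + q) (q + p) : ↥(S : Subgroup G)) : G) := by
    have e1 : ((D.A (k + k) 0 : ↥(S : Subgroup G)) : G) =
        ((D.A k 0 : ↥(S : Subgroup G)) : G) * ((D.A k 0 : ↥(S : Subgroup G)) : G) := by
      have : D.A k 0 * D.A k 0 = D.A (k + k) 0 := by rw [D.A_mul_A, add_zero]
      have := coe_eq_of_eq this; simpa using this.symm
    have e2 : ((D.A (p + q) (q + p) : ↥(S : Subgroup G)) : G) =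
        ((D.B p q : ↥(S : Subgroup G)) : G) * ((D.B p q : ↥(S : Subgroup G)) : G) := by
      have := coe_eq_of_eq (D.B_mul_B p q p q); simpa using this.symm
    rw [e1, e2, ← heq]; group
  by_cases h2k : k + k = 0
  · rcases D.two_mul_eq_zero k (by linear_combination h2k) with rfl | rfl
    · exfalso
      rw [D.A_zero] at heq
      have h1 : ((D.B p q : ↥(S : Subgroup G)) : G) = 1 := by rw [← heq]; simp
      have h2 : D.B p q = D.A 0 0 := by rw [D.A_zero]; exact Subtype.ext h1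
      exact D.B_ne_A _ _ _ _ h2
    · rw [h2k, D.A_zero] at hsq
      have h1 : ((D.A (p + q) (q + p) : ↥(S : Subgroup G)) : G) = 1 := by rw [← hsq]; simp
      have h2 : D.A (p + q) (q + p) = 1 := Subtype.ext h1
      exact ⟨rfl, by linear_combination (D.A_eq_one _ _ h2).1⟩
  · exfalso
    obtain ⟨r, hr⟩ := D.exists_mul_eq_u (k + k) h2k
    have hpow : g⁻¹ * D.tt * g =
        ((D.A ((r : ZMod D.N) * (p + q)) ((r : ZMod D.N) * (q + p)) : ↥(S : Subgroup G)) : G) := by
      have e1 : D.tt = ((D.A (k + k) 0 : ↥(S : Subgroup G)) : G) ^ r := by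
        have : (D.A (k + k) 0) ^ r = D.A D.u 0 := by
          rw [D.A_pow, hr, mul_zero]
        have := coe_eq_of_eq this; simpa using this.symm
      have e2 : ((D.A ((r : ZMod D.N) * (p + q)) ((r : ZMod D.N) * (q + p)) :
          ↥(S : Subgroup G)) : G) = ((D.A (p + q) (q + p) : ↥(S : Subgroup G)) : G) ^ r := by
        have := coe_eq_of_eq (D.A_pow (p + q) (q + p) r); simpa using this.symm
      rw [e1, e2, ← hsq]
      have := conj_pow (a := g⁻¹) (b := ((D.A (k + k) 0 : ↥(S : Subgroup G)) : G)) (i := r)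
      rw [inv_inv] at this
      exact this.symm
    have ho : orderOf (D.A ((r : ZMod D.N) * (p + q)) ((r : ZMod D.N) * (q + p))) = 2 := by
      rw [← Subgroup.orderOf_coe, ← hpow]
      have := orderOf_conj_eq g⁻¹ D.tt
      rw [inv_inv] at this
      rw [this]; exact WD.orderOf_tt_g S D
    have hmm : (r : ZMod D.N) * (p + q) = (r : ZMod D.N) * (q + p) := by ring
    rcases (D.orderOf_two_iff _).mp ho with h | h | h | ⟨i, h⟩
    · apply hζt
      rw [h] at hpow
      exact (isConj_iff.mpr ⟨g⁻¹, by rw [inv_inv]; exact hpow⟩).symm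
    · obtain ⟨h1, h2⟩ := D.A_inj h
      apply D.u_ne_zero
      rw [← h1, hmm, h2]
    · obtain ⟨h1, h2⟩ := D.A_inj h
      apply D.u_ne_zero
      rw [← h2, ← hmm, h1]
    · exact D.B_ne_A _ _ _ _ h.symm

/-- stability of `phi` on the conjugates of powers of `A 1 0` -/
theorem phi_conj_xx_pow (hζt : ¬ IsConj D.zeta D.tt)
    (h₁ : (Subgroup.centralizer (D.Ug : Set G)).relIndex (Subgroup.normalizer (D.Ug : Set G)) = 2)
    (g : G) (r : ℕ) (hmem : g⁻¹ * D.xx ^ r * g ∈ (S : Subgroup G)) :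
    D.phi ⟨g⁻¹ * D.xx ^ r * g, hmem⟩ = Multiplicative.ofAdd (r : ZMod D.N) := by
  have hxr := xx_pow S D r
  rcases D.cases ⟨_, hmem⟩ with ⟨i, j, h⟩ | ⟨i, j, h⟩
  · have h' : g⁻¹ * D.xx ^ r * g = ((D.A i j : ↥(S : Subgroup G)) : G) := congrArg Subtype.val h
    rw [h, D.phi_A]
    rw [hxr] at h'
    have hf := Ug_fusion S D h₁ (D.A_mem_Ug (r : ZMod D.N) 0) (w := g⁻¹)
      (by rw [inv_inv, h']; exact D.A_mem_Ug i j)
    rw [inv_inv, h'] at hf
    rcases hf with hf | hf
    · obtain ⟨e1, e2⟩ := D.A_inj (Subtype.ext hf)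
      rw [e1, e2, add_zero]
    · have e : D.zz * ((D.A (r : ZMod D.N) 0 : ↥(S : Subgroup G)) : G) * D.zz⁻¹ =
          ((D.A 0 (r : ZMod D.N) : ↥(S : Subgroup G)) : G) := by
        have := coe_eq_of_eq (D.B_conj_A 0 0 (r : ZMod D.N) 0); simpa using this
      rw [e] at hf
      obtain ⟨e1, e2⟩ := D.A_inj (Subtype.ext hf)
      rw [e1, e2, zero_add]
  · have h' : g⁻¹ * D.xx ^ r * g = ((D.B i j : ↥(S : Subgroup G)) : G) := congrArg Subtype.val h
    rw [h, D.phi_B]
    rw [hxr] at h'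
    obtain ⟨e1, e2⟩ := conj_A_eq_B S D hζt _ i j g h'
    rw [e1, e2]
    congr 1
    linear_combination -D.two_u

open MonoidHom MulAction Subgroup in
/-- the value of the transfer on `A 1 0` -/
theorem transfer_phi_xx (hζt : ¬ IsConj D.zeta D.tt)
    (h₁ : (Subgroup.centralizer (D.Ug : Set G)).relIndex (Subgroup.normalizer (D.Ug : Set G)) = 2) :
    MonoidHom.transfer D.phi D.xx =
      Multiplicative.ofAdd (((S : Subgroup G).index : ℕ) : ZMod D.N) := by
  classical
  let _ : Fintype (Quotient (orbitRel (zpowers D.xx) (G ⧸ (S : Subgroup G)))) := Fintype.ofFinite _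
  rw [transfer_eq_prod_quotient_orbitRel_zpowers_quot D.phi D.xx]
  have hterm : ∀ q : Quotient (orbitRel (zpowers D.xx) (G ⧸ (S : Subgroup G))),
      D.phi ⟨q.out.out⁻¹ * D.xx ^ Function.minimalPeriod (D.xx • ·) q.out * q.out.out,
            QuotientGroup.out_conj_pow_minimalPeriod_mem (S : Subgroup G) D.xx q.out⟩ =
        Multiplicative.ofAdd ((Function.minimalPeriod (D.xx • ·) q.out : ℕ) : ZMod D.N) :=
    fun q => phi_conj_xx_pow S D hζt h₁ _ _ _
  rw [Finset.prod_congr rfl (fun q _ => hterm q), ← ofAdd_sum,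
    Subgroup.index_eq_sum_minimalPeriod (S : Subgroup G) D.xx, Nat.cast_sum]

end WF17

end WD

end Cfsg.Agent.Lib.Helper9
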