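import Mathlib
import Cfsg.Agent.Lib.Helper9.WF17

set_option autoImplicit false

namespace Cfsg.Agent.Lib.Helper9

namespace WD

section WF18

variable {G : Type*} [Group G] [Finite G] (S : Sylow 2 G) (D : WD ↥(S : Subgroup G))

/-- the kernel of the transfer into `S / Qs` -/
noncomputable def Kq : Subgroup G := (MonoidHom.transfer D.phi).ker

instance Kq_normal : (Kq S D).Normal := MonoidHom.normal_ker _

theorem coprime_index_N : Nat.Coprime (S : Subgroup G).index D.N := by
  unfold N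
  apply Nat.Coprime.pow_right
  exact ((Nat.Prime.coprime_iff_not_dvd Nat.prime_two).mpr S.not_dvd_index).symm

/-- every element of the target is the image of a power of `A 1 0` -/
theorem transfer_xx_pow_surj (hζt : ¬ IsConj D.zeta D.tt)
    (h₁ : (Subgroup.centralizer (D.Ug : Set G)).relIndex (Subgroup.normalizer (D.Ug : Set G)) = 2)
    (y : Multiplicative (ZMod D.N)) : ∃ j : ℕ, MonoidHom.transfer D.phi (D.xx ^ j) = y := by
  have hι := ZMod.coe_mul_inv_eq_one (S : Subgroup G).index (coprime_index_N S D)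
  set ι : ZMod D.N := (((S : Subgroup G).index : ℕ) : ZMod D.N) with hιdef
  set t : ZMod D.N := Multiplicative.toAdd y with ht
  refine ⟨(t * ι⁻¹).val, ?_⟩
  rw [map_pow, transfer_phi_xx S D hζt h₁, ← ofAdd_nsmul, nsmul_eq_mul, ZMod.natCast_zmod_val]
  have : t * ι⁻¹ * ι = t := by
    rw [mul_assoc, mul_comm ι⁻¹ ι, hι, mul_one]
  rw [this, ht]
  rfl

theorem index_Kq (hζt : ¬ IsConj D.zeta D.tt)
    (h₁ : (Subgroup.centralizer (D.Ug : Set G)).relIndex (Subgroup.normalizer (D.Ug : Set G)) = 2) :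
    (Kq S D).index = 2 ^ D.n := by
  unfold Kq
  rw [Subgroup.index_ker]
  have hrange : (MonoidHom.transfer D.phi).range = ⊤ := by
    rw [eq_top_iff]
    intro y _
    obtain ⟨j, hj⟩ := transfer_xx_pow_surj S D hζt h₁ y
    exact ⟨_, hj⟩
  rw [hrange, Subgroup.card_top, Nat.card_congr Multiplicative.toAdd, Nat.card_zmod]
  rfl

theorem odd_mem_Kq {g : G} (hg : Odd (orderOf g)) : g ∈ Kq S D := by
  unfold Kq
  rw [MonoidHom.mem_ker]
  set y := MonoidHom.transfer D.phi g with hy
  have h1 : y ^ orderOf g = 1 := by rw [hy, ← map_pow, pow_orderOf_eq_one, map_one]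
  have h2 : y ^ D.N = 1 := by
    have := pow_card_eq_one' (G := Multiplicative (ZMod D.N)) (x := y)
    rwa [Nat.card_congr Multiplicative.toAdd, Nat.card_zmod] at this
  have h3 : orderOf y ∣ Nat.gcd (orderOf g) D.N :=
    Nat.dvd_gcd (orderOf_dvd_of_pow_eq_one h1) (orderOf_dvd_of_pow_eq_one h2)
  have h4 : Nat.Coprime (orderOf g) D.N := by
    unfold N
    apply Nat.Coprime.pow_right
    exact (Nat.coprime_two_right).mpr hg
  rw [h4] at h3
  exact orderOf_eq_one_iff.mp (Nat.dvd_one.mp h3)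

theorem card_subgroupOf_Kq (hζt : ¬ IsConj D.zeta D.tt)
    (h₁ : (Subgroup.centralizer (D.Ug : Set G)).relIndex (Subgroup.normalizer (D.Ug : Set G)) = 2) :
    Nat.card ((Kq S D).subgroupOf (S : Subgroup G)) = 2 ^ (D.n + 1) := by
  set f : ↥(S : Subgroup G) →* Multiplicative (ZMod D.N) :=
    (MonoidHom.transfer D.phi).comp (S : Subgroup G).subtype with hf
  have hker : f.ker = (Kq S D).subgroupOf (S : Subgroup G) := by
    ext s
    rw [MonoidHom.mem_ker, Subgroup.mem_subgroupOf]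
    unfold Kq
    rw [MonoidHom.mem_ker]
    rfl
  have hrange : f.range = ⊤ := by
    rw [eq_top_iff]
    intro y _
    obtain ⟨j, hj⟩ := transfer_xx_pow_surj S D hζt h₁ y
    exact ⟨(D.A 1 0) ^ j, by rw [hf]; simpa using hj⟩
  have hidx : f.ker.index = 2 ^ D.n := by
    rw [Subgroup.index_ker, hrange, Subgroup.card_top, Nat.card_congr Multiplicative.toAdd,
      Nat.card_zmod]
    rfl
  have h1 := Subgroup.card_mul_index f.ker
  rw [hidx, D.card, hker] at h1
  have h2 : 2 ^ (2 * D.n + 1) = 2 ^ (D.n + 1) * 2 ^ D.n := by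
    rw [← pow_add]; congr 1; ring
  rw [h2] at h1
  exact Nat.eq_of_mul_eq_mul_right (by positivity) h1

/-- the generalized quaternion subgroup, inside `G` -/
noncomputable def Qsg : Subgroup G := D.Qs.map (S : Subgroup G).subtype

theorem Qsg_le : Qsg S D ≤ (S : Subgroup G) := Subgroup.map_subtype_le _

theorem coe_mem_Qsg_iff (a : ↥(S : Subgroup G)) : (a : G) ∈ Qsg S D ↔ a ∈ D.Qs := by
  constructor
  · rintro ⟨b, hb, hba⟩
    have : b = a := Subtype.ext hba
    rw [← this]; exact hb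
  · intro h
    exact ⟨a, h, rfl⟩

theorem Qg_le_Qsg (c : ZMod D.N) : D.Qg c ≤ Qsg S D :=
  Subgroup.map_mono (D.Q8s_le_Qs c)

/-- if `Qs ≤ K` then `K ∩ S = Qs` -/
theorem subgroupOf_Kq_eq (hζt : ¬ IsConj D.zeta D.tt)
    (h₁ : (Subgroup.centralizer (D.Ug : Set G)).relIndex (Subgroup.normalizer (D.Ug : Set G)) = 2)
    (hQK : Qsg S D ≤ Kq S D) : (Kq S D).subgroupOf (S : Subgroup G) = D.Qs := by
  symm
  apply Subgroup.eq_of_le_of_card_ge
  · intro s hs
    rw [Subgroup.mem_subgroupOf]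
    exact hQK ((coe_mem_Qsg_iff S D s).mpr hs)
  · rw [card_subgroupOf_Kq S D hζt h₁, D.card_Qs]

end WF18

end WD

end Cfsg.Agent.Lib.Helper9
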