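import Mathlib
import Cfsg.Agent.Lib.Helper9.WF18

set_option autoImplicit false

namespace Cfsg.Agent.Lib.Helper9

section gen

variable {G : Type*} [Group G]

theorem perm_fin3_fpf_sq : ∀ (τ : Equiv.Perm (Fin 3)), (∀ i, τ i ≠ i) → ∀ i, τ (τ i) ≠ i := by
  decide

theorem perm_fpf_sq {X : Type*} [Fintype X] [DecidableEq X] (hX : Fintype.card X = 3)
    (σ : Equiv.Perm X) (h : ∀ x, σ x ≠ x) : ∀ x, σ (σ x) ≠ x := by
  let e : X ≃ Fin 3 := Fintype.equivFinOfCardEq hX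
  intro x hx
  have h1 := perm_fin3_fpf_sq (e.permCongr σ)
    (by
      intro i hi
      apply h (e.symm i)
      have : e (σ (e.symm i)) = i := by simpa [Equiv.permCongr_apply] using hi
      exact e.injective (by rw [this]; simp))
    (e x)
  apply h1
  simp [Equiv.permCongr_apply, hx]

/-- subgroup generated by the elements of odd order of `K` -/
def oddClosureIn (K : Subgroup G) : Subgroup G :=
  Subgroup.closure {g | g ∈ K ∧ Odd (orderOf g)}

theorem comm_mem_oddClosureIn {K : Subgroup G} {ν a : G} (hν : ν ∈ K) (hνo : Odd (orderOf ν))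
    (ha : a ∈ K) : a⁻¹ * (ν * a * ν⁻¹) ∈ oddClosureIn K := by
  have e : a⁻¹ * (ν * a * ν⁻¹) = (a⁻¹ * ν * a⁻¹⁻¹) * ν⁻¹ := by group
  rw [e]
  apply Subgroup.mul_mem
  · apply Subgroup.subset_closure
    refine ⟨K.mul_mem (K.mul_mem (K.inv_mem ha) hν) (K.inv_mem (K.inv_mem ha)), ?_⟩
    rw [orderOf_conj_eq]; exact hνo
  · apply Subgroup.subset_closure
    exact ⟨K.inv_mem hν, by rw [orderOf_inv]; exact hνo⟩

theorem oddClosureIn_le_of_index_two {K : Subgroup G} {H : Subgroup ↥K} (hH : H.index = 2) :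
    oddClosureIn K ≤ H.map K.subtype := by
  unfold oddClosureIn
  rw [Subgroup.closure_le]
  rintro g ⟨hgK, hgo⟩
  have h1 : (⟨g, hgK⟩ : ↥K) ∈ H := by
    apply mem_of_odd_of_index_two hH
    rw [← Subgroup.orderOf_coe]; exact hgo
  exact ⟨⟨g, hgK⟩, h1, rfl⟩

end gen

namespace WD

section WF19

variable {G : Type*} [Group G] [Finite G] (S : Sylow 2 G) (D : WD ↥(S : Subgroup G))

/-- an element of odd order of `N_G(V)` acting as a three-cycle -/
theorem V_index_odd_sq (c : ZMod D.N)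
    (h6 : (D.Vg c ⊔ Subgroup.centralizer (D.Vg c : Set G)).relIndex
        (Subgroup.normalizer (D.Vg c : Set G)) = 6) :
    ∃ ν ∈ Subgroup.normalizer (D.Vg c : Set G), Odd (orderOf ν) ∧
      (∀ A : Cyc4 (D.Qg c), A.1.map (MulAut.conj ν).toMonoidHom ≠ A.1) ∧
      (∀ A : Cyc4 (D.Qg c), (A.1.map (MulAut.conj ν).toMonoidHom).map
        (MulAut.conj ν).toMonoidHom ≠ A.1) := by
  classical
  letI := conjActSubOf (D.Qg c) (Subgroup.normalizer (D.Vg c : Set G))
    (normalizer_Vg_le_Qg S D c)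
  obtain ⟨ν, hν, hmove⟩ := three_point_odd_mover
    (N := ↥(Subgroup.normalizer (D.Vg c : Set G))) (X := Cyc4 (D.Qg c)) (D.card_cyc4 c)
    ((D.Vg c ⊔ Subgroup.centralizer (D.Vg c : Set G)).subgroupOf
      (Subgroup.normalizer (D.Vg c : Set G)))
    (Vg_ker_eq S D c) h6
  have hfin : Finite (Cyc4 (D.Qg c)) :=
    Nat.finite_of_card_ne_zero (by rw [D.card_cyc4 c]; norm_num)
  have hft : Fintype (Cyc4 (D.Qg c)) := Fintype.ofFinite _
  have hX' : Fintype.card (Cyc4 (D.Qg c)) = 3 := by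
    rw [← Nat.card_eq_fintype_card]; exact D.card_cyc4 c
  have hsq := perm_fpf_sq hX' (MulAction.toPerm ν) (fun x => hmove x)
  refine ⟨(ν : G), ν.2, ?_, ?_, ?_⟩
  · rw [Subgroup.orderOf_coe]; exact hν
  · intro A hc
    exact hmove A (Subtype.ext hc)
  · intro A hc
    exact hsq A (Subtype.ext hc)

theorem gens_mem_oddClosureIn (K : Subgroup G) (hodd : ∀ g : G, Odd (orderOf g) → g ∈ K)
    (hQK : Qsg S D ≤ K) (htz : IsConj D.tt D.zz) (c : ZMod D.N) :
    D.g1 ∈ oddClosureIn K ∧ D.g2 c ∈ oddClosureIn K := by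
  have h6 := index_V_of_fused S D c htz
  obtain ⟨ν, hνN, hνo, hm1, hm2⟩ := V_index_odd_sq S D c h6
  have hνK : ν ∈ K := hodd ν hνo
  have hνQ := normalizer_Vg_le_Qg S D c hνN
  have hQgK : D.Qg c ≤ K := (Qg_le_Qsg S D c).trans hQK
  have hx₁Q : ν * D.g1 * ν⁻¹ ∈ D.Qg c := conj_mem_of_mem_normalizer hνQ (D.g1_mem_Qg c)
  have hx₂Q : ν * (ν * D.g1 * ν⁻¹) * ν⁻¹ ∈ D.Qg c := conj_mem_of_mem_normalizer hνQ hx₁Q
  have hmv1 : Subgroup.zpowers (ν * D.g1 * ν⁻¹) ≠ Subgroup.zpowers D.g1 := by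
    intro hc
    apply hm1 (D.A₁ c)
    show (Subgroup.zpowers D.g1).map _ = Subgroup.zpowers D.g1
    rw [map_conj_zpowers]; exact hc
  have hmv2 : Subgroup.zpowers (ν * (ν * D.g1 * ν⁻¹) * ν⁻¹) ≠ Subgroup.zpowers D.g1 := by
    intro hc
    apply hm2 (D.A₁ c)
    show ((Subgroup.zpowers D.g1).map _).map _ = Subgroup.zpowers D.g1
    rw [map_conj_zpowers, map_conj_zpowers]; exact hc
  have ho₁ : orderOf (ν * D.g1 * ν⁻¹) = 4 := by rw [orderOf_conj_eq]; exact D.orderOf_g1g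
  have hmv3 : Subgroup.zpowers (ν * (ν * D.g1 * ν⁻¹) * ν⁻¹) ≠
      Subgroup.zpowers (ν * D.g1 * ν⁻¹) := by
    intro hc
    apply hm1 ⟨Subgroup.zpowers (ν * D.g1 * ν⁻¹), Subgroup.zpowers_le.mpr hx₁Q, _, ho₁, rfl⟩
    show (Subgroup.zpowers (ν * D.g1 * ν⁻¹)).map _ = Subgroup.zpowers (ν * D.g1 * ν⁻¹)
    rw [map_conj_zpowers]; exact hc
  -- elements of `Qg c ∩ U` generate the same group as `g1`
  have hA : ∀ x : G, orderOf x = 4 → ∀ k : ZMod D.N, 4 * k = 0 →
      x = ((D.A k (-k) : ↥(S : Subgroup G)) : G) → Subgroup.zpowers x = Subgroup.zpowers D.g1 := by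
    intro x hxo k hk hx
    have hmem : x ∈ Subgroup.zpowers D.g1 := by
      have h1 := D.A_mem_zpowers_g1 k hk
      have h2 : ((D.A k (-k) : ↥(S : Subgroup G)) : G) ∈
          (Subgroup.zpowers (D.A D.v (-D.v))).map (S : Subgroup G).subtype := ⟨_, h1, rfl⟩
      rw [MonoidHom.map_zpowers] at h2
      rw [hx]; exact h2
    apply zpowers_eq_of_mem_of_orderOf_eq hmem
    · rw [hxo, D.orderOf_g1g]
    · rw [D.orderOf_g1g]; norm_num
  obtain ⟨s₁, hs₁, hsx₁⟩ := hx₁Q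
  obtain ⟨s₂, hs₂, hsx₂⟩ := hx₂Q
  rcases hs₁ with ⟨k, hk, rfl⟩ | ⟨k, l, hkl, hk, rfl⟩
  · exact absurd (hA _ ho₁ k hk hsx₁.symm) hmv1
  have ho₂ : orderOf (ν * (ν * D.g1 * ν⁻¹) * ν⁻¹) = 4 := by rw [orderOf_conj_eq]; exact ho₁
  rcases hs₂ with ⟨k', hk', rfl⟩ | ⟨k', l', hkl', hk', rfl⟩
  · exact absurd (hA _ ho₂ k' hk' hsx₂.symm) hmv2
  have hx₁ : ν * D.g1 * ν⁻¹ = ((D.B k l : ↥(S : Subgroup G)) : G) := hsx₁.symm
  have hx₂ : ν * (ν * D.g1 * ν⁻¹) * ν⁻¹ = ((D.B k' l' : ↥(S : Subgroup G)) : G) := hsx₂.symm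
  have hl : l = D.u - k := by linear_combination hkl
  have hl' : l' = D.u - k' := by linear_combination hkl'
  have hδ : 4 * (k - k') = 0 := by linear_combination hk - hk'
  have hprod : (ν * D.g1 * ν⁻¹)⁻¹ * (ν * (ν * D.g1 * ν⁻¹) * ν⁻¹) =
      ((D.A (k - k') (-(k - k')) : ↥(S : Subgroup G)) : G) := by
    rw [hx₂, hx₁]
    have e : (D.B k l)⁻¹ * D.B k' l' = D.A (k - k') (-(k - k')) := by
      rw [D.B_inv, D.B_mul_B, hl, hl']; congr 1 <;> ring
    have := coe_eq_of_eq e; simpa using this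
  have hx₁K : ν * D.g1 * ν⁻¹ ∈ K := hQgK (by rw [hx₁]; exact ⟨_, Or.inr ⟨k, l, hkl, hk, rfl⟩, rfl⟩)
  have hO1 := comm_mem_oddClosureIn hνK hνo hx₁K
  rw [hprod] at hO1
  have hg1O : D.g1 ∈ oddClosureIn K := by
    rcases D.four_mul_eq_zero (k - k') hδ with h0 | h0 | h0 | h0
    · exfalso
      apply hmv3
      have hkk : k' = k := by linear_combination -h0
      have hll : l' = l := by rw [hl, hl', hkk]
      rw [hx₂, hx₁, hkk, hll]
    · rw [h0] at hO1; exact hO1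
    · exfalso
      apply hmv3
      have e : D.B k' l' = (D.B k l)⁻¹ := by
        rw [D.B_inv, hl, hl']; congr 1
        · linear_combination -h0
        · linear_combination h0 + D.two_u
      rw [hx₂, hx₁, e]
      have : (((D.B k l)⁻¹ : ↥(S : Subgroup G)) : G) = ((D.B k l : ↥(S : Subgroup G)) : G)⁻¹ := by
        simp
      rw [this, Subgroup.zpowers_inv]
    · rw [h0, neg_neg] at hO1
      have e : ((D.A (-D.v) D.v : ↥(S : Subgroup G)) : G) = D.g1⁻¹ := by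
        have := coe_eq_of_eq D.g1_inv; simpa using this.symm
      rw [e] at hO1
      have := Subgroup.inv_mem _ hO1
      simpa using this
  have hO2 := comm_mem_oddClosureIn hνK hνo (hQgK (D.g1_mem_Qg c))
  have hx₁O : ((D.B k l : ↥(S : Subgroup G)) : G) ∈ oddClosureIn K := by
    rw [← hx₁]
    have := Subgroup.mul_mem _ hg1O hO2
    simpa using this
  refine ⟨hg1O, ?_⟩
  have e : D.B c (D.u - c) = D.A (c - k) (-(c - k)) * D.B k l := by
    rw [D.A_mul_B, hl]; congr 1 <;> ring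
  have e' : D.g2 c = ((D.A (c - k) (-(c - k)) : ↥(S : Subgroup G)) : G) *
      ((D.B k l : ↥(S : Subgroup G)) : G) := by
    have := coe_eq_of_eq e; simpa using this
  rw [e']
  apply Subgroup.mul_mem _ _ hx₁O
  have h1 := D.A_mem_zpowers_g1 (c - k) (by linear_combination -hk)
  have h2 : ((D.A (c - k) (-(c - k)) : ↥(S : Subgroup G)) : G) ∈
      (Subgroup.zpowers (D.A D.v (-D.v))).map (S : Subgroup G).subtype := ⟨_, h1, rfl⟩
  rw [MonoidHom.map_zpowers] at h2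
  exact (Subgroup.zpowers_le.mpr hg1O) h2

theorem Qsg_le_oddClosureIn (K : Subgroup G) (hodd : ∀ g : G, Odd (orderOf g) → g ∈ K)
    (hQK : Qsg S D ≤ K) (htz : IsConj D.tt D.zz) : Qsg S D ≤ oddClosureIn K := by
  have hB : ∀ k l : ZMod D.N, k + l = D.u →
      ((D.B k l : ↥(S : Subgroup G)) : G) ∈ oddClosureIn K := by
    intro k l hkl
    have hl : l = D.u - k := by linear_combination hkl
    rw [hl]
    exact (gens_mem_oddClosureIn S D K hodd hQK htz k).2
  rintro _ ⟨s, (⟨k, rfl⟩ | ⟨k, l, hkl, rfl⟩), rfl⟩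
  · have e : D.A k (-k) = D.B (k + D.u) (-k) * D.B 0 D.u := by
      rw [D.B_mul_B]; congr 1
      · linear_combination -D.two_u
      · ring
    have h1 := hB (k + D.u) (-k) (by ring)
    have h2 := hB 0 D.u (by ring)
    have := Subgroup.mul_mem _ h1 h2
    have e' := coe_eq_of_eq e
    show ((D.A k (-k) : ↥(S : Subgroup G)) : G) ∈ oddClosureIn K
    rw [e']
    simpa using this
  · exact hB k l hkl

theorem Qsg_le_Kq (htz : IsConj D.tt D.zz) : Qsg S D ≤ Kq S D := by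
  have h1 := Qsg_le_oddClosureIn S D ⊤ (fun g _ => Subgroup.mem_top g) le_top htz
  refine h1.trans ?_
  unfold oddClosureIn
  rw [Subgroup.closure_le]
  rintro g ⟨-, hg⟩
  exact odd_mem_Kq S D hg

/-- `Kq` has no subgroup of index two -/
theorem no_index_two_Kq (htz : IsConj D.tt D.zz) (hζt : ¬ IsConj D.zeta D.tt)
    (h₁ : (Subgroup.centralizer (D.Ug : Set G)).relIndex (Subgroup.normalizer (D.Ug : Set G)) = 2)
    (H : Subgroup ↥(Kq S D)) : H.index ≠ 2 := by
  intro hH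
  have hQK := Qsg_le_Kq S D htz
  have h1 := Qsg_le_oddClosureIn S D (Kq S D) (fun g hg => odd_mem_Kq S D hg) hQK htz
  have h2 : Qsg S D ≤ H.map (Kq S D).subtype := h1.trans (oddClosureIn_le_of_index_two hH)
  have h3 : (H.map (Kq S D).subtype).index = 2 * 2 ^ D.n := by
    rw [Subgroup.index_map_subtype, hH, index_Kq S D hζt h₁]
  have h4 := Subgroup.index_dvd_of_le h2
  rw [h3] at h4
  have h5 : (Qsg S D).index = 2 ^ D.n * (S : Subgroup G).index := by
    have h6 := Subgroup.relIndex_mul_index (Qsg_le S D)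
    have h7 : (Qsg S D).relIndex (S : Subgroup G) = 2 ^ D.n := by
      unfold Qsg
      rw [relIndex_map_subtype_eq]
      have h8 := Subgroup.card_mul_index D.Qs
      rw [D.card_Qs, D.card] at h8
      have h9 : 2 ^ (2 * D.n + 1) = 2 ^ (D.n + 1) * 2 ^ D.n := by
        rw [← pow_add]; congr 1; ring
      rw [h9] at h8
      exact Nat.eq_of_mul_eq_mul_left (by positivity) h8
    rw [← h6, h7]
  rw [h5] at h4
  have h6 : 2 ∣ (S : Subgroup G).index := by
    have : 2 ^ D.n * 2 ∣ 2 ^ D.n * (S : Subgroup G).index := by rwa [mul_comm (2 ^ D.n) 2]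
    exact Nat.dvd_of_mul_dvd_mul_left (by positivity) this
  exact S.not_dvd_index h6

end WF19

end WD

end Cfsg.Agent.Lib.Helper9
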