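import Mathlib
import Cfsg.Agent.Lib.Helper9.WF19
import Cfsg.Agent.Lib.Helper24.IndexTwo

set_option autoImplicit false

namespace Cfsg.Agent.Lib.Helper9

namespace WD

section transport

variable {H S : Type*} [Group H] [Group S]

/-- transport the data of a wreathed group along an isomorphism -/
noncomputable def ofEquiv (e : H ≃* S) (D : WD S) : WD H where
  n := D.n
  hn := D.hn
  card := (Nat.card_congr e.toEquiv).trans D.card
  x := e.symm D.x
  y := e.symm D.y
  z := e.symm D.z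
  hx := by rw [MulEquiv.orderOf_eq]; exact D.hx
  hxy := by rw [← map_mul, D.hxy, map_mul]
  hdisj := by
    rw [eq_bot_iff]
    intro g hg
    rw [Subgroup.mem_inf] at hg
    obtain ⟨h1, h2⟩ := hg
    have h1' : e g ∈ Subgroup.zpowers D.x := by
      obtain ⟨k, rfl⟩ := Subgroup.mem_zpowers_iff.mp h1
      rw [map_zpow, MulEquiv.apply_symm_apply]; exact Subgroup.zpow_mem_zpowers _ _
    have h2' : e g ∈ Subgroup.zpowers D.y := by
      obtain ⟨k, rfl⟩ := Subgroup.mem_zpowers_iff.mp h2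
      rw [map_zpow, MulEquiv.apply_symm_apply]; exact Subgroup.zpow_mem_zpowers _ _
    have h3 : e g ∈ (⊥ : Subgroup S) := D.hdisj ▸ Subgroup.mem_inf.mpr ⟨h1', h2'⟩
    rw [Subgroup.mem_bot] at h3 ⊢
    exact (MulEquiv.map_eq_one_iff e).mp h3
  hz := by rw [MulEquiv.orderOf_eq]; exact D.hz
  hc := by rw [← map_inv, ← map_mul, ← map_mul, D.hc]

variable (e : H ≃* S) (D : WD S)

theorem ofEquiv_n : (ofEquiv e D).n = D.n := rfl

theorem ofEquiv_N : (ofEquiv e D).N = D.N := rfl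

theorem ofEquiv_X (i : ZMod D.N) : (ofEquiv e D).X i = e.symm (D.X i) := by
  have h1 : (ofEquiv e D).X i = (ofEquiv e D).x ^ (ZMod.val (n := (ofEquiv e D).N) i) :=
    X_eq_pow _ _
  rw [D.X_eq_pow i, map_pow]; exact h1

theorem ofEquiv_Yp (i : ZMod D.N) : (ofEquiv e D).Yp i = e.symm (D.Yp i) := by
  have h1 : (ofEquiv e D).Yp i = (ofEquiv e D).y ^ (ZMod.val (n := (ofEquiv e D).N) i) :=
    Yp_eq_pow _ _
  rw [D.Yp_eq_pow i, map_pow]; exact h1

theorem ofEquiv_A (i j : ZMod D.N) : (ofEquiv e D).A i j = e.symm (D.A i j) := by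
  unfold A
  rw [map_mul, ← ofEquiv_X, ← ofEquiv_Yp]

theorem ofEquiv_B (i j : ZMod D.N) : (ofEquiv e D).B i j = e.symm (D.B i j) := by
  unfold B
  rw [map_mul, ← ofEquiv_A]; rfl

theorem ofEquiv_u : (ofEquiv e D).u = D.u := rfl

theorem ofEquiv_v : (ofEquiv e D).v = D.v := rfl

end transport

section fuse

variable {G : Type*} [Group G] [Finite G] (S : Sylow 2 G) (D : WD ↥(S : Subgroup G))

/-- relative version of `fused_tt_zz_of_index_V`: the fusing element centralizes `ζ` -/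
theorem fused_tt_zz_rel (c : ZMod D.N)
    (h6 : (D.Vg c ⊔ Subgroup.centralizer (D.Vg c : Set G)).relIndex
        (Subgroup.normalizer (D.Vg c : Set G)) = 6) :
    ∃ h : G, h * D.zeta * h⁻¹ = D.zeta ∧ h * D.tt * h⁻¹ = D.zz := by
  obtain ⟨n, hn, hmap⟩ := (WD.V_index S D c).2.2.1 h6
  rw [map_conj_zpowers] at hmap
  have hmem : n * D.g1 * n⁻¹ ∈ Subgroup.zpowers (D.g2 c) := by
    rw [← hmap]; exact Subgroup.mem_zpowers _
  set a : G := ((D.A D.v D.v : ↥(S : Subgroup G)) : G) with ha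
  have haZ : a ∈ D.Zg := D.AA_mem_Zg D.v
  have hna : n * a * n⁻¹ = a := normalizer_Vg_centralizes S D c hn haZ
  have hnζ : n * D.zeta * n⁻¹ = D.zeta := normalizer_Vg_centralizes S D c hn D.zeta_mem_Zg
  have ht : D.tt = D.g1 * a := by
    have := coe_eq_of_eq D.t_eq; simpa using this.symm
  have hnt : n * D.tt * n⁻¹ = (n * D.g1 * n⁻¹) * a := by
    rw [ht]
    calc n * (D.g1 * a) * n⁻¹ = (n * D.g1 * n⁻¹) * (n * a * n⁻¹) := by group
      _ = (n * D.g1 * n⁻¹) * a := by rw [hna]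
  have key : ∃ k : ZMod D.N, n * D.tt * n⁻¹ = ((D.B k (-k) : ↥(S : Subgroup G)) : G) := by
    rcases mem_zpowers_order_four (D.orderOf_g2g c) hmem
      (by rw [orderOf_conj_eq]; exact D.orderOf_g1g) with hh | hh
    · rw [hh] at hnt
      have e : D.g2 c * a = ((D.B (c + D.v) (-(c + D.v)) : ↥(S : Subgroup G)) : G) := by
        have := coe_eq_of_eq (D.g2_mul_a c); simpa using this
      rw [e] at hnt
      exact ⟨_, hnt⟩
    · rw [hh] at hnt
      have e : (D.g2 c)⁻¹ * a =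
          ((D.B (c + D.u + D.v) (-(c + D.u + D.v)) : ↥(S : Subgroup G)) : G) := by
        have := coe_eq_of_eq (D.g2_inv_mul_a c); simpa using this
      rw [e] at hnt
      exact ⟨_, hnt⟩
  obtain ⟨k, hk⟩ := key
  obtain ⟨s, hs⟩ := isConj_iff.mp (D.isConj_B_z k)
  have hs' : (s : G) * D.zz * (s : G)⁻¹ = ((D.B k (-k) : ↥(S : Subgroup G)) : G) := by
    have := coe_eq_of_eq hs; simpa using this
  have hsζ : (s : G) * D.zeta = D.zeta * (s : G) := (D.Zg_comm D.zeta_mem_Zg s.2).symm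
  refine ⟨(s : G)⁻¹ * n, ?_, ?_⟩
  · calc (s : G)⁻¹ * n * D.zeta * ((s : G)⁻¹ * n)⁻¹
        = (s : G)⁻¹ * (n * D.zeta * n⁻¹) * (s : G) := by group
      _ = (s : G)⁻¹ * D.zeta * (s : G) := by rw [hnζ]
      _ = (s : G)⁻¹ * (D.zeta * (s : G)) := by group
      _ = (s : G)⁻¹ * ((s : G) * D.zeta) := by rw [hsζ]
      _ = D.zeta := by group
  · calc (s : G)⁻¹ * n * D.tt * ((s : G)⁻¹ * n)⁻¹
        = (s : G)⁻¹ * (n * D.tt * n⁻¹) * (s : G) := by group
      _ = (s : G)⁻¹ * ((s : G) * D.zz * (s : G)⁻¹) * (s : G) := by rw [hk, hs']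
      _ = D.zz := by group

/-- without subgroups of index two, all involutions are fused -/
theorem all_fused_of_no_index_two (hG : ∀ H : Subgroup G, H.index ≠ 2) :
    IsConj D.zeta D.tt ∧ IsConj D.tt D.zz := by
  have htz : IsConj D.tt D.zz := by
    by_contra htz
    have hζz : ¬ IsConj D.zeta D.zz :=
      fun hc => htz ((WD.fused_zeta_tt_of_zz S D hc).symm.trans hc)
    have hM := WD.relIndex_Ug S D
    obtain ⟨K, hKn, hKi, hKz⟩ := Cfsg.Agent.Lib.Helper19.exists_index_two_of_not_conj_mem S D.Ug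
      D.Ug_le hM 1 le_rfl
      (by
        intro y _ hyM
        have hpos : 0 < orderOf y := orderOf_pos y
        have hne : orderOf y ≠ 1 := by
          intro h1
          rw [orderOf_eq_one_iff] at h1
          exact hyM (h1 ▸ D.Ug.one_mem)
        simp only [Nat.sub_self, pow_zero]
        omega)
      D.zz (D.B 0 0).2 (by rw [pow_one]; exact WD.orderOf_zz_g S D)
      (by
        intro g hg
        have ho : orderOf (g * D.zz * g⁻¹) = 2 := by
          rw [orderOf_conj_eq]; exact WD.orderOf_zz_g S D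
        have hconj : IsConj D.zz (g * D.zz * g⁻¹) := isConj_iff.mpr ⟨g, rfl⟩
        rcases D.involution_Ug_cases hg ho with h | h | h
        · rw [h] at hconj; exact hζz hconj.symm
        · rw [h] at hconj; exact htz hconj.symm
        · rw [h] at hconj; exact htz (D.isConj_tt_tt'.trans hconj.symm))
    exact hG K hKi
  refine ⟨?_, htz⟩
  by_contra hζt
  have h₁ : (Subgroup.centralizer (D.Ug : Set G)).relIndex
      (Subgroup.normalizer (D.Ug : Set G)) = 2 := by
    rcases (WD.U_index S D).1 with h | h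
    · exact h
    · exfalso
      obtain ⟨n₁, -, hn₁e⟩ := (WD.U_index S D).2.2.1 h
      exact hζt (isConj_iff.mpr ⟨n₁, hn₁e⟩)
  have hi := WD.index_Kq S D hζt h₁
  have hn2 := D.hn
  have hi' : (WD.Kq S D).index = 2 ^ ((D.n - 1) + 1) := by
    rw [hi]; congr 1; omega
  obtain ⟨H, hH⟩ := Cfsg.Agent.Lib.Helper24.ix_of_normal_two_pow (WD.Kq S D) (D.n - 1) hi'
  exact hG H hH

end fuse

end WD

end Cfsg.Agent.Lib.Helper9
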