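import Mathlib
import Cfsg.Agent.Lib.Helper9.WF20

set_option autoImplicit false

namespace Cfsg.Agent.Lib.Helper9

namespace WD

section smul

variable {G : Type*} [Group G] [Finite G] (S : Sylow 2 G) (D : WD ↥(S : Subgroup G)) (g : G)

/-- transported data on the conjugate Sylow subgroup -/
noncomputable def smulWD : WD ↥((g • S : Sylow 2 G) : Subgroup G) :=
  ofEquiv (S.equivSMul g).symm D

theorem smulWD_A (i j : ZMod D.N) :
    (((smulWD S D g).A i j : ↥((g • S : Sylow 2 G) : Subgroup G)) : G) =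
      g * ((D.A i j : ↥(S : Subgroup G)) : G) * g⁻¹ := by
  unfold smulWD
  rw [ofEquiv_A]
  rfl

theorem smulWD_zeta : (smulWD S D g).zeta = g * D.zeta * g⁻¹ := smulWD_A S D g D.u D.u

end smul

section centr

variable {G : Type*} [Group G] [Finite G] (S : Sylow 2 G) (D : WD ↥(S : Subgroup G))

/-- the Sylow subgroup seen inside a subgroup `C` -/
noncomputable def centEquiv (C : Subgroup G) (hSC : (S : Subgroup G) ≤ C) :
    ↥((S.subtype hSC : Sylow 2 ↥C) : Subgroup ↥C) ≃* ↥(S : Subgroup G) :=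
  Subgroup.subgroupOfEquivOfLe hSC

theorem centEquiv_symm_coe (C : Subgroup G) (hSC : (S : Subgroup G) ≤ C)
    (s : ↥(S : Subgroup G)) :
    ((((centEquiv S C hSC).symm s : ↥((S.subtype hSC : Sylow 2 ↥C) : Subgroup ↥C)) : ↥C) : G) =
      (s : G) := rfl

/-- transported data on the Sylow subgroup seen inside a subgroup `C` -/
noncomputable def centWD (C : Subgroup G) (hSC : (S : Subgroup G) ≤ C) :
    WD ↥((S.subtype hSC : Sylow 2 ↥C) : Subgroup ↥C) :=
  ofEquiv (centEquiv S C hSC) D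

theorem centWD_A (C : Subgroup G) (hSC : (S : Subgroup G) ≤ C) (i j : ZMod D.N) :
    ((((centWD S D C hSC).A i j : ↥((S.subtype hSC : Sylow 2 ↥C) : Subgroup ↥C)) : ↥C) : G) =
      ((D.A i j : ↥(S : Subgroup G)) : G) := by
  unfold centWD
  rw [ofEquiv_A, centEquiv_symm_coe]

theorem centWD_B (C : Subgroup G) (hSC : (S : Subgroup G) ≤ C) (i j : ZMod D.N) :
    ((((centWD S D C hSC).B i j : ↥((S.subtype hSC : Sylow 2 ↥C) : Subgroup ↥C)) : ↥C) : G) =
      ((D.B i j : ↥(S : Subgroup G)) : G) := by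
  unfold centWD
  rw [ofEquiv_B, centEquiv_symm_coe]

theorem centralizer_main (hG : ∀ H : Subgroup G, H.index ≠ 2) :
    ∃ R : Sylow 2 ↥(Subgroup.centralizer ({D.zeta} : Set G)), Nat.card R = Nat.card S ∧
      (∃ K : Subgroup ↥(Subgroup.centralizer ({D.zeta} : Set G)), K.Normal ∧
        (∃ a : ℕ, K.index = 2 ^ a) ∧ (∀ H : Subgroup ↥K, H.index ≠ 2) ∧
        (∀ P : Sylow 2 ↥K, ∃ m : ℕ, 1 ≤ m ∧
          Nonempty ((P : Subgroup ↥K) ≃* QuaternionGroup (2 ^ m)))) ∧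
      (∀ Z₀ : Subgroup ↥(Subgroup.centralizer ({D.zeta} : Set G)),
        Z₀ ≤ ((Subgroup.center (R : Subgroup ↥(Subgroup.centralizer ({D.zeta} : Set G)))).map
          (R : Subgroup ↥(Subgroup.centralizer ({D.zeta} : Set G))).subtype) →
        Cfsg.IsWeaklyClosed Z₀ (R : Subgroup ↥(Subgroup.centralizer ({D.zeta} : Set G)))) := by
  classical
  haveI : Fact (Nat.Prime 2) := ⟨Nat.prime_two⟩
  set C : Subgroup G := Subgroup.centralizer ({D.zeta} : Set G) with hC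
  have hSC : (S : Subgroup G) ≤ C := by
    intro s hs
    rw [hC, Subgroup.mem_centralizer_singleton_iff]
    exact (D.Zg_comm D.zeta_mem_Zg hs).symm
  set R : Sylow 2 ↥C := S.subtype hSC with hR
  set DC : WD ↥(R : Subgroup ↥C) := centWD S D C hSC with hDC
  have hA : ∀ i j : ZMod D.N, (((DC.A i j : ↥(R : Subgroup ↥C)) : ↥C) : G) =
      ((D.A i j : ↥(S : Subgroup G)) : G) := centWD_A S D C hSC
  have hB : ∀ i j : ZMod D.N, (((DC.B i j : ↥(R : Subgroup ↥C)) : ↥C) : G) =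
      ((D.B i j : ↥(S : Subgroup G)) : G) := centWD_B S D C hSC
  have hcentral : ∀ c : ↥C, c * DC.zeta * c⁻¹ = DC.zeta := by
    intro c
    apply Subtype.ext
    have h1 : ((DC.zeta : ↥C) : G) = D.zeta := hA D.u D.u
    have h2 := Subgroup.mem_centralizer_singleton_iff.mp c.2
    show (c : G) * ((DC.zeta : ↥C) : G) * (c : G)⁻¹ = ((DC.zeta : ↥C) : G)
    rw [h1]
    rw [h2]; group
  have hζt : ¬ IsConj DC.zeta DC.tt := by
    intro hc
    obtain ⟨c, hc⟩ := isConj_iff.mp hc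
    rw [hcentral] at hc
    exact DC.tt_ne_zeta hc.symm
  have h₁ : (Subgroup.centralizer (DC.Ug : Set ↥C)).relIndex
      (Subgroup.normalizer (DC.Ug : Set ↥C)) = 2 := by
    rcases (WD.U_index R DC).1 with h | h
    · exact h
    · exfalso
      obtain ⟨n, -, hne⟩ := (WD.U_index R DC).2.1.mp h
      exact hne (hcentral n)
  have htz : IsConj DC.tt DC.zz := by
    obtain ⟨-, htzG⟩ := all_fused_of_no_index_two S D hG
    have h6 := WD.index_V_of_fused S D 0 htzG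
    obtain ⟨h, hh1, hh2⟩ := fused_tt_zz_rel S D 0 h6
    have hhC : h ∈ C := by
      rw [hC, Subgroup.mem_centralizer_singleton_iff]
      calc h * D.zeta = (h * D.zeta * h⁻¹) * h := by group
        _ = D.zeta * h := by rw [hh1]
    rw [isConj_iff]
    refine ⟨⟨h, hhC⟩, ?_⟩
    apply Subtype.ext
    show h * ((DC.tt : ↥C) : G) * h⁻¹ = ((DC.zz : ↥C) : G)
    have e1 : ((DC.tt : ↥C) : G) = D.tt := hA D.u 0
    have e2 : ((DC.zz : ↥C) : G) = D.zz := hB 0 0
    rw [e1, e2]; exact hh2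
  refine ⟨R, ?_, ⟨WD.Kq R DC, inferInstance, ⟨DC.n, WD.index_Kq R DC hζt h₁⟩,
    WD.no_index_two_Kq R DC htz hζt h₁, ?_⟩, ?_⟩
  · exact Nat.card_congr (centEquiv S C hSC).toEquiv
  · intro P
    have hKS := WD.subgroupOf_Kq_eq R DC hζt h₁ (WD.Qsg_le_Kq R DC htz)
    have hinf : (R : Subgroup ↥C) ⊓ WD.Kq R DC = DC.Qs.map (R : Subgroup ↥C).subtype :=
      inf_eq_map_of_subgroupOf_eq hKS
    obtain ⟨e⟩ := sylow_normal_iso R (WD.Kq R DC) P
    obtain ⟨e'⟩ := DC.Qs_iso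
    have e2 : ↥((R : Subgroup ↥C) ⊓ WD.Kq R DC) ≃* ↥(DC.Qs.map (R : Subgroup ↥C).subtype) :=
      MulEquiv.subgroupCongr hinf
    have e3 : ↥DC.Qs ≃* ↥(DC.Qs.map (R : Subgroup ↥C).subtype) :=
      DC.Qs.equivMapOfInjective _ (R : Subgroup ↥C).subtype_injective
    have hn2 := DC.hn
    exact ⟨DC.n - 1, by omega, ⟨((e.trans e2).trans e3.symm).trans e'⟩⟩
  · intro Z₀ hZ₀
    exact WD.weaklyClosed_of_le_Zg R DC h₁ htz Z₀ hZ₀

end centr

end WD

theorem centralizer_wreathed {G : Type*} [Group G] [Finite G] (S : Sylow 2 G)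
    (hS : Cfsg.IsWreathed (S : Subgroup G)) (hG : ∀ H : Subgroup G, H.index ≠ 2) (x : G)
    (hx : orderOf x = 2) :
    ∃ R : Sylow 2 ↥(Subgroup.centralizer ({x} : Set G)), Nat.card R = Nat.card S ∧
      (∃ K : Subgroup ↥(Subgroup.centralizer ({x} : Set G)), K.Normal ∧
        (∃ a : ℕ, K.index = 2 ^ a) ∧ (∀ H : Subgroup ↥K, H.index ≠ 2) ∧
        (∀ P : Sylow 2 ↥K, ∃ m : ℕ, 1 ≤ m ∧
          Nonempty ((P : Subgroup ↥K) ≃* QuaternionGroup (2 ^ m)))) ∧
      (∀ Z₀ : Subgroup ↥(Subgroup.centralizer ({x} : Set G)),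
        Z₀ ≤ ((Subgroup.center (R : Subgroup ↥(Subgroup.centralizer ({x} : Set G)))).map
          (R : Subgroup ↥(Subgroup.centralizer ({x} : Set G))).subtype) →
        Cfsg.IsWeaklyClosed Z₀ (R : Subgroup ↥(Subgroup.centralizer ({x} : Set G)))) := by
  obtain ⟨D⟩ := exists_wd hS
  obtain ⟨hζt, htz⟩ := WD.all_fused_of_no_index_two S D hG
  have hxζ : IsConj D.zeta x := by
    rcases WD.invol_cases_w S D x hx with h | h | h
    · exact h.symm
    · exact hζt.trans h.symm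
    · exact (hζt.trans htz).trans h.symm
  obtain ⟨g, hg⟩ := isConj_iff.mp hxζ
  have hz : (WD.smulWD S D g).zeta = x := (WD.smulWD_zeta S D g).trans hg
  obtain ⟨R, hcard, hK, hZ⟩ := WD.centralizer_main (g • S) (WD.smulWD S D g) hG
  subst hz
  exact ⟨R, hcard.trans (Nat.card_congr (S.equivSMul g).toEquiv).symm, hK, hZ⟩

end Cfsg.Agent.Lib.Helper9
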