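import Mathlib
import Cfsg.Agent.Lib.Helper9.QDF20
import Cfsg.Agent.Lib.Helper9.WF21

set_option autoImplicit false

namespace Cfsg.Agent.Lib.Helper9

namespace QD

section smul

variable {G : Type*} [Group G] [Finite G] (S : Sylow 2 G) (D : QD ↥(S : Subgroup G)) (g : G)

/-- transported data on the conjugate Sylow subgroup -/
noncomputable def smulQD : QD ↥((g • S : Sylow 2 G) : Subgroup G) :=
  ofEquiv (S.equivSMul g).symm D

theorem smulQD_z :
    (((smulQD S D g).z : ↥((g • S : Sylow 2 G) : Subgroup G)) : G) =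
      g * ((D.z : ↥(S : Subgroup G)) : G) * g⁻¹ := by
  unfold smulQD
  rw [ofEquiv_z]
  rfl

end smul

section centr

variable {G : Type*} [Group G] [Finite G] (S : Sylow 2 G) (D : QD ↥(S : Subgroup G))

/-- transported data on the Sylow subgroup seen inside a subgroup `C` -/
noncomputable def centQD (C : Subgroup G) (hSC : (S : Subgroup G) ≤ C) :
    QD ↥((S.subtype hSC : Sylow 2 ↥C) : Subgroup ↥C) :=
  ofEquiv (WD.centEquiv S C hSC) D

theorem centQD_X (C : Subgroup G) (hSC : (S : Subgroup G) ≤ C) (i : ZMod D.N) :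
    ((((centQD S D C hSC).X i : ↥((S.subtype hSC : Sylow 2 ↥C) : Subgroup ↥C)) : ↥C) : G) =
      ((D.X i : ↥(S : Subgroup G)) : G) := by
  unfold centQD
  rw [ofEquiv_X, WD.centEquiv_symm_coe]

theorem centQD_Y (C : Subgroup G) (hSC : (S : Subgroup G) ≤ C) (i : ZMod D.N) :
    ((((centQD S D C hSC).Y i : ↥((S.subtype hSC : Sylow 2 ↥C) : Subgroup ↥C)) : ↥C) : G) =
      ((D.Y i : ↥(S : Subgroup G)) : G) := by
  unfold centQD
  rw [ofEquiv_Y, WD.centEquiv_symm_coe]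

theorem centralizer_main (hG : ∀ H : Subgroup G, H.index ≠ 2) :
    ∃ R : Sylow 2 ↥(Subgroup.centralizer ({((D.z : ↥(S : Subgroup G)) : G)} : Set G)),
      Nat.card R = Nat.card S ∧
      (∃ K : Subgroup ↥(Subgroup.centralizer ({((D.z : ↥(S : Subgroup G)) : G)} : Set G)),
        K.Normal ∧
        (∃ a : ℕ, K.index = 2 ^ a) ∧ (∀ H : Subgroup ↥K, H.index ≠ 2) ∧
        (∀ P : Sylow 2 ↥K, ∃ m : ℕ, 1 ≤ m ∧
          Nonempty ((P : Subgroup ↥K) ≃* QuaternionGroup (2 ^ m)))) ∧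
      (∀ Z₀ : Subgroup ↥(Subgroup.centralizer ({((D.z : ↥(S : Subgroup G)) : G)} : Set G)),
        Z₀ ≤ ((Subgroup.center (R : Subgroup
          ↥(Subgroup.centralizer ({((D.z : ↥(S : Subgroup G)) : G)} : Set G)))).map
          (R : Subgroup
            ↥(Subgroup.centralizer ({((D.z : ↥(S : Subgroup G)) : G)} : Set G))).subtype) →
        Cfsg.IsWeaklyClosed Z₀ (R : Subgroup
          ↥(Subgroup.centralizer ({((D.z : ↥(S : Subgroup G)) : G)} : Set G)))) := by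
  classical
  haveI : Fact (Nat.Prime 2) := ⟨Nat.prime_two⟩
  set C : Subgroup G := Subgroup.centralizer ({((D.z : ↥(S : Subgroup G)) : G)} : Set G) with hC
  have hSC : (S : Subgroup G) ≤ C := by
    intro s hs
    rw [hC, Subgroup.mem_centralizer_singleton_iff]
    have := congrArg (Subtype.val : ↥(S : Subgroup G) → G) (D.z_central ⟨s, hs⟩)
    simpa using this
  set R : Sylow 2 ↥C := S.subtype hSC with hR
  set DC : QD ↥(R : Subgroup ↥C) := centQD S D C hSC with hDC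
  have hX : ∀ i : ZMod D.N, (((DC.X i : ↥(R : Subgroup ↥C)) : ↥C) : G) =
      ((D.X i : ↥(S : Subgroup G)) : G) := centQD_X S D C hSC
  have hY : ∀ i : ZMod D.N, (((DC.Y i : ↥(R : Subgroup ↥C)) : ↥C) : G) =
      ((D.Y i : ↥(S : Subgroup G)) : G) := centQD_Y S D C hSC
  have hzz : (((DC.z : ↥(R : Subgroup ↥C)) : ↥C) : G) = ((D.z : ↥(S : Subgroup G)) : G) :=
    hX D.u
  have hcentral : ∀ c : ↥C, c * ((DC.z : ↥(R : Subgroup ↥C)) : ↥C) * c⁻¹ =
      ((DC.z : ↥(R : Subgroup ↥C)) : ↥C) := by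
    intro c
    apply Subtype.ext
    have h2 := Subgroup.mem_centralizer_singleton_iff.mp c.2
    show (c : G) * (((DC.z : ↥(R : Subgroup ↥C)) : ↥C) : G) * (c : G)⁻¹ =
      (((DC.z : ↥(R : Subgroup ↥C)) : ↥C) : G)
    rw [hzz, h2]; group
  have hz : ¬ IsConj (((DC.z : ↥(R : Subgroup ↥C)) : ↥C)) (((DC.Y 0 : ↥(R : Subgroup ↥C)) : ↥C)) := by
    intro hc
    obtain ⟨c, hc⟩ := isConj_iff.mp hc
    rw [hcentral] at hc
    have h1 : DC.z = DC.Y 0 := Subtype.ext hc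
    exact DC.Y_ne_X 0 DC.u h1.symm
  obtain ⟨-, hxYG⟩ := qd_all_fused S D hG
  obtain ⟨h, hh1, hh2⟩ := qd_fused_rel S D hxYG
  have hhC : h ∈ C := by
    rw [hC, Subgroup.mem_centralizer_singleton_iff]
    calc h * ((D.z : ↥(S : Subgroup G)) : G)
        = (h * ((D.z : ↥(S : Subgroup G)) : G) * h⁻¹) * h := by group
      _ = ((D.z : ↥(S : Subgroup G)) : G) * h := by rw [hh1]
  have hg : (⟨h, hhC⟩ : ↥C) * (((DC.X DC.v : ↥(R : Subgroup ↥C)) : ↥C)) * (⟨h, hhC⟩ : ↥C)⁻¹ =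
      (((DC.Y 1 : ↥(R : Subgroup ↥C)) : ↥C)) := by
    apply Subtype.ext
    show h * (((DC.X DC.v : ↥(R : Subgroup ↥C)) : ↥C) : G) * h⁻¹ =
      (((DC.Y 1 : ↥(R : Subgroup ↥C)) : ↥C) : G)
    have e1 : (((DC.X DC.v : ↥(R : Subgroup ↥C)) : ↥C) : G) =
        ((D.X D.v : ↥(S : Subgroup G)) : G) := hX D.v
    have e2 : (((DC.Y 1 : ↥(R : Subgroup ↥C)) : ↥C) : G) =
        ((D.Y 1 : ↥(S : Subgroup G)) : G) := hY 1
    rw [e1, e2]; exact hh2
  have hxY : IsConj (((DC.X DC.v : ↥(R : Subgroup ↥C)) : ↥C))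
      (((DC.Y 1 : ↥(R : Subgroup ↥C)) : ↥C)) := isConj_iff.mpr ⟨_, hg⟩
  obtain ⟨Q0, ⟨eQ0⟩⟩ := DC.exists_Q8
  set Q : Subgroup ↥C := Q0.map (R : Subgroup ↥C).subtype with hQ_def
  have hQR : Q ≤ (R : Subgroup ↥C) := Subgroup.map_subtype_le _
  have eQ : Q ≃* QuaternionGroup 2 :=
    (Q0.equivMapOfInjective _ (R : Subgroup ↥C).subtype_injective).symm.trans eQ0
  have h₂ := quat_index_of_fused R DC Q hQR eQ DC.not_ev_one hg
  obtain ⟨a, hQ⟩ := qsetup_of_iso (R : Subgroup ↥C) DC Q hQR eQ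
  obtain ⟨K, hKn, hKi, hKS⟩ := exists_K_M2 R DC hz hxY
  haveI := hKn
  have hinf : (R : Subgroup ↥C) ⊓ K = DC.M2.map (R : Subgroup ↥C).subtype :=
    inf_eq_map_of_subgroupOf_eq hKS
  refine ⟨R, ?_, ⟨K, hKn, ⟨1, by rw [hKi, pow_one]⟩, ?_, ?_⟩, ?_⟩
  · exact Nat.card_congr (WD.centEquiv S C hSC).toEquiv
  · refine no_index_two R (DC.M2.map (R : Subgroup ↥C).subtype) (Subgroup.map_subtype_le _) ?_
      (hQ.M2_le_oddClosure h₂) K hKi
    rw [relIndex_map_subtype_eq]; exact DC.index_M2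
  · intro P
    obtain ⟨e⟩ := sylow_normal_iso R K P
    obtain ⟨e'⟩ := DC.M2_iso
    have e2 : ↥((R : Subgroup ↥C) ⊓ K) ≃* ↥(DC.M2.map (R : Subgroup ↥C).subtype) :=
      MulEquiv.subgroupCongr hinf
    have e3 : ↥DC.M2 ≃* ↥(DC.M2.map (R : Subgroup ↥C).subtype) :=
      DC.M2.equivMapOfInjective _ (R : Subgroup ↥C).subtype_injective
    have hn3 := DC.hn
    exact ⟨DC.n - 2, by omega, ⟨((e.trans e2).trans e3.symm).trans e'⟩⟩
  · intro Z₀ hZ₀
    have hW : (Subgroup.center ↥(R : Subgroup ↥C)).map (R : Subgroup ↥C).subtype =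
        Subgroup.zpowers (((DC.z : ↥(R : Subgroup ↥C)) : ↥C)) := by
      rw [DC.center_eq, MonoidHom.map_zpowers]; rfl
    rw [hW] at hZ₀
    refine ⟨hZ₀.trans ?_, ?_⟩
    · rw [Subgroup.zpowers_le]; exact (DC.z).2
    · intro g _
      haveI : Finite Z₀ := inferInstance
      apply map_conj_eq_of_forall_mem
      intro a ha
      obtain ⟨k, rfl⟩ := Subgroup.mem_zpowers_iff.mp (hZ₀ ha)
      have : g * ((DC.z : ↥(R : Subgroup ↥C)) : ↥C) ^ k * g⁻¹ =
          ((DC.z : ↥(R : Subgroup ↥C)) : ↥C) ^ k := by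
        have h1 := hcentral g
        calc g * ((DC.z : ↥(R : Subgroup ↥C)) : ↥C) ^ k * g⁻¹
            = (g * ((DC.z : ↥(R : Subgroup ↥C)) : ↥C) * g⁻¹) ^ k := by
              rw [conj_zpow]
          _ = ((DC.z : ↥(R : Subgroup ↥C)) : ↥C) ^ k := by rw [h1]
      rw [this]; exact ha

end centr

end QD

theorem centralizer_qd {G : Type*} [Group G] [Finite G] (S : Sylow 2 G)
    (hS : Cfsg.IsQuasiDihedral (S : Subgroup G)) (hG : ∀ H : Subgroup G, H.index ≠ 2) (x : G)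
    (hx : orderOf x = 2) :
    ∃ R : Sylow 2 ↥(Subgroup.centralizer ({x} : Set G)), Nat.card R = Nat.card S ∧
      (∃ K : Subgroup ↥(Subgroup.centralizer ({x} : Set G)), K.Normal ∧
        (∃ a : ℕ, K.index = 2 ^ a) ∧ (∀ H : Subgroup ↥K, H.index ≠ 2) ∧
        (∀ P : Sylow 2 ↥K, ∃ m : ℕ, 1 ≤ m ∧
          Nonempty ((P : Subgroup ↥K) ≃* QuaternionGroup (2 ^ m)))) ∧
      (∀ Z₀ : Subgroup ↥(Subgroup.centralizer ({x} : Set G)),
        Z₀ ≤ ((Subgroup.center (R : Subgroup ↥(Subgroup.centralizer ({x} : Set G)))).map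
          (R : Subgroup ↥(Subgroup.centralizer ({x} : Set G))).subtype) →
        Cfsg.IsWeaklyClosed Z₀ (R : Subgroup ↥(Subgroup.centralizer ({x} : Set G)))) := by
  obtain ⟨D⟩ := exists_qd hS
  obtain ⟨hzY, -⟩ := qd_all_fused S D hG
  have hxz : IsConj ((D.z : ↥(S : Subgroup G)) : G) x := by
    rcases invol_cases S D x hx with h | h
    · exact h.symm
    · exact hzY.trans h.symm
  obtain ⟨g, hg⟩ := isConj_iff.mp hxz
  have hz : (((QD.smulQD S D g).z : ↥((g • S : Sylow 2 G) : Subgroup G)) : G) = x :=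
    (QD.smulQD_z S D g).trans hg
  obtain ⟨R, hcard, hK, hZ⟩ := QD.centralizer_main (g • S) (QD.smulQD S D g) hG
  subst hz
  exact ⟨R, hcard.trans (Nat.card_congr (S.equivSMul g).toEquiv).symm, hK, hZ⟩

end Cfsg.Agent.Lib.Helper9
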