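import Mathlib
import Cfsg.Agent.Lib.Helper18.ClassGraph
import Cfsg.Agent.Lib.Helper9.CGDiamA

set_option autoImplicit false

namespace Cfsg.Agent.Lib.Helper9

open Cfsg.Agent.Lib.Helper18.ClassGraph
open scoped Pointwise commutatorElement

variable {G : Type*} [Group G]

/-- the two largest class sizes `m > n > 1` are coprime -/
structure QFHyp (G : Type*) [Group G] (m n : ℕ) : Prop where
  hmn : n < m
  hn : 1 < n
  hcop : m.Coprime n
  htop : ∀ z : G, cs z ≤ m
  hsecond : ∀ z : G, cs z < m → cs z ≤ n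

variable {m n : ℕ}

theorem QFHyp.le_of_ne (h : QFHyp G m n) {z : G} (hz : cs z ≠ m) : cs z ≤ n :=
  h.hsecond z (lt_of_le_of_ne (h.htop z) hz)

theorem QFHyp.eq_top_of_lt (h : QFHyp G m n) {z : G} (hz : n < cs z) : cs z = m := by
  by_contra hne
  have := h.le_of_ne hne
  omega

/-- absorption at the top: a class of size prime to `m` times a class of size `m` -/
theorem qfr_absorb_top [Finite G] (h : QFHyp G m n) (t w : G) (ht : (cs t).Coprime m)
    (hw : cs w = m) : cs (t * w) = m := by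
  have hcop : (cs t).Coprime (cs w) := by rw [hw]; exact ht
  have h1 := cs_le_cs_mul' t w hcop
  have h2 := h.htop (t * w)
  omega

theorem qfr_comm_mul_conj_top [Finite G] (h : QFHyp G m n) (t w : G) (ht : (cs t).Coprime m)
    (hw : cs w = m) (a : G) : ∃ v : G, ⁅a, t⁆ * w = v * w * v⁻¹ := by
  have ht' : (cs t⁻¹).Coprime m := by rw [cs_inv]; exact ht
  have h1 : cs (t⁻¹ * w) = m := qfr_absorb_top h t⁻¹ w ht' hw
  have hcop : (cs t).Coprime (cs (t⁻¹ * w)) := by rw [h1]; exact ht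
  obtain ⟨v, hv⟩ := conj_mul_of_coprime t (t⁻¹ * w) hcop a
  refine ⟨v, ?_⟩
  have e1 : ⁅a, t⁆ * w = a * t * a⁻¹ * (t⁻¹ * w) := by
    rw [commutatorElement_def]; group
  have e2 : t * (t⁻¹ * w) = w := by group
  rw [e1, hv, e2]

theorem qfr_comm_mem_St_top [Finite G] (h : QFHyp G m n) (t y : G) (ht : (cs t).Coprime m)
    (hy : cs y = m) (a : G) : ⁅a, t⁆ ∈ St y := by
  intro w hw
  have hcw : cs w = m := by rw [cs_of_mem_cls hw]; exact hy
  obtain ⟨v, hv⟩ := qfr_comm_mul_conj_top h t w ht hcw a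
  rw [hv]
  exact conj_mem_cls hw v

/-- generators of `K = [G, T]` -/
def qfKgen (G : Type*) [Group G] (m : ℕ) : Set G :=
  {c | ∃ a t : G, (cs t).Coprime m ∧ c = ⁅a, t⁆}

/-- `K = [G, T]`, `T` the elements of class size prime to `m` -/
def qfK (G : Type*) [Group G] (m : ℕ) : Subgroup G := Subgroup.normalClosure (qfKgen G m)

instance qfK_normal (m : ℕ) : (qfK G m).Normal := Subgroup.normalClosure_normal

theorem qfr_comm_mem_K (a t : G) (ht : (cs t).Coprime m) : ⁅a, t⁆ ∈ qfK G m :=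
  Subgroup.subset_normalClosure ⟨a, t, ht, rfl⟩

theorem qfr_K_le_St [Finite G] (h : QFHyp G m n) (y : G) (hy : cs y = m) : qfK G m ≤ St y := by
  apply Subgroup.normalClosure_le_normal
  rintro c ⟨a, t, ht, rfl⟩
  exact qfr_comm_mem_St_top h t y ht hy a

theorem qfr_card_K_dvd [Finite G] (h : QFHyp G m n) (y : G) (hy : cs y = m) :
    Nat.card (qfK G m) ∣ m := by
  have := card_dvd_of_le_St y (qfK G m) (qfr_K_le_St h y hy)
  rwa [hy] at this

/-- left multiplication by `K` preserves the class size `m` -/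
theorem qfr_K_mul_top [Finite G] (h : QFHyp G m n) (k w : G) (hk : k ∈ qfK G m) (hw : cs w = m) :
    cs (k * w) = m := by
  have h1 : k * w ∈ cls w := (qfr_K_le_St h w hw hk) w (self_mem_cls w)
  rw [cs_of_mem_cls h1, hw]

theorem qfr_K_le_centralizer [Finite G] (h : QFHyp G m n) (y : G) (hy : cs y = m) (t : G)
    (ht : (cs t).Coprime m) : qfK G m ≤ Subgroup.centralizer ({t} : Set G) := by
  rw [← Subgroup.relIndex_eq_one]
  have h1 : (Subgroup.centralizer ({t} : Set G)).relIndex (qfK G m) ∣ cs t :=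
    relIndex_dvd_index_of_normal_right _ _
  have h2 : (Subgroup.centralizer ({t} : Set G)).relIndex (qfK G m) ∣ m :=
    (Subgroup.relIndex_dvd_card _ _).trans (qfr_card_K_dvd h y hy)
  exact Nat.eq_one_of_dvd_coprimes ht h1 h2

theorem qfr_K_comm_T [Finite G] (h : QFHyp G m n) (y : G) (hy : cs y = m) (t : G)
    (ht : (cs t).Coprime m) (k : G) (hk : k ∈ qfK G m) : k * t = t * k :=
  mem_cent.1 (qfr_K_le_centralizer h y hy t ht hk)

/-- `K` is abelian -/
theorem qfr_K_comm [Finite G] (h : QFHyp G m n) (y : G) (hy : cs y = m) (k1 k2 : G)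
    (hk1 : k1 ∈ qfK G m) (hk2 : k2 ∈ qfK G m) : k1 * k2 = k2 * k1 := by
  have hle : qfK G m ≤ Subgroup.centralizer ((qfK G m : Subgroup G) : Set G) := by
    apply Subgroup.normalClosure_le_normal
    rintro c ⟨a, t, ht, rfl⟩
    rw [SetLike.mem_coe, Subgroup.mem_centralizer_iff]
    intro k hk
    have e1 : k * t = t * k := qfr_K_comm_T h y hy t ht k hk
    have ht' : (cs (a * t * a⁻¹)).Coprime m := by rw [cs_conj]; exact ht
    have e2 : k * (a * t * a⁻¹) = (a * t * a⁻¹) * k := qfr_K_comm_T h y hy _ ht' k hk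
    have e3 : k * t⁻¹ = t⁻¹ * k := by
      have : t⁻¹ * (k * t) * t⁻¹ = t⁻¹ * (t * k) * t⁻¹ := by rw [e1]
      calc k * t⁻¹ = t⁻¹ * (t * k) * t⁻¹ := by group
        _ = t⁻¹ * (k * t) * t⁻¹ := by rw [e1]
        _ = t⁻¹ * k := by group
    rw [commutatorElement_def]
    calc k * (a * t * a⁻¹ * t⁻¹) = (k * (a * t * a⁻¹)) * t⁻¹ := by group
      _ = (a * t * a⁻¹ * k) * t⁻¹ := by rw [e2]
      _ = a * t * a⁻¹ * (k * t⁻¹) := by group
      _ = a * t * a⁻¹ * (t⁻¹ * k) := by rw [e3]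
      _ = a * t * a⁻¹ * t⁻¹ * k := by group
  have := hle hk1
  rw [Subgroup.mem_centralizer_iff] at this
  exact (this k2 hk2).symm

end Cfsg.Agent.Lib.Helper9
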