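import Mathlib
import Cfsg.Agent.Lib.Helper9.QFrobA

set_option autoImplicit false

namespace Cfsg.Agent.Lib.Helper9

open Cfsg.Agent.Lib.Helper18.ClassGraph
open scoped Pointwise commutatorElement

variable {G : Type*} [Group G] {m n : ℕ}

/-- absorption at the second level -/
theorem qfr_absorb_snd [Finite G] (h : QFHyp G m n) (a w : G) (ha : cs a ≤ n)
    (hac : (cs a).Coprime n) (hw : cs w = n) : cs (a * w) = n := by
  have hcop : (cs a).Coprime (cs w) := by rw [hw]; exact hac
  have h1 := cs_le_cs_mul' a w hcop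
  have h2 := cs_mul_dvd a w hcop
  rw [hw] at h1 h2
  have hne : cs (a * w) ≠ m := by
    intro he
    rw [he] at h2
    have h3 : m ∣ cs a := (Nat.Coprime.dvd_mul_right h.hcop).1 h2
    have h4 := Nat.le_of_dvd (Nat.pos_of_ne_zero (cs_ne_zero a)) h3
    have := h.hmn
    omega
  have := h.le_of_ne hne
  omega

theorem qfr_comm_mul_conj_snd [Finite G] (h : QFHyp G m n) (a w : G) (ha : cs a ≤ n)
    (hac : (cs a).Coprime n) (hw : cs w = n) (g : G) : ∃ v : G, ⁅g, a⁆ * w = v * w * v⁻¹ := by
  have ha' : cs a⁻¹ ≤ n := by rw [cs_inv]; exact ha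
  have hac' : (cs a⁻¹).Coprime n := by rw [cs_inv]; exact hac
  have h1 : cs (a⁻¹ * w) = n := qfr_absorb_snd h a⁻¹ w ha' hac' hw
  have hcop : (cs a).Coprime (cs (a⁻¹ * w)) := by rw [h1]; exact hac
  obtain ⟨v, hv⟩ := conj_mul_of_coprime a (a⁻¹ * w) hcop g
  refine ⟨v, ?_⟩
  have e1 : ⁅g, a⁆ * w = g * a * g⁻¹ * (a⁻¹ * w) := by
    rw [commutatorElement_def]; group
  have e2 : a * (a⁻¹ * w) = w := by group
  rw [e1, hv, e2]

theorem qfr_comm_mem_St_snd [Finite G] (h : QFHyp G m n) (a x : G) (ha : cs a ≤ n)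
    (hac : (cs a).Coprime n) (hx : cs x = n) (g : G) : ⁅g, a⁆ ∈ St x := by
  intro w hw
  have hcw : cs w = n := by rw [cs_of_mem_cls hw]; exact hx
  obtain ⟨v, hv⟩ := qfr_comm_mul_conj_snd h a w ha hac hcw g
  rw [hv]
  exact conj_mem_cls hw v

/-- an element lying in a subgroup of order dividing `n` and in one of order dividing `m` is
trivial -/
theorem qfr_eq_one_of_mem_mem [Finite G] (h : QFHyp G m n) (L K : Subgroup G)
    (hL : Nat.card L ∣ n) (hK : Nat.card K ∣ m) (c : G) (hcL : c ∈ L) (hcK : c ∈ K) : c = 1 := by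
  have h1 : orderOf c ∣ n := (Subgroup.orderOf_dvd_natCard L hcL).trans hL
  have h2 : orderOf c ∣ m := (Subgroup.orderOf_dvd_natCard K hcK).trans hK
  exact orderOf_eq_one_iff.1 (Nat.eq_one_of_dvd_coprimes h.hcop h2 h1)

/-- Claim (a): an element of class size `≤ n` and prime to `n` is central -/
theorem qfr_central_of_coprime_snd [Finite G] (h : QFHyp G m n) (x y : G) (hx : cs x = n)
    (hy : cs y = m) (a : G) (ha : cs a ≤ n) (hac : (cs a).Coprime n) :
    a ∈ Subgroup.center G := by
  set L : Subgroup G := Subgroup.normalClosure {c | ∃ g : G, c = ⁅g, a⁆} with hL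
  have hLSt : L ≤ St x := by
    apply Subgroup.normalClosure_le_normal
    rintro c ⟨g, rfl⟩
    exact qfr_comm_mem_St_snd h a x ha hac hx g
  have hLcard : Nat.card L ∣ n := by
    have := card_dvd_of_le_St x L hLSt
    rwa [hx] at this
  have hKcard := qfr_card_K_dvd h y hy
  have hxT : (cs x).Coprime m := by rw [hx]; exact h.hcop.symm
  have hax : cs (a * x) = n := qfr_absorb_snd h a x ha hac hx
  have hle : Subgroup.centralizer ({a * x} : Set G) ≤
      Subgroup.centralizer ({a} : Set G) ⊓ Subgroup.centralizer ({x} : Set G) := by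
    intro g hg
    rw [mem_cent] at hg
    have hmemL : ⁅g, a⁆ ∈ L := Subgroup.subset_normalClosure ⟨g, rfl⟩
    have hmemK : ⁅g, a⁆ ∈ qfK G m := by
      have e : ⁅g, a⁆ = (a * ⁅g, x⁆ * a⁻¹)⁻¹ := by
        have e1 : g * a * g⁻¹ * (g * x * g⁻¹) = a * x := by
          calc g * a * g⁻¹ * (g * x * g⁻¹) = g * (a * x) * g⁻¹ := by group
            _ = a * x * g * g⁻¹ := by rw [hg]
            _ = a * x := by group
        rw [commutatorElement_def, commutatorElement_def]
        have e2 : g * a * g⁻¹ = a * x * (g * x * g⁻¹)⁻¹ := by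
          rw [← e1]; group
        rw [e2]; group
      rw [e]
      exact Subgroup.inv_mem _ ((qfK_normal m).conj_mem _ (qfr_comm_mem_K g x hxT) a)
    have h1 : ⁅g, a⁆ = 1 := qfr_eq_one_of_mem_mem h L (qfK G m) hLcard hKcard _ hmemL hmemK
    have hga : g * a = a * g := by
      rw [commutatorElement_def] at h1
      calc g * a = (g * a * g⁻¹ * a⁻¹) * a * g := by group
        _ = a * g := by rw [h1, one_mul]
    have hgx : g * x = x * g := by
      have : a * (g * x) = a * (x * g) := by
        calc a * (g * x) = g * a * x := by rw [← mul_assoc, hga]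
          _ = g * (a * x) := by group
          _ = a * x * g := hg
          _ = a * (x * g) := by group
      exact mul_left_cancel this
    rw [Subgroup.mem_inf, mem_cent, mem_cent]
    exact ⟨hga, hgx⟩
  have hidx : (Subgroup.centralizer ({a} : Set G) ⊓ Subgroup.centralizer ({x} : Set G)).index =
      cs a * n := by
    rw [index_inf_of_coprime _ _ (by rw [← cs_def, ← cs_def, hx]; exact hac), ← cs_def, ← cs_def, hx]
  have hdvd : cs a * n ∣ n := by
    rw [← hidx]
    have := Subgroup.index_dvd_of_le hle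
    rwa [← cs_def, hax] at this
  have hn0 : 0 < n := by have := h.hn; omega
  have h1 : cs a * n ≤ n := Nat.le_of_dvd hn0 hdvd
  have h2 : cs a = 1 := by
    have h3 : 0 < cs a := Nat.pos_of_ne_zero (cs_ne_zero a)
    by_contra hne
    have h4 : 2 ≤ cs a := by omega
    nlinarith
  exact (cs_eq_one_iff_mem_center a).1 h2

/-- (e): if `C(y') ≤ C(c)` with `y'` of class size `m` then `c` is central or has the same
centralizer -/
theorem qfr_of_centralizer_le [Finite G] (h : QFHyp G m n) (x y : G) (hx : cs x = n)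
    (hy : cs y = m) (y' c : G) (hy' : cs y' = m)
    (hle : Subgroup.centralizer ({y'} : Set G) ≤ Subgroup.centralizer ({c} : Set G)) :
    c ∈ Subgroup.center G ∨
      (cs c = m ∧ Subgroup.centralizer ({c} : Set G) = Subgroup.centralizer ({y'} : Set G)) := by
  have hdvd : cs c ∣ m := by
    have := Subgroup.index_dvd_of_le hle
    rwa [← cs_def, ← cs_def, hy'] at this
  by_cases hcm : cs c = m
  · right
    refine ⟨hcm, le_antisymm ?_ hle⟩
    rw [← Subgroup.relIndex_eq_one]
    have h1 := Subgroup.relIndex_mul_index hle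
    rw [← cs_def, ← cs_def, hy', hcm] at h1
    have hm0 : 0 < m := by have := h.hmn; omega
    nlinarith
  · left
    have hle' := h.le_of_ne hcm
    apply qfr_central_of_coprime_snd h x y hx hy c hle'
    exact Nat.Coprime.coprime_dvd_left hdvd h.hcop

end Cfsg.Agent.Lib.Helper9
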