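import Mathlib
import Cfsg.Agent.Lib.Helper9.QFrobB

set_option autoImplicit false

namespace Cfsg.Agent.Lib.Helper9

open Cfsg.Agent.Lib.Helper18.ClassGraph
open scoped Pointwise commutatorElement

variable {G : Type*} [Group G] {m n : ℕ}

/-- commuting elements of coprime orders: `C(ab) ≤ C(a)` -/
theorem qfr_cent_mul_le (a b : G) (hab : Commute a b) (hcop : (orderOf a).Coprime (orderOf b)) :
    Subgroup.centralizer ({a * b} : Set G) ≤ Subgroup.centralizer ({a} : Set G) := by
  intro g hg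
  rw [mem_cent] at hg ⊢
  have hg' : Commute g (a * b) := hg
  obtain ⟨k, hk⟩ := exists_pow_eq_self_of_coprime hcop.symm
  have h1 : (a * b) ^ (orderOf b) = a ^ (orderOf b) := by
    rw [hab.mul_pow, pow_orderOf_eq_one, mul_one]
  have h2 : ((a * b) ^ (orderOf b)) ^ k = a := by rw [h1, hk]
  have h3 : Commute g (((a * b) ^ (orderOf b)) ^ k) := (hg'.pow_right _).pow_right _
  rw [h2] at h3
  exact h3

theorem qfr_mem_of_pow_mem (H : Subgroup G) (g : G) (a b : ℕ) (hab : a.Coprime b)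
    (ha : g ^ a ∈ H) (hb : g ^ b ∈ H) : g ∈ H := by
  have h1 := Nat.gcd_eq_gcd_ab a b
  rw [hab] at h1
  have h2 : g = (g ^ a) ^ (Nat.gcdA a b) * (g ^ b) ^ (Nat.gcdB a b) := by
    rw [← zpow_natCast g a, ← zpow_natCast g b, ← zpow_mul, ← zpow_mul, ← zpow_add, ← h1]
    simp
  rw [h2]
  exact H.mul_mem (H.zpow_mem ha _) (H.zpow_mem hb _)

theorem qfr_cent_le_pow (g : G) (k : ℕ) :
    Subgroup.centralizer ({g} : Set G) ≤ Subgroup.centralizer ({g ^ k} : Set G) := by
  intro c hc
  rw [mem_cent] at hc ⊢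
  exact (Commute.pow_right (show Commute c g from hc) k)

/-- there is an element of class size `m` and of prime power order -/
theorem qfr_exists_primePow_top [Finite G] (h : QFHyp G m n) (x y : G) (hx : cs x = n)
    (hy : cs y = m) : ∃ y₀ : G, cs y₀ = m ∧ ∃ r a : ℕ, r.Prime ∧ orderOf y₀ = r ^ a := by
  haveI : Nonempty {w : G // cs w = m} := ⟨⟨y, hy⟩⟩
  obtain ⟨⟨y₀, hy₀⟩, hmin⟩ := Finite.exists_min (fun t : {w : G // cs w = m} => orderOf t.1)
  refine ⟨y₀, hy₀, ?_⟩
  have hopos : 0 < orderOf y₀ := orderOf_pos y₀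
  have hpow : ∀ r : ℕ, r.Prime → r ∣ orderOf y₀ → y₀ ^ r ∈ Subgroup.center G := by
    intro r hr hrd
    rcases qfr_of_centralizer_le h x y hx hy y₀ (y₀ ^ r) hy₀ (qfr_cent_le_pow y₀ r) with hc | ⟨hc, -⟩
    · exact hc
    · exfalso
      have h1 : orderOf y₀ ≤ orderOf (y₀ ^ r) := hmin ⟨y₀ ^ r, hc⟩
      have h2 : orderOf (y₀ ^ r) = orderOf y₀ / r := orderOf_pow_of_dvd hr.ne_zero hrd
      have h3 : orderOf y₀ / r < orderOf y₀ := Nat.div_lt_self hopos hr.one_lt
      omega
  have ho1 : orderOf y₀ ≠ 1 := by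
    intro h1
    rw [orderOf_eq_one_iff] at h1
    have h2 : cs y₀ = 1 := by
      rw [cs_eq_one_iff_mem_center, h1]; exact Subgroup.one_mem _
    have := h.hmn
    have := h.hn
    omega
  have hpp : IsPrimePow (orderOf y₀) := by
    rw [isPrimePow_iff_unique_prime_dvd]
    obtain ⟨r, hr, hrd⟩ := Nat.exists_prime_and_dvd ho1
    refine ⟨r, ⟨hr, hrd⟩, ?_⟩
    rintro s ⟨hs, hsd⟩
    by_contra hne
    have hcop : Nat.Coprime r s := (Nat.coprime_primes hr hs).2 (Ne.symm hne)
    have hz : y₀ ∈ Subgroup.center G :=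
      qfr_mem_of_pow_mem _ y₀ r s hcop (hpow r hr hrd) (hpow s hs hsd)
    have h2 : cs y₀ = 1 := (cs_eq_one_iff_mem_center y₀).2 hz
    have := h.hmn
    have := h.hn
    omega
  rw [isPrimePow_nat_iff] at hpp
  obtain ⟨r, a, hr, -, hra⟩ := hpp
  exact ⟨r, a, hr, hra.symm⟩

/-- L6: an element commuting with `y'` (class size `m`) and of order prime to that of `y'` -/
theorem qfr_le_of_commute_coprime [Finite G] (h : QFHyp G m n) (y' c : G) (hy' : cs y' = m)
    (hc : c * y' = y' * c) (hcop : (orderOf c).Coprime (orderOf y')) :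
    Subgroup.centralizer ({y'} : Set G) ≤ Subgroup.centralizer ({c} : Set G) := by
  have hcomm : Commute y' c := hc.symm
  have hle : Subgroup.centralizer ({y' * c} : Set G) ≤ Subgroup.centralizer ({y'} : Set G) :=
    qfr_cent_mul_le y' c hcomm hcop.symm
  have hdvd : m ∣ cs (y' * c) := by
    have := Subgroup.index_dvd_of_le hle
    rwa [← cs_def, ← cs_def, hy'] at this
  have hcs : cs (y' * c) = m := by
    have h1 := Nat.le_of_dvd (Nat.pos_of_ne_zero (cs_ne_zero _)) hdvd
    have h2 := h.htop (y' * c)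
    omega
  have heq : Subgroup.centralizer ({y'} : Set G) ≤ Subgroup.centralizer ({y' * c} : Set G) := by
    rw [← Subgroup.relIndex_eq_one]
    have h1 := Subgroup.relIndex_mul_index hle
    rw [← cs_def, ← cs_def, hy', hcs] at h1
    have hm0 : 0 < m := by have := h.hmn; omega
    nlinarith
  intro g hg
  have h1 := heq hg
  rw [mem_cent] at hg h1 ⊢
  have : y' * (g * c) = y' * (c * g) := by
    calc y' * (g * c) = (g * y') * c := by rw [← mul_assoc, hg]
      _ = g * (y' * c) := by group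
      _ = y' * c * g := h1
      _ = y' * (c * g) := by group
  exact mul_left_cancel this

/-- L7: for every prime `p ∣ n` there is a `p`-element of class size `m` -/
theorem qfr_exists_pelt_top [Finite G] (h : QFHyp G m n) (x y : G) (hx : cs x = n)
    (hy : cs y = m) (p : ℕ) (hp : p.Prime) (hpn : p ∣ n) :
    ∃ u : G, cs u = m ∧ ∃ a : ℕ, orderOf u = p ^ a := by
  obtain ⟨y₀, hy₀, r, a, hr, hra⟩ := qfr_exists_primePow_top h x y hx hy
  by_cases hrp : r = p
  · exact ⟨y₀, hy₀, a, by rw [hra, hrp]⟩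
  haveI : Fact p.Prime := ⟨hp⟩
  have hpm : ¬ p ∣ m := by
    intro hpm
    have := Nat.Coprime.eq_one_of_dvd (Nat.Coprime.coprime_dvd_left hpm h.hcop) hpn
    exact hp.ne_one this
  have hidx : ¬ p ∣ (Subgroup.centralizer ({y₀} : Set G)).index := by
    rw [← cs_def, hy₀]; exact hpm
  obtain ⟨P, hP⟩ := cgd_exists_sylow_le p _ hidx
  have hex : ∃ c ∈ (P : Subgroup G), c ∉ Subgroup.center G := by
    by_contra hcon
    push Not at hcon
    have h1 : (P : Subgroup G) ≤ Subgroup.centralizer ({x} : Set G) := by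
      intro c hc
      rw [mem_cent]
      exact ((Subgroup.mem_center_iff.1 (hcon c hc)) x).symm
    have h2 : p ∣ (Subgroup.centralizer ({x} : Set G)).index := by
      rw [← cs_def, hx]; exact hpn
    exact P.not_dvd_index (h2.trans (Subgroup.index_dvd_of_le h1))
  obtain ⟨c, hcP, hcZ⟩ := hex
  obtain ⟨b, hb⟩ := Cfsg.Agent.Lib.Helper22.orderOf_of_mem_pgroup p P P.2 c hcP
  have hcy : c * y₀ = y₀ * c := mem_cent.1 (hP hcP)
  have hcop : (orderOf c).Coprime (orderOf y₀) := by
    rw [hb, hra]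
    apply Nat.Coprime.pow
    exact (Nat.coprime_primes hp hr).2 (Ne.symm hrp)
  have hle := qfr_le_of_commute_coprime h y₀ c hy₀ hcy hcop
  rcases qfr_of_centralizer_le h x y hx hy y₀ c hy₀ hle with hc | ⟨hc, -⟩
  · exact absurd hc hcZ
  · exact ⟨c, hc, b, hb⟩

end Cfsg.Agent.Lib.Helper9
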