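import Mathlib
import Cfsg.Agent.Lib.Helper9.QFrobC

set_option autoImplicit false

namespace Cfsg.Agent.Lib.Helper9

open Cfsg.Agent.Lib.Helper18.ClassGraph
open scoped Pointwise commutatorElement

variable {G : Type*} [Group G] {m n : ℕ}

theorem qfr_cs_mul_central (g z : G) (hz : z ∈ Subgroup.center G) : cs (g * z) = cs g := by
  unfold cs
  congr 1
  ext c
  rw [mem_cent, mem_cent]
  have hzc : ∀ w : G, w * z = z * w := fun w => Subgroup.mem_center_iff.1 hz w
  constructor
  · intro hc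
    have : c * g * z = g * c * z := by
      calc c * g * z = c * (g * z) := by group
        _ = g * z * c := hc
        _ = g * (z * c) := by group
        _ = g * (c * z) := by rw [hzc c]
        _ = g * c * z := by group
    exact mul_right_cancel this
  · intro hc
    calc c * (g * z) = (c * g) * z := by group
      _ = (g * c) * z := by rw [hc]
      _ = g * (c * z) := by group
      _ = g * (z * c) := by rw [hzc c]
      _ = g * z * c := by group

theorem QFHyp.not_dvd_top (h : QFHyp G m n) {p : ℕ} (hp : p.Prime) (hpn : p ∣ n) : ¬ p ∣ m := by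
  intro hpm
  have := Nat.Coprime.eq_one_of_dvd (Nat.Coprime.coprime_dvd_left hpm h.hcop) hpn
  exact hp.ne_one this

theorem qfr_pow_coprime_cardK [Finite G] (h : QFHyp G m n) (y : G) (hy : cs y = m) {p : ℕ}
    (hp : p.Prime) (hpn : p ∣ n) (b : ℕ) : (p ^ b).Coprime (Nat.card (qfK G m)) := by
  apply Nat.Coprime.pow_left
  rw [Nat.Prime.coprime_iff_not_dvd hp]
  intro hd
  exact h.not_dvd_top hp hpn (hd.trans (qfr_card_K_dvd h y hy))

theorem qfr_K_eq_one_of_pow [Finite G] (h : QFHyp G m n) (y : G) (hy : cs y = m) {p : ℕ}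
    (hp : p.Prime) (hpn : p ∣ n) (b : ℕ) (k : G) (hk : k ∈ qfK G m) (hkb : k ^ (p ^ b) = 1) :
    k = 1 := by
  have h1 : orderOf k ∣ p ^ b := orderOf_dvd_of_pow_eq_one hkb
  have h2 : orderOf k ∣ Nat.card (qfK G m) := Subgroup.orderOf_dvd_natCard _ hk
  exact orderOf_eq_one_iff.1 (Nat.eq_one_of_dvd_coprimes (qfr_pow_coprime_cardK h y hy hp hpn b) h1 h2)

/-- L8 : `K ∩ C(u) = 1` -/
theorem qfr_K_inf_cent_u [Finite G] (h : QFHyp G m n) (y : G) (hy : cs y = m) {p : ℕ}
    (hp : p.Prime) (hpn : p ∣ n) (u : G) (hu : cs u = m) (a : ℕ) (hua : orderOf u = p ^ a)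
    (k : G) (hk : k ∈ qfK G m) (hku : k * u = u * k) : k = 1 := by
  obtain ⟨v, hv⟩ : ∃ v : G, k * u = v * u * v⁻¹ := (qfr_K_le_St h u hu hk) u (self_mem_cls u)
  have h2 : (k * u) ^ (p ^ a) = 1 := by
    rw [hv, conj_pow, ← hua, pow_orderOf_eq_one]; group
  rw [(show Commute k u from hku).mul_pow, ← hua, pow_orderOf_eq_one, mul_one, hua] at h2
  exact qfr_K_eq_one_of_pow h y hy hp hpn a k hk h2

/-- decomposition `w = k c` with `k ∈ K`, `c ∈ C(u)` for `w` centralizing `u` modulo `K` -/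
theorem qfr_exists_K_decomp [Finite G] (h : QFHyp G m n) (y : G) (hy : cs y = m) {p : ℕ}
    (hp : p.Prime) (hpn : p ∣ n) (u : G) (hu : cs u = m) (a : ℕ) (hua : orderOf u = p ^ a)
    (w : G) (hw : ⁅w, u⁆ ∈ qfK G m) :
    ∃ k ∈ qfK G m, (k⁻¹ * w) * u = u * (k⁻¹ * w) := by
  have hmem : ∀ k : qfK G m, ⁅(k : G), u⁆ ∈ qfK G m := by
    intro k
    rw [commutatorElement_def, mul_assoc, mul_assoc]
    apply (qfK G m).mul_mem k.2
    rw [← mul_assoc]
    exact (qfK_normal m).conj_mem _ ((qfK G m).inv_mem k.2) u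
  have hinj : Function.Injective (fun k : qfK G m => (⟨⁅(k : G), u⁆, hmem k⟩ : qfK G m)) := by
    intro k1 k2 h12
    have h1 : ⁅(k1 : G), u⁆ = ⁅(k2 : G), u⁆ := congrArg Subtype.val h12
    rw [commutatorElement_def, commutatorElement_def] at h1
    have h2 : (k1 : G) * u * (k1 : G)⁻¹ = (k2 : G) * u * (k2 : G)⁻¹ := mul_right_cancel h1
    have h3 : ((k2 : G)⁻¹ * k1) * u = u * ((k2 : G)⁻¹ * k1) := by
      calc ((k2 : G)⁻¹ * k1) * u = (k2 : G)⁻¹ * ((k1 : G) * u * (k1 : G)⁻¹) * k1 := by group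
        _ = (k2 : G)⁻¹ * ((k2 : G) * u * (k2 : G)⁻¹) * k1 := by rw [h2]
        _ = u * ((k2 : G)⁻¹ * k1) := by group
    have h4 := qfr_K_inf_cent_u h y hy hp hpn u hu a hua _
      ((qfK G m).mul_mem ((qfK G m).inv_mem k2.2) k1.2) h3
    apply Subtype.ext
    have : (k1 : G) = k2 * ((k2 : G)⁻¹ * k1) := by group
    rw [this, h4, mul_one]
  obtain ⟨k, hk⟩ := Finite.surjective_of_injective hinj ⟨⁅w, u⁆, hw⟩
  have h1 : ⁅(k : G), u⁆ = ⁅w, u⁆ := congrArg Subtype.val hk
  rw [commutatorElement_def, commutatorElement_def] at h1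
  have h2 : (k : G) * u * (k : G)⁻¹ = w * u * w⁻¹ := mul_right_cancel h1
  refine ⟨k, k.2, ?_⟩
  calc (k : G)⁻¹ * w * u = (k : G)⁻¹ * (w * u * w⁻¹) * w := by group
    _ = (k : G)⁻¹ * ((k : G) * u * (k : G)⁻¹) * w := by rw [h2]
    _ = u * ((k : G)⁻¹ * w) := by group

/-- a `p`-element of class size prime to `m` is central -/
theorem qfr_pelt_T_central [Finite G] (h : QFHyp G m n) (y : G) (hy : cs y = m) {p : ℕ}
    (hp : p.Prime) (hpn : p ∣ n) (t : G) (ht : (cs t).Coprime m) (b : ℕ)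
    (htb : orderOf t = p ^ b) : t ∈ Subgroup.center G := by
  rw [Subgroup.mem_center_iff]
  intro g
  have hc : ⁅g, t⁆ ∈ qfK G m := qfr_comm_mem_K g t ht
  have hct : ⁅g, t⁆ * t = t * ⁅g, t⁆ := qfr_K_comm_T h y hy t ht _ hc
  have h1 : g * t * g⁻¹ = ⁅g, t⁆ * t := by rw [commutatorElement_def]; group
  have h2 : (g * t * g⁻¹) ^ (p ^ b) = 1 := by
    rw [conj_pow, ← htb, pow_orderOf_eq_one]; group
  rw [h1, (show Commute ⁅g, t⁆ t from hct).mul_pow, ← htb, pow_orderOf_eq_one, mul_one, htb] at h2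
  have h3 := qfr_K_eq_one_of_pow h y hy hp hpn b _ hc h2
  rw [commutatorElement_def] at h3
  calc g * t = (g * t * g⁻¹ * t⁻¹) * t * g := by group
    _ = t * g := by rw [h3, one_mul]

/-- L10 : `K` contains an element of class size `n` -/
theorem qfr_exists_x_in_K [Finite G] (h : QFHyp G m n) (x y : G) (hx : cs x = n)
    (hy : cs y = m) : ∃ x' ∈ qfK G m, cs x' = n := by
  obtain ⟨p, hp, hpn⟩ := Nat.exists_prime_and_dvd (show n ≠ 1 by have := h.hn; omega)
  obtain ⟨u, hu, a, hua⟩ := qfr_exists_pelt_top h x y hx hy p hp hpn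
  have hxT : (cs x).Coprime m := by rw [hx]; exact h.hcop.symm
  have hxu : ⁅x, u⁆ ∈ qfK G m := by
    rw [← commutatorElement_inv]
    exact (qfK G m).inv_mem (qfr_comm_mem_K u x hxT)
  obtain ⟨k, hk, hc⟩ := qfr_exists_K_decomp h y hy hp hpn u hu a hua x hxu
  set c := k⁻¹ * x with hcdef
  set e := Nat.card (qfK G m) with hedef
  have hkinv : k⁻¹ ∈ qfK G m := (qfK G m).inv_mem hk
  -- `c ^ e` is central
  have hce : c ^ e ∈ Subgroup.center G := by
    rw [Subgroup.mem_center_iff]
    intro g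
    have hgc : ⁅g, c⁆ ∈ qfK G m := by
      have e1 : ⁅g, c⁆ = (g * k⁻¹ * g⁻¹) * ⁅g, x⁆ * k := by
        rw [commutatorElement_def, commutatorElement_def, hcdef]; group
      rw [e1]
      exact (qfK G m).mul_mem ((qfK G m).mul_mem ((qfK_normal m).conj_mem _ hkinv g)
        (qfr_comm_mem_K g x hxT)) hk
    have hcomm : ⁅g, c⁆ * c = c * ⁅g, c⁆ := by
      have e1 : ⁅g, c⁆ * k⁻¹ = k⁻¹ * ⁅g, c⁆ := qfr_K_comm h y hy _ _ hgc hkinv
      have e2 : ⁅g, c⁆ * x = x * ⁅g, c⁆ := qfr_K_comm_T h y hy x hxT _ hgc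
      calc ⁅g, c⁆ * c = (⁅g, c⁆ * k⁻¹) * x := by rw [hcdef]; group
        _ = k⁻¹ * (⁅g, c⁆ * x) := by rw [e1]; group
        _ = k⁻¹ * (x * ⁅g, c⁆) := by rw [e2]
        _ = c * ⁅g, c⁆ := by rw [hcdef]; group
    have h1 : g * c * g⁻¹ = ⁅g, c⁆ * c := by rw [commutatorElement_def]; group
    have h2 : ⁅g, c⁆ ^ e = 1 := by
      have := Subgroup.orderOf_dvd_natCard _ hgc
      exact orderOf_dvd_iff_pow_eq_one.1 this
    have h3 : g * c ^ e * g⁻¹ = c ^ e := by
      rw [← conj_pow, h1, (show Commute ⁅g, c⁆ c from hcomm).mul_pow, h2, one_mul]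
    calc g * c ^ e = (g * c ^ e * g⁻¹) * g := by group
      _ = c ^ e * g := by rw [h3]
  -- `u ≠ 1`
  have hpa : 1 < p ^ a := by
    by_contra hle
    have h1 : p ^ a = 1 := by
      have : 0 < p ^ a := Nat.pos_of_ne_zero (pow_ne_zero _ hp.ne_zero)
      omega
    rw [h1, orderOf_eq_one_iff] at hua
    have h2 : cs u = 1 := by
      rw [cs_eq_one_iff_mem_center, hua]; exact Subgroup.one_mem _
    have := h.hmn
    have := h.hn
    omega
  have hcop : e.Coprime (p ^ a) := (qfr_pow_coprime_cardK h y hy hp hpn a).symm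
  obtain ⟨t, -, ht⟩ := Nat.exists_mul_mod_eq_one_of_coprime hcop hpa
  -- `C(c u) ≤ C(u)`
  have hcu : Commute c u := hc
  have hpow : (c * u) ^ (e * t) = (c ^ e) ^ t * u := by
    rw [hcu.mul_pow, pow_mul]
    congr 1
    rw [← pow_mod_orderOf, hua, ht, pow_one]
  have hzt : (c ^ e) ^ t ∈ Subgroup.center G := Subgroup.pow_mem _ hce t
  have hle : Subgroup.centralizer ({c * u} : Set G) ≤ Subgroup.centralizer ({u} : Set G) := by
    intro g hg
    rw [mem_cent] at hg ⊢
    have h1 : Commute g ((c * u) ^ (e * t)) := (show Commute g (c * u) from hg).pow_right _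
    rw [hpow] at h1
    have h2 : g * ((c ^ e) ^ t) = (c ^ e) ^ t * g := Subgroup.mem_center_iff.1 hzt g
    have h3 : (c ^ e) ^ t * (g * u) = (c ^ e) ^ t * (u * g) := by
      calc (c ^ e) ^ t * (g * u) = (g * (c ^ e) ^ t) * u := by rw [h2]; group
        _ = g * ((c ^ e) ^ t * u) := by group
        _ = (c ^ e) ^ t * u * g := h1
        _ = (c ^ e) ^ t * (u * g) := by group
    exact mul_left_cancel h3
  have hcs : cs (c * u) = m := by
    have h1 : cs (x * u) = m := qfr_absorb_top h x u hxT hu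
    have h2 : c * u = k⁻¹ * (x * u) := by rw [hcdef]; group
    rw [h2]
    exact qfr_K_mul_top h _ _ hkinv h1
  have hle2 : Subgroup.centralizer ({u} : Set G) ≤ Subgroup.centralizer ({c * u} : Set G) := by
    rw [← Subgroup.relIndex_eq_one]
    have h1 := Subgroup.relIndex_mul_index hle
    rw [← cs_def, ← cs_def, hu, hcs] at h1
    have hm0 : 0 < m := by have := h.hmn; omega
    nlinarith
  have hle3 : Subgroup.centralizer ({u} : Set G) ≤ Subgroup.centralizer ({c} : Set G) := by
    intro g hg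
    have h1 := hle2 hg
    rw [mem_cent] at hg h1 ⊢
    have : (g * c) * u = (c * g) * u := by
      calc (g * c) * u = g * (c * u) := by group
        _ = c * u * g := h1
        _ = c * (u * g) := by group
        _ = c * (g * u) := by rw [hg]
        _ = (c * g) * u := by group
    exact mul_right_cancel this
  have hcZ : c ∈ Subgroup.center G := by
    rcases qfr_of_centralizer_le h x y hx hy u c hu hle3 with hc1 | ⟨hc1, -⟩
    · exact hc1
    · exfalso
      have h1 : x = k * c := by rw [hcdef]; group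
      have h2 : cs x = m := by rw [h1]; exact qfr_K_mul_top h _ _ hk hc1
      have := h.hmn
      omega
  refine ⟨k, hk, ?_⟩
  have h1 : k = x * c⁻¹ := by rw [hcdef]; group
  rw [h1, qfr_cs_mul_central x c⁻¹ (Subgroup.inv_mem _ hcZ), hx]

/-- L11 : a `p`-element centralizing an element of `K` of class size `n` is central -/
theorem qfr_pelt_cent_x_central [Finite G] (h : QFHyp G m n) (x y : G) (hx : cs x = n)
    (hy : cs y = m) {p : ℕ} (hp : p.Prime) (hpn : p ∣ n) (x' : G) (hx'K : x' ∈ qfK G m)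
    (hx' : cs x' = n) (g : G) (hg : g * x' = x' * g) (b : ℕ) (hgb : orderOf g = p ^ b) :
    g ∈ Subgroup.center G := by
  have hcop : (orderOf x').Coprime (orderOf g) := by
    rw [hgb]
    exact Nat.Coprime.coprime_dvd_left (Subgroup.orderOf_dvd_natCard _ hx'K)
      (qfr_pow_coprime_cardK h y hy hp hpn b).symm
  have hx'T : (cs x').Coprime m := by rw [hx']; exact h.hcop.symm
  have hn1 : n ≠ 1 := by have := h.hn; omega
  have hnm : n ≠ m := by have := h.hmn; omega
  by_cases hgm : cs g = m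
  · exfalso
    have hle := qfr_le_of_commute_coprime h g x' hgm hg.symm hcop
    rcases qfr_of_centralizer_le h x y hx hy g x' hgm hle with hc | ⟨hc, -⟩
    · have := (cs_eq_one_iff_mem_center x').2 hc
      omega
    · omega
  have hgn : cs g ≤ n := h.le_of_ne hgm
  have hxg : cs (x' * g) ≠ m := by
    intro he
    have h1 : (cs x'⁻¹).Coprime m := by rw [cs_inv]; exact hx'T
    have h2 := qfr_absorb_top h x'⁻¹ (x' * g) h1 he
    have h3 : x'⁻¹ * (x' * g) = g := by group
    rw [h3] at h2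
    exact hgm h2
  have hxgn : cs (x' * g) ≤ n := h.le_of_ne hxg
  have hle : Subgroup.centralizer ({x' * g} : Set G) ≤ Subgroup.centralizer ({x'} : Set G) :=
    qfr_cent_mul_le x' g hg.symm hcop
  have hdvd : n ∣ cs (x' * g) := by
    have := Subgroup.index_dvd_of_le hle
    rwa [← cs_def, ← cs_def, hx'] at this
  have hcs : cs (x' * g) = n := by
    have h1 := Nat.le_of_dvd (Nat.pos_of_ne_zero (cs_ne_zero _)) hdvd
    omega
  have heq : Subgroup.centralizer ({x'} : Set G) ≤ Subgroup.centralizer ({x' * g} : Set G) := by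
    rw [← Subgroup.relIndex_eq_one]
    have h1 := Subgroup.relIndex_mul_index hle
    rw [← cs_def, ← cs_def, hx', hcs] at h1
    have hn0 : 0 < n := by have := h.hn; omega
    nlinarith
  have hle3 : Subgroup.centralizer ({x'} : Set G) ≤ Subgroup.centralizer ({g} : Set G) := by
    intro w hw
    have h1 := heq hw
    rw [mem_cent] at hw h1 ⊢
    have : x' * (w * g) = x' * (g * w) := by
      calc x' * (w * g) = (w * x') * g := by rw [← mul_assoc, hw]
        _ = w * (x' * g) := by group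
        _ = x' * g * w := h1
        _ = x' * (g * w) := by group
    exact mul_left_cancel this
  have hgT : (cs g).Coprime m := by
    have hd : cs g ∣ n := by
      have := Subgroup.index_dvd_of_le hle3
      rwa [← cs_def, ← cs_def, hx'] at this
    exact (Nat.Coprime.coprime_dvd_right hd h.hcop).symm
  exact qfr_pelt_T_central h y hy hp hpn g hgT b hgb

end Cfsg.Agent.Lib.Helper9
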