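import Mathlib
import Cfsg.Agent.Lib.Helper9.QFrobD
import Cfsg.Agent.S4163

set_option autoImplicit false

namespace Cfsg.Agent.Lib.Helper9

open Cfsg.Agent.Lib.Helper18.ClassGraph
open scoped Pointwise commutatorElement

variable {G : Type*} [Group G] {m n : ℕ}

theorem qfr_orderOf_conj (b u : G) : orderOf (b * u * b⁻¹) = orderOf u := by
  have := orderOf_injective (MulAut.conj b).toMonoidHom (MulAut.conj b).injective u
  simpa [MulAut.conj_apply] using this

theorem qfr_comm_K_mem (k g : G) (hk : k ∈ qfK G m) : ⁅k, g⁆ ∈ qfK G m := by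
  rw [commutatorElement_def, mul_assoc, mul_assoc]
  apply (qfK G m).mul_mem hk
  rw [← mul_assoc]
  exact (qfK_normal m).conj_mem _ ((qfK G m).inv_mem hk) g

/-- step (iii) of the main lemma -/
theorem qfr_comm_mul_mem_cls [Finite G] (h : QFHyp G m n) (y : G)
    (hy : cs y = m) {p : ℕ} (hp : p.Prime) (hpn : p ∣ n) (x' : G) (hx'K : x' ∈ qfK G m)
    (hx' : cs x' = n) (u : G) (hu : cs u = m) (a : ℕ) (hua : orderOf u = p ^ a)
    (g : G) (hgu : g * u = u * g) (hg : cs g ≤ n) (k : G) (hk : k ∈ qfK G m) :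
    ⁅k, g⁆ * x' ∈ cls x' := by
  set H : Subgroup G := Subgroup.centralizer ({u} : Set G) with hH
  have hgH : g ∈ H := mem_cent.2 hgu
  have hKH : ∀ c ∈ qfK G m, c ∈ H → c = 1 := fun c hc hcH =>
    qfr_K_inf_cent_u h y hy hp hpn u hu a hua c hc (mem_cent.1 hcH)
  have hx'T : (cs x').Coprime m := by rw [hx']; exact h.hcop.symm
  have hxg : cs (x' * g) ≠ m := by
    intro he
    have h1 : (cs x'⁻¹).Coprime m := by rw [cs_inv]; exact hx'T
    have h2 := qfr_absorb_top h x'⁻¹ (x' * g) h1 he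
    have h3 : x'⁻¹ * (x' * g) = g := by group
    rw [h3] at h2
    have := h.hmn
    omega
  have hxgn : cs (x' * g) ≤ n := h.le_of_ne hxg
  -- key separation: `(v x' v⁻¹)(v g v⁻¹) = x'' g` with `x'' ∈ K` forces `v x' v⁻¹ = x''`
  have hsep : ∀ v ∈ H, ∀ x'' ∈ qfK G m, v * (x' * g) * v⁻¹ = x'' * g → v * x' * v⁻¹ = x'' := by
    intro v hv x'' hx'' he
    have e1 : x''⁻¹ * (v * x' * v⁻¹) = g * (v * g * v⁻¹)⁻¹ := by
      have : v * x' * v⁻¹ * (v * g * v⁻¹) = x'' * g := by rw [← he]; group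
      calc x''⁻¹ * (v * x' * v⁻¹) = x''⁻¹ * (v * x' * v⁻¹ * (v * g * v⁻¹)) * (v * g * v⁻¹)⁻¹ := by
            group
        _ = x''⁻¹ * (x'' * g) * (v * g * v⁻¹)⁻¹ := by rw [this]
        _ = g * (v * g * v⁻¹)⁻¹ := by group
    have e2 : x''⁻¹ * (v * x' * v⁻¹) ∈ qfK G m :=
      (qfK G m).mul_mem ((qfK G m).inv_mem hx'') ((qfK_normal m).conj_mem _ hx'K v)
    have e3 : x''⁻¹ * (v * x' * v⁻¹) ∈ H := by
      rw [e1]
      exact H.mul_mem hgH (H.inv_mem (H.mul_mem (H.mul_mem hv hgH) (H.inv_mem hv)))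
    have e4 := hKH _ e2 e3
    calc v * x' * v⁻¹ = x'' * (x''⁻¹ * (v * x' * v⁻¹)) := by group
      _ = x'' := by rw [e4, mul_one]
  -- (i)
  have hi : Subgroup.centralizer ({x' * g} : Set G) ⊓ H ≤ Subgroup.centralizer ({x'} : Set G) ⊓ H := by
    intro v hv
    rw [Subgroup.mem_inf] at hv ⊢
    refine ⟨?_, hv.2⟩
    have h1 : v * (x' * g) = x' * g * v := mem_cent.1 hv.1
    have h2 : v * (x' * g) * v⁻¹ = x' * g := by rw [h1]; group
    have h3 := hsep v hv.2 x' hx'K h2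
    rw [mem_cent]
    calc v * x' = (v * x' * v⁻¹) * v := by group
      _ = x' * v := by rw [h3]
  -- relIndex computations
  have hn1 : (Subgroup.centralizer ({x'} : Set G)).relIndex H = n := by
    rw [relIndex_eq_index_of_coprime, ← cs_def, hx']
    rw [← cs_def, ← cs_def, hx', hu]
    exact h.hcop.symm
  have hdvd : n ∣ (Subgroup.centralizer ({x' * g} : Set G)).relIndex H := by
    rw [← hn1, ← Subgroup.inf_relIndex_right, ← Subgroup.inf_relIndex_right
      (Subgroup.centralizer ({x' * g} : Set G)) H]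
    exact Subgroup.relIndex_dvd_of_le_left H hi
  set O : Set G := {w : G | ∃ v ∈ H, w = v * (x' * g) * v⁻¹} with hO
  have hOcard : O.ncard = (Subgroup.centralizer ({x' * g} : Set G)).relIndex H :=
    Cfsg.Agent.S4163.ncard_conj_orbit H (x' * g)
  have hOsub : O ⊆ cls (x' * g) := by
    rintro w ⟨v, -, rfl⟩
    exact ⟨v, rfl⟩
  have hOle : O.ncard ≤ cs (x' * g) := by
    rw [← ncard_cls]
    exact Set.ncard_le_ncard hOsub (Set.toFinite _)
  have hOpos : 0 < O.ncard := by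
    rw [Set.ncard_pos (Set.toFinite _)]
    exact ⟨x' * g, 1, H.one_mem, by group⟩
  have hOn : O.ncard = n := by
    rw [hOcard] at hOle hOpos ⊢
    have := Nat.le_of_dvd hOpos hdvd
    omega
  have hOeq : O = cls (x' * g) := by
    apply Set.eq_of_subset_of_ncard_le hOsub _ (Set.toFinite _)
    rw [ncard_cls, hOn]
    exact hxgn
  -- (iii)
  have hkx : k * x' = x' * k := qfr_K_comm h y hy k x' hk hx'K
  have hmem : k * (x' * g) * k⁻¹ ∈ O := by
    rw [hOeq]; exact ⟨k, rfl⟩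
  obtain ⟨v, hv, hve⟩ := hmem
  have hckg : ⁅k, g⁆ ∈ qfK G m := qfr_comm_K_mem k g hk
  have e1 : k * (x' * g) * k⁻¹ = (x' * ⁅k, g⁆) * g := by
    rw [commutatorElement_def]
    calc k * (x' * g) * k⁻¹ = (k * x') * g * k⁻¹ := by group
      _ = (x' * k) * g * k⁻¹ := by rw [hkx]
      _ = x' * (k * g * k⁻¹ * g⁻¹) * g := by group
  have h3 := hsep v hv (x' * ⁅k, g⁆) ((qfK G m).mul_mem hx'K hckg) (by rw [← hve, e1])
  have h4 : ⁅k, g⁆ * x' = x' * ⁅k, g⁆ := qfr_K_comm h y hy _ _ hckg hx'K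
  rw [h4, ← h3]
  exact ⟨v, rfl⟩

/-- L12 : a non-`Y` element centralizing a `p`-element of `Y` is central -/
theorem qfr_cent_top_central [Finite G] (h : QFHyp G m n) (x y : G) (hx : cs x = n)
    (hy : cs y = m) {p : ℕ} (hp : p.Prime) (hpn : p ∣ n) (u : G) (hu : cs u = m) (a : ℕ)
    (hua : orderOf u = p ^ a) (g : G) (hgu : g * u = u * g) (hg : cs g ≤ n) :
    g ∈ Subgroup.center G := by
  obtain ⟨x', hx'K, hx'⟩ := qfr_exists_x_in_K h x y hx hy
  -- the subgroup generated by the commutators `[k, b g b⁻¹]`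
  set S : Set G := {s | ∃ k ∈ qfK G m, ∃ b : G, s = ⁅k, b * g * b⁻¹⁆} with hS
  have hSSt : S ⊆ ((St x' : Subgroup G) : Set G) := by
    rintro s ⟨k, hk, b, rfl⟩ w hw
    obtain ⟨c, rfl⟩ := hw
    set k' := c⁻¹ * k * c⁻¹⁻¹ with hk'
    set b' := c⁻¹ * b with hb'
    have hk'K : k' ∈ qfK G m := (qfK_normal m).conj_mem _ hk c⁻¹
    have hu' : cs (b' * u * b'⁻¹) = m := by rw [cs_conj]; exact hu
    have hua' : orderOf (b' * u * b'⁻¹) = p ^ a := by
      rw [← hua]
      exact qfr_orderOf_conj b' u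
    have hg' : cs (b' * g * b'⁻¹) ≤ n := by rw [cs_conj]; exact hg
    have hgu' : (b' * g * b'⁻¹) * (b' * u * b'⁻¹) = (b' * u * b'⁻¹) * (b' * g * b'⁻¹) := by
      calc (b' * g * b'⁻¹) * (b' * u * b'⁻¹) = b' * (g * u) * b'⁻¹ := by group
        _ = b' * (u * g) * b'⁻¹ := by rw [hgu]
        _ = (b' * u * b'⁻¹) * (b' * g * b'⁻¹) := by group
    have h1 := qfr_comm_mul_mem_cls h y hy hp hpn x' hx'K hx' (b' * u * b'⁻¹) hu' a hua'
      (b' * g * b'⁻¹) hgu' hg' k' hk'K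
    have h2 : ⁅k, b * g * b⁻¹⁆ * (c * x' * c⁻¹) = c * (⁅k', b' * g * b'⁻¹⁆ * x') * c⁻¹ := by
      rw [hk', hb', commutatorElement_def, commutatorElement_def]; group
    rw [h2]
    exact conj_mem_cls h1 c
  have hSK : S ⊆ ((qfK G m : Subgroup G) : Set G) := by
    rintro s ⟨k, hk, b, rfl⟩
    exact qfr_comm_K_mem k _ hk
  set L : Subgroup G := Subgroup.closure S with hL
  have hLSt : L ≤ St x' := (Subgroup.closure_le _).2 hSSt
  have hLK : L ≤ qfK G m := (Subgroup.closure_le _).2 hSK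
  have hLcard : Nat.card L ∣ n := by
    have := card_dvd_of_le_St x' L hLSt
    rwa [hx'] at this
  have hKcard := qfr_card_K_dvd h y hy
  have hcomm : ∀ k ∈ qfK G m, k * g = g * k := by
    intro k hk
    have h1 : ⁅k, g⁆ ∈ L := by
      apply Subgroup.subset_closure
      exact ⟨k, hk, 1, by simp⟩
    have h2 := qfr_eq_one_of_mem_mem h L (qfK G m) hLcard hKcard _ h1 (hLK h1)
    rw [commutatorElement_def] at h2
    calc k * g = (k * g * k⁻¹ * g⁻¹) * g * k := by group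
      _ = g * k := by rw [h2, one_mul]
  have hgx : g * x' = x' * g := (hcomm x' hx'K).symm
  -- (v)
  obtain ⟨b, s, hps, hbs⟩ := Nat.exists_eq_pow_mul_and_not_dvd (orderOf_pos g).ne' p hp.ne_one
  have hs0 : s ≠ 0 := by
    rintro rfl
    rw [mul_zero] at hbs
    exact (orderOf_pos g).ne' hbs
  have hcops : (p ^ b).Coprime s := Nat.Coprime.pow_left _ ((Nat.Prime.coprime_iff_not_dvd hp).2 hps)
  -- `g₁ = g ^ (p ^ b)` has order `s`
  have ho1 : orderOf (g ^ (p ^ b)) = s := by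
    rw [orderOf_pow_of_dvd (pow_ne_zero _ hp.ne_zero) (Dvd.intro _ hbs.symm), hbs]
    exact Nat.mul_div_cancel_left _ (Nat.pos_of_ne_zero (pow_ne_zero _ hp.ne_zero))
  have ho2 : orderOf (g ^ s) = p ^ b := by
    rw [orderOf_pow_of_dvd hs0 (Dvd.intro_left _ hbs.symm), hbs]
    exact Nat.mul_div_cancel _ (Nat.pos_of_ne_zero hs0)
  have hz1 : g ^ (p ^ b) ∈ Subgroup.center G := by
    have hc1 : g ^ (p ^ b) * u = u * g ^ (p ^ b) := (Commute.pow_left (show Commute g u from hgu) _)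
    have hcop1 : (orderOf (g ^ (p ^ b))).Coprime (orderOf u) := by
      rw [ho1, hua]
      exact Nat.Coprime.pow_right _ ((Nat.Prime.coprime_iff_not_dvd hp).2 hps).symm
    have hle := qfr_le_of_commute_coprime h u (g ^ (p ^ b)) hu hc1 hcop1
    rcases qfr_of_centralizer_le h x y hx hy u _ hu hle with hc | ⟨hc, -⟩
    · exact hc
    · exfalso
      have h1 : cs (g ^ (p ^ b)) ∣ cs g := Subgroup.index_dvd_of_le (qfr_cent_le_pow g _)
      have h2 := Nat.le_of_dvd (Nat.pos_of_ne_zero (cs_ne_zero g)) h1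
      have := h.hmn
      omega
  have hz2 : g ^ s ∈ Subgroup.center G := by
    have hc2 : g ^ s * x' = x' * g ^ s := (Commute.pow_left (show Commute g x' from hgx) _)
    exact qfr_pelt_cent_x_central h x y hx hy hp hpn x' hx'K hx' (g ^ s) hc2 b ho2
  exact qfr_mem_of_pow_mem _ g (p ^ b) s hcops hz1 hz2

end Cfsg.Agent.Lib.Helper9
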