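import Mathlib
import Cfsg.Agent.Lib.Helper9.QFrobE

set_option autoImplicit false

namespace Cfsg.Agent.Lib.Helper9

open Cfsg.Agent.Lib.Helper18.ClassGraph
open scoped Pointwise commutatorElement

variable {G : Type*} [Group G] {m n : ℕ}

/-- L13 : noncentral `p`-elements (`p ∣ n`) have class size `m` -/
theorem qfr_pelt_top [Finite G] (h : QFHyp G m n) (x y : G) (hx : cs x = n)
    (hy : cs y = m) {p : ℕ} (hp : p.Prime) (hpn : p ∣ n) (v : G) (b : ℕ)
    (hvb : orderOf v = p ^ b) (hvZ : v ∉ Subgroup.center G) : cs v = m := by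
  by_contra hne
  have hvn : cs v ≤ n := h.le_of_ne hne
  haveI : Fact p.Prime := ⟨hp⟩
  obtain ⟨u, hu, a, hua⟩ := qfr_exists_pelt_top h x y hx hy p hp hpn
  have hidx : ¬ p ∣ (Subgroup.centralizer ({u} : Set G)).index := by
    rw [← cs_def, hu]; exact h.not_dvd_top hp hpn
  obtain ⟨Q, hQ⟩ := cgd_exists_sylow_le p _ hidx
  have hQidx : ¬ p ∣ (Q : Subgroup G).relIndex ⊤ := by
    rw [Subgroup.relIndex_top_right]; exact Q.not_dvd_index
  obtain ⟨c, -, hc⟩ := Cfsg.Agent.Lib.Helper22.exists_conj_mem_of_pelement p ⊤ (Q : Subgroup G) Q.2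
    hQidx v (Subgroup.mem_top v) b hvb
  have hcu : (c⁻¹ * v * c) * u = u * (c⁻¹ * v * c) := mem_cent.1 (hQ hc)
  have hcs : cs (c⁻¹ * v * c) ≤ n := by
    have : c⁻¹ * v * c = c⁻¹ * v * c⁻¹⁻¹ := by group
    rw [this, cs_conj]; exact hvn
  have hz := qfr_cent_top_central h x y hx hy hp hpn u hu a hua _ hcu hcs
  apply hvZ
  have : v = c * (c⁻¹ * v * c) * c⁻¹ := by group
  rw [this]
  exact (Subgroup.center G).normal_of_characteristic.conj_mem _ hz c

/-- L14 : `p`-elements centralizing a noncentral element of class size `≤ n` are central -/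
theorem qfr_pelt_cent_central [Finite G] (h : QFHyp G m n) (x y : G) (hx : cs x = n)
    (hy : cs y = m) {p : ℕ} (hp : p.Prime) (hpn : p ∣ n) (g : G) (hg : cs g ≤ n)
    (hgZ : g ∉ Subgroup.center G) (v : G) (hvg : v * g = g * v) (b : ℕ)
    (hvb : orderOf v = p ^ b) : v ∈ Subgroup.center G := by
  by_contra hvZ
  have hv : cs v = m := qfr_pelt_top h x y hx hy hp hpn v b hvb hvZ
  exact hgZ (qfr_cent_top_central h x y hx hy hp hpn v hv b hvb g hvg.symm hg)

/-- all class sizes are `1`, `n` or `m` -/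
theorem qfr_trichotomy [Finite G] (h : QFHyp G m n) (x y : G) (hx : cs x = n)
    (hy : cs y = m) (g : G) : cs g = 1 ∨ cs g = n ∨ cs g = m := by
  by_cases hgm : cs g = m
  · exact Or.inr (Or.inr hgm)
  have hgn : cs g ≤ n := h.le_of_ne hgm
  by_cases hgZ : g ∈ Subgroup.center G
  · exact Or.inl ((cs_eq_one_iff_mem_center g).2 hgZ)
  right; left
  set C : Subgroup G := Subgroup.centralizer ({g} : Set G) with hC
  have hZC : Subgroup.center G ≤ C := by
    intro z hz
    rw [hC, mem_cent]
    exact ((Subgroup.mem_center_iff.1 hz) g).symm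
  -- `p ∤ [C : Z]` for every prime `p ∣ n`
  have hnd : ∀ p : ℕ, p.Prime → p ∣ n → ¬ p ∣ (Subgroup.center G).relIndex C := by
    intro p hp hpn
    haveI : Fact p.Prime := ⟨hp⟩
    obtain ⟨P⟩ : Nonempty (Sylow p C) := inferInstance
    have hle : (P : Subgroup C) ≤ (Subgroup.center G).subgroupOf C := by
      intro c hc
      rw [Subgroup.mem_subgroupOf]
      obtain ⟨b, hb⟩ := (IsPGroup.iff_orderOf.1 P.2) ⟨c, hc⟩
      rw [Subgroup.orderOf_mk] at hb
      have hcg : (c : G) * g = g * (c : G) := mem_cent.1 c.2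
      exact qfr_pelt_cent_central h x y hx hy hp hpn g hgn hgZ (c : G) hcg b
        (by rw [Subgroup.orderOf_coe]; exact hb)
    intro hd
    have h1 : ((Subgroup.center G).subgroupOf C).index ∣ (P : Subgroup C).index :=
      Subgroup.index_dvd_of_le hle
    exact P.not_dvd_index (hd.trans h1)
  have hcopr : n.Coprime ((Subgroup.center G).relIndex C) := by
    apply Nat.coprime_of_dvd
    intro k hk h1 h2
    exact hnd k hk h1 h2
  have hZidx : (Subgroup.center G).relIndex C * cs g = (Subgroup.center G).index := by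
    rw [cs_def]
    exact Subgroup.relIndex_mul_index hZC
  have hZx : n ∣ (Subgroup.center G).index := by
    have hZCx : Subgroup.center G ≤ Subgroup.centralizer ({x} : Set G) := by
      intro z hz
      rw [mem_cent]
      exact ((Subgroup.mem_center_iff.1 hz) x).symm
    have := Subgroup.relIndex_mul_index hZCx
    rw [← cs_def, hx] at this
    exact Dvd.intro_left _ this
  have hdvd : n ∣ cs g := by
    rw [← hZidx] at hZx
    exact hcopr.dvd_of_dvd_mul_left hZx
  have := Nat.le_of_dvd (Nat.pos_of_ne_zero (cs_ne_zero g)) hdvd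
  omega

end Cfsg.Agent.Lib.Helper9
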