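import Mathlib
import Cfsg.Prelude.Def_Solvable
import Cfsg.Agent.Lib.Helper9.QFrobF
import Cfsg.Agent.Lib.Helper18.ClassGraphC

set_option autoImplicit false

namespace Cfsg.Agent.Lib.Helper9

open Cfsg.Agent.Lib.Helper18.ClassGraph Cfsg.Agent.Lib.Helper18.ClassGraphB
  Cfsg.Agent.Lib.Helper18.ClassGraphC
open scoped Pointwise commutatorElement

variable {G : Type*} [Group G] {m n : ℕ}

theorem qfr_main [Finite G] (h : QFHyp G m n) (x y : G) (hx : cs x = n) (hy : cs y = m) :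
    (∀ c1 ∈ Subgroup.centralizer ({x} : Set G), ∀ c2 ∈ Subgroup.centralizer ({x} : Set G),
      c1 * c2 = c2 * c1) ∧
    (∀ c1 ∈ Subgroup.centralizer ({y} : Set G), ∀ c2 ∈ Subgroup.centralizer ({y} : Set G),
      c1 * c2 = c2 * c1) ∧
    Cfsg.IsFrobeniusComplement
      ((Subgroup.centralizer ({y} : Set G)).map (QuotientGroup.mk' (Subgroup.center G))) ∧
    Cfsg.frobeniusKernel
      ((Subgroup.centralizer ({y} : Set G)).map (QuotientGroup.mk' (Subgroup.center G))) =
      (((Subgroup.centralizer ({x} : Set G)).map (QuotientGroup.mk' (Subgroup.center G)) :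
        Subgroup (G ⧸ Subgroup.center G)) : Set (G ⧸ Subgroup.center G)) := by
  have hn1 : n ≠ 1 := by have := h.hn; omega
  have hm1 : m ≠ 1 := by have := h.hn; have := h.hmn; omega
  set S1 : Set ℕ := {p | p.Prime ∧ p ∣ n} with hS1
  set S2 : Set ℕ := {p | p.Prime ∧ p ∣ m} with hS2
  have hdisj : ∀ p, p ∈ S1 → p ∈ S2 → False := by
    rintro p ⟨hp, hpn⟩ ⟨-, hpm⟩
    exact h.not_dvd_top hp hpn hpm
  have hSn : SNum S1 n := fun p hp hd => ⟨hp, hd⟩
  have hSm : SNum S2 m := fun p hp hd => ⟨hp, hd⟩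
  have hdich : ∀ g : G, SNum S1 (cs g) ∨ SNum S2 (cs g) := by
    intro g
    rcases qfr_trichotomy h x y hx hy g with h1 | h1 | h1
    · left; rw [h1]; exact SNum.one _
    · left; rw [h1]; exact hSn
    · right; rw [h1]; exact hSm
  have hb : ∀ g : G, cs g ≤ cs y := by intro g; rw [hy]; exact h.htop g
  have hbS : SNum S2 (cs y) := by rw [hy]; exact hSm
  have hb1 : cs y ≠ 1 := by rw [hy]; exact hm1
  obtain ⟨N, K, hNn, hKn, hN, hKN, hcomm, hKS2, hSt, hcentz⟩ := partA hdisj hdich y hb hbS hb1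
  obtain ⟨p, hp, hpn⟩ := Nat.exists_prime_and_dvd hn1
  haveI : Fact p.Prime := ⟨hp⟩
  have hpm : ¬ p ∣ m := h.not_dvd_top hp hpn
  have hpK : ¬ p ∣ Nat.card K := fun hd => hpm (hKS2 p hp hd).2
  have hS2 : ∀ w : G, w ∉ N → SNum S2 (cs w) := by
    intro w hw
    exact (hdich w).resolve_left (fun h' => hw ((hN w).2 h'))
  have hpy : ∀ w : G, w ∉ N → ¬ p ∣ cs w := fun w hw hd => hpm (hS2 w hw p hp hd).2
  have hcent : ∀ w ∈ N, ∀ k ∈ K, k * w = w * k := fun w hw k hk => mem_cent.1 (hcentz w hw hk)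
  have hconj : ∀ w : G, w ∉ N → ∀ k ∈ K, ∃ v : G, k * w = v * w * v⁻¹ :=
    fun w hw k hk => (hSt w hw hk) w (self_mem_cls w)
  have hcop : ∀ w ∈ N, ∀ w' : G, w' ∉ N → (cs w).Coprime (cs w') :=
    fun w hw w' hw' => SNum.coprime hdisj ((hN w).1 hw) (hS2 w' hw')
  -- a noncentral `p`-element `u` commuting with `y`
  have hidx : ¬ p ∣ (Subgroup.centralizer ({y} : Set G)).index := by
    rw [← cs_def, hy]; exact hpm
  obtain ⟨P, hP⟩ := cgd_exists_sylow_le p _ hidx
  have hex : ∃ c ∈ (P : Subgroup G), c ∉ Subgroup.center G := by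
    by_contra hcon
    push Not at hcon
    have h1 : (P : Subgroup G) ≤ Subgroup.centralizer ({x} : Set G) := by
      intro c hc
      rw [mem_cent]
      exact ((Subgroup.mem_center_iff.1 (hcon c hc)) x).symm
    have h2 : p ∣ (Subgroup.centralizer ({x} : Set G)).index := by
      rw [← cs_def, hx]; exact hpn
    exact P.not_dvd_index (h2.trans (Subgroup.index_dvd_of_le h1))
  obtain ⟨u, huP, hu⟩ := hex
  obtain ⟨a, hua⟩ := Cfsg.Agent.Lib.Helper22.orderOf_of_mem_pgroup p P P.2 u huP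
  have huy : u * y = y * u := mem_cent.1 (hP huP)
  have hucs : cs u = m := qfr_pelt_top h x y hx hy hp hpn u a hua hu
  obtain ⟨hF1, hF2, hF3⟩ := frob_of_data N K hKN hcomm hcent hconj hcop p hpK hpy u hu a hua
  -- `C(u) = C(y)`
  have hyu : y ∈ Subgroup.centralizer ({u} : Set G) := mem_cent.2 huy.symm
  have hle : Subgroup.centralizer ({u} : Set G) ≤ Subgroup.centralizer ({y} : Set G) := by
    intro c hc
    rw [mem_cent]
    exact hF3 c hc y hyu
  have heq : Subgroup.centralizer ({u} : Set G) = Subgroup.centralizer ({y} : Set G) := by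
    apply le_antisymm hle
    rw [← Subgroup.relIndex_eq_one]
    have h1 := Subgroup.relIndex_mul_index hle
    rw [← cs_def, ← cs_def, hucs, hy] at h1
    have hm0 : 0 < m := by have := h.hmn; omega
    nlinarith
  -- structure of `C(x)`
  have hxN : x ∈ N := (hN x).2 (by rw [hx]; exact hSn)
  have hxZ : x ∉ Subgroup.center G := by
    intro hz
    exact hn1 (by rw [← hx]; exact (cs_eq_one_iff_mem_center x).2 hz)
  have hKx : K ≤ Subgroup.centralizer ({x} : Set G) := hcentz x hxN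
  obtain ⟨kx, hkx, hx', hhx', hxdec⟩ :=
    exists_KH N K hcomm hcent hconj p hpK hpy u hu a hua x
  have hhx'N : hx' ∈ N := by
    have : hx' = kx⁻¹ * x := by rw [hxdec]; group
    rw [this]
    exact N.mul_mem (N.inv_mem (hKN hkx)) hxN
  have hhx'Z : hx' ∈ Subgroup.center G :=
    N_inf_H N K hcomm hcent hconj p hpK hpy u hu a hua hx' hhx'N hhx'
  have hkx1 : kx ≠ 1 := by
    rintro rfl
    rw [one_mul] at hxdec
    exact hxZ (hxdec ▸ hhx'Z)
  have hCx : ∀ c ∈ Subgroup.centralizer ({x} : Set G), ∃ k ∈ K, ∃ z ∈ Subgroup.center G,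
      c = k * z := by
    intro c hc
    obtain ⟨k, hk, h', hh', rfl⟩ := exists_KH N K hcomm hcent hconj p hpK hpy u hu a hua c
    refine ⟨k, hk, h', ?_, rfl⟩
    by_contra hh'Z
    have hh'x : h' ∈ Subgroup.centralizer ({x} : Set G) := by
      have : h' = k⁻¹ * (k * h') := by group
      rw [this]
      exact Subgroup.mul_mem _ (Subgroup.inv_mem _ (hKx hk)) hc
    rw [mem_cent] at hh'x
    -- `h'` commutes with `kx`
    have hz : ∀ w : G, w * hx' = hx' * w := fun w => Subgroup.mem_center_iff.1 hhx'Z w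
    have hcomm2 : kx * h' = h' * kx := by
      have e1 : h' * (kx * hx') = kx * hx' * h' := by rw [← hxdec]; exact hh'x
      have e2 : (h' * kx) * hx' = (kx * h') * hx' := by
        calc (h' * kx) * hx' = h' * (kx * hx') := by group
          _ = kx * hx' * h' := e1
          _ = kx * (hx' * h') := by group
          _ = kx * (h' * hx') := by rw [hz h']
          _ = (kx * h') * hx' := by group
      exact (mul_right_cancel e2).symm
    exact hkx1 (fpf N K hcomm hcent hconj p hpK hpy u hu a hua h' hh' hh'Z kx hkx hcomm2)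
  have hKab : ∀ k1 ∈ K, ∀ k2 ∈ K, k1 * k2 = k2 * k1 := fun k1 hk1 k2 hk2 =>
    hcent k2 (hKN hk2) k1 hk1
  refine ⟨?_, ?_, ?_, ?_⟩
  · intro c1 hc1 c2 hc2
    obtain ⟨k1, hk1, z1, hz1, rfl⟩ := hCx c1 hc1
    obtain ⟨k2, hk2, z2, hz2, rfl⟩ := hCx c2 hc2
    have e1 : ∀ w : G, w * z1 = z1 * w := fun w => Subgroup.mem_center_iff.1 hz1 w
    have e2 : ∀ w : G, w * z2 = z2 * w := fun w => Subgroup.mem_center_iff.1 hz2 w
    calc k1 * z1 * (k2 * z2) = k1 * (z1 * k2) * z2 := by group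
      _ = k1 * (k2 * z1) * z2 := by rw [e1 k2]
      _ = (k1 * k2) * (z1 * z2) := by group
      _ = (k2 * k1) * (z2 * z1) := by rw [hKab k1 hk1 k2 hk2, e1 z2]
      _ = k2 * (k1 * z2) * z1 := by group
      _ = k2 * (z2 * k1) * z1 := by rw [e2 k1]
      _ = k2 * z2 * (k1 * z1) := by group
  · intro c1 hc1 c2 hc2
    rw [← heq] at hc1 hc2
    exact hF3 c1 hc1 c2 hc2
  · rw [← heq]; exact hF1
  · rw [← heq, hF2]
    congr 1
    ext q
    constructor
    · rintro ⟨k, hk, rfl⟩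
      exact ⟨k, hKx hk, rfl⟩
    · rintro ⟨c, hc, rfl⟩
      obtain ⟨k, hk, z, hz, rfl⟩ := hCx c hc
      refine ⟨k, hk, ?_⟩
      rw [map_mul]
      have : (QuotientGroup.mk' (Subgroup.center G)) z = 1 := (QuotientGroup.eq_one_iff z).2 hz
      rw [this, mul_one]

end Cfsg.Agent.Lib.Helper9
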