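import Mathlib
import Cfsg.Agent.Lib.helper7.REE.Defs
import Cfsg.Agent.Lib.Helper9.REEG6Bcore
import Cfsg.Agent.Lib.Helper29.REEG3A
import Cfsg.Agent.Lib.Helper29.REEG4D
import Cfsg.Agent.Lib.Helper29.REEG6A
import Cfsg.Agent.Lib.Helper1.REEG1
import Cfsg.Agent.Lib.Helper29.REEG5F

set_option autoImplicit false

/-!
# Project REE (designer helper7), row G6B (helper9): the verbatim statement `classify`.
-/

namespace Cfsg.Agent.Lib.helper7.REE

open Matrix Cfsg.Agent.Lib.helper8

universe u v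

namespace ReeAx

variable {G : Type u} [Group G] [Finite G] {K : Type v} [Field K] [Fintype K] {m : ℕ}

/-- G6B. The classification of the elements. -/
theorem classify (R : ReeAx G K m) (g : G) :
    (∃ x : G, x * g * x⁻¹ ∈ R.B) ∨ (∃ x : G, x * g * x⁻¹ ∈ R.E) ∨ g ^ nn m = 1 :=
  reeg6b_core R (fun g hg => three_sing_conj R g hg) (fun g hg => even_conj R g hg)
    (fun p hp y hy => conj_H_A1 R p hp y hy) (fun h hh h1 ht => cent_H_elt R h hh h1 ht)
    (fun c hc hc1 => cent_A1_elt R c hc hc1) g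

end ReeAx

end Cfsg.Agent.Lib.helper7.REE
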