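import Mathlib
import Cfsg.Agent.Lib.helper7.REE.Defs
import Cfsg.Agent.Lib.helper4.REEG5A

set_option autoImplicit false

/-!
# Project RSS (designer helper6), row T2A (helper9): `rss_two_sub`, verbatim.
-/

namespace Cfsg.Agent.Lib.helper7.REE

open Matrix Cfsg.Agent.Lib.helper8

universe u v

namespace ReeAx

variable {G : Type u} [Group G] [Finite G] {K : Type v} [Field K] [Fintype K] {m : ℕ}

/-- T2A core: from the statement of `syl2_card` (first clause). -/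
theorem rsst2a_core (R : ReeAx G K m) (h8 : ∀ S : Sylow 2 G, Nat.card S = 8)
    (Q : Subgroup G) (hQ : Q ≠ ⊥) (hQ2 : IsPGroup 2 Q) :
    ∃ P : Sylow 2 G, Q ≤ P ∧ (∀ x ∈ Q, x * x = 1) ∧ (Nat.card Q = 2 ∨ Nat.card Q = 4 ∨ Q = P) := by
  obtain ⟨P, hQP⟩ := IsPGroup.exists_le_sylow hQ2
  refine ⟨P, hQP, fun x hx => (R.syl2 P).1 x (hQP hx), ?_⟩
  have hP8 : Nat.card (P : Subgroup G) = 8 := h8 P
  have hdvd : Nat.card Q ∣ 8 := by
    rw [← hP8]
    exact Subgroup.card_dvd_of_le hQP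
  have hne1 : Nat.card Q ≠ 1 := by
    intro h1
    exact hQ (Subgroup.eq_bot_of_card_eq Q h1)
  have hle : Nat.card Q ≤ 8 := Nat.le_of_dvd (by norm_num) hdvd
  have hpos : 0 < Nat.card Q := Nat.pos_of_dvd_of_pos hdvd (by norm_num)
  have hcases : Nat.card Q = 2 ∨ Nat.card Q = 4 ∨ Nat.card Q = 8 := by
    generalize Nat.card Q = n at *
    interval_cases n <;> simp_all <;> omega
  rcases hcases with h | h | h
  · exact Or.inl h
  · exact Or.inr (Or.inl h)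
  · refine Or.inr (Or.inr ?_)
    apply Subgroup.eq_of_le_of_card_ge hQP
    rw [hP8, h]

/-- T2A [S-M] (cites `syl2_card`, `R.syl2`). -/
theorem rss_two_sub (R : ReeAx G K m) (Q : Subgroup G) (hQ : Q ≠ ⊥) (hQ2 : IsPGroup 2 Q) :
    ∃ P : Sylow 2 G, Q ≤ P ∧ (∀ x ∈ Q, x * x = 1) ∧ (Nat.card Q = 2 ∨ Nat.card Q = 4 ∨ Q = P) :=
  rsst2a_core R (syl2_card R).1 Q hQ hQ2

end ReeAx

end Cfsg.Agent.Lib.helper7.REE
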