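import Mathlib
import Cfsg.Agent.Lib.helper7.REE.Defs
import Cfsg.Agent.Lib.Helper9.RSST2A

set_option autoImplicit false

/-!
# Project RSS (designer helper6), row T2 (helper9): `rss_two`, core on the statements of
`rss_four` (V2), `NV_basic` (2nd clause), `A1_basic` (2nd and 3rd clauses).
-/

namespace Cfsg.Agent.Lib.helper7.REE

open Matrix Cfsg.Agent.Lib.helper8

universe u v

namespace ReeAx

variable {G : Type u} [Group G] [Finite G] {K : Type v} [Field K] [Fintype K] {m : ℕ}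

/-- a subgroup closed under conjugation by the elements of `S` is normalised by `S` -/
theorem rsst2_le_normalizer (S Q : Subgroup G)
    (hn : ∀ s ∈ S, ∀ x ∈ Q, s * x * s⁻¹ ∈ Q) : S ≤ Subgroup.normalizer (Q : Set G) := by
  intro s hs
  rw [Subgroup.mem_normalizer_iff]
  intro x
  constructor
  · intro hx
    exact hn s hs x hx
  · intro hx
    have := hn s⁻¹ (S.inv_mem hs) _ hx
    simpa [mul_assoc] using this

/-- T2 on the statements of the cited rows -/
theorem rsst2_core (R : ReeAx G K m)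
    (hV2 : ∀ Q : Subgroup G, Nat.card Q = 4 → (∀ x ∈ Q, x * x = 1) →
      ∃ g : G, Q.map (MulAut.conj g).toMonoidHom = R.V)
    (hNV : ∀ g ∈ Subgroup.normalizer (R.V : Set G), ∀ a ∈ R.A1, g * a * g⁻¹ ∈ R.A1)
    (hA1c : IsCyclic R.A1) (hA1card : 4 * Nat.card R.A1 = qq m + 1)
    (S Q : Subgroup G) (hQS : Q ≤ S) (hQ : Q ≠ ⊥) (hQ2 : IsPGroup 2 Q)
    (hn : ∀ s ∈ S, ∀ x ∈ Q, s * x * s⁻¹ ∈ Q) (hc : ∀ s ∈ S, (∀ x ∈ Q, s * x = x * s) → s ∈ Q) :
    ∃ A : Subgroup G, S ≤ Subgroup.normalizer (A : Set G) ∧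
      ((∃ P : Sylow 2 G, A = P) ∨ (IsCyclic A ∧ Nat.card A = (qq m + 1) / 4)) := by
  obtain ⟨P, hQP, hexp, hcases⟩ := rss_two_sub R Q hQ hQ2
  rcases hcases with h2 | h4 | hP
  · -- `|Q| = 2`
    refine ⟨P, ?_, Or.inl ⟨P, rfl⟩⟩
    have hSQ : S ≤ Q := by
      intro s hs
      apply hc s hs
      intro x hx
      by_cases hx1 : x = 1
      · rw [hx1, mul_one, one_mul]
      · have hy : s * x * s⁻¹ ∈ Q := hn s hs x hx
        have hy1 : s * x * s⁻¹ ≠ 1 := by
          intro h
          apply hx1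
          have : x = s⁻¹ * (s * x * s⁻¹) * s := by group
          rw [this, h]; group
        obtain ⟨z, -, hz⟩ := (Nat.card_eq_two_iff' (1 : Q)).1 h2
        have e1 : (⟨x, hx⟩ : Q) = z := hz _ (by
          intro h; apply hx1; exact congrArg Subtype.val h)
        have e2 : (⟨s * x * s⁻¹, hy⟩ : Q) = z := hz _ (by
          intro h; apply hy1; exact congrArg Subtype.val h)
        have e3 : s * x * s⁻¹ = x := by
          have := e2.trans e1.symm
          exact congrArg Subtype.val this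
        calc s * x = s * x * s⁻¹ * s := by group
          _ = x * s := by rw [e3]
    exact hSQ.trans (hQP.trans Subgroup.le_normalizer)
  · -- `|Q| = 4`
    obtain ⟨g, hg⟩ := hV2 Q h4 hexp
    refine ⟨R.A1.map (MulAut.conj g⁻¹).toMonoidHom, ?_, Or.inr ⟨?_, ?_⟩⟩
    · -- `S` normalises `g⁻¹ A₁ g`
      have hmemV : ∀ x ∈ Q, g * x * g⁻¹ ∈ R.V := by
        intro x hx
        rw [← hg]
        exact ⟨x, hx, by simp [MulAut.conj_apply]⟩
      have hVmem : ∀ v ∈ R.V, ∃ x ∈ Q, v = g * x * g⁻¹ := by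
        intro v hv
        rw [← hg] at hv
        obtain ⟨x, hx, hxv⟩ := hv
        exact ⟨x, hx, by rw [← hxv]; simp [MulAut.conj_apply]⟩
      have hNVmem : ∀ s ∈ S, g * s * g⁻¹ ∈ Subgroup.normalizer (R.V : Set G) := by
        have hsub : ∀ s ∈ S, ∀ v ∈ R.V, (g * s * g⁻¹) * v * (g * s * g⁻¹)⁻¹ ∈ R.V := by
          intro s hs v hv
          obtain ⟨x, hx, rfl⟩ := hVmem v hv
          have := hmemV _ (hn s hs x hx)
          have e : (g * s * g⁻¹) * (g * x * g⁻¹) * (g * s * g⁻¹)⁻¹ = g * (s * x * s⁻¹) * g⁻¹ := by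
            group
          rw [e]; exact this
        intro s hs
        rw [Subgroup.mem_normalizer_iff]
        intro v
        constructor
        · exact hsub s hs v
        · intro hv
          have := hsub s⁻¹ (S.inv_mem hs) _ hv
          have e : (g * s⁻¹ * g⁻¹) * ((g * s * g⁻¹) * v * (g * s * g⁻¹)⁻¹) * (g * s⁻¹ * g⁻¹)⁻¹ = v := by
            group
          rw [e] at this; exact this
      apply rsst2_le_normalizer
      intro s hs a' ha'
      obtain ⟨a, ha, rfl⟩ := ha'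
      refine ⟨(g * s * g⁻¹) * a * (g * s * g⁻¹)⁻¹, hNV _ (hNVmem s hs) a ha, ?_⟩
      simp only [MulEquiv.coe_toMonoidHom, MulAut.conj_apply]
      group
    · -- cyclic
      haveI := hA1c
      exact isCyclic_of_surjective ((R.A1.equivMapOfInjective (MulAut.conj g⁻¹).toMonoidHom
        (MulAut.conj g⁻¹).injective) : R.A1 →* _)
        (R.A1.equivMapOfInjective (MulAut.conj g⁻¹).toMonoidHom
          (MulAut.conj g⁻¹).injective).surjective
    · rw [Subgroup.card_map_of_injective (MulAut.conj g⁻¹).injective]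
      omega
  · -- `Q = P`
    refine ⟨P, ?_, Or.inl ⟨P, rfl⟩⟩
    rw [← hP]
    exact rsst2_le_normalizer S Q hn

end ReeAx

end Cfsg.Agent.Lib.helper7.REE
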