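import Mathlib
import Cfsg.Agent.Lib.helper7.REE.Defs
import Cfsg.Agent.Lib.Helper9.RSST2core
import Cfsg.Agent.Lib.Helper28.RSSV2
import Cfsg.Agent.Lib.Helper29.REEG5D
import Cfsg.Agent.Lib.Helper13.REEG4I

set_option autoImplicit false

/-!
# Project RSS (designer helper6), row T2 (helper9): `rss_two`, verbatim.
-/

namespace Cfsg.Agent.Lib.helper7.REE

open Matrix Cfsg.Agent.Lib.helper8

universe u v

namespace ReeAx

variable {G : Type u} [Group G] [Finite G] {K : Type v} [Field K] [Fintype K] {m : ℕ}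

/-- T2 [M] (cites T2A, V2, `NV_basic`, `A1_basic`). -/
theorem rss_two (R : ReeAx G K m) (S Q : Subgroup G) (hQS : Q ≤ S) (hQ : Q ≠ ⊥) (hQ2 : IsPGroup 2 Q)
    (hn : ∀ s ∈ S, ∀ x ∈ Q, s * x * s⁻¹ ∈ Q) (hc : ∀ s ∈ S, (∀ x ∈ Q, s * x = x * s) → s ∈ Q) :
    ∃ A : Subgroup G, S ≤ Subgroup.normalizer (A : Set G) ∧
      ((∃ P : Sylow 2 G, A = P) ∨ (IsCyclic A ∧ Nat.card A = (qq m + 1) / 4)) :=
  rsst2_core R (fun Q h4 he => rss_four R Q h4 he) (NV_basic R).2.1 (A1_basic R).2.1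
    (A1_basic R).2.2.1 S Q hQS hQ hQ2 hn hc

end ReeAx

end Cfsg.Agent.Lib.helper7.REE
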