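import Mathlib
import Cfsg.Prelude.Def_LieRecognition
import Cfsg.Prelude.Def_Involutions
import Cfsg.Agent.Lib.Helper9.StrongEmb

set_option autoImplicit false

namespace Cfsg.Agent.Lib.Helper9

open Subgroup MulAction

section RankOne
variable {G Ω : Type*} [Group G] [MulAction G Ω] {a : Ω} {t : G} {Q : Subgroup G}

theorem ro_two_trans (hS : Cfsg.IsRankOneSetup G Ω a t Q) {b c d e : Ω} (hbc : b ≠ c)
    (hde : d ≠ e) : ∃ g : G, g • b = d ∧ g • c = e :=
  (MulAction.is_two_pretransitive_iff.1 hS.two_transitive) hbc hde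

theorem ro_ta_ne (hS : Cfsg.IsRankOneSetup G Ω a t Q) : t • a ≠ a :=
  fun h => hS.not_mem (MulAction.mem_stabilizer_iff.2 h)

theorem ro_t_inv (hS : Cfsg.IsRankOneSetup G Ω a t Q) : t⁻¹ = t :=
  inv_eq_of_mul_eq_one_right hS.mul_self

theorem ro_tta (hS : Cfsg.IsRankOneSetup G Ω a t Q) : t • t • a = a := by
  rw [← mul_smul, hS.mul_self, one_smul]

theorem ro_D_le_normalizer (hS : Cfsg.IsRankOneSetup G Ω a t Q) :
    MulAction.stabilizer G a ⊓ MulAction.stabilizer G (t • a) ≤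
      Subgroup.normalizer (Q : Set G) := by
  intro d hd
  have hdH : d ∈ MulAction.stabilizer G a := (Subgroup.mem_inf.1 hd).1
  rw [Subgroup.mem_normalizer_iff]
  intro x
  constructor
  · intro hx
    exact hS.conj_mem d hdH x hx
  · intro hx
    have := hS.conj_mem d⁻¹ (inv_mem hdH) _ hx
    have e : d⁻¹ * (d * x * d⁻¹) * d⁻¹⁻¹ = x := by group
    rwa [e] at this

theorem ro_decomp (hS : Cfsg.IsRankOneSetup G Ω a t Q) {h : G}
    (hh : h ∈ MulAction.stabilizer G a) :
    ∃ x ∈ Q, ∃ d ∈ MulAction.stabilizer G a ⊓ MulAction.stabilizer G (t • a), h = x * d := by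
  rw [← hS.sup_eq] at hh
  have h1 := Subgroup.coe_mul_of_right_le_normalizer_left Q _ (ro_D_le_normalizer hS)
  have h2 : h ∈ ((Q ⊔ (MulAction.stabilizer G a ⊓ MulAction.stabilizer G (t • a)) :
      Subgroup G) : Set G) := hh
  rw [h1] at h2
  obtain ⟨x, hx, d, hd, hxd⟩ := Set.mem_mul.1 h2
  exact ⟨x, hx, d, hd, hxd.symm⟩

theorem ro_Q_transitive (hS : Cfsg.IsRankOneSetup G Ω a t Q) {b : Ω} (hb : b ≠ a) :
    ∃ x ∈ Q, x • (t • a) = b := by
  obtain ⟨g, hga, hgb⟩ := ro_two_trans hS (ro_ta_ne hS).symm hb.symm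
  obtain ⟨x, hx, d, hd, hxd⟩ := ro_decomp hS (MulAction.mem_stabilizer_iff.2 hga)
  refine ⟨x, hx, ?_⟩
  have hd2 : d • (t • a) = t • a := MulAction.mem_stabilizer_iff.1 (Subgroup.mem_inf.1 hd).2
  rw [← hgb, hxd, mul_smul, hd2]

theorem ro_Q_semiregular (hS : Cfsg.IsRankOneSetup G Ω a t Q) {x : G} (hx : x ∈ Q) {b : Ω}
    (hb : b ≠ a) (hfix : x • b = b) : x = 1 := by
  obtain ⟨y, hy, hyb⟩ := ro_Q_transitive hS hb
  have h1 : y⁻¹ * x * y ∈ Q ⊓ MulAction.stabilizer G (t • a) := by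
    refine Subgroup.mem_inf.2 ⟨mul_mem (mul_mem (inv_mem hy) hx) hy, ?_⟩
    rw [MulAction.mem_stabilizer_iff, mul_smul, mul_smul, hyb, hfix, ← hyb, inv_smul_smul]
  rw [hS.inf_eq_bot, Subgroup.mem_bot] at h1
  have : x = y * (y⁻¹ * x * y) * y⁻¹ := by group
  rw [this, h1]; group

theorem ro_regular (hS : Cfsg.IsRankOneSetup G Ω a t Q) {b c : Ω} (hb : b ≠ a) (hc : c ≠ a) :
    ∃! x : Q, (x : G) • b = c := by
  obtain ⟨y, hy, hyb⟩ := ro_Q_transitive hS hb
  obtain ⟨z, hz, hzc⟩ := ro_Q_transitive hS hc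
  refine ⟨⟨z * y⁻¹, mul_mem hz (inv_mem hy)⟩, ?_, ?_⟩
  · show (z * y⁻¹) • b = c
    rw [← hyb, mul_smul, inv_smul_smul, hzc]
  · rintro ⟨w, hw⟩ hwb
    have hwb' : w • b = c := hwb
    apply Subtype.ext
    show w = z * y⁻¹
    have h1 : ((z * y⁻¹)⁻¹ * w) • b = b := by
      rw [mul_smul, hwb', ← hzc, ← hyb, inv_smul_eq_iff, mul_smul, inv_smul_smul]
    have h2 := ro_Q_semiregular hS
      (mul_mem (inv_mem (mul_mem hz (inv_mem hy))) hw) hb h1
    have : w = (z * y⁻¹) * ((z * y⁻¹)⁻¹ * w) := by group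
    rw [this, h2, mul_one]

end RankOne

section RankOneFinite
variable {G Ω : Type*} [Group G] [Finite G] [MulAction G Ω] {a : Ω} {t : G} {Q : Subgroup G}

theorem ro_D_sq (hS : Cfsg.IsRankOneSetup G Ω a t Q) {d : G}
    (hd : d ∈ MulAction.stabilizer G a ⊓ MulAction.stabilizer G (t • a)) (hd2 : d * d = 1) :
    d = 1 := by
  have h1 : orderOf d ∣ 2 := orderOf_dvd_of_pow_eq_one (by rw [pow_two]; exact hd2)
  have h2 : orderOf d ∣ Nat.card ↥(MulAction.stabilizer G a ⊓ MulAction.stabilizer G (t • a)) := by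
    have := orderOf_dvd_natCard (⟨d, hd⟩ :
      ↥(MulAction.stabilizer G a ⊓ MulAction.stabilizer G (t • a)))
    rwa [Subgroup.orderOf_mk] at this
  have h3 : orderOf d ∣ 1 := by
    have hc : Nat.Coprime 2
        (Nat.card ↥(MulAction.stabilizer G a ⊓ MulAction.stabilizer G (t • a))) :=
      (Nat.coprime_two_left).2 hS.odd_card
    have := Nat.dvd_gcd h1 h2
    rwa [hc.gcd_eq_one] at this
  exact orderOf_eq_one_iff.1 (Nat.dvd_one.1 h3)

theorem ro_invol_mem_Q (hS : Cfsg.IsRankOneSetup G Ω a t Q) {s : G}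
    (hs : s ∈ MulAction.stabilizer G a) (hs2 : s * s = 1) : s ∈ Q := by
  obtain ⟨x, hx, d, hd, hxd⟩ := ro_decomp hS hs
  have hdH : d ∈ MulAction.stabilizer G a := (Subgroup.mem_inf.1 hd).1
  have h1 : d * d ∈ Q := by
    have e : d * d = ((x * (d * x * d⁻¹))⁻¹) * (x * d * (x * d)) := by group
    rw [e, ← hxd, hs2, mul_one]
    exact inv_mem (mul_mem hx (hS.conj_mem d hdH x hx))
  have h2 : d * d ∈ Q ⊓ MulAction.stabilizer G (t • a) :=
    Subgroup.mem_inf.2 ⟨h1, mul_mem (Subgroup.mem_inf.1 hd).2 (Subgroup.mem_inf.1 hd).2⟩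
  rw [hS.inf_eq_bot, Subgroup.mem_bot] at h2
  rw [hxd, ro_D_sq hS hd h2, mul_one]
  exact hx

theorem ro_invol_fixed (hS : Cfsg.IsRankOneSetup G Ω a t Q) {s : G}
    (hs : s ∈ MulAction.stabilizer G a) (hs1 : s ≠ 1) (hs2 : s * s = 1) {b : Ω}
    (hb : s • b = b) : b = a := by
  by_contra hba
  exact hs1 (ro_Q_semiregular hS (ro_invol_mem_Q hS hs hs2) hba hb)

theorem orderOf_two_iff {s : G} : orderOf s = 2 ↔ s ≠ 1 ∧ s * s = 1 := by
  have : Fact (Nat.Prime 2) := ⟨Nat.prime_two⟩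
  constructor
  · intro h
    refine ⟨ne_one_of_orderOf_two h, mul_self_of_orderOf_two h⟩
  · rintro ⟨h1, h2⟩
    exact orderOf_eq_prime (by rw [pow_two]; exact h2) h1

theorem ro_se (hS : Cfsg.IsRankOneSetup G Ω a t Q) :
    Cfsg.IsStronglyEmbedded (MulAction.stabilizer G a) := by
  refine ⟨?_, ?_, ?_⟩
  · intro htop
    apply hS.not_mem
    rw [htop]
    exact Subgroup.mem_top t
  · have h1 : Nat.card Q ∣ Nat.card (MulAction.stabilizer G a) := Subgroup.card_dvd_of_le hS.le
    exact hS.even_card.trans_dvd h1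
  · intro g hg
    by_contra hodd
    rw [Nat.not_odd_iff_even] at hodd
    obtain ⟨s, hs, hs2⟩ := exists_involution_of_even_card _ hodd
    obtain ⟨hs1, hss⟩ := orderOf_two_iff.1 hs2
    have hsH := (Subgroup.mem_inf.1 hs).1
    have hsg := (Subgroup.mem_inf.1 hs).2
    rw [mem_map_conj_iff, MulAction.mem_stabilizer_iff, mul_smul, mul_smul, inv_smul_eq_iff] at hsg
    have := ro_invol_fixed hS hsH hs1 hss hsg
    exact hg (MulAction.mem_stabilizer_iff.2 this)

omit [Finite G] in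
theorem ro_exists_smul_eq (hS : Cfsg.IsRankOneSetup G Ω a t Q) (b : Ω) : ∃ g : G, g • a = b := by
  by_cases hb : b = a
  · exact ⟨1, by rw [one_smul, hb]⟩
  · obtain ⟨x, -, hx⟩ := ro_Q_transitive hS hb
    exact ⟨x * t, by rw [mul_smul, hx]⟩

/-- an involution fixes at most one point -/
theorem ro_invol_fixed_unique (hS : Cfsg.IsRankOneSetup G Ω a t Q) {u : G} (hu1 : u ≠ 1)
    (hu2 : u * u = 1) {b c : Ω} (hb : u • b = b) (hc : u • c = c) : b = c := by
  obtain ⟨g, rfl⟩ := ro_exists_smul_eq hS b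
  have h1 : g⁻¹ * u * g ∈ MulAction.stabilizer G a := by
    rw [MulAction.mem_stabilizer_iff, mul_smul, mul_smul, hb, inv_smul_smul]
  have h2 : g⁻¹ * u * g ≠ 1 := by
    intro h0
    apply hu1
    have : u = g * (g⁻¹ * u * g) * g⁻¹ := by group
    rw [this, h0]; group
  have h3 : (g⁻¹ * u * g) * (g⁻¹ * u * g) = 1 := by
    have : (g⁻¹ * u * g) * (g⁻¹ * u * g) = g⁻¹ * (u * u) * g := by group
    rw [this, hu2]; group
  have h4 : (g⁻¹ * u * g) • (g⁻¹ • c) = g⁻¹ • c := by
    rw [← mul_smul]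
    have : g⁻¹ * u * g * g⁻¹ = g⁻¹ * u := by group
    rw [this, mul_smul, hc]
  have := ro_invol_fixed hS h1 h2 h3 h4
  rw [inv_smul_eq_iff] at this
  exact this.symm

/-- every involution fixes a point -/
theorem ro_invol_exists_fixed (hS : Cfsg.IsRankOneSetup G Ω a t Q) {u : G} (hu1 : u ≠ 1)
    (hu2 : u * u = 1) : ∃ b : Ω, u • b = b := by
  obtain ⟨g, hg⟩ := se_exists_conj_mem (ro_se hS) (orderOf_two_iff.2 ⟨hu1, hu2⟩)
  refine ⟨g • a, ?_⟩
  have := MulAction.mem_stabilizer_iff.1 hg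
  rw [mul_smul, mul_smul, inv_smul_eq_iff] at this
  exact this


/-- `|Ω| = |Q| + 1` -/
theorem ro_card_points (hS : Cfsg.IsRankOneSetup G Ω a t Q) : Nat.card Ω = Nat.card Q + 1 := by
  let f : Option Q → Ω := fun o => match o with
    | none => a
    | some x => (x : G) • (t • a)
  have hbij : Function.Bijective f := by
    constructor
    · intro o o' h
      match o, o' with
      | none, none => rfl
      | none, some x =>
        exfalso
        have h1 : (x : G) • (t • a) = a := h.symm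
        have h2 : t • a = a := by
          have := congrArg (fun b => (x : G)⁻¹ • b) h1
          simp only [inv_smul_smul] at this
          rw [this, inv_smul_eq_iff, MulAction.mem_stabilizer_iff.1 (hS.le x.2)]
        exact ro_ta_ne hS h2
      | some x, none =>
        exfalso
        have h1 : (x : G) • (t • a) = a := h
        have h2 : t • a = a := by
          have := congrArg (fun b => (x : G)⁻¹ • b) h1
          simp only [inv_smul_smul] at this
          rw [this, inv_smul_eq_iff, MulAction.mem_stabilizer_iff.1 (hS.le x.2)]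
        exact ro_ta_ne hS h2
      | some x, some y =>
        have h1 : (x : G) • (t • a) = (y : G) • (t • a) := h
        have h2 : ((y : G)⁻¹ * (x : G)) • (t • a) = t • a := by
          rw [mul_smul, h1, inv_smul_smul]
        have h3 := ro_Q_semiregular hS (mul_mem (inv_mem y.2) x.2) (ro_ta_ne hS) h2
        have h4 : (x : G) = (y : G) := by
          have : (x : G) = (y : G) * ((y : G)⁻¹ * (x : G)) := by group
          rw [this, h3, mul_one]
        exact congrArg some (Subtype.ext h4)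
    · intro b
      by_cases hb : b = a
      · exact ⟨none, hb.symm⟩
      · obtain ⟨x, hx, hxb⟩ := ro_Q_transitive hS hb
        exact ⟨some ⟨x, hx⟩, hxb⟩
  rw [← Nat.card_congr (Equiv.ofBijective f hbij), Finite.card_option]

theorem ro_finite (hS : Cfsg.IsRankOneSetup G Ω a t Q) : Finite Ω :=
  Finite.of_surjective (fun g : G => g • a) (ro_exists_smul_eq hS)

/-- `|G_a| = |Q| |D|` -/
theorem ro_card_stabilizer (hS : Cfsg.IsRankOneSetup G Ω a t Q) :
    Nat.card (MulAction.stabilizer G a) = Nat.card Q *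
      Nat.card ↥(MulAction.stabilizer G a ⊓ MulAction.stabilizer G (t • a)) := by
  rw [← Nat.card_prod]
  symm
  let f : Q × ↥(MulAction.stabilizer G a ⊓ MulAction.stabilizer G (t • a)) →
      MulAction.stabilizer G a := fun p =>
    ⟨(p.1 : G) * (p.2 : G), mul_mem (hS.le p.1.2) (Subgroup.mem_inf.1 p.2.2).1⟩
  have hbij : Function.Bijective f := by
    constructor
    · rintro ⟨x, d⟩ ⟨x', d'⟩ h
      have h1 : (x : G) * (d : G) = (x' : G) * (d' : G) := congrArg Subtype.val h
      have h2 : (x' : G)⁻¹ * (x : G) = (d' : G) * (d : G)⁻¹ := by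
        have : (x' : G)⁻¹ * (x : G) = (x' : G)⁻¹ * ((x : G) * (d : G)) * (d : G)⁻¹ := by group
        rw [this, h1]; group
      have h3 : (x' : G)⁻¹ * (x : G) ∈ Q ⊓ MulAction.stabilizer G (t • a) := by
        refine Subgroup.mem_inf.2 ⟨mul_mem (inv_mem x'.2) x.2, ?_⟩
        rw [h2]
        exact mul_mem (Subgroup.mem_inf.1 d'.2).2 (inv_mem (Subgroup.mem_inf.1 d.2).2)
      rw [hS.inf_eq_bot, Subgroup.mem_bot] at h3
      have hx : (x : G) = (x' : G) := by
        have : (x : G) = (x' : G) * ((x' : G)⁻¹ * (x : G)) := by group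
        rw [this, h3, mul_one]
      have hd : (d : G) = (d' : G) := by
        rw [hx] at h1
        exact mul_left_cancel h1
      exact Prod.ext (Subtype.ext hx) (Subtype.ext hd)
    · rintro ⟨h, hh⟩
      obtain ⟨x, hx, d, hd, hxd⟩ := ro_decomp hS hh
      exact ⟨(⟨x, hx⟩, ⟨d, hd⟩), Subtype.ext hxd.symm⟩
  exact Nat.card_congr (Equiv.ofBijective f hbij)

/-- `|G| = |Q| |D| (|Q| + 1)` -/
theorem ro_card_group (hS : Cfsg.IsRankOneSetup G Ω a t Q) :
    Nat.card G = Nat.card Q *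
      Nat.card ↥(MulAction.stabilizer G a ⊓ MulAction.stabilizer G (t • a)) *
        (Nat.card Q + 1) := by
  have : MulAction.IsPretransitive G Ω := by
    have := hS.two_transitive
    exact MulAction.isPretransitive_of_is_two_pretransitive
  have h1 := MulAction.index_stabilizer_of_transitive G a
  have h2 := Subgroup.card_mul_index (MulAction.stabilizer G a)
  rw [h1, ro_card_points hS, ro_card_stabilizer hS] at h2
  exact h2.symm

/-- a Sylow 2-subgroup of `G` lies in `Q` -/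
theorem ro_sylow_le (hS : Cfsg.IsRankOneSetup G Ω a t Q) :
    ∃ P : Sylow 2 G, (P : Subgroup G) ≤ Q := by
  have : Fact (Nat.Prime 2) := ⟨Nat.prime_two⟩
  obtain ⟨P₀⟩ : Nonempty (Sylow 2 Q) := inferInstance
  have hcard : Nat.card ((P₀ : Subgroup Q).map Q.subtype) =
      2 ^ (Nat.card G).factorization 2 := by
    rw [Subgroup.card_map_of_injective Q.subtype_injective]
    have h1 : Nat.card (P₀ : Subgroup Q) = 2 ^ (Nat.card Q).factorization 2 :=
      P₀.card_eq_multiplicity
    rw [h1, ro_card_group hS]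
    have hQ0 : Nat.card Q ≠ 0 := Nat.card_pos.ne'
    have hD0 : Nat.card ↥(MulAction.stabilizer G a ⊓ MulAction.stabilizer G (t • a)) ≠ 0 :=
      Nat.card_pos.ne'
    rw [Nat.factorization_mul (mul_ne_zero hQ0 hD0) (Nat.succ_ne_zero _),
      Nat.factorization_mul hQ0 hD0]
    have hDodd : ¬ 2 ∣ Nat.card ↥(MulAction.stabilizer G a ⊓ MulAction.stabilizer G (t • a)) := by
      intro h2
      exact (Nat.not_even_iff_odd.2 hS.odd_card) (even_iff_two_dvd.2 h2)
    have hQodd : ¬ 2 ∣ Nat.card Q + 1 := by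
      intro h2
      have := hS.even_card
      rw [even_iff_two_dvd] at this
      omega
    simp only [Finsupp.coe_add, Pi.add_apply]
    rw [Nat.factorization_eq_zero_of_not_dvd hDodd, Nat.factorization_eq_zero_of_not_dvd hQodd,
      add_zero, add_zero]
  refine ⟨Sylow.ofCard _ hcard, ?_⟩
  rw [Sylow.coe_ofCard]
  exact Subgroup.map_subtype_le _

/-- the canonical form `g = x t y` -/
theorem ro_canonical (hS : Cfsg.IsRankOneSetup G Ω a t Q) {g : G}
    (hg : g ∉ MulAction.stabilizer G a) :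
    ∃! p : G × G, p.1 ∈ MulAction.stabilizer G a ∧ p.2 ∈ Q ∧ g = p.1 * t * p.2 := by
  have htt := hS.mul_self
  have hga : g⁻¹ • a ≠ a := by
    intro h
    apply hg
    rw [MulAction.mem_stabilizer_iff]
    rw [inv_smul_eq_iff] at h
    exact h.symm
  obtain ⟨y, hy, hyb⟩ := ro_Q_transitive hS hga
  refine ⟨(g * y * t, y⁻¹), ⟨?_, inv_mem hy, ?_⟩, ?_⟩
  · show g * y * t ∈ MulAction.stabilizer G a
    rw [MulAction.mem_stabilizer_iff, mul_smul, mul_smul, hyb, smul_inv_smul]
  · show g = g * y * t * t * y⁻¹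
    have : g * y * t * t * y⁻¹ = g * y * (t * t) * y⁻¹ := by group
    rw [this, htt]; group
  · rintro ⟨x', y'⟩ ⟨hx', hy', hrel⟩
    change x' ∈ MulAction.stabilizer G a at hx'
    change y' ∈ Q at hy'
    change g = x' * t * y' at hrel
    have h1 : g⁻¹ • a = y'⁻¹ • t • a := by
      rw [hrel, mul_inv_rev, mul_inv_rev, ro_t_inv hS, mul_smul, mul_smul,
        MulAction.mem_stabilizer_iff.1 (inv_mem hx')]
    have h2 : (y' * y) • (t • a) = t • a := by
      rw [mul_smul, hyb, h1, smul_inv_smul]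
    have h3 := ro_Q_semiregular hS (mul_mem hy' hy) (ro_ta_ne hS) h2
    have hy'y : y' = y⁻¹ := eq_inv_of_mul_eq_one_left h3
    have hx'x : x' = g * y * t := by
      rw [hrel, hy'y]
      have : x' * t * y⁻¹ * y * t = x' * (t * t) := by group
      rw [this, htt, mul_one]
    rw [hx'x, hy'y]


end RankOneFinite

end Cfsg.Agent.Lib.Helper9
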