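import Mathlib
import Cfsg.Agent.Lib.Helper9.RankOne
import Cfsg.Agent.S1224

set_option autoImplicit false

namespace Cfsg.Agent.Lib.Helper9

open Subgroup MulAction

section
variable {G Ω : Type*} [Group G] [Finite G] [MulAction G Ω] {a : Ω} {t : G} {Q : Subgroup G}

omit [Finite G] in
theorem ro_mem_D_of_inverted (hS : Cfsg.IsRankOneSetup G Ω a t Q) {k : G}
    (hk : k ∈ MulAction.stabilizer G a) (hinv : t * k * t⁻¹ = k⁻¹) :
    k ∈ MulAction.stabilizer G a ⊓ MulAction.stabilizer G (t • a) := by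
  refine Subgroup.mem_inf.2 ⟨hk, ?_⟩
  rw [MulAction.mem_stabilizer_iff, ← mul_smul]
  have e : k * t = t * k⁻¹ := by
    rw [← hinv, ro_t_inv hS]
    have : t * (t * k * t) = (t * t) * k * t := by group
    rw [this, hS.mul_self, one_mul]
  rw [e, mul_smul, MulAction.mem_stabilizer_iff.1 (inv_mem hk)]

omit [Finite G] in
theorem mem_involutionsIn_iff {S : Set G} {x : G} :
    x ∈ Cfsg.involutionsIn S ↔ x ∈ S ∧ x ≠ 1 ∧ x * x = 1 := Iff.rfl

omit [Finite G] in
theorem mem_invertedBy_iff {D : Subgroup G} {t x : G} :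
    x ∈ Cfsg.invertedBy D t ↔ x ∈ D ∧ t * x * t⁻¹ = x⁻¹ := Iff.rfl

/-- `t s t` lies outside the point stabilizer -/
theorem ro_conj_not_mem (hS : Cfsg.IsRankOneSetup G Ω a t Q) {s : G}
    (hs : s ∈ MulAction.stabilizer G a) (hs1 : s ≠ 1) (hs2 : s * s = 1) :
    t * s * t ∉ MulAction.stabilizer G a := by
  intro hmem
  have h1 : t * s * t ≠ 1 := by
    intro h0
    apply hs1
    have : s = t⁻¹ * (t * s * t) * t⁻¹ := by group
    rw [this, h0]
    rw [ro_t_inv hS, mul_one, hS.mul_self]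
  have h2 : (t * s * t) * (t * s * t) = 1 := by
    have : (t * s * t) * (t * s * t) = t * s * (t * t) * s * t := by group
    rw [this, hS.mul_self, mul_one]
    have : t * s * s * t = t * (s * s) * t := by group
    rw [this, hs2, mul_one, hS.mul_self]
  have h3 : (t * s * t) • (t • a) = t • a := by
    rw [← mul_smul]
    have : t * s * t * t = t * s * (t * t) := by group
    rw [this, hS.mul_self, mul_one, mul_smul, MulAction.mem_stabilizer_iff.1 hs]
  exact ro_ta_ne hS (ro_invol_fixed hS hmem h1 h2 h3)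

/-- the elements of `D` inverted by `t` fuse the involutions of the point stabilizer -/
theorem ro_K_conj (hS : Cfsg.IsRankOneSetup G Ω a t Q) {s s' : G}
    (hs : s ∈ Cfsg.involutionsIn (MulAction.stabilizer G a : Set G))
    (hs' : s' ∈ Cfsg.involutionsIn (MulAction.stabilizer G a : Set G)) :
    ∃ k ∈ Cfsg.invertedBy (MulAction.stabilizer G a ⊓ MulAction.stabilizer G (t • a)) t,
      k⁻¹ * s * k = s' := by
  obtain ⟨hsH, hs1, hs2⟩ := hs
  obtain ⟨hsH', hs1', hs2'⟩ := hs'
  have hse := ro_se hS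
  have hv : t * s * t ∉ MulAction.stabilizer G a := ro_conj_not_mem hS hsH hs1 hs2
  have hvo : orderOf (t * s * t) = 2 := by
    have := conj_orderOf_two (orderOf_two_iff.2 ⟨hs1, hs2⟩) t
    rwa [ro_t_inv hS] at this
  obtain ⟨r, hr1, hr2⟩ := se_swap hse (orderOf_two_iff.2 ⟨hs1', hs2'⟩) hsH' hvo hv
  have hri : r⁻¹ = r := inv_eq_of_mul_eq_one_right hr1
  have hk : (t * r)⁻¹ * s * (t * r) = s' := by
    rw [mul_inv_rev, hri, ro_t_inv hS]
    have e : r * t * s * (t * r) = r * (t * s * t) * r := by group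
    rw [e, ← hr2]
    have e2 : r * (r * s' * r) * r = (r * r) * s' * (r * r) := by group
    rw [e2, hr1, one_mul, mul_one]
  have hkH : t * r ∈ MulAction.stabilizer G a := by
    apply se_mem_of_conj_mem hse (orderOf_two_iff.2 ⟨hs1, hs2⟩) hsH
    rw [hk]; exact hsH'
  have hinv : t * (t * r) * t⁻¹ = (t * r)⁻¹ := by
    rw [mul_inv_rev, hri, ro_t_inv hS]
    have : t * (t * r) * t = (t * t) * r * t := by group
    rw [this, hS.mul_self, one_mul]
  exact ⟨t * r, ⟨ro_mem_D_of_inverted hS hkH hinv, hinv⟩, hk⟩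

/-- there are as many elements of `D` inverted by `t` as involutions in the point stabilizer -/
theorem ro_K_card (hS : Cfsg.IsRankOneSetup G Ω a t Q) :
    Nat.card (Cfsg.invertedBy (MulAction.stabilizer G a ⊓ MulAction.stabilizer G (t • a)) t) =
      Nat.card (Cfsg.involutionsIn (MulAction.stabilizer G a : Set G)) := by
  have hse := ro_se hS
  have hti := ro_t_inv hS
  have hxy : (QuotientGroup.mk 1 : G ⧸ MulAction.stabilizer G a) ≠ QuotientGroup.mk t := by
    intro heq
    rw [QuotientGroup.eq] at heq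
    apply hS.not_mem
    simpa using heq
  have h1 := Cfsg.Agent.S1224.result _ hse _ _ hxy
  have h2 : Nat.card {t' : G // orderOf t' = 2 ∧ t' ∈ MulAction.stabilizer G a} =
      Nat.card (Cfsg.involutionsIn (MulAction.stabilizer G a : Set G)) := by
    apply Nat.card_congr
    apply Equiv.subtypeEquivRight
    intro x
    rw [mem_involutionsIn_iff, orderOf_two_iff]
    constructor
    · rintro ⟨⟨h1, h2⟩, h3⟩
      exact ⟨h3, h1, h2⟩
    · rintro ⟨h3, h1, h2⟩
      exact ⟨⟨h1, h2⟩, h3⟩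
  rw [← h2, ← h1]
  apply Nat.card_congr
  refine ⟨fun k => ⟨t * k.1, ?_⟩, fun i => ⟨t * i.1, ?_⟩, ?_, ?_⟩
  · obtain ⟨k, hkD, hkinv⟩ := k
    have hkH : k ∈ MulAction.stabilizer G a := (Subgroup.mem_inf.1 hkD).1
    refine ⟨orderOf_two_iff.2 ⟨?_, ?_⟩, ?_⟩
    · intro h0
      apply hS.not_mem
      have : t = k⁻¹ := eq_inv_of_mul_eq_one_left h0
      rw [this]
      exact inv_mem hkH
    · show t * k * (t * k) = 1
      have e : t * k * (t * k) = (t * k * t⁻¹) * k := by rw [hti]; group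
      rw [e, hkinv, inv_mul_cancel]
    · rw [smul_mk_eq_mk_iff]
      show t⁻¹ * (t * k) * 1 ∈ _
      have : t⁻¹ * (t * k) * 1 = k := by group
      rw [this]; exact hkH
  · obtain ⟨i, hi2, hi⟩ := i
    rw [smul_mk_eq_mk_iff, hti, mul_one] at hi
    obtain ⟨hi1, hii⟩ := orderOf_two_iff.1 hi2
    have hinv : t * (t * i) * t⁻¹ = (t * i)⁻¹ := by
      rw [mul_inv_rev, hti, inv_eq_of_mul_eq_one_right hii]
      have : t * (t * i) * t = (t * t) * i * t := by group
      rw [this, hS.mul_self, one_mul]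
    exact ⟨ro_mem_D_of_inverted hS hi hinv, hinv⟩
  · intro k
    apply Subtype.ext
    show t * (t * k.1) = k.1
    rw [← mul_assoc, hS.mul_self, one_mul]
  · intro i
    apply Subtype.ext
    show t * (t * i.1) = i.1
    rw [← mul_assoc, hS.mul_self, one_mul]

omit [Finite G] in
theorem ro_conj_mem_involutionsIn (_hS : Cfsg.IsRankOneSetup G Ω a t Q) {s k : G}
    (hs : s ∈ Cfsg.involutionsIn (MulAction.stabilizer G a : Set G))
    (hk : k ∈ MulAction.stabilizer G a) :
    k⁻¹ * s * k ∈ Cfsg.involutionsIn (MulAction.stabilizer G a : Set G) := by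
  obtain ⟨hsH, hs1, hs2⟩ := hs
  refine ⟨mul_mem (mul_mem (inv_mem hk) hsH) hk, ?_, ?_⟩
  · intro h0
    apply hs1
    have : s = k * (k⁻¹ * s * k) * k⁻¹ := by group
    rw [this, h0]; group
  · have : k⁻¹ * s * k * (k⁻¹ * s * k) = k⁻¹ * (s * s) * k := by group
    rw [this, hs2]; group

/-- conjugation of a fixed involution by the elements inverted by `t` is injective -/
theorem ro_K_conj_inj (hS : Cfsg.IsRankOneSetup G Ω a t Q) {s : G}
    (hs : s ∈ Cfsg.involutionsIn (MulAction.stabilizer G a : Set G)) {k k' : G}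
    (hk : k ∈ Cfsg.invertedBy (MulAction.stabilizer G a ⊓ MulAction.stabilizer G (t • a)) t)
    (hk' : k' ∈ Cfsg.invertedBy (MulAction.stabilizer G a ⊓ MulAction.stabilizer G (t • a)) t)
    (h : k⁻¹ * s * k = k'⁻¹ * s * k') : k = k' := by
  let f : ↥(Cfsg.invertedBy (MulAction.stabilizer G a ⊓ MulAction.stabilizer G (t • a)) t) →
      ↥(Cfsg.involutionsIn (MulAction.stabilizer G a : Set G)) := fun k =>
    ⟨k.1⁻¹ * s * k.1, ro_conj_mem_involutionsIn hS hs (Subgroup.mem_inf.1 k.2.1).1⟩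
  have hsurj : Function.Surjective f := by
    rintro ⟨s', hs'⟩
    obtain ⟨k, hk, hks⟩ := ro_K_conj hS hs hs'
    exact ⟨⟨k, hk⟩, Subtype.ext hks⟩
  have hbij := hsurj.bijective_of_nat_card_le (ro_K_card hS).le
  have := hbij.1 (a₁ := ⟨k, hk⟩) (a₂ := ⟨k', hk'⟩) (Subtype.ext h)
  exact congrArg Subtype.val this


end

end Cfsg.Agent.Lib.Helper9
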