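import Mathlib
import Cfsg.Agent.Lib.Helper9.RankOne2
import Cfsg.Agent.S1128
import Cfsg.Agent.Lib.Helper1.FPF.Main2
import Cfsg.Agent.Lib.Helper1.Nilp

set_option autoImplicit false

namespace Cfsg.Agent.Lib.Helper9

open Subgroup MulAction

section
variable {G Ω : Type*} [Group G] [Finite G] [MulAction G Ω] {a : Ω} {t : G} {Q : Subgroup G}

/-- two distinct commuting involutions can be moved into the point stabilizer -/
theorem ro_two_invol (hS : Cfsg.IsRankOneSetup G Ω a t Q)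
    (h2 : ∃ x y : G, x ≠ 1 ∧ y ≠ 1 ∧ x ≠ y ∧ x * x = 1 ∧ y * y = 1 ∧ x * y = y * x) :
    ∃ x y : G, x ∈ Cfsg.involutionsIn (MulAction.stabilizer G a : Set G) ∧
      y ∈ Cfsg.involutionsIn (MulAction.stabilizer G a : Set G) ∧ x ≠ y ∧ x * y = y * x := by
  obtain ⟨x₀, y₀, hx₀1, hy₀1, hxy₀, hx₀2, hy₀2, hcomm₀⟩ := h2
  obtain ⟨p, hp⟩ := ro_invol_exists_fixed hS hx₀1 hx₀2
  have hyp : y₀ • p = p := by
    have h1 : x₀ • y₀ • p = y₀ • p := by
      rw [← mul_smul, hcomm₀, mul_smul, hp]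
    exact ro_invol_fixed_unique hS hx₀1 hx₀2 h1 hp
  obtain ⟨g, rfl⟩ := ro_exists_smul_eq hS p
  refine ⟨g⁻¹ * x₀ * g, g⁻¹ * y₀ * g, ⟨?_, ?_, ?_⟩, ⟨?_, ?_, ?_⟩, ?_, ?_⟩
  · show g⁻¹ * x₀ * g ∈ MulAction.stabilizer G a
    rw [MulAction.mem_stabilizer_iff, mul_smul, mul_smul, hp, inv_smul_smul]
  · intro h0
    apply hx₀1
    have : x₀ = g * (g⁻¹ * x₀ * g) * g⁻¹ := by group
    rw [this, h0]; group
  · have : g⁻¹ * x₀ * g * (g⁻¹ * x₀ * g) = g⁻¹ * (x₀ * x₀) * g := by group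
    rw [this, hx₀2]; group
  · show g⁻¹ * y₀ * g ∈ MulAction.stabilizer G a
    rw [MulAction.mem_stabilizer_iff, mul_smul, mul_smul, hyp, inv_smul_smul]
  · intro h0
    apply hy₀1
    have : y₀ = g * (g⁻¹ * y₀ * g) * g⁻¹ := by group
    rw [this, h0]; group
  · have : g⁻¹ * y₀ * g * (g⁻¹ * y₀ * g) = g⁻¹ * (y₀ * y₀) * g := by group
    rw [this, hy₀2]; group
  · intro h0
    apply hxy₀
    have e1 : x₀ = g * (g⁻¹ * x₀ * g) * g⁻¹ := by group
    have e2 : y₀ = g * (g⁻¹ * y₀ * g) * g⁻¹ := by group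
    rw [e1, e2, h0]
  · have e1 : g⁻¹ * x₀ * g * (g⁻¹ * y₀ * g) = g⁻¹ * (x₀ * y₀) * g := by group
    have e2 : g⁻¹ * y₀ * g * (g⁻¹ * x₀ * g) = g⁻¹ * (y₀ * x₀) * g := by group
    rw [e1, e2, hcomm₀]

/-- there is a non-identity element of `D` inverted by `t` -/
theorem ro_exists_K_ne_one (hS : Cfsg.IsRankOneSetup G Ω a t Q)
    (h2 : ∃ x y : G, x ≠ 1 ∧ y ≠ 1 ∧ x ≠ y ∧ x * x = 1 ∧ y * y = 1 ∧ x * y = y * x) :
    ∃ k ∈ Cfsg.invertedBy (MulAction.stabilizer G a ⊓ MulAction.stabilizer G (t • a)) t, k ≠ 1 := by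
  obtain ⟨x, y, hx, hy, hxy, -⟩ := ro_two_invol hS h2
  obtain ⟨k, hk, hkxy⟩ := ro_K_conj hS hx hy
  refine ⟨k, hk, ?_⟩
  intro h1
  apply hxy
  rw [← hkxy, h1]; group

omit [Finite G] in
theorem ro_K_pow_mem {k : G}
    (hk : k ∈ Cfsg.invertedBy (MulAction.stabilizer G a ⊓ MulAction.stabilizer G (t • a)) t) (n : ℕ) :
    k ^ n ∈ Cfsg.invertedBy (MulAction.stabilizer G a ⊓ MulAction.stabilizer G (t • a)) t := by
  refine ⟨pow_mem hk.1 n, ?_⟩
  rw [← conj_pow, hk.2, inv_pow]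

/-- there is an element of prime order of `D` inverted by `t` -/
theorem ro_exists_K_prime (hS : Cfsg.IsRankOneSetup G Ω a t Q)
    (h2 : ∃ x y : G, x ≠ 1 ∧ y ≠ 1 ∧ x ≠ y ∧ x * x = 1 ∧ y * y = 1 ∧ x * y = y * x) :
    ∃ k ∈ Cfsg.invertedBy (MulAction.stabilizer G a ⊓ MulAction.stabilizer G (t • a)) t,
      (orderOf k).Prime := by
  obtain ⟨k, hk, hk1⟩ := ro_exists_K_ne_one hS h2
  have hpos : 0 < orderOf k := orderOf_pos k
  have hne1 : orderOf k ≠ 1 := fun h => hk1 (orderOf_eq_one_iff.1 h)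
  have hp : (orderOf k).minFac.Prime := Nat.minFac_prime hne1
  refine ⟨k ^ (orderOf k / (orderOf k).minFac), ro_K_pow_mem hk _, ?_⟩
  rw [orderOf_pow_orderOf_div hpos.ne' (Nat.minFac_dvd _)]
  exact hp

end

section
variable {G Ω : Type*} [Group G] [Finite G] [MulAction G Ω] [FaithfulSMul G Ω] {a : Ω} {t : G}
  {Q : Subgroup G}

/-- conjugation by an element of the point stabilizer, as an automorphism of `Q` -/
def roConj (hS : Cfsg.IsRankOneSetup G Ω a t Q) (k : G) (hk : k ∈ MulAction.stabilizer G a) :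
    ↥Q ≃* ↥Q where
  toFun q := ⟨k * q.1 * k⁻¹, hS.conj_mem k hk q.1 q.2⟩
  invFun q := ⟨k⁻¹ * q.1 * k, by
    have := hS.conj_mem k⁻¹ (inv_mem hk) q.1 q.2
    rwa [inv_inv] at this⟩
  left_inv q := by
    apply Subtype.ext
    show k⁻¹ * (k * q.1 * k⁻¹) * k = q.1
    group
  right_inv q := by
    apply Subtype.ext
    show k * (k⁻¹ * q.1 * k) * k⁻¹ = q.1
    group
  map_mul' x y := by
    apply Subtype.ext
    show k * (x.1 * y.1) * k⁻¹ = (k * x.1 * k⁻¹) * (k * y.1 * k⁻¹)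
    group

omit [Finite G] [FaithfulSMul G Ω] in
theorem roConj_pow (hS : Cfsg.IsRankOneSetup G Ω a t Q) (k : G)
    (hk : k ∈ MulAction.stabilizer G a) (n : ℕ) (q : ↥Q) :
    (((roConj hS k hk : MulAut ↥Q) ^ n) q : G) = k ^ n * q.1 * (k ^ n)⁻¹ := by
  induction n generalizing q with
  | zero => simp
  | succ n ih =>
    rw [pow_succ, MulAut.mul_apply, ih]
    show k ^ n * (k * q.1 * k⁻¹) * (k ^ n)⁻¹ = _
    rw [pow_succ]; group

/-- `Q` is nilpotent -/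
theorem ro_Q_nilpotent (hS : Cfsg.IsRankOneSetup G Ω a t Q)
    (h2 : ∃ x y : G, x ≠ 1 ∧ y ≠ 1 ∧ x ≠ y ∧ x * x = 1 ∧ y * y = 1 ∧ x * y = y * x) :
    Group.IsNilpotent ↥Q := by
  obtain ⟨k, hk, hkp⟩ := ro_exists_K_prime hS h2
  have hk1 : k ≠ 1 := by
    intro h
    rw [h, orderOf_one] at hkp
    exact Nat.not_prime_one hkp
  have hkH : k ∈ MulAction.stabilizer G a := (Subgroup.mem_inf.1 hk.1).1
  have hfp := Cfsg.Agent.S1128.result hS h2 k hk hk1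
  refine Cfsg.Agent.Lib.Helper1.FPF.fpf_nilpotent (roConj hS k hkH) ?_ hkp ?_
  · intro q hq
    have h1 : k * q.1 * k⁻¹ = q.1 := congrArg Subtype.val hq
    have h3 : q.1 ∈ Q ⊓ Subgroup.centralizer {k} := by
      refine Subgroup.mem_inf.2 ⟨q.2, ?_⟩
      rw [Subgroup.mem_centralizer_singleton_iff]
      symm
      calc k * q.1 = (k * q.1 * k⁻¹) * k := by group
        _ = q.1 * k := by rw [h1]
    rw [hfp, Subgroup.mem_bot] at h3
    exact Subtype.ext h3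
  · ext q
    rw [roConj_pow, pow_orderOf_eq_one]
    simp

end

end Cfsg.Agent.Lib.Helper9
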