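import Mathlib
import Cfsg.Agent.Lib.Helper9.RankOne3

set_option autoImplicit false

namespace Cfsg.Agent.Lib.Helper9

open Subgroup MulAction

/-- a nilpotent group of even order has a central involution -/
theorem ro_exists_central_involution {Q : Type*} [Group Q] [Finite Q] [Group.IsNilpotent Q]
    (h : Even (Nat.card Q)) : ∃ z ∈ Subgroup.center Q, z ≠ 1 ∧ z * z = 1 := by
  haveI : Fact (Nat.Prime 2) := ⟨Nat.prime_two⟩
  let P : Sylow 2 Q := default
  have hPne : (P : Subgroup Q) ≠ ⊥ := Sylow.ne_bot_of_dvd_card P (even_iff_two_dvd.1 h)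
  have hne := Cfsg.Agent.Lib.Helper1.normal_inf_center_ne_bot (P : Subgroup Q) hPne
  have hp : IsPGroup 2 ↥((P : Subgroup Q) ⊓ Subgroup.center Q) :=
    P.isPGroup'.to_le inf_le_left
  obtain ⟨n, hn⟩ := IsPGroup.iff_card.1 hp
  have hn0 : n ≠ 0 := by
    intro h0
    rw [h0, pow_zero] at hn
    exact hne (Subgroup.card_eq_one.1 hn)
  have h2 : 2 ∣ Nat.card ↥((P : Subgroup Q) ⊓ Subgroup.center Q) := by
    rw [hn]; exact dvd_pow_self 2 hn0
  obtain ⟨z, hz⟩ := exists_prime_orderOf_dvd_card' 2 h2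
  refine ⟨z.1, (Subgroup.mem_inf.1 z.2).2, ?_, ?_⟩
  · intro h1
    have : z = 1 := Subtype.ext h1
    rw [this, orderOf_one] at hz
    omega
  · have := pow_orderOf_eq_one z
    rw [hz, pow_two] at this
    exact congrArg Subtype.val this

section
variable {G Ω : Type*} [Group G] [Finite G] [MulAction G Ω] [FaithfulSMul G Ω] {a : Ω} {t : G}
  {Q : Subgroup G}

/-- the involutions of the point stabilizer lie in the centre of `Q` -/
theorem ro_invol_central (hS : Cfsg.IsRankOneSetup G Ω a t Q)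
    (h2 : ∃ x y : G, x ≠ 1 ∧ y ≠ 1 ∧ x ≠ y ∧ x * x = 1 ∧ y * y = 1 ∧ x * y = y * x) {s : G}
    (hs : s ∈ Cfsg.involutionsIn (MulAction.stabilizer G a : Set G)) :
    s ∈ Q ∧ ∀ x ∈ Q, s * x = x * s := by
  haveI := ro_Q_nilpotent hS h2
  obtain ⟨z, hzc, hz1, hz2⟩ := ro_exists_central_involution (Q := ↥Q) hS.even_card
  have hzI : (z : G) ∈ Cfsg.involutionsIn (MulAction.stabilizer G a : Set G) := by
    refine ⟨hS.le z.2, ?_, ?_⟩
    · intro h1
      exact hz1 (Subtype.ext h1)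
    · exact congrArg Subtype.val hz2
  obtain ⟨k, hk, hkz⟩ := ro_K_conj hS hzI hs
  have hkH : k ∈ MulAction.stabilizer G a := (Subgroup.mem_inf.1 hk.1).1
  refine ⟨ro_invol_mem_Q hS hs.1 hs.2.2, ?_⟩
  intro x hx
  have hx' : k * x * k⁻¹ ∈ Q := hS.conj_mem k hkH x hx
  have hc : (z : G) * (k * x * k⁻¹) = (k * x * k⁻¹) * z := by
    have := (Subgroup.mem_center_iff.1 hzc) ⟨k * x * k⁻¹, hx'⟩
    exact (congrArg Subtype.val this).symm
  rw [← hkz]
  calc k⁻¹ * z * k * x = k⁻¹ * (z * (k * x * k⁻¹)) * k := by group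
    _ = k⁻¹ * ((k * x * k⁻¹) * z) * k := by rw [hc]
    _ = x * (k⁻¹ * z * k) := by group

/-- the involutions of the point stabilizer together with `1` are closed under products -/
theorem ro_invol_mul (hS : Cfsg.IsRankOneSetup G Ω a t Q)
    (h2 : ∃ x y : G, x ≠ 1 ∧ y ≠ 1 ∧ x ≠ y ∧ x * x = 1 ∧ y * y = 1 ∧ x * y = y * x) {s s' : G}
    (hs : s ∈ Cfsg.involutionsIn (MulAction.stabilizer G a : Set G))
    (hs' : s' ∈ Cfsg.involutionsIn (MulAction.stabilizer G a : Set G)) :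
    s * s' = 1 ∨ s * s' ∈ Cfsg.involutionsIn (MulAction.stabilizer G a : Set G) := by
  by_cases h1 : s * s' = 1
  · exact Or.inl h1
  · right
    obtain ⟨hsQ, hsc⟩ := ro_invol_central hS h2 hs
    obtain ⟨hsQ', -⟩ := ro_invol_central hS h2 hs'
    refine ⟨mul_mem hs.1 hs'.1, h1, ?_⟩
    have hc := hsc s' hsQ'
    calc s * s' * (s * s') = s * (s' * s) * s' := by group
      _ = s * (s * s') * s' := by rw [hc]
      _ = (s * s) * (s' * s') := by group
      _ = 1 := by rw [hs.2.2, hs'.2.2, one_mul]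

end

end Cfsg.Agent.Lib.Helper9
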