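import Mathlib
import Cfsg.Agent.Lib.Helper9.RankOne4
import Cfsg.Agent.Lib.Helper9.OddAut1

set_option autoImplicit false

namespace Cfsg.Agent.Lib.Helper9

open Subgroup MulAction

/-- the number of involutions of a group of even order is odd -/
theorem ro_card_involutions_odd {X : Type*} [Group X] [Finite X] (C : Subgroup X)
    (h : Even (Nat.card C)) : Odd ({w : X | w ∈ C ∧ w ≠ 1 ∧ w * w = 1}.ncard) := by
  classical
  haveI : Fintype ↥C := Fintype.ofFinite _
  let f : Function.End ↥C := fun c => c⁻¹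
  have hf : f ^ 2 ^ 1 = 1 := by
    funext c
    rw [pow_one, pow_two]
    show (c⁻¹)⁻¹ = c
    rw [inv_inv]
  haveI : Fact (Nat.Prime 2) := ⟨Nat.prime_two⟩
  have h1 := Equiv.Perm.card_fixedPoints_modEq (p := 2) (n := 1) hf
  have h2 : Fintype.card ↥(Function.fixedPoints f) =
      ({w : X | w ∈ C ∧ w * w = 1}).ncard := by
    rw [← Nat.card_eq_fintype_card, ← Nat.card_coe_set_eq]
    apply Nat.card_congr
    refine ⟨fun c => ⟨c.1.1, c.1.2, ?_⟩, fun w => ⟨⟨w.1, w.2.1⟩, ?_⟩, ?_, ?_⟩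
    · have hc : (c.1)⁻¹ = c.1 := c.2
      have h0 : (c.1.1)⁻¹ = c.1.1 := congrArg Subtype.val hc
      calc (c.1.1) * (c.1.1) = (c.1.1)⁻¹ * c.1.1 := by rw [h0]
        _ = 1 := inv_mul_cancel _
    · show (⟨w.1, w.2.1⟩ : ↥C)⁻¹ = ⟨w.1, w.2.1⟩
      apply Subtype.ext
      show (w.1)⁻¹ = w.1
      exact inv_eq_of_mul_eq_one_right w.2.2
    · intro c; rfl
    · intro w; rfl
  have h3 : {w : X | w ∈ C ∧ w * w = 1} = insert 1 {w : X | w ∈ C ∧ w ≠ 1 ∧ w * w = 1} := by
    ext w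
    simp only [Set.mem_ofPred_eq, Set.mem_insert_iff]
    constructor
    · rintro ⟨hw, hw2⟩
      by_cases h1 : w = 1
      · exact Or.inl h1
      · exact Or.inr ⟨hw, h1, hw2⟩
    · rintro (rfl | ⟨hw, -, hw2⟩)
      · exact ⟨one_mem _, one_mul _⟩
      · exact ⟨hw, hw2⟩
  have h4 : ({w : X | w ∈ C ∧ w * w = 1}).ncard =
      ({w : X | w ∈ C ∧ w ≠ 1 ∧ w * w = 1}).ncard + 1 := by
    rw [h3]
    apply Set.ncard_insert_of_notMem
    · intro hmem
      exact hmem.2.1 rfl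
    · exact Set.toFinite _
  rw [h2, h4, ← Nat.card_eq_fintype_card] at h1
  have h5 : Even (({w : X | w ∈ C ∧ w ≠ 1 ∧ w * w = 1}).ncard + 1) := by
    rw [Nat.even_iff]
    have := h1.symm
    unfold Nat.ModEq at this
    rw [this]
    exact Nat.even_iff.1 h
  rcases Nat.even_or_odd ({w : X | w ∈ C ∧ w ≠ 1 ∧ w * w = 1}).ncard with h6 | h6
  · exfalso
    have := h6.add_one
    rw [← Nat.not_even_iff_odd] at this
    exact this h5
  · exact h6

/-- an involution normalizing a subgroup of even order commutes with an involution of it -/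
theorem ro_exists_commuting_involution {X : Type*} [Group X] [Finite X] (C : Subgroup X)
    (h : Even (Nat.card C)) (u : X) (hu : u * u = 1) (hn : ∀ c ∈ C, u * c * u⁻¹ ∈ C) :
    ∃ w ∈ C, w ≠ 1 ∧ w * w = 1 ∧ u * w = w * u := by
  haveI : Fact (Nat.Prime 2) := ⟨Nat.prime_two⟩
  have hodd := ro_card_involutions_odd C h
  obtain ⟨w, ⟨hwC, hw1, hw2⟩, hfix⟩ := oa_fixed_point 2 1 u (by rw [pow_one, pow_two]; exact hu)
    {w : X | w ∈ C ∧ w ≠ 1 ∧ w * w = 1}
    (by
      rintro y ⟨hyC, hy1, hy2⟩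
      refine ⟨hn y hyC, ?_, ?_⟩
      · intro h0
        apply hy1
        have : y = u⁻¹ * (u * y * u⁻¹) * u := by group
        rw [this, h0]; group
      · have : u * y * u⁻¹ * (u * y * u⁻¹) = u * (y * y) * u⁻¹ := by group
        rw [this, hy2]; group)
    (by
      intro hdvd
      have := even_iff_two_dvd.2 hdvd
      rw [← Nat.not_odd_iff_even] at this
      exact this hodd)
  refine ⟨w, hwC, hw1, hw2, ?_⟩
  calc u * w = (u * w * u⁻¹) * u := by group
    _ = w * u := by rw [hfix]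

section
variable {G Ω : Type*} [Group G] [Finite G] [MulAction G Ω] [FaithfulSMul G Ω] {a : Ω} {t : G}
  {Q : Subgroup G}

/-- two involutions fixing the same point commute -/
theorem ro_invol_comm_of_fixed (hS : Cfsg.IsRankOneSetup G Ω a t Q)
    (h2 : ∃ x y : G, x ≠ 1 ∧ y ≠ 1 ∧ x ≠ y ∧ x * x = 1 ∧ y * y = 1 ∧ x * y = y * x) {u v : G}
    (hu1 : u ≠ 1) (hu2 : u * u = 1) (hv1 : v ≠ 1) (hv2 : v * v = 1) {p : Ω} (hup : u • p = p)
    (hvp : v • p = p) : u * v = v * u := by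
  obtain ⟨g, rfl⟩ := ro_exists_smul_eq hS p
  have hu' : g⁻¹ * u * g ∈ Cfsg.involutionsIn (MulAction.stabilizer G a : Set G) := by
    refine ⟨?_, ?_, ?_⟩
    · show g⁻¹ * u * g ∈ MulAction.stabilizer G a
      rw [MulAction.mem_stabilizer_iff, mul_smul, mul_smul, hup, inv_smul_smul]
    · intro h0
      apply hu1
      have : u = g * (g⁻¹ * u * g) * g⁻¹ := by group
      rw [this, h0]; group
    · have : g⁻¹ * u * g * (g⁻¹ * u * g) = g⁻¹ * (u * u) * g := by group
      rw [this, hu2]; group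
  have hv' : g⁻¹ * v * g ∈ Cfsg.involutionsIn (MulAction.stabilizer G a : Set G) := by
    refine ⟨?_, ?_, ?_⟩
    · show g⁻¹ * v * g ∈ MulAction.stabilizer G a
      rw [MulAction.mem_stabilizer_iff, mul_smul, mul_smul, hvp, inv_smul_smul]
    · intro h0
      apply hv1
      have : v = g * (g⁻¹ * v * g) * g⁻¹ := by group
      rw [this, h0]; group
    · have : g⁻¹ * v * g * (g⁻¹ * v * g) = g⁻¹ * (v * v) * g := by group
      rw [this, hv2]; group
  have hc := (ro_invol_central hS h2 hu').2 _ (ro_invol_central hS h2 hv').1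
  calc u * v = g * ((g⁻¹ * u * g) * (g⁻¹ * v * g)) * g⁻¹ := by group
    _ = g * ((g⁻¹ * v * g) * (g⁻¹ * u * g)) * g⁻¹ := by rw [hc]
    _ = v * u := by group

/-- an involution fixing the fixed point of `t` is conjugate to `t` by an element fixing `a` and
that point -/
theorem ro_conj_to_t (hS : Cfsg.IsRankOneSetup G Ω a t Q) {c : Ω} (hc : t • c = c) {v : G}
    (hv1 : v ≠ 1) (hv2 : v * v = 1) (hvc : v • c = c) :
    ∃ h : G, h • a = a ∧ h • c = c ∧ h * v * h⁻¹ = t := by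
  have hca : c ≠ a := by
    intro h0
    rw [h0] at hc
    exact ro_ta_ne hS hc
  obtain ⟨g, hga, hgta⟩ := ro_two_trans hS (ro_ta_ne hS).symm hca (b := a) (c := t • a)
    (d := c) (e := a)
  have hgc : g⁻¹ • c = a := by rw [inv_smul_eq_iff, hga]
  have hs₁ : g⁻¹ * v * g ∈ Cfsg.involutionsIn (MulAction.stabilizer G a : Set G) := by
    refine ⟨?_, ?_, ?_⟩
    · show g⁻¹ * v * g ∈ MulAction.stabilizer G a
      rw [MulAction.mem_stabilizer_iff, mul_smul, mul_smul, hga, hvc, hgc]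
    · intro h0
      apply hv1
      have : v = g * (g⁻¹ * v * g) * g⁻¹ := by group
      rw [this, h0]; group
    · have : g⁻¹ * v * g * (g⁻¹ * v * g) = g⁻¹ * (v * v) * g := by group
      rw [this, hv2]; group
  have hs₂ : g⁻¹ * t * g ∈ Cfsg.involutionsIn (MulAction.stabilizer G a : Set G) := by
    refine ⟨?_, ?_, ?_⟩
    · show g⁻¹ * t * g ∈ MulAction.stabilizer G a
      rw [MulAction.mem_stabilizer_iff, mul_smul, mul_smul, hga, hc, hgc]
    · intro h0
      apply hS.ne_one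
      have : t = g * (g⁻¹ * t * g) * g⁻¹ := by group
      rw [this, h0]; group
    · have : g⁻¹ * t * g * (g⁻¹ * t * g) = g⁻¹ * (t * t) * g := by group
      rw [this, hS.mul_self]; group
  obtain ⟨k, hk, hkk⟩ := ro_K_conj hS hs₁ hs₂
  have hka : k • a = a := MulAction.mem_stabilizer_iff.1 (Subgroup.mem_inf.1 hk.1).1
  have hkta : k • t • a = t • a := MulAction.mem_stabilizer_iff.1 (Subgroup.mem_inf.1 hk.1).2
  have hkia : k⁻¹ • a = a := by rw [inv_smul_eq_iff, hka]
  have hkita : k⁻¹ • t • a = t • a := by rw [inv_smul_eq_iff, hkta]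
  have hgia : g⁻¹ • a = t • a := by rw [inv_smul_eq_iff, hgta]
  refine ⟨g * k⁻¹ * g⁻¹, ?_, ?_, ?_⟩
  · rw [mul_smul, mul_smul, hgia, hkita, hgta]
  · rw [mul_smul, mul_smul, hgc, hkia, hga]
  · calc g * k⁻¹ * g⁻¹ * v * (g * k⁻¹ * g⁻¹)⁻¹ = g * (k⁻¹ * (g⁻¹ * v * g) * k) * g⁻¹ := by group
      _ = g * (g⁻¹ * t * g) * g⁻¹ := by rw [hkk]
      _ = t := by group

/-- a product of two involutions which is not of order at most two is conjugate to `u' * t` with
`u'` an involution of the point stabilizer -/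
theorem ro_strongly_real_conj (hS : Cfsg.IsRankOneSetup G Ω a t Q)
    (h2 : ∃ x y : G, x ≠ 1 ∧ y ≠ 1 ∧ x ≠ y ∧ x * x = 1 ∧ y * y = 1 ∧ x * y = y * x)
    (u v : G) (hu1 : u ≠ 1) (hu2 : u * u = 1) (hv1 : v ≠ 1) (hv2 : v * v = 1)
    (hx : (u * v) * (u * v) ≠ 1) :
    ∃ g : G, ∃ u' ∈ Cfsg.involutionsIn (MulAction.stabilizer G a : Set G),
      g * (u * v) * g⁻¹ = u' * t := by
  obtain ⟨p, hp⟩ := ro_invol_exists_fixed hS hu1 hu2
  obtain ⟨p', hp'⟩ := ro_invol_exists_fixed hS hv1 hv2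
  obtain ⟨c, hc⟩ := ro_invol_exists_fixed hS hS.ne_one hS.mul_self
  have hca : c ≠ a := by
    intro h0
    rw [h0] at hc
    exact ro_ta_ne hS hc
  have hpp : p ≠ p' := by
    intro h0
    rw [← h0] at hp'
    apply hx
    have hcomm := ro_invol_comm_of_fixed hS h2 hu1 hu2 hv1 hv2 hp hp'
    calc u * v * (u * v) = u * (v * u) * v := by group
      _ = u * (u * v) * v := by rw [hcomm]
      _ = (u * u) * (v * v) := by group
      _ = 1 := by rw [hu2, hv2, one_mul]
  obtain ⟨g, hgp, hgp'⟩ := ro_two_trans hS hpp hca.symm (d := a) (e := c)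
  have hv₁1 : g * v * g⁻¹ ≠ 1 := by
    intro h0
    apply hv1
    have : v = g⁻¹ * (g * v * g⁻¹) * g := by group
    rw [this, h0]; group
  have hv₁2 : (g * v * g⁻¹) * (g * v * g⁻¹) = 1 := by
    have : (g * v * g⁻¹) * (g * v * g⁻¹) = g * (v * v) * g⁻¹ := by group
    rw [this, hv2]; group
  have hv₁c : (g * v * g⁻¹) • c = c := by
    rw [mul_smul, mul_smul, ← hgp', inv_smul_smul, hp']
  obtain ⟨h, hha, -, hht⟩ := ro_conj_to_t hS hc hv₁1 hv₁2 hv₁c
  refine ⟨h * g, h * (g * u * g⁻¹) * h⁻¹, ⟨?_, ?_, ?_⟩, ?_⟩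
  · show h * (g * u * g⁻¹) * h⁻¹ ∈ MulAction.stabilizer G a
    have hhia : h⁻¹ • a = a := by rw [inv_smul_eq_iff, hha]
    have hgia : g⁻¹ • a = p := by rw [inv_smul_eq_iff, hgp]
    rw [MulAction.mem_stabilizer_iff]
    simp only [mul_smul]
    rw [hhia, hgia, hp, hgp, hha]
  · intro h0
    apply hu1
    have : u = (h * g)⁻¹ * (h * (g * u * g⁻¹) * h⁻¹) * (h * g) := by group
    rw [this, h0]; group
  · have : h * (g * u * g⁻¹) * h⁻¹ * (h * (g * u * g⁻¹) * h⁻¹) = h * g * (u * u) * g⁻¹ * h⁻¹ := by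
      group
    rw [this, hu2]; group
  · rw [← hht]; group

/-- the centralizer of a product of two involutions which is not of order at most two has odd
order -/
theorem ro_strongly_real_centralizer (hS : Cfsg.IsRankOneSetup G Ω a t Q)
    (h2 : ∃ x y : G, x ≠ 1 ∧ y ≠ 1 ∧ x ≠ y ∧ x * x = 1 ∧ y * y = 1 ∧ x * y = y * x)
    (u v : G) (hu1 : u ≠ 1) (hu2 : u * u = 1) (hv1 : v ≠ 1) (hv2 : v * v = 1)
    (hx : (u * v) * (u * v) ≠ 1) :
    Odd (Nat.card ↥(Subgroup.centralizer {u * v})) := by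
  by_contra hodd
  rw [Nat.not_odd_iff_even] at hodd
  have hui : u⁻¹ = u := inv_eq_of_mul_eq_one_right hu2
  have hvi : v⁻¹ = v := inv_eq_of_mul_eq_one_right hv2
  have hinv : u * (u * v) * u⁻¹ = (u * v)⁻¹ := by
    rw [mul_inv_rev, hui, hvi]
    calc u * (u * v) * u = (u * u) * v * u := by group
      _ = v * u := by rw [hu2, one_mul]
  obtain ⟨w, hwC, hw1, hw2, hwu⟩ := ro_exists_commuting_involution _ hodd u hu2 (by
    intro c hc
    rw [Subgroup.mem_centralizer_singleton_iff] at hc ⊢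
    have h1 : u * c * u⁻¹ * (u * v)⁻¹ = (u * v)⁻¹ * (u * c * u⁻¹) := by
      rw [← hinv]
      calc u * c * u⁻¹ * (u * (u * v) * u⁻¹) = u * (c * (u * v)) * u⁻¹ := by group
        _ = u * ((u * v) * c) * u⁻¹ := by rw [hc]
        _ = u * (u * v) * u⁻¹ * (u * c * u⁻¹) := by group
    calc u * c * u⁻¹ * (u * v) = (u * v) * ((u * v)⁻¹ * (u * c * u⁻¹)) * (u * v) := by group
      _ = (u * v) * (u * c * u⁻¹ * (u * v)⁻¹) * (u * v) := by rw [h1]
      _ = u * v * (u * c * u⁻¹) := by group)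
  rw [Subgroup.mem_centralizer_singleton_iff] at hwC
  -- w commutes with v
  have hwv : v * w = w * v := by
    calc v * w = u⁻¹ * ((u * v) * w) := by group
      _ = u⁻¹ * (w * (u * v)) := by rw [hwC]
      _ = u * w * u * v := by rw [hui]; group
      _ = w * u * u * v := by rw [hwu]
      _ = w * (u * u) * v := by group
      _ = w * v := by rw [hu2, mul_one]
  obtain ⟨p, hp⟩ := ro_invol_exists_fixed hS hu1 hu2
  obtain ⟨p', hp'⟩ := ro_invol_exists_fixed hS hv1 hv2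
  have hwp : w • p = p := by
    have h1 : u • w • p = w • p := by
      rw [← mul_smul, hwu, mul_smul, hp]
    exact ro_invol_fixed_unique hS hu1 hu2 h1 hp
  have hwp' : w • p' = p' := by
    have h1 : v • w • p' = w • p' := by
      rw [← mul_smul, hwv, mul_smul, hp']
    exact ro_invol_fixed_unique hS hv1 hv2 h1 hp'
  have hpp : p = p' := ro_invol_fixed_unique hS hw1 hw2 hwp hwp'
  rw [← hpp] at hp'
  apply hx
  have hcomm := ro_invol_comm_of_fixed hS h2 hu1 hu2 hv1 hv2 hp hp'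
  calc u * v * (u * v) = u * (v * u) * v := by group
    _ = u * (u * v) * v := by rw [hcomm]
    _ = (u * u) * (v * v) := by group
    _ = 1 := by rw [hu2, hv2, one_mul]

end

end Cfsg.Agent.Lib.Helper9
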