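import Mathlib
import Cfsg.Agent.Lib.Helper1.Frat
import Cfsg.Agent.Lib.Helper1.Nilp

set_option autoImplicit false

namespace Cfsg.Agent.Lib.Helper9


universe u

section general

variable {G : Type*} [Group G]

theorem ru_ucs_stable (n : ℕ)
    (h : Subgroup.upperCentralSeries G (n+1) = Subgroup.upperCentralSeries G n) :
    ∀ k, Subgroup.upperCentralSeries G (n+k) = Subgroup.upperCentralSeries G n := by
  intro k
  induction k with
  | zero => rfl
  | succ k ih =>
    ext a
    rw [show n + (k+1) = (n+k)+1 by omega, Subgroup.mem_upperCentralSeries_succ_iff, ih,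
      ← Subgroup.mem_upperCentralSeries_succ_iff, h]

theorem ru_ucs_lt_succ [Group.IsNilpotent G] (n : ℕ) (h : Subgroup.upperCentralSeries G n ≠ ⊤) :
    Subgroup.upperCentralSeries G n < Subgroup.upperCentralSeries G (n+1) := by
  refine lt_of_le_of_ne (Subgroup.upperCentralSeries_mono G (Nat.le_succ n)) ?_
  intro heq
  obtain ⟨m, hm⟩ := Group.IsNilpotent.nilpotent G
  have h1 := ru_ucs_stable n heq.symm m
  have h2 : Subgroup.upperCentralSeries G m ≤ Subgroup.upperCentralSeries G (n+m) :=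
    Subgroup.upperCentralSeries_mono G (by omega)
  rw [hm, h1] at h2
  exact h (top_le_iff.mp h2)

/-- covering by two cosets gives a cardinality bound -/
theorem ru_card_le_two_mul [Finite G] (H K : Subgroup G) (a : G)
    (h : ∀ g ∈ K, g ∈ H ∨ a⁻¹ * g ∈ H) : Nat.card K ≤ 2 * Nat.card H := by
  classical
  have : Nat.card K ≤ Nat.card (Bool × H) := by
    refine Nat.card_le_card_of_injective
      (fun g : K => if hg : (g : G) ∈ H then (true, (⟨g, hg⟩ : H))
        else (false, (⟨a⁻¹ * g, (h g g.2).resolve_left hg⟩ : H))) ?_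
    intro x y hxy
    by_cases hx : (x : G) ∈ H <;> by_cases hy : (y : G) ∈ H <;> simp [hx, hy] at hxy
    · exact hxy
    · exact hxy
  rw [Nat.card_prod, show Nat.card Bool = 2 by simp] at this
  exact this

/-- the hyperplane lemma -/
theorem ru_hyperplane [Finite G] (H N : Subgroup G) (hNH : N ≤ H)
    (hsq : ∀ x ∈ H, x * x ∈ N) (hcomm : ∀ x ∈ H, ∀ y ∈ H, x * y * x⁻¹ * y⁻¹ ∈ N)
    (z : G) (hz : z ∈ H) (hzN : z ∉ N) :
    ∃ U : Subgroup G, N ≤ U ∧ U ≤ H ∧ z ∉ U ∧ ∀ g ∈ H, g ∈ U ∨ z⁻¹ * g ∈ U := by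
  obtain ⟨U, hNU, hU⟩ := Finite.exists_le_maximal
    (p := fun U : Subgroup G => N ≤ U ∧ U ≤ H ∧ z ∉ U) (a := N) ⟨le_rfl, hNH, hzN⟩
  obtain ⟨⟨hNU', hUH, hzU⟩, hmax⟩ := hU
  refine ⟨U, hNU, hUH, hzU, ?_⟩
  intro g hg
  by_contra hcon
  push Not at hcon
  obtain ⟨hgU, hzg⟩ := hcon
  have hg2 : g * g ∈ U := hNU (hsq g hg)
  have hginv : g⁻¹ ∈ H := H.inv_mem hg
  have hconj : ∀ u ∈ U, g⁻¹ * u * g ∈ U := by
    intro u hu
    have h1 : g⁻¹ * u * g⁻¹⁻¹ * u⁻¹ ∈ U := hNU (hcomm g⁻¹ hginv u (hUH hu))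
    have h2 : g⁻¹ * u * g = (g⁻¹ * u * g⁻¹⁻¹ * u⁻¹) * u := by group
    rw [h2]; exact U.mul_mem h1 hu
  have hg2' : g⁻¹ * g⁻¹ ∈ U := by
    have : g⁻¹ * g⁻¹ = (g * g)⁻¹ := by group
    rw [this]; exact U.inv_mem hg2
  let U' : Subgroup G :=
    { carrier := {x | x ∈ U ∨ g⁻¹ * x ∈ U}
      one_mem' := Or.inl U.one_mem
      mul_mem' := by
        intro x y hx hy
        rcases hx with hx | hx <;> rcases hy with hy | hy
        · exact Or.inl (U.mul_mem hx hy)
        · right
          have : g⁻¹ * (x * y) = (g⁻¹ * x * g) * (g⁻¹ * y) := by group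
          rw [this]; exact U.mul_mem (hconj x hx) hy
        · right
          have : g⁻¹ * (x * y) = (g⁻¹ * x) * y := by group
          rw [this]; exact U.mul_mem hx hy
        · left
          have : x * y = (g * g) * (g⁻¹ * (g⁻¹ * x) * g) * (g⁻¹ * y) := by group
          rw [this]; exact U.mul_mem (U.mul_mem hg2 (hconj _ hx)) hy
      inv_mem' := by
        intro x hx
        rcases hx with hx | hx
        · exact Or.inl (U.inv_mem hx)
        · right
          have : g⁻¹ * x⁻¹ = (g⁻¹ * (g⁻¹ * x)⁻¹ * g) * (g⁻¹ * g⁻¹) := by group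
          rw [this]; exact U.mul_mem (hconj _ (U.inv_mem hx)) hg2' }
  have hUU' : U ≤ U' := fun x hx => Or.inl hx
  have hgU' : g ∈ U' := Or.inr (by simp [U.one_mem])
  have hU'H : U' ≤ H := by
    intro x hx
    rcases hx with hx | hx
    · exact hUH hx
    · have : x = g * (g⁻¹ * x) := by group
      rw [this]; exact H.mul_mem hg (hUH hx)
  have hzU' : z ∈ U' := by
    by_contra hzU'
    have := hmax (y := U') ⟨hNU.trans hUU', hU'H, hzU'⟩ hUU'
    exact hgU (this hgU')
  rcases hzU' with h | h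
  · exact hzU h
  · apply hzg
    have : z⁻¹ * g = (g⁻¹ * z)⁻¹ := by group
    rw [this]; exact U.inv_mem h

/-- index bound from a map whose fibres lie in cosets -/
theorem ru_index_le_of_fiber [Finite G] {α : Type*} [Finite α] (W : Subgroup G) (f : G → α)
    (h : ∀ s t, f s = f t → s⁻¹ * t ∈ W) : W.index ≤ Nat.card α := by
  refine Nat.card_le_card_of_injective (fun q : G ⧸ W => f q.out) ?_
  intro q q' hq
  have h1 := h _ _ hq
  have h2 : (QuotientGroup.mk q.out : G ⧸ W) = QuotientGroup.mk q'.out :=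
    QuotientGroup.eq.mpr h1
  simpa using h2

/-- in a nilpotent group, a normal subgroup strictly above a normal subgroup contains
an element central modulo the smaller one -/
theorem ru_exists_central_mod [Group.IsNilpotent G] (F N : Subgroup G) [F.Normal] [N.Normal]
    (hFN : F ≤ N) (hne : F ≠ N) :
    ∃ w ∈ N, w ∉ F ∧ ∀ t : G, t * w * t⁻¹ * w⁻¹ ∈ F := by
  have hsurj : Function.Surjective (QuotientGroup.mk' F) := QuotientGroup.mk'_surjective F
  haveI : (N.map (QuotientGroup.mk' F)).Normal := Subgroup.Normal.map inferInstance _ hsurj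
  have hne' : N.map (QuotientGroup.mk' F) ≠ ⊥ := by
    intro hbot
    apply hne
    apply le_antisymm hFN
    intro x hx
    have : QuotientGroup.mk' F x ∈ N.map (QuotientGroup.mk' F) := Subgroup.mem_map_of_mem _ hx
    rw [hbot, Subgroup.mem_bot] at this
    exact (QuotientGroup.eq_one_iff x).mp this
  have h1 := Cfsg.Agent.Lib.Helper1.normal_inf_center_ne_bot (N.map (QuotientGroup.mk' F)) hne'
  obtain ⟨⟨q, hq⟩, hq1⟩ := (Subgroup.ne_bot_iff_exists_ne_one).mp h1
  obtain ⟨w, hwN, hwq⟩ := hq.1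
  have hqc := Subgroup.mem_center_iff.mp hq.2
  refine ⟨w, hwN, ?_, ?_⟩
  · intro hwF
    apply hq1
    apply Subtype.ext
    show q = 1
    rw [← hwq]
    exact (QuotientGroup.eq_one_iff w).mpr hwF
  · intro t
    rw [← QuotientGroup.eq_one_iff]
    have h2 := hqc (QuotientGroup.mk' F t)
    rw [← hwq] at h2
    have h3 : ((t * w * t⁻¹ * w⁻¹ : G) : G ⧸ F) =
        (QuotientGroup.mk' F t * QuotientGroup.mk' F w) * (QuotientGroup.mk' F t)⁻¹ *
          (QuotientGroup.mk' F w)⁻¹ := by
      simp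
    rw [h3, h2]
    group

theorem ru_card_mul_relIndex (H K : Subgroup G) (hHK : H ≤ K) :
    Nat.card H * H.relIndex K = Nat.card K := by
  have := Subgroup.relIndex_mul_relIndex (⊥ : Subgroup G) H K bot_le hHK
  rwa [Subgroup.relIndex_bot_left, Subgroup.relIndex_bot_left] at this

theorem ru_card_lt_of_lt [Finite G] {H K : Subgroup G} (h : H < K) :
    Nat.card H < Nat.card K := by
  by_contra hcon
  push Not at hcon
  exact (ne_of_lt h) (Subgroup.eq_of_le_of_card_ge h.le hcon)

theorem ru_mul_mem_iff_of_card [Finite G] (H K : Subgroup G) (hHK : H ≤ K)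
    (hc : Nat.card K = 2 * Nat.card H) {a b : G} (ha : a ∈ K) (hb : b ∈ K) :
    a * b ∈ H ↔ (a ∈ H ↔ b ∈ H) := by
  have hidx : (H.subgroupOf K).index = 2 := by
    have h1 := ru_card_mul_relIndex H K hHK
    rw [hc] at h1
    have hpos : 0 < Nat.card H := Nat.card_pos
    have : H.relIndex K = 2 := by
      have h2 : Nat.card H * H.relIndex K = Nat.card H * 2 := by rw [h1]; ring
      exact Nat.eq_of_mul_eq_mul_left hpos h2
    exact this
  have := Subgroup.mul_mem_iff_of_index_two hidx (a := ⟨a, ha⟩) (b := ⟨b, hb⟩)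
  simpa [Subgroup.mem_subgroupOf] using this

theorem ru_two_cosets [Finite G] (H K : Subgroup G) (hHK : H ≤ K)
    (hc : Nat.card K = 2 * Nat.card H) {a : G} (ha : a ∈ K) (haH : a ∉ H) :
    ∀ g ∈ K, g ∈ H ∨ a⁻¹ * g ∈ H := by
  intro g hg
  by_cases hgH : g ∈ H
  · exact Or.inl hgH
  · right
    rw [ru_mul_mem_iff_of_card H K hHK hc (K.inv_mem ha) hg]
    constructor
    · intro h; exact absurd (by simpa using H.inv_mem h) haH
    · intro h; exact absurd h hgH

theorem ru_surj_of_fiber [Finite G] {α : Type*} [Finite α] (N : Subgroup G) (f : G → α)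
    (h : ∀ s t, f s = f t → s⁻¹ * t ∈ N) (hc : Nat.card α * Nat.card N ≤ Nat.card G) :
    Function.Surjective f := by
  have hinj : Function.Injective (fun q : G ⧸ N => f q.out) := by
    intro q q' hq
    have h1 := h _ _ hq
    have h2 : (QuotientGroup.mk q.out : G ⧸ N) = QuotientGroup.mk q'.out :=
      QuotientGroup.eq.mpr h1
    simpa using h2
  have hcard : Nat.card α ≤ Nat.card (G ⧸ N) := by
    have h1 : Nat.card N * N.index = Nat.card G := Subgroup.card_mul_index N
    have hpos : 0 < Nat.card N := Nat.card_pos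
    have h2 : Nat.card α * Nat.card N ≤ N.index * Nat.card N := by
      rw [mul_comm N.index]; rw [h1]; exact hc
    exact Nat.le_of_mul_le_mul_right h2 hpos
  have hbij := Function.Injective.bijective_of_nat_card_le hinj hcard
  intro a
  obtain ⟨q, hq⟩ := hbij.2 a
  exact ⟨q.out, hq⟩

theorem ru_sq_mul (x y : G) (h : (x*y*x⁻¹*y⁻¹) * x = x * (x*y*x⁻¹*y⁻¹)) :
    (x*y)*(x*y) = (x*y*x⁻¹*y⁻¹)⁻¹ * (x*x) * (y*y) := by
  have h' : (x*y*x⁻¹*y⁻¹)⁻¹ * x = x * (x*y*x⁻¹*y⁻¹)⁻¹ := by
    rw [inv_mul_eq_iff_eq_mul, ← mul_assoc, h, mul_assoc, mul_inv_cancel, mul_one]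
  have e : (x*y*x⁻¹*y⁻¹)⁻¹ * (x*x) * (y*y) = ((x*y*x⁻¹*y⁻¹)⁻¹ * x) * (x * (y*y)) := by group
  rw [e, h']
  group

theorem ru_comm_sq (x y c : G) (hxy : x * y = c * y * x) (hcx : c * x = x * c)
    (h2 : x * x * y = y * (x * x)) : c * c = 1 := by
  have : c * c * (x * x * y) = 1 * (x * x * y) := by
    symm
    calc 1 * (x * x * y) = x * (x * y) := by group
      _ = x * (c * y * x) := by rw [hxy]
      _ = (x * c) * y * x := by group
      _ = (c * x) * y * x := by rw [hcx]
      _ = c * (x * y) * x := by group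
      _ = c * (c * y * x) * x := by rw [hxy]
      _ = c * c * (y * (x * x)) := by group
      _ = c * c * (x * x * y) := by rw [h2]
  exact mul_right_cancel this

theorem ru_comm_mul_left (x x' y : G)
    (h : x * (x'*y*x'⁻¹*y⁻¹) = (x'*y*x'⁻¹*y⁻¹) * x) :
    (x*x')*y*(x*x')⁻¹*y⁻¹ = (x'*y*x'⁻¹*y⁻¹) * (x*y*x⁻¹*y⁻¹) := by
  have e1 : (x*x')*y*(x*x')⁻¹*y⁻¹ = (x * (x'*y*x'⁻¹*y⁻¹)) * (y*x⁻¹*y⁻¹) := by group
  rw [e1, h]
  group

end general

/-- a normal subgroup of order at most `p^j` of a finite `p`-group lies in the `j`-th term of the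
upper central series -/
theorem ru_normal_le_ucs {p : ℕ} [hp : Fact p.Prime] : ∀ (j : ℕ) (G : Type u) [Group G] [Finite G]
    (_ : IsPGroup p G) (N : Subgroup G) [N.Normal], Nat.card N ≤ p ^ j →
    N ≤ Subgroup.upperCentralSeries G j := by
  intro j
  induction j with
  | zero =>
    intro G _ _ hG N _ hN
    simp only [pow_zero] at hN
    have : Nat.card N = 1 := le_antisymm hN Nat.card_pos
    rw [Subgroup.card_eq_one] at this
    rw [this]; exact bot_le
  | succ j ih =>
    intro G _ _ hG N _ hN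
    by_cases hbot : N = ⊥
    · rw [hbot]; exact bot_le
    haveI := hG.isNilpotent
    have h1 := Cfsg.Agent.Lib.Helper1.normal_inf_center_ne_bot N hbot
    have hsurj : Function.Surjective (QuotientGroup.mk' (Subgroup.center G)) :=
      QuotientGroup.mk'_surjective _
    haveI : (N.map (QuotientGroup.mk' (Subgroup.center G))).Normal :=
      Subgroup.Normal.map inferInstance _ hsurj
    have hQ : IsPGroup p (G ⧸ Subgroup.center G) := hG.to_quotient _
    have hcard : Nat.card (N.map (QuotientGroup.mk' (Subgroup.center G))) ≤ p ^ j := by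
      have h2 : (Subgroup.center G).relIndex N =
          Nat.card (N.map (QuotientGroup.mk' (Subgroup.center G))) := by
        have := Subgroup.relIndex_ker (QuotientGroup.mk' (Subgroup.center G)) (K := N)
        rwa [QuotientGroup.ker_mk'] at this
      have h3 : Nat.card ↥(N ⊓ Subgroup.center G) * (Subgroup.center G).relIndex N =
          Nat.card N := by
        rw [← Subgroup.inf_relIndex_left]
        exact ru_card_mul_relIndex _ _ inf_le_left
      have h4 : p ≤ Nat.card ↥(N ⊓ Subgroup.center G) := by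
        have hP : IsPGroup p ↥(N ⊓ Subgroup.center G) := hG.to_subgroup _
        rcases hP.card_eq_or_dvd with h | h
        · rw [Subgroup.card_eq_one] at h
          exact absurd h h1
        · exact Nat.le_of_dvd Nat.card_pos h
      rw [← h2]
      have h5 : p * (Subgroup.center G).relIndex N ≤ p * p ^ j := by
        calc p * (Subgroup.center G).relIndex N
            ≤ Nat.card ↥(N ⊓ Subgroup.center G) * (Subgroup.center G).relIndex N :=
              Nat.mul_le_mul_right _ h4
          _ = Nat.card N := h3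
          _ ≤ p ^ (j+1) := hN
          _ = p * p ^ j := by ring
      exact Nat.le_of_mul_le_mul_left h5 hp.out.pos
    have h6 := ih (G ⧸ Subgroup.center G) hQ (N.map (QuotientGroup.mk' (Subgroup.center G))) hcard
    rw [← Subgroup.comap_upperCentralSeries_quotient_center]
    exact le_trans (Subgroup.le_comap_map _ _) (Subgroup.comap_mono h6)

end Cfsg.Agent.Lib.Helper9
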