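import Mathlib
import Cfsg.Agent.Lib.Helper9.Ru1

set_option autoImplicit false

namespace Cfsg.Agent.Lib.Helper9

/-- hypotheses of the Rudvalis-type 2-group statement, in a form internal to `T` -/
structure RuHyp {T : Type*} [Group T] (W F : Subgroup T) : Prop where
  hT : IsPGroup 2 T
  ha : 2 ^ 14 ≤ Nat.card T
  hb : Nat.card ↥(Subgroup.upperCentralSeries T 4) = 16
  hW : W = Subgroup.centralizer ((Subgroup.upperCentralSeries T 3 : Subgroup T) : Set T)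
  hFW : F ≤ W
  hFn : F.Normal
  hFc : Nat.card F ≤ 8
  hsq : ∀ x ∈ W, x * x ∈ F
  hcm : ∀ x ∈ W, ∀ y ∈ W, x * y * x⁻¹ * y⁻¹ ∈ F
  hd : ∀ U : Subgroup T, U ≤ W → Nat.card W ≤ 16 * Nat.card U → F ≤ U

section

variable {T : Type*} [Group T] [Finite T] {W F : Subgroup T}

local notation "𝒵" => Subgroup.upperCentralSeries T

theorem RuHyp.ucs_ne_top (h : RuHyp W F) : 𝒵 4 ≠ ⊤ := by
  intro htop
  have h1 := h.hb
  rw [htop, Subgroup.card_top] at h1
  have h2 := h.ha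
  omega

theorem RuHyp.cards (h : RuHyp W F) :
    Nat.card (𝒵 1) = 2 ∧ Nat.card (𝒵 2) = 4 ∧ Nat.card (𝒵 3) = 8 := by
  haveI := h.hT.isNilpotent
  have hne : ∀ n ≤ 4, 𝒵 n ≠ ⊤ := by
    intro n hn htop
    apply h.ucs_ne_top
    have := Subgroup.upperCentralSeries_mono T hn
    rw [htop] at this
    exact top_le_iff.mp this
  have l0 : Nat.card (𝒵 0) < Nat.card (𝒵 1) :=
    ru_card_lt_of_lt (ru_ucs_lt_succ 0 (hne 0 (by norm_num)))
  have l1 : Nat.card (𝒵 1) < Nat.card (𝒵 2) :=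
    ru_card_lt_of_lt (ru_ucs_lt_succ 1 (hne 1 (by norm_num)))
  have l2 : Nat.card (𝒵 2) < Nat.card (𝒵 3) :=
    ru_card_lt_of_lt (ru_ucs_lt_succ 2 (hne 2 (by norm_num)))
  have l3 : Nat.card (𝒵 3) < Nat.card (𝒵 4) :=
    ru_card_lt_of_lt (ru_ucs_lt_succ 3 (hne 3 (by norm_num)))
  rw [Subgroup.upperCentralSeries_zero, Subgroup.card_bot] at l0
  obtain ⟨a1, h1⟩ := IsPGroup.iff_card.mp (h.hT.to_subgroup (𝒵 1))
  obtain ⟨a2, h2⟩ := IsPGroup.iff_card.mp (h.hT.to_subgroup (𝒵 2))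
  obtain ⟨a3, h3⟩ := IsPGroup.iff_card.mp (h.hT.to_subgroup (𝒵 3))
  rw [h1] at l0 l1
  rw [h2] at l1 l2
  rw [h3] at l2 l3
  rw [h.hb] at l3
  have e0 : 0 < a1 := by
    rcases Nat.eq_zero_or_pos a1 with h0 | h0
    · rw [h0] at l0; simp at l0
    · exact h0
  have e1 : a1 < a2 := (Nat.pow_lt_pow_iff_right (by norm_num)).mp l1
  have e2 : a2 < a3 := (Nat.pow_lt_pow_iff_right (by norm_num)).mp l2
  have e3 : a3 < 4 := (Nat.pow_lt_pow_iff_right (a := 2) (by norm_num)).mp (by simpa using l3)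
  have : a1 = 1 := by omega
  have : a2 = 2 := by omega
  have : a3 = 3 := by omega
  subst_vars
  exact ⟨by rw [h1]; norm_num, by rw [h2]; norm_num, by rw [h3]; norm_num⟩

theorem ru_ucs_conj_mem {n : ℕ} {z : T} (hz : z ∈ 𝒵 (n+1)) (t : T) :
    t * z * t⁻¹ * z⁻¹ ∈ 𝒵 n := by
  have h1 := (Subgroup.mem_upperCentralSeries_succ_iff.mp hz) t
  have h2 := (𝒵 n).inv_mem h1
  rwa [commutatorElement_inv, commutatorElement_def] at h2

theorem ru_ucs_one_comm {z : T} (hz : z ∈ 𝒵 1) (t : T) : t * z = z * t := by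
  rw [Subgroup.upperCentralSeries_one] at hz
  exact Subgroup.mem_center_iff.mp hz t

/-- chosen elements of the terms of the upper central series -/
structure RuElts {T : Type*} [Group T] (z2 z3 : T) : Prop where
  h2 : z2 ∈ Subgroup.upperCentralSeries T 2
  h2' : z2 ∉ Subgroup.upperCentralSeries T 1
  h3 : z3 ∈ Subgroup.upperCentralSeries T 3
  h3' : z3 ∉ Subgroup.upperCentralSeries T 2

theorem RuHyp.exists_elts (h : RuHyp W F) : ∃ z2 z3 : T, RuElts z2 z3 := by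
  obtain ⟨c1, c2, c3⟩ := h.cards
  have l1 : 𝒵 1 < 𝒵 2 := by
    refine lt_of_le_of_ne (Subgroup.upperCentralSeries_mono T (by norm_num)) ?_
    intro he; rw [he] at c1; omega
  have l2 : 𝒵 2 < 𝒵 3 := by
    refine lt_of_le_of_ne (Subgroup.upperCentralSeries_mono T (by norm_num)) ?_
    intro he; rw [he] at c2; omega
  obtain ⟨z2, hz2, hz2'⟩ := SetLike.exists_of_lt l1
  obtain ⟨z3, hz3, hz3'⟩ := SetLike.exists_of_lt l2
  exact ⟨z2, z3, hz2, hz2', hz3, hz3'⟩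

theorem RuHyp.mem_W_iff (h : RuHyp W F) {z2 z3 : T} (e : RuElts z2 z3) (g : T) :
    g ∈ W ↔ g * z2 = z2 * g ∧ g * z3 = z3 * g := by
  obtain ⟨c1, c2, c3⟩ := h.cards
  have h12 : 𝒵 1 ≤ 𝒵 2 := Subgroup.upperCentralSeries_mono T (by norm_num)
  have h23 : 𝒵 2 ≤ 𝒵 3 := Subgroup.upperCentralSeries_mono T (by norm_num)
  rw [h.hW, Subgroup.mem_centralizer_iff]
  constructor
  · intro hg
    exact ⟨(hg z2 (h23 e.h2)).symm, (hg z3 e.h3).symm⟩
  · rintro ⟨hg2, hg3⟩ z hz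
    have k1 : ∀ y ∈ 𝒵 1, Commute g y := fun y hy => ru_ucs_one_comm hy g
    have k2 : ∀ y ∈ 𝒵 2, Commute g y := by
      intro y hy
      have hy' : y = z2 * (z2⁻¹ * y) := by group
      rcases ru_two_cosets (𝒵 1) (𝒵 2) h12 (by omega) e.h2 e.h2' y hy with h' | h'
      · exact k1 y h'
      · rw [hy']; exact Commute.mul_right hg2 (k1 _ h')
    have k3 : Commute g z := by
      have hz' : z = z3 * (z3⁻¹ * z) := by group
      rcases ru_two_cosets (𝒵 2) (𝒵 3) h23 (by omega) e.h3 e.h3' z hz with h' | h'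
      · exact k2 z h'
      · rw [hz']; exact Commute.mul_right hg3 (k2 _ h')
    exact k3.eq.symm

theorem RuHyp.W_normal (h : RuHyp W F) : W.Normal := by
  rw [h.hW]
  exact Subgroup.normal_centralizer

theorem RuHyp.index_le (h : RuHyp W F) : W.index ≤ 8 := by
  obtain ⟨z2, z3, e⟩ := h.exists_elts
  obtain ⟨c1, c2, c3⟩ := h.cards
  have hb := ru_index_le_of_fiber (α := ↥(𝒵 1) × ↥(𝒵 2)) W
    (fun t => (⟨t * z2 * t⁻¹ * z2⁻¹, ru_ucs_conj_mem e.h2 t⟩,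
      ⟨t * z3 * t⁻¹ * z3⁻¹, ru_ucs_conj_mem e.h3 t⟩)) ?_
  · rw [Nat.card_prod, c1, c2] at hb
    exact hb
  · intro s t hst
    simp only [Prod.mk.injEq, Subtype.mk.injEq] at hst
    obtain ⟨hs2, hs3⟩ := hst
    rw [h.mem_W_iff e]
    have a2 : s * z2 * s⁻¹ = t * z2 * t⁻¹ := mul_right_cancel hs2
    have a3 : s * z3 * s⁻¹ = t * z3 * t⁻¹ := mul_right_cancel hs3
    constructor
    · have : z2 = s⁻¹ * (s * z2 * s⁻¹) * s := by group
      rw [a2] at this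
      calc s⁻¹ * t * z2 = (s⁻¹ * (t * z2 * t⁻¹) * s) * (s⁻¹ * t) := by group
        _ = z2 * (s⁻¹ * t) := by rw [← this]
    · have : z3 = s⁻¹ * (s * z3 * s⁻¹) * s := by group
      rw [a3] at this
      calc s⁻¹ * t * z3 = (s⁻¹ * (t * z3 * t⁻¹) * s) * (s⁻¹ * t) := by group
        _ = z3 * (s⁻¹ * t) := by rw [← this]

end

end Cfsg.Agent.Lib.Helper9
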