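import Mathlib
import Cfsg.Agent.Lib.Helper9.Ru2

set_option autoImplicit false

namespace Cfsg.Agent.Lib.Helper9

section

variable {T : Type*} [Group T] [Finite T] {W F : Subgroup T}

local notation "𝒵" => Subgroup.upperCentralSeries T

theorem RuHyp.card_ucs_le (h : RuHyp W F) (j : ℕ) (hj : j ≤ 4) : Nat.card (𝒵 j) = 2 ^ j := by
  obtain ⟨c1, c2, c3⟩ := h.cards
  interval_cases j
  · simp
  · rw [c1]; norm_num
  · rw [c2]; norm_num
  · rw [c3]; norm_num
  · rw [h.hb]; norm_num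

theorem RuHyp.F_eq_ucs (h : RuHyp W F) : ∃ j ≤ 3, F = 𝒵 j ∧ Nat.card F = 2 ^ j := by
  obtain ⟨j, hj⟩ := IsPGroup.iff_card.mp (h.hT.to_subgroup F)
  have hj3 : j ≤ 3 := by
    have := h.hFc
    rw [hj] at this
    exact (Nat.pow_le_pow_iff_right (a := 2) (by norm_num)).mp (by simpa using this)
  haveI := h.hFn
  have hle : F ≤ 𝒵 j := ru_normal_le_ucs (p := 2) j T h.hT F (by rw [hj])
  refine ⟨j, hj3, ?_, hj⟩
  apply Subgroup.eq_of_le_of_card_ge hle
  rw [h.card_ucs_le j (by omega), hj]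

/-- the normal core of a suitable maximal subgroup of `W` is `F` -/
theorem RuHyp.core_le (h : RuHyp W F) (M : Subgroup T) (hFM : F ≤ M)
    (u : T) (huM : u ∉ M) (hu : ∀ t : T, t * u * t⁻¹ * u⁻¹ ∈ F)
    (x : T) (hx : ∀ t : T, t * x * t⁻¹ ∈ M) : x ∈ F := by
  haveI := h.hFn
  haveI := h.hT.isNilpotent
  let K : Subgroup T :=
    { carrier := {x | ∀ t : T, t * x * t⁻¹ ∈ M}
      one_mem' := by intro t; simp [M.one_mem]
      mul_mem' := by
        intro x y hx hy t
        have : t * (x * y) * t⁻¹ = (t * x * t⁻¹) * (t * y * t⁻¹) := by group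
        rw [this]; exact M.mul_mem (hx t) (hy t)
      inv_mem' := by
        intro x hx t
        have : t * x⁻¹ * t⁻¹ = (t * x * t⁻¹)⁻¹ := by group
        rw [this]; exact M.inv_mem (hx t) }
  have hKmem : ∀ y, y ∈ K ↔ ∀ t : T, t * y * t⁻¹ ∈ M := fun y => Iff.rfl
  haveI hKn : K.Normal := by
    constructor
    intro y hy s
    rw [hKmem] at hy ⊢
    intro t
    have : t * (s * y * s⁻¹) * t⁻¹ = (t * s) * y * (t * s)⁻¹ := by group
    rw [this]; exact hy _
  have hFK : F ≤ K := by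
    intro y hy
    rw [hKmem]
    intro t
    exact hFM (h.hFn.conj_mem y hy t)
  have hKM : K ≤ M := by
    intro y hy
    have := (hKmem y).mp hy 1
    simpa using this
  by_cases hKF : F = K
  · rw [hKF]; exact hx
  exfalso
  obtain ⟨k, hkK, hkF, hk⟩ := ru_exists_central_mod F K hFK hKF
  obtain ⟨j, hj3, hFj, hcj⟩ := h.F_eq_ucs
  have mem_succ : ∀ y : T, (∀ t : T, t * y * t⁻¹ * y⁻¹ ∈ F) → y ∈ 𝒵 (j+1) := by
    intro y hy
    rw [Subgroup.mem_upperCentralSeries_succ_iff]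
    intro t
    rw [← hFj, ← commutatorElement_inv, commutatorElement_def]
    exact F.inv_mem (hy t)
  have hk1 := mem_succ k hk
  have hu1 := mem_succ u hu
  have hcard : Nat.card (𝒵 (j+1)) = 2 * Nat.card (𝒵 j) := by
    rw [h.card_ucs_le (j+1) (by omega), h.card_ucs_le j (by omega)]; ring
  rcases ru_two_cosets (𝒵 j) (𝒵 (j+1)) (Subgroup.upperCentralSeries_mono T (by omega)) hcard
    hk1 (by rw [← hFj]; exact hkF) u hu1 with h' | h'
  · rw [← hFj] at h'
    exact huM (hFM h')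
  · rw [← hFj] at h'
    apply huM
    apply hKM
    have : u = k * (k⁻¹ * u) := by group
    rw [this]
    exact K.mul_mem hkK (hFK h')

theorem RuHyp.module_bound (h : RuHyp W F) : Nat.card W ≤ 2 ^ W.index * Nat.card F := by
  haveI := h.hFn
  haveI hWn := h.W_normal
  haveI := h.hT.isNilpotent
  by_cases hFW : F = W
  · rw [← hFW]
    have : 1 ≤ 2 ^ F.index := Nat.one_le_two_pow
    nlinarith
  obtain ⟨u, huW, huF, hu⟩ := ru_exists_central_mod F W h.hFW hFW
  obtain ⟨M, hFM, hMW, huM, hcov⟩ := ru_hyperplane W F h.hFW h.hsq h.hcm u huW huF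
  have hMn : ∀ w ∈ W, ∀ m ∈ M, w * m * w⁻¹ ∈ M := by
    intro w hw m hm
    have : w * m * w⁻¹ = (w * m * w⁻¹ * m⁻¹) * m := by group
    rw [this]; exact M.mul_mem (hFM (h.hcm w hw m (hMW hm))) hm
  classical
  letI : Fintype (T ⧸ W) := Fintype.ofFinite _
  let Mc : T → Subgroup T := fun t => M.comap (MulAut.conj t).toMonoidHom
  have hMc : ∀ t x, x ∈ Mc t ↔ t * x * t⁻¹ ∈ M := by
    intro t x
    simp [Mc, Subgroup.mem_comap]
  have hK : (⨅ q : T ⧸ W, Mc q.out) ≤ F := by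
    intro x hx
    rw [Subgroup.mem_iInf] at hx
    apply h.core_le M hFM u huM hu x
    intro t
    obtain ⟨w, hw⟩ := QuotientGroup.mk_out_eq_mul W t
    have hxq := (hMc _ _).mp (hx (QuotientGroup.mk t))
    rw [hw] at hxq
    have hw' : t * (w:T)⁻¹ * t⁻¹ ∈ W := hWn.conj_mem _ (W.inv_mem w.2) t
    have := hMn _ hw' _ hxq
    have e : t * x * t⁻¹ = (t * (w:T)⁻¹ * t⁻¹) * ((t * w) * x * (t * w)⁻¹) *
        (t * (w:T)⁻¹ * t⁻¹)⁻¹ := by group
    rw [e]; exact this
  have hrel : ∀ t, (Mc t).relIndex W ≤ 2 := by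
    intro t
    show (M.comap (MulAut.conj t).toMonoidHom).relIndex W ≤ 2
    rw [Subgroup.relIndex_comap]
    have : W.map (MulAut.conj t).toMonoidHom = W := Subgroup.Normal.map_conj_eq W t
    rw [this]
    have h1 := ru_card_mul_relIndex M W hMW
    have h2 := ru_card_le_two_mul M W u hcov
    have hpos : 0 < Nat.card M := Nat.card_pos
    rw [← h1] at h2
    have h3 : Nat.card M * M.relIndex W ≤ Nat.card M * 2 := by rw [mul_comm _ 2]; exact h2
    exact Nat.le_of_mul_le_mul_left h3 hpos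
  have h3 : (⨅ q : T ⧸ W, Mc q.out).relIndex W ≤ 2 ^ W.index := by
    calc (⨅ q : T ⧸ W, Mc q.out).relIndex W
        ≤ ∏ q : T ⧸ W, (Mc q.out).relIndex W := Subgroup.relIndex_iInf_le _
      _ ≤ ∏ _q : T ⧸ W, 2 := Finset.prod_le_prod (fun _ _ => Nat.zero_le _) (fun q _ => hrel _)
      _ = 2 ^ W.index := by
        simp [Subgroup.index, Nat.card_eq_fintype_card]
  have h4 : F.relIndex W ≤ (⨅ q : T ⧸ W, Mc q.out).relIndex W :=
    Subgroup.relIndex_le_of_le_left hK Subgroup.index_ne_zero_of_finite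
  have h5 := ru_card_mul_relIndex F W h.hFW
  calc Nat.card W = Nat.card F * F.relIndex W := h5.symm
    _ ≤ Nat.card F * 2 ^ W.index := Nat.mul_le_mul_left _ (h4.trans h3)
    _ = 2 ^ W.index * Nat.card F := by ring

theorem RuHyp.orders (h : RuHyp W F) :
    Nat.card T = 2 ^ 14 ∧ W.index = 8 ∧ Nat.card W = 2 ^ 11 ∧ Nat.card F = 8 := by
  have h1 := h.module_bound
  have h2 := h.index_le
  have h3 := h.hFc
  have h4 := h.ha
  have h5 : Nat.card W * W.index = Nat.card T := Subgroup.card_mul_index W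
  have hF1 : 1 ≤ Nat.card F := Nat.card_pos
  generalize W.index = i at *
  generalize Nat.card F = c at *
  generalize Nat.card W = w at *
  generalize Nat.card T = n at *
  interval_cases i <;> interval_cases c <;> omega

theorem RuHyp.F_eq (h : RuHyp W F) : F = 𝒵 3 := by
  obtain ⟨j, hj3, hFj, hcj⟩ := h.F_eq_ucs
  obtain ⟨-, -, -, hc⟩ := h.orders
  rw [hc] at hcj
  have : j = 3 := by
    have : (2:ℕ) ^ 3 = 2 ^ j := by rw [← hcj]; norm_num
    exact (Nat.pow_right_injective (le_refl 2) this).symm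
  rw [hFj, this]

end

end Cfsg.Agent.Lib.Helper9
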