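import Mathlib
import Cfsg.Agent.Lib.Helper9.Ru3

set_option autoImplicit false

namespace Cfsg.Agent.Lib.Helper9

section

variable {T : Type*} [Group T] [Finite T] {W F : Subgroup T}

local notation "𝒵" => Subgroup.upperCentralSeries T

theorem RuHyp.Z3_le_W (h : RuHyp W F) : 𝒵 3 ≤ W := by
  rw [← h.F_eq]; exact h.hFW

theorem RuHyp.Z3_central (h : RuHyp W F) {z w : T} (hz : z ∈ 𝒵 3) (hw : w ∈ W) :
    w * z = z * w := by
  have := h.hW ▸ hw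
  rw [Subgroup.mem_centralizer_iff] at this
  exact (this z hz).symm

theorem RuHyp.sq_mem (h : RuHyp W F) {x : T} (hx : x ∈ W) : x * x ∈ 𝒵 3 := by
  rw [← h.F_eq]; exact h.hsq x hx

theorem RuHyp.comm_mem (h : RuHyp W F) {x y : T} (hx : x ∈ W) (hy : y ∈ W) :
    x * y * x⁻¹ * y⁻¹ ∈ 𝒵 3 := by
  rw [← h.F_eq]; exact h.hcm x hx y hy

theorem RuHyp.hd3 (h : RuHyp W F) (U : Subgroup T) (hU : U ≤ W)
    (hc : Nat.card W ≤ 16 * Nat.card U) : 𝒵 3 ≤ U := by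
  rw [← h.F_eq]; exact h.hd U hU hc

theorem RuHyp.Z12 (_h : RuHyp W F) : 𝒵 1 ≤ 𝒵 2 := Subgroup.upperCentralSeries_mono T (by norm_num)

theorem RuHyp.Z23 (_h : RuHyp W F) : 𝒵 2 ≤ 𝒵 3 := Subgroup.upperCentralSeries_mono T (by norm_num)

theorem RuHyp.card32 (h : RuHyp W F) : Nat.card (𝒵 3) = 2 * Nat.card (𝒵 2) := by
  obtain ⟨c1, c2, c3⟩ := h.cards
  omega

theorem RuHyp.card21 (h : RuHyp W F) : Nat.card (𝒵 2) = 2 * Nat.card (𝒵 1) := by
  obtain ⟨c1, c2, c3⟩ := h.cards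
  omega

/-- not all commutators of `W` lie in the second centre -/
theorem RuHyp.comm_not_le_Z2 (h : RuHyp W F) :
    ¬ (∀ x ∈ W, ∀ y ∈ W, x * y * x⁻¹ * y⁻¹ ∈ 𝒵 2) := by
  intro hall
  obtain ⟨z2, z3, e⟩ := h.exists_elts
  have hmul : ∀ x ∈ W, ∀ y ∈ W, (x*y)*(x*y) = (x*y*x⁻¹*y⁻¹)⁻¹ * (x*x) * (y*y) := by
    intro x hx y hy
    apply ru_sq_mul
    exact (h.Z3_central (h.comm_mem hx hy) hx).symm
  let E : Subgroup T :=
    { carrier := {w | w ∈ W ∧ w * w ∈ 𝒵 2}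
      one_mem' := ⟨W.one_mem, by simp⟩
      mul_mem' := by
        rintro x y ⟨hx, hx2⟩ ⟨hy, hy2⟩
        refine ⟨W.mul_mem hx hy, ?_⟩
        rw [hmul x hx y hy]
        exact (𝒵 2).mul_mem ((𝒵 2).mul_mem ((𝒵 2).inv_mem (hall x hx y hy)) hx2) hy2
      inv_mem' := by
        rintro x ⟨hx, hx2⟩
        refine ⟨W.inv_mem hx, ?_⟩
        have : x⁻¹ * x⁻¹ = (x * x)⁻¹ := by group
        rw [this]; exact (𝒵 2).inv_mem hx2 }
  have hEmem : ∀ w, w ∈ E ↔ w ∈ W ∧ w * w ∈ 𝒵 2 := fun w => Iff.rfl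
  have hEW : E ≤ W := fun w hw => hw.1
  have hZ2E : 𝒵 2 ≤ E := by
    intro z hz
    exact ⟨h.Z3_le_W (h.Z23 hz), (𝒵 2).mul_mem hz hz⟩
  have hz3E : z3 ∈ E := by
    refine ⟨h.Z3_le_W e.h3, ?_⟩
    rw [ru_mul_mem_iff_of_card (𝒵 2) (𝒵 3) h.Z23 h.card32 e.h3 e.h3]
  have hWE : Nat.card W ≤ 2 * Nat.card E := by
    by_cases hex : ∃ x0 ∈ W, x0 ∉ E
    · obtain ⟨x0, hx0W, hx0E⟩ := hex
      apply ru_card_le_two_mul E W x0
      intro g hg
      by_cases hgE : g ∈ E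
      · exact Or.inl hgE
      right
      have hx0' : x0 * x0 ∉ 𝒵 2 := fun hc => hx0E ⟨hx0W, hc⟩
      have hg' : g * g ∉ 𝒵 2 := fun hc => hgE ⟨hg, hc⟩
      have hx0i : x0⁻¹ ∈ W := W.inv_mem hx0W
      refine ⟨W.mul_mem hx0i hg, ?_⟩
      rw [hmul _ hx0i _ hg, mul_assoc]
      refine (𝒵 2).mul_mem ((𝒵 2).inv_mem (hall _ hx0i _ hg)) ?_
      rw [ru_mul_mem_iff_of_card (𝒵 2) (𝒵 3) h.Z23 h.card32 (h.sq_mem hx0i) (h.sq_mem hg)]
      constructor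
      · intro hc
        exfalso; apply hx0'
        have : x0 * x0 = (x0⁻¹ * x0⁻¹)⁻¹ := by rw [mul_inv_rev, inv_inv]
        rw [this]; exact (𝒵 2).inv_mem hc
      · intro hc; exact absurd hc hg'
    · push Not at hex
      have : W ≤ E := fun w hw => hex w hw
      have := Subgroup.card_le_of_le this
      omega
  obtain ⟨U, hZ2U, hUE, hz3U, hcov⟩ := ru_hyperplane E (𝒵 2) hZ2E
    (fun x hx => hx.2) (fun x hx y hy => hall x hx.1 y hy.1) z3 hz3E e.h3'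
  have hEU := ru_card_le_two_mul U E z3 hcov
  have := h.hd3 U (hUE.trans hEW) (by omega)
  exact hz3U (this e.h3)

theorem RuHyp.normal_eq (h : RuHyp W F) (N : Subgroup T) [N.Normal] (hN3 : N ≤ 𝒵 3)
    (hN : ∀ x ∈ W, ∀ y ∈ W, x * y * x⁻¹ * y⁻¹ ∈ N) : N = 𝒵 3 := by
  by_contra hne
  have hlt : N < 𝒵 3 := lt_of_le_of_ne hN3 hne
  have hc := ru_card_lt_of_lt hlt
  obtain ⟨c1, c2, c3⟩ := h.cards
  rw [c3] at hc
  obtain ⟨k, hk⟩ := IsPGroup.iff_card.mp (h.hT.to_subgroup N)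
  have hk2 : k ≤ 2 := by
    rw [hk] at hc
    have : k < 3 := (Nat.pow_lt_pow_iff_right (a := 2) (by norm_num)).mp (by simpa using hc)
    omega
  have hle : N ≤ 𝒵 2 := by
    apply ru_normal_le_ucs (p := 2) 2 T h.hT N
    rw [hk]
    exact Nat.pow_le_pow_right (by norm_num) hk2
  exact h.comm_not_le_Z2 (fun x hx y hy => hle (hN x hx y hy))

theorem RuHyp.Z3_elem (h : RuHyp W F) {z : T} (hz : z ∈ 𝒵 3) : z * z = 1 := by
  let S : Subgroup T :=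
    { carrier := {z | z ∈ 𝒵 3 ∧ z * z = 1}
      one_mem' := ⟨Subgroup.one_mem _, by simp⟩
      mul_mem' := by
        rintro a b ⟨ha, ha2⟩ ⟨hb, hb2⟩
        refine ⟨Subgroup.mul_mem _ ha hb, ?_⟩
        have hab : a * b = b * a := h.Z3_central hb (h.Z3_le_W ha)
        calc a * b * (a * b) = a * (b * a) * b := by group
          _ = a * (a * b) * b := by rw [hab]
          _ = (a * a) * (b * b) := by group
          _ = 1 := by rw [ha2, hb2, one_mul]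
      inv_mem' := by
        rintro a ⟨ha, ha2⟩
        refine ⟨Subgroup.inv_mem _ ha, ?_⟩
        have : a⁻¹ * a⁻¹ = (a * a)⁻¹ := by group
        rw [this, ha2, inv_one] }
  haveI : S.Normal := by
    constructor
    rintro a ⟨ha, ha2⟩ t
    refine ⟨(inferInstance : (𝒵 3).Normal).conj_mem a ha t, ?_⟩
    calc t * a * t⁻¹ * (t * a * t⁻¹) = t * (a * a) * t⁻¹ := by group
      _ = 1 := by rw [ha2]; group
  have hS : S = 𝒵 3 := by
    apply h.normal_eq S (fun a ha => ha.1)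
    intro x hx y hy
    refine ⟨h.comm_mem hx hy, ?_⟩
    apply ru_comm_sq x y
    · group
    · exact (h.Z3_central (h.comm_mem hx hy) hx).symm
    · exact (h.Z3_central (h.sq_mem hx) hy).symm
  have : z ∈ S := by rw [hS]; exact hz
  exact this.2

end

end Cfsg.Agent.Lib.Helper9
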