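import Mathlib
import Cfsg.Agent.Lib.Helper9.Ru4
import Cfsg.Agent.Lib.Helper18.Dihedral8

set_option autoImplicit false

namespace Cfsg.Agent.Lib.Helper9

/-- the Heisenberg group over the field with two elements -/
@[ext] structure RuHeis where
  a : ZMod 2
  b : ZMod 2
  c : ZMod 2
deriving DecidableEq, Fintype

instance ruHeisGroup : Group RuHeis where
  mul x y := ⟨x.a + y.a, x.b + y.b, x.c + y.c + x.a * y.b⟩
  one := ⟨0, 0, 0⟩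
  inv x := ⟨x.a, x.b, x.c + x.a * x.b⟩
  mul_assoc := by decide
  one_mul := by decide
  mul_one := by decide
  inv_mul_cancel := by decide

theorem ruHeis_mul (x y : RuHeis) :
    x * y = ⟨x.a + y.a, x.b + y.b, x.c + y.c + x.a * y.b⟩ := rfl

theorem ruHeis_one : (1 : RuHeis) = ⟨0, 0, 0⟩ := rfl

theorem ruHeis_card : Nat.card RuHeis = 8 := by
  rw [Nat.card_eq_fintype_card]; rfl

theorem ruHeis_dihedral : Nonempty (RuHeis ≃* DihedralGroup 4) := by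
  obtain ⟨x, y, -, -, -, -, h⟩ := Cfsg.Agent.Lib.Helper18.dihedral_of_card_eight ruHeis_card
    ⟨⟨1,0,0⟩, ⟨0,1,0⟩, by decide⟩
    (by
      rintro ⟨z, hz⟩
      have h1 : orderOf (⟨0,1,0⟩ : RuHeis) = 2 := orderOf_eq_prime (by decide) (by decide)
      have h2 : orderOf (⟨0,0,1⟩ : RuHeis) = 2 := orderOf_eq_prime (by decide) (by decide)
      have := (hz _ h1).trans (hz _ h2).symm
      revert this
      decide)
  exact h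

section

variable {T : Type*} [Group T]

open Classical in
/-- indicator of the complement of a subgroup, with values in `ZMod 2` -/
noncomputable def ruIota (H : Subgroup T) (z : T) : ZMod 2 := if z ∈ H then 0 else 1

theorem ruIota_eq_zero {H : Subgroup T} {z : T} : ruIota H z = 0 ↔ z ∈ H := by
  unfold ruIota; split_ifs with h <;> simp [h]

theorem ruIota_eq_one {H : Subgroup T} {z : T} : ruIota H z = 1 ↔ z ∉ H := by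
  unfold ruIota; split_ifs with h <;> simp [h]

theorem ruIota_mul [Finite T] (H K : Subgroup T) (hHK : H ≤ K)
    (hc : Nat.card K = 2 * Nat.card H) {a b : T} (ha : a ∈ K) (hb : b ∈ K) :
    ruIota H (a * b) = ruIota H a + ruIota H b := by
  have := ru_mul_mem_iff_of_card H K hHK hc ha hb
  by_cases h1 : a ∈ H <;> by_cases h2 : b ∈ H
  · rw [ruIota_eq_zero.mpr h1, ruIota_eq_zero.mpr h2, ruIota_eq_zero.mpr (H.mul_mem h1 h2)]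
    rfl
  · rw [ruIota_eq_zero.mpr h1, ruIota_eq_one.mpr h2, ruIota_eq_one.mpr (by rw [this]; tauto)]
    rfl
  · rw [ruIota_eq_one.mpr h1, ruIota_eq_zero.mpr h2, ruIota_eq_one.mpr (by rw [this]; tauto)]
    rfl
  · rw [ruIota_eq_one.mpr h1, ruIota_eq_one.mpr h2, ruIota_eq_zero.mpr (by rw [this]; tauto)]
    rfl

/-- the coordinates of the action of `t` on the third centre -/
noncomputable def ruSigmaFun (z2 z3 : T) (t : T) : RuHeis :=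
  ⟨ruIota ⊥ (t*z2*t⁻¹*z2⁻¹), ruIota (Subgroup.upperCentralSeries T 1) (t*z3*t⁻¹*z3⁻¹),
    ruIota (Subgroup.zpowers z2) (t*z3*t⁻¹*z3⁻¹)⟩

end

section

variable {T : Type*} [Group T] [Finite T] {W F : Subgroup T}

local notation "𝒵" => Subgroup.upperCentralSeries T

theorem RuHyp.z2_facts (h : RuHyp W F) {z2 z3 : T} (e : RuElts z2 z3) :
    z2 * z2 = 1 ∧ z2 ≠ 1 ∧ Nat.card (Subgroup.zpowers z2) = 2 ∧ Subgroup.zpowers z2 ≤ 𝒵 2 ∧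
    (∀ x ∈ 𝒵 1, x ∈ Subgroup.zpowers z2 ↔ x = 1) := by
  have hsq : z2 * z2 = 1 := h.Z3_elem (h.Z23 e.h2)
  have hne : z2 ≠ 1 := by
    intro h1; apply e.h2'; rw [h1]; exact Subgroup.one_mem _
  have hcard : Nat.card (Subgroup.zpowers z2) = 2 := by
    rw [Nat.card_zpowers]
    exact orderOf_eq_prime (by rw [pow_two]; exact hsq) hne
  have hle : Subgroup.zpowers z2 ≤ 𝒵 2 := by
    rw [Subgroup.zpowers_le]; exact e.h2
  refine ⟨hsq, hne, hcard, hle, ?_⟩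
  intro x hx
  constructor
  · intro hxP
    have hz2P : z2 ∈ Subgroup.zpowers z2 := Subgroup.mem_zpowers z2
    rcases ru_two_cosets ⊥ (Subgroup.zpowers z2) bot_le (by rw [hcard]; simp) hz2P
      (by rw [Subgroup.mem_bot]; exact hne) x hxP with h' | h'
    · exact Subgroup.mem_bot.mp h'
    · exfalso
      rw [Subgroup.mem_bot] at h'
      have : x = z2 := by
        have := congrArg (fun w => z2 * w) h'
        simpa using this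
      exact e.h2' (this ▸ hx)
  · intro h1; rw [h1]; exact Subgroup.one_mem _

theorem RuHyp.pairing (h : RuHyp W F) {z2 z3 : T} (e : RuElts z2 z3) (t : T) {y : T}
    (hy : y ∈ 𝒵 2) :
    ruIota ⊥ (t*y*t⁻¹*y⁻¹) = ruIota ⊥ (t*z2*t⁻¹*z2⁻¹) * ruIota (𝒵 1) y := by
  by_cases hy1 : y ∈ 𝒵 1
  · have : t * y * t⁻¹ * y⁻¹ = 1 := by
      rw [ru_ucs_one_comm hy1 t]; group
    rw [this, ruIota_eq_zero.mpr hy1, ruIota_eq_zero.mpr (Subgroup.one_mem _), mul_zero]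
  · rw [ruIota_eq_one.mpr hy1, mul_one]
    have hy' : z2⁻¹ * y ∈ 𝒵 1 :=
      (ru_two_cosets (𝒵 1) (𝒵 2) h.Z12 h.card21 e.h2 e.h2' y hy).resolve_left hy1
    have hc := ru_ucs_one_comm hy' t⁻¹
    have e1 : t * y * t⁻¹ * y⁻¹ = t * z2 * ((z2⁻¹ * y) * t⁻¹) * (z2⁻¹ * y)⁻¹ * z2⁻¹ := by group
    rw [e1, ← hc]
    congr 1
    group

theorem RuHyp.sigma_mul (h : RuHyp W F) {z2 z3 : T} (e : RuElts z2 z3) (t s : T) :
    ruSigmaFun z2 z3 (t * s) = ruSigmaFun z2 z3 t * ruSigmaFun z2 z3 s := by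
  obtain ⟨hsq, hne, hcardP, hP2, hPmem⟩ := h.z2_facts e
  obtain ⟨c1, c2, c3⟩ := h.cards
  have hy2 : s*z2*s⁻¹*z2⁻¹ ∈ 𝒵 1 := ru_ucs_conj_mem e.h2 s
  have hx2 : t*z2*t⁻¹*z2⁻¹ ∈ 𝒵 1 := ru_ucs_conj_mem e.h2 t
  have hy3 : s*z3*s⁻¹*z3⁻¹ ∈ 𝒵 2 := ru_ucs_conj_mem e.h3 s
  have hx3 : t*z3*t⁻¹*z3⁻¹ ∈ 𝒵 2 := ru_ucs_conj_mem e.h3 t
  have hv : t*(s*z3*s⁻¹*z3⁻¹)*t⁻¹*(s*z3*s⁻¹*z3⁻¹)⁻¹ ∈ 𝒵 1 := ru_ucs_conj_mem hy3 t
  have id2 : (t*s)*z2*(t*s)⁻¹*z2⁻¹ = (s*z2*s⁻¹*z2⁻¹) * (t*z2*t⁻¹*z2⁻¹) := by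
    have := ru_ucs_one_comm hy2 t
    calc (t*s)*z2*(t*s)⁻¹*z2⁻¹ = (t * (s*z2*s⁻¹*z2⁻¹)) * z2 * t⁻¹ * z2⁻¹ := by group
      _ = ((s*z2*s⁻¹*z2⁻¹) * t) * z2 * t⁻¹ * z2⁻¹ := by rw [this]
      _ = _ := by group
  have id3 : (t*s)*z3*(t*s)⁻¹*z3⁻¹ =
      (t*(s*z3*s⁻¹*z3⁻¹)*t⁻¹*(s*z3*s⁻¹*z3⁻¹)⁻¹) * (s*z3*s⁻¹*z3⁻¹) * (t*z3*t⁻¹*z3⁻¹) := by
    group
  have cb1 : Nat.card (𝒵 1) = 2 * Nat.card (⊥ : Subgroup T) := by rw [c1]; simp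
  have cP : Nat.card (𝒵 2) = 2 * Nat.card (Subgroup.zpowers z2) := by rw [c2, hcardP]
  ext
  · show ruIota ⊥ ((t*s)*z2*(t*s)⁻¹*z2⁻¹) =
      ruIota ⊥ (t*z2*t⁻¹*z2⁻¹) + ruIota ⊥ (s*z2*s⁻¹*z2⁻¹)
    rw [id2, ruIota_mul ⊥ (𝒵 1) bot_le cb1 hy2 hx2, add_comm]
  · show ruIota (𝒵 1) ((t*s)*z3*(t*s)⁻¹*z3⁻¹) =
      ruIota (𝒵 1) (t*z3*t⁻¹*z3⁻¹) + ruIota (𝒵 1) (s*z3*s⁻¹*z3⁻¹)
    rw [id3, ruIota_mul (𝒵 1) (𝒵 2) h.Z12 h.card21 ((𝒵 2).mul_mem (h.Z12 hv) hy3) hx3,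
      ruIota_mul (𝒵 1) (𝒵 2) h.Z12 h.card21 (h.Z12 hv) hy3, ruIota_eq_zero.mpr hv]
    ring
  · show ruIota (Subgroup.zpowers z2) ((t*s)*z3*(t*s)⁻¹*z3⁻¹) =
      ruIota (Subgroup.zpowers z2) (t*z3*t⁻¹*z3⁻¹) +
        ruIota (Subgroup.zpowers z2) (s*z3*s⁻¹*z3⁻¹) +
        ruIota ⊥ (t*z2*t⁻¹*z2⁻¹) * ruIota (𝒵 1) (s*z3*s⁻¹*z3⁻¹)
    rw [id3, ruIota_mul _ (𝒵 2) hP2 cP ((𝒵 2).mul_mem (h.Z12 hv) hy3) hx3,
      ruIota_mul _ (𝒵 2) hP2 cP (h.Z12 hv) hy3, ← h.pairing e t hy3]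
    have : ruIota (Subgroup.zpowers z2) (t*(s*z3*s⁻¹*z3⁻¹)*t⁻¹*(s*z3*s⁻¹*z3⁻¹)⁻¹) =
        ruIota ⊥ (t*(s*z3*s⁻¹*z3⁻¹)*t⁻¹*(s*z3*s⁻¹*z3⁻¹)⁻¹) := by
      by_cases hv1 : t*(s*z3*s⁻¹*z3⁻¹)*t⁻¹*(s*z3*s⁻¹*z3⁻¹)⁻¹ = 1
      · rw [ruIota_eq_zero.mpr ((hPmem _ hv).mpr hv1),
          ruIota_eq_zero.mpr (Subgroup.mem_bot.mpr hv1)]
      · rw [ruIota_eq_one.mpr (fun hc => hv1 ((hPmem _ hv).mp hc)),
          ruIota_eq_one.mpr (fun hc => hv1 (Subgroup.mem_bot.mp hc))]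
    rw [this]
    ring

/-- the action homomorphism onto the Heisenberg group -/
noncomputable def RuHyp.sigma (h : RuHyp W F) {z2 z3 : T} (e : RuElts z2 z3) : T →* RuHeis :=
  MonoidHom.mk' (ruSigmaFun z2 z3) (h.sigma_mul e)

theorem RuHyp.sigma_apply (h : RuHyp W F) {z2 z3 : T} (e : RuElts z2 z3) (t : T) :
    h.sigma e t = ruSigmaFun z2 z3 t := rfl

theorem RuHyp.sigma_eq_one_iff (h : RuHyp W F) {z2 z3 : T} (e : RuElts z2 z3) (t : T) :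
    h.sigma e t = 1 ↔ t ∈ W := by
  obtain ⟨hsq, hne, hcardP, hP2, hPmem⟩ := h.z2_facts e
  rw [h.sigma_apply, h.mem_W_iff e]
  constructor
  · intro h1
    have ha : ruIota ⊥ (t*z2*t⁻¹*z2⁻¹) = 0 := congrArg RuHeis.a h1
    have hb : ruIota (𝒵 1) (t*z3*t⁻¹*z3⁻¹) = 0 := congrArg RuHeis.b h1
    have hc : ruIota (Subgroup.zpowers z2) (t*z3*t⁻¹*z3⁻¹) = 0 := congrArg RuHeis.c h1
    rw [ruIota_eq_zero] at ha hb hc
    rw [Subgroup.mem_bot] at ha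
    have h3 := (hPmem _ hb).mp hc
    constructor
    · have : t * z2 = (t*z2*t⁻¹*z2⁻¹) * z2 * t := by group
      rw [this, ha, one_mul]
    · have : t * z3 = (t*z3*t⁻¹*z3⁻¹) * z3 * t := by group
      rw [this, h3, one_mul]
  · rintro ⟨h2, h3⟩
    have e2 : t*z2*t⁻¹*z2⁻¹ = 1 := by rw [h2]; group
    have e3 : t*z3*t⁻¹*z3⁻¹ = 1 := by rw [h3]; group
    unfold ruSigmaFun
    rw [e2, e3, ruIota_eq_zero.mpr (Subgroup.one_mem _), ruIota_eq_zero.mpr (Subgroup.one_mem _),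
      ruIota_eq_zero.mpr (Subgroup.one_mem _)]
    rfl

theorem RuHyp.sigma_ker (h : RuHyp W F) {z2 z3 : T} (e : RuElts z2 z3) :
    (h.sigma e).ker = W := by
  ext t
  rw [MonoidHom.mem_ker, h.sigma_eq_one_iff]

theorem RuHyp.sigma_eq_iff (h : RuHyp W F) {z2 z3 : T} (e : RuElts z2 z3) (s t : T) :
    h.sigma e s = h.sigma e t ↔ s⁻¹ * t ∈ W := by
  rw [← h.sigma_eq_one_iff e, map_mul, map_inv, inv_mul_eq_one]

theorem RuHyp.sigma_surj (h : RuHyp W F) {z2 z3 : T} (e : RuElts z2 z3) :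
    Function.Surjective (h.sigma e) := by
  obtain ⟨hT, hi, hw, -⟩ := h.orders
  apply ru_surj_of_fiber W
  · intro s t hst
    exact (h.sigma_eq_iff e s t).mp hst
  · rw [ruHeis_card, hw, hT]; norm_num

theorem RuHyp.quot_dihedral (h : RuHyp W F) [hn : W.Normal] :
    Nonempty (T ⧸ W ≃* DihedralGroup 4) := by
  obtain ⟨z2, z3, e⟩ := h.exists_elts
  obtain ⟨f⟩ := ruHeis_dihedral
  have e1 : T ⧸ W ≃* T ⧸ (h.sigma e).ker :=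
    QuotientGroup.quotientMulEquivOfEq (h.sigma_ker e).symm
  have e2 : T ⧸ (h.sigma e).ker ≃* RuHeis :=
    QuotientGroup.quotientKerEquivOfSurjective _ (h.sigma_surj e)
  exact ⟨(e1.trans e2).trans f⟩

end

end Cfsg.Agent.Lib.Helper9
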