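import Mathlib
import Cfsg.Agent.Lib.Helper9.Ru5

set_option autoImplicit false

namespace Cfsg.Agent.Lib.Helper9

section defs

variable {T : Type*} [Group T]

/-- coordinates with respect to the conjugates of a maximal subgroup -/
noncomputable def ruKappa (M : Subgroup T) (x t : T) : ZMod 2 := ruIota M (t * x * t⁻¹)

/-- the commutator form with values in the top factor of the third centre -/
noncomputable def ruBeta (x y : T) : ZMod 2 :=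
  ruIota (Subgroup.upperCentralSeries T 2) (x * y * x⁻¹ * y⁻¹)

theorem ruIota_inv (H : Subgroup T) (z : T) : ruIota H z⁻¹ = ruIota H z := by
  by_cases hz : z ∈ H
  · rw [ruIota_eq_zero.mpr hz, ruIota_eq_zero.mpr (H.inv_mem hz)]
  · rw [ruIota_eq_one.mpr hz, ruIota_eq_one.mpr (fun hc => hz (by simpa using H.inv_mem hc))]

theorem ruIota_congr {H H' : Subgroup T} {a b : T} (h : a ∈ H ↔ b ∈ H') :
    ruIota H a = ruIota H' b := by
  by_cases ha : a ∈ H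
  · rw [ruIota_eq_zero.mpr ha, ruIota_eq_zero.mpr (h.mp ha)]
  · rw [ruIota_eq_one.mpr ha, ruIota_eq_one.mpr (fun hc => ha (h.mpr hc))]

theorem ruIota_zero_or_one (H : Subgroup T) (z : T) : ruIota H z = 0 ∨ ruIota H z = 1 := by
  by_cases hz : z ∈ H
  · exact Or.inl (ruIota_eq_zero.mpr hz)
  · exact Or.inr (ruIota_eq_one.mpr hz)

theorem ru_zmod2_add_self (x : ZMod 2) : x + x = 0 := by
  revert x; decide

end defs

/-- the auxiliary maximal subgroup `M` of `W` and the element `u` which is central in `W` and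
central in `T` modulo the third centre -/
structure RuCtx {T : Type*} [Group T] (W M : Subgroup T) (u : T) : Prop where
  hZM : Subgroup.upperCentralSeries T 3 ≤ M
  hMW : M ≤ W
  huW : u ∈ W
  huM : u ∉ M
  hcard : Nat.card W = 2 * Nat.card M
  hu : ∀ t : T, t * u * t⁻¹ * u⁻¹ ∈ Subgroup.upperCentralSeries T 3
  huc : ∀ w ∈ W, u * w = w * u

section

variable {T : Type*} [Group T] [Finite T] {W F M : Subgroup T} {u : T}

local notation "𝒵" => Subgroup.upperCentralSeries T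

theorem RuHyp.exists_ctx (h : RuHyp W F) (u : T) (huW : u ∈ W) (hu3 : u ∉ 𝒵 3)
    (hu : ∀ t : T, t * u * t⁻¹ * u⁻¹ ∈ 𝒵 3) (huc : ∀ w ∈ W, u * w = w * u) :
    ∃ M : Subgroup T, RuCtx W M u := by
  obtain ⟨M, hZM, hMW, huM, hcov⟩ := ru_hyperplane W (𝒵 3) h.Z3_le_W
    (fun x hx => h.sq_mem hx) (fun x hx y hy => h.comm_mem hx hy) u huW hu3
  refine ⟨M, hZM, hMW, huW, huM, ?_, hu, huc⟩
  have h1 := ru_card_le_two_mul M W u hcov
  have h2 := ru_card_mul_relIndex M W hMW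
  have hlt : M < W := lt_of_le_of_ne hMW (fun he => huM (he ▸ huW))
  have h3 := ru_card_lt_of_lt hlt
  have hpos : 0 < Nat.card M := Nat.card_pos
  have hr : M.relIndex W = 2 := by
    have h4 : Nat.card M * M.relIndex W ≤ Nat.card M * 2 := by rw [h2]; omega
    have h5 : M.relIndex W ≤ 2 := Nat.le_of_mul_le_mul_left h4 hpos
    have h6 : M.relIndex W ≠ 1 := by
      intro h1'; rw [h1', mul_one] at h2; omega
    have h7 : M.relIndex W ≠ 0 := by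
      intro h0; rw [h0, mul_zero] at h2; omega
    omega
  rw [hr] at h2
  omega

theorem RuHyp.conj_mem_W (h : RuHyp W F) {x : T} (hx : x ∈ W) (t : T) : t * x * t⁻¹ ∈ W :=
  h.W_normal.conj_mem x hx t

theorem RuHyp.conj_mem_Z3 (_h : RuHyp W F) {x : T} (hx : x ∈ 𝒵 3) (t : T) :
    t * x * t⁻¹ ∈ 𝒵 3 :=
  (inferInstance : (𝒵 3).Normal).conj_mem x hx t

/-- `M` is normal in `W` -/
theorem RuCtx.M_normal (m : RuCtx W M u) (h : RuHyp W F) {w x : T} (hw : w ∈ W) (hx : x ∈ W) :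
    w * x * w⁻¹ ∈ M ↔ x ∈ M := by
  have hc : w * x * w⁻¹ * x⁻¹ ∈ M := m.hZM (h.comm_mem hw hx)
  constructor
  · intro h1
    have : x = (w * x * w⁻¹ * x⁻¹)⁻¹ * (w * x * w⁻¹) := by group
    rw [this]; exact M.mul_mem (M.inv_mem hc) h1
  · intro h1
    have : w * x * w⁻¹ = (w * x * w⁻¹ * x⁻¹) * x := by group
    rw [this]; exact M.mul_mem hc h1

theorem RuCtx.kappa_mul (m : RuCtx W M u) (h : RuHyp W F) {x y : T} (hx : x ∈ W) (hy : y ∈ W)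
    (t : T) : ruKappa M (x * y) t = ruKappa M x t + ruKappa M y t := by
  unfold ruKappa
  have : t * (x * y) * t⁻¹ = (t * x * t⁻¹) * (t * y * t⁻¹) := by group
  rw [this]
  exact ruIota_mul M W m.hMW m.hcard (h.conj_mem_W hx t) (h.conj_mem_W hy t)

theorem ruKappa_conj (M : Subgroup T) (x s t : T) :
    ruKappa M (s * x * s⁻¹) t = ruKappa M x (t * s) := by
  unfold ruKappa
  congr 1
  group

theorem RuCtx.kappa_left (m : RuCtx W M u) (h : RuHyp W F) {x w : T} (hx : x ∈ W) (hw : w ∈ W)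
    (t : T) : ruKappa M x (w * t) = ruKappa M x t := by
  unfold ruKappa
  have e1 : w * t * x * (w * t)⁻¹ = w * (t * x * t⁻¹) * w⁻¹ := by group
  rw [e1]
  exact ruIota_congr (m.M_normal h hw (h.conj_mem_W hx t))

theorem RuCtx.kappa_Z3 (m : RuCtx W M u) (h : RuHyp W F) {z : T} (hz : z ∈ 𝒵 3) (t : T) :
    ruKappa M z t = 0 := by
  unfold ruKappa
  rw [ruIota_eq_zero]
  exact m.hZM (h.conj_mem_Z3 hz t)

theorem RuCtx.kappa_one (m : RuCtx W M u) (h : RuHyp W F) (t : T) : ruKappa M 1 t = 0 :=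
  m.kappa_Z3 h (Subgroup.one_mem _) t

theorem RuCtx.kappa_inv (m : RuCtx W M u) (h : RuHyp W F) {x : T} (hx : x ∈ W) (t : T) :
    ruKappa M x⁻¹ t = ruKappa M x t := by
  have h1 := m.kappa_mul h hx (W.inv_mem hx) t
  rw [mul_inv_cancel, m.kappa_one h] at h1
  have h2 := ru_zmod2_add_self (ruKappa M x t)
  have : ruKappa M x⁻¹ t = ruKappa M x t + (ruKappa M x t + ruKappa M x⁻¹ t) := by
    rw [← add_assoc, h2, zero_add]
  rw [this, ← h1, add_zero]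

theorem RuCtx.kappa_u (m : RuCtx W M u) (_h : RuHyp W F) (t : T) : ruKappa M u t = 1 := by
  unfold ruKappa
  rw [ruIota_eq_one]
  intro hc
  apply m.huM
  have : u = (t * u * t⁻¹ * u⁻¹)⁻¹ * (t * u * t⁻¹) := by group
  rw [this]
  exact M.mul_mem (M.inv_mem (m.hZM (m.hu t))) hc

theorem RuCtx.kappa_zero (m : RuCtx W M u) (h : RuHyp W F) {x : T}
    (hx : ∀ t, ruKappa M x t = 0) : x ∈ 𝒵 3 := by
  rw [← h.F_eq]
  apply h.core_le M (by rw [h.F_eq]; exact m.hZM) u m.huM (by rw [h.F_eq]; exact m.hu) x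
  intro t
  exact ruIota_eq_zero.mp (hx t)

theorem RuCtx.kappa_ext (m : RuCtx W M u) (h : RuHyp W F) {x y : T} (hx : x ∈ W) (hy : y ∈ W)
    (hxy : ∀ t, ruKappa M x t = ruKappa M y t) : x⁻¹ * y ∈ 𝒵 3 := by
  apply m.kappa_zero h
  intro t
  rw [m.kappa_mul h (W.inv_mem hx) hy, m.kappa_inv h hx, hxy t]
  exact ru_zmod2_add_self _

theorem RuHyp.beta_mul_left (h : RuHyp W F) {x x' y : T} (hx : x ∈ W) (hx' : x' ∈ W)
    (hy : y ∈ W) : ruBeta (x * x') y = ruBeta x y + ruBeta x' y := by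
  unfold ruBeta
  rw [ru_comm_mul_left x x' y (h.Z3_central (h.comm_mem hx' hy) hx),
    ruIota_mul (𝒵 2) (𝒵 3) h.Z23 h.card32 (h.comm_mem hx' hy) (h.comm_mem hx hy), add_comm]

theorem ruBeta_symm (x y : T) : ruBeta x y = ruBeta y x := by
  unfold ruBeta
  have : y * x * y⁻¹ * x⁻¹ = (x * y * x⁻¹ * y⁻¹)⁻¹ := by group
  rw [this, ruIota_inv]

theorem RuHyp.beta_mul_right (h : RuHyp W F) {x y y' : T} (hx : x ∈ W) (hy : y ∈ W)
    (hy' : y' ∈ W) : ruBeta x (y * y') = ruBeta x y + ruBeta x y' := by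
  rw [ruBeta_symm x (y * y'), h.beta_mul_left hy hy' hx, ruBeta_symm y x, ruBeta_symm y' x]

theorem RuHyp.beta_conj (h : RuHyp W F) {x y : T} (hx : x ∈ W) (hy : y ∈ W) (t : T) :
    ruBeta (t * x * t⁻¹) (t * y * t⁻¹) = ruBeta x y := by
  unfold ruBeta
  have e1 : (t * x * t⁻¹) * (t * y * t⁻¹) * (t * x * t⁻¹)⁻¹ * (t * y * t⁻¹)⁻¹ =
      (t * (x * y * x⁻¹ * y⁻¹) * t⁻¹ * (x * y * x⁻¹ * y⁻¹)⁻¹) * (x * y * x⁻¹ * y⁻¹) := by group
  rw [e1]
  exact ruIota_congr (Subgroup.mul_mem_cancel_left _ (ru_ucs_conj_mem (h.comm_mem hx hy) t))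

theorem RuHyp.beta_Z3 (h : RuHyp W F) {z y : T} (hz : z ∈ 𝒵 3) (hy : y ∈ W) :
    ruBeta z y = 0 := by
  unfold ruBeta
  rw [ruIota_eq_zero]
  have : z * y * z⁻¹ * y⁻¹ = 1 := by
    rw [← h.Z3_central hz hy]; group
  rw [this]; exact Subgroup.one_mem _

theorem RuHyp.beta_Z3_right (h : RuHyp W F) {z y : T} (hz : z ∈ 𝒵 3) (hy : y ∈ W) :
    ruBeta y z = 0 := by
  rw [ruBeta_symm, h.beta_Z3 hz hy]

theorem ruBeta_self (x : T) : ruBeta x x = 0 := by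
  unfold ruBeta
  rw [ruIota_eq_zero]
  have : x * x * x⁻¹ * x⁻¹ = 1 := by group
  rw [this]; exact Subgroup.one_mem _

theorem RuHyp.beta_inv_left (h : RuHyp W F) {x y : T} (hx : x ∈ W) (hy : y ∈ W) :
    ruBeta x⁻¹ y = ruBeta x y := by
  have h1 := h.beta_mul_left hx (W.inv_mem hx) hy
  rw [mul_inv_cancel, h.beta_Z3 (Subgroup.one_mem _) hy] at h1
  have h2 := ru_zmod2_add_self (ruBeta x y)
  have : ruBeta x⁻¹ y = ruBeta x y + (ruBeta x y + ruBeta x⁻¹ y) := by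
    rw [← add_assoc, h2, zero_add]
  rw [this, ← h1, add_zero]

theorem RuHyp.beta_congr_Z3 (h : RuHyp W F) {x x' y : T} (hx : x ∈ W) (hy : y ∈ W)
    (hxx' : x⁻¹ * x' ∈ 𝒵 3) : ruBeta x' y = ruBeta x y := by
  have : x' = x * (x⁻¹ * x') := by group
  rw [this, h.beta_mul_left hx (h.Z3_le_W hxx') hy, h.beta_Z3 hxx' hy, add_zero]

theorem RuHyp.sigma_a_zero (h : RuHyp W F) {z2 z3 : T} (e : RuElts z2 z3) {g : T}
    (hga : (h.sigma e g).a = 0) : g * z2 = z2 * g := by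
  have : ruIota ⊥ (g*z2*g⁻¹*z2⁻¹) = 0 := hga
  rw [ruIota_eq_zero, Subgroup.mem_bot] at this
  have e1 : g * z2 = (g*z2*g⁻¹*z2⁻¹) * z2 * g := by group
  rw [e1, this, one_mul]

/-- for `g` centralizing the second centre but not the third, `x` and its `g`-conjugate commute
modulo the second centre -/
theorem RuHyp.factA (h : RuHyp W F) {z2 z3 : T} (e : RuElts z2 z3) {g x : T}
    (hga : (h.sigma e g).a = 0) (hgW : g ∉ W) (hx : x ∈ W) :
    (g*x*g⁻¹) * x * (g*x*g⁻¹)⁻¹ * x⁻¹ ∈ 𝒵 2 := by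
  by_contra hd2
  have hx' : g*x*g⁻¹ ∈ W := h.conj_mem_W hx g
  have hd3 : (g*x*g⁻¹) * x * (g*x*g⁻¹)⁻¹ * x⁻¹ ∈ 𝒵 3 := h.comm_mem hx' hx
  have hgz2 := h.sigma_a_zero e hga
  have hgg : g * g ∈ W := by
    rw [← h.sigma_eq_one_iff e, map_mul]
    have : ∀ v : RuHeis, v.a = 0 → v * v = 1 := by decide
    exact this _ hga
  have hzz : (g*g)*x*(g*g)⁻¹*x⁻¹ ∈ 𝒵 3 := h.comm_mem hgg hx
  have hdd := h.Z3_elem hd3
  have hdinv : ((g*x*g⁻¹) * x * (g*x*g⁻¹)⁻¹ * x⁻¹)⁻¹ = (g*x*g⁻¹) * x * (g*x*g⁻¹)⁻¹ * x⁻¹ :=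
    inv_eq_of_mul_eq_one_left hdd
  have hcomm : ((g*g)*x*(g*g)⁻¹*x⁻¹) * (x * (g*x*g⁻¹) * x⁻¹) =
      (x * (g*x*g⁻¹) * x⁻¹) * ((g*g)*x*(g*g)⁻¹*x⁻¹) :=
    (h.Z3_central hzz (W.mul_mem (W.mul_mem hx hx') (W.inv_mem hx))).symm
  have key : g * ((g*x*g⁻¹) * x * (g*x*g⁻¹)⁻¹ * x⁻¹) * g⁻¹ =
      ((g*x*g⁻¹) * x * (g*x*g⁻¹)⁻¹ * x⁻¹)⁻¹ := by
    calc g * ((g*x*g⁻¹) * x * (g*x*g⁻¹)⁻¹ * x⁻¹) * g⁻¹
        = (((g*g)*x*(g*g)⁻¹*x⁻¹) * (x * (g*x*g⁻¹) * x⁻¹)) * ((g*g)*x*(g*g)⁻¹*x⁻¹)⁻¹ *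
            (g*x*g⁻¹)⁻¹ := by group
      _ = ((x * (g*x*g⁻¹) * x⁻¹) * ((g*g)*x*(g*g)⁻¹*x⁻¹)) * ((g*g)*x*(g*g)⁻¹*x⁻¹)⁻¹ *
            (g*x*g⁻¹)⁻¹ := by rw [hcomm]
      _ = ((g*x*g⁻¹) * x * (g*x*g⁻¹)⁻¹ * x⁻¹)⁻¹ := by group
  rw [hdinv] at key
  have hgd : g * ((g*x*g⁻¹) * x * (g*x*g⁻¹)⁻¹ * x⁻¹) =
      ((g*x*g⁻¹) * x * (g*x*g⁻¹)⁻¹ * x⁻¹) * g := by
    calc g * ((g*x*g⁻¹) * x * (g*x*g⁻¹)⁻¹ * x⁻¹)
        = (g * ((g*x*g⁻¹) * x * (g*x*g⁻¹)⁻¹ * x⁻¹) * g⁻¹) * g := by group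
      _ = ((g*x*g⁻¹) * x * (g*x*g⁻¹)⁻¹ * x⁻¹) * g := by rw [key]
  have e' : RuElts z2 ((g*x*g⁻¹) * x * (g*x*g⁻¹)⁻¹ * x⁻¹) := ⟨e.h2, e.h2', hd3, hd2⟩
  exact hgW ((h.mem_W_iff e' g).mpr ⟨hgz2, hgd⟩)

theorem RuCtx.exists_w0 (m : RuCtx W M u) (h : RuHyp W F) {z2 z3 : T} (e : RuElts z2 z3) :
    ∃ w0 ∈ W, ∀ t, ruKappa M w0 t = if h.sigma e t = 1 then 1 else 0 := by
  classical
  have hr : ∀ v, h.sigma e (Function.surjInv (h.sigma_surj e) v) = v :=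
    Function.surjInv_eq (h.sigma_surj e)
  have hkr : ∀ x ∈ W, ∀ t, ruKappa M x t =
      ruKappa M x (Function.surjInv (h.sigma_surj e) (h.sigma e t)) := by
    intro x hx t
    have hw : t * (Function.surjInv (h.sigma_surj e) (h.sigma e t))⁻¹ ∈ W := by
      rw [← h.sigma_eq_one_iff e, map_mul, map_inv, hr, mul_inv_cancel]
    have := m.kappa_left h hx hw (Function.surjInv (h.sigma_surj e) (h.sigma e t))
    rw [← this]
    congr 1
    group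
  have hsurj : Function.Surjective
      (fun (x : ↥W) (v : RuHeis) => ruKappa M (x : T) (Function.surjInv (h.sigma_surj e) v)) := by
    apply ru_surj_of_fiber ((𝒵 3).subgroupOf W)
    · intro x y hxy
      rw [Subgroup.mem_subgroupOf]
      have : ((x⁻¹ * y : ↥W) : T) = (x : T)⁻¹ * (y : T) := by simp
      rw [this]
      apply m.kappa_ext h x.2 y.2
      intro t
      rw [hkr _ x.2 t, hkr _ y.2 t]
      exact congrFun hxy (h.sigma e t)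
    · obtain ⟨c1, c2, c3⟩ := h.cards
      obtain ⟨-, -, hw, -⟩ := h.orders
      rw [Nat.card_fun, ruHeis_card, Nat.card_congr (Subgroup.subgroupOfEquivOfLe h.Z3_le_W).toEquiv,
        c3, hw]
      simp
  obtain ⟨x, hx⟩ := hsurj (fun v => if v = 1 then 1 else 0)
  refine ⟨x.1, x.2, ?_⟩
  intro t
  rw [hkr _ x.2 t]
  exact congrFun hx (h.sigma e t)

end

end Cfsg.Agent.Lib.Helper9
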