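import Mathlib
import Cfsg.Agent.Lib.Helper9.Ru6

set_option autoImplicit false

namespace Cfsg.Agent.Lib.Helper9

section defs

variable {T : Type*} [Group T]

/-- the function measuring the commutator form on conjugates of `w0` -/
noncomputable def ruF (w0 t : T) : ZMod 2 := ruBeta (t * w0 * t⁻¹) w0

end defs

/-- the element `w0` of `W` whose coordinates form the indicator of `W` -/
structure RuW0 {T : Type*} [Group T] [Finite T] {W F : Subgroup T} (h : RuHyp W F) {z2 z3 : T}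
    (e : RuElts z2 z3) (M : Subgroup T) (w0 : T) : Prop where
  hW : w0 ∈ W
  hk : ∀ t, ruKappa M w0 t = if h.sigma e t = 1 then 1 else 0

/-- elements of `T` mapping to the standard generators of the Heisenberg group -/
structure RuABC {T : Type*} [Group T] [Finite T] {W F : Subgroup T} (h : RuHyp W F) {z2 z3 : T}
    (e : RuElts z2 z3) (a b c : T) : Prop where
  ha : h.sigma e a = ⟨1, 0, 0⟩
  hb : h.sigma e b = ⟨0, 1, 0⟩
  hc : h.sigma e c = ⟨0, 0, 1⟩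

section

variable {T : Type*} [Group T] [Finite T] {W F M : Subgroup T} {u z2 z3 w0 a b c : T}

local notation "𝒵" => Subgroup.upperCentralSeries T

theorem RuHyp.F_congr (h : RuHyp W F) (e : RuElts z2 z3) (hw0 : w0 ∈ W) {s t : T}
    (hst : h.sigma e s = h.sigma e t) : ruF w0 s = ruF w0 t := by
  have hw : s⁻¹ * t ∈ W := (h.sigma_eq_iff e s t).mp hst
  unfold ruF
  symm
  apply h.beta_congr_Z3 (h.conj_mem_W hw0 s) hw0
  have h1 := h.comm_mem (W.inv_mem hw0) hw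
  rw [inv_inv] at h1
  have h2 := h.conj_mem_Z3 h1 s
  have : (s * w0 * s⁻¹)⁻¹ * (t * w0 * t⁻¹) =
      s * (w0⁻¹ * (s⁻¹ * t) * w0 * (s⁻¹ * t)⁻¹) * s⁻¹ := by group
  rw [this]; exact h2

theorem RuHyp.F_zero (h : RuHyp W F) (e : RuElts z2 z3) (hw0 : w0 ∈ W) {g : T}
    (hga : (h.sigma e g).a = 0) : ruF w0 g = 0 := by
  by_cases hgW : g ∈ W
  · have h1 : h.sigma e g = h.sigma e 1 := by
      rw [map_one]; exact (h.sigma_eq_one_iff e g).mpr hgW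
    rw [h.F_congr e hw0 h1]
    unfold ruF
    simp only [one_mul, inv_one, mul_one]
    exact ruBeta_self w0
  · unfold ruF ruBeta
    rw [ruIota_eq_zero]
    exact h.factA e hga hgW hw0

theorem RuHyp.F_inv (h : RuHyp W F) (hw0 : w0 ∈ W) (g : T) : ruF w0 g⁻¹ = ruF w0 g := by
  unfold ruF
  rw [← h.beta_conj (h.conj_mem_W hw0 g⁻¹) hw0 g, ruBeta_symm]
  congr 1
  group

theorem RuHyp.exists_abc (h : RuHyp W F) (e : RuElts z2 z3) : ∃ a b c : T, RuABC h e a b c := by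
  obtain ⟨a, ha⟩ := h.sigma_surj e ⟨1, 0, 0⟩
  obtain ⟨b, hb⟩ := h.sigma_surj e ⟨0, 1, 0⟩
  obtain ⟨c, hc⟩ := h.sigma_surj e ⟨0, 0, 1⟩
  exact ⟨a, b, c, ha, hb, hc⟩

theorem RuCtx.kappa_D (m : RuCtx W M u) (h : RuHyp W F) {x : T} (hx : x ∈ W) (s t : T) :
    ruKappa M (x * (s * x * s⁻¹)) t = ruKappa M x t + ruKappa M x (t * s) := by
  rw [m.kappa_mul h hx (h.conj_mem_W hx s), ruKappa_conj]

theorem RuHyp.beta_D (h : RuHyp W F) {x y : T} (hx : x ∈ W) (hy : y ∈ W) (s : T) :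
    ruBeta (x * (s * x * s⁻¹)) y = ruBeta x y + ruBeta (s * x * s⁻¹) y :=
  h.beta_mul_left hx (h.conj_mem_W hx s) hy

theorem RuCtx.F_sum (m : RuCtx W M u) (h : RuHyp W F) (e : RuElts z2 z3) (k : RuW0 h e M w0)
    (abc : RuABC h e a b c) :
    ruF w0 a + ruF w0 (a*c) + ruF w0 (a*b) + ruF w0 (a*b*c) = 0 := by
  have hw0 := k.hW
  have cj : ∀ t, t * w0 * t⁻¹ ∈ W := fun t => h.conj_mem_W hw0 t
  have hy1W : w0 * (c * w0 * c⁻¹) ∈ W := W.mul_mem hw0 (cj c)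
  have hy2W : (w0 * (c * w0 * c⁻¹)) * (b * (w0 * (c * w0 * c⁻¹)) * b⁻¹) ∈ W :=
    W.mul_mem hy1W (h.conj_mem_W hy1W b)
  have hy3W : ((w0 * (c * w0 * c⁻¹)) * (b * (w0 * (c * w0 * c⁻¹)) * b⁻¹)) *
      (a * ((w0 * (c * w0 * c⁻¹)) * (b * (w0 * (c * w0 * c⁻¹)) * b⁻¹)) * a⁻¹) ∈ W :=
    W.mul_mem hy2W (h.conj_mem_W hy2W a)
  have hk3 : ∀ t, ruKappa M (((w0 * (c * w0 * c⁻¹)) * (b * (w0 * (c * w0 * c⁻¹)) * b⁻¹)) *
      (a * ((w0 * (c * w0 * c⁻¹)) * (b * (w0 * (c * w0 * c⁻¹)) * b⁻¹)) * a⁻¹)) t = 1 := by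
    intro t
    rw [m.kappa_D h hy2W, m.kappa_D h hy1W, m.kappa_D h hy1W, m.kappa_D h hw0, m.kappa_D h hw0,
      m.kappa_D h hw0, m.kappa_D h hw0]
    simp only [k.hk, map_mul, abc.ha, abc.hb, abc.hc]
    generalize h.sigma e t = v
    revert v
    decide
  have h3 := m.kappa_ext h m.huW hy3W (fun t => by rw [m.kappa_u h, hk3])
  have hb3 := h.beta_congr_Z3 m.huW hw0 h3
  have hbu : ruBeta u w0 = 0 := by
    unfold ruBeta
    rw [ruIota_eq_zero]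
    have : u * w0 * u⁻¹ * w0⁻¹ = 1 := by rw [m.huc w0 hw0]; group
    rw [this]; exact Subgroup.one_mem _
  rw [hbu, h.beta_D hy2W hw0] at hb3
  have hb2 : ruBeta ((w0 * (c * w0 * c⁻¹)) * (b * (w0 * (c * w0 * c⁻¹)) * b⁻¹)) w0 = 0 := by
    rw [h.beta_D hy1W hw0, h.beta_D hw0 hw0]
    have e1 : b * (w0 * (c * w0 * c⁻¹)) * b⁻¹ = (b * w0 * b⁻¹) * ((b*c) * w0 * (b*c)⁻¹) := by
      group
    rw [e1, h.beta_mul_left (cj b) (cj (b*c)) hw0]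
    have f1 : ruF w0 c = 0 := h.F_zero e hw0 (by rw [abc.hc])
    have f2 : ruF w0 b = 0 := h.F_zero e hw0 (by rw [abc.hb])
    have f3 : ruF w0 (b*c) = 0 := h.F_zero e hw0 (by rw [map_mul, abc.hb, abc.hc]; rfl)
    unfold ruF at f1 f2 f3
    rw [ruBeta_self, f1, f2, f3]
    rfl
  rw [hb2, zero_add] at hb3
  have e2 : a * ((w0 * (c * w0 * c⁻¹)) * (b * (w0 * (c * w0 * c⁻¹)) * b⁻¹)) * a⁻¹ =
      ((a*w0*a⁻¹) * ((a*c)*w0*(a*c)⁻¹)) * (((a*b)*w0*(a*b)⁻¹) * ((a*b*c)*w0*(a*b*c)⁻¹)) := by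
    group
  rw [e2, h.beta_mul_left (W.mul_mem (cj a) (cj (a*c))) (W.mul_mem (cj (a*b)) (cj (a*b*c))) hw0,
    h.beta_mul_left (cj a) (cj (a*c)) hw0, h.beta_mul_left (cj (a*b)) (cj (a*b*c)) hw0] at hb3
  unfold ruF
  rw [add_assoc]
  exact hb3

theorem RuCtx.F_mul_c (m : RuCtx W M u) (h : RuHyp W F) (e : RuElts z2 z3) (k : RuW0 h e M w0)
    (abc : RuABC h e a b c) (g : T) : ruF w0 (g * c) = ruF w0 g := by
  have hw0 := k.hW
  have hsum := m.F_sum h e k abc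
  have h5 : ruF w0 (a*b*c) = ruF w0 (a*b) := by
    rw [← h.F_inv hw0 (a*b)]
    apply h.F_congr e hw0
    rw [map_mul, map_mul, map_inv, map_mul, abc.ha, abc.hb, abc.hc]
    decide
  have h6 : ruF w0 (a*c) = ruF w0 a := by
    rw [h5, add_assoc, ru_zmod2_add_self, add_zero] at hsum
    have h8 := ru_zmod2_add_self (ruF w0 a)
    calc ruF w0 (a*c) = (ruF w0 a + ruF w0 a) + ruF w0 (a*c) := by rw [h8, zero_add]
      _ = ruF w0 a + (ruF w0 a + ruF w0 (a*c)) := by ring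
      _ = ruF w0 a := by rw [hsum, add_zero]
  have hr : ∀ v, h.sigma e (Function.surjInv (h.sigma_surj e) v) = v :=
    Function.surjInv_eq (h.sigma_surj e)
  have hF : ∀ t, ruF w0 t = ruF w0 (Function.surjInv (h.sigma_surj e) (h.sigma e t)) :=
    fun t => h.F_congr e hw0 (hr _).symm
  have P1 : ∀ v : RuHeis, v.a = 0 → ruF w0 (Function.surjInv (h.sigma_surj e) v) = 0 :=
    fun v hv => h.F_zero e hw0 (by rw [hr]; exact hv)
  have P2 : ruF w0 (Function.surjInv (h.sigma_surj e) ⟨1, 0, 1⟩) =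
      ruF w0 (Function.surjInv (h.sigma_surj e) ⟨1, 0, 0⟩) := by
    have e1 : h.sigma e (a*c) = ⟨1, 0, 1⟩ := by rw [map_mul, abc.ha, abc.hc]; decide
    have t1 := hF (a*c)
    have t2 := hF a
    rw [e1] at t1
    rw [abc.ha] at t2
    rw [← t1, ← t2]; exact h6
  have P3 : ruF w0 (Function.surjInv (h.sigma_surj e) ⟨1, 1, 0⟩) =
      ruF w0 (Function.surjInv (h.sigma_surj e) ⟨1, 1, 1⟩) := by
    have e1 : h.sigma e (a*b*c) = ⟨1, 1, 0⟩ := by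
      rw [map_mul, map_mul, abc.ha, abc.hb, abc.hc]; decide
    have e2 : h.sigma e (a*b) = ⟨1, 1, 1⟩ := by rw [map_mul, abc.ha, abc.hb]; decide
    have t1 := hF (a*b*c)
    have t2 := hF (a*b)
    rw [e1] at t1
    rw [e2] at t2
    rw [← t1, ← t2]; exact h5
  have key : ∀ v : RuHeis, (v.a = 0 ∧ (v * ⟨0, 0, 1⟩).a = 0) ∨
      (v = ⟨1, 0, 0⟩ ∧ v * ⟨0, 0, 1⟩ = ⟨1, 0, 1⟩) ∨
      (v = ⟨1, 0, 1⟩ ∧ v * ⟨0, 0, 1⟩ = ⟨1, 0, 0⟩) ∨
      (v = ⟨1, 1, 1⟩ ∧ v * ⟨0, 0, 1⟩ = ⟨1, 1, 0⟩) ∨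
      (v = ⟨1, 1, 0⟩ ∧ v * ⟨0, 0, 1⟩ = ⟨1, 1, 1⟩) := by decide
  rw [hF (g*c), hF g, map_mul, abc.hc]
  rcases key (h.sigma e g) with ⟨h1, h2⟩ | ⟨h1, h2⟩ | ⟨h1, h2⟩ | ⟨h1, h2⟩ | ⟨h1, h2⟩
  · rw [P1 _ h1, P1 _ h2]
  · rw [h2, h1]; exact P2
  · rw [h2, h1]; exact P2.symm
  · rw [h2, h1]; exact P3
  · rw [h2, h1]; exact P3.symm

theorem RuCtx.beta_I (m : RuCtx W M u) (h : RuHyp W F) (e : RuElts z2 z3) (k : RuW0 h e M w0)
    (abc : RuABC h e a b c) (g k' : T) :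
    ruBeta ((g*w0*g⁻¹) * ((c*g)*w0*(c*g)⁻¹)) (k'*w0*k'⁻¹) = 0 := by
  have hw0 := k.hW
  have cj : ∀ t, t * w0 * t⁻¹ ∈ W := fun t => h.conj_mem_W hw0 t
  rw [h.beta_mul_left (cj g) (cj (c*g)) (cj k')]
  have E1 : ∀ g', ruBeta (g'*w0*g'⁻¹) (k'*w0*k'⁻¹) = ruF w0 (k'⁻¹ * g') := by
    intro g'
    rw [← h.beta_conj (cj g') (cj k') k'⁻¹]
    unfold ruF
    congr 1 <;> group
  rw [E1, E1]
  have e1 : ruF w0 (k'⁻¹ * (c*g)) = ruF w0 (k'⁻¹ * g * c) := by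
    apply h.F_congr e hw0
    rw [map_mul, map_mul, map_mul, map_mul, abc.hc]
    have : ∀ v w : RuHeis, v * (⟨0, 0, 1⟩ * w) = v * w * ⟨0, 0, 1⟩ := by decide
    exact this _ _
  rw [e1, m.F_mul_c h e k abc]
  exact ru_zmod2_add_self _

end

end Cfsg.Agent.Lib.Helper9
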