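import Mathlib
import Cfsg.Agent.Lib.Helper9.Ru7

set_option autoImplicit false

namespace Cfsg.Agent.Lib.Helper9

section

variable {T : Type*} [Group T] [Finite T] {W F M : Subgroup T} {u z2 z3 w0 a b c : T}

local notation "𝒵" => Subgroup.upperCentralSeries T

theorem ru_card_double {H H' : Subgroup T} (hle : H ≤ H') {x : T} (hx : x ∈ H') (hx' : x ∉ H) :
    2 * Nat.card H ≤ Nat.card H' := by
  have hlt : H < H' := lt_of_le_of_ne hle (fun he => hx' (he ▸ hx))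
  have h1 := ru_card_lt_of_lt hlt
  obtain ⟨k, hk⟩ := Subgroup.card_dvd_of_le hle
  have hpos : 0 < Nat.card H := Nat.card_pos
  rw [hk] at h1 ⊢
  have : 2 ≤ k := by
    by_contra hcon
    push Not at hcon
    interval_cases k <;> omega
  nlinarith

theorem RuHyp.ruBeta_eq_zero_iff (_h : RuHyp W F) (x y : T) :
    ruBeta x y = 0 ↔ x * y * x⁻¹ * y⁻¹ ∈ 𝒵 2 := by
  unfold ruBeta
  exact ruIota_eq_zero

/-- squares of the elements `x * x^s` lie in the second centre -/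
theorem RuHyp.sq_D (h : RuHyp W F) (e : RuElts z2 z3) {s x : T}
    (hsa : (h.sigma e s).a = 0) (hsW : s ∉ W) (hx : x ∈ W) :
    (x * (s*x*s⁻¹)) * (x * (s*x*s⁻¹)) ∈ 𝒵 2 := by
  have hx' : s*x*s⁻¹ ∈ W := h.conj_mem_W hx s
  have hc3 : x * (s*x*s⁻¹) * x⁻¹ * (s*x*s⁻¹)⁻¹ ∈ 𝒵 3 := h.comm_mem hx hx'
  rw [ru_sq_mul x (s*x*s⁻¹) (h.Z3_central hc3 hx).symm]
  have hA := h.factA e hsa hsW hx
  have e0 : (x * (s*x*s⁻¹) * x⁻¹ * (s*x*s⁻¹)⁻¹)⁻¹ = (s*x*s⁻¹) * x * (s*x*s⁻¹)⁻¹ * x⁻¹ := by group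
  rw [e0, mul_assoc]
  refine (𝒵 2).mul_mem hA ?_
  have hq : x * x ∈ 𝒵 3 := h.sq_mem hx
  have hv : s*(x*x)*s⁻¹*(x*x)⁻¹ ∈ 𝒵 2 := ru_ucs_conj_mem hq s
  have hcomm : (x*x) * (s*(x*x)*s⁻¹*(x*x)⁻¹) = (s*(x*x)*s⁻¹*(x*x)⁻¹) * (x*x) :=
    h.Z3_central (h.Z23 hv) (h.Z3_le_W hq)
  have e1 : (x*x) * ((s*x*s⁻¹)*(s*x*s⁻¹)) = ((x*x) * (s*(x*x)*s⁻¹*(x*x)⁻¹)) * (x*x) := by group
  rw [e1, hcomm, mul_assoc, h.Z3_elem hq, mul_one]
  exact hv

/-- the final contradiction: `u` cannot exist -/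
theorem RuCtx.contra (m : RuCtx W M u) (h : RuHyp W F) (e : RuElts z2 z3) (k : RuW0 h e M w0)
    (abc : RuABC h e a b c) : False := by
  have hw0 := k.hW
  have cj : ∀ t, t * w0 * t⁻¹ ∈ W := fun t => h.conj_mem_W hw0 t
  have hcW : c ∉ W := by
    rw [← h.sigma_eq_one_iff e, abc.hc]; decide
  have hbW : b ∉ W := by
    rw [← h.sigma_eq_one_iff e, abc.hb]; decide
  have hca : (h.sigma e c).a = 0 := by rw [abc.hc]
  have hba : (h.sigma e b).a = 0 := by rw [abc.hb]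
  -- generators
  let I : T → T := fun g => (g*w0*g⁻¹) * ((c*g)*w0*(c*g)⁻¹)
  have hI : ∀ g, I g = (g*w0*g⁻¹) * ((c*g)*w0*(c*g)⁻¹) := fun g => rfl
  have hIW : ∀ g, I g ∈ W := fun g => W.mul_mem (cj g) (cj (c*g))
  have hyW : w0 * (b*w0*b⁻¹) ∈ W := W.mul_mem hw0 (cj b)
  have hy_eq : w0 * (b*w0*b⁻¹) = (1*w0*1⁻¹) * (b*w0*b⁻¹) := by group
  let S : Set T := {x | ∃ g, x = I g} ∪ {w0 * (b*w0*b⁻¹)} ∪ (𝒵 3 : Set T)
  have hSW : ∀ s ∈ S, s ∈ W := by
    rintro s ((⟨g, rfl⟩ | hs) | hs)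
    · exact hIW g
    · rw [Set.mem_singleton_iff] at hs; rw [hs]; exact hyW
    · exact h.Z3_le_W hs
  have hUW : Subgroup.closure S ≤ W := (Subgroup.closure_le W).mpr hSW
  have hZ3U : 𝒵 3 ≤ Subgroup.closure S := fun z hz => Subgroup.subset_closure (Or.inr hz)
  -- orthogonality of the generators
  have bIy : ∀ g, ruBeta (I g) (w0 * (b*w0*b⁻¹)) = 0 := by
    intro g
    rw [hy_eq, h.beta_mul_right (hIW g) (cj 1) (cj b), hI, m.beta_I h e k abc,
      m.beta_I h e k abc, add_zero]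
  have bII : ∀ g g', ruBeta (I g) (I g') = 0 := by
    intro g g'
    rw [hI g', h.beta_mul_right (hIW g) (cj g') (cj (c*g')), hI, m.beta_I h e k abc,
      m.beta_I h e k abc, add_zero]
  have hSS : ∀ s ∈ S, ∀ s' ∈ S, ruBeta s s' = 0 := by
    rintro s ((⟨g, rfl⟩ | hs) | hs) s' ((⟨g', rfl⟩ | hs') | hs')
    · exact bII g g'
    · rw [Set.mem_singleton_iff] at hs'; rw [hs']; exact bIy g
    · exact h.beta_Z3_right hs' (hIW g)
    · rw [Set.mem_singleton_iff] at hs; rw [hs, ruBeta_symm]; exact bIy g'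
    · rw [Set.mem_singleton_iff] at hs hs'; rw [hs, hs']; exact ruBeta_self _
    · rw [Set.mem_singleton_iff] at hs; rw [hs]; exact h.beta_Z3_right hs' hyW
    · exact h.beta_Z3 hs (hIW g')
    · rw [Set.mem_singleton_iff] at hs'; rw [hs']; exact h.beta_Z3 hs hyW
    · exact h.beta_Z3 hs (h.Z3_le_W hs')
  have hUU : ∀ x ∈ Subgroup.closure S, ∀ y ∈ Subgroup.closure S, ruBeta x y = 0 := by
    intro x hx y hy
    induction hx, hy using Subgroup.closure_induction₂ with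
    | mem x y hx hy => exact hSS x hx y hy
    | one_left x hx => exact h.beta_Z3 (Subgroup.one_mem _) (hUW hx)
    | one_right x hx => exact h.beta_Z3_right (Subgroup.one_mem _) (hUW hx)
    | mul_left x y z hx hy hz h1 h2 =>
      rw [h.beta_mul_left (hUW hx) (hUW hy) (hUW hz), h1, h2, add_zero]
    | mul_right y z x hy hz hx h1 h2 =>
      rw [h.beta_mul_right (hUW hx) (hUW hy) (hUW hz), h1, h2, add_zero]
    | inv_left x y hx hy h1 => rw [h.beta_inv_left (hUW hx) (hUW hy), h1]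
    | inv_right x y hx hy h1 =>
      rw [ruBeta_symm, h.beta_inv_left (hUW hy) (hUW hx), ruBeta_symm, h1]
  have hUcomm : ∀ x ∈ Subgroup.closure S, ∀ y ∈ Subgroup.closure S,
      x * y * x⁻¹ * y⁻¹ ∈ 𝒵 2 :=
    fun x hx y hy => (h.ruBeta_eq_zero_iff x y).mp (hUU x hx y hy)
  -- squares
  have hIsq : ∀ g, I g * I g ∈ 𝒵 2 := by
    intro g
    have e1 : I g = (g*w0*g⁻¹) * (c*(g*w0*g⁻¹)*c⁻¹) := by rw [hI]; group
    rw [e1]
    exact h.sq_D e hca hcW (cj g)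
  have hysq : (w0 * (b*w0*b⁻¹)) * (w0 * (b*w0*b⁻¹)) ∈ 𝒵 2 := h.sq_D e hba hbW hw0
  have hUsq : ∀ x ∈ Subgroup.closure S, x * x ∈ 𝒵 2 := by
    intro x hx
    induction hx using Subgroup.closure_induction with
    | mem s hs =>
      rcases hs with (⟨g, rfl⟩ | hs) | hs
      · exact hIsq g
      · rw [Set.mem_singleton_iff] at hs; rw [hs]; exact hysq
      · rw [h.Z3_elem hs]; exact Subgroup.one_mem _
    | one => rw [one_mul]; exact Subgroup.one_mem _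
    | mul x y hx hy h1 h2 =>
      have hc3 := h.comm_mem (hUW hx) (hUW hy)
      rw [ru_sq_mul x y (h.Z3_central hc3 (hUW hx)).symm]
      exact (𝒵 2).mul_mem ((𝒵 2).mul_mem ((𝒵 2).inv_mem (hUcomm x hx y hy)) h1) h2
    | inv x hx h1 =>
      have : x⁻¹ * x⁻¹ = (x * x)⁻¹ := by group
      rw [this]; exact (𝒵 2).inv_mem h1
  -- coordinates of the generators
  have ky : ∀ t, ruKappa M (w0 * (b*w0*b⁻¹)) t =
      (if h.sigma e t = 1 then 1 else 0) + (if h.sigma e t * ⟨0, 1, 0⟩ = 1 then 1 else 0) := by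
    intro t
    rw [m.kappa_D h hw0, k.hk, k.hk, map_mul, abc.hb]
  have kI : ∀ g t, ruKappa M (I g) t =
      (if h.sigma e t * h.sigma e g = 1 then 1 else 0) +
        (if h.sigma e t * (⟨0, 0, 1⟩ * h.sigma e g) = 1 then 1 else 0) := by
    intro g t
    rw [hI, m.kappa_mul h (cj g) (cj (c*g)), ruKappa_conj, ruKappa_conj, k.hk, k.hk, map_mul,
      map_mul, map_mul, abc.hc]
  -- the subgroups cut out by single coordinates
  let K : T → Subgroup T := fun t => W ⊓ M.comap (MulAut.conj t).toMonoidHom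
  have hK : ∀ t x, x ∈ W → (x ∈ K t ↔ ruKappa M x t = 0) := by
    intro t x hx
    unfold ruKappa
    rw [ruIota_eq_zero]
    simp [K, Subgroup.mem_inf, Subgroup.mem_comap, hx]
  have hKZ : ∀ t, 𝒵 3 ≤ K t := by
    intro t z hz
    rw [hK t z (h.Z3_le_W hz)]
    exact m.kappa_Z3 h hz t
  obtain ⟨c1, c2, c3⟩ := h.cards
  obtain ⟨-, -, hcw, -⟩ := h.orders
  have hyU : w0 * (b*w0*b⁻¹) ∈ Subgroup.closure S :=
    Subgroup.subset_closure (Or.inl (Or.inr rfl))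
  have hIU : ∀ g, I g ∈ Subgroup.closure S :=
    fun g => Subgroup.subset_closure (Or.inl (Or.inl ⟨g, rfl⟩))
  -- the chain
  have s1 : 2 * Nat.card (𝒵 3) ≤ Nat.card
      ↥(Subgroup.closure S ⊓ K c ⊓ K (b*c) ⊓ K a ⊓ K (a*b)⁻¹) := by
    apply ru_card_double (x := w0 * (b*w0*b⁻¹))
    · exact le_inf (le_inf (le_inf (le_inf hZ3U (hKZ _)) (hKZ _)) (hKZ _)) (hKZ _)
    · simp only [Subgroup.mem_inf]
      refine ⟨⟨⟨⟨hyU, ?_⟩, ?_⟩, ?_⟩, ?_⟩
      · rw [hK _ _ hyW, ky, abc.hc]; decide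
      · rw [hK _ _ hyW, ky, map_mul, abc.hb, abc.hc]; decide
      · rw [hK _ _ hyW, ky, abc.ha]; decide
      · rw [hK _ _ hyW, ky, map_inv, map_mul, abc.ha, abc.hb]; decide
    · intro hz
      have := m.kappa_Z3 h hz 1
      rw [ky, map_one] at this
      revert this; decide
  have s2 : 2 * Nat.card ↥(Subgroup.closure S ⊓ K c ⊓ K (b*c) ⊓ K a ⊓ K (a*b)⁻¹) ≤
      Nat.card ↥(Subgroup.closure S ⊓ K (b*c) ⊓ K a ⊓ K (a*b)⁻¹) := by
    apply ru_card_double (x := I 1)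
    · exact inf_le_inf_right _ (inf_le_inf_right _ (inf_le_inf_right _ inf_le_left))
    · simp only [Subgroup.mem_inf]
      refine ⟨⟨⟨hIU 1, ?_⟩, ?_⟩, ?_⟩
      · rw [hK _ _ (hIW 1), kI, map_one, map_mul, abc.hb, abc.hc]; decide
      · rw [hK _ _ (hIW 1), kI, map_one, abc.ha]; decide
      · rw [hK _ _ (hIW 1), kI, map_one, map_inv, map_mul, abc.ha, abc.hb]
        decide
    · intro hz
      simp only [Subgroup.mem_inf] at hz
      have h1 : I 1 ∈ K c := hz.1.1.1.2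
      rw [hK _ _ (hIW 1), kI, map_one, abc.hc] at h1
      revert h1; decide
  have s3 : 2 * Nat.card ↥(Subgroup.closure S ⊓ K (b*c) ⊓ K a ⊓ K (a*b)⁻¹) ≤
      Nat.card ↥(Subgroup.closure S ⊓ K a ⊓ K (a*b)⁻¹) := by
    apply ru_card_double (x := I b)
    · exact inf_le_inf_right _ (inf_le_inf_right _ inf_le_left)
    · simp only [Subgroup.mem_inf]
      refine ⟨⟨hIU b, ?_⟩, ?_⟩
      · rw [hK _ _ (hIW b), kI, abc.hb, abc.ha]; decide
      · rw [hK _ _ (hIW b), kI, map_inv, map_mul, abc.ha, abc.hb]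
        decide
    · intro hz
      simp only [Subgroup.mem_inf] at hz
      have h1 : I b ∈ K (b*c) := hz.1.1.2
      rw [hK _ _ (hIW b), kI, map_mul, abc.hb, abc.hc] at h1
      revert h1; decide
  have s4 : 2 * Nat.card ↥(Subgroup.closure S ⊓ K a ⊓ K (a*b)⁻¹) ≤
      Nat.card ↥(Subgroup.closure S ⊓ K (a*b)⁻¹) := by
    apply ru_card_double (x := I a)
    · exact inf_le_inf_right _ inf_le_left
    · simp only [Subgroup.mem_inf]
      refine ⟨hIU a, ?_⟩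
      rw [hK _ _ (hIW a), kI, map_inv, map_mul, abc.ha, abc.hb]
      decide
    · intro hz
      simp only [Subgroup.mem_inf] at hz
      have h1 : I a ∈ K a := hz.1.2
      rw [hK _ _ (hIW a), kI, abc.ha] at h1
      revert h1; decide
  have s5 : 2 * Nat.card ↥(Subgroup.closure S ⊓ K (a*b)⁻¹) ≤ Nat.card ↥(Subgroup.closure S) := by
    apply ru_card_double (x := I (a*b))
    · exact inf_le_left
    · exact hIU (a*b)
    · intro hz
      simp only [Subgroup.mem_inf] at hz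
      have h1 : I (a*b) ∈ K (a*b)⁻¹ := hz.2
      rw [hK _ _ (hIW (a*b)), kI, map_inv, map_mul, abc.ha, abc.hb] at h1
      revert h1; decide
  have hcardU : 256 ≤ Nat.card ↥(Subgroup.closure S) := by omega
  -- the hyperplane avoiding z3
  obtain ⟨U, hZ2U, hUU', hz3U, hcov⟩ := ru_hyperplane (Subgroup.closure S) (𝒵 2)
    (h.Z23.trans hZ3U) hUsq hUcomm z3 (hZ3U e.h3) e.h3'
  have h2 := ru_card_le_two_mul U (Subgroup.closure S) z3 hcov
  have h3 := h.hd3 U (hUU'.trans hUW) (by rw [hcw]; omega)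
  exact hz3U (h3 e.h3)

end

end Cfsg.Agent.Lib.Helper9
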