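import Mathlib
import Cfsg.Agent.Lib.Helper9.Ru8

set_option autoImplicit false

namespace Cfsg.Agent.Lib.Helper9

section

variable {T : Type*} [Group T] [Finite T] {W F : Subgroup T}

local notation "𝒵" => Subgroup.upperCentralSeries T

/-- the centre of `W` is the third centre of `T` -/
theorem RuHyp.center_le (h : RuHyp W F) {x : T} (hx : x ∈ W) (hxc : ∀ w ∈ W, x * w = w * x) :
    x ∈ 𝒵 3 := by
  haveI := h.hT.isNilpotent
  haveI hWn := h.W_normal
  let R : Subgroup T :=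
    { carrier := {x | x ∈ W ∧ ∀ w ∈ W, x * w = w * x}
      one_mem' := ⟨W.one_mem, fun w _ => by simp⟩
      mul_mem' := by
        rintro a b ⟨ha, hac⟩ ⟨hb, hbc⟩
        refine ⟨W.mul_mem ha hb, fun w hw => ?_⟩
        rw [mul_assoc, hbc w hw, ← mul_assoc, hac w hw, mul_assoc]
      inv_mem' := by
        rintro a ⟨ha, hac⟩
        refine ⟨W.inv_mem ha, fun w hw => ?_⟩
        have := hac w hw
        calc a⁻¹ * w = a⁻¹ * (w * a) * a⁻¹ := by group
          _ = a⁻¹ * (a * w) * a⁻¹ := by rw [this]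
          _ = w * a⁻¹ := by group }
  haveI hRn : R.Normal := by
    constructor
    rintro a ⟨ha, hac⟩ t
    refine ⟨hWn.conj_mem a ha t, fun w hw => ?_⟩
    have hw' : t⁻¹ * w * t ∈ W := by
      have := hWn.conj_mem w hw t⁻¹
      rwa [inv_inv] at this
    have := hac _ hw'
    calc t * a * t⁻¹ * w = t * (a * (t⁻¹ * w * t)) * t⁻¹ := by group
      _ = t * ((t⁻¹ * w * t) * a) * t⁻¹ := by rw [this]
      _ = w * (t * a * t⁻¹) := by group
  have hZR : 𝒵 3 ≤ R := fun z hz => ⟨h.Z3_le_W hz, fun w hw => (h.Z3_central hz hw).symm⟩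
  have hxR : x ∈ R := ⟨hx, hxc⟩
  by_cases hRZ : 𝒵 3 = R
  · rw [hRZ]; exact hxR
  exfalso
  obtain ⟨u, huR, hu3, hu⟩ := ru_exists_central_mod (𝒵 3) R hZR hRZ
  obtain ⟨M, m⟩ := h.exists_ctx u huR.1 hu3 hu huR.2
  obtain ⟨z2, z3, e⟩ := h.exists_elts
  obtain ⟨w0, hw0, hk⟩ := m.exists_w0 h e
  obtain ⟨a, b, c, abc⟩ := h.exists_abc e
  exact m.contra h e ⟨hw0, hk⟩ abc

end

end Cfsg.Agent.Lib.Helper9
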