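import Mathlib
import Cfsg.Agent.Lib.Helper9.Ru9

set_option autoImplicit false

namespace Cfsg.Agent.Lib.Helper9

section

variable {T : Type*} [Group T] [Finite T] {W F : Subgroup T}

local notation "𝒵" => Subgroup.upperCentralSeries T

/-- a coprime automorphism fixing `N` pointwise and acting trivially modulo `N` fixes `x` -/
theorem ru_coprime_fixed (hT : IsPGroup 2 T) (φ : T →* T) (k : ℕ) (hk : Odd k)
    (hφ : ∀ x, (φ^[k]) x = x) (N : Subgroup T) (hN : ∀ n ∈ N, φ n = n) {x : T}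
    (hx : x⁻¹ * φ x ∈ N) : φ x = x := by
  have hφx : φ x = x * (x⁻¹ * φ x) := by group
  have hn := hN _ hx
  have iter : ∀ j : ℕ, (φ^[j]) x = x * (x⁻¹ * φ x) ^ j := by
    intro j
    induction j with
    | zero => simp
    | succ j ih =>
      rw [Function.iterate_succ_apply', ih, map_mul, map_pow, hn, pow_succ']
      rw [← mul_assoc, ← hφx]
  have h1 := iter k
  rw [hφ x] at h1
  have h2 : (x⁻¹ * φ x) ^ k = 1 := by
    have := congrArg (fun y => x⁻¹ * y) h1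
    simpa using this.symm
  obtain ⟨m, hm⟩ := hT (x⁻¹ * φ x)
  have d1 : orderOf (x⁻¹ * φ x) ∣ k := orderOf_dvd_of_pow_eq_one h2
  have d2 : orderOf (x⁻¹ * φ x) ∣ 2 ^ m := orderOf_dvd_of_pow_eq_one hm
  have hcop : Nat.Coprime k (2 ^ m) := by
    apply Nat.Coprime.pow_right
    exact Nat.coprime_two_right.mpr hk
  have d3 : orderOf (x⁻¹ * φ x) ∣ 1 := by
    have := Nat.dvd_gcd d1 d2
    rwa [hcop] at this
  have h3 : x⁻¹ * φ x = 1 := orderOf_eq_one_iff.mp (Nat.dvd_one.mp d3)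
  rw [hφx, h3, mul_one]

theorem ru_char_mem (φ : T ≃* T) (j : ℕ) (x : T) : φ x ∈ 𝒵 j ↔ x ∈ 𝒵 j := by
  have h1 := (inferInstance : (𝒵 j).Characteristic).fixed φ
  have h2 : x ∈ (𝒵 j).comap φ.toMonoidHom ↔ x ∈ 𝒵 j := by rw [h1]
  rw [Subgroup.mem_comap] at h2
  exact h2

/-- every automorphism of odd order of `T` is trivial -/
theorem RuHyp.aut_trivial (h : RuHyp W F) (φ : T ≃* T) (k : ℕ) (hk : Odd k)
    (hφ : ∀ x, (φ^[k]) x = x) : ∀ x, φ x = x := by
  have hφ' : ∀ x, ((φ.toMonoidHom : T →* T)^[k]) x = x := hφ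
  have fix := fun (N : Subgroup T) (hN : ∀ n ∈ N, φ n = n) {x : T} (hx : x⁻¹ * φ x ∈ N) =>
    ru_coprime_fixed h.hT φ.toMonoidHom k hk hφ' N hN (x := x) hx
  -- the first four centres are fixed pointwise
  have h1a : ∀ j, j ≤ 4 → ∀ x ∈ 𝒵 j, φ x = x := by
    intro j
    induction j with
    | zero =>
      intro _ x hx
      rw [Subgroup.upperCentralSeries_zero, Subgroup.mem_bot] at hx
      rw [hx, map_one]
    | succ j ih =>
      intro hj x hx
      apply fix (𝒵 j) (ih (by omega))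
      have hcard : Nat.card (𝒵 (j+1)) = 2 * Nat.card (𝒵 j) := by
        rw [h.card_ucs_le (j+1) hj, h.card_ucs_le j (by omega)]; ring
      rw [ru_mul_mem_iff_of_card (𝒵 j) (𝒵 (j+1)) (Subgroup.upperCentralSeries_mono T (by omega))
        hcard ((𝒵 (j+1)).inv_mem hx) ((ru_char_mem φ (j+1) x).mpr hx), inv_mem_iff,
        ru_char_mem φ j x]
  have hZ3 : ∀ z ∈ 𝒵 3, φ z = z := h1a 3 (by norm_num)
  -- trivial action on T / W
  have h1b : ∀ t, t⁻¹ * φ t ∈ W := by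
    intro t
    rw [h.hW, Subgroup.mem_centralizer_iff]
    intro z hz
    have hc : t * z * t⁻¹ ∈ 𝒵 3 := (inferInstance : (𝒵 3).Normal).conj_mem z hz t
    have e1 := hZ3 _ hc
    rw [map_mul, map_mul, map_inv, hZ3 z hz] at e1
    calc z * (t⁻¹ * φ t) = t⁻¹ * (t * z * t⁻¹) * φ t := by group
      _ = t⁻¹ * (φ t * z * (φ t)⁻¹) * φ t := by rw [e1]
      _ = t⁻¹ * φ t * z := by group
  have hφW : ∀ w ∈ W, φ w ∈ W := by
    intro w hw
    have : φ w = w * (w⁻¹ * φ w) := by group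
    rw [this]
    exact W.mul_mem hw (h1b w)
  -- the terms of the upper central series inside W
  have h1c : ∀ n, ∀ x ∈ W ⊓ 𝒵 (4 + n), φ x = x := by
    intro n
    induction n with
    | zero =>
      intro x hx
      exact h1a 4 le_rfl x hx.2
    | succ n ih =>
      intro x hx
      apply fix (W ⊓ 𝒵 4)
      · intro y hy
        exact h1a 4 le_rfl y hy.2
      · have hxW : x ∈ W := hx.1
        have hx5 : x ∈ 𝒵 (4 + n + 1) := hx.2
        rw [Subgroup.mem_inf]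
        refine ⟨W.mul_mem (W.inv_mem hxW) (hφW x hxW), ?_⟩
        rw [show (4 : ℕ) = 3 + 1 from rfl, Subgroup.mem_upperCentralSeries_succ_iff]
        intro t
        rw [commutatorElement_def]
        -- the commutator c = [x, t] is fixed
        have hcW : x * t * x⁻¹ * t⁻¹ ∈ W := by
          have : x * t * x⁻¹ * t⁻¹ = x * (t * x⁻¹ * t⁻¹) := by group
          rw [this]
          exact W.mul_mem hxW (h.W_normal.conj_mem _ (W.inv_mem hxW) t)
        have hcZ : x * t * x⁻¹ * t⁻¹ ∈ 𝒵 (4 + n) := by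
          have := (Subgroup.mem_upperCentralSeries_succ_iff.mp hx5) t
          rwa [commutatorElement_def] at this
        have hc := ih _ ⟨hcW, hcZ⟩
        rw [map_mul, map_mul, map_mul, map_inv, map_inv] at hc
        -- write φ t = t * w'
        have hw' := h1b t
        have haW := hφW x hxW
        have hz3 : φ x * (t⁻¹ * φ t) * (φ x)⁻¹ * (t⁻¹ * φ t)⁻¹ ∈ 𝒵 3 := h.comm_mem haW hw'
        have hz3' : t * (φ x * (t⁻¹ * φ t) * (φ x)⁻¹ * (t⁻¹ * φ t)⁻¹) * t⁻¹ ∈ 𝒵 3 :=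
          (inferInstance : (𝒵 3).Normal).conj_mem _ hz3 t
        have e1 : φ x * φ t * (φ x)⁻¹ * (φ t)⁻¹ =
            (φ x * t * (φ x)⁻¹ * t⁻¹) *
              (t * (φ x * (t⁻¹ * φ t) * (φ x)⁻¹ * (t⁻¹ * φ t)⁻¹) * t⁻¹) := by group
        rw [e1] at hc
        -- hence [φ x, t] ∈ c * Z3
        have e2 : x⁻¹ * φ x * t * (x⁻¹ * φ x)⁻¹ * t⁻¹ =
            x⁻¹ * ((φ x * t * (φ x)⁻¹ * t⁻¹) * (x * t * x⁻¹ * t⁻¹)⁻¹) * x := by group
        rw [e2]
        have e3 : (φ x * t * (φ x)⁻¹ * t⁻¹) * (x * t * x⁻¹ * t⁻¹)⁻¹ =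
            (x * t * x⁻¹ * t⁻¹) *
              (t * (φ x * (t⁻¹ * φ t) * (φ x)⁻¹ * (t⁻¹ * φ t)⁻¹) * t⁻¹)⁻¹ *
              (x * t * x⁻¹ * t⁻¹)⁻¹ := by
          rw [← hc]; group
        rw [e3]
        have n3 : (𝒵 3).Normal := inferInstance
        have k1 := n3.conj_mem _ ((𝒵 3).inv_mem hz3') (x * t * x⁻¹ * t⁻¹)
        have k2 := n3.conj_mem _ k1 x⁻¹
        rwa [inv_inv] at k2
  -- W is fixed pointwise
  have hW : ∀ w ∈ W, φ w = w := by
    haveI := h.hT.isNilpotent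
    obtain ⟨n, hn⟩ := Group.IsNilpotent.nilpotent T
    intro w hw
    apply h1c n w
    refine ⟨hw, ?_⟩
    have : 𝒵 n ≤ 𝒵 (4 + n) := Subgroup.upperCentralSeries_mono T (by omega)
    rw [hn] at this
    exact this (Subgroup.mem_top w)
  intro t
  exact fix W hW (h1b t)

end

end Cfsg.Agent.Lib.Helper9
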