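import Mathlib
import Cfsg.Prelude.Def_Transfer
import Cfsg.Agent.Lib.Helper9.Ru10

set_option autoImplicit false

namespace Cfsg.Agent.Lib.Helper9

section

variable {G : Type*} [Group G]

/-- conjugation by an element of the normalizer, as an automorphism of the subgroup -/
def ruConjEquiv (T : Subgroup G) (n : G) (hn : n ∈ Subgroup.normalizer (T : Set G)) : ↥T ≃* ↥T where
  toFun x := ⟨n * x * n⁻¹, (Subgroup.mem_normalizer_iff.mp hn x).mp x.2⟩
  invFun x := ⟨n⁻¹ * x * n, by
    have := (Subgroup.mem_normalizer_iff.mp hn (n⁻¹ * x * n)).mpr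
    apply this
    have e : n * (n⁻¹ * (x : G) * n) * n⁻¹ = x := by group
    rw [e]; exact x.2⟩
  left_inv x := by
    apply Subtype.ext
    show n⁻¹ * (n * (x : G) * n⁻¹) * n = x
    group
  right_inv x := by
    apply Subtype.ext
    show n * (n⁻¹ * (x : G) * n) * n⁻¹ = x
    group
  map_mul' x y := by
    apply Subtype.ext
    show n * ((x : G) * y) * n⁻¹ = (n * x * n⁻¹) * (n * y * n⁻¹)
    group

theorem ruConjEquiv_apply (T : Subgroup G) (n : G) (hn : n ∈ Subgroup.normalizer (T : Set G))
    (x : ↥T) : ((ruConjEquiv T n hn x : ↥T) : G) = n * x * n⁻¹ := rfl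

theorem ruConjEquiv_iterate (T : Subgroup G) (n : G) (hn : n ∈ Subgroup.normalizer (T : Set G))
    (j : ℕ) (x : ↥T) : (((ruConjEquiv T n hn)^[j] x : ↥T) : G) = n ^ j * x * (n ^ j)⁻¹ := by
  induction j with
  | zero => simp
  | succ j ih =>
    rw [Function.iterate_succ_apply', ruConjEquiv_apply, ih, pow_succ']
    group

/-- if all automorphisms of odd order of a Sylow 2-subgroup are trivial, its normalizer has a
normal 2-complement -/
theorem ru_normalizer_complement [Finite G] (T : Sylow 2 G)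
    (haut : ∀ (φ : ↥(T : Subgroup G) ≃* ↥(T : Subgroup G)) (k : ℕ), Odd k →
      (∀ x, (φ^[k]) x = x) → ∀ x, φ x = x) :
    Cfsg.HasNormalPComplement 2 ↥(Subgroup.normalizer ((T : Subgroup G) : Set G)) := by
  haveI : Fact (Nat.Prime 2) := ⟨Nat.prime_two⟩
  have hle : (T : Subgroup G) ≤ Subgroup.normalizer ((T : Subgroup G) : Set G) :=
    Subgroup.le_normalizer
  have hPcoe : ((T.subtype hle : Sylow 2 ↥(Subgroup.normalizer ((T : Subgroup G) : Set G))) :
      Subgroup ↥(Subgroup.normalizer ((T : Subgroup G) : Set G))) =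
      (T : Subgroup G).subgroupOf (Subgroup.normalizer ((T : Subgroup G) : Set G)) := rfl
  haveI hPn : ((T.subtype hle : Sylow 2 ↥(Subgroup.normalizer ((T : Subgroup G) : Set G))) :
      Subgroup ↥(Subgroup.normalizer ((T : Subgroup G) : Set G))).Normal := by
    rw [hPcoe]; exact Subgroup.normal_in_normalizer
  have hnd : ¬ 2 ∣ ((T.subtype hle : Sylow 2 ↥(Subgroup.normalizer ((T : Subgroup G) : Set G))) :
      Subgroup ↥(Subgroup.normalizer ((T : Subgroup G) : Set G))).index :=
    (T.subtype hle).not_dvd_index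
  have hcop : Nat.Coprime
      (Nat.card ((T.subtype hle : Sylow 2 ↥(Subgroup.normalizer ((T : Subgroup G) : Set G))) :
        Subgroup ↥(Subgroup.normalizer ((T : Subgroup G) : Set G))))
      ((T.subtype hle : Sylow 2 ↥(Subgroup.normalizer ((T : Subgroup G) : Set G))) :
        Subgroup ↥(Subgroup.normalizer ((T : Subgroup G) : Set G))).index := by
    obtain ⟨m, hm⟩ := IsPGroup.iff_card.mp (T.subtype hle).isPGroup'
    rw [hm]
    apply Nat.Coprime.pow_left
    rw [Nat.Prime.coprime_iff_not_dvd Nat.prime_two]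
    exact hnd
  obtain ⟨H, hH⟩ := Subgroup.exists_right_complement'_of_coprime hcop
  have hHodd : Odd (Nat.card H) := by
    rw [← hH.symm.index_eq_card, ← Nat.not_even_iff_odd, even_iff_two_dvd]
    exact hnd
  have hcent : ∀ h ∈ H, ∀ p ∈ ((T.subtype hle :
      Sylow 2 ↥(Subgroup.normalizer ((T : Subgroup G) : Set G))) :
      Subgroup ↥(Subgroup.normalizer ((T : Subgroup G) : Set G))), h * p = p * h := by
    intro h hh p hp
    have hodd : Odd (orderOf h) := by
      have hd : orderOf h ∣ Nat.card H := by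
        have := orderOf_dvd_natCard (⟨h, hh⟩ : ↥H)
        rwa [Subgroup.orderOf_mk] at this
      exact Odd.of_dvd_nat hHodd hd
    have hfix := haut (ruConjEquiv (T : Subgroup G) (h : G) h.2) (orderOf h) hodd (by
      intro x
      apply Subtype.ext
      rw [ruConjEquiv_iterate]
      have h1 : (h : G) ^ orderOf h = 1 := by
        rw [← Subgroup.coe_pow, pow_orderOf_eq_one, Subgroup.coe_one]
      rw [h1]; simp)
    have hpT : (p : G) ∈ (T : Subgroup G) := by
      rw [hPcoe, Subgroup.mem_subgroupOf] at hp; exact hp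
    have h2 := congrArg Subtype.val (hfix ⟨(p : G), hpT⟩)
    rw [ruConjEquiv_apply] at h2
    apply Subtype.ext
    simp only [Subgroup.coe_mul]
    calc (h : G) * p = ((h : G) * p * (h : G)⁻¹) * h := by group
      _ = p * h := by rw [h2]
  have hHn : H.Normal := by
    constructor
    intro x hx g
    obtain ⟨⟨⟨p, hp⟩, ⟨h, hh⟩⟩, hph, -⟩ := hH.existsUnique g
    simp only at hph
    have hy : h * x * h⁻¹ ∈ H := H.mul_mem (H.mul_mem hh hx) (H.inv_mem hh)
    have hc := hcent _ hy p hp
    have e : g * x * g⁻¹ = h * x * h⁻¹ := by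
      rw [← hph]
      calc p * h * x * (p * h)⁻¹ = p * (h * x * h⁻¹) * p⁻¹ := by group
        _ = (h * x * h⁻¹ * p) * p⁻¹ := by rw [hc]
        _ = h * x * h⁻¹ := by group
    rw [e]; exact hy
  exact ⟨T.subtype hle, H, hHn, hH.symm⟩

end

end Cfsg.Agent.Lib.Helper9
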