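import Mathlib
import Cfsg.Prelude.Def_Transfer
import Cfsg.Agent.Lib.Helper9.Ru11

set_option autoImplicit false

namespace Cfsg.Agent.Lib.Helper9

/-- the hypotheses of the Rudvalis-type statements give the internal hypotheses `RuHyp` -/
theorem ruHyp_of {T : Type*} [Group T] [Finite T]
    (hT : IsPGroup 2 T) (ha : 2 ^ 14 ≤ Nat.card T)
    (hb : Nat.card ↥(Subgroup.upperCentralSeries T 4) = 16)
    (W : Subgroup T)
    (hW : W = Subgroup.centralizer ((Subgroup.upperCentralSeries T 3 : Subgroup T) : Set T))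
    (hc : Nat.card ↥(frattini ↥W) ≤ 8)
    (hd : ∀ U : Subgroup ↥W, U.index ≤ 16 → frattini ↥W ≤ U) :
    RuHyp W ((frattini ↥W).map W.subtype) := by
  classical
  haveI : Fact (Nat.Prime 2) := ⟨Nat.prime_two⟩
  haveI hWn : W.Normal := by rw [hW]; exact Subgroup.normal_centralizer
  have hWp : IsPGroup 2 ↥W := hT.to_subgroup W
  have hinj : Function.Injective W.subtype := Subgroup.subtype_injective W
  refine ⟨hT, ha, hb, hW, Subgroup.map_subtype_le _, inferInstance, ?_, ?_, ?_, ?_⟩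
  · rw [Subgroup.card_map_of_injective hinj]; exact hc
  · intro x hx
    have h1 := Cfsg.Agent.Lib.Helper1.pgroup_pow_mem_frattini hWp (⟨x, hx⟩ : ↥W)
    have h2 := Subgroup.mem_map_of_mem W.subtype h1
    have h3 : W.subtype ((⟨x, hx⟩ : ↥W) ^ 2) = x * x := by
      rw [map_pow, pow_two]; rfl
    rwa [h3] at h2
  · intro x hx y hy
    have h1 := Subgroup.commutator_mem_commutator (Subgroup.mem_top (⟨x, hx⟩ : ↥W))
      (Subgroup.mem_top (⟨y, hy⟩ : ↥W))
    rw [commutatorElement_def] at h1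
    have h1' : (⟨x, hx⟩ : ↥W) * ⟨y, hy⟩ * (⟨x, hx⟩ : ↥W)⁻¹ * (⟨y, hy⟩ : ↥W)⁻¹ ∈
        commutator ↥W := h1
    have h2 := Subgroup.mem_map_of_mem W.subtype
      (Cfsg.Agent.Lib.Helper1.pgroup_commutator_le_frattini hWp h1')
    have h3 : W.subtype ((⟨x, hx⟩ : ↥W) * ⟨y, hy⟩ * (⟨x, hx⟩ : ↥W)⁻¹ * (⟨y, hy⟩ : ↥W)⁻¹) =
        x * y * x⁻¹ * y⁻¹ := rfl
    rwa [h3] at h2
  · intro U hUW hcard
    have h1 := ru_card_mul_relIndex U W hUW
    have hpos : 0 < Nat.card U := Nat.card_pos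
    have h2 : (U.subgroupOf W).index ≤ 16 := by
      show U.relIndex W ≤ 16
      have h3 : Nat.card U * U.relIndex W ≤ Nat.card U * 16 := by
        rw [h1, mul_comm]; exact hcard
      exact Nat.le_of_mul_le_mul_left h3 hpos
    have h4 := hd (U.subgroupOf W) h2
    calc (frattini ↥W).map W.subtype ≤ (U.subgroupOf W).map W.subtype := Subgroup.map_mono h4
      _ = U ⊓ W := Subgroup.subgroupOf_map_subtype U W
      _ ≤ U := inf_le_left

/-- weak closure of `WG` in `P`, from the internal structure -/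
theorem ru_weakly_closed {G : Type*} [Group G] [Finite G] (P WG ZG : Subgroup G)
    (hWP : WG ≤ P) (hZW : ZG ≤ WG)
    (hcP : Nat.card P = 2 ^ 14) (hcW : Nat.card WG = 2 ^ 11) (hcZ : Nat.card ZG = 8)
    (hsq : ∀ x ∈ WG, x * x ∈ ZG) (hcm : ∀ x ∈ WG, ∀ y ∈ WG, x * y * x⁻¹ * y⁻¹ ∈ ZG)
    (hcen : ∀ x ∈ P, (∀ z ∈ ZG, x * z = z * x) → x ∈ WG)
    (hZc : ∀ z ∈ ZG, ∀ w ∈ WG, w * z = z * w)
    (hd : ∀ U : Subgroup G, U ≤ WG → 2 ^ 11 ≤ 16 * Nat.card U → ZG ≤ U) :
    Cfsg.IsWeaklyClosed WG P := by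
  refine ⟨hWP, fun g hX => ?_⟩
  have hcapp : ∀ x, (MulAut.conj g).toMonoidHom x = g * x * g⁻¹ := fun x => rfl
  have hinj : Function.Injective (MulAut.conj g).toMonoidHom := (MulAut.conj g).injective
  have hcX : Nat.card (WG.map (MulAut.conj g).toMonoidHom) = 2 ^ 11 := by
    rw [Subgroup.card_map_of_injective hinj, hcW]
  have hcZX : Nat.card (ZG.map (MulAut.conj g).toMonoidHom) = 8 := by
    rw [Subgroup.card_map_of_injective hinj, hcZ]
  have hsqX : ∀ x ∈ WG.map (MulAut.conj g).toMonoidHom,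
      x * x ∈ ZG.map (MulAut.conj g).toMonoidHom := by
    rintro _ ⟨w, hw, rfl⟩
    exact ⟨w * w, hsq w hw, by rw [map_mul]⟩
  have hcmX : ∀ x ∈ WG.map (MulAut.conj g).toMonoidHom,
      ∀ y ∈ WG.map (MulAut.conj g).toMonoidHom,
      x * y * x⁻¹ * y⁻¹ ∈ ZG.map (MulAut.conj g).toMonoidHom := by
    rintro _ ⟨w, hw, rfl⟩ _ ⟨v, hv, rfl⟩
    exact ⟨w * v * w⁻¹ * v⁻¹, hcm w hw v hv, by simp only [map_mul, map_inv]⟩
  have hZXc : ∀ z ∈ ZG.map (MulAut.conj g).toMonoidHom,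
      ∀ x ∈ WG.map (MulAut.conj g).toMonoidHom, x * z = z * x := by
    rintro _ ⟨z, hz, rfl⟩ _ ⟨w, hw, rfl⟩
    rw [← map_mul, ← map_mul, hZc z hz w hw]
  have hdX : ∀ U : Subgroup G, U ≤ WG.map (MulAut.conj g).toMonoidHom →
      2 ^ 11 ≤ 16 * Nat.card U → ZG.map (MulAut.conj g).toMonoidHom ≤ U := by
    intro U hU hcard
    have hinj' : Function.Injective (MulAut.conj g⁻¹).toMonoidHom := (MulAut.conj g⁻¹).injective
    have h1 : U.map (MulAut.conj g⁻¹).toMonoidHom ≤ WG := by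
      rintro _ ⟨x, hx, rfl⟩
      obtain ⟨w, hw, rfl⟩ := hU hx
      have : (MulAut.conj g⁻¹).toMonoidHom ((MulAut.conj g).toMonoidHom w) = w := by
        show g⁻¹ * (g * w * g⁻¹) * g⁻¹⁻¹ = w
        group
      rw [this]; exact hw
    have h2 := hd _ h1 (by rw [Subgroup.card_map_of_injective hinj']; exact hcard)
    rintro _ ⟨z, hz, rfl⟩
    obtain ⟨x, hx, hxz⟩ := h2 hz
    have : (MulAut.conj g).toMonoidHom z = x := by
      rw [← hxz]
      show g * (g⁻¹ * x * g⁻¹⁻¹) * g⁻¹ = x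
      group
    rw [this]; exact hx
  -- the intersection
  have hcY : 2 ^ 8 ≤ Nat.card ↥(WG.map (MulAut.conj g).toMonoidHom ⊓ WG) := by
    have h1 : (WG.map (MulAut.conj g).toMonoidHom ⊓ WG).relIndex
        (WG.map (MulAut.conj g).toMonoidHom) =
        WG.relIndex (WG.map (MulAut.conj g).toMonoidHom) := Subgroup.inf_relIndex_left _ _
    have h2 : WG.relIndex (WG.map (MulAut.conj g).toMonoidHom) ≤ WG.relIndex P :=
      Subgroup.relIndex_le_of_le_right hX Subgroup.index_ne_zero_of_finite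
    have h3 := ru_card_mul_relIndex WG P hWP
    have h4 := ru_card_mul_relIndex (WG.map (MulAut.conj g).toMonoidHom ⊓ WG)
      (WG.map (MulAut.conj g).toMonoidHom) inf_le_left
    rw [hcW, hcP] at h3
    rw [hcX, h1] at h4
    have h5 : WG.relIndex P = 8 := by omega
    rw [h5] at h2
    nlinarith
  have hZXY := hdX (WG.map (MulAut.conj g).toMonoidHom ⊓ WG) inf_le_left (by omega)
  have hZGY := hd (WG.map (MulAut.conj g).toMonoidHom ⊓ WG) inf_le_right (by omega)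
  by_cases hZ : ZG.map (MulAut.conj g).toMonoidHom = ZG
  · have hXW : WG.map (MulAut.conj g).toMonoidHom ≤ WG := by
      intro x hx
      apply hcen x (hX hx)
      intro z hz
      exact hZXc z (by rw [hZ]; exact hz) x hx
    exact Subgroup.eq_of_le_of_card_ge hXW (by rw [hcX, hcW])
  · exfalso
    have hex : ∃ z ∈ ZG, z ∉ ZG.map (MulAut.conj g).toMonoidHom ⊓ ZG := by
      by_contra hcon
      push Not at hcon
      apply hZ
      have hle : ZG ≤ ZG.map (MulAut.conj g).toMonoidHom := fun z hz => (hcon z hz).1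
      exact (Subgroup.eq_of_le_of_card_ge hle (by rw [hcZX, hcZ])).symm
    obtain ⟨z, hz, hzN⟩ := hex
    obtain ⟨U, hNU, hUY, hzU, hcov⟩ := ru_hyperplane
      (WG.map (MulAut.conj g).toMonoidHom ⊓ WG) (ZG.map (MulAut.conj g).toMonoidHom ⊓ ZG)
      (inf_le_right.trans hZGY)
      (fun x hx => ⟨hsqX x hx.1, hsq x hx.2⟩)
      (fun x hx y hy => ⟨hcmX x hx.1 y hy.1, hcm x hx.2 y hy.2⟩)
      z (hZGY hz) hzN
    have h1 := ru_card_le_two_mul U _ z hcov
    have h2 := hd U (hUY.trans inf_le_right) (by omega)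
    exact hzU (h2 hz)

end Cfsg.Agent.Lib.Helper9
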