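import Mathlib
import Cfsg.Agent.Lib.helper2.S91Defs
import Cfsg.Prelude.Def_Local

set_option autoImplicit false

namespace Cfsg.Agent.Lib.helper2.S91
open Subgroup

universe u

theorem h9s_relIndex_mul_card {G : Type*} [Group G] (K L : Subgroup G) (hKL : K ≤ L) :
    K.relIndex L * Nat.card K = Nat.card L := by
  have h1 : Nat.card (K.subgroupOf L) * (K.subgroupOf L).index = Nat.card L :=
    (K.subgroupOf L).card_mul_index
  have h2 : Nat.card (K.subgroupOf L) = Nat.card K :=
    Nat.card_congr (Subgroup.subgroupOfEquivOfLe hKL).toEquiv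
  rw [Subgroup.relIndex, ← h1, h2, mul_comm]

/-- S91-SER -/
theorem exists_KL {G : Type u} [Group G] [Finite G] (p : ℕ) [Fact p.Prime]
    (hG : Cfsg.IsPSolvable p G) (hdvd : p ∣ Nat.card G) :
    ∃ K L : Subgroup G, K.Normal ∧ L.Normal ∧ K ≤ L ∧ (Nat.card K).Coprime p ∧
      ∃ a : ℕ, 1 ≤ a ∧ K.relIndex L = p ^ a := by
  have hp : p.Prime := Fact.out
  obtain ⟨n, H, h0, hlast, hmono, hnorm, hfac⟩ := hG
  have hex : ∃ i : Fin n, (Nat.card (H i.castSucc)).Coprime p ∧
      ¬ (Nat.card (H i.succ)).Coprime p := by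
    by_contra hne
    push Not at hne
    have hall : ∀ i : Fin (n + 1), (Nat.card (H i)).Coprime p := by
      intro i
      induction i using Fin.induction with
      | zero => rw [h0]; simp
      | succ i ih => exact hne i ih
    have h1 := hall (Fin.last n)
    rw [hlast, Subgroup.card_top] at h1
    have h2 : p ∣ Nat.gcd (Nat.card G) p := Nat.dvd_gcd hdvd dvd_rfl
    rw [Nat.Coprime] at h1
    rw [h1] at h2
    exact hp.one_lt.ne' (Nat.dvd_one.mp h2)
  obtain ⟨i, hi1, hi2⟩ := hex
  have hKL : H i.castSucc ≤ H i.succ := hmono (Fin.castSucc_lt_succ (i := i)).le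
  have hcard := h9s_relIndex_mul_card (H i.castSucc) (H i.succ) hKL
  refine ⟨H i.castSucc, H i.succ, hnorm _, hnorm _, hKL, hi1, ?_⟩
  rcases hfac i with ⟨m, hm⟩ | hc
  · refine ⟨m, ?_, hm⟩
    rcases Nat.eq_zero_or_pos m with h | h
    · exfalso
      apply hi2
      rw [← hcard, hm, h, pow_zero, one_mul]
      exact hi1
    · exact h
  · exfalso
    apply hi2
    rw [← hcard]
    exact Nat.Coprime.mul_left hc hi1

end Cfsg.Agent.Lib.helper2.S91
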