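import Mathlib
import Cfsg.Agent.Lib.helper7.SAP.Defs
import Cfsg.Agent.Lib.Helper28.SAPPERM4
import Cfsg.Agent.Lib.helper8.SAPPERM5
import Cfsg.Agent.Lib.Helper9.SAPPERM8core

/-!
Project SAP (S2284 + S2297, designer helper7), row PERM8: verbatim `glue_perm`
(core in `SAPPERM8core`, PERM4 of helper28, PERM5 of helper8).
-/

namespace Cfsg.Agent.Lib.helper7.SAP

open Equiv

universe u

section perm
variable (p k l : ℕ)

/-- PERM8 [M]: the gluing relation holds in `Perm (Pt p k)` (supports are disjoint up to the swap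
of the special points). -/
theorem glue_perm [NeZero p] (hlp : l + 1 ≤ p) (hl : 1 ≤ l) (r : (ZMod p)ˣ) :
    ((nh p k l)⁻¹ * th p k l) * ((ah p k) ^ l * bh k r * ((ah p k) ^ l)⁻¹) =
      ((ah p k) ^ l * bh k r * ((ah p k) ^ l)⁻¹) * ((nh p k l)⁻¹ * th p k l) :=
  sapperm8_core p k l hlp hl r (fun y => th_pt p k l hlp hl y) (th_ps p k l)
    (fun x => nh_po p k l hlp hl x) (fun j => nh_pe p k l j) (nh_ps p k l)

end perm

end Cfsg.Agent.Lib.helper7.SAP
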