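import Mathlib
import Cfsg.Agent.Lib.helper7.SAP.Defs

/-!
Project SAP (S2284 + S2297, designer helper7), row TR3 (`tietze`): spare copy `sap_h9_tietze` (exact statement).
-/

namespace Cfsg.Agent.Lib.helper7.SAP

open Equiv

universe u

section tools

/-- words for elements of a 2-generated group -/
theorem sap_h9_word {G : Type*} [Group G] (a b : G) (hab : Subgroup.closure ({a, b} : Set G) = ⊤) (g : G) :
    ∃ w : FreeGroup (Fin 2), FreeGroup.lift ![a, b] w = g := by
  have hr : (FreeGroup.lift ![a, b]).range = ⊤ := by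
    rw [FreeGroup.range_lift_eq_closure]
    rw [← hab]
    congr 1
    ext x
    simp only [Set.mem_range, Set.mem_insert_iff, Set.mem_singleton_iff]
    constructor
    · rintro ⟨i, rfl⟩
      fin_cases i
      · left; rfl
      · right; rfl
    · rintro (rfl | rfl)
      · exact ⟨0, rfl⟩
      · exact ⟨1, rfl⟩
  have : g ∈ (FreeGroup.lift ![a, b]).range := by rw [hr]; exact Subgroup.mem_top g
  exact this

/-- spare copy of row TR3 (exact statement of `tietze`) -/
theorem sap_h9_tietze {G : Type*} [Group G] (rels₀ : Finset (FreeGroup (Fin 2)))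
    (e₀ : PresentedGroup (↑rels₀ : Set (FreeGroup (Fin 2))) ≃* G) (a b : G)
    (hab : Subgroup.closure ({a, b} : Set G) = ⊤) :
    ∃ rels : Finset (FreeGroup (Fin 2)), rels.card ≤ rels₀.card + 2 ∧
      ∃ e : PresentedGroup (↑rels : Set (FreeGroup (Fin 2))) ≃* G,
        e (PresentedGroup.of 0) = a ∧ e (PresentedGroup.of 1) = b := by
  classical
  -- the old generators
  set x₀ : G := e₀ (PresentedGroup.of 0) with hx₀
  set x₁ : G := e₀ (PresentedGroup.of 1) with hx₁
  -- `lift ![x₀, x₁] = e₀ ∘ mk`
  have hlift0 : FreeGroup.lift ![x₀, x₁] =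
      e₀.toMonoidHom.comp (PresentedGroup.mk (↑rels₀ : Set (FreeGroup (Fin 2)))) := by
    ext i
    fin_cases i
    · simp [hx₀, PresentedGroup.of]
    · simp [hx₁, PresentedGroup.of]
  -- the old generators generate
  have hgen0 : Subgroup.closure ({x₀, x₁} : Set G) = ⊤ := by
    have h1 : (FreeGroup.lift ![x₀, x₁]).range = ⊤ := by
      rw [hlift0, MonoidHom.range_eq_top]
      exact e₀.surjective.comp (PresentedGroup.mk_surjective _)
    rw [FreeGroup.range_lift_eq_closure] at h1
    rw [← h1]
    congr 1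
    ext x
    simp only [Set.mem_range, Set.mem_insert_iff, Set.mem_singleton_iff]
    constructor
    · rintro (rfl | rfl)
      · exact ⟨0, rfl⟩
      · exact ⟨1, rfl⟩
    · rintro ⟨i, rfl⟩
      fin_cases i
      · left; rfl
      · right; rfl
  obtain ⟨u₀, hu₀⟩ := sap_h9_word a b hab x₀
  obtain ⟨u₁, hu₁⟩ := sap_h9_word a b hab x₁
  obtain ⟨wa, hwa⟩ := sap_h9_word x₀ x₁ hgen0 a
  obtain ⟨wb, hwb⟩ := sap_h9_word x₀ x₁ hgen0 b
  set σ : FreeGroup (Fin 2) →* FreeGroup (Fin 2) := FreeGroup.lift ![u₀, u₁] with hσ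
  -- `lift ![a,b] ∘ σ = lift ![x₀, x₁]`
  have hcomp : (FreeGroup.lift ![a, b]).comp σ = FreeGroup.lift ![x₀, x₁] := by
    ext i
    fin_cases i
    · simp [hσ, hu₀]
    · simp [hσ, hu₁]
  have hcomp' : ∀ w, FreeGroup.lift ![a, b] (σ w) = FreeGroup.lift ![x₀, x₁] w := fun w => by
    rw [← hcomp]; rfl
  let ra : FreeGroup (Fin 2) := (FreeGroup.of 0)⁻¹ * σ wa
  let rb : FreeGroup (Fin 2) := (FreeGroup.of 1)⁻¹ * σ wb
  let rels : Finset (FreeGroup (Fin 2)) := insert ra (insert rb (rels₀.image σ))
  refine ⟨rels, ?_, ?_⟩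
  · calc rels.card ≤ (insert rb (rels₀.image σ)).card + 1 := Finset.card_insert_le _ _
      _ ≤ ((rels₀.image σ).card + 1) + 1 := by
        have := Finset.card_insert_le rb (rels₀.image σ)
        omega
      _ ≤ rels₀.card + 2 := by
        have := Finset.card_image_le (s := rels₀) (f := σ)
        omega
  · -- the map to `G`
    have hφ : ∀ r ∈ (↑rels : Set (FreeGroup (Fin 2))), FreeGroup.lift ![a, b] r = 1 := by
      intro r hr
      have hr' : r ∈ rels := hr
      simp only [rels, Finset.mem_insert, Finset.mem_image] at hr'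
      rcases hr' with rfl | rfl | ⟨r0, hr0, rfl⟩
      · show FreeGroup.lift ![a, b] ((FreeGroup.of 0)⁻¹ * σ wa) = 1
        rw [map_mul, map_inv, hcomp', hwa]
        simp
      · show FreeGroup.lift ![a, b] ((FreeGroup.of 1)⁻¹ * σ wb) = 1
        rw [map_mul, map_inv, hcomp', hwb]
        simp
      · rw [hcomp', hlift0]
        show e₀ (PresentedGroup.mk _ r0) = 1
        rw [PresentedGroup.one_of_mem (by exact_mod_cast hr0), map_one]
    let φ : PresentedGroup (↑rels : Set (FreeGroup (Fin 2))) →* G := PresentedGroup.toGroup hφ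
    -- the map back
    let mkP := PresentedGroup.mk (↑rels : Set (FreeGroup (Fin 2)))
    have hmkσ : FreeGroup.lift ![mkP u₀, mkP u₁] = mkP.comp σ := by
      ext i
      fin_cases i
      · simp [hσ]
      · simp [hσ]
    have hψ : ∀ r ∈ (↑rels₀ : Set (FreeGroup (Fin 2))), FreeGroup.lift ![mkP u₀, mkP u₁] r = 1 := by
      intro r hr
      rw [hmkσ]
      show mkP (σ r) = 1
      apply PresentedGroup.one_of_mem
      have hr' : r ∈ rels₀ := hr
      show σ r ∈ rels
      simp only [rels, Finset.mem_insert, Finset.mem_image]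
      exact Or.inr (Or.inr ⟨r, hr', rfl⟩)
    let ψ₀ : PresentedGroup (↑rels₀ : Set (FreeGroup (Fin 2))) →* PresentedGroup (↑rels : Set (FreeGroup (Fin 2))) :=
      PresentedGroup.toGroup hψ
    have hψ₀mk : ∀ w, ψ₀ (PresentedGroup.mk _ w) = mkP (σ w) := by
      intro w
      have : ψ₀.comp (PresentedGroup.mk _) = mkP.comp σ := by
        rw [← hmkσ]
        ext i
        show ψ₀ (PresentedGroup.of i) = _
        rw [PresentedGroup.toGroup.of]
        simp
      exact DFunLike.congr_fun this w
    let ψ : G →* PresentedGroup (↑rels : Set (FreeGroup (Fin 2))) := ψ₀.comp e₀.symm.toMonoidHom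
    -- `φ ∘ ψ₀ = e₀`
    have hφψ₀ : φ.comp ψ₀ = e₀.toMonoidHom := by
      apply PresentedGroup.ext
      intro i
      show φ (ψ₀ (PresentedGroup.of i)) = e₀ (PresentedGroup.of i)
      rw [PresentedGroup.toGroup.of]
      fin_cases i
      · show φ (mkP u₀) = x₀
        rw [← hu₀]; rfl
      · show φ (mkP u₁) = x₁
        rw [← hu₁]; rfl
    have h1 : ∀ g : G, φ (ψ g) = g := by
      intro g
      show φ (ψ₀ (e₀.symm g)) = g
      have := DFunLike.congr_fun hφψ₀ (e₀.symm g)
      simp only [MonoidHom.comp_apply] at this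
      rw [this]
      simp
    have hψa : ψ a = PresentedGroup.of 0 := by
      show ψ₀ (e₀.symm a) = _
      have ha' : a = e₀ (PresentedGroup.mk _ wa) := by
        rw [← hwa, hlift0]; rfl
      rw [ha', MulEquiv.symm_apply_apply, hψ₀mk]
      have : mkP ((FreeGroup.of 0)⁻¹ * σ wa) = 1 := by
        apply PresentedGroup.one_of_mem
        show ra ∈ rels
        simp [rels]
      rw [map_mul, map_inv, inv_mul_eq_one] at this
      exact this.symm
    have hψb : ψ b = PresentedGroup.of 1 := by
      show ψ₀ (e₀.symm b) = _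
      have hb' : b = e₀ (PresentedGroup.mk _ wb) := by
        rw [← hwb, hlift0]; rfl
      rw [hb', MulEquiv.symm_apply_apply, hψ₀mk]
      have : mkP ((FreeGroup.of 1)⁻¹ * σ wb) = 1 := by
        apply PresentedGroup.one_of_mem
        show rb ∈ rels
        simp [rels]
      rw [map_mul, map_inv, inv_mul_eq_one] at this
      exact this.symm
    have hφ0 : φ (PresentedGroup.of 0) = a := by
      show PresentedGroup.toGroup hφ (PresentedGroup.of 0) = a
      rw [PresentedGroup.toGroup.of]; rfl
    have hφ1 : φ (PresentedGroup.of 1) = b := by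
      show PresentedGroup.toGroup hφ (PresentedGroup.of 1) = b
      rw [PresentedGroup.toGroup.of]; rfl
    have h2 : ∀ x : PresentedGroup (↑rels : Set (FreeGroup (Fin 2))), ψ (φ x) = x := by
      have : ψ.comp φ = MonoidHom.id _ := by
        apply PresentedGroup.ext
        intro i
        fin_cases i
        · show ψ (φ (PresentedGroup.of 0)) = PresentedGroup.of 0
          rw [hφ0, hψa]
        · show ψ (φ (PresentedGroup.of 1)) = PresentedGroup.of 1
          rw [hφ1, hψb]
      intro x
      exact DFunLike.congr_fun this x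
    refine ⟨MulEquiv.ofBijective φ ⟨?_, ?_⟩, hφ0, hφ1⟩
    · intro x y hxy
      rw [← h2 x, ← h2 y, hxy]
    · intro g
      exact ⟨ψ g, h1 g⟩

end tools

end Cfsg.Agent.Lib.helper7.SAP
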