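import Mathlib
import Cfsg.Prelude.Def_TwoFusion
import Cfsg.Prelude.Def_CaseTheorems
import Cfsg.Agent.Lib.Helper18.ZStarMain
import Cfsg.Agent.Lib.Helper1.Nilp
import Cfsg.Agent.Lib.Helper9.Isolated

set_option autoImplicit false

namespace Cfsg.Agent.Lib.Helper9

open Cfsg.Agent.Lib.Helper18 Cfsg.Agent.Lib.Helper18.ZStar

/-- `K = A ⊓ C(H)` is normal when `X = HA` and `H` is normal. -/
theorem scz_K_normal {X : Type*} [Group X] (A H : Subgroup X) [hHn : H.Normal]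
    (hXHA : ∀ x : X, ∃ h ∈ H, ∃ b ∈ A, x = h * b) :
    (A ⊓ Subgroup.centralizer (H : Set X)).Normal := by
  constructor
  intro k hk x
  obtain ⟨h, hh, b, hb, rfl⟩ := hXHA x
  have hkA := (Subgroup.mem_inf.mp hk).1
  have hkC := (Subgroup.mem_inf.mp hk).2
  have h1 : b * k * b⁻¹ ∈ Subgroup.centralizer (H : Set X) := by
    rw [Subgroup.mem_centralizer_iff] at hkC ⊢
    intro y hy
    have hy' : b⁻¹ * y * b ∈ H := by
      have := hHn.conj_mem y hy b⁻¹
      simpa using this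
    have := hkC _ hy'
    calc y * (b * k * b⁻¹) = b * ((b⁻¹ * y * b) * k) * b⁻¹ := by group
      _ = b * (k * (b⁻¹ * y * b)) * b⁻¹ := by rw [this]
      _ = b * k * b⁻¹ * y := by group
  have h2 : b * k * b⁻¹ ∈ A := A.mul_mem (A.mul_mem hb hkA) (A.inv_mem hb)
  have h3 : h * b * k * (h * b)⁻¹ = b * k * b⁻¹ := by
    rw [Subgroup.mem_centralizer_iff] at h1
    have := h1 h hh
    calc h * b * k * (h * b)⁻¹ = (h * (b * k * b⁻¹)) * h⁻¹ := by group
      _ = (b * k * b⁻¹ * h) * h⁻¹ := by rw [this]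
      _ = b * k * b⁻¹ := by group
  rw [h3]
  exact Subgroup.mem_inf.mpr ⟨h2, h1⟩

theorem scz_mem_map_mk {X : Type*} [Group X] (K B : Subgroup X) [K.Normal] (hKB : K ≤ B) (x : X) :
    QuotientGroup.mk' K x ∈ B.map (QuotientGroup.mk' K) ↔ x ∈ B := by
  constructor
  · rintro ⟨t, ht, hte⟩
    have h1 : t⁻¹ * x ∈ K := QuotientGroup.eq.mp hte
    have : x = t * (t⁻¹ * x) := by group
    rw [this]; exact B.mul_mem ht (hKB h1)
  · intro hx; exact ⟨x, hx, rfl⟩

theorem scz_exists_central_involution {Q : Type*} [Group Q] [Finite Q] (hQ : IsPGroup 2 Q)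
    (N : Subgroup Q) [N.Normal] (hN : N ≠ ⊥) :
    ∃ z ∈ N, z ∈ Subgroup.center Q ∧ orderOf z = 2 := by
  haveI : Fact (Nat.Prime 2) := ⟨Nat.prime_two⟩
  haveI : Group.IsNilpotent Q := hQ.isNilpotent
  have hne := Cfsg.Agent.Lib.Helper1.normal_inf_center_ne_bot N hN
  have hp : IsPGroup 2 ↥(N ⊓ Subgroup.center Q) := hQ.to_subgroup _
  obtain ⟨n, hn⟩ := IsPGroup.iff_card.1 hp
  have hn0 : n ≠ 0 := by
    intro h0
    rw [h0, pow_zero] at hn
    exact hne (Subgroup.card_eq_one.1 hn)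
  have h2 : 2 ∣ Nat.card ↥(N ⊓ Subgroup.center Q) := by
    rw [hn]; exact dvd_pow_self 2 hn0
  obtain ⟨z, hz⟩ := exists_prime_orderOf_dvd_card' 2 h2
  refine ⟨z.1, (Subgroup.mem_inf.1 z.2).1, (Subgroup.mem_inf.1 z.2).2, ?_⟩
  rw [Subgroup.orderOf_coe]; exact hz

/-- Core: `X = HA`, `H` normal with no nontrivial odd normal subgroup of `X` inside, `A` strongly
closed in a Sylow 2-subgroup and `A ∩ H = 1`; then `A` centralises `H` (modulo Brauer–Suzuki). -/
theorem scz_core.{u} (hBS : BSHyp.{u}) {X : Type u} [Group X] [Finite X] (T : Sylow 2 X)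
    (A H : Subgroup X) [hHn : H.Normal]
    (hA : Cfsg.IsStronglyClosed A (T : Subgroup X))
    (hXHA : ∀ x : X, ∃ h ∈ H, ∃ b ∈ A, x = h * b)
    (hO : ∀ L : Subgroup X, L ≤ H → L.Normal → Odd (Nat.card L) → L = ⊥)
    (hdisj : A ⊓ H = ⊥) : A ≤ Subgroup.centralizer (H : Set X) := by
  haveI : Fact (Nat.Prime 2) := ⟨Nat.prime_two⟩
  by_contra hne
  set K := A ⊓ Subgroup.centralizer (H : Set X) with hK
  haveI hKn : K.Normal := scz_K_normal A H hXHA
  set π := QuotientGroup.mk' K with hπdef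
  have hπ : Function.Surjective π := QuotientGroup.mk'_surjective K
  have hkerπ : ∀ x, π x = 1 ↔ x ∈ K := fun x => QuotientGroup.eq_one_iff x
  have hKA : K ≤ A := inf_le_left
  have hAT : A ≤ T := hA.1
  set Tb : Sylow 2 (X ⧸ K) := T.mapSurjective hπ with hTb
  have hTb_coe : (Tb : Subgroup (X ⧸ K)) = (T : Subgroup X).map π := Sylow.coe_mapSurjective hπ T
  have hmemT : ∀ x, π x ∈ (Tb : Subgroup (X ⧸ K)) ↔ x ∈ (T : Subgroup X) := by
    intro x
    rw [hTb_coe]
    exact scz_mem_map_mk K (T : Subgroup X) (hKA.trans hAT) x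
  have hmemA : ∀ x, π x ∈ A.map π ↔ x ∈ A := fun x => scz_mem_map_mk K A hKA x
  set Ab : Subgroup (X ⧸ K) := A.map π with hAb
  have hAbne : Ab ≠ ⊥ := by
    intro hbot
    apply hne
    intro a ha
    have h1 : π a ∈ Ab := Subgroup.mem_map_of_mem π ha
    rw [hbot, Subgroup.mem_bot] at h1
    exact (Subgroup.mem_inf.mp ((hkerπ a).mp h1)).2
  have hAbTb : Ab ≤ Tb := by rw [hTb_coe]; exact Subgroup.map_mono hAT
  haveI hAbn : (Ab.subgroupOf (Tb : Subgroup (X ⧸ K))).Normal := by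
    constructor
    rintro ⟨n, hnT⟩ hn ⟨t, ht⟩
    rw [Subgroup.mem_subgroupOf] at hn ⊢
    obtain ⟨a, ha, hae⟩ := hn
    obtain ⟨s, rfl⟩ := hπ t
    have hs : s ∈ (T : Subgroup X) := (hmemT s).mp ht
    have h1 : s * a * s⁻¹ ∈ A :=
      hA.2 a ha s (T.mul_mem (T.mul_mem hs (hAT ha)) (T.inv_mem hs))
    refine ⟨s * a * s⁻¹, h1, ?_⟩
    simp only [map_mul, map_inv, hae]
    rfl
  have hne' : Ab.subgroupOf (Tb : Subgroup (X ⧸ K)) ≠ ⊥ := by
    intro hbot
    apply hAbne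
    rw [eq_bot_iff]
    intro y hy
    have : (⟨y, hAbTb hy⟩ : (Tb : Subgroup (X ⧸ K))) ∈ Ab.subgroupOf (Tb : Subgroup (X ⧸ K)) := by
      rw [Subgroup.mem_subgroupOf]; exact hy
    rw [hbot, Subgroup.mem_bot] at this
    rw [Subgroup.mem_bot]
    exact congrArg Subtype.val this
  obtain ⟨z, hzN, hzc, hz2⟩ :=
    scz_exists_central_involution Tb.isPGroup' (Ab.subgroupOf (Tb : Subgroup (X ⧸ K))) hne'
  -- the involution
  set ub : X ⧸ K := (z : X ⧸ K) with hub
  have hub2 : orderOf ub = 2 := by rw [hub, Subgroup.orderOf_coe]; exact hz2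
  have hubT : ub ∈ (Tb : Subgroup (X ⧸ K)) := z.2
  have hubA : ub ∈ Ab := by rw [Subgroup.mem_subgroupOf] at hzN; exact hzN
  have hubc : ∀ t ∈ (Tb : Subgroup (X ⧸ K)), t * ub = ub * t := by
    intro t ht
    rw [Subgroup.mem_center_iff] at hzc
    have := hzc ⟨t, ht⟩
    exact congrArg Subtype.val this
  obtain ⟨a, haA, hae⟩ := hubA
  -- isolation
  have hiso : ∀ g : X ⧸ K, g * ub * g⁻¹ ∈ (Tb : Subgroup (X ⧸ K)) → g * ub * g⁻¹ = ub := by
    intro g hg
    obtain ⟨x, rfl⟩ := hπ g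
    have e1 : π x * ub * (π x)⁻¹ = π (x * a * x⁻¹) := by
      simp only [map_mul, map_inv, hae]
    rw [e1] at hg ⊢
    have h1 : x * a * x⁻¹ ∈ (T : Subgroup X) := (hmemT _).mp hg
    have h2 : x * a * x⁻¹ ∈ A := hA.2 a haA x h1
    obtain ⟨h, hh, b, hb, rfl⟩ := hXHA x
    set a' := b * a * b⁻¹ with ha'
    have ha'A : a' ∈ A := A.mul_mem (A.mul_mem hb haA) (A.inv_mem hb)
    have hπa' : π a' = ub := by
      have hbT : π b ∈ (Tb : Subgroup (X ⧸ K)) := (hmemT b).mpr (hAT hb)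
      have := hubc (π b) hbT
      rw [ha']
      simp only [map_mul, map_inv, hae]
      rw [this]; group
    have e2 : h * b * a * (h * b)⁻¹ = h * a' * h⁻¹ := by rw [ha']; group
    rw [e2] at h2 ⊢
    have h3 : h * a' * h⁻¹ * a'⁻¹ ∈ A ⊓ H := by
      refine Subgroup.mem_inf.mpr ⟨A.mul_mem h2 (A.inv_mem ha'A), ?_⟩
      have : a' * h⁻¹ * a'⁻¹ ∈ H := hHn.conj_mem _ (H.inv_mem hh) a'
      have e : h * a' * h⁻¹ * a'⁻¹ = h * (a' * h⁻¹ * a'⁻¹) := by group
      rw [e]; exact H.mul_mem hh this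
    rw [hdisj, Subgroup.mem_bot] at h3
    have h4 : h * a' * h⁻¹ = a' := by
      have := congrArg (· * a') h3
      simpa using this
    rw [h4, hπa']
  obtain ⟨Nb, hNbn, hNbodd, hNb⟩ := zstar_of_bs hBS Tb ub hub2 hubT hiso
  haveI := hNbn
  set L : Subgroup X := Nb.comap π ⊓ H with hL
  have hLn : L.Normal := inferInstance
  have hLH : L ≤ H := inf_le_right
  have hLodd : Odd (Nat.card L) := by
    have hmap : ∀ l : L, π (l : X) ∈ Nb := fun l => (Subgroup.mem_inf.mp l.2).1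
    let f : L →* Nb := (π.comp L.subtype).codRestrict Nb hmap
    have hf : Function.Injective f := by
      rw [injective_iff_map_eq_one]
      intro l hl
      have h1 : π (l : X) = 1 := congrArg Subtype.val hl
      have h2 : (l : X) ∈ K := (hkerπ _).mp h1
      have h3 : (l : X) ∈ A ⊓ H := Subgroup.mem_inf.mpr ⟨hKA h2, hLH l.2⟩
      rw [hdisj, Subgroup.mem_bot] at h3
      exact Subtype.ext h3
    have hdvd := Subgroup.card_dvd_of_injective f hf
    exact Odd.of_dvd_nat hNbodd hdvd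
  have hLbot : L = ⊥ := hO L hLH hLn hLodd
  have haC : a ∈ Subgroup.centralizer (H : Set X) := by
    rw [Subgroup.mem_centralizer_iff]
    intro h hh
    have h1 : a * h * a⁻¹ * h⁻¹ ∈ L := by
      refine Subgroup.mem_inf.mpr ⟨?_, ?_⟩
      · rw [Subgroup.mem_comap]
        have := hNb (π h)
        simpa only [map_mul, map_inv, hae] using this
      · exact H.mul_mem (hHn.conj_mem h hh a) (H.inv_mem hh)
    rw [hLbot, Subgroup.mem_bot] at h1
    have := congrArg (· * h * a) h1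
    simp only [one_mul] at this
    rw [← this]; group
  have haK : a ∈ K := Subgroup.mem_inf.mpr ⟨haA, haC⟩
  have : ub = 1 := by rw [← hae]; exact (hkerπ a).mpr haK
  rw [this, orderOf_one] at hub2
  omega

end Cfsg.Agent.Lib.Helper9
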