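import Mathlib
import Cfsg.Prelude.Def_TwoFusion
import Cfsg.Prelude.Def_CaseTheorems
import Cfsg.Agent.Lib.Helper9.SCZ1
import Cfsg.Agent.Lib.Helper9.SylowConj
import Cfsg.Agent.Lib.Helper18.PPrimeCore

set_option autoImplicit false

namespace Cfsg.Agent.Lib.Helper9

open Cfsg.Agent.Lib.Helper18 Cfsg.Agent.Lib.Helper18.ZStar

open scoped Pointwise in
theorem scz_mem_sup {G : Type*} [Group G] (H A : Subgroup G)
    (hAH : A ≤ Subgroup.normalizer (H : Set G)) (x : G) (hx : x ∈ H ⊔ A) :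
    ∃ h ∈ H, ∃ b ∈ A, x = h * b := by
  have h1 := Subgroup.coe_mul_of_right_le_normalizer_left H A hAH
  have h2 : x ∈ ((H ⊔ A : Subgroup G) : Set G) := hx
  rw [h1] at h2
  obtain ⟨h, hh, b, hb, rfl⟩ := h2
  exact ⟨h, hh, b, hb, rfl⟩

/-- If conjugation by `m` maps the finite subgroup `A` into itself then so does conjugation by
`m⁻¹`. -/
theorem scz_conj_inv_mem {G : Type*} [Group G] [Finite G] (A : Subgroup G) (m : G)
    (hm : ∀ a ∈ A, m * a * m⁻¹ ∈ A) (a : G) (ha : a ∈ A) : m⁻¹ * a * m ∈ A := by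
  let f : A → A := fun a => ⟨m * a * m⁻¹, hm a a.2⟩
  have hf : Function.Injective f := by
    intro a b hab
    have h1 : m * (a : G) * m⁻¹ = m * (b : G) * m⁻¹ := congrArg Subtype.val hab
    have h2 : (a : G) = b := by
      have := congrArg (fun y => m⁻¹ * y * m) h1
      simpa [mul_assoc] using this
    exact Subtype.ext h2
  obtain ⟨b, hb⟩ := (Finite.injective_iff_surjective.mp hf) ⟨a, ha⟩
  have h1 : m * (b : G) * m⁻¹ = a := congrArg Subtype.val hb
  have h2 : m⁻¹ * a * m = b := by rw [← h1]; group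
  rw [h2]; exact b.2

/-- S1251 modulo Brauer–Suzuki. -/
theorem scz_main.{u} (hBS : BSHyp.{u}) {G : Type u} [Group G] [Finite G] (S : Sylow 2 G)
    (A : Subgroup G) (hA : Cfsg.IsStronglyClosed A (S : Subgroup G)) (H : Subgroup G)
    (hAH : A ≤ Subgroup.normalizer (H : Set G)) (hO : Cfsg.oddCore ↥H = ⊥)
    (hdisj : A ⊓ H = ⊥) : A ≤ Subgroup.centralizer (H : Set G) := by
  haveI : Fact (Nat.Prime 2) := ⟨Nat.prime_two⟩
  set X : Subgroup G := H ⊔ A with hX
  have hHX : H ≤ X := le_sup_left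
  have hAX : A ≤ X := le_sup_right
  have hXN : X ≤ Subgroup.normalizer (H : Set G) := sup_le Subgroup.le_normalizer hAH
  haveI hHn : (H.subgroupOf X).Normal := Subgroup.normal_subgroupOf_of_le_normalizer hXN
  -- Sylow 2-subgroup of X containing A
  have hA2 : IsPGroup 2 (A.subgroupOf X) :=
    (S.isPGroup'.to_le hA.1).comap_of_injective X.subtype X.subtype_injective
  obtain ⟨T, hT⟩ := hA2.exists_le_sylow
  obtain ⟨m, hm⟩ := exists_sylow_conj_le S ((T : Subgroup X).map X.subtype)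
    (T.isPGroup'.map X.subtype)
  have hmA : ∀ a ∈ A, m * a * m⁻¹ ∈ A := by
    intro a ha
    have h1 : a ∈ (T : Subgroup X).map X.subtype :=
      ⟨⟨a, hAX ha⟩, hT (by rw [Subgroup.mem_subgroupOf]; exact ha), rfl⟩
    exact hA.2 a ha m (hm a h1)
  have hsc : Cfsg.IsStronglyClosed (A.subgroupOf X) (T : Subgroup X) := by
    refine ⟨hT, ?_⟩
    intro x hx g hg
    rw [Subgroup.mem_subgroupOf] at hx ⊢
    have h1 : ((g * x * g⁻¹ : X) : G) ∈ (T : Subgroup X).map X.subtype := ⟨_, hg, rfl⟩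
    have h2 := hm _ h1
    have e : m * ((g * x * g⁻¹ : X) : G) * m⁻¹ = (m * g) * (x : G) * (m * g)⁻¹ := by
      push_cast; group
    rw [e] at h2
    have h3 := hA.2 (x : G) hx (m * g) h2
    have h4 := scz_conj_inv_mem A m hmA _ h3
    have e2 : m⁻¹ * ((m * g) * (x : G) * (m * g)⁻¹) * m = ((g * x * g⁻¹ : X) : G) := by
      push_cast; group
    rw [e2] at h4
    exact h4
  have hXHA : ∀ x : X, ∃ h ∈ H.subgroupOf X, ∃ b ∈ A.subgroupOf X, x = h * b := by
    intro x
    obtain ⟨h, hh, b, hb, hxe⟩ := scz_mem_sup H A hAH (x : G) x.2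
    refine ⟨⟨h, hHX hh⟩, by rw [Subgroup.mem_subgroupOf]; exact hh, ⟨b, hAX hb⟩,
      by rw [Subgroup.mem_subgroupOf]; exact hb, Subtype.ext hxe⟩
  have hO' : ∀ L : Subgroup X, L ≤ H.subgroupOf X → L.Normal → Odd (Nat.card L) → L = ⊥ := by
    intro L hLH hLn hLodd
    haveI := hLn
    set L' : Subgroup H := L.comap (Subgroup.inclusion hHX) with hL'
    have hL'n : L'.Normal := inferInstance
    have hL'odd : Odd (Nat.card L') := by
      let f : L' →* L := ((Subgroup.inclusion hHX).comp L'.subtype).codRestrict L (fun l => l.2)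
      have hf : Function.Injective f := by
        intro a b hab
        have h1 : (Subgroup.inclusion hHX (a : H)) = Subgroup.inclusion hHX (b : H) :=
          congrArg Subtype.val hab
        exact Subtype.ext (Subgroup.inclusion_injective hHX h1)
      exact Odd.of_dvd_nat hLodd (Subgroup.card_dvd_of_injective f hf)
    have hL'le : L' ≤ Cfsg.oddCore ↥H := by
      apply le_pPrimeCore_h18 hL'n
      exact Nat.coprime_two_right.mpr hL'odd
    rw [hO] at hL'le
    rw [eq_bot_iff]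
    intro l hl
    have hlH : (l : G) ∈ H := by
      have := hLH hl
      rwa [Subgroup.mem_subgroupOf] at this
    have h1 : (⟨(l : G), hlH⟩ : H) ∈ L' := by
      rw [hL', Subgroup.mem_comap]
      have : Subgroup.inclusion hHX ⟨(l : G), hlH⟩ = l := Subtype.ext rfl
      rw [this]; exact hl
    have h2 := hL'le h1
    rw [Subgroup.mem_bot] at h2 ⊢
    have h3 : (l : G) = 1 := congrArg Subtype.val h2
    exact Subtype.ext h3
  have hdisj' : A.subgroupOf X ⊓ H.subgroupOf X = ⊥ := by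
    rw [eq_bot_iff]
    intro x hx
    obtain ⟨h1, h2⟩ := Subgroup.mem_inf.mp hx
    rw [Subgroup.mem_subgroupOf] at h1 h2
    have h3 : (x : G) ∈ A ⊓ H := Subgroup.mem_inf.mpr ⟨h1, h2⟩
    rw [hdisj, Subgroup.mem_bot] at h3
    rw [Subgroup.mem_bot]
    exact Subtype.ext h3
  have hmain := scz_core hBS T (A.subgroupOf X) (H.subgroupOf X) hsc hXHA hO' hdisj'
  intro a ha
  rw [Subgroup.mem_centralizer_iff]
  intro h hh
  have h1 : (⟨a, hAX ha⟩ : X) ∈ A.subgroupOf X := by rw [Subgroup.mem_subgroupOf]; exact ha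
  have h2 := hmain h1
  rw [Subgroup.mem_centralizer_iff] at h2
  have h3 := h2 ⟨h, hHX hh⟩ (by rw [SetLike.mem_coe, Subgroup.mem_subgroupOf]; exact hh)
  exact congrArg Subtype.val h3

end Cfsg.Agent.Lib.Helper9
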