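import Mathlib
import Cfsg.Prelude.Def_TwoFusion
import Cfsg.Agent.Lib.Helper9.SI1
import Cfsg.Agent.Lib.Helper9.SI2
import Cfsg.Agent.Lib.Helper1.AlperinUse

set_option autoImplicit false

namespace Cfsg.Agent.Lib.Helper9

open Cfsg.Agent.Lib.Helper13 Cfsg.Agent.S0116 Cfsg.Agent.Lib.Helper1

section

variable {X : Type*} [Group X] [Finite X] (S : Sylow 2 X) (D : WD ↥(S : Subgroup X))

/-- base group in `X` -/
noncomputable def siAX : Subgroup X := D.U.map (S : Subgroup X).subtype

/-- centre of `S` in `X` -/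
def siZX : Subgroup X := (Subgroup.center ↥(S : Subgroup X)).map (S : Subgroup X).subtype

theorem siAX_le : siAX S D ≤ (S : Subgroup X) := by
  rintro _ ⟨a, -, rfl⟩
  exact a.2

theorem siZX_le : siZX S ≤ (S : Subgroup X) := by
  rintro _ ⟨a, -, rfl⟩
  exact a.2

theorem mem_siAX_iff (x : X) (hx : x ∈ (S : Subgroup X)) :
    x ∈ siAX S D ↔ (⟨x, hx⟩ : ↥(S : Subgroup X)) ∈ D.U := by
  constructor
  · rintro ⟨a, ha, hax⟩
    have : a = ⟨x, hx⟩ := Subtype.ext hax
    rwa [← this]
  · intro h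
    exact ⟨⟨x, hx⟩, h, rfl⟩

theorem mem_siZX_iff (x : X) (hx : x ∈ (S : Subgroup X)) :
    x ∈ siZX S ↔ (⟨x, hx⟩ : ↥(S : Subgroup X)) ∈ Subgroup.center ↥(S : Subgroup X) := by
  constructor
  · rintro ⟨a, ha, hax⟩
    have : a = ⟨x, hx⟩ := Subtype.ext hax
    rwa [← this]
  · intro h
    exact ⟨⟨x, hx⟩, h, rfl⟩

theorem siZX_le_AX : siZX S ≤ siAX S D := Subgroup.map_mono D.si_center_le_U

theorem siZX_comm (y : X) (hy : y ∈ siZX S) (s : X) (hs : s ∈ (S : Subgroup X)) :
    s * y = y * s := by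
  obtain ⟨c, hc, rfl⟩ := hy
  have := Subgroup.mem_center_iff.mp hc ⟨s, hs⟩
  exact congrArg Subtype.val this

theorem siAX_comm : ∀ a ∈ siAX S D, ∀ b ∈ siAX S D, a * b = b * a := by
  intro a ha b hb
  obtain ⟨a', ha', rfl⟩ := ha
  obtain ⟨b', hb', rfl⟩ := hb
  exact congrArg Subtype.val (D.si_U_comm a' b' ha' hb')

theorem card_siAX : Nat.card (siAX S D) = 2 ^ (2 * D.n) := by
  unfold siAX
  rw [Subgroup.card_map_of_injective (Subgroup.subtype_injective _), D.card_U]

theorem si_two_pow (t : X) (ht : t ∈ (S : Subgroup X)) : ∃ k : ℕ, t ^ 2 ^ k = 1 := by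
  obtain ⟨k, hk⟩ := S.isPGroup' ⟨t, ht⟩
  exact ⟨k, by simpa using congrArg Subtype.val hk⟩

/-- the central involution -/
noncomputable def sizz : X := ((D.A D.u D.u : ↥(S : Subgroup X)) : X)

theorem sizz_sq : sizz S D * sizz S D = 1 := by
  have := congrArg Subtype.val D.si_zz_sq
  simpa [sizz] using this

theorem sizz_mem_ZX : sizz S D ∈ siZX S := ⟨_, D.si_zz_mem_center, rfl⟩

theorem si_invol_ZX (t : X) (ht : t ∈ siZX S) (h2 : t * t = 1) : t = 1 ∨ t = sizz S D := by
  obtain ⟨c, hc, rfl⟩ := ht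
  have h2' : c * c = 1 := Subtype.ext (by simpa using h2)
  rcases D.si_invol_center c hc h2' with h | h
  · left; rw [h]; rfl
  · right; rw [h]; rfl

theorem si_z_eq (z : X) (hzS : z ∈ (S : Subgroup X)) (hz : Cfsg.IsIsolatedInvolution z) :
    z = sizz S D := by
  have hc := si_isolated_central S z hzS hz
  have hcen : z ∈ siZX S := by
    rw [mem_siZX_iff S z hzS, Subgroup.mem_center_iff]
    intro g
    apply Subtype.ext
    exact hc g g.2
  have hz2 : z * z = 1 := by
    have := pow_orderOf_eq_one z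
    rwa [hz.1, pow_two] at this
  rcases si_invol_ZX S D z hcen hz2 with h | h
  · exfalso
    have := hz.1
    rw [h, orderOf_one] at this
    omega
  · exact h

/-- the base group is weakly closed -/
theorem si_weak (h : X) (hh : ∀ a ∈ siAX S D, h * a * h⁻¹ ∈ (S : Subgroup X)) :
    ∀ a ∈ siAX S D, h * a * h⁻¹ ∈ siAX S D := by
  set W : Subgroup X := (siAX S D).map (MulAut.conj h).toMonoidHom with hW
  have hWS : W ≤ (S : Subgroup X) := by
    rintro _ ⟨a, ha, rfl⟩
    exact hh a ha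
  set B : Subgroup ↥(S : Subgroup X) := W.subgroupOf (S : Subgroup X) with hB
  have hab : ∀ a ∈ B, ∀ b ∈ B, a * b = b * a := by
    intro a ha b hb
    rw [hB, Subgroup.mem_subgroupOf] at ha hb
    obtain ⟨a', ha', ea⟩ := ha
    obtain ⟨b', hb', eb⟩ := hb
    apply Subtype.ext
    simp only [Subgroup.coe_mul]
    rw [← ea, ← eb]
    have := siAX_comm S D a' ha' b' hb'
    show h * a' * h⁻¹ * (h * b' * h⁻¹) = h * b' * h⁻¹ * (h * a' * h⁻¹)
    calc h * a' * h⁻¹ * (h * b' * h⁻¹) = h * (a' * b') * h⁻¹ := by group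
      _ = h * (b' * a') * h⁻¹ := by rw [this]
      _ = h * b' * h⁻¹ * (h * a' * h⁻¹) := by group
  have hcard : Nat.card B = 2 ^ (2 * D.n) := by
    rw [hB, Nat.card_congr (Subgroup.subgroupOfEquivOfLe hWS).toEquiv, hW,
      Subgroup.card_map_of_injective (MulAut.conj h).injective, card_siAX]
  have hBU := D.si_abelian_eq_U B hab hcard
  intro a ha
  have h1 : h * a * h⁻¹ ∈ W := ⟨a, ha, rfl⟩
  rw [mem_siAX_iff S D _ (hh a ha), ← hBU, hB, Subgroup.mem_subgroupOf]
  exact h1

theorem si_weak_normalizer (h : X) (hh : ∀ a ∈ siAX S D, h * a * h⁻¹ ∈ (S : Subgroup X)) :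
    h ∈ Subgroup.normalizer (siAX S D : Set X) :=
  Subgroup.mem_normalizer_fintype (si_weak S D h hh)

theorem si_S_le_normalizer : (S : Subgroup X) ≤ Subgroup.normalizer (siAX S D : Set X) := by
  intro s hs
  apply si_weak_normalizer
  intro a ha
  exact (S : Subgroup X).mul_mem ((S : Subgroup X).mul_mem hs (siAX_le S D ha))
    ((S : Subgroup X).inv_mem hs)

/-- odd order elements of the normalizer of the base group centralize it -/
theorem si_odd_centralizes_AX (z : X) (hzS : z ∈ (S : Subgroup X))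
    (hz : Cfsg.IsIsolatedInvolution z) (g : X) (hg : Odd (orderOf g))
    (hgN : g ∈ Subgroup.normalizer (siAX S D : Set X)) :
    ∀ a ∈ siAX S D, g * a * g⁻¹ = a := by
  have hzz := si_z_eq S D z hzS hz
  have hgT : ∀ t ∈ siAX S D, g * t * g⁻¹ ∈ siAX S D :=
    fun t ht => (Subgroup.mem_normalizer_iff.mp hgN t).mp ht
  have hzA : sizz S D ∈ siAX S D := siZX_le_AX S D (sizz_mem_ZX S D)
  apply si_abelian_fix (siAX S D) (siAX_comm S D) (fun t ht => si_two_pow S t (siAX_le S D ht))
    g hg hgT (sizz S D) ((D.A D.u 0 : ↥(S : Subgroup X)) : X)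
  · rw [← hzz]
    apply hz.2
    have h1 : g * z * g⁻¹ ∈ siAX S D := hgT z (hzz ▸ hzA)
    exact siAX_comm S D _ (hzz ▸ hzA) _ h1
  · exact sizz_sq S D
  · intro t ht h2
    obtain ⟨a, ha, rfl⟩ := ht
    have h2' : a * a = 1 := Subtype.ext (by simpa using h2)
    rcases D.si_invol_U a ha h2' with h | h | h | h
    · left; rw [h]; rfl
    · right; left; rw [h]; rfl
    · right; right; left; rw [h]; rfl
    · right; right; right; rw [h]; rfl

theorem si_normalizer_AX_le (z : X) (hzS : z ∈ (S : Subgroup X))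
    (hz : Cfsg.IsIsolatedInvolution z) (y : X) (hy : y ∈ siZX S) :
    Subgroup.normalizer (siAX S D : Set X) ≤ Subgroup.centralizer {y} := by
  haveI : Fact (Nat.Prime 2) := ⟨Nat.prime_two⟩
  apply si_le_of_odd _ (S : Subgroup X)
  · rw [inf_eq_left.mpr (si_S_le_normalizer S D)]
    intro h
    exact S.not_dvd_index (dvd_trans h (Subgroup.relIndex_dvd_index_of_le (si_S_le_normalizer S D)))
  · intro s hs
    rw [Subgroup.mem_centralizer_singleton_iff]
    exact siZX_comm S y hy s hs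
  · intro g hgN hg
    rw [Subgroup.mem_centralizer_singleton_iff]
    have := si_odd_centralizes_AX S D z hzS hz g hg hgN y (siZX_le_AX S D hy)
    calc g * y = (g * y * g⁻¹) * g := by group
      _ = y * g := by rw [this]

/-- Burnside's fusion lemma for the weakly closed base group -/
theorem si_burnside (z : X) (hzS : z ∈ (S : Subgroup X))
    (hz : Cfsg.IsIsolatedInvolution z) (y : X) (hy : y ∈ siZX S) (g : X)
    (hgy : g * y * g⁻¹ ∈ siAX S D) : g * y * g⁻¹ = y := by
  haveI : Fact (Nat.Prime 2) := ⟨Nat.prime_two⟩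
  set H : Subgroup X := Subgroup.centralizer {y} with hH
  have hSH : (S : Subgroup X) ≤ H := by
    intro s hs
    rw [hH, Subgroup.mem_centralizer_singleton_iff]
    exact siZX_comm S y hy s hs
  set Q : Subgroup X := (siAX S D).map (MulAut.conj g⁻¹).toMonoidHom with hQ
  have hQ2 : IsPGroup 2 Q := (S.isPGroup'.to_le (siAX_le S D)).map _
  have hQH : Q ≤ H := by
    rintro _ ⟨a, ha, rfl⟩
    rw [hH, Subgroup.mem_centralizer_singleton_iff]
    have h1 := siAX_comm S D a ha (g * y * g⁻¹) hgy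
    show g⁻¹ * a * g⁻¹⁻¹ * y = y * (g⁻¹ * a * g⁻¹⁻¹)
    calc g⁻¹ * a * g⁻¹⁻¹ * y = g⁻¹ * (a * (g * y * g⁻¹)) * g := by group
      _ = g⁻¹ * ((g * y * g⁻¹) * a) * g := by rw [h1]
      _ = y * (g⁻¹ * a * g⁻¹⁻¹) := by group
  obtain ⟨m, hmH, hm⟩ := exists_conj_le_sylow_of_le H S hSH Q hQ2 hQH
  have hh : ∀ a ∈ siAX S D, (m * g⁻¹) * a * (m * g⁻¹)⁻¹ ∈ (S : Subgroup X) := by
    intro a ha
    have h1 : g⁻¹ * a * g⁻¹⁻¹ ∈ Q := ⟨a, ha, rfl⟩
    have h2 := hm _ h1
    have e : (m * g⁻¹) * a * (m * g⁻¹)⁻¹ = m * (g⁻¹ * a * g⁻¹⁻¹) * m⁻¹ := by group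
    rw [e]
    exact h2
  have hN := si_normalizer_AX_le S D z hzS hz y hy (si_weak_normalizer S D _ hh)
  rw [Subgroup.mem_centralizer_singleton_iff] at hN
  rw [hH, Subgroup.mem_centralizer_singleton_iff] at hmH
  -- `m g⁻¹` and `m` commute with `y`
  have h3 : g⁻¹ * y = y * g⁻¹ := by
    calc g⁻¹ * y = m⁻¹ * ((m * g⁻¹) * y) := by group
      _ = m⁻¹ * (y * (m * g⁻¹)) := by rw [hN]
      _ = m⁻¹ * (y * m) * g⁻¹ := by group
      _ = m⁻¹ * (m * y) * g⁻¹ := by rw [hmH]
      _ = y * g⁻¹ := by group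
  calc g * y * g⁻¹ = g * (y * g⁻¹) := by group
    _ = g * (g⁻¹ * y) := by rw [h3]
    _ = y := by group

/-- the central involution is a power of every nontrivial central element -/
theorem si_zz_mem_zpowers (y : X) (hy : y ∈ siZX S) (hy1 : y ≠ 1) :
    sizz S D ∈ Subgroup.zpowers y := by
  obtain ⟨k, hk⟩ := (IsPGroup.iff_orderOf.mp S.isPGroup') ⟨y, siZX_le S hy⟩
  rw [Subgroup.orderOf_mk] at hk
  have hk0 : k ≠ 0 := by
    rintro rfl
    rw [pow_zero, orderOf_eq_one_iff] at hk
    exact hy1 hk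
  obtain ⟨j, rfl⟩ := Nat.exists_eq_succ_of_ne_zero hk0
  have h1 : y ^ 2 ^ j ∈ siZX S := (siZX S).pow_mem hy _
  have h2 : y ^ 2 ^ j * y ^ 2 ^ j = 1 := by
    rw [← pow_add, ← two_mul, ← pow_succ', ← hk, pow_orderOf_eq_one]
  rcases si_invol_ZX S D _ h1 h2 with h | h
  · exfalso
    have h3 := orderOf_dvd_of_pow_eq_one h
    rw [hk] at h3
    have h4 := Nat.le_of_dvd (by positivity) h3
    have h5 : 2 ^ j < 2 ^ (j + 1) := Nat.pow_lt_pow_right (by norm_num) (by omega)
    omega
  · rw [← h]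
    exact Subgroup.pow_mem _ (Subgroup.mem_zpowers y) _

/-- involutions in an abelian subgroup centralized by an element outside the base group -/
theorem si_invol_T' (T' : Subgroup X) (hT'S : T' ≤ (S : Subgroup X))
    (hab : ∀ a ∈ T', ∀ b ∈ T', a * b = b * a) (s : X) (hsS : s ∈ (S : Subgroup X))
    (hsA : s ∉ siAX S D) (hs : ∀ t ∈ T', s * t = t * s) :
    ∃ w : X, ∀ t ∈ T', t * t = 1 → t = 1 ∨ t = sizz S D ∨ t = w ∨ t = w * sizz S D := by
  have hA : ∀ t ∈ T', t ∈ siAX S D → t * t = 1 → t = 1 ∨ t = sizz S D := by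
    intro t ht htA ht2
    apply si_invol_ZX S D t _ ht2
    rw [mem_siZX_iff S t (hT'S ht)]
    rw [mem_siAX_iff S D t (hT'S ht)] at htA
    rw [mem_siAX_iff S D s hsS] at hsA
    apply D.si_mem_center_of_comm _ ⟨s, hsS⟩ htA hsA
    exact Subtype.ext (hs t ht)
  by_cases hw : ∃ w ∈ T', w * w = 1 ∧ w ∉ siAX S D
  · obtain ⟨w, hwT, hw2, hwA⟩ := hw
    refine ⟨w, fun t ht ht2 => ?_⟩
    by_cases htA : t ∈ siAX S D
    · rcases hA t ht htA ht2 with h | h
      · left; exact h
      · right; left; exact h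
    · have h1 : w * t ∈ siAX S D := by
        rw [mem_siAX_iff S D _ ((S : Subgroup X).mul_mem (hT'S hwT) (hT'S ht))]
        rw [mem_siAX_iff S D t (hT'S ht)] at htA
        rw [mem_siAX_iff S D w (hT'S hwT)] at hwA
        exact D.si_mul_mem_U ⟨w, hT'S hwT⟩ ⟨t, hT'S ht⟩ hwA htA
      have h2 : (w * t) * (w * t) = 1 := by
        calc (w * t) * (w * t) = w * (t * w) * t := by group
          _ = w * (w * t) * t := by rw [hab t ht w hwT]
          _ = (w * w) * (t * t) := by group
          _ = 1 := by rw [hw2, ht2, one_mul]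
      have hwinv : w⁻¹ = w := inv_eq_of_mul_eq_one_left hw2
      rcases hA _ (T'.mul_mem hwT ht) h1 h2 with h | h
      · right; right; left
        calc t = w⁻¹ * (w * t) := by group
          _ = w := by rw [h, mul_one, hwinv]
      · right; right; right
        calc t = w⁻¹ * (w * t) := by group
          _ = w * sizz S D := by rw [h, hwinv]
  · refine ⟨sizz S D, fun t ht ht2 => ?_⟩
    by_cases htA : t ∈ siAX S D
    · rcases hA t ht htA ht2 with h | h
      · left; exact h
      · right; left; exact h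
    · exact absurd ⟨t, ht, ht2, htA⟩ hw

include D in
/-- normalizers of tame intersections containing a central element centralize it -/
theorem si_tame_fix (z : X) (hzS : z ∈ (S : Subgroup X))
    (hz : Cfsg.IsIsolatedInvolution z) (y : X) (hy : y ∈ siZX S) (hy1 : y ≠ 1)
    (T : Subgroup X) (hT : T ∈ tame 2 (S : Subgroup X)) (hyT : y ∈ T) :
    ∀ x ∈ Subgroup.normalizer (T : Set X), x⁻¹ * y * x = y := by
  obtain ⟨Q, -, -, hTPQ, hS1, -⟩ := hT
  have hTS : T ≤ (S : Subgroup X) := hTPQ ▸ inf_le_left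
  have hzz := si_z_eq S D z hzS hz
  have hle : Subgroup.normalizer (T : Set X) ≤ Subgroup.centralizer {y} := by
    apply si_le_of_odd _ (S : Subgroup X) _ hS1
    · intro s hs
      rw [Subgroup.mem_centralizer_singleton_iff]
      exact siZX_comm S y hy s hs
    · intro g hgN hg
      rw [Subgroup.mem_centralizer_singleton_iff]
      have hgT : ∀ t ∈ T, g * t * g⁻¹ ∈ T :=
        fun t ht => (Subgroup.mem_normalizer_iff.mp hgN t).mp ht
      suffices h : g * y * g⁻¹ = y by
        calc g * y = (g * y * g⁻¹) * g := by group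
          _ = y * g := by rw [h]
      by_cases hTA : T ≤ siAX S D
      · exact si_burnside S D z hzS hz y hy g (hTA (hgT y hyT))
      · obtain ⟨s, hsT, hsA⟩ := SetLike.not_le_iff_exists.mp hTA
        have hzzT : sizz S D ∈ T :=
          (Subgroup.zpowers_le.mpr hyT) (si_zz_mem_zpowers S D y hy hy1)
        set T' : Subgroup X := T ⊓ Subgroup.centralizer (T : Set X) with hT'
        have hT'S : T' ≤ (S : Subgroup X) := inf_le_left.trans hTS
        have hab : ∀ a ∈ T', ∀ b ∈ T', a * b = b * a := by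
          intro a ha b hb
          exact (Subgroup.mem_centralizer_iff.mp ha.2 b hb.1).symm
        have hgT' : ∀ t ∈ T', g * t * g⁻¹ ∈ T' := by
          intro t ht
          refine Subgroup.mem_inf.mpr ⟨hgT t ht.1, ?_⟩
          rw [Subgroup.mem_centralizer_iff]
          intro b hb
          have hb' : g⁻¹ * b * g ∈ T := by
            have := (Subgroup.mem_normalizer_iff.mp (Subgroup.inv_mem _ hgN) b).mp hb
            simpa using this
          have h1 := Subgroup.mem_centralizer_iff.mp ht.2 _ hb'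
          calc b * (g * t * g⁻¹) = g * ((g⁻¹ * b * g) * t) * g⁻¹ := by group
            _ = g * (t * (g⁻¹ * b * g)) * g⁻¹ := by rw [h1]
            _ = g * t * g⁻¹ * b := by group
        have hs' : ∀ t ∈ T', s * t = t * s := by
          intro t ht
          exact Subgroup.mem_centralizer_iff.mp ht.2 s hsT
        obtain ⟨w, hw⟩ := si_invol_T' S D T' hT'S hab s (hTS hsT) hsA hs'
        have hcen : ∀ c ∈ siZX S, c ∈ T → c ∈ T' := by
          intro c hc hcT
          refine Subgroup.mem_inf.mpr ⟨hcT, ?_⟩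
          rw [Subgroup.mem_centralizer_iff]
          intro b hb
          exact siZX_comm S c hc b (hTS hb)
        have hfix : g * sizz S D * g⁻¹ = sizz S D := by
          rw [← hzz]
          apply hz.2
          have h1 : g * z * g⁻¹ ∈ (S : Subgroup X) := hTS (hgT z (hzz ▸ hzzT))
          exact (siZX_comm S z (hzz ▸ sizz_mem_ZX S D) _ h1).symm
        exact si_abelian_fix T' hab (fun t ht => si_two_pow S t (hT'S ht)) g hg hgT'
          (sizz S D) w hfix (sizz_sq S D) hw y (hcen y hy hyT)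
  intro x hx
  have := hle hx
  rw [Subgroup.mem_centralizer_singleton_iff] at this
  calc x⁻¹ * y * x = x⁻¹ * (y * x) := by group
    _ = x⁻¹ * (x * y) := by rw [this]
    _ = y := by group

include D in
/-- central elements of a wreathed Sylow `2`-subgroup are isolated -/
theorem si_wr_iso (z : X) (hzS : z ∈ (S : Subgroup X)) (hz : Cfsg.IsIsolatedInvolution z) :
    ∀ y ∈ siZX S, ∀ g : X, g * y * g⁻¹ ∈ (S : Subgroup X) → g * y * g⁻¹ = y := by
  haveI : Fact (Nat.Prime 2) := ⟨Nat.prime_two⟩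
  intro y hy g hgS
  by_cases hy1 : y = 1
  · rw [hy1]; group
  have hRS : Subgroup.zpowers y ≤ (S : Subgroup X) := Subgroup.zpowers_le.mpr (siZX_le S hy)
  have hRg : rc (Subgroup.zpowers y) g⁻¹ ≤ (S : Subgroup X) := by
    intro a ha
    rw [mem_rc] at ha
    obtain ⟨k, hk⟩ := Subgroup.mem_zpowers_iff.mp ha
    have e : a = (g * y * g⁻¹) ^ k := by
      rw [conj_zpow, hk]
      group
    rw [e]
    exact Subgroup.zpow_mem _ hgS k
  have hchain := alperin_chain S _ hRS g⁻¹ hRg
  have := si_chain_fix y (fun T hT hyT => si_tame_fix S D z hzS hz y hy hy1 T hT hyT) hchain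
    (Subgroup.mem_zpowers y)
  rwa [inv_inv] at this

end

end Cfsg.Agent.Lib.Helper9
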