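import Mathlib
import Cfsg.Prelude.Def_CaseTheorems
import Cfsg.Prelude.Def_TwoFusion
import Cfsg.Agent.Lib.Helper9.SI3
import Cfsg.Agent.Lib.Helper9.QD3
import Cfsg.Agent.Lib.Helper9.ZCorBS
import Cfsg.Agent.Lib.Helper18.ZStarFus

set_option autoImplicit false

namespace Cfsg.Agent.Lib.Helper9

open Cfsg.Agent.Lib.Helper18 Cfsg.Agent.Lib.Helper18.ZStar

/-- if the elements of the centre of a Sylow `2`-subgroup are isolated then `O(X) Z(S)` is
normal -/
theorem si_normal_of_iso {X : Type*} [Group X] [Finite X] (S : Sylow 2 X)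
    (hiso : ∀ y ∈ siZX S, ∀ g : X, g * y * g⁻¹ ∈ (S : Subgroup X) → g * y * g⁻¹ = y) :
    (Cfsg.oddCore X ⊔ siZX S).Normal := by
  have hcomm := zs_iso_subgroup zc_bsHyp _ X rfl S (siZX S) (siZX_le S) hiso
  haveI hNn : (Cfsg.pPrimeCore 2 X).Normal := pPrimeCore_normal_h18 2 X
  have hmap : ∀ g : X, (Cfsg.oddCore X ⊔ siZX S).map (MulAut.conj g).toMonoidHom ≤
      Cfsg.oddCore X ⊔ siZX S := by
    intro g
    rw [Subgroup.map_sup]
    apply sup_le
    · refine le_trans ?_ le_sup_left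
      rintro _ ⟨o, ho, rfl⟩
      exact hNn.conj_mem o ho g
    · rintro _ ⟨y, hy, rfl⟩
      show g * y * g⁻¹ ∈ _
      have h1 := hcomm y hy g
      have h2 : g * y * g⁻¹ * y⁻¹ ∈ Cfsg.oddCore X := by
        have := (Cfsg.pPrimeCore 2 X).inv_mem h1
        have e : (y * g * y⁻¹ * g⁻¹)⁻¹ = g * y * g⁻¹ * y⁻¹ := by group
        rwa [e] at this
      have e : g * y * g⁻¹ = (g * y * g⁻¹ * y⁻¹) * y := by group
      rw [e]
      exact Subgroup.mul_mem _ (Subgroup.mem_sup_left h2) (Subgroup.mem_sup_right hy)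
  exact ⟨fun n hn g => hmap g ⟨n, hn, rfl⟩⟩

/-- the quasi-dihedral case -/
theorem si_qd_iso {X : Type*} [Group X] [Finite X] (S : Sylow 2 X)
    (D : QD ↥(S : Subgroup X)) (z : X) (hzS : z ∈ (S : Subgroup X))
    (hz : Cfsg.IsIsolatedInvolution z) :
    ∀ y ∈ siZX S, ∀ g : X, g * y * g⁻¹ ∈ (S : Subgroup X) → g * y * g⁻¹ = y := by
  have hc := si_isolated_central S z hzS hz
  have hcen : (⟨z, hzS⟩ : ↥(S : Subgroup X)) ∈ Subgroup.center ↥(S : Subgroup X) := by
    rw [Subgroup.mem_center_iff]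
    intro g
    apply Subtype.ext
    exact hc g g.2
  have hzD : (⟨z, hzS⟩ : ↥(S : Subgroup X)) = D.z := by
    rcases (D.mem_center_iff _).mp hcen with h | h
    · exfalso
      have h1 : z = 1 := congrArg Subtype.val h
      have := hz.1
      rw [h1, orderOf_one] at this
      omega
    · exact h
  rintro _ ⟨c, hc', rfl⟩ g hgS
  rcases (D.mem_center_iff _).mp hc' with h | h
  · rw [h]
    simp
  · rw [h, ← hzD]
    show g * z * g⁻¹ = z
    rw [h, ← hzD] at hgS
    apply hz.2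
    exact (hc _ hgS).symm

end Cfsg.Agent.Lib.Helper9
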