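import Mathlib
import Cfsg.Agent.Lib.helper17.SLP.Defs

/-!
# SLP row B1, spare (helper9): Baumslag's trick under the own name `slpb1_h9_baumslag`
(exact Skel statement of `baumslag`).
-/

set_option autoImplicit false

namespace Cfsg.Agent.Lib.helper17.SLP

universe u v

/-- conjugating a commuting pair `cj T u a`, `cj T u b` by a power of `T`. -/
theorem slpb1_h9_shift {G : Type*} [Group G] (u T : G) (a b i : ℤ)
    (h : Commute (cj T u a) (cj T u b)) : Commute (cj T u (i + a)) (cj T u (i + b)) := by
  rw [← conj_cj T u a i, ← conj_cj T u b i, zpow_neg]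
  exact (Commute.conj_iff (T ^ i)).mpr h

/-- `S (cj T u j) S⁻¹ = cj T u (j+1) * cj T u j`. -/
theorem slpb1_h9_conjS {G : Type*} [Group G] (u S T : G) (hST : Commute S T)
    (h2 : cj S u 1 = cj T u 1 * u) (j : ℤ) :
    S * cj T u j * S⁻¹ = cj T u (j + 1) * cj T u j := by
  have hS1 : S * u * S⁻¹ = cj T u 1 * u := by rw [← cj_one]; exact h2
  have c1 : Commute S (T ^ j) := hST.zpow_right j
  have c2 : Commute (T ^ (-j)) S⁻¹ := ((hST.zpow_right (-j)).inv_left).symm
  have e : S * cj T u j * S⁻¹ = T ^ j * (S * u * S⁻¹) * T ^ (-j) := by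
    unfold cj
    calc S * (T ^ j * u * T ^ (-j)) * S⁻¹ = (S * T ^ j) * u * (T ^ (-j) * S⁻¹) := by group
      _ = (T ^ j * S) * u * (S⁻¹ * T ^ (-j)) := by rw [c1.eq, c2.eq]
      _ = T ^ j * (S * u * S⁻¹) * T ^ (-j) := by group
  rw [e, hS1]
  have e2 : T ^ j * (cj T u 1 * u) * T ^ (-j) =
      (T ^ j * cj T u 1 * T ^ (-j)) * (T ^ j * cj T u 0 * T ^ (-j)) := by
    rw [cj_zero]; group
  rw [e2, conj_cj, conj_cj, add_zero]

/-- the cancellation step of Baumslag's trick. -/
theorem slpb1_h9_alg {G : Type*} [Group G] (a b c d : G) (hac : Commute a c) (hbc : Commute b c)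
    (hbd : Commute b d) (h : Commute (b * a) (d * c)) : Commute a d := by
  have e3 : b * a * (d * c) = d * c * (b * a) := h.eq
  have e4 : b * (a * d) * c = b * (d * a) * c := by
    calc b * (a * d) * c = b * a * (d * c) := by group
      _ = d * c * (b * a) := e3
      _ = d * (c * b) * a := by group
      _ = d * (b * c) * a := by rw [hbc.eq]
      _ = (d * b) * (c * a) := by group
      _ = (b * d) * (a * c) := by rw [hbd.eq, hac.eq]
      _ = b * (d * a) * c := by group
  exact mul_left_cancel (mul_right_cancel e4)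

/-- B1 spare: exact Skel statement of `baumslag`. -/
theorem slpb1_h9_baumslag {G : Type*} [Group G] (u S T : G) (hST : Commute S T)
    (h1 : Commute u (cj T u 1)) (h2 : cj S u 1 = cj T u 1 * u) : ∀ j : ℤ, Commute u (cj T u j) := by
  have hv0 : cj T u 0 = u := cj_zero T u
  -- nonnegative indices, by strong induction
  have key : ∀ k : ℕ, ∀ j : ℕ, j ≤ k → Commute u (cj T u (j : ℤ)) := by
    intro k
    induction k with
    | zero =>
      intro j hj
      have : j = 0 := by omega
      subst this
      simp [cj_zero]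
    | succ k ih =>
      intro j hj
      rcases Nat.lt_or_ge j (k + 1) with hlt | hge
      · exact ih j (by omega)
      have hjk : j = k + 1 := by omega
      subst hjk
      rcases Nat.eq_zero_or_pos k with hk0 | hkpos
      · subst hk0
        simpa using h1
      -- general commuting: |a - b| ≤ k
      have hab : ∀ (a : ℤ) (d : ℕ), d ≤ k → Commute (cj T u a) (cj T u (a + d)) := by
        intro a d hd
        have := slpb1_h9_shift u T 0 (d : ℤ) a (by rw [hv0]; exact ih d hd)
        simpa using this
      have hac : Commute u (cj T u (k : ℤ)) := ih k le_rfl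
      have hbc : Commute (cj T u 1) (cj T u (k : ℤ)) := by
        have := hab 1 (k - 1) (by omega)
        have e : (1 : ℤ) + ((k - 1 : ℕ) : ℤ) = (k : ℤ) := by
          have : 1 ≤ k := hkpos
          omega
        rw [e] at this; exact this
      have hbd : Commute (cj T u 1) (cj T u ((k : ℤ) + 1)) := by
        have := hab 1 k le_rfl
        have e : (1 : ℤ) + (k : ℤ) = (k : ℤ) + 1 := by ring
        rw [e] at this; exact this
      -- conjugate `Commute u c` by `S`
      have c1 : Commute (S * u * S⁻¹) (S * cj T u (k : ℤ) * S⁻¹) := (Commute.conj_iff S).mpr hac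
      have e1 : S * u * S⁻¹ = cj T u 1 * u := by
        have := slpb1_h9_conjS u S T hST h2 0
        rw [hv0] at this
        rw [this]; norm_num
      have e2 : S * cj T u (k : ℤ) * S⁻¹ = cj T u ((k : ℤ) + 1) * cj T u (k : ℤ) :=
        slpb1_h9_conjS u S T hST h2 k
      rw [e1, e2] at c1
      have := slpb1_h9_alg u (cj T u 1) (cj T u (k : ℤ)) (cj T u ((k : ℤ) + 1)) hac hbc hbd c1
      have e6 : ((k + 1 : ℕ) : ℤ) = (k : ℤ) + 1 := by push_cast; ring
      rw [e6]; exact this
  intro j
  rcases Int.le_total 0 j with hj | hj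
  · obtain ⟨n, rfl⟩ := Int.eq_ofNat_of_zero_le hj
    exact key n n le_rfl
  · obtain ⟨n, hn⟩ := Int.eq_ofNat_of_zero_le (neg_nonneg.mpr hj)
    have hjn : j = -(n : ℤ) := by omega
    subst hjn
    have h0 : Commute (cj T u 0) (cj T u (n : ℤ)) := by rw [hv0]; exact key n n le_rfl
    have := slpb1_h9_shift u T 0 (n : ℤ) (-(n : ℤ)) h0
    simp only [add_zero, neg_add_cancel] at this
    rw [hv0] at this
    exact this.symm

end Cfsg.Agent.Lib.helper17.SLP
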