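import Cfsg.Agent.Lib.Helper28.SP4R3

/-!
# SP4 row T7 (`act_cd`): core on the statements of T2 (`tor_weyl`), T5 (`act_ab`), T6 (`act_ba`)
(second-write; row owner: helper17)
-/

set_option autoImplicit false

namespace Cfsg.Agent.Lib.helper3.SP4

open Cfsg.Agent.Lib.helper17.SLP
open Polynomial

universe u v

section T

variable {F : Type u} [Field F] {G : Type v} [Group G]

theorem sp4t7_act_congr (g : G) (X : F → G) (c c' : F) (hc : c = c') (h : Act g X c) :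
    Act g X c' := hc ▸ h

/-- core of T7: the conclusion of `act_cd` from the conclusions of `tor_weyl` (first two parts), `act_ab`, `act_ba`. -/
theorem sp4t7_core (φa φb : Matrix.SpecialLinearGroup (Fin 2) F →* G)
    (hwa : ∀ r : Fˣ, rn φa * rh φb r * (rn φa)⁻¹ = rh φb r * rh φa r)
    (hwb : ∀ s : Fˣ, rn φb * rh φa s * (rn φb)⁻¹ = rh φa s * rh φb (s ^ 2))
    (hT5 : ∀ r : Fˣ, Act (rh φb r) (rx φa) ((r⁻¹ : Fˣ) : F))
    (hT6 : ∀ s : Fˣ, Act (rh φa s) (rx φb) (((s⁻¹ : Fˣ) : F) ^ 2)) :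
    (∀ s : Fˣ, Act (rh φa s) (xc φa φb) 1) ∧ (∀ r : Fˣ, Act (rh φb r) (xc φa φb) (r : F)) ∧
      (∀ s : Fˣ, Act (rh φa s) (xd φa φb) ((s : F) ^ 2)) ∧ (∀ r : Fˣ, Act (rh φb r) (xd φa φb) 1) := by
  obtain ⟨-, -, -, -, -, -, -, a8, a9, -⟩ := r_basic φa
  obtain ⟨-, -, -, -, -, -, -, b8, b9, -⟩ := r_basic φb
  refine ⟨?_, ?_, ?_, ?_⟩
  · intro s
    have h1 : Act (rh φa s * rh φb (s ^ 2)) (rx φa) ((s : F) ^ 2 * (((s ^ 2)⁻¹ : Fˣ) : F)) :=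
      act_mul _ _ _ _ _ (a8 s) (hT5 (s ^ 2))
    have hc : (s : F) ^ 2 * (((s ^ 2)⁻¹ : Fˣ) : F) = 1 := by
      rw [Units.val_inv_eq_inv_val, Units.val_pow_eq_pow_val]
      exact mul_inv_cancel₀ (pow_ne_zero _ s.ne_zero)
    have h2 : Act (rn φb * rh φa s * (rn φb)⁻¹) (rx φa) 1 := by
      rw [hwb s]
      exact sp4t7_act_congr _ _ _ _ hc h1
    exact act_conj (rh φa s) (rn φb) (rx φa) 1 h2
  · intro r
    have hne : ((r⁻¹ : Fˣ) : F) ≠ 0 := (r⁻¹).ne_zero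
    have h1 : Act (rh φb r)⁻¹ (rx φa) (((r⁻¹ : Fˣ) : F))⁻¹ := act_inv _ _ _ hne (hT5 r)
    have hc : (((r⁻¹ : Fˣ) : F))⁻¹ = (r : F) := by
      rw [Units.val_inv_eq_inv_val, inv_inv]
    have h2 : Act (rn φb * rh φb r * (rn φb)⁻¹) (rx φa) (r : F) := by
      rw [b9 r]
      exact sp4t7_act_congr _ _ _ _ hc h1
    exact act_conj (rh φb r) (rn φb) (rx φa) (r : F) h2
  · intro s
    have hne : (((s⁻¹ : Fˣ) : F)) ^ 2 ≠ 0 := pow_ne_zero _ (s⁻¹).ne_zero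
    have h1 : Act (rh φa s)⁻¹ (rx φb) ((((s⁻¹ : Fˣ) : F)) ^ 2)⁻¹ := act_inv _ _ _ hne (hT6 s)
    have hc : ((((s⁻¹ : Fˣ) : F)) ^ 2)⁻¹ = (s : F) ^ 2 := by
      rw [Units.val_inv_eq_inv_val, inv_pow, inv_inv]
    have h2 : Act (rn φa * rh φa s * (rn φa)⁻¹) (rx φb) ((s : F) ^ 2) := by
      rw [a9 s]
      exact sp4t7_act_congr _ _ _ _ hc h1
    exact act_conj (rh φa s) (rn φa) (rx φb) ((s : F) ^ 2) h2
  · intro r
    have h1 : Act (rh φb r * rh φa r) (rx φb) ((r : F) ^ 2 * (((r⁻¹ : Fˣ) : F)) ^ 2) :=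
      act_mul _ _ _ _ _ (b8 r) (hT6 r)
    have hc : (r : F) ^ 2 * (((r⁻¹ : Fˣ) : F)) ^ 2 = 1 := by
      rw [Units.val_inv_eq_inv_val, inv_pow]
      exact mul_inv_cancel₀ (pow_ne_zero _ r.ne_zero)
    have h2 : Act (rn φa * rh φb r * (rn φa)⁻¹) (rx φb) 1 := by
      rw [hwa r]
      exact sp4t7_act_congr _ _ _ _ hc h1
    exact act_conj (rh φb r) (rn φa) (rx φb) 1 h2

end T

end Cfsg.Agent.Lib.helper3.SP4
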