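import Cfsg.Agent.Lib.Helper28.SP4R3

/-!
# SP4 row W2 (`wact_ac`), SPARE copy under own name `sp4w2_h9_wact_ac` (row owner: helper17)
-/

set_option autoImplicit false

namespace Cfsg.Agent.Lib.helper3.SP4

open Cfsg.Agent.Lib.helper17.SLP
open Polynomial

universe u v

section W

variable {F : Type u} [Field F] [Fintype F] {G : Type v} [Group G]

omit [Fintype F] in
/-- `n = w_b w_a w_b⁻¹` maps `h_b(r)` to `(h_a(r) h_b(r))⁻¹`. -/
theorem sp4w2_h9_conj_hb (φa φb : Matrix.SpecialLinearGroup (Fin 2) F →* G) (R : Tor4 φa φb)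
    (r : Fˣ) :
    (rn φb * rn φa * (rn φb)⁻¹) * rh φb r * (rn φb * rn φa * (rn φb)⁻¹)⁻¹ =
      (rh φa r * rh φb r)⁻¹ := by
  obtain ⟨-, -, -, b4, -, -, -, -, b9, -⟩ := r_basic φb
  set wa := rn φa with hwa
  set wb := rn φb with hwb
  set A := rh φa r with hA
  set B := rh φb r with hB
  have f2 : wb * B * wb⁻¹ = B⁻¹ := b9 r
  have f2' : wb⁻¹ * B * wb = B⁻¹ := by
    have : wb * B⁻¹ * wb⁻¹ = B := by
      calc wb * B⁻¹ * wb⁻¹ = (wb * B * wb⁻¹)⁻¹ := by group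
        _ = B := by rw [f2, inv_inv]
    calc wb⁻¹ * B * wb = wb⁻¹ * (wb * B⁻¹ * wb⁻¹) * wb := by rw [this]
      _ = B⁻¹ := by group
  have f3 : wb * A * wb⁻¹ = A * (B * B) := by
    have := R.wb_ha r
    rw [pow_two, b4] at this
    exact this
  have f5 : wa * B * wa⁻¹ = B * A := R.wa_hb r
  have comm : A * B = B * A := (R.comm r r).eq
  have e1 : B⁻¹ * (A * (B * B)) = A * B := by
    calc B⁻¹ * (A * (B * B)) = B⁻¹ * ((A * B) * B) := by group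
      _ = B⁻¹ * ((B * A) * B) := by rw [comm]
      _ = A * B := by group
  calc (wb * wa * wb⁻¹) * B * (wb * wa * wb⁻¹)⁻¹
      = wb * (wa * (wb⁻¹ * B * wb) * wa⁻¹) * wb⁻¹ := by group
    _ = wb * (wa * B⁻¹ * wa⁻¹) * wb⁻¹ := by rw [f2']
    _ = wb * (wa * B * wa⁻¹)⁻¹ * wb⁻¹ := by group
    _ = wb * (B * A)⁻¹ * wb⁻¹ := by rw [f5]
    _ = ((wb * B * wb⁻¹) * (wb * A * wb⁻¹))⁻¹ := by group
    _ = (B⁻¹ * (A * (B * B)))⁻¹ := by rw [f2, f3]
    _ = (A * B)⁻¹ := by rw [e1]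

/-- W2 (spare copy, exact Skel statement of `wact_ac`). -/
theorem sp4w2_h9_wact_ac (ζ : Fˣ) (φa φb : Matrix.SpecialLinearGroup (Fin 2) F →* G) (H : Hyp ζ φa φb)
    (R : Tor4 φa φb) : ∀ t, rn φa * xc φa φb t * (rn φa)⁻¹ = xc φa φb (-t) := by
  obtain ⟨-, a2, a3, -, -, -, -, -, -, -⟩ := r_basic φa
  have key : ∀ t, (rn φb * rn φa * (rn φb)⁻¹) * rx φa t * (rn φb * rn φa * (rn φb)⁻¹)⁻¹ =
      rx φa (-t) := by
    intro t
    by_cases ht : t = 0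
    · rw [ht, neg_zero, a2]
      group
    · set u : Fˣ := Units.mk0 t ht with hu
      set r : Fˣ := u⁻¹ with hr
      have hrinv : ((r⁻¹ : Fˣ) : F) = t := by
        rw [hr, inv_inv, hu, Units.val_mk0]
      have hx : rh φb r * rx φa 1 * (rh φb r)⁻¹ = rx φa t := by
        have := R.ab r 1
        rw [mul_one, hrinv] at this
        exact this
      have hg := sp4w2_h9_conj_hb φa φb R r
      have hact1 : Act (rh φa r * rh φb r) (rx φa) ((r : F) ^ 2 * ((r⁻¹ : Fˣ) : F)) :=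
        act_mul _ _ _ _ _ (R.aa r) (R.ab r)
      have hne : (r : F) ^ 2 * ((r⁻¹ : Fˣ) : F) ≠ 0 :=
        mul_ne_zero (pow_ne_zero _ r.ne_zero) (r⁻¹).ne_zero
      have hact2 : Act (rh φa r * rh φb r)⁻¹ (rx φa) ((r : F) ^ 2 * ((r⁻¹ : Fˣ) : F))⁻¹ :=
        act_inv _ _ _ hne hact1
      have hc : ((r : F) ^ 2 * ((r⁻¹ : Fˣ) : F))⁻¹ = t := by
        rw [hrinv]
        have hrt : (r : F) = t⁻¹ := by
          rw [hr, hu, Units.val_inv_eq_inv_val, Units.val_mk0]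
        rw [hrt]
        field_simp
      have hact3 := hact2 1
      rw [hc, mul_one] at hact3
      have hW7 := H.W7
      set n := rn φb * rn φa * (rn φb)⁻¹ with hn
      set g := (rh φa r * rh φb r)⁻¹ with hgdef
      calc n * rx φa t * n⁻¹ = n * (rh φb r * rx φa 1 * (rh φb r)⁻¹) * n⁻¹ := by rw [hx]
        _ = (n * rh φb r * n⁻¹) * (n * rx φa 1 * n⁻¹) * (n * rh φb r * n⁻¹)⁻¹ := by group
        _ = g * (rx φa 1)⁻¹ * g⁻¹ := by rw [hg, hW7]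
        _ = (g * rx φa 1 * g⁻¹)⁻¹ := by group
        _ = (rx φa t)⁻¹ := by rw [hact3]
        _ = rx φa (-t) := (a3 t).symm
  intro t
  unfold xc
  calc rn φa * ((rn φb)⁻¹ * rx φa t * rn φb) * (rn φa)⁻¹
      = (rn φb)⁻¹ * ((rn φb * rn φa * (rn φb)⁻¹) * rx φa t * (rn φb * rn φa * (rn φb)⁻¹)⁻¹) *
          rn φb := by group
    _ = (rn φb)⁻¹ * rx φa (-t) * rn φb := by rw [key t]

end W

end Cfsg.Agent.Lib.helper3.SP4
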