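import Cfsg.Agent.Lib.Helper28.SP4R3
import Cfsg.Agent.Lib.Helper18.SP4T3
import Cfsg.Agent.Lib.Helper29.SP4T4

/-!
# SP4 row W3 (`wact_bd`), SPARE copy under own name `sp4w3_h9_wact_bd` (row owner: helper17)
-/

set_option autoImplicit false

namespace Cfsg.Agent.Lib.helper3.SP4

open Cfsg.Agent.Lib.helper17.SLP
open Polynomial

universe u v

section W

variable {F : Type u} [Field F] [Fintype F] {G : Type v} [Group G]

omit [Fintype F] in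
/-- `n = w_a w_b w_a⁻¹` centralises `h_b(r)`. -/
theorem sp4w3_h9_conj_hb (φa φb : Matrix.SpecialLinearGroup (Fin 2) F →* G) (R : Tor4 φa φb)
    (r : Fˣ) :
    (rn φa * rn φb * (rn φa)⁻¹) * rh φb r * (rn φa * rn φb * (rn φa)⁻¹)⁻¹ = rh φb r := by
  obtain ⟨-, -, -, -, -, -, -, -, a9, -⟩ := r_basic φa
  obtain ⟨-, -, -, b4, -, -, -, -, b9, -⟩ := r_basic φb
  set wa := rn φa with hwa
  set wb := rn φb with hwb
  set A := rh φa r with hA
  set B := rh φb r with hB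
  have f1 : wa⁻¹ * B * wa = B * A := R.wa_hb' r
  have f2 : wb * B * wb⁻¹ = B⁻¹ := b9 r
  have f3 : wb * A * wb⁻¹ = A * (B * B) := by
    have := R.wb_ha r
    rw [pow_two, b4] at this
    exact this
  have f4 : wa * A * wa⁻¹ = A⁻¹ := a9 r
  have f5 : wa * B * wa⁻¹ = B * A := R.wa_hb r
  have comm : A * B = B * A := (R.comm r r).eq
  have e1 : B⁻¹ * (A * (B * B)) = A * B := by
    calc B⁻¹ * (A * (B * B)) = B⁻¹ * ((A * B) * B) := by group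
      _ = B⁻¹ * ((B * A) * B) := by rw [comm]
      _ = A * B := by group
  calc (wa * wb * wa⁻¹) * B * (wa * wb * wa⁻¹)⁻¹
      = wa * (wb * (wa⁻¹ * B * wa) * wb⁻¹) * wa⁻¹ := by group
    _ = wa * (wb * (B * A) * wb⁻¹) * wa⁻¹ := by rw [f1]
    _ = wa * ((wb * B * wb⁻¹) * (wb * A * wb⁻¹)) * wa⁻¹ := by group
    _ = wa * (B⁻¹ * (A * (B * B))) * wa⁻¹ := by rw [f2, f3]
    _ = wa * (A * B) * wa⁻¹ := by rw [e1]
    _ = (wa * A * wa⁻¹) * (wa * B * wa⁻¹) := by group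
    _ = A⁻¹ * (B * A) := by rw [f4, f5]
    _ = A⁻¹ * (A * B) := by rw [comm]
    _ = B := by group

/-- W3 (spare copy, exact Skel statement of `wact_bd`). -/
theorem sp4w3_h9_wact_bd (ζ : Fˣ) (φa φb : Matrix.SpecialLinearGroup (Fin 2) F →* G) (H : Hyp ζ φa φb)
    (R : Tor4 φa φb) : ∀ t, rn φb * xd φa φb t * (rn φb)⁻¹ = xd φa φb t := by
  obtain ⟨b1, -, -, -, -, -, -, -, -, -⟩ := r_basic φb
  have hW8 : (rn φa * rn φb * (rn φa)⁻¹) * rx φb 1 * (rn φa * rn φb * (rn φa)⁻¹)⁻¹ = rx φb 1 := by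
    rw [H.W8.eq]
    group
  have hsq : ∀ t ∈ (Set.range fun s : Fˣ => ((s : F)) ^ 2),
      (rn φa * rn φb * (rn φa)⁻¹) * rx φb t * (rn φa * rn φb * (rn φa)⁻¹)⁻¹ = rx φb (1 * t) := by
    rintro _ ⟨r, rfl⟩
    have hbb : rh φb r * rx φb 1 * (rh φb r)⁻¹ = rx φb ((r : F) ^ 2 * 1) := R.bb r 1
    rw [mul_one] at hbb
    rw [one_mul]
    have hc := sp4w3_h9_conj_hb φa φb R r
    set n := rn φa * rn φb * (rn φa)⁻¹ with hn
    show n * rx φb ((r : F) ^ 2) * n⁻¹ = rx φb ((r : F) ^ 2)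
    calc n * rx φb ((r : F) ^ 2) * n⁻¹ = n * (rh φb r * rx φb 1 * (rh φb r)⁻¹) * n⁻¹ := by rw [hbb]
      _ = (n * rh φb r * n⁻¹) * (n * rx φb 1 * n⁻¹) * (n * rh φb r * n⁻¹)⁻¹ := by group
      _ = rh φb r * rx φb 1 * (rh φb r)⁻¹ := by rw [hc, hW8]
      _ = rx φb ((r : F) ^ 2) := hbb
  have hall := act_span (rx φb) (rx φb) b1 b1 (rn φa * rn φb * (rn φa)⁻¹) 1 _ sq_span hsq
  intro t
  have h := hall t
  rw [one_mul] at h
  unfold xd
  calc rn φb * ((rn φa)⁻¹ * rx φb t * rn φa) * (rn φb)⁻¹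
      = (rn φa)⁻¹ * ((rn φa * rn φb * (rn φa)⁻¹) * rx φb t * (rn φa * rn φb * (rn φa)⁻¹)⁻¹) *
          rn φa := by group
    _ = (rn φa)⁻¹ * rx φb t * rn φa := by rw [h]

end W

end Cfsg.Agent.Lib.helper3.SP4
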