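import Cfsg.Agent.Lib.Helper9.SPDBLOCKEVENcore
import Cfsg.Agent.Lib.Helper11.SPDKERFAC
import Cfsg.Agent.Lib.Helper11.SPDSELFDUAL
import Cfsg.Agent.Lib.Helper28.SPDPRIMND
import Cfsg.Agent.Lib.Helper19.SPDPOLAR
import Cfsg.Agent.Lib.helper8.SPDCYCSPAN
import Cfsg.Agent.Lib.Helper20.SPDK3
import Cfsg.Agent.Lib.Helper28.SPDORTHINV

/-!
# Project SPD (S5961, leader helper19): row BLOCKEVEN (helper9), verbatim
(= `spdbe_core` + KERFAC, SELFDUAL (helper11) + PRIMND, ORTHINV (helper28) + POLAR (helper19) + CYCSPAN (helper8) + K3 (helper20)).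
-/

set_option autoImplicit false
set_option linter.unusedVariables false
set_option linter.unusedSectionVars false

namespace Cfsg.Agent.Lib.Helper19.SPD

open Polynomial

variable {F : Type*} [Field F] {d : ℕ}

/-- BLOCKEVEN [L]: `i` even. -/
theorem block_even [Fintype F] {p q : ℕ} [Fact p.Prime] [CharP F p] (hq : Fintype.card F = q)
    (r : ℕ) [Fact r.Prime] (hr2 : r ≠ 2) (hrp : r ≠ p) (i : ℕ) (hi : i = orderOf (q : ZMod r)) (hie : Even i)
    (y : (Fin d ⊕ Fin d → F) →ₗ[F] (Fin d ⊕ Fin d → F)) (hiso : Isom y) (hy : y ^ r = 1)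
    (W : Submodule F (Fin d ⊕ Fin d → F)) (hW : Inv y W) (hnd : ND W) (hff : FF y W) (hne : W ≠ ⊥) :
    ∃ M ≤ W, Inv y M ∧ ND M ∧ Module.finrank F M = i :=
  spdbe_core hq r hr2 hrp i hi hie y hiso hy
    (fun f hprod W' hW' hff' hne' => ker_fac r y hy f hprod W' hW' hff' hne')
    (fun g v hv => selfdual_even hq r hrp i hi hie y hy g v hv)
    (fun hsd W' hW' hnd' g h hgh hkill =>
      prim_nd r (Nat.Prime.pos Fact.out) y hiso hy hsd W' hW' hnd' g h hgh hkill)
    (fun W' hW' hnd' hff' hne' =>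
      polar_ne r ((Nat.Prime.odd_of_ne_two Fact.out hr2)) y hiso hy W' hW' hnd' hff' hne')
    (fun g hg v hv => cyc_span y g hg v hv)
    (fun W' hW' hff' => k3_dvd hq r y hy W' hW' hff')
    (fun W' hW' => orth_inv r (Nat.Prime.pos Fact.out) y hiso hy W' hW')
    W hW hnd hff hne

end Cfsg.Agent.Lib.Helper19.SPD
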