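import Mathlib
import Cfsg.Agent.Lib.Helper19.SPD.Defs
import Cfsg.Agent.Lib.Helper16.PSemi4
import Cfsg.Agent.Lib.helper6.SympBasis

/-!
# Project SPD (S5961, leader helper19): row BLOCKEVEN, core (helper9):
the statements of KERFAC / PRIMND / SELFDUAL / POLAR / CYCSPAN / K3 / ORTHINV (for the given `y`) as hypotheses.
-/

set_option autoImplicit false
set_option linter.unusedVariables false
set_option linter.unusedSectionVars false

namespace Cfsg.Agent.Lib.Helper19.SPD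

open Polynomial

universe u

variable {F : Type u} [Field F] {d : ℕ}

/-- an invariant subspace is invariant under every polynomial in `y`. -/
theorem spdbe_aeval_mem (y : (Fin d ⊕ Fin d → F) →ₗ[F] (Fin d ⊕ Fin d → F))
    (W : Submodule F (Fin d ⊕ Fin d → F)) (hW : Inv y W) (g : F[X]) :
    ∀ v ∈ W, aeval y g v ∈ W := by
  induction g using Polynomial.induction_on with
  | C a =>
    intro v hv
    rw [aeval_C, Module.algebraMap_end_apply]
    exact W.smul_mem a hv
  | add p q hp hq =>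
    intro v hv
    rw [map_add, LinearMap.add_apply]
    exact W.add_mem (hp v hv) (hq v hv)
  | monomial n a ih =>
    intro v hv
    have e : C a * X ^ (n + 1) = (C a * X ^ n) * X := by rw [pow_succ, mul_assoc]
    rw [e, map_mul, aeval_X, Module.End.mul_apply]
    exact ih (y v) (hW v hv)

theorem spdbe_comm (y : (Fin d ⊕ Fin d → F) →ₗ[F] (Fin d ⊕ Fin d → F)) (g : F[X])
    (v : Fin d ⊕ Fin d → F) : aeval y g (y v) = y (aeval y g v) := by
  have h1 : aeval y (g * X) = aeval y (X * g) := by rw [mul_comm]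
  rw [map_mul, map_mul, aeval_X] at h1
  have := LinearMap.congr_fun h1 v
  rw [Module.End.mul_apply, Module.End.mul_apply] at this
  exact this

theorem spdbe_pow_mem (y : (Fin d ⊕ Fin d → F) →ₗ[F] (Fin d ⊕ Fin d → F))
    (W : Submodule F (Fin d ⊕ Fin d → F)) (hW : Inv y W) (n : ℕ) :
    ∀ v ∈ W, (y ^ n) v ∈ W := by
  intro v hv
  have := spdbe_aeval_mem y W hW (X ^ n) v hv
  rwa [aeval_X_pow] at this

theorem spdbe_core [Fintype F] {p q : ℕ} [Fact p.Prime] [CharP F p] (hq : Fintype.card F = q)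
    (r : ℕ) [Fact r.Prime] (hr2 : r ≠ 2) (hrp : r ≠ p) (i : ℕ) (hi : i = orderOf (q : ZMod r)) (hie : Even i)
    (y : (Fin d ⊕ Fin d → F) →ₗ[F] (Fin d ⊕ Fin d → F)) (hiso : Isom y) (hy : y ^ r = 1)
    (hKERFAC : ∀ {κ : Type u} [Fintype κ] (f : κ → F[X]), (X - 1) * ∏ k, f k = X ^ r - 1 →
      ∀ W : Submodule F (Fin d ⊕ Fin d → F), Inv y W → FF y W → W ≠ ⊥ →
      ∃ k, ∃ v ∈ W, v ≠ 0 ∧ aeval y (f k) v = 0)
    (hSELFDUAL : ∀ (g : F[X]) (v : Fin d ⊕ Fin d → F), aeval y g v = 0 → aeval (y ^ (r - 1)) g v = 0)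
    (hPRIMND : (∀ (g : F[X]) (v : Fin d ⊕ Fin d → F), aeval y g v = 0 → aeval (y ^ (r - 1)) g v = 0) →
      ∀ W : Submodule F (Fin d ⊕ Fin d → F), Inv y W → ND W → ∀ g h : F[X], IsCoprime g h →
      (∀ v ∈ W, aeval y (g * h) v = 0) → ND (W ⊓ LinearMap.ker (aeval y g)))
    (hPOLAR : ∀ W : Submodule F (Fin d ⊕ Fin d → F), Inv y W → ND W → FF y W → W ≠ ⊥ →
      ∃ v ∈ W, ∃ n : ℕ, Cfsg.sympForm d F v ((y ^ n) v) ≠ 0)
    (hCYCSPAN : ∀ g : F[X], g.Monic → ∀ v : Fin d ⊕ Fin d → F, aeval y g v = 0 →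
      ∃ U : Submodule F (Fin d ⊕ Fin d → F), v ∈ U ∧ Inv y U ∧ Module.finrank F U ≤ g.natDegree ∧
        (∀ W : Submodule F (Fin d ⊕ Fin d → F), Inv y W → v ∈ W → U ≤ W))
    (hK3 : ∀ W : Submodule F (Fin d ⊕ Fin d → F), Inv y W → FF y W →
      orderOf (q : ZMod r) ∣ Module.finrank F W)
    (hORTHINV : ∀ W : Submodule F (Fin d ⊕ Fin d → F), Inv y W →
      Inv y (Cfsg.Agent.Lib.helper6.SB.orth d W))
    (W : Submodule F (Fin d ⊕ Fin d → F)) (hW : Inv y W) (hnd : ND W) (hff : FF y W) (hne : W ≠ ⊥) :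
    ∃ M ≤ W, Inv y M ∧ ND M ∧ Module.finrank F M = i := by
  classical
  have hp : p.Prime := Fact.out
  have hr : r.Prime := Fact.out
  -- `i ∣ r - 1`
  have hqr : (q : ZMod r) ≠ 0 := by
    intro h0
    rw [ZMod.natCast_eq_zero_iff] at h0
    obtain ⟨e, _, hqe⟩ := FiniteField.card F p
    rw [hq] at hqe
    rw [hqe] at h0
    have := hr.dvd_of_dvd_pow h0
    exact hrp ((Nat.prime_dvd_prime_iff_eq hr hp).mp this)
  have hidvd : i ∣ r - 1 := by
    rw [hi]
    exact orderOf_dvd_of_pow_eq_one (ZMod.pow_card_sub_one_eq_one hqr)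
  obtain ⟨t, ht⟩ := hidvd
  have ht' : t * i = r - 1 := by rw [ht, mul_comm]
  obtain ⟨κ, hκ, hκd, f, hcard, hirr, hdeg, hcop, hdvd, hprod, hne1⟩ :=
    Cfsg.Agent.Lib.Helper16.PSemi.cyclo_data hq r i t hr hrp hi ht'
  -- KERFAC
  obtain ⟨k, v₀, hv₀W, hv₀ne, hv₀k⟩ := hKERFAC f hprod W hW hff hne
  -- the primary component
  set Wk : Submodule F (Fin d ⊕ Fin d → F) := W ⊓ LinearMap.ker (aeval y (f k)) with hWk
  have hWkW : Wk ≤ W := inf_le_left
  have hWkinv : Inv y Wk := by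
    intro v hv
    rw [hWk, Submodule.mem_inf] at hv ⊢
    refine ⟨hW v hv.1, ?_⟩
    rw [LinearMap.mem_ker, spdbe_comm, LinearMap.mem_ker.mp hv.2, map_zero]
  have hWkff : FF y Wk := fun v hv hyv => hff v (hWkW hv) hyv
  have hWkne : Wk ≠ ⊥ := by
    intro hbot
    apply hv₀ne
    have : v₀ ∈ Wk := by
      rw [hWk, Submodule.mem_inf]
      exact ⟨hv₀W, LinearMap.mem_ker.mpr hv₀k⟩
    rw [hbot] at this
    exact (Submodule.mem_bot F).mp this
  -- all of `∏ f` kills `W`
  have hkillall : ∀ v ∈ W, aeval y (∏ l, f l) v = 0 := by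
    intro v hv
    apply hff _ (spdbe_aeval_mem y W hW _ v hv)
    have h1 : aeval y ((X - 1) * ∏ l, f l) = 0 := by
      rw [hprod, map_sub, map_pow, aeval_X, map_one, hy, sub_self]
    rw [map_mul, map_sub, aeval_X, map_one] at h1
    have h2 := LinearMap.congr_fun h1 v
    rw [Module.End.mul_apply, LinearMap.sub_apply, Module.End.one_apply, LinearMap.zero_apply,
      sub_eq_zero] at h2
    exact h2
  have hcopk : IsCoprime (f k) (∏ l ∈ Finset.univ.erase k, f l) := by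
    apply IsCoprime.prod_right
    intro l hl
    exact hcop (Finset.ne_of_mem_erase hl).symm
  have hkill : ∀ v ∈ W, aeval y (f k * ∏ l ∈ Finset.univ.erase k, f l) v = 0 := by
    intro v hv
    rw [Finset.mul_prod_erase Finset.univ f (Finset.mem_univ k)]
    exact hkillall v hv
  have hWknd : ND Wk := hPRIMND hSELFDUAL W hW hnd (f k) _ hcopk hkill
  -- POLAR
  obtain ⟨v, hvWk, n, hvn⟩ := hPOLAR Wk hWkinv hWknd hWkff hWkne
  have hvne : v ≠ 0 := by
    rintro rfl
    exact hvn (Cfsg.Agent.Lib.helper6.sympForm_zero_left d _)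
  have hvk : aeval y (f k) v = 0 := by
    rw [hWk, Submodule.mem_inf] at hvWk
    exact LinearMap.mem_ker.mp hvWk.2
  -- CYCSPAN
  have hfk0 : f k ≠ 0 := (hirr k).ne_zero
  have hmonic : (f k * C (f k).leadingCoeff⁻¹).Monic := monic_mul_leadingCoeff_inv hfk0
  have hdeg' : (f k * C (f k).leadingCoeff⁻¹).natDegree = i := by
    rw [natDegree_mul_leadingCoeff_inv _ hfk0, hdeg k]
  have hvk' : aeval y (f k * C (f k).leadingCoeff⁻¹) v = 0 := by
    rw [mul_comm, map_mul, Module.End.mul_apply, hvk, map_zero]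
  obtain ⟨M, hvM, hMinv, hMdim, hMmin⟩ := hCYCSPAN _ hmonic v hvk'
  rw [hdeg'] at hMdim
  have hMWk : M ≤ Wk := hMmin Wk hWkinv hvWk
  have hMW : M ≤ W := hMWk.trans hWkW
  have hMff : FF y M := fun v hv hyv => hff v (hMW hv) hyv
  have hMne : M ≠ ⊥ := by
    intro hbot
    rw [hbot] at hvM
    exact hvne ((Submodule.mem_bot F).mp hvM)
  have hipos : 0 < i := by
    rw [hi]
    apply orderOf_pos_iff.mpr
    rw [isOfFinOrder_iff_pow_eq_one]
    exact ⟨r - 1, by have := hr.two_le; omega, ZMod.pow_card_sub_one_eq_one hqr⟩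
  have hMfin : Module.finrank F M = i := by
    have h1 : i ∣ Module.finrank F M := by rw [hi]; exact hK3 M hMinv hMff
    have h2 : 0 < Module.finrank F M := by
      rw [Nat.pos_iff_ne_zero]
      intro h0
      exact hMne (Submodule.finrank_eq_zero.mp h0)
    exact le_antisymm hMdim (Nat.le_of_dvd h2 h1)
  refine ⟨M, hMW, hMinv, ?_, hMfin⟩
  -- `M` is nondegenerate
  set R : Submodule F (Fin d ⊕ Fin d → F) := M ⊓ Cfsg.Agent.Lib.helper6.SB.orth d M with hR
  have hRinv : Inv y R := by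
    intro w hw
    rw [hR, Submodule.mem_inf] at hw ⊢
    exact ⟨hMinv w hw.1, hORTHINV M hMinv w hw.2⟩
  have hRM : R ≤ M := inf_le_left
  have hRff : FF y R := fun w hw hyw => hMff w (hRM hw) hyw
  have hRdvd : i ∣ Module.finrank F R := by rw [hi]; exact hK3 R hRinv hRff
  have hRle : Module.finrank F R ≤ i := by
    rw [← hMfin]; exact Submodule.finrank_mono hRM
  have hRbot : R = ⊥ := by
    by_contra hRne
    have hpos : 0 < Module.finrank F R := by
      rw [Nat.pos_iff_ne_zero]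
      intro h0
      exact hRne (Submodule.finrank_eq_zero.mp h0)
    have hReq : Module.finrank F R = i := le_antisymm hRle (Nat.le_of_dvd hpos hRdvd)
    have hRM' : R = M := Submodule.eq_of_le_of_finrank_eq hRM (by rw [hReq, hMfin])
    have hMorth : M ≤ Cfsg.Agent.Lib.helper6.SB.orth d M := by
      intro w hw
      have hwR : w ∈ R := by rw [hRM']; exact hw
      rw [hR, Submodule.mem_inf] at hwR
      exact hwR.2
    have h1 : (y ^ n) v ∈ Cfsg.Agent.Lib.helper6.SB.orth d M :=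
      hMorth (spdbe_pow_mem y M hMinv n v hvM)
    rw [Cfsg.Agent.Lib.helper6.SB.mem_orth] at h1
    exact hvn (h1 v hvM)
  intro u hu hu0
  have : u ∈ R := by
    rw [hR, Submodule.mem_inf]
    refine ⟨hu, ?_⟩
    rw [Cfsg.Agent.Lib.helper6.SB.mem_orth]
    intro w hw
    rw [Cfsg.Agent.Lib.helper6.sympForm_swap, hu0 w hw, neg_zero]
  rw [hRbot] at this
  exact (Submodule.mem_bot F).mp this

end Cfsg.Agent.Lib.Helper19.SPD
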