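import Cfsg.Agent.Lib.Helper9.SPDINVDIMcore
import Cfsg.Agent.Lib.Lead.SPDFIXND
import Cfsg.Agent.Lib.Lead.SPDEVEN
import Cfsg.Agent.Lib.Helper20.SPDK3

/-!
# Project SPD (S5961, leader helper19): row INVDIM (helper9), verbatim
(= `spdinvdim_core` + FIXND (lead) + K3 (helper20) + EVEN (lead)).
-/

set_option autoImplicit false
set_option linter.unusedVariables false
set_option linter.unusedSectionVars false

namespace Cfsg.Agent.Lib.Helper19.SPD

open Polynomial

variable {F : Type*} [Field F] {d : ℕ}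

/-- INVDIM [M]: the moved part of an invariant nondegenerate subspace has dimension divisible by `c` (FIXND; K3 gives `i ∣`; EVEN gives `2 ∣`; `i` odd: coprime). -/
theorem inv_dim [Fintype F] {p q : ℕ} [Fact p.Prime] [CharP F p] (hq : Fintype.card F = q)
    (r : ℕ) [Fact r.Prime] (hrp : r ≠ p) (i : ℕ) (hi : i = orderOf (q : ZMod r))
    (y : (Fin d ⊕ Fin d → F) →ₗ[F] (Fin d ⊕ Fin d → F)) (hiso : Isom y) (hy : y ^ r = 1)
    (W : Submodule F (Fin d ⊕ Fin d → F)) (hW : Inv y W) (hnd : ND W) :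
    ∃ m : ℕ, Module.finrank F W = Module.finrank F ↥(W ⊓ Fx y) + cc i * m :=
  spdinvdim_core hq r hrp i hi y hiso hy W hW hnd
    (fun hrF => fix_nd r hrF y hiso hy W hW hnd)
    (fun W' hW' hff' => k3_dvd hq r y hy W' hW' hff')
    (fun W' hnd' => nd_even W' hnd')

end Cfsg.Agent.Lib.Helper19.SPD
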