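import Mathlib
import Cfsg.Agent.Lib.Helper19.SPD.Defs

/-!
# Project SPD (S5961, leader helper19): row INVDIM, core (helper9): the statements of FIXND / K3 / EVEN as hypotheses.
-/

set_option autoImplicit false
set_option linter.unusedVariables false
set_option linter.unusedSectionVars false

namespace Cfsg.Agent.Lib.Helper19.SPD

open Polynomial

variable {F : Type*} [Field F] {d : ℕ}

theorem spdinvdim_core [Fintype F] {p q : ℕ} [Fact p.Prime] [CharP F p] (hq : Fintype.card F = q)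
    (r : ℕ) [Fact r.Prime] (hrp : r ≠ p) (i : ℕ) (hi : i = orderOf (q : ZMod r))
    (y : (Fin d ⊕ Fin d → F) →ₗ[F] (Fin d ⊕ Fin d → F)) (hiso : Isom y) (hy : y ^ r = 1)
    (W : Submodule F (Fin d ⊕ Fin d → F)) (hW : Inv y W) (hnd : ND W)
    (hfix : (r : F) ≠ 0 → ND (W ⊓ Fx y) ∧ ND (W ⊓ Mv y) ∧ Orth (W ⊓ Fx y) (W ⊓ Mv y) ∧
      (W ⊓ Fx y) ⊔ (W ⊓ Mv y) = W ∧ Inv y (W ⊓ Mv y) ∧ FF y (W ⊓ Mv y))
    (hk3 : ∀ W' : Submodule F (Fin d ⊕ Fin d → F), Inv y W' → FF y W' →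
      orderOf (q : ZMod r) ∣ Module.finrank F W')
    (heven : ∀ W' : Submodule F (Fin d ⊕ Fin d → F), ND W' → Even (Module.finrank F W')) :
    ∃ m : ℕ, Module.finrank F W = Module.finrank F ↥(W ⊓ Fx y) + cc i * m := by
  have hp : p.Prime := Fact.out
  have hr : r.Prime := Fact.out
  have hrF : (r : F) ≠ 0 := by
    intro h0
    have := (CharP.cast_eq_zero_iff F p r).mp h0
    exact hrp ((Nat.prime_dvd_prime_iff_eq hp hr).mp this).symm
  obtain ⟨_, hndM, _, hsup, hinvM, hffM⟩ := hfix hrF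
  -- the two parts are disjoint
  have hdisj : (W ⊓ Fx y) ⊓ (W ⊓ Mv y) = ⊥ := by
    rw [eq_bot_iff]
    intro v hv
    rw [Submodule.mem_inf] at hv
    obtain ⟨h1, h2⟩ := hv
    have hfx : v ∈ Fx y := (Submodule.mem_inf.mp h1).2
    have hyv : y v = v := by
      have : (y - 1) v = 0 := LinearMap.mem_ker.mp hfx
      rw [LinearMap.sub_apply, Module.End.one_apply, sub_eq_zero] at this
      exact this
    exact (Submodule.mem_bot F).mpr (hffM v h2 hyv)
  have hdim := Submodule.finrank_sup_add_finrank_inf_eq (W ⊓ Fx y) (W ⊓ Mv y)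
  rw [hsup, hdisj, finrank_bot, add_zero] at hdim
  -- the moved part
  have h1 : i ∣ Module.finrank F ↥(W ⊓ Mv y) := by
    rw [hi]; exact hk3 _ hinvM hffM
  have h2 : Even (Module.finrank F ↥(W ⊓ Mv y)) := heven _ hndM
  have h3 : cc i ∣ Module.finrank F ↥(W ⊓ Mv y) := by
    unfold cc
    split_ifs with hie
    · exact h1
    · have hodd : Odd i := Nat.not_even_iff_odd.mp hie
      have hcop : Nat.Coprime 2 i := (Nat.coprime_two_left).mpr hodd
      exact hcop.mul_dvd_of_dvd_of_dvd (even_iff_two_dvd.mp h2) h1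
  obtain ⟨m, hm⟩ := h3
  exact ⟨m, by rw [hdim, hm]⟩

end Cfsg.Agent.Lib.Helper19.SPD
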