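import Mathlib
import Cfsg.Agent.Lib.helper3.SPM.Defs
import Cfsg.Agent.Lib.helper3.SPM.Defs2
import Cfsg.Agent.Lib.helper3.SPM.DefsP

/-!
# Project SPM (designer helper3, S2292/S2296), row P09 (helper9), VERBATIM: `pres_abstract`

Own-name copies `spmp09_*` of the P01 facts (`evG_inN evG_inL evN_map evL_map evG_map`).
-/

set_option autoImplicit false

namespace Cfsg.Agent.Lib.helper3.SPM

open Cfsg.Agent.Lib.helper3.STC Cfsg.Agent.Lib.helper3.STC.Mat Cfsg.Agent.Lib.helper17.SLP Cfsg.Agent.Lib.helper3.SP4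

universe u v w v'

section P

variable {F : Type u} [Field F] {ι : Type w} [Fintype ι] [DecidableEq ι] {k : ℕ}

theorem spmp09_evG_inN {G : Type v} [Group G] (s : Fin k → G) (g : Fin 6 → G) (x : FreeGroup (Fin k)) :
    evG s g (inN x) = evN s x := by
  have h : (evG s g).comp inN = evN s := by
    apply FreeGroup.ext_hom
    intro i
    simp [evG, inN, evN]
  exact DFunLike.congr_fun h x

theorem spmp09_evG_inL {G : Type v} [Group G] (s : Fin k → G) (g : Fin 6 → G) (x : FreeGroup (Fin 6)) :
    evG s g (inL x) = evL g x := by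
  have h : (evG s g).comp (inL (k := k)) = evL g := by
    apply FreeGroup.ext_hom
    intro i
    simp [evG, inL, evL]
  exact DFunLike.congr_fun h x

theorem spmp09_evG_map {G : Type v} {G' : Type v'} [Group G] [Group G'] (f : G →* G') (s : Fin k → G) (g : Fin 6 → G)
    (x : FreeGroup (Fin (k + 6))) : f (evG s g x) = evG (f ∘ s) (f ∘ g) x := by
  have h : f.comp (evG s g) = evG (f ∘ s) (f ∘ g) := by
    apply FreeGroup.ext_hom
    intro i
    simp only [evG, MonoidHom.comp_apply, FreeGroup.lift_apply_of]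
    refine Fin.addCases (fun j => ?_) (fun j => ?_) i
    · simp [Fin.append_left]
    · simp [Fin.append_right]
  exact DFunLike.congr_fun h x

theorem spmp09_evN_map {G : Type v} {G' : Type v'} [Group G] [Group G'] (f : G →* G') (s : Fin k → G)
    (x : FreeGroup (Fin k)) : f (evN s x) = evN (f ∘ s) x := by
  have h : f.comp (evN s) = evN (f ∘ s) := by
    apply FreeGroup.ext_hom
    intro i
    simp [evN]
  exact DFunLike.congr_fun h x

theorem spmp09_evL_map {G : Type v} {G' : Type v'} [Group G] [Group G'] (f : G →* G') (g : Fin 6 → G)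
    (x : FreeGroup (Fin 6)) : f (evL g x) = evL (f ∘ g) x := by
  have h : f.comp (evL g) = evL (f ∘ g) := by
    apply FreeGroup.ext_hom
    intro i
    simp [evL]
  exact DFunLike.congr_fun h x

/-- P9 [M]  the abstract side of the amalgam presentation. -/
theorem pres_abstract (ζ : Fˣ) (relsN : Set (FreeGroup (Fin k))) (eN : PresentedGroup relsN ≃* Equiv.Perm ι)
    (wN : Equiv.Perm ι → FreeGroup (Fin k)) (hwN : ∀ σ, eN (PresentedGroup.mk relsN (wN σ)) = σ)
    (L6 : List (FreeGroup (Fin 6)))
    (hL : ∀ (G : Type) [Group G] (g : Fin 6 → G), (∀ r ∈ L6, evL g r = 1) → ∃ φ : Sp4 F →* G, ∀ i, φ (gM ζ i) = g i)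
    (wL : Sp4 F → FreeGroup (Fin 6)) (hwL : ∀ m, evL (gM ζ) (wL m) = m)
    (rels : Set (FreeGroup (Fin (k + 6)))) (hN : ∀ r ∈ relsN, inN r ∈ rels) (hLr : ∀ r ∈ L6, inL r ∈ rels) :
    ∃ (ν : Equiv.Perm ι →* PresentedGroup rels) (lam : Sp4 F →* PresentedGroup rels),
      (∀ σ, ν σ = evN (fun i => PresentedGroup.of (Fin.castAdd 6 i)) (wN σ)) ∧
      (∀ m, lam m = evL (fun i => PresentedGroup.of (Fin.natAdd k i)) (wL m)) ∧
      Subgroup.closure (Set.range ν ∪ Set.range lam) = ⊤ ∧
      ∀ x : FreeGroup (Fin (k + 6)), evG (fun i => (PresentedGroup.of (Fin.castAdd 6 i) : PresentedGroup rels))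
        (fun i => PresentedGroup.of (Fin.natAdd k i)) x = PresentedGroup.mk rels x := by
  set s : Fin k → PresentedGroup rels := fun i => PresentedGroup.of (Fin.castAdd 6 i) with hs
  set g : Fin 6 → PresentedGroup rels := fun i => PresentedGroup.of (Fin.natAdd k i) with hg
  -- the evaluation at the generators is the quotient map
  have hev : ∀ x : FreeGroup (Fin (k + 6)), evG s g x = PresentedGroup.mk rels x := by
    have hh : evG s g = PresentedGroup.mk rels := by
      apply FreeGroup.ext_hom
      intro i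
      simp only [evG, FreeGroup.lift_apply_of]
      refine Fin.addCases (fun j => ?_) (fun j => ?_) i
      · rw [Fin.append_left]; rfl
      · rw [Fin.append_right]; rfl
    exact fun x => DFunLike.congr_fun hh x
  have hone : ∀ r ∈ rels, PresentedGroup.mk rels r = 1 := fun r hr => PresentedGroup.one_of_mem hr
  -- `ν`
  have hrelN : ∀ r ∈ relsN, FreeGroup.lift s r = 1 := by
    intro r hr
    have h1 : FreeGroup.lift s r = evN s r := rfl
    rw [h1, ← spmp09_evG_inN s g, hev]
    exact hone _ (hN r hr)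
  set ψ : PresentedGroup relsN →* PresentedGroup rels := PresentedGroup.toGroup hrelN with hψ
  have hψmk : ∀ x : FreeGroup (Fin k), ψ (PresentedGroup.mk relsN x) = evN s x := fun x => rfl
  have hψof : ∀ i : Fin k, ψ (PresentedGroup.of i) = s i := fun i => PresentedGroup.toGroup.of hrelN
  set ν : Equiv.Perm ι →* PresentedGroup rels := ψ.comp eN.symm.toMonoidHom with hνdef
  have hν : ∀ σ, ν σ = evN s (wN σ) := by
    intro σ
    have h1 : eN.symm σ = PresentedGroup.mk relsN (wN σ) := by
      rw [MulEquiv.symm_apply_eq, hwN]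
    show ψ (eN.symm σ) = _
    rw [h1, hψmk]
  -- `lam`
  have hrelL : ∀ r ∈ L6, evL g r = 1 := by
    intro r hr
    rw [← spmp09_evG_inL s g, hev]
    exact hone _ (hLr r hr)
  obtain ⟨lam, hlam0⟩ := hL (PresentedGroup rels) g hrelL
  have hlam : ∀ m, lam m = evL g (wL m) := by
    intro m
    conv_lhs => rw [← hwL m]
    rw [spmp09_evL_map]
    congr 2
    funext i
    exact hlam0 i
  refine ⟨ν, lam, hν, hlam, ?_, hev⟩
  -- generation
  rw [eq_top_iff, ← PresentedGroup.closure_range_of rels, Subgroup.closure_le]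
  rintro _ ⟨i, rfl⟩
  apply Subgroup.subset_closure
  refine Fin.addCases (fun j => ?_) (fun j => ?_) i
  · left
    refine ⟨eN (PresentedGroup.of j), ?_⟩
    show ψ (eN.symm (eN (PresentedGroup.of j))) = _
    rw [eN.symm_apply_apply, hψof]
  · right
    exact ⟨gM ζ j, hlam0 j⟩

end P

end Cfsg.Agent.Lib.helper3.SPM
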