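import Mathlib
import Cfsg.Agent.Lib.helper3.SPM.Defs
import Cfsg.Agent.Lib.helper3.SPM.Defs2
import Cfsg.Agent.Lib.helper3.SPM.DefsP
import Cfsg.Agent.Lib.Helper9.SPMP09

/-!
# Project SPM (designer helper3, S2292/S2296), row P10 (helper9): core of `pres_matrix` on the statement of P04 `words_of_glue`
-/

set_option autoImplicit false

namespace Cfsg.Agent.Lib.helper3.SPM

open Cfsg.Agent.Lib.helper3.STC Cfsg.Agent.Lib.helper3.STC.Mat Cfsg.Agent.Lib.helper17.SLP Cfsg.Agent.Lib.helper3.SP4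

universe u v w v'

section P

variable {F : Type u} [Field F] {ι : Type w} [Fintype ι] [DecidableEq ι] {k : ℕ}

/-- core of P10 on the statement of P04 (`words_of_glue` at the matrix group, `H := hglue` already applied). -/
theorem spmp10_core (p : Pts ι) (ζ : Fˣ) (relsN : Set (FreeGroup (Fin k))) (eN : PresentedGroup relsN ≃* Equiv.Perm ι)
    (wN : Equiv.Perm ι → FreeGroup (Fin k)) (hwN : ∀ σ, eN (PresentedGroup.mk relsN (wN σ)) = σ)
    (L6 : List (FreeGroup (Fin 6))) (hLM : ∀ r ∈ L6, evL (gM (F := F) ζ) r = 1)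
    (wL : Sp4 F → FreeGroup (Fin 6)) (hwL : ∀ m, evL (gM ζ) (wL m) = m)
    (c d c' d' : Equiv.Perm ι) (b₁ b₂ b₃ : Sp4 F)
    (hP4 : ∀ (s : Fin k → ↥(Matrix.symplecticGroup ι F)) (g : Fin 6 → ↥(Matrix.symplecticGroup ι F)),
      (∀ σ, (permSp σ : ↥(Matrix.symplecticGroup ι F)) = evN s (wN σ)) →
      (∀ m, (rhoS p m : ↥(Matrix.symplecticGroup ι F)) = evL g (wL m)) →
      ∀ r ∈ wordsGlue p wN wL c d c' d' b₁ b₂ b₃, evG s g r = 1) :
    (∀ r ∈ relsN, evG (fun i => (permSp (eN (PresentedGroup.of i)) : ↥(Matrix.symplecticGroup ι F)))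
        (fun i => rhoS p (gM ζ i)) (inN r) = 1) ∧
      (∀ r ∈ L6, evG (fun i => (permSp (eN (PresentedGroup.of i)) : ↥(Matrix.symplecticGroup ι F)))
        (fun i => rhoS p (gM ζ i)) (inL r) = 1) ∧
      (∀ r ∈ wordsGlue p wN wL c d c' d' b₁ b₂ b₃,
        evG (fun i => (permSp (eN (PresentedGroup.of i)) : ↥(Matrix.symplecticGroup ι F)))
          (fun i => rhoS p (gM ζ i)) r = 1) ∧
      (∀ σ, (permSp σ : ↥(Matrix.symplecticGroup ι F)) = evN (fun i => permSp (eN (PresentedGroup.of i))) (wN σ)) ∧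
      ∀ m, (rhoS p m : ↥(Matrix.symplecticGroup ι F)) = evL (fun i => rhoS p (gM ζ i)) (wL m) := by
  have hevN : ∀ x : FreeGroup (Fin k),
      evN (fun i => (permSp (eN (PresentedGroup.of i)) : ↥(Matrix.symplecticGroup ι F))) x
        = permSp (eN (PresentedGroup.mk relsN x)) := by
    have hh : evN (fun i => (permSp (eN (PresentedGroup.of i)) : ↥(Matrix.symplecticGroup ι F)))
        = ((permSp : Equiv.Perm ι →* ↥(Matrix.symplecticGroup ι F)).comp eN.toMonoidHom).comp
          (PresentedGroup.mk relsN) := by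
      apply FreeGroup.ext_hom
      intro i
      simp [evN]
      rfl
    exact fun x => DFunLike.congr_fun hh x
  have hevL : ∀ x : FreeGroup (Fin 6),
      evL (fun i => (rhoS p (gM ζ i) : ↥(Matrix.symplecticGroup ι F))) x = rhoS p (evL (gM (F := F) ζ) x) :=
    fun x => (spmp09_evL_map (rhoS p) _ x).symm
  have h4 : ∀ σ, (permSp σ : ↥(Matrix.symplecticGroup ι F)) =
      evN (fun i => permSp (eN (PresentedGroup.of i))) (wN σ) := by
    intro σ
    rw [hevN, hwN]
  have h5 : ∀ m, (rhoS p m : ↥(Matrix.symplecticGroup ι F)) = evL (fun i => rhoS p (gM ζ i)) (wL m) := by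
    intro m
    rw [hevL, hwL]
  refine ⟨?_, ?_, ?_, h4, h5⟩
  · intro r hr
    rw [spmp09_evG_inN, hevN, PresentedGroup.one_of_mem hr, map_one, map_one]
  · intro r hr
    rw [spmp09_evG_inL, hevL, hLM r hr, map_one]
  · exact hP4 _ _ h4 h5

end P

end Cfsg.Agent.Lib.helper3.SPM
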