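import Mathlib
import Cfsg.Agent.Lib.helper3.SPM.Defs
import Cfsg.Agent.Lib.helper3.SPM.Defs2
import Cfsg.Agent.Lib.helper3.SPM.DefsP
import Cfsg.Agent.Lib.Helper9.SPMP10core
import Cfsg.Agent.Lib.Helper21.SPM.P02

/-!
# Project SPM (designer helper3, S2292/S2296), row P10 (helper9), VERBATIM: `pres_matrix`
= `spmp10_core` on helper21's P04 `words_of_glue` (`Helper21.SPM.P02`).
-/

set_option autoImplicit false

namespace Cfsg.Agent.Lib.helper3.SPM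

open Cfsg.Agent.Lib.helper3.STC Cfsg.Agent.Lib.helper3.STC.Mat Cfsg.Agent.Lib.helper17.SLP Cfsg.Agent.Lib.helper3.SP4

universe u v w v'

section P

variable {F : Type u} [Field F] {ι : Type w} [Fintype ι] [DecidableEq ι] {k : ℕ}

/-- P10 [M]  the matrix side. -/
theorem pres_matrix (p : Pts ι) (ζ : Fˣ) (relsN : Set (FreeGroup (Fin k))) (eN : PresentedGroup relsN ≃* Equiv.Perm ι)
    (wN : Equiv.Perm ι → FreeGroup (Fin k)) (hwN : ∀ σ, eN (PresentedGroup.mk relsN (wN σ)) = σ)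
    (L6 : List (FreeGroup (Fin 6))) (hLM : ∀ r ∈ L6, evL (gM (F := F) ζ) r = 1)
    (wL : Sp4 F → FreeGroup (Fin 6)) (hwL : ∀ m, evL (gM ζ) (wL m) = m)
    (c d c' d' : Equiv.Perm ι) (b₁ b₂ b₃ : Sp4 F)
    (hc : c p.o1 = p.o1) (hd : d p.o1 = p.o1) (hc' : c' p.o0 = p.o0 ∧ c' p.o1 = p.o1) (hd' : d' p.o0 = p.o0 ∧ d' p.o1 = p.o1)
    (hb₁ : b₁ ∈ B1 F) (hb₂ : b₂ ∈ B1 F) (hb₃ : b₃ ∈ B1 F)
    (hglue : Glue p (permSp (F := F) (ι := ι)) (rhoS p)) :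
    (∀ r ∈ relsN, evG (fun i => (permSp (eN (PresentedGroup.of i)) : ↥(Matrix.symplecticGroup ι F)))
        (fun i => rhoS p (gM ζ i)) (inN r) = 1) ∧
      (∀ r ∈ L6, evG (fun i => (permSp (eN (PresentedGroup.of i)) : ↥(Matrix.symplecticGroup ι F)))
        (fun i => rhoS p (gM ζ i)) (inL r) = 1) ∧
      (∀ r ∈ wordsGlue p wN wL c d c' d' b₁ b₂ b₃,
        evG (fun i => (permSp (eN (PresentedGroup.of i)) : ↥(Matrix.symplecticGroup ι F)))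
          (fun i => rhoS p (gM ζ i)) r = 1) ∧
      (∀ σ, (permSp σ : ↥(Matrix.symplecticGroup ι F)) = evN (fun i => permSp (eN (PresentedGroup.of i))) (wN σ)) ∧
      ∀ m, (rhoS p m : ↥(Matrix.symplecticGroup ι F)) = evL (fun i => rhoS p (gM ζ i)) (wL m) :=
  spmp10_core p ζ relsN eN wN hwN L6 hLM wL hwL c d c' d' b₁ b₂ b₃
    (fun s g h4 h5 =>
      words_of_glue p wN wL c d c' d' b₁ b₂ b₃ hc hd hc' hd' hb₁ hb₂ hb₃ s g permSp (rhoS p) h4 h5 hglue)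

end P

end Cfsg.Agent.Lib.helper3.SPM
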