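import Mathlib
import Cfsg.Agent.Lib.helper3.SPM.Defs
import Cfsg.Agent.Lib.helper3.SPM.Defs2
import Cfsg.Agent.Lib.helper3.SPM.DefsP
import Cfsg.Agent.Lib.helper3.SPM.P05
import Cfsg.Agent.Lib.Helper24.SPMP07
import Cfsg.Agent.Lib.Helper21.SPM.P02
import Cfsg.Agent.Lib.Helper9.SPMP09
import Cfsg.Agent.Lib.Helper9.SPMP10

/-!
# Project SPM (designer helper3, S2292/S2296), row P12 (helper9): core of `spm_pres_core`

On the statements of P03 `glue_of_words` (`hP3`), P08 `gM_mem_B1` / `B1_le` (`hP8a hP8b`) and Y6 `iso_of_glue` (`hY6`, with its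
block-M / STC inputs already applied); everything else is imported (P05 P07 P02 P11 P04 P09 P10); own copies of P06.
-/

set_option autoImplicit false

namespace Cfsg.Agent.Lib.helper3.SPM

open Cfsg.Agent.Lib.helper3.STC Cfsg.Agent.Lib.helper3.STC.Mat Cfsg.Agent.Lib.helper17.SLP Cfsg.Agent.Lib.helper3.SP4

universe u v w v'

section P

variable {F : Type u} [Field F] {ι : Type w} [Fintype ι] [DecidableEq ι] {k : ℕ}

/-- own copy of P06 `exists_wL` -/
theorem spmp12_exists_wL (ζ : Fˣ) (hgen : Subgroup.closure (Set.range (gM (F := F) ζ)) = ⊤) :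
    ∃ wL : Sp4 F → FreeGroup (Fin 6), ∀ m, evL (gM ζ) (wL m) = m := by
  have h : ∀ m : Sp4 F, ∃ r : FreeGroup (Fin 6), evL (gM ζ) r = m := by
    intro m
    have hm : m ∈ Subgroup.closure (Set.range (gM (F := F) ζ)) := by rw [hgen]; exact Subgroup.mem_top _
    have hr : (evL (gM (F := F) ζ)).range = Subgroup.closure (Set.range (gM (F := F) ζ)) := by
      unfold evL
      exact FreeGroup.range_lift_eq_closure
    rw [← hr] at hm
    exact hm
  choose wL hwL using h
  exact ⟨wL, hwL⟩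

/-- own copy of P06 `exists_wN` -/
theorem spmp12_exists_wN (relsN : Set (FreeGroup (Fin k))) (eN : PresentedGroup relsN ≃* Equiv.Perm ι) :
    ∃ wN : Equiv.Perm ι → FreeGroup (Fin k), ∀ σ, eN (PresentedGroup.mk relsN (wN σ)) = σ := by
  have h : ∀ σ : Equiv.Perm ι, ∃ x : FreeGroup (Fin k), eN (PresentedGroup.mk relsN x) = σ := by
    intro σ
    obtain ⟨x, hx⟩ := PresentedGroup.mk_surjective relsN (eN.symm σ)
    exact ⟨x, by rw [hx, eN.apply_symm_apply]⟩
  choose wN hwN using h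
  exact ⟨wN, hwN⟩

/-- core of P12 -/
theorem spmp12_core [Fintype F] (p : Pts ι) (relsN : Finset (FreeGroup (Fin k)))
    (eN : PresentedGroup (↑relsN : Set (FreeGroup (Fin k))) ≃* Equiv.Perm ι)
    (hP3 : ∀ (wN : Equiv.Perm ι → FreeGroup (Fin k)) (wL : Sp4 F → FreeGroup (Fin 6))
      (c d c' d' : Equiv.Perm ι) (b₁ b₂ b₃ : Sp4 F),
      (∀ σ : Equiv.Perm ι, σ p.o1 = p.o1 → σ ∈ Subgroup.closure ({c, d} : Set (Equiv.Perm ι))) →
      (∀ σ : Equiv.Perm ι, σ p.o0 = p.o0 → σ p.o1 = p.o1 → σ ∈ Subgroup.closure ({c', d'} : Set (Equiv.Perm ι))) →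
      ((B1 F : Set (Sp4 F)) ⊆ Subgroup.closure ({b₁, b₂, b₃} : Set (Sp4 F))) →
      ∀ (G : Type) [Group G] (s : Fin k → G) (g : Fin 6 → G) (ν : Equiv.Perm ι →* G) (lam : Sp4 F →* G),
      (∀ σ, ν σ = evN s (wN σ)) → (∀ m, lam m = evL g (wL m)) →
      (∀ r ∈ wordsGlue p wN wL c d c' d' b₁ b₂ b₃, evG s g r = 1) → Glue p ν lam)
    (hP8a : ∀ ζ : Fˣ, gM (F := F) ζ 3 ∈ B1 F ∧ gM (F := F) ζ 4 ∈ B1 F ∧ gM (F := F) ζ 5 ∈ B1 F)
    (hP8b : ∀ ζ : Fˣ, (∀ y : Fˣ, y ∈ Subgroup.zpowers ζ) →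
      (B1 F : Set (Sp4 F)) ⊆ Subgroup.closure ({gM ζ 3, gM ζ 4, gM ζ 5} : Set (Sp4 F)))
    (hglueM : Glue p (permSp (F := F) (ι := ι)) (rhoS p))
    (hY6 : ∀ (G : Type) [Group G] (ν : Equiv.Perm ι →* G) (lam : Sp4 F →* G), Glue p ν lam →
      Subgroup.closure (Set.range ν ∪ Set.range lam) = ⊤ →
      ∀ π : G →* ↥(Matrix.symplecticGroup ι F), π.comp ν = permSp → π.comp lam = rhoS p → Function.Bijective π) :
    ∃ rels : Finset (FreeGroup (Fin (k + 6))), rels.card ≤ relsN.card + 35 + (if p.o3 = none then 14 else 15) ∧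
      Nonempty (PresentedGroup (↑rels : Set (FreeGroup (Fin (k + 6)))) ≃* ↥(Matrix.symplecticGroup ι F)) := by
  classical
  obtain ⟨ζ, hζ'⟩ := IsCyclic.exists_generator (α := Fˣ)
  have hζ : ∀ y : Fˣ, y ∈ Subgroup.zpowers ζ := hζ'
  obtain ⟨L6, hL35, hLM, hgen6, hL⟩ := sp4_marked (F := F) ζ hζ
  obtain ⟨wL, hwL⟩ := spmp12_exists_wL ζ hgen6
  obtain ⟨wN, hwN⟩ := spmp12_exists_wN (↑relsN : Set (FreeGroup (Fin k))) eN
  obtain ⟨c, d, hc, hd, hcd⟩ := stab1_gens p
  obtain ⟨c', d', hc', hd', hcd'⟩ := stab01_gens p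
  obtain ⟨hb₁, hb₂, hb₃⟩ := hP8a ζ
  have hB := hP8b ζ hζ
  set W := wordsGlue p wN wL c d c' d' (gM ζ 3) (gM ζ 4) (gM ζ 5) with hW
  set rels : Finset (FreeGroup (Fin (k + 6))) := relsN.image inN ∪ (L6.map inL).toFinset ∪ W.toFinset with hrels
  have hmemN : ∀ r ∈ (↑relsN : Set (FreeGroup (Fin k))), inN r ∈ (↑rels : Set (FreeGroup (Fin (k + 6)))) := by
    intro r hr
    simp only [hrels, Finset.coe_union, Finset.coe_image, Set.mem_union, Set.mem_image, Finset.mem_coe]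
    exact Or.inl (Or.inl ⟨r, hr, rfl⟩)
  have hmemL : ∀ r ∈ L6, inL r ∈ (↑rels : Set (FreeGroup (Fin (k + 6)))) := by
    intro r hr
    simp only [hrels, Finset.coe_union, Set.mem_union, Finset.mem_coe, List.mem_toFinset, List.mem_map]
    exact Or.inl (Or.inr ⟨r, hr, rfl⟩)
  have hmemW : ∀ r ∈ W, r ∈ (↑rels : Set (FreeGroup (Fin (k + 6)))) := by
    intro r hr
    simp only [hrels, Finset.coe_union, Set.mem_union, Finset.mem_coe, List.mem_toFinset]
    exact Or.inr hr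
  refine ⟨rels, ?_, ?_⟩
  · have h1 : (relsN.image (inN (k := k))).card ≤ relsN.card := Finset.card_image_le
    have h2 : (L6.map (inL (k := k))).toFinset.card ≤ 35 := by
      refine (List.toFinset_card_le _).trans ?_
      rw [List.length_map]; exact hL35
    have h3 : W.toFinset.card ≤ (if p.o3 = none then 14 else 15) := by
      refine (List.toFinset_card_le _).trans ?_
      rw [hW, wordsGlue_length]
    have h4 := Finset.card_union_le (relsN.image (inN (k := k)) ∪ (L6.map (inL (k := k))).toFinset) W.toFinset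
    have h5 := Finset.card_union_le (relsN.image (inN (k := k))) (L6.map (inL (k := k))).toFinset
    rw [hrels]; omega
  · obtain ⟨ν, lam, hν, hlam, hgen, hev⟩ :=
      pres_abstract ζ (↑relsN : Set (FreeGroup (Fin k))) eN wN hwN L6 hL wL hwL
        (↑rels : Set (FreeGroup (Fin (k + 6)))) hmemN hmemL
    have hone : ∀ r ∈ (↑rels : Set (FreeGroup (Fin (k + 6)))),
        PresentedGroup.mk (↑rels : Set (FreeGroup (Fin (k + 6)))) r = 1 := fun r hr => PresentedGroup.one_of_mem hr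
    have hrelW : ∀ r ∈ wordsGlue p wN wL c d c' d' (gM ζ 3) (gM ζ 4) (gM ζ 5),
        evG (fun i => (PresentedGroup.of (Fin.castAdd 6 i) : PresentedGroup (↑rels : Set (FreeGroup (Fin (k + 6))))))
          (fun i => PresentedGroup.of (Fin.natAdd k i)) r = 1 := by
      intro r hr
      rw [hev]
      exact hone r (hmemW r hr)
    have HG : Glue p ν lam :=
      hP3 wN wL c d c' d' (gM ζ 3) (gM ζ 4) (gM ζ 5) hcd hcd' hB _ _ _ ν lam hν hlam hrelW
    obtain ⟨h1, h2, h3, h4, h5⟩ :=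
      pres_matrix p ζ (↑relsN : Set (FreeGroup (Fin k))) eN wN hwN L6 hLM wL hwL c d c' d'
        (gM ζ 3) (gM ζ 4) (gM ζ 5) hc hd hc' hd' hb₁ hb₂ hb₃ hglueM
    set s : Fin k → ↥(Matrix.symplecticGroup ι F) := fun i => permSp (eN (PresentedGroup.of i)) with hs
    set g : Fin 6 → ↥(Matrix.symplecticGroup ι F) := fun i => rhoS p (gM ζ i) with hg
    have hΦrel : ∀ r ∈ (↑rels : Set (FreeGroup (Fin (k + 6)))), FreeGroup.lift (Fin.append s g) r = 1 := by
      intro r hr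
      simp only [hrels, Finset.coe_union, Finset.coe_image, Set.mem_union, Set.mem_image, Finset.mem_coe,
        List.mem_toFinset, List.mem_map] at hr
      rcases hr with (⟨x, hx, rfl⟩ | ⟨x, hx, rfl⟩) | hr
      · exact h1 x hx
      · exact h2 x hx
      · exact h3 r hr
    set Φ : PresentedGroup (↑rels : Set (FreeGroup (Fin (k + 6)))) →* ↥(Matrix.symplecticGroup ι F) :=
      PresentedGroup.toGroup hΦrel with hΦ
    have hΦof : ∀ i : Fin (k + 6), Φ (PresentedGroup.of i) = Fin.append s g i :=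
      fun i => PresentedGroup.toGroup.of hΦrel
    have hΦν : Φ.comp ν = permSp := by
      ext1 σ
      rw [MonoidHom.comp_apply, hν, spmp09_evN_map, h4 σ]
      congr 2
      funext i
      simp only [Function.comp_apply, hΦof, Fin.append_left]
    have hΦlam : Φ.comp lam = rhoS p := by
      ext1 m
      rw [MonoidHom.comp_apply, hlam, spmp09_evL_map, h5 m]
      congr 2
      funext i
      simp only [Function.comp_apply, hΦof, Fin.append_right]
    exact ⟨MulEquiv.ofBijective Φ (hY6 _ ν lam HG hgen Φ hΦν hΦlam)⟩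

end P

end Cfsg.Agent.Lib.helper3.SPM
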