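import Mathlib
import Cfsg.Agent.Lib.helper3.SPM.Defs
import Cfsg.Agent.Lib.helper3.SPM.Defs2
import Cfsg.Agent.Lib.helper3.SPM.DefsP
import Cfsg.Agent.Lib.Helper21.SPM.Facts
import Cfsg.Agent.Lib.Helper26.STCK3

/-!
# Project SPM (designer helper3, S2292/S2296), row P13 (helper9): core of `spm_pres` on the statement of P12 `spm_pres_core`
(block M `spFacts_M glue_M spmm_hxM`, `matSys_gen`, STC K3 `SysC.Rep.injective` imported).
-/

set_option autoImplicit false

namespace Cfsg.Agent.Lib.helper3.SPM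

open Cfsg.Agent.Lib.helper3.STC Cfsg.Agent.Lib.helper3.STC.Mat Cfsg.Agent.Lib.helper17.SLP Cfsg.Agent.Lib.helper3.SP4

universe u v w v'

theorem spmp13_o3 (m : ℕ) (hm : 3 ≤ m) : ((ptsFin m hm).o3 = none) ↔ ¬ 4 ≤ m := by
  unfold ptsFin
  simp only
  split_ifs with h
  · simp [h]
  · simp [h]

/-- core of P13 on the statement of P12 at `ι = Fin m`. -/
theorem spmp13_core {F : Type u} [Field F] [Fintype F] (m : ℕ) (hm : 3 ≤ m) {k : ℕ} (relsN : Finset (FreeGroup (Fin k)))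
    (eN : PresentedGroup (↑relsN : Set (FreeGroup (Fin k))) ≃* Equiv.Perm (Fin m))
    (hP12 : ∀ (p : Pts (Fin m)) (relsN : Finset (FreeGroup (Fin k)))
      (eN : PresentedGroup (↑relsN : Set (FreeGroup (Fin k))) ≃* Equiv.Perm (Fin m))
      (hS : SpFacts F) (hglueM : Glue p (permSp (F := F) (ι := Fin m)) (rhoS p))
      (hxM : ∀ (a b : Fin m ⊕ Fin m) (t : F), a ≠ b → xr p (permSp (F := F)) (rhoS p) a b t = tm a b t)
      (hgenM : (matSys (Fin m) F).XQ (fun _ _ => True) = ⊤)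
      (hinj : ∀ (G : Type) [Group G] (S : SysC F (Fin m) G) (R : S.Rep (Fin m)),
        S.XQ (fun _ _ => True) = ⊤ → Function.Injective R.φ),
      ∃ rels : Finset (FreeGroup (Fin (k + 6))), rels.card ≤ relsN.card + 35 + (if p.o3 = none then 14 else 15) ∧
        Nonempty (PresentedGroup (↑rels : Set (FreeGroup (Fin (k + 6)))) ≃* ↥(Matrix.symplecticGroup (Fin m) F))) :
    ∃ rels : Finset (FreeGroup (Fin (k + 6))), rels.card ≤ relsN.card + 35 + (if 4 ≤ m then 15 else 14) ∧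
      Nonempty (PresentedGroup (↑rels : Set (FreeGroup (Fin (k + 6)))) ≃* ↥(Matrix.symplecticGroup (Fin m) F)) := by
  obtain ⟨rels, hcard, hiso⟩ := hP12 (ptsFin m hm) relsN eN (spFacts_M F) (glue_M _) (spmm_hxM _) (matSys_gen m)
    (fun G _ S R hgen => SysC.Rep.injective R hgen)
  refine ⟨rels, ?_, hiso⟩
  have h3 := spmp13_o3 m hm
  by_cases h4 : 4 ≤ m
  · rw [if_pos h4]
    rw [if_neg (fun h => (h3.mp h) h4)] at hcard
    exact hcard
  · rw [if_neg h4]
    rw [if_pos (h3.mpr h4)] at hcard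
    exact hcard

end Cfsg.Agent.Lib.helper3.SPM
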