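import Mathlib
import Cfsg.Agent.Lib.helper3.SPM.Defs
import Cfsg.Agent.Lib.helper3.SPM.Defs2
import Cfsg.Agent.Lib.helper3.SPM.DefsP
import Cfsg.Agent.Lib.Helper9.SPMP12core
import Cfsg.Agent.Lib.Helper9.SPMP13core
import Cfsg.Agent.Lib.Helper21.SPM.P03
import Cfsg.Agent.Lib.Helper21.SPM.P08
import Cfsg.Agent.Lib.helper3.SPMX

/-!
# Project SPM (designer helper3, S2292/S2296), rows P12 + P13 (helper9), VERBATIM: `spm_pres_core`, `spm_pres`

`spm_pres_core` = `spmp12_core` on helper21's P03 `glue_of_words`, P08 `gM_mem_B1` / `B1_le` and helper3's express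
`spmx_iso_of_glue` (= the exact Y6 statement); `spm_pres` = `spmp13_core` on `spm_pres_core`.
-/

set_option autoImplicit false

namespace Cfsg.Agent.Lib.helper3.SPM

open Cfsg.Agent.Lib.helper3.STC Cfsg.Agent.Lib.helper3.STC.Mat Cfsg.Agent.Lib.helper17.SLP Cfsg.Agent.Lib.helper3.SP4

universe u v w v'

section P

variable {F : Type u} [Field F] {ι : Type w} [Fintype ι] [DecidableEq ι] {k : ℕ}

/-- P12 [M-L]  assembly. -/
theorem spm_pres_core [Fintype F] (p : Pts ι) (relsN : Finset (FreeGroup (Fin k)))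
    (eN : PresentedGroup (↑relsN : Set (FreeGroup (Fin k))) ≃* Equiv.Perm ι)
    (hS : SpFacts F) (hglueM : Glue p (permSp (F := F) (ι := ι)) (rhoS p))
    (hxM : ∀ (a b : ι ⊕ ι) (t : F), a ≠ b → xr p (permSp (F := F)) (rhoS p) a b t = tm a b t)
    (hgenM : (matSys ι F).XQ (fun _ _ => True) = ⊤)
    (hinj : ∀ (G : Type) [Group G] (S : SysC F ι G) (R : S.Rep ι), S.XQ (fun _ _ => True) = ⊤ → Function.Injective R.φ) :
    ∃ rels : Finset (FreeGroup (Fin (k + 6))), rels.card ≤ relsN.card + 35 + (if p.o3 = none then 14 else 15) ∧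
      Nonempty (PresentedGroup (↑rels : Set (FreeGroup (Fin (k + 6)))) ≃* ↥(Matrix.symplecticGroup ι F)) :=
  spmp12_core p relsN eN
    (fun wN wL c d c' d' b₁ b₂ b₃ hcd hcd' hB G _ s g ν lam hν hlam hrel =>
      glue_of_words p wN wL c d c' d' b₁ b₂ b₃ hcd hcd' hB s g ν lam hν hlam hrel)
    (fun ζ => gM_mem_B1 ζ) (fun ζ hζ => B1_le ζ hζ) hglueM
    (fun G _ ν lam H hgen π hν hlam =>
      spmx_iso_of_glue p ν lam H hS hgen π hν hlam hxM hgenM (fun S R h => hinj G S R h))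

end P

/-- P13 [S]  **the main theorem of SPM**. -/
theorem spm_pres {F : Type u} [Field F] [Fintype F] (m : ℕ) (hm : 3 ≤ m) {k : ℕ} (relsN : Finset (FreeGroup (Fin k)))
    (eN : PresentedGroup (↑relsN : Set (FreeGroup (Fin k))) ≃* Equiv.Perm (Fin m)) :
    ∃ rels : Finset (FreeGroup (Fin (k + 6))), rels.card ≤ relsN.card + 35 + (if 4 ≤ m then 15 else 14) ∧
      Nonempty (PresentedGroup (↑rels : Set (FreeGroup (Fin (k + 6)))) ≃* ↥(Matrix.symplecticGroup (Fin m) F)) :=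
  spmp13_core m hm relsN eN
    (fun p relsN eN hS hglueM hxM hgenM hinj => spm_pres_core p relsN eN hS hglueM hxM hgenM hinj)

end Cfsg.Agent.Lib.helper3.SPM
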