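import Mathlib
import Cfsg.Agent.Lib.Helper9.QDF21
import Cfsg.Agent.Lib.Helper1.NonCyclic

set_option autoImplicit false

namespace Cfsg.Agent.Lib.Helper9

open scoped IsMulCommutative in
/-- a finite commutative 2-group with at most one involution is cyclic -/
theorem isCyclic_of_comm_of_unique_invol {A : Type*} [Group A] [Finite A]
    (hc : ∀ a b : A, a * b = b * a) (h2 : IsPGroup 2 A)
    (huniq : ∀ a b : A, a ≠ 1 → b ≠ 1 → a * a = 1 → b * b = 1 → a = b) : IsCyclic A := by
  haveI : IsMulCommutative A := ⟨⟨hc⟩⟩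
  by_contra hnc
  obtain ⟨r, hr, x, y, hx1, hxr, hyr, hy⟩ := Cfsg.Agent.Lib.Helper1.exists_noncyclic_pair (A := A) hnc
  haveI : Fact r.Prime := ⟨hr⟩
  have hox : orderOf x = r := orderOf_eq_prime hxr hx1
  obtain ⟨k, hk⟩ := h2 x
  have hr2 : r = 2 := by
    have h1 : r ∣ 2 ^ k := by rw [← hox]; exact orderOf_dvd_of_pow_eq_one hk
    exact (Nat.prime_dvd_prime_iff_eq hr Nat.prime_two).mp (hr.dvd_of_dvd_pow h1)
  subst hr2
  have hy1 : y ≠ 1 := fun h => hy (h ▸ Subgroup.one_mem _)
  rw [pow_two] at hxr hyr
  have := huniq x y hx1 hy1 hxr hyr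
  exact hy (this ▸ Subgroup.mem_zpowers x)

/-- in a wreathed 2-group, a subgroup avoiding the central involution is cyclic -/
theorem WD.isCyclic_of_zeta_notMem {S : Type*} [Group S] [Finite S] (D : WD S) (P : Subgroup S)
    (hζ : D.A D.u D.u ∉ P) : IsCyclic P := by
  haveI : Fact (Nat.Prime 2) := ⟨Nat.prime_two⟩
  have h2S : IsPGroup 2 S := IsPGroup.of_card D.card
  have hdiag : ∀ m, D.A m m ∈ P → m = 0 := by
    intro m hm
    by_contra hne
    obtain ⟨r, hr⟩ := D.exists_mul_eq_u m hne
    apply hζ
    have := P.pow_mem hm r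
    rwa [D.A_pow, hr] at this
  by_cases hPU : P ≤ D.U
  · apply isCyclic_of_comm_of_unique_invol
    · intro a b
      apply Subtype.ext
      obtain ⟨i, j, hi⟩ := hPU a.2
      obtain ⟨k, l, hk⟩ := hPU b.2
      show (a : S) * b = b * a
      rw [hi, hk, D.A_mul_A, D.A_mul_A, add_comm i k, add_comm j l]
    · exact h2S.to_subgroup P
    · intro a b ha hb ha2 hb2
      have key : ∀ c : P, c ≠ 1 → c * c = 1 → (c : S) = D.A D.u 0 ∨ (c : S) = D.A 0 D.u := by
        intro c hc hc2
        have ho : orderOf (c : S) = 2 :=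
          orderOf_eq_prime (by rw [pow_two]; exact congrArg Subtype.val hc2)
            (fun h => hc (Subtype.ext h))
        rcases (D.orderOf_two_iff _).mp ho with h | h | h | ⟨i, h⟩
        · exact absurd (h ▸ c.2) hζ
        · left; exact h
        · right; exact h
        · exfalso
          obtain ⟨k, l, hkl⟩ := hPU c.2
          rw [h] at hkl
          exact D.B_ne_A _ _ _ _ hkl
      rcases key a ha ha2 with h1 | h1 <;> rcases key b hb hb2 with h2 | h2
      · exact Subtype.ext (h1.trans h2.symm)
      · exfalso; apply hζ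
        have := P.mul_mem a.2 b.2
        rw [h1, h2, D.A_mul_A] at this
        simpa using this
      · exfalso; apply hζ
        have := P.mul_mem a.2 b.2
        rw [h1, h2, D.A_mul_A] at this
        simpa using this
      · exact Subtype.ext (h1.trans h2.symm)
  · obtain ⟨b, hbP, hbU⟩ := SetLike.not_le_iff_exists.mp hPU
    rcases D.cases b with ⟨i, j, rfl⟩ | ⟨k, l, rfl⟩
    · exact absurd (D.A_mem_U i j) hbU
    · have hkl : k + l = 0 := by
        apply hdiag
        have := P.mul_mem hbP hbP
        rwa [D.B_mul_B, add_comm l k] at this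
      have hPU' : ∀ i j, D.A i j ∈ P → D.A i j = 1 := by
        intro i j hc
        have h1 : D.B k l * D.A i j * (D.B k l)⁻¹ ∈ P :=
          P.mul_mem (P.mul_mem hbP hc) (P.inv_mem hbP)
        rw [D.B_conj_A] at h1
        have h2 := P.mul_mem hc h1
        rw [D.A_mul_A, add_comm j i] at h2
        have h3 : i + j = 0 := hdiag (i + j) h2
        by_contra hne
        have hi : i ≠ 0 := by
          rintro rfl
          rw [zero_add] at h3
          rw [h3, D.A_zero] at hne
          exact hne rfl
        obtain ⟨r, hr⟩ := D.exists_mul_eq_u i hi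
        apply hζ
        have h4 := P.pow_mem hc r
        rw [D.A_pow, hr] at h4
        have hj : j = -i := by linear_combination h3
        have h5 : (r : ZMod D.N) * j = D.u := by
          rw [hj, mul_neg, hr]
          linear_combination -D.two_u
        rwa [h5] at h4
      refine ⟨⟨⟨D.B k l, hbP⟩, fun p => ?_⟩⟩
      rcases D.cases (p : S) with ⟨i, j, hp⟩ | ⟨i, j, hp⟩
      · have h1 : (p : S) = 1 := by
          rw [hp]; apply hPU'; rw [← hp]; exact p.2
        have : p = 1 := Subtype.ext h1
        rw [this]; exact (Subgroup.zpowers (⟨D.B k l, hbP⟩ : P)).one_mem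
      · have h1 : (p : S) * D.B k l = 1 := by
          have := P.mul_mem p.2 hbP
          rw [hp, D.B_mul_B] at this ⊢
          exact hPU' _ _ this
        have h2 : p = (⟨D.B k l, hbP⟩ : P)⁻¹ := by
          apply Subtype.ext
          show (p : S) = (D.B k l)⁻¹
          exact eq_inv_of_mul_eq_one_left h1
        rw [h2]
        exact (Subgroup.zpowers (⟨D.B k l, hbP⟩ : P)).inv_mem (Subgroup.mem_zpowers _)

/-- every nonzero residue has a multiple equal to `u` -/
theorem QD.exists_mul_eq_u {S : Type*} [Group S] (D : QD S) (j : ZMod D.N) (hj : j ≠ 0) :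
    ∃ r : ℕ, (r : ZMod D.N) * j = D.u := by
  have key : ∀ i : ℕ, ∀ j : ZMod D.N, ((2 ^ i : ℕ) : ZMod D.N) * j = 0 → j ≠ 0 →
      ∃ r : ℕ, (r : ZMod D.N) * j = D.u := by
    intro i
    induction i with
    | zero =>
      intro j h0 hj
      exfalso; apply hj
      simpa using h0
    | succ i ih =>
      intro j h0 hj
      by_cases h2 : 2 * j = 0
      · rcases D.two_mul_eq_zero j h2 with h | h
        · exact absurd h hj
        · exact ⟨1, by rw [h]; simp⟩
      · have h3 : ((2 ^ i : ℕ) : ZMod D.N) * (2 * j) = 0 := by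
          rw [← h0]; push_cast; ring
        obtain ⟨r, hr⟩ := ih (2 * j) h3 h2
        exact ⟨r * 2, by rw [← hr]; push_cast; ring⟩
  apply key D.n j _ hj
  have : ((2 ^ D.n : ℕ) : ZMod D.N) = 0 := ZMod.natCast_self _
  rw [this, zero_mul]

/-- in a quasi-dihedral 2-group, a subgroup avoiding the central involution is cyclic -/
theorem QD.isCyclic_of_z_notMem {S : Type*} [Group S] [Finite S] (D : QD S) (P : Subgroup S)
    (hz : D.z ∉ P) : IsCyclic P := by
  have hX : ∀ i, D.X i ∈ P → D.X i = 1 := by
    intro i hi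
    by_contra hne
    have hi0 : i ≠ 0 := by
      rintro rfl
      exact hne D.X_zero
    obtain ⟨r, hr⟩ := D.exists_mul_eq_u i hi0
    apply hz
    have := P.pow_mem hi r
    rwa [D.X_pow, hr] at this
  by_cases hP : ∀ p : P, p = 1
  · haveI : Subsingleton P := ⟨fun a b => (hP a).trans (hP b).symm⟩
    exact isCyclic_of_subsingleton
  · push Not at hP
    obtain ⟨b, hb⟩ := hP
    rcases D.cases (b : S) with ⟨i, hi⟩ | ⟨k, hk⟩
    · exfalso; apply hb
      apply Subtype.ext
      show (b : S) = 1
      rw [hi]; apply hX; rw [← hi]; exact b.2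
    · refine ⟨⟨b, fun p => ?_⟩⟩
      rcases D.cases (p : S) with ⟨i, hp⟩ | ⟨i, hp⟩
      · have h1 : (p : S) = 1 := by
          rw [hp]; apply hX; rw [← hp]; exact p.2
        have : p = 1 := Subtype.ext h1
        rw [this]; exact (Subgroup.zpowers b).one_mem
      · have h1 : (p : S) * (b : S) = 1 := by
          have := P.mul_mem p.2 b.2
          rw [hp, hk, D.Y_mul_Y] at this ⊢
          exact hX _ this
        have h2 : p = b⁻¹ := by
          apply Subtype.ext
          show (p : S) = (b : S)⁻¹
          exact eq_inv_of_mul_eq_one_left h1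
        rw [h2]
        exact (Subgroup.zpowers b).inv_mem (Subgroup.mem_zpowers _)

end Cfsg.Agent.Lib.Helper9
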