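import Mathlib
import Cfsg.Agent.Lib.Helper9.SQ1
import Cfsg.Agent.Lib.Helper20.SimplePow
import Cfsg.Agent.Lib.Helper1.MinNormal
import Cfsg.Agent.Lib.Helper1.PLength
import Cfsg.Agent.Lib.Helper24.IndexTwo

set_option autoImplicit false

namespace Cfsg.Agent.Lib.Helper9

/-- the abstract properties of quasi-dihedral and wreathed Sylow 2-subgroups (in groups without
subgroups of index two) used to produce a simple normal subgroup of odd index. -/
structure GoodTwo {G : Type*} [Group G] (S : Sylow 2 G) : Prop where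
  fused : ∀ a b : G, orderOf a = 2 → orderOf b = 2 → IsConj a b
  cyc : ∀ (x : G) (P : Subgroup G), orderOf x = 2 → IsPGroup 2 P → (∀ p ∈ P, p * x = x * p) →
    x ∉ P → IsCyclic P
  noncomm : ∃ a b : G, orderOf a = 2 ∧ orderOf b = 2 ∧ a * b ≠ b * a
  quot : ∃ s₀ ∈ (S : Subgroup G), ∀ L : Subgroup G, (∀ t : G, orderOf t = 2 → t ∈ L) →
    ∀ s ∈ (S : Subgroup G), ∃ k : ℕ, ∃ l ∈ L, s = s₀ ^ k * l

namespace GoodTwo

variable {G : Type*} [Group G] [Finite G] {S : Sylow 2 G}

theorem odd_index (h : GoodTwo S) (hG : ∀ H : Subgroup G, H.index ≠ 2) (L : Subgroup G)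
    [L.Normal] (hL : ∀ t : G, orderOf t = 2 → t ∈ L) : Odd L.index := by
  haveI : Fact (Nat.Prime 2) := ⟨Nat.prime_two⟩
  obtain ⟨s₀, hs₀S, hs₀⟩ := h.quot
  have hπ : Function.Surjective (QuotientGroup.mk' L) := QuotientGroup.mk'_surjective L
  set T : Sylow 2 (G ⧸ L) := S.mapSurjective hπ with hT_def
  have hTcoe : (T : Subgroup (G ⧸ L)) = (S : Subgroup G).map (QuotientGroup.mk' L) := rfl
  have hT : IsCyclic (T : Subgroup (G ⧸ L)) := by
    have hmem : QuotientGroup.mk' L s₀ ∈ (T : Subgroup (G ⧸ L)) := by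
      rw [hTcoe]; exact Subgroup.mem_map_of_mem _ hs₀S
    refine ⟨⟨⟨QuotientGroup.mk' L s₀, hmem⟩, ?_⟩⟩
    intro t
    have ht : (t : G ⧸ L) ∈ (S : Subgroup G).map (QuotientGroup.mk' L) := t.2
    obtain ⟨s, hs, hst⟩ := ht
    obtain ⟨k, l, hl, hskl⟩ := hs₀ L hL s hs
    refine ⟨(k : ℤ), ?_⟩
    apply Subtype.ext
    simp only [zpow_natCast, Subgroup.coe_pow]
    rw [← hst, hskl, map_mul, map_pow]
    have : QuotientGroup.mk' L l = 1 := (QuotientGroup.eq_one_iff l).mpr hl
    rw [this, mul_one]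
  rw [← Nat.not_even_iff_odd]
  intro heven
  have heven' : Even (Nat.card (G ⧸ L)) := by rwa [Subgroup.index_eq_card] at heven
  obtain ⟨H, hH⟩ := Cfsg.Agent.Lib.Helper24.ix_cyclic_sylow heven' T hT
  exact hG (H.comap (QuotientGroup.mk' L))
    (by rw [Subgroup.index_comap_of_surjective H hπ]; exact hH)

theorem exists_simple (h : GoodTwo S) (hO : Cfsg.oddCore G = ⊥)
    (hG : ∀ H : Subgroup G, H.index ≠ 2) :
    ∃ L : Subgroup G, L.Normal ∧ Odd L.index ∧ IsSimpleGroup L ∧ ¬ IsMulCommutative L := by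
  classical
  haveI : Fact (Nat.Prime 2) := ⟨Nat.prime_two⟩
  obtain ⟨a₀, b₀, ha₀, hb₀, hab₀⟩ := h.noncomm
  haveI : Nontrivial G := ⟨⟨a₀, 1, fun h1 => by rw [h1, orderOf_one] at ha₀; omega⟩⟩
  obtain ⟨L, hLn, hLne, hLmin⟩ := Cfsg.Agent.Lib.Helper1.exists_minimal_normal (G := G)
  haveI := hLn
  -- `L` has even order
  have hLeven : 2 ∣ Nat.card L := by
    by_contra hodd
    have hcop : (Nat.card L).Coprime 2 :=
      (Nat.coprime_comm.mp ((Nat.Prime.coprime_iff_not_dvd Nat.prime_two).mpr hodd))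
    have hle := Cfsg.Agent.Lib.Helper1.le_pPrimeCore hLn hcop
    have hO' : Cfsg.pPrimeCore 2 G = ⊥ := hO
    rw [hO'] at hle
    exact hLne (le_bot_iff.mp hle)
  obtain ⟨x₀, hx₀⟩ := exists_prime_orderOf_dvd_card' (G := L) 2 hLeven
  have hx₀' : orderOf (x₀ : G) = 2 := by rw [Subgroup.orderOf_coe]; exact hx₀
  have hLinv : ∀ t : G, orderOf t = 2 → t ∈ L := by
    intro t ht
    obtain ⟨g, hg⟩ := isConj_iff.mp (h.fused x₀ t hx₀' ht)
    rw [← hg]; exact hLn.conj_mem _ x₀.2 g
  refine ⟨L, hLn, h.odd_index hG L hLinv, ?_⟩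
  obtain ⟨T, _, m, hTs, hm, ⟨e⟩⟩ :=
    Cfsg.Agent.Lib.Helper20.minimal_normal_simple_pow L hLne hLmin
  -- `T` is not commutative
  have hTnc : ¬ ∀ a b : T, a * b = b * a := by
    intro hc
    apply hab₀
    have ha : a₀ ∈ L := hLinv a₀ ha₀
    have hb : b₀ ∈ L := hLinv b₀ hb₀
    have : (⟨a₀, ha⟩ : L) * ⟨b₀, hb⟩ = ⟨b₀, hb⟩ * ⟨a₀, ha⟩ := by
      apply e.injective
      rw [map_mul, map_mul]
      funext i
      exact hc _ _
    exact congrArg Subtype.val this
  have hm1 : m = 1 := by
    by_contra hne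
    have hm2 : 2 ≤ m := by omega
    let i0 : Fin m := ⟨0, by omega⟩
    let i1 : Fin m := ⟨1, by omega⟩
    have hi01 : i0 ≠ i1 := by
      intro hc
      have := congrArg Fin.val hc
      simp [i0, i1] at this
    haveI : Finite (Fin m → T) := Finite.of_equiv L e.toEquiv
    haveI : Finite T := Finite.of_injective (Pi.mulSingle (M := fun _ : Fin m => T) i0)
      (Pi.mulSingle_injective i0)
    have hTeven : Even (Nat.card T) := by
      have hcard : Nat.card L = Nat.card T ^ m := by
        rw [Nat.card_congr e.toEquiv, Nat.card_fun]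
        simp
      rw [hcard] at hLeven
      exact even_iff_two_dvd.mpr (Nat.Prime.dvd_of_dvd_pow Nat.prime_two hLeven)
    obtain ⟨a, ha⟩ := exists_prime_orderOf_dvd_card' (G := T) 2 (even_iff_two_dvd.mp hTeven)
    let f0 : T →* G := L.subtype.comp
      (e.symm.toMonoidHom.comp (MonoidHom.mulSingle (fun _ : Fin m => T) i0))
    let f1 : T →* G := L.subtype.comp
      (e.symm.toMonoidHom.comp (MonoidHom.mulSingle (fun _ : Fin m => T) i1))
    have hs0 : Function.Injective (MonoidHom.mulSingle (fun _ : Fin m => T) i0) :=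
      Pi.mulSingle_injective (M := fun _ : Fin m => T) i0
    have hs1 : Function.Injective (MonoidHom.mulSingle (fun _ : Fin m => T) i1) :=
      Pi.mulSingle_injective (M := fun _ : Fin m => T) i1
    have hf0inj : Function.Injective f0 :=
      L.subtype_injective.comp (e.symm.injective.comp hs0)
    have hf1inj : Function.Injective f1 :=
      L.subtype_injective.comp (e.symm.injective.comp hs1)
    set x : G := f0 a with hx_def
    have hx : orderOf x = 2 := by rw [hx_def, orderOf_injective f0 hf0inj]; exact ha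
    let PT : Sylow 2 T := default
    set P : Subgroup G := (PT : Subgroup T).map f1 with hP_def
    have hP2 : IsPGroup 2 P := PT.2.map f1
    have hcomm : ∀ p ∈ P, p * x = x * p := by
      rintro _ ⟨t, -, rfl⟩
      have h1 : (Pi.mulSingle i1 t : Fin m → T) * Pi.mulSingle i0 a =
          Pi.mulSingle i0 a * Pi.mulSingle i1 t :=
        (Pi.mulSingle_commute (f := fun _ : Fin m => T) hi01.symm t a).eq
      have h2 := congrArg (fun w => ((e.symm w : L) : G)) h1
      simp only [map_mul, Subgroup.coe_mul] at h2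
      exact h2
    have hxP : x ∉ P := by
      rintro ⟨t, -, ht⟩
      have h1 : (Pi.mulSingle i1 t : Fin m → T) = Pi.mulSingle i0 a := by
        apply e.symm.injective
        apply L.subtype_injective
        exact ht
      have h2 := congrFun h1 i0
      rw [Pi.mulSingle_eq_same, Pi.mulSingle_eq_of_ne hi01] at h2
      rw [← h2, orderOf_one] at ha
      omega
    haveI hPcyc := h.cyc x P hx hP2 hcomm hxP
    have hPTcyc : IsCyclic (PT : Subgroup T) := by
      let eP := (PT : Subgroup T).equivMapOfInjective f1 hf1inj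
      exact isCyclic_of_surjective eP.symm eP.symm.surjective
    obtain ⟨H, hH⟩ := Cfsg.Agent.Lib.Helper24.ix_cyclic_sylow hTeven PT hPTcyc
    haveI := Subgroup.normal_of_index_eq_two hH
    rcases hTs.eq_bot_or_eq_top_of_normal H inferInstance with hb | ht
    · rw [hb, Subgroup.index_bot] at hH
      apply hTnc
      haveI : IsCyclic T := isCyclic_of_prime_card hH
      intro a b
      exact mul_comm' a b
    · rw [ht, Subgroup.index_top] at hH; omega
  subst hm1
  have e' : L ≃* T := e.trans (MulEquiv.funUnique (Fin 1) T)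
  haveI := hTs
  refine ⟨e'.isSimpleGroup, ?_⟩
  intro hc
  apply hTnc
  intro a b
  have := mul_comm' (e'.symm a) (e'.symm b)
  apply e'.symm.injective
  rw [map_mul, map_mul]; exact this

end GoodTwo

end Cfsg.Agent.Lib.Helper9
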