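import Mathlib
import Cfsg.Agent.Lib.Helper9.SQ2
import Cfsg.Agent.Lib.Helper1.Fusion

set_option autoImplicit false

namespace Cfsg.Agent.Lib.Helper9

open Cfsg.Agent.Lib.Helper1

/-- Sylow juggling inside the centralizer of a conjugate of a central element. -/
theorem exists_smul_of_centralizes {G : Type*} [Group G] [Finite G] {p : ℕ} [Fact p.Prime]
    (S : Sylow p G) (ζ : G) (hζ : ∀ s ∈ (S : Subgroup G), s * ζ = ζ * s) (g : G)
    (P : Subgroup G) (hP : IsPGroup p P)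
    (hc : ∀ q ∈ P, q * (g * ζ * g⁻¹) = (g * ζ * g⁻¹) * q) :
    ∃ h : G, h * ζ * h⁻¹ = g * ζ * g⁻¹ ∧ P ≤ ((h • S : Sylow p G) : Subgroup G) := by
  classical
  set x : G := g * ζ * g⁻¹ with hx
  set C : Subgroup G := Subgroup.centralizer ({x} : Set G) with hC
  have hS'C : ((g • S : Sylow p G) : Subgroup G) ≤ C := by
    intro s hs
    have h1 : g⁻¹ * s * g ∈ (S : Subgroup G) := (mem_sylow_smul_iff g s S).mp hs
    have h2 := hζ _ h1
    rw [hC, Subgroup.mem_centralizer_singleton_iff, hx]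
    calc s * (g * ζ * g⁻¹) = g * ((g⁻¹ * s * g) * ζ) * g⁻¹ := by group
      _ = g * (ζ * (g⁻¹ * s * g)) * g⁻¹ := by rw [h2]
      _ = g * ζ * g⁻¹ * s := by group
  have hPC : P ≤ C := by
    intro q hq
    rw [hC, Subgroup.mem_centralizer_singleton_iff]
    exact hc q hq
  have hPC2 : IsPGroup p (P.subgroupOf C) := hP.comap_subtype
  obtain ⟨Q, hQ⟩ := hPC2.exists_le_sylow
  obtain ⟨c, hcQ⟩ := MulAction.exists_smul_eq ↥C ((g • S : Sylow p G).subtype hS'C) Q
  refine ⟨(c : G) * g, ?_, ?_⟩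
  · have h1 := Subgroup.mem_centralizer_singleton_iff.mp c.2
    calc (c : G) * g * ζ * ((c : G) * g)⁻¹ = (c : G) * (g * ζ * g⁻¹) * (c : G)⁻¹ := by group
      _ = (c : G) * x * (c : G)⁻¹ := by rw [hx]
      _ = x * (c : G) * (c : G)⁻¹ := by rw [h1]
      _ = x := by group
  · intro q hq
    have h1 : (⟨q, hPC hq⟩ : ↥C) ∈ (Q : Subgroup ↥C) := hQ (Subgroup.mem_subgroupOf.mpr hq)
    rw [← hcQ] at h1
    have h2 := (mem_sylow_smul_iff c ⟨q, hPC hq⟩ ((g • S : Sylow p G).subtype hS'C)).mp h1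
    have h3 : ((c⁻¹ * ⟨q, hPC hq⟩ * c : ↥C) : G) ∈ ((g • S : Sylow p G) : Subgroup G) := h2
    have h4 := (mem_sylow_smul_iff g _ S).mp h3
    apply (mem_sylow_smul_iff ((c : G) * g) q S).mpr
    have e1 : ((c : G) * g)⁻¹ * q * ((c : G) * g) =
        g⁻¹ * ((c⁻¹ * ⟨q, hPC hq⟩ * c : ↥C) : G) * g := by
      simp only [Subgroup.coe_mul, Subgroup.coe_inv]
      group
    rw [e1]; exact h4

namespace WD

section good

variable {G : Type*} [Group G] [Finite G] (S : Sylow 2 G) (D : WD ↥(S : Subgroup G))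
include D

theorem zeta_fused (hG : ∀ H : Subgroup G, H.index ≠ 2) (x : G) (hx : orderOf x = 2) :
    IsConj D.zeta x := by
  obtain ⟨hζt, htz⟩ := WD.all_fused_of_no_index_two S D hG
  rcases WD.invol_cases_w S D x hx with h | h | h
  · exact h.symm
  · exact hζt.trans h.symm
  · exact (hζt.trans htz).trans h.symm

theorem cyc_of_avoid (hG : ∀ H : Subgroup G, H.index ≠ 2) (x : G) (P : Subgroup G)
    (hx : orderOf x = 2) (hP : IsPGroup 2 P) (hc : ∀ p ∈ P, p * x = x * p) (hxP : x ∉ P) :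
    IsCyclic P := by
  haveI : Fact (Nat.Prime 2) := ⟨Nat.prime_two⟩
  obtain ⟨g, hg⟩ := isConj_iff.mp (zeta_fused S D hG x hx)
  subst hg
  obtain ⟨h, hh, hPle⟩ := exists_smul_of_centralizes S D.zeta
    (fun s hs => (D.Zg_comm D.zeta_mem_Zg hs).symm) g P hP hc
  have hz' : (smulWD S D h).zeta = g * D.zeta * g⁻¹ := (smulWD_zeta S D h).trans hh
  haveI hcyc := (smulWD S D h).isCyclic_of_zeta_notMem
    (P.subgroupOf ((h • S : Sylow 2 G) : Subgroup G)) (by
      intro hmem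
      rw [Subgroup.mem_subgroupOf] at hmem
      apply hxP
      rw [← hz']; exact hmem)
  exact isCyclic_of_surjective (Subgroup.subgroupOfEquivOfLe hPle)
    (Subgroup.subgroupOfEquivOfLe hPle).surjective

theorem goodTwo (hG : ∀ H : Subgroup G, H.index ≠ 2) : GoodTwo S where
  fused := by
    intro a b ha hb
    exact (zeta_fused S D hG a ha).symm.trans (zeta_fused S D hG b hb)
  cyc := fun x P hx hP hc hxP => cyc_of_avoid S D hG x P hx hP hc hxP
  noncomm := by
    refine ⟨D.zz, D.tt, WD.orderOf_zz_g S D, WD.orderOf_tt_g S D, ?_⟩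
    intro hc
    have h1 : D.B 0 0 * D.A D.u 0 = D.A D.u 0 * D.B 0 0 := Subtype.ext (by simpa using hc)
    rw [D.B_mul_A, D.A_mul_B] at h1
    have := (D.B_inj h1).1
    simp only [zero_add, add_zero] at this
    exact D.u_ne_zero this.symm
  quot := by
    refine ⟨D.xx, (D.A 1 0).2, ?_⟩
    intro L hL s hs
    have hinv : ∀ i : ZMod D.N, ((D.B i (-i) : ↥(S : Subgroup G)) : G) ∈ L := by
      intro i
      apply hL
      rw [Subgroup.orderOf_coe]
      exact (D.orderOf_two_iff _).mpr (Or.inr (Or.inr (Or.inr ⟨i, rfl⟩)))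
    have hAL : ∀ j : ZMod D.N, ((D.A (-j) j : ↥(S : Subgroup G)) : G) ∈ L := by
      intro j
      have h1 : D.A (-j) j = D.B (-j) (- -j) * D.B 0 (-0) := by
        rw [D.B_mul_B]; congr 1 <;> ring
      rw [h1]
      exact L.mul_mem (hinv _) (hinv _)
    have key : ∀ i j : ZMod D.N, D.A i j = (D.A 1 0) ^ (i + j).val * D.A (-j) j := by
      intro i j
      rw [D.A_pow, D.A_mul_A, ZMod.natCast_zmod_val]
      congr 1 <;> ring
    rcases D.cases ⟨s, hs⟩ with ⟨i, j, hij⟩ | ⟨i, j, hij⟩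
    · refine ⟨(i + j).val, ((D.A (-j) j : ↥(S : Subgroup G)) : G), hAL j, ?_⟩
      have h1 : s = ((D.A i j : ↥(S : Subgroup G)) : G) := congrArg Subtype.val hij
      rw [h1, key i j]; rfl
    · refine ⟨(i + j).val, ((D.A (-j) j : ↥(S : Subgroup G)) : G) *
        ((D.B 0 (-0) : ↥(S : Subgroup G)) : G), L.mul_mem (hAL j) (hinv 0), ?_⟩
      have h1 : s = ((D.B i j : ↥(S : Subgroup G)) : G) := congrArg Subtype.val hij
      have h2 : D.B i j = (D.A 1 0) ^ (i + j).val * (D.A (-j) j * D.B 0 (-0)) := by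
        rw [← mul_assoc, ← key i j, D.A_mul_B]; congr 1 <;> ring
      rw [h1, h2]; rfl

end good

end WD

end Cfsg.Agent.Lib.Helper9
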