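import Mathlib
import Cfsg.Agent.Lib.Helper9.SQ3

set_option autoImplicit false

namespace Cfsg.Agent.Lib.Helper9

open Cfsg.Agent.Lib.Helper1

namespace QD

section good

variable {G : Type*} [Group G] [Finite G] (S : Sylow 2 G) (D : QD ↥(S : Subgroup G))
include D

theorem z_fused (hG : ∀ H : Subgroup G, H.index ≠ 2) (x : G) (hx : orderOf x = 2) :
    IsConj ((D.z : ↥(S : Subgroup G)) : G) x := by
  obtain ⟨hzY, -⟩ := qd_all_fused S D hG
  rcases invol_cases S D x hx with h | h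
  · exact h.symm
  · exact hzY.trans h.symm

theorem cyc_of_avoid (hG : ∀ H : Subgroup G, H.index ≠ 2) (x : G) (P : Subgroup G)
    (hx : orderOf x = 2) (hP : IsPGroup 2 P) (hc : ∀ p ∈ P, p * x = x * p) (hxP : x ∉ P) :
    IsCyclic P := by
  haveI : Fact (Nat.Prime 2) := ⟨Nat.prime_two⟩
  obtain ⟨g, hg⟩ := isConj_iff.mp (z_fused S D hG x hx)
  subst hg
  obtain ⟨h, hh, hPle⟩ := exists_smul_of_centralizes S ((D.z : ↥(S : Subgroup G)) : G)
    (fun s hs => by
      have := congrArg (Subtype.val : ↥(S : Subgroup G) → G) (D.z_central ⟨s, hs⟩)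
      simpa using this) g P hP hc
  have hz' : (((smulQD S D h).z : ↥((h • S : Sylow 2 G) : Subgroup G)) : G) =
      g * ((D.z : ↥(S : Subgroup G)) : G) * g⁻¹ := (smulQD_z S D h).trans hh
  haveI hcyc := (smulQD S D h).isCyclic_of_z_notMem
    (P.subgroupOf ((h • S : Sylow 2 G) : Subgroup G)) (by
      intro hmem
      rw [Subgroup.mem_subgroupOf] at hmem
      apply hxP
      rw [← hz']; exact hmem)
  exact isCyclic_of_surjective (Subgroup.subgroupOfEquivOfLe hPle)
    (Subgroup.subgroupOfEquivOfLe hPle).surjective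

theorem four_ne_zero : (4 : ZMod D.N) ≠ 0 := by
  intro h
  have h1 : ((4 : ℕ) : ZMod D.N) = 0 := by exact_mod_cast h
  rw [ZMod.natCast_eq_zero_iff] at h1
  have h2 : 2 ^ 3 ≤ D.N := by
    unfold QD.N
    exact Nat.pow_le_pow_right (by norm_num) D.hn
  have := Nat.le_of_dvd (by norm_num) h1
  omega

theorem goodTwo (hG : ∀ H : Subgroup G, H.index ≠ 2) : GoodTwo S where
  fused := by
    intro a b ha hb
    exact (z_fused S D hG a ha).symm.trans (z_fused S D hG b hb)
  cyc := fun x P hx hP hc hxP => cyc_of_avoid S D hG x P hx hP hc hxP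
  noncomm := by
    refine ⟨((D.Y 0 : ↥(S : Subgroup G)) : G), ((D.Y (2 * 1) : ↥(S : Subgroup G)) : G), ?_, ?_, ?_⟩
    · rw [Subgroup.orderOf_coe]; exact D.orderOf_Y_even D.ev_zero
    · rw [Subgroup.orderOf_coe]; exact D.orderOf_Y_even (D.ev_two_mul 1)
    · intro hc
      have h1 : D.Y 0 * D.Y (2 * 1) = D.Y (2 * 1) * D.Y 0 := Subtype.ext (by simpa using hc)
      rw [D.Y_mul_Y, D.Y_mul_Y] at h1
      have h2 := D.X_inj h1
      rw [D.ρ_eq] at h2
      apply four_ne_zero S D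
      linear_combination (-1 : ZMod D.N) * h2 + D.two_u
  quot := by
    refine ⟨((D.Y 1 : ↥(S : Subgroup G)) : G), (D.Y 1).2, ?_⟩
    intro L hL s hs
    have hYL : ∀ k : ZMod D.N, ((D.Y (2 * k) : ↥(S : Subgroup G)) : G) ∈ L := by
      intro k
      apply hL
      rw [Subgroup.orderOf_coe]
      exact D.orderOf_Y_even (D.ev_two_mul k)
    have hXL : ∀ k : ZMod D.N, ((D.X (2 * k) : ↥(S : Subgroup G)) : G) ∈ L := by
      intro k
      have h1 : D.X (2 * k) = D.Y (2 * k) * D.Y (2 * 0) := by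
        rw [D.Y_mul_Y]; congr 1; ring
      rw [h1]
      exact L.mul_mem (hYL k) (hYL 0)
    rcases D.cases ⟨s, hs⟩ with ⟨i, hi⟩ | ⟨i, hi⟩
    · have h1 : s = ((D.X i : ↥(S : Subgroup G)) : G) := congrArg Subtype.val hi
      obtain ⟨k, hk | hk⟩ := D.parity i
      · refine ⟨0, s, ?_, by simp⟩
        rw [h1, hk]; exact hXL k
      · refine ⟨1, ((D.Y (2 * (D.ρ * k)) : ↥(S : Subgroup G)) : G), hYL _, ?_⟩
        have h2 : D.X i = D.Y 1 * D.Y (2 * (D.ρ * k)) := by
          rw [D.Y_mul_Y, hk]; congr 1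
          linear_combination (-2 * k) * D.ρ_sq
        rw [h1, h2, pow_one]; rfl
    · have h1 : s = ((D.Y i : ↥(S : Subgroup G)) : G) := congrArg Subtype.val hi
      obtain ⟨k, hk | hk⟩ := D.parity i
      · refine ⟨0, s, ?_, by simp⟩
        rw [h1, hk]; exact hYL k
      · refine ⟨1, ((D.X (2 * (D.ρ * k)) : ↥(S : Subgroup G)) : G), hXL _, ?_⟩
        have h2 : D.Y i = D.Y 1 * D.X (2 * (D.ρ * k)) := by
          rw [D.Y_mul_X, hk]; congr 1
          linear_combination (-2 * k) * D.ρ_sq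
        rw [h1, h2, pow_one]; rfl

end good

end QD

end Cfsg.Agent.Lib.Helper9
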