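import Mathlib
import Cfsg.Agent.Lib.Helper9.SQ4

set_option autoImplicit false

namespace Cfsg.Agent.Lib.Helper9

theorem isQuasiDihedral_of_equiv {H S : Type*} [Group H] [Group S] (e : H ≃* S)
    (h : Cfsg.IsQuasiDihedral S) : Cfsg.IsQuasiDihedral H := by
  obtain ⟨D⟩ := exists_qd h
  exact ⟨(QD.ofEquiv e D).n, (QD.ofEquiv e D).hn, (QD.ofEquiv e D).card, (QD.ofEquiv e D).x,
    (QD.ofEquiv e D).y, (QD.ofEquiv e D).hx, (QD.ofEquiv e D).hy, (QD.ofEquiv e D).hc⟩

theorem isWreathed_of_equiv {H S : Type*} [Group H] [Group S] (e : H ≃* S)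
    (h : Cfsg.IsWreathed S) : Cfsg.IsWreathed H := by
  obtain ⟨D⟩ := exists_wd h
  exact ⟨(WD.ofEquiv e D).n, (WD.ofEquiv e D).hn, (WD.ofEquiv e D).card, (WD.ofEquiv e D).x,
    (WD.ofEquiv e D).y, (WD.ofEquiv e D).z, (WD.ofEquiv e D).hx, (WD.ofEquiv e D).hxy,
    (WD.ofEquiv e D).hdisj, (WD.ofEquiv e D).hz, (WD.ofEquiv e D).hc⟩

theorem exists_simple_of_qd_or_wreathed {G : Type*} [Group G] [Finite G] (S : Sylow 2 G)
    (hS : Cfsg.IsQuasiDihedral (S : Subgroup G) ∨ Cfsg.IsWreathed (S : Subgroup G))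
    (hG : ∀ H : Subgroup G, H.index ≠ 2) (hO : Cfsg.oddCore G = ⊥) :
    ∃ L : Subgroup G, L.Normal ∧ Odd L.index ∧ IsSimpleGroup L ∧ ¬ IsMulCommutative L := by
  rcases hS with hS | hS
  · obtain ⟨D⟩ := exists_qd hS
    exact (QD.goodTwo S D hG).exists_simple hO hG
  · obtain ⟨D⟩ := exists_wd hS
    exact (WD.goodTwo S D hG).exists_simple hO hG

/-- the image of a Sylow 2-subgroup modulo a normal subgroup of odd order -/
theorem sylow_quotient_equiv {G : Type*} [Group G] [Finite G] (S : Sylow 2 G) (N : Subgroup G)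
    [N.Normal] (hN : (Nat.card N).Coprime 2) :
    haveI : Fact (Nat.Prime 2) := ⟨Nat.prime_two⟩
    Nonempty (↥((S.mapSurjective (QuotientGroup.mk'_surjective N) : Sylow 2 (G ⧸ N)) :
      Subgroup (G ⧸ N)) ≃* ↥(S : Subgroup G)) := by
  haveI : Fact (Nat.Prime 2) := ⟨Nat.prime_two⟩
  set f : ↥(S : Subgroup G) →* G ⧸ N := (QuotientGroup.mk' N).comp (S : Subgroup G).subtype with hf
  have hinj : Function.Injective f := by
    rw [injective_iff_map_eq_one]
    intro s hs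
    have h1 : (s : G) ∈ N := (QuotientGroup.eq_one_iff (s : G)).mp hs
    have h2 := Cfsg.Agent.Lib.Helper18.eq_one_of_mem_pGroup_of_mem_coprime S.2 hN s.2 h1
    exact Subtype.ext h2
  have hrange : f.range = (S : Subgroup G).map (QuotientGroup.mk' N) := by
    rw [hf, MonoidHom.range_comp, Subgroup.range_subtype]
  exact ⟨((MonoidHom.ofInjective hinj).trans (MulEquiv.subgroupCongr hrange)).symm⟩

end Cfsg.Agent.Lib.Helper9
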