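import Cfsg.Agent.Lib.helper15.SQM.Defs
import Cfsg.Agent.Lib.Helper16.SpinE3
import Cfsg.Agent.Lib.helper14.ODNSQc

/-!
# Block SQM, rows C1 (`sqm_frame3`) + C2 (`sqm_omega3`) (helper9): thin verbatim wrappers over helper14's ODNSQ.
-/

set_option autoImplicit false

namespace Cfsg.Agent.Lib.helper15.SQM

open Matrix Module

variable {ι : Type} [Fintype ι] [DecidableEq ι] {F : Type*} [Field F]

/-- C1 [M-L]: the frame of invariant planes. -/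
theorem sqm_frame3 (h2 : (2 : F) ≠ 0) (Q : QuadraticForm F (ι → F))
    (hnd : (QuadraticMap.polarBilin Q).Nondegenerate) (x : Matrix.GeneralLinearGroup ι F)
    (hx : x ∈ Cfsg.isometryGroup F ⇑Q) (hx2 : (x : Matrix ι ι F) * (x : Matrix ι ι F) = -1) :
    ∃ (d : ℕ) (v : Fin d → (ι → F)), Frame3 Q (x : Matrix ι ι F) d v := by
  have hXX : ∀ v, (x : Matrix ι ι F) *ᵥ ((x : Matrix ι ι F) *ᵥ v) = -v := by
    intro v
    rw [Matrix.mulVec_mulVec, hx2, Matrix.neg_mulVec, Matrix.one_mulVec]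
  have hXQ : ∀ v, Q ((x : Matrix ι ι F) *ᵥ v) = Q v := fun v => hx v v
  obtain ⟨k, e, hk, he, h3, h4⟩ :=
    Cfsg.Agent.Lib.helper14.ODNSQ.odnsq_frame h2 Q hnd (x : Matrix ι ι F) hXX hXQ
  exact ⟨k, e, ⟨he, h3, fun j l _ => h4 j l, hk⟩⟩

/-- C2 [M]: `Ω`-membership from a frame of invariant planes. -/
theorem sqm_omega3 [Fintype F] (h2 : (2 : F) ≠ 0) (Q : QuadraticForm F (ι → F))
    (x : Matrix.GeneralLinearGroup ι F) (hx : x ∈ Cfsg.isometryGroup F ⇑Q)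
    (hx2 : (x : Matrix ι ι F) * (x : Matrix ι ι F) = -1)
    (d : ℕ) (v : Fin d → (ι → F)) (hfr : Frame3 Q (x : Matrix ι ι F) d v) :
    x ∈ Cfsg.Geo.omegaGL ⇑Q ↔ IsSquare ((2 : F) ^ d) := by
  set X : Matrix ι ι F := (x : Matrix ι ι F) with hX
  have hXX : ∀ u, X *ᵥ (X *ᵥ u) = -u := by
    intro u
    rw [Matrix.mulVec_mulVec, hx2, Matrix.neg_mulVec, Matrix.one_mulVec]
  have hXQ : ∀ u, Q (X *ᵥ u) = Q u := fun u => hx u u
  have h4 : ∀ j l, QuadraticMap.polar (⇑Q) (v j) (X *ᵥ v l) = 0 := by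
    intro j l
    by_cases hjl : j = l
    · subst hjl
      exact Cfsg.Agent.Lib.helper14.ODNSQ.odnsq_polar_self_X Q X h2 hXX hXQ (v j)
    · exact hfr.vx j l hjl
  have hprod := Cfsg.Agent.Lib.helper14.ODNSQ.odnsq_eq_prod h2 Q X hXX hXQ d v hfr.card hfr.qv
    hfr.vv h4
  have hvs : ∀ u ∈ Cfsg.Agent.Lib.helper14.ODNSQ.odnsq_vs X v (List.finRange d), Q u ≠ 0 := by
    intro u hu
    obtain ⟨j, rfl | rfl⟩ := Cfsg.Agent.Lib.helper14.ODNSQ.odnsq_vs_mem X v _ u hu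
    · exact hfr.qv j
    · rw [Cfsg.Agent.Lib.helper14.ODNSQ.odnsq_Q_sub Q X h2 hXX hXQ]
      exact mul_ne_zero h2 (hfr.qv j)
  have hs : ((List.finRange d).map (fun j => Q (v j))).prod ≠ 0 := by
    apply List.prod_ne_zero
    intro h0
    rw [List.mem_map] at h0
    obtain ⟨j, _, hj⟩ := h0
    exact hfr.qv j hj
  have hom : (⟨x, hx⟩ : ↥(Cfsg.isometryGroup F ⇑Q)) ∈ Cfsg.Omega F ⇑Q ↔ IsSquare ((2 : F) ^ d) := by
    rw [Cfsg.Agent.Lib.Helper16.master h2 Q ⟨x, hx⟩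
        (Cfsg.Agent.Lib.helper14.ODNSQ.odnsq_vs X v (List.finRange d)) hvs hprod,
      Cfsg.Agent.Lib.helper14.ODNSQ.odnsq_vs_length,
      Cfsg.Agent.Lib.helper14.ODNSQ.odnsq_vs_Q Q X v
        (fun j => Cfsg.Agent.Lib.helper14.ODNSQ.odnsq_Q_sub Q X h2 hXX hXQ (v j)),
      List.length_finRange, Cfsg.Agent.Lib.helper14.ODNSQ.odnsq_isSquare_mul_sq _ _ hs]
    constructor
    · exact fun h => h.2
    · exact fun h => ⟨⟨d, by ring⟩, h⟩
  rw [← hom]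
  unfold Cfsg.Geo.omegaGL
  rw [Subgroup.mem_map]
  constructor
  · rintro ⟨g, hg, hgx⟩
    have : g = ⟨x, hx⟩ := Subtype.ext hgx
    rwa [this] at hg
  · intro h
    exact ⟨⟨x, hx⟩, h, rfl⟩

end Cfsg.Agent.Lib.helper15.SQM
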