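import Mathlib
import Cfsg.Agent.Lib.Helper24.ST2.Defs
import Cfsg.Agent.Lib.helper7.StC
import Cfsg.Agent.Lib.helper7.StE
import Cfsg.Agent.Lib.Helper24.STDX1
import Cfsg.Agent.Lib.Helper24.STCI1

/-!
# Project ST2 (designer helper24), rows X1 + X2 (helper9), verbatim: the subgroups `XQ Q Qs` (port of `Helper1.STBX1`, `helper2.STBX2`)
-/

set_option autoImplicit false

namespace Cfsg.Agent.Lib.Helper24.ST2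

open Cfsg.Agent.Lib.helper15.St2 Cfsg.Agent.Lib.helper3.STC Cfsg.Agent.Lib.Lead.STD Cfsg.Agent.Lib.Lead.STB Cfsg.Agent.Lib.Helper22.SU4
open Cfsg.Agent.Lib.helper7.St

universe u v w

namespace Sys2

variable {E K : Type u} [Field E] [Field K] {D : Tw E K} {ι : Type*} {G : Type*} [Group G] (S : Sys2 D ι G)

/-- own-name copy of B1 `xs_zero` -/
theorem st2x1_xs_zero (a : ι ⊕ ι) : S.xs a 0 = 1 := by
  have := S.adds a 0 0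
  rw [add_zero] at this
  exact mul_eq_left.mp this

/-- own-name copy of B1 `xs_neg` -/
theorem st2x1_xs_neg (a : ι ⊕ ι) (t : E) : S.xs a (-t) = (S.xs a t)⁻¹ := by
  exact eq_inv_of_mul_eq_one_left (by rw [S.adds, neg_add_cancel, S.st2x1_xs_zero])

variable [DecidableEq ι]

section X

omit [DecidableEq ι] in
/-- X1 [S] -/
theorem x_mem_XQ {Q : ι ⊕ ι → ι ⊕ ι → Prop} {Qs : ι ⊕ ι → Prop} {a b : ι ⊕ ι} (hQ : Q a b) (t : K) : S.x a b t ∈ S.XQ Q Qs := by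
  by_cases h1 : a = b
  · subst h1; rw [S.diag]; exact Subgroup.one_mem _
  by_cases h2 : a = ng b
  · have : b = ng a := by rw [h2, ng_ng]
    rw [this, S.opp]; exact Subgroup.one_mem _
  exact Subgroup.subset_closure (Or.inl ⟨a, b, t, h1, h2, hQ, rfl⟩)

omit [DecidableEq ι] in
theorem x_mem_XQ' {Q : ι ⊕ ι → ι ⊕ ι → Prop} {Qs : ι ⊕ ι → Prop} {a b : ι ⊕ ι} (hQ : Q (ng b) (ng a)) (t : K) : S.x a b t ∈ S.XQ Q Qs := by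
  by_cases h1 : a = b
  · subst h1; rw [S.diag]; exact Subgroup.one_mem _
  by_cases h2 : a = ng b
  · have : b = ng a := by rw [h2, ng_ng]
    rw [this, S.opp]; exact Subgroup.one_mem _
  rw [S.sym a b h1 h2 t]
  exact S.x_mem_XQ hQ _

omit [DecidableEq ι] in
theorem xs_mem_XQ {Q : ι ⊕ ι → ι ⊕ ι → Prop} {Qs : ι ⊕ ι → Prop} {a : ι ⊕ ι} (hQ : Qs a) (t : E) : S.xs a t ∈ S.XQ Q Qs :=
  Subgroup.subset_closure (Or.inr ⟨a, t, hQ, rfl⟩)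

omit [DecidableEq ι] in
theorem XQ_mono {Q Q' : ι ⊕ ι → ι ⊕ ι → Prop} {Qs Qs' : ι ⊕ ι → Prop} (h : ∀ a b, a ≠ b → a ≠ ng b → Q a b → Q' a b) (hs : ∀ a, Qs a → Qs' a) :
    S.XQ Q Qs ≤ S.XQ Q' Qs' := by
  apply Subgroup.closure_mono
  rintro _ (⟨a, b, t, hab, hab', hQ, rfl⟩ | ⟨a, t, hQ, rfl⟩)
  · exact Or.inl ⟨a, b, t, hab, hab', h a b hab hab' hQ, rfl⟩
  · exact Or.inr ⟨a, t, hs a hQ, rfl⟩

omit [DecidableEq ι] in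
theorem XQ_le {Q : ι ⊕ ι → ι ⊕ ι → Prop} {Qs : ι ⊕ ι → Prop} {H : Subgroup G}
    (h : ∀ a b t, a ≠ b → a ≠ ng b → Q a b → S.x a b t ∈ H) (hs : ∀ a t, Qs a → S.xs a t ∈ H) : S.XQ Q Qs ≤ H := by
  apply (Subgroup.closure_le _).2
  rintro _ (⟨a, b, t, hab, hab', hQ, rfl⟩ | ⟨a, t, hQ, rfl⟩)
  · exact h a b t hab hab' hQ
  · exact hs a t hQ

omit [DecidableEq ι] in
/-- the generating set is closed under inverses (for `Subgroup.closure_induction`-style arguments with `cj_mem_of_gens`) -/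
theorem XQ_gens_inv (Q : ι ⊕ ι → ι ⊕ ι → Prop) (Qs : ι ⊕ ι → Prop) :
    ∀ s ∈ ({g | ∃ a b t, a ≠ b ∧ a ≠ ng b ∧ Q a b ∧ g = S.x a b t} ∪ {g | ∃ a t, Qs a ∧ g = S.xs a t} : Set G),
      s⁻¹ ∈ ({g | ∃ a b t, a ≠ b ∧ a ≠ ng b ∧ Q a b ∧ g = S.x a b t} ∪ {g | ∃ a t, Qs a ∧ g = S.xs a t} : Set G) := by
  rintro _ (⟨a, b, t, hab, hab', hQ, rfl⟩ | ⟨a, t, hQ, rfl⟩)
  · exact Or.inl ⟨a, b, -t, hab, hab', hQ, (S.toSysD.stdx1_x_neg a b t).symm⟩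
  · exact Or.inr ⟨a, -t, hQ, (S.st2x1_xs_neg a t).symm⟩

omit [DecidableEq ι] in
theorem XQ_cj_mem {Q Q' : ι ⊕ ι → ι ⊕ ι → Prop} {Qs Qs' : ι ⊕ ι → Prop}
    (h : ∀ a b t, a ≠ b → a ≠ ng b → Q a b → ∀ q ∈ S.XQ Q' Qs', cj (S.x a b t) q ∈ S.XQ Q' Qs')
    (hs : ∀ a t, Qs a → ∀ q ∈ S.XQ Q' Qs', cj (S.xs a t) q ∈ S.XQ Q' Qs') :
    ∀ z ∈ S.XQ Q Qs, ∀ q ∈ S.XQ Q' Qs', cj z q ∈ S.XQ Q' Qs' := by
  apply cj_closure_mem (S.XQ_gens_inv Q Qs)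
  rintro _ (⟨a, b, t, hab, hab', hQ, rfl⟩ | ⟨a, t, hQ, rfl⟩) q hq
  · exact h a b t hab hab' hQ q hq
  · exact hs a t hQ q hq

omit [DecidableEq ι] in
theorem IsMon.cj_mem_XQ {g : G} {σ : Equiv.Perm (ι ⊕ ι)} {d : ι ⊕ ι → K} {d0 : E} {ε : Bool} (hg : S.IsMon g σ d d0 ε)
    {Q Q' : ι ⊕ ι → ι ⊕ ι → Prop} {Qs Qs' : ι ⊕ ι → Prop} (hQ : ∀ k l, k ≠ l → k ≠ ng l → Q k l → Q' (σ k) (σ l)) (hQs : ∀ k, Qs k → Qs' (σ k)) :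
    ∀ z ∈ S.XQ Q Qs, cj g z ∈ S.XQ Q' Qs' := by
  apply cj_mem_of_gens
  rintro _ (⟨k, l, t, hkl, hkl', hQkl, rfl⟩ | ⟨k, t, hQk, rfl⟩)
  · rw [hg.1.2 k l hkl]
    exact S.x_mem_XQ (hQ k l hkl hkl' hQkl) _
  · rw [hg.2.2.2.2 k t]
    exact S.xs_mem_XQ (hQs k hQk) _

omit [DecidableEq ι] in
/-- X2 [S]  (twin STB X2) the long root part: `(S.toSysD.XQ Q) ≤ S.XQ Q Qs`. -/
theorem toSysD_XQ_le (Q : ι ⊕ ι → ι ⊕ ι → Prop) (Qs : ι ⊕ ι → Prop) : S.toSysD.XQ Q ≤ S.XQ Q Qs := by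
  unfold Cfsg.Agent.Lib.Lead.STD.SysD.XQ Cfsg.Agent.Lib.Helper24.ST2.Sys2.XQ
  apply Subgroup.closure_mono
  exact Set.subset_union_left

end X

end Sys2

end Cfsg.Agent.Lib.Helper24.ST2
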