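import Mathlib
import Cfsg.Agent.Lib.Helper24.ST2.Defs
import Cfsg.Agent.Lib.helper7.StC
import Cfsg.Agent.Lib.Helper24.STDN2
import Cfsg.Agent.Lib.Helper24.STDF3
import Cfsg.Agent.Lib.Helper24.STCI1
import Cfsg.Agent.Lib.Helper9.ST2X1

/-!
# Project ST2 (designer helper24), rows N1c N1d N2 N2s N2p N3 N4a (block N) and F8 (helper9), verbatim
(ports of `Helper9.STBN1c`, `Helper25.STBN2`, `helper15.STBN2s`, `Helper9.STBN2p`, `Helper9.STBN3`, `helper15.STBN4a`, `Helper9.STBF8`).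
Extras prefixed `st2n2s_`, `st2n4a_`.
-/

set_option autoImplicit false

namespace Cfsg.Agent.Lib.Helper24.ST2

open Cfsg.Agent.Lib.helper15.St2 Cfsg.Agent.Lib.helper3.STC Cfsg.Agent.Lib.Lead.STD Cfsg.Agent.Lib.Lead.STB Cfsg.Agent.Lib.Helper22.SU4

universe u v w

/-- a subgroup generated by pairwise commuting elements is abelian. -/
theorem st2n4a_comm_of_gens {G : Type*} [Group G] (T : Set G) (h : ∀ g ∈ T, ∀ k ∈ T, g * k = k * g) :
    ∀ y ∈ Subgroup.closure T, ∀ z ∈ Subgroup.closure T, y * z = z * y := by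
  have h1 : ∀ g ∈ T, ∀ y ∈ Subgroup.closure T, g * y = y * g := by
    intro g hg y hy
    induction hy using Subgroup.closure_induction with
    | mem k hk => exact h g hg k hk
    | one => rw [mul_one, one_mul]
    | mul a b _ _ ha hb => rw [← mul_assoc, ha, mul_assoc, hb, mul_assoc]
    | inv a _ ha =>
      have : a⁻¹ * (g * a) * a⁻¹ = a⁻¹ * (a * g) * a⁻¹ := by rw [ha]
      simpa [mul_assoc] using this.symm
  intro y hy z hz
  induction hy using Subgroup.closure_induction with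
  | mem g hg => exact h1 g hg z hz
  | one => rw [mul_one, one_mul]
  | mul a b _ _ ha hb => rw [mul_assoc, hb, ← mul_assoc, ha, mul_assoc]
  | inv a _ ha =>
    have : a⁻¹ * (a * z) * a⁻¹ = a⁻¹ * (z * a) * a⁻¹ := by rw [ha]
    simpa [mul_assoc] using this.symm

namespace Sys2

variable {E K : Type u} [Field E] [Field K] {D : Tw E K} {ι : Type*} [DecidableEq ι] {G : Type*} [Group G] (S : Sys2 D ι G)

section N
variable (o : ι ⊕ ι)

omit [DecidableEq ι] in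
/-- N1c [S] -/
theorem Ag_eq_Yg_ng : S.Ag o = S.Yg (ng o) := by
  apply le_antisymm
  · apply S.XQ_le
    · intro a b t _ _ ha
      exact S.x_mem_XQ' (Q := fun _ b => b = ng o) (Qs := fun a => a = ng (ng o)) (by rw [ha]) t
    · intro a t ha
      exact S.xs_mem_XQ (Q := fun _ b => b = ng o) (Qs := fun a => a = ng (ng o)) (by rw [ha, ng_ng]) t
  · apply S.XQ_le
    · intro a b t _ _ hb
      exact S.x_mem_XQ' (Q := fun a _ => a = o) (Qs := fun a => a = o) (by rw [hb, ng_ng]) t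
    · intro a t ha
      exact S.xs_mem_XQ (Q := fun a _ => a = o) (Qs := fun a => a = o) (by rw [ha, ng_ng]) t

omit [DecidableEq ι] in
theorem Lg_ng : S.Lg (ng o) = S.Lg o := by
  apply le_antisymm
  · apply S.XQ_mono
    · intro a b _ _ h
      rw [ng_ng] at h
      exact ⟨⟨h.1.2, h.1.1⟩, ⟨h.2.2, h.2.1⟩⟩
    · intro a h
      rw [ng_ng] at h
      exact ⟨h.2, h.1⟩
  · apply S.XQ_mono
    · intro a b _ _ h
      rw [ng_ng]
      exact ⟨⟨h.1.2, h.1.1⟩, ⟨h.2.2, h.2.1⟩⟩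
    · intro a h
      rw [ng_ng]
      exact ⟨h.2, h.1⟩

omit [DecidableEq ι] in
/-- N1d [S] -/
theorem h_mem_Phat {b : ι ⊕ ι} (hb : b ≠ o) (hb' : b ≠ ng o) {t : K} (ht : t ≠ 0) : S.h o b t ∈ S.Phat o := by
  exact Subgroup.mem_sup_right (Subgroup.subset_closure (Or.inl ⟨b, t, hb, hb', ht, rfl⟩))

omit [DecidableEq ι] in
theorem hs_mem_Phat {t : E} (ht : t ≠ 0) : S.hs o t ∈ S.Phat o := by
  exact Subgroup.mem_sup_right (Subgroup.subset_closure (Or.inr ⟨t, ht, rfl⟩))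

omit [DecidableEq ι] in
theorem w_mem_Lg {a b : ι ⊕ ι} (ha : a ≠ o) (ha' : a ≠ ng o) (hb : b ≠ o) (hb' : b ≠ ng o) (t : K) : S.w a b t ∈ S.Lg o := by
  have h1 : ∀ u : K, S.x a b u ∈ S.Lg o := fun u => S.x_mem_XQ ⟨⟨ha, ha'⟩, ⟨hb, hb'⟩⟩ u
  have h2 : ∀ u : K, S.x b a u ∈ S.Lg o := fun u => S.x_mem_XQ ⟨⟨hb, hb'⟩, ⟨ha, ha'⟩⟩ u
  show S.x a b t * S.x b a (-t⁻¹) * S.x a b t ∈ S.Lg o
  exact Subgroup.mul_mem _ (Subgroup.mul_mem _ (h1 _) (h2 _)) (h1 _)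

omit [DecidableEq ι] in
theorem h_mem_Lg {a b : ι ⊕ ι} (ha : a ≠ o) (ha' : a ≠ ng o) (hb : b ≠ o) (hb' : b ≠ ng o) (t : K) : S.h a b t ∈ S.Lg o := by
  show S.w a b t * S.w a b (-1) ∈ S.Lg o
  exact Subgroup.mul_mem _ (S.w_mem_Lg o ha ha' hb hb' _) (S.w_mem_Lg o ha ha' hb hb' _)

omit [DecidableEq ι] in
theorem ws_mem_Lg {a : ι ⊕ ι} (ha : a ≠ o) (ha' : a ≠ ng o) (t : E) : S.ws a t ∈ S.Lg o := by
  have hn : ng a ≠ o := fun h => ha' (by rw [← h, ng_ng])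
  have hn' : ng a ≠ ng o := fun h => ha (ng_inj.1 h)
  have h1 : ∀ u : E, S.xs a u ∈ S.Lg o := fun u => S.xs_mem_XQ ⟨ha, ha'⟩ u
  have h2 : ∀ u : E, S.xs (ng a) u ∈ S.Lg o := fun u => S.xs_mem_XQ ⟨hn, hn'⟩ u
  show S.xs a t * S.xs (ng a) (D.σ t)⁻¹ * S.xs a t ∈ S.Lg o
  exact Subgroup.mul_mem _ (Subgroup.mul_mem _ (h1 _) (h2 _)) (h1 _)

omit [DecidableEq ι] in
theorem hs_mem_Lg {a : ι ⊕ ι} (ha : a ≠ o) (ha' : a ≠ ng o) (t : E) : S.hs a t ∈ S.Lg o := by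
  show S.ws a t * S.ws a (-1) ∈ S.Lg o
  exact Subgroup.mul_mem _ (S.ws_mem_Lg o ha ha' _) (S.ws_mem_Lg o ha ha' _)

omit [DecidableEq ι] in
/-- N2 [M]  a LONG root element of the Levi factor normalises `Yg o`. -/
theorem x_cj_mem_Yg {a b : ι ⊕ ι} (ha : a ≠ o) (ha' : a ≠ ng o) (hb : b ≠ o) (hb' : b ≠ ng o) (t : K) :
    ∀ y ∈ S.Yg o, cj (S.x a b t) y ∈ S.Yg o := by
  have hle : S.toSysD.Yg o ≤ S.Yg o := S.toSysD_XQ_le (fun _ b => b = o) (fun a => a = ng o)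
  apply Cfsg.Agent.Lib.helper7.St.cj_mem_of_gens
  rintro _ (⟨c, d, u, hcd, hcd', hdo, rfl⟩ | ⟨c, u, hc, rfl⟩)
  · apply hle
    apply S.toSysD.x_cj_mem_Yg o ha ha' hb hb' t
    exact Subgroup.subset_closure ⟨c, d, u, hcd, hcd', hdo, rfl⟩
  · rw [hc]
    have hmem : S.xs (ng o) u ∈ S.Yg o := Subgroup.subset_closure (Or.inr ⟨ng o, u, rfl, rfl⟩)
    by_cases h1 : a = b
    · subst h1
      rw [S.diag, cj_one_left]
      exact hmem
    by_cases h2 : a = ng b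
    · have hb2 : b = ng a := by rw [h2]; cases b <;> rfl
      rw [hb2, S.opp, cj_one_left]
      exact hmem
    have hao : a ≠ ng (ng o) := by
      intro e
      apply ha
      rw [e]; cases o <;> rfl
    have hc := S.comm_ls (ng o) a b h1 h2 hb' hao u t
    have e : cj (S.x a b t) (S.xs (ng o) u) = S.xs (ng o) u := by
      unfold cj
      rw [← hc]
      group
    rw [e]
    exact hmem

omit [DecidableEq ι] in
/-- a long generator of `Yg o`. -/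
theorem st2n2s_x_mem {c : ι ⊕ ι} (hc : c ≠ o) (hc' : c ≠ ng o) (u : K) : S.x c o u ∈ S.Yg o :=
  Subgroup.subset_closure (Or.inl ⟨c, o, u, hc, hc', rfl, rfl⟩)

omit [DecidableEq ι] in
/-- the short generator of `Yg o`. -/
theorem st2n2s_xs_mem (u : E) : S.xs (ng o) u ∈ S.Yg o :=
  Subgroup.subset_closure (Or.inr ⟨ng o, u, rfl, rfl⟩)

omit [DecidableEq ι] in
/-- `x (ng o) b u ∈ Yg o` for `b ≠ o`, `b ≠ ng o`. -/
theorem st2n2s_x_mem' {b : ι ⊕ ι} (hb : b ≠ o) (hb' : b ≠ ng o) (u : K) : S.x (ng o) b u ∈ S.Yg o := by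
  have h1 : ng o ≠ b := fun e => hb' e.symm
  have h2 : ng o ≠ ng b := fun e => hb (ng_inj.1 e).symm
  rw [S.sym (ng o) b h1 h2 u, ng_ng]
  exact S.st2n2s_x_mem o (fun e => hb' (ng_eq_iff.1 e)) (fun e => hb (ng_inj.1 e)) (-u)

omit [DecidableEq ι] in
/-- N2s [M]  a SHORT root element of the Levi factor normalises `Yg o`. -/
theorem xs_cj_mem_Yg {a : ι ⊕ ι} (ha : a ≠ o) (ha' : a ≠ ng o) (t : E) : ∀ y ∈ S.Yg o, cj (S.xs a t) y ∈ S.Yg o := by
  intro y hy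
  unfold Yg XQ at hy
  induction hy using Subgroup.closure_induction with
  | mem g hg =>
    rcases hg with ⟨c, d, u, hcd, hcd', hd, rfl⟩ | ⟨b, u, hb, rfl⟩
    · subst hd
      by_cases hca : c = ng a
      · subst hca
        -- `x (ng a) d u = x (ng d) a (-u)`
        have h1 : ng d ≠ a := fun e => ha' e.symm
        have h2 : ng d ≠ ng a := fun e => ha (ng_inj.1 e).symm
        have hsym : S.x (ng a) d u = S.x (ng d) a (-u) := by
          rw [S.sym (ng a) d hcd hcd' u, ng_ng]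
        rw [hsym]
        have hls := S.ls (ng d) a h1 h2 (-u) t
        have key : cj (S.xs a t) (S.x (ng d) a (-u)) =
            (S.xs (ng d) (D.ι (-u) * t) * S.x (ng d) (ng a) (-u * D.nm t))⁻¹ * S.x (ng d) a (-u) := by
          rw [← hls]
          unfold cj
          group
        rw [key]
        refine (S.Yg d).mul_mem ((S.Yg d).inv_mem ((S.Yg d).mul_mem (S.st2n2s_xs_mem d _) ?_)) ?_
        · exact S.st2n2s_x_mem' d hcd hcd' _
        · exact S.st2n2s_x_mem' d ha ha' _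
      · have hcomm := S.comm_ls a c d hcd hcd' (fun e => ha e.symm) hca t u
        have key : cj (S.xs a t) (S.x c d u) = S.x c d u := by
          unfold cj
          rw [hcomm, mul_inv_cancel_right]
        rw [key]
        exact S.st2n2s_x_mem d hcd hcd' u
    · subst hb
      have h1 : a ≠ ng o := ha'
      have h2 : a ≠ ng (ng o) := by rw [ng_ng]; exact ha
      have hss := S.ss a (ng o) h1 h2 t u
      rw [ng_ng] at hss
      have key : cj (S.xs a t) (S.xs (ng o) u) = S.x a o (-(D.tr (t * D.σ u))) * S.xs (ng o) u := by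
        rw [← hss]
        unfold cj
        group
      rw [key]
      exact (S.Yg o).mul_mem (S.st2n2s_x_mem o ha ha' _) (S.st2n2s_xs_mem o u)
  | one => rw [cj_one]; exact (S.Yg o).one_mem
  | mul x y _ _ hx hy => rw [cj_mul]; exact (S.Yg o).mul_mem hx hy
  | inv x _ hx => rw [cj_inv]; exact (S.Yg o).inv_mem hx

omit [DecidableEq ι] in
/-- N2p [S-M] -/
theorem Lg_cj_mem_Yg : ∀ z ∈ S.Lg o, ∀ y ∈ S.Yg o, cj z y ∈ S.Yg o := by
  apply S.XQ_cj_mem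
  · intro a b t _ _ hQ q hq
    exact S.x_cj_mem_Yg o hQ.1.1 hQ.1.2 hQ.2.1 hQ.2.2 t q hq
  · intro a t hQ q hq
    exact S.xs_cj_mem_Yg o hQ.1 hQ.2 t q hq

omit [DecidableEq ι] in
theorem Lg_cj_mem_Ag : ∀ z ∈ S.Lg o, ∀ y ∈ S.Ag o, cj z y ∈ S.Ag o := by
  intro z hz y hy
  rw [S.Ag_eq_Yg_ng o] at hy ⊢
  rw [← S.Lg_ng o] at hz
  exact S.Lg_cj_mem_Yg (ng o) z hz y hy

omit [DecidableEq ι] in
/-- N3 [S] -/
theorem IsMon.cj_mem_Yg {g : G} {σ : Equiv.Perm (ι ⊕ ι)} {d : ι ⊕ ι → K} {d0 : E} {ε : Bool} (hg : S.IsMon g σ d d0 ε) (hσ : σ o = o) :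
    ∀ y ∈ S.Yg o, cj g y ∈ S.Yg o := by
  apply Sys2.IsMon.cj_mem_XQ S hg
  · intro k l _ _ hl
    rw [hl, hσ]
  · intro k hk
    rw [hk, hg.2.1 o, hσ]

omit [DecidableEq ι] in
theorem IsMon.cj_mem_Ag {g : G} {σ : Equiv.Perm (ι ⊕ ι)} {d : ι ⊕ ι → K} {d0 : E} {ε : Bool} (hg : S.IsMon g σ d d0 ε) (hσ : σ o = o) :
    ∀ y ∈ S.Ag o, cj g y ∈ S.Ag o := by
  apply Sys2.IsMon.cj_mem_XQ S hg
  · intro k l _ _ hk
    rw [hk, hσ]
  · intro k hk
    rw [hk, hσ]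

omit [DecidableEq ι] in
theorem IsMon.cj_mem_Lg {g : G} {σ : Equiv.Perm (ι ⊕ ι)} {d : ι ⊕ ι → K} {d0 : E} {ε : Bool} (hg : S.IsMon g σ d d0 ε) (hσ : σ o = o) :
    ∀ y ∈ S.Lg o, cj g y ∈ S.Lg o := by
  have h1 : ∀ k : ι ⊕ ι, k ≠ o → σ k ≠ o := by
    intro k hk h
    apply hk
    apply σ.injective
    rw [h, hσ]
  have h2 : ∀ k : ι ⊕ ι, k ≠ ng o → σ k ≠ ng o := by
    intro k hk h
    apply hk
    apply σ.injective
    rw [h, hg.2.1 o, hσ]
  apply Sys2.IsMon.cj_mem_XQ S hg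
  · intro k l _ _ hkl
    exact ⟨⟨h1 k hkl.1.1, h2 k hkl.1.2⟩, ⟨h1 l hkl.2.1, h2 l hkl.2.2⟩⟩
  · intro k hk
    exact ⟨h1 k hk.1, h2 k hk.2⟩

omit [DecidableEq ι] in
/-- two long generators of `Yg o` commute. -/
theorem st2n4a_xx {a b : ι ⊕ ι} (ha : a ≠ o) (ha' : a ≠ ng o) (hb : b ≠ o) (hb' : b ≠ ng o) (t u : K) :
    S.x a o t * S.x b o u = S.x b o u * S.x a o t := by
  by_cases hba : b = ng a
  · subst hba
    have h1 : ng o ≠ ng a := fun e => ha (ng_inj.1 e).symm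
    have h2 : ng o ≠ ng (ng a) := by rw [ng_ng]; exact fun e => ha' e.symm
    have hsym : S.x a o t = S.x (ng o) (ng a) (-t) := S.sym a o ha ha' t
    have hsso := S.sso (ng o) (ng a) h1 h2 (-t) u
    rw [ng_ng] at hsso
    rw [hsym, hsso]
  · exact S.comm a o b o ha ha' hb hb' (fun e => hb e.symm) ha (ne_ng o)
      (fun e => hba (by rw [e, ng_ng])) t u

omit [DecidableEq ι] in
/-- a long generator of `Yg o` commutes with the short one. -/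
theorem st2n4a_xxs {a : ι ⊕ ι} (ha : a ≠ o) (ha' : a ≠ ng o) (t : K) (u : E) :
    S.x a o t * S.xs (ng o) u = S.xs (ng o) u * S.x a o t :=
  (S.comm_ls (ng o) a o ha ha' (ne_ng o) (by rw [ng_ng]; exact ha) u t).symm

omit [DecidableEq ι] in
/-- N4a [S-M]  `Yg o` is abelian. -/
theorem Yg_comm : ∀ y ∈ S.Yg o, ∀ z ∈ S.Yg o, y * z = z * y := by
  unfold Yg XQ
  apply st2n4a_comm_of_gens
  intro g hg k hk
  rcases hg with ⟨a, d, t, had, had', hd, rfl⟩ | ⟨a, t, ha, rfl⟩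
  · rw [hd] at had had' ⊢
    rcases hk with ⟨b, d', u, hbd, hbd', hd', rfl⟩ | ⟨b, u, hb, rfl⟩
    · rw [hd'] at hbd hbd' ⊢
      exact S.st2n4a_xx o had had' hbd hbd' t u
    · rw [hb]
      exact S.st2n4a_xxs o had had' t u
  · rw [ha]
    rcases hk with ⟨b, d', u, hbd, hbd', hd', rfl⟩ | ⟨b, u, hb, rfl⟩
    · rw [hd'] at hbd hbd' ⊢
      exact (S.st2n4a_xxs o hbd hbd' u t).symm
    · rw [hb, S.adds, S.adds, add_comm]

end N

section F
variable (o : ι ⊕ ι)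

omit [DecidableEq ι] in
/-- F8 [S]  moving a root element across a monomial element (model STD F8 `Helper11.STDF8`). -/
theorem IsMon_move {g : G} {σ : Equiv.Perm (ι ⊕ ι)} {d : ι ⊕ ι → K} {d0 : E} {ε : Bool} (hg : S.IsMon g σ d d0 ε) {a b : ι ⊕ ι} (hab : a ≠ b) (t : K) :
    ∃ s : K, S.x a b t * g = g * S.x (σ⁻¹ a) (σ⁻¹ b) s :=
  S.toSysD.IsMon_move hg.1 hab t

omit [DecidableEq ι] in
theorem IsMon_move_s {g : G} {σ : Equiv.Perm (ι ⊕ ι)} {d : ι ⊕ ι → K} {d0 : E} {ε : Bool} (hg : S.IsMon g σ d d0 ε) (a : ι ⊕ ι) (t : E) :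
    ∃ s : E, S.xs a t * g = g * S.xs (σ⁻¹ a) s := by
  obtain ⟨⟨hd, _⟩, _, _, hd0, hcj⟩ := hg
  have hd0' : d0 ≠ 0 := by
    intro h
    rw [h, zero_mul] at hd0
    exact zero_ne_one hd0
  have ha : D.ι (d (σ⁻¹ a)) ≠ 0 := (map_ne_zero D.ι).2 (hd (σ⁻¹ a))
  have htw : ∀ x : E, tw D ε (tw D ε x) = x := by
    intro x
    unfold tw
    cases ε
    · simp
    · simp [D.σσ]
  refine ⟨tw D ε ((D.ι (d (σ⁻¹ a)) * d0)⁻¹ * t), ?_⟩
  have h1 := hcj (σ⁻¹ a) (tw D ε ((D.ι (d (σ⁻¹ a)) * d0)⁻¹ * t))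
  have h2 : D.ι (d (σ⁻¹ a)) * d0 * tw D ε (tw D ε ((D.ι (d (σ⁻¹ a)) * d0)⁻¹ * t)) = t := by
    rw [htw, ← mul_assoc, mul_inv_cancel₀ (mul_ne_zero ha hd0'), one_mul]
  have e1 : σ (σ⁻¹ a) = a := by simp
  rw [h2, e1] at h1
  rw [← h1]
  unfold cj
  group

end F

end Sys2

end Cfsg.Agent.Lib.Helper24.ST2
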