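import Mathlib
import Cfsg.Agent.Lib.Helper24.ST2.Defs
import Cfsg.Agent.Lib.Helper24.ST2.Defs2
import Cfsg.Agent.Lib.Helper24.ST2.Sub
import Cfsg.Agent.Lib.Helper24.STCI1
import Cfsg.Agent.Lib.Helper20.STBR0

/-!
# Project ST2 (designer helper24), rows R0 + R0b + R2 (helper9), verbatim: `T2L_mulVec vecMul_T2L T2S_mulVec vecMul_T2S`, `T2L_form T2S_form`, `eq_one_of_Yshape`
(ports of `Helper20.STBR0`, `Helper9.STBR0b`).  Extras prefixed `st2r0b_` (matrix units `st2r0b_e i j` and their products with `J2`), `st2r2_`.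
-/

set_option autoImplicit false
set_option linter.unusedSimpArgs false
set_option linter.unusedSectionVars false

namespace Cfsg.Agent.Lib.Helper24.ST2

open Matrix Cfsg.Agent.Lib.helper15.St2 Cfsg.Agent.Lib.helper3.STC Cfsg.Agent.Lib.Lead.STD Cfsg.Agent.Lib.Lead.STB Cfsg.Agent.Lib.Helper22.SU4

universe u v w

section R0
variable {l : Type*} [Fintype l] [DecidableEq l] {E K : Type u} [Field E] [Field K] {D : Tw E K}

/-- R0 [S-M] -/
theorem T2L_mulVec (a b : l ⊕ l) (t : K) (v : Ix2 l → K) :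
    T2L a b t *ᵥ v = v + Pi.single (Sum.inl a) (t * v (Sum.inl b)) - Pi.single (Sum.inl (ng b)) (t * v (Sum.inl (ng a))) := by
  unfold T2L
  rw [Matrix.sub_mulVec, Matrix.add_mulVec, Matrix.one_mulVec, stbr0_single_mulVec, stbr0_single_mulVec]

theorem vecMul_T2L (a b : l ⊕ l) (t : K) (v : Ix2 l → K) :
    v ᵥ* T2L a b t = v + Pi.single (Sum.inl b) (t * v (Sum.inl a)) - Pi.single (Sum.inl (ng a)) (t * v (Sum.inl (ng b))) := by
  unfold T2L
  rw [Matrix.vecMul_sub, Matrix.vecMul_add, Matrix.vecMul_one, stbr0_vecMul_single, stbr0_vecMul_single]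

theorem T2S_mulVec (a₀ b₀ : K) (a : l ⊕ l) (z0 z1 : K) (v : Ix2 l → K) :
    T2S a₀ b₀ a z0 z1 *ᵥ v = v + Pi.single (Sum.inr 0) (z0 * v (Sum.inl (ng a))) + Pi.single (Sum.inr 1) (z1 * v (Sum.inl (ng a)))
      - Pi.single (Sum.inl a) ((2 * z0 + a₀ * z1) * v (Sum.inr 0)) - Pi.single (Sum.inl a) ((a₀ * z0 + 2 * b₀ * z1) * v (Sum.inr 1))
      - Pi.single (Sum.inl a) ((z0 ^ 2 + a₀ * z0 * z1 + b₀ * z1 ^ 2) * v (Sum.inl (ng a))) := by
  unfold T2S
  simp only [Matrix.sub_mulVec, Matrix.add_mulVec, Matrix.one_mulVec, stbr0_single_mulVec]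

theorem vecMul_T2S (a₀ b₀ : K) (a : l ⊕ l) (z0 z1 : K) (v : Ix2 l → K) :
    v ᵥ* T2S a₀ b₀ a z0 z1 = v + Pi.single (Sum.inl (ng a)) (z0 * v (Sum.inr 0)) + Pi.single (Sum.inl (ng a)) (z1 * v (Sum.inr 1))
      - Pi.single (Sum.inr 0) ((2 * z0 + a₀ * z1) * v (Sum.inl a)) - Pi.single (Sum.inr 1) ((a₀ * z0 + 2 * b₀ * z1) * v (Sum.inl a))
      - Pi.single (Sum.inl (ng a)) ((z0 ^ 2 + a₀ * z0 * z1 + b₀ * z1 ^ 2) * v (Sum.inl a)) := by
  unfold T2S
  simp only [Matrix.vecMul_sub, Matrix.vecMul_add, Matrix.vecMul_one, stbr0_vecMul_single]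

/-- the matrix unit -/
def st2r0b_e (i j : Ix2 l) : Matrix (Ix2 l) (Ix2 l) K := Matrix.single i j 1

theorem st2r0b_single (i j : Ix2 l) (c : K) : Matrix.single i j c = c • (st2r0b_e i j : Matrix (Ix2 l) (Ix2 l) K) := by
  unfold st2r0b_e
  rw [Matrix.smul_single, smul_eq_mul, mul_one]

theorem st2r0b_e_apply (i j x y : Ix2 l) : (st2r0b_e i j : Matrix (Ix2 l) (Ix2 l) K) x y = if i = x ∧ j = y then 1 else 0 := by
  unfold st2r0b_e
  rw [Matrix.single_apply]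

theorem st2r0b_e_transpose (i j : Ix2 l) : (st2r0b_e i j : Matrix (Ix2 l) (Ix2 l) K)ᵀ = st2r0b_e j i := by
  unfold st2r0b_e
  rw [Matrix.transpose_single]

theorem st2r0b_e_mul (i j k m : Ix2 l) :
    (st2r0b_e i j : Matrix (Ix2 l) (Ix2 l) K) * st2r0b_e k m = if j = k then st2r0b_e i m else 0 := by
  unfold st2r0b_e
  by_cases h : j = k
  · subst h
    rw [if_pos rfl, Matrix.single_mul_single_same, mul_one]
  · rw [if_neg h, Matrix.single_mul_single_of_ne _ _ _ _ h]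

theorem st2r0b_mul_e (M : Matrix (Ix2 l) (Ix2 l) K) (i j x y : Ix2 l) :
    (M * (st2r0b_e i j : Matrix (Ix2 l) (Ix2 l) K)) x y = if j = y then M x i else 0 := by
  unfold st2r0b_e
  by_cases h : j = y
  · subst h
    rw [if_pos rfl, Matrix.mul_single_apply_same, mul_one]
  · rw [if_neg h, Matrix.mul_single_apply_of_ne _ _ _ _ _ (Ne.symm h)]

theorem st2r0b_e_mul' (M : Matrix (Ix2 l) (Ix2 l) K) (i j x y : Ix2 l) :
    ((st2r0b_e i j : Matrix (Ix2 l) (Ix2 l) K) * M) x y = if i = x then M j y else 0 := by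
  unfold st2r0b_e
  by_cases h : i = x
  · subst h
    rw [if_pos rfl, Matrix.single_mul_apply_same, one_mul]
  · rw [if_neg h, Matrix.single_mul_apply_of_ne _ _ _ _ _ (Ne.symm h)]

theorem st2r0b_J2_mul_e_inl (a₀ b₀ : K) (a : l ⊕ l) (j : Ix2 l) :
    (J2 a₀ b₀ : Matrix (Ix2 l) (Ix2 l) K) * st2r0b_e (Sum.inl a) j = st2r0b_e (Sum.inl (ng a)) j := by
  ext x y
  rw [st2r0b_mul_e, st2r0b_e_apply]
  by_cases h : j = y
  · subst h
    rcases x with x | x
    · simp only [J2, if_true, and_true, Sum.inl.injEq]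
      by_cases h2 : a = ng x
      · subst h2
        simp [ng_ng]
      · have : ¬ ng a = x := fun h3 => h2 (by rw [← h3, ng_ng])
        simp [h2, this]
    · simp [J2]
  · simp [h]

theorem st2r0b_e_inl_mul_J2 (a₀ b₀ : K) (i : Ix2 l) (b : l ⊕ l) :
    st2r0b_e i (Sum.inl b) * (J2 a₀ b₀ : Matrix (Ix2 l) (Ix2 l) K) = st2r0b_e i (Sum.inl (ng b)) := by
  ext x y
  rw [st2r0b_e_mul', st2r0b_e_apply]
  by_cases h : i = x
  · subst h
    rcases y with y | y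
    · simp only [J2, if_true, true_and, Sum.inl.injEq]
      by_cases h2 : y = ng b
      · subst h2
        simp
      · have : ¬ ng b = y := fun h3 => h2 h3.symm
        simp [h2, this]
    · simp [J2]
  · simp [h]

theorem st2r0b_J2_mul_e_inr0 (a₀ b₀ : K) (j : Ix2 l) :
    (J2 a₀ b₀ : Matrix (Ix2 l) (Ix2 l) K) * st2r0b_e (Sum.inr 0) j = (2 : K) • st2r0b_e (Sum.inr 0) j + a₀ • st2r0b_e (Sum.inr 1) j := by
  ext x y
  rw [st2r0b_mul_e]
  simp only [Matrix.add_apply, Matrix.smul_apply, st2r0b_e_apply, smul_eq_mul]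
  by_cases h : j = y
  · subst h
    rcases x with x | x
    · simp [J2]
    · fin_cases x <;> simp [J2]
  · simp [h]

theorem st2r0b_J2_mul_e_inr1 (a₀ b₀ : K) (j : Ix2 l) :
    (J2 a₀ b₀ : Matrix (Ix2 l) (Ix2 l) K) * st2r0b_e (Sum.inr 1) j = a₀ • st2r0b_e (Sum.inr 0) j + (2 * b₀) • st2r0b_e (Sum.inr 1) j := by
  ext x y
  rw [st2r0b_mul_e]
  simp only [Matrix.add_apply, Matrix.smul_apply, st2r0b_e_apply, smul_eq_mul]
  by_cases h : j = y
  · subst h
    rcases x with x | x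
    · simp [J2]
    · fin_cases x <;> simp [J2]
  · simp [h]

theorem st2r0b_e_inr0_mul_J2 (a₀ b₀ : K) (i : Ix2 l) :
    st2r0b_e i (Sum.inr 0) * (J2 a₀ b₀ : Matrix (Ix2 l) (Ix2 l) K) = (2 : K) • st2r0b_e i (Sum.inr 0) + a₀ • st2r0b_e i (Sum.inr 1) := by
  ext x y
  rw [st2r0b_e_mul']
  simp only [Matrix.add_apply, Matrix.smul_apply, st2r0b_e_apply, smul_eq_mul]
  by_cases h : i = x
  · subst h
    rcases y with y | y
    · simp [J2]
    · fin_cases y <;> simp [J2]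
  · simp [h]

theorem st2r0b_e_inr1_mul_J2 (a₀ b₀ : K) (i : Ix2 l) :
    st2r0b_e i (Sum.inr 1) * (J2 a₀ b₀ : Matrix (Ix2 l) (Ix2 l) K) = a₀ • st2r0b_e i (Sum.inr 0) + (2 * b₀) • st2r0b_e i (Sum.inr 1) := by
  ext x y
  rw [st2r0b_e_mul']
  simp only [Matrix.add_apply, Matrix.smul_apply, st2r0b_e_apply, smul_eq_mul]
  by_cases h : i = x
  · subst h
    rcases y with y | y
    · simp [J2]
    · fin_cases y <;> simp [J2]
  · simp [h]

theorem T2S_form (a₀ b₀ : K) (a : l ⊕ l) (z0 z1 : K) : (T2S a₀ b₀ a z0 z1)ᵀ * J2 a₀ b₀ * T2S a₀ b₀ a z0 z1 = (J2 a₀ b₀ : Matrix (Ix2 l) (Ix2 l) K) := by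
  unfold T2S
  have h1 : ng a ≠ a := ng_ne a
  have h2 : a ≠ ng a := ne_ng a
  simp only [st2r0b_single, Matrix.transpose_sub, Matrix.transpose_add, Matrix.transpose_one, Matrix.transpose_smul, st2r0b_e_transpose]
  simp only [Matrix.add_mul, Matrix.sub_mul, Matrix.mul_add, Matrix.mul_sub, Matrix.one_mul,
    Matrix.mul_one, Matrix.smul_mul, Matrix.mul_smul, st2r0b_J2_mul_e_inl, st2r0b_e_inl_mul_J2, st2r0b_J2_mul_e_inr0, st2r0b_J2_mul_e_inr1,
    st2r0b_e_inr0_mul_J2, st2r0b_e_inr1_mul_J2, st2r0b_e_mul, smul_add, smul_sub, smul_smul,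
    Sum.inl.injEq, Sum.inr.injEq, reduceCtorEq, if_false, if_true, h1, h2, smul_zero, Fin.isValue, zero_ne_one, one_ne_zero, sub_zero, add_zero, zero_add]
  module

theorem T2L_form (a₀ b₀ : K) {a b : l ⊕ l} (hab : a ≠ b) (hab' : a ≠ ng b) (t : K) : (T2L a b t)ᵀ * J2 a₀ b₀ * T2L a b t = (J2 a₀ b₀ : Matrix (Ix2 l) (Ix2 l) K) := by
  have _ := hab'
  unfold T2L
  have h1 : ng a ≠ a := ng_ne a
  have h2 : b ≠ a := hab.symm
  have h3 : ng a ≠ ng b := fun e => hab (ng_inj.1 e)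
  have h4 : b ≠ ng b := ne_ng b
  simp only [st2r0b_single, Matrix.transpose_sub, Matrix.transpose_add, Matrix.transpose_one, Matrix.transpose_smul, st2r0b_e_transpose]
  simp only [Matrix.add_mul, Matrix.sub_mul, Matrix.mul_add, Matrix.mul_sub, Matrix.one_mul,
    Matrix.mul_one, Matrix.smul_mul, Matrix.mul_smul, st2r0b_J2_mul_e_inl, st2r0b_e_inl_mul_J2, st2r0b_e_mul, smul_add, smul_sub, smul_smul, ng_ng,
    Sum.inl.injEq, Sum.inr.injEq, reduceCtorEq, if_false, if_true, h1, h2, h3, h4, smul_zero, sub_zero, add_zero, zero_add]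
  module


/-- the entries of `Aᵀ * J * A` as values of the bilinear form on the columns -/
theorem st2r2_entry (A J : Matrix (Ix2 l) (Ix2 l) K) (a b : Ix2 l) :
    (Aᵀ * J * A) a b = (A *ᵥ ev2 a) ⬝ᵥ (J *ᵥ (A *ᵥ ev2 b)) := by
  unfold ev2
  rw [Matrix.mulVec_single_one, Matrix.mulVec_single_one, Matrix.mul_assoc, Matrix.mul_apply]
  rfl

/-- the value of the polar form on two basis vectors -/
theorem st2r2_form_ev (a₀ b₀ : K) (a b : Ix2 l) :
    (ev2 a : Ix2 l → K) ⬝ᵥ ((J2 a₀ b₀ : Matrix (Ix2 l) (Ix2 l) K) *ᵥ ev2 b) = J2 a₀ b₀ a b := by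
  unfold ev2
  rw [Matrix.mulVec_single_one, single_one_dotProduct]
  rfl

/-- a matrix fixing all the basis vectors is the identity -/
theorem st2r2_eq_one_of_cols {M : Matrix (Ix2 l) (Ix2 l) K} (h : ∀ c, M *ᵥ ev2 c = ev2 c) : M = 1 := by
  ext i c
  have h1 := congrFun (h c) i
  unfold ev2 at h1
  rw [Matrix.mulVec_single_one] at h1
  rw [Matrix.one_apply, ← Pi.single_apply]
  exact h1

/-- R2 [M] -/
theorem eq_one_of_Yshape {a₀ b₀ : K} {M : Matrix (Ix2 l) (Ix2 l) K} {o : l ⊕ l} (hM : Mᵀ * J2 a₀ b₀ * M = J2 a₀ b₀) (h0 : M *ᵥ ev2 (Sum.inl o) = ev2 (Sum.inl o))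
    (h : ∀ c : Ix2 l, c ≠ Sum.inl o → ∃ r : K, M *ᵥ ev2 c = ev2 c + r • ev2 (Sum.inl (ng o))) : M = 1 := by
  apply st2r2_eq_one_of_cols
  intro c
  by_cases hc : c = Sum.inl o
  · subst hc; exact h0
  · obtain ⟨r, hr⟩ := h c hc
    have hf := st2r2_entry M (J2 a₀ b₀) (Sum.inl o) c
    rw [hM, h0, hr, Matrix.mulVec_add, Matrix.mulVec_smul, dotProduct_add, dotProduct_smul,
      st2r2_form_ev, st2r2_form_ev] at hf
    have hJ : (J2 a₀ b₀ : Matrix (Ix2 l) (Ix2 l) K) (Sum.inl o) (Sum.inl (ng o)) = 1 := by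
      show (if ng o = ng o then (1 : K) else 0) = 1
      rw [if_pos rfl]
    rw [hJ, smul_eq_mul, mul_one] at hf
    have hr0 : r = 0 := by
      have := add_left_cancel (a := (J2 a₀ b₀ : Matrix (Ix2 l) (Ix2 l) K) (Sum.inl o) c) (b := r) (c := 0)
        (by rw [add_zero]; exact hf.symm)
      exact this
    rw [hr, hr0, zero_smul, add_zero]

end R0

end Cfsg.Agent.Lib.Helper24.ST2
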