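import Mathlib
import Cfsg.Agent.Lib.Helper24.ST2.Defs
import Cfsg.Agent.Lib.Helper24.ST2.Defs2
import Cfsg.Agent.Lib.Helper24.ST2.Sub
import Cfsg.Agent.Lib.Helper24.STCI1
import Cfsg.Agent.Lib.Helper9.ST2R0

/-!
# Project ST2 (designer helper24), rows R3 + R5 + R7 (helper9), verbatim:
`Sys2.Rep.M_one M_mul M_x M_xs phi_eq_one_of_M M_eq_one_of_phi M_inv_mulVec`, `M_w_fst M_h_fst`, `Yg_col`
(ports of `Helper20.STBR3`, `Helper9.STBR5`, `Helper9.STBR7`).  Extras prefixed `st2r3_`, `st2r5_`, `st2r7_`.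
-/

set_option autoImplicit false
set_option linter.unusedSectionVars false

namespace Cfsg.Agent.Lib.Helper24.ST2

open Matrix Cfsg.Agent.Lib.helper15.St2 Cfsg.Agent.Lib.helper3.STC Cfsg.Agent.Lib.Lead.STD Cfsg.Agent.Lib.Lead.STB Cfsg.Agent.Lib.Helper22.SU4

universe u v w

theorem st2r3_Em_ng {ι l : Type*} (e : ι ↪ l) (a : ι ⊕ ι) : Em e (ng a) = ng (Em e a) := by
  cases a <;> rfl

theorem st2r3_Em_injective {ι l : Type*} (e : ι ↪ l) : Function.Injective (Em e) := by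
  intro a b h
  cases a <;> cases b <;> simp [Em] at h <;> simp [h]

section W
variable {l : Type*} [Fintype l] [DecidableEq l] {K : Type*} [Field K]

/-- `T2L a b t` fixes the basis vectors other than `e_b`, `e_{-a}` -/
theorem st2r5_T2L_ev_of_ne (a b : l ⊕ l) (t : K) {c : Ix2 l} (hc : c ≠ Sum.inl b) (hc' : c ≠ Sum.inl (ng a)) :
    T2L a b t *ᵥ (ev2 c : Ix2 l → K) = ev2 c := by
  rw [T2L_mulVec]
  have h1 : (ev2 c : Ix2 l → K) (Sum.inl b) = 0 := by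
    unfold ev2
    rw [Pi.single_apply, if_neg hc.symm]
  have h2 : (ev2 c : Ix2 l → K) (Sum.inl (ng a)) = 0 := by
    unfold ev2
    rw [Pi.single_apply, if_neg hc'.symm]
  rw [h1, h2, mul_zero, Pi.single_zero, Pi.single_zero, add_zero, sub_zero]

/-- `T2L a b t e_b = e_b + t e_a` -/
theorem st2r5_T2L_ev_snd {a b : l ⊕ l} (hab' : a ≠ ng b) (t : K) :
    T2L a b t *ᵥ (ev2 (Sum.inl b) : Ix2 l → K) = ev2 (Sum.inl b) + t • ev2 (Sum.inl a) := by
  rw [T2L_mulVec]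
  have h1 : (ev2 (Sum.inl b) : Ix2 l → K) (Sum.inl b) = 1 := by
    unfold ev2
    rw [Pi.single_apply, if_pos rfl]
  have h2 : (ev2 (Sum.inl b) : Ix2 l → K) (Sum.inl (ng a)) = 0 := by
    unfold ev2
    rw [Pi.single_apply, if_neg]
    intro h
    apply hab'
    have := Sum.inl.inj h
    rw [← this, ng_ng]
  rw [h1, h2, mul_zero, Pi.single_zero, sub_zero, mul_one]
  congr 1
  unfold ev2
  ext m
  simp only [Pi.smul_apply, Pi.single_apply, smul_eq_mul]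
  split_ifs <;> simp

/-- the long Weyl matrix on `e_a` -/
theorem st2r5_W_a {a b : l ⊕ l} (hab : a ≠ b) (hab' : a ≠ ng b) (u : K) (hu : u ≠ 0) :
    (T2L a b u * T2L b a (-u⁻¹) * T2L a b u) *ᵥ (ev2 (Sum.inl a) : Ix2 l → K) = (-u⁻¹) • ev2 (Sum.inl b) := by
  have hba' : b ≠ ng a := fun h => hab' (by rw [h, ng_ng])
  rw [← Matrix.mulVec_mulVec, ← Matrix.mulVec_mulVec,
    st2r5_T2L_ev_of_ne a b u (fun h => hab (Sum.inl.inj h)) (fun h => ne_ng a (Sum.inl.inj h)),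
    st2r5_T2L_ev_snd hba', Matrix.mulVec_add, Matrix.mulVec_smul,
    st2r5_T2L_ev_of_ne a b u (fun h => hab (Sum.inl.inj h)) (fun h => ne_ng a (Sum.inl.inj h)),
    st2r5_T2L_ev_snd hab', smul_add, smul_smul, neg_mul, inv_mul_cancel₀ hu]
  module

/-- the long Weyl matrix on `e_b` -/
theorem st2r5_W_b {a b : l ⊕ l} (hab : a ≠ b) (hab' : a ≠ ng b) (u : K) (hu : u ≠ 0) :
    (T2L a b u * T2L b a (-u⁻¹) * T2L a b u) *ᵥ (ev2 (Sum.inl b) : Ix2 l → K) = u • ev2 (Sum.inl a) := by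
  have hba' : b ≠ ng a := fun h => hab' (by rw [h, ng_ng])
  rw [← Matrix.mulVec_mulVec, ← Matrix.mulVec_mulVec, st2r5_T2L_ev_snd hab', Matrix.mulVec_add, Matrix.mulVec_smul,
    st2r5_T2L_ev_of_ne b a (-u⁻¹) (fun h => hab (Sum.inl.inj h).symm) (fun h => ne_ng b (Sum.inl.inj h)),
    st2r5_T2L_ev_snd hba', smul_add, smul_smul, mul_neg, mul_inv_cancel₀ hu]
  have e : (ev2 (Sum.inl b) : Ix2 l → K) + (u • ev2 (Sum.inl a) + (-1 : K) • ev2 (Sum.inl b)) = u • ev2 (Sum.inl a) := by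
    module
  rw [e, Matrix.mulVec_smul,
    st2r5_T2L_ev_of_ne a b u (fun h => hab (Sum.inl.inj h)) (fun h => ne_ng a (Sum.inl.inj h))]

end W

namespace Sys2

namespace Rep

variable {E K : Type u} [Field E] [Field K] {D : Tw E K} {ι : Type*} {G : Type*} [Group G] {S : Sys2 D ι G} {a₀ b₀ : K} {C : Co D a₀ b₀} {l : Type*} [Fintype l] [DecidableEq l] (R : S.Rep C l)

/-- R3 [S]  the matrix `R.M`. -/
theorem M_one : R.M 1 = 1 := by
  unfold Rep.M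
  rw [map_one]
  rfl

theorem M_mul (g g' : G) : R.M (g * g') = R.M g * R.M g' := by
  unfold Rep.M
  rw [map_mul]
  rfl

theorem M_x {a b : ι ⊕ ι} (hab : a ≠ b) (hab' : a ≠ ng b) (t : K) : R.M (S.x a b t) = T2L (Em R.e a) (Em R.e b) t :=
  R.hφ a b hab hab' t

theorem M_xs (a : ι ⊕ ι) (t : E) : R.M (S.xs a t) = T2S a₀ b₀ (Em R.e a) (C.c0 t) (C.c1 t) :=
  R.hφs a t

theorem phi_eq_one_of_M {g : G} (h : R.M g = 1) : R.φ g = 1 := by
  apply Units.ext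
  exact h

theorem M_eq_one_of_phi {g : G} (h : R.φ g = 1) : R.M g = 1 := by
  unfold Rep.M
  rw [h]
  rfl

theorem st2r3_M_inv_mul (g : G) : R.M g⁻¹ * R.M g = 1 := by
  rw [← M_mul, inv_mul_cancel, M_one]

theorem st2r3_M_mul_inv (g : G) : R.M g * R.M g⁻¹ = 1 := by
  rw [← M_mul, mul_inv_cancel, M_one]

theorem M_inv_mulVec {g : G} {v v' : Ix2 l → K} (h : R.M g *ᵥ v = v') : R.M g⁻¹ *ᵥ v' = v := by
  rw [← h, Matrix.mulVec_mulVec, st2r3_M_inv_mul, Matrix.one_mulVec]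

/-- the matrix of the long Weyl element -/
theorem st2r5_M_w {a b : ι ⊕ ι} (hab : a ≠ b) (hab' : a ≠ ng b) (u : K) :
    R.M (S.w a b u) = T2L (Em R.e a) (Em R.e b) u * T2L (Em R.e b) (Em R.e a) (-u⁻¹) * T2L (Em R.e a) (Em R.e b) u := by
  have hba' : b ≠ ng a := fun h => hab' (by rw [h, ng_ng])
  show R.M (S.x a b u * S.x b a (-u⁻¹) * S.x a b u) = _
  rw [M_mul, M_mul, M_x R hab hab', M_x R hab.symm hba']

/-- R5 [S-M] -/
theorem M_w_fst {a b : ι ⊕ ι} (hab : a ≠ b) (hab' : a ≠ ng b) (u : K) (hu : u ≠ 0) :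
    R.M (S.w a b u) *ᵥ ev2 (E2 R.e a) = (-u⁻¹) • ev2 (E2 R.e b) := by
  rw [st2r5_M_w R hab hab']
  refine st2r5_W_a (fun h => hab (st2r3_Em_injective R.e h)) ?_ u hu
  rw [← st2r3_Em_ng]
  exact fun h => hab' (st2r3_Em_injective R.e h)

/-- the column `e_b` of the long Weyl element -/
theorem st2r5_M_w_snd {a b : ι ⊕ ι} (hab : a ≠ b) (hab' : a ≠ ng b) (u : K) (hu : u ≠ 0) :
    R.M (S.w a b u) *ᵥ ev2 (E2 R.e b) = u • ev2 (E2 R.e a) := by
  rw [st2r5_M_w R hab hab']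
  refine st2r5_W_b (fun h => hab (st2r3_Em_injective R.e h)) ?_ u hu
  rw [← st2r3_Em_ng]
  exact fun h => hab' (st2r3_Em_injective R.e h)

theorem M_h_fst {a b : ι ⊕ ι} (hab : a ≠ b) (hab' : a ≠ ng b) (u : K) (hu : u ≠ 0) :
    R.M (S.h a b u) *ᵥ ev2 (E2 R.e a) = u • ev2 (E2 R.e a) := by
  show R.M (S.w a b u * S.w a b (-1)) *ᵥ ev2 (E2 R.e a) = u • ev2 (E2 R.e a)
  rw [M_mul, ← Matrix.mulVec_mulVec, M_w_fst R hab hab' (-1) (neg_ne_zero.2 one_ne_zero), inv_neg, inv_one, neg_neg, one_smul,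
    st2r5_M_w_snd R hab hab' u hu]

variable (o : ι ⊕ ι)

/-- the vector `e_{-o}` is fixed by `Yg o`, and the columns `c ≠ o` have the shape `e_c + r e_{-o}` -/
theorem st2r7_Yg_col_aux : ∀ y ∈ S.Yg o,
    R.M y *ᵥ ev2 (E2 R.e (ng o)) = ev2 (E2 R.e (ng o)) ∧
      ∀ c : Ix2 l, c ≠ E2 R.e o → ∃ r : K, R.M y *ᵥ ev2 c = ev2 c + r • ev2 (E2 R.e (ng o)) := by
  intro y hy
  unfold Yg XQ at hy
  induction hy using Subgroup.closure_induction with
  | mem g hg =>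
    rcases hg with ⟨a, b, t, hab, hab2, rfl, rfl⟩ | ⟨a, t, rfl, rfl⟩
    · have hab' : Em R.e a ≠ Em R.e b := fun h => hab (st2r3_Em_injective R.e h)
      rw [M_x R hab hab2]
      show T2L (Em R.e a) (Em R.e b) t *ᵥ ev2 (Sum.inl (Em R.e (ng b))) = ev2 (Sum.inl (Em R.e (ng b))) ∧
        ∀ c : Ix2 l, c ≠ Sum.inl (Em R.e b) → ∃ r : K, T2L (Em R.e a) (Em R.e b) t *ᵥ ev2 c = ev2 c + r • ev2 (Sum.inl (Em R.e (ng b)))
      rw [st2r3_Em_ng]
      have key : ∀ c : Ix2 l, c ≠ Sum.inl (Em R.e b) →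
          T2L (Em R.e a) (Em R.e b) t *ᵥ (ev2 c : Ix2 l → K) =
            ev2 c + (-(t * (ev2 c : Ix2 l → K) (Sum.inl (ng (Em R.e a))))) • ev2 (Sum.inl (ng (Em R.e b))) := by
        intro c hc
        rw [T2L_mulVec]
        have h1 : (ev2 c : Ix2 l → K) (Sum.inl (Em R.e b)) = 0 := by
          unfold ev2
          rw [Pi.single_apply, if_neg hc.symm]
        rw [h1]
        unfold ev2
        ext m
        simp only [mul_zero, Pi.single_zero, add_zero, Pi.sub_apply, Pi.add_apply, Pi.smul_apply,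
          Pi.single_apply, smul_eq_mul]
        split_ifs <;> ring
      refine ⟨?_, fun c hc => ⟨_, key c hc⟩⟩
      rw [key _ (fun h => ng_ne _ (Sum.inl.inj h))]
      have h2 : (ev2 (Sum.inl (ng (Em R.e b))) : Ix2 l → K) (Sum.inl (ng (Em R.e a))) = 0 := by
        unfold ev2
        rw [Pi.single_apply, if_neg (fun h => hab' (ng_inj.1 (Sum.inl.inj h)))]
      rw [h2, mul_zero, neg_zero, zero_smul, add_zero]
    · rw [M_xs R]
      show T2S a₀ b₀ (Em R.e (ng o)) (C.c0 t) (C.c1 t) *ᵥ ev2 (Sum.inl (Em R.e (ng o))) = ev2 (Sum.inl (Em R.e (ng o))) ∧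
        ∀ c : Ix2 l, c ≠ Sum.inl (Em R.e o) → ∃ r : K, T2S a₀ b₀ (Em R.e (ng o)) (C.c0 t) (C.c1 t) *ᵥ ev2 c = ev2 c + r • ev2 (Sum.inl (Em R.e (ng o)))
      rw [st2r3_Em_ng]
      have key : ∀ (z0 z1 : K) (c : Ix2 l), c ≠ Sum.inl (Em R.e o) →
          T2S a₀ b₀ (ng (Em R.e o)) z0 z1 *ᵥ (ev2 c : Ix2 l → K) =
            ev2 c + (-((2 * z0 + a₀ * z1) * (ev2 c : Ix2 l → K) (Sum.inr 0) + (a₀ * z0 + 2 * b₀ * z1) * (ev2 c : Ix2 l → K) (Sum.inr 1))) •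
              ev2 (Sum.inl (ng (Em R.e o))) := by
        intro z0 z1 c hc
        rw [T2S_mulVec, ng_ng]
        have h1 : (ev2 c : Ix2 l → K) (Sum.inl (Em R.e o)) = 0 := by
          unfold ev2
          rw [Pi.single_apply, if_neg hc.symm]
        rw [h1]
        unfold ev2
        ext m
        simp only [mul_zero, Pi.single_zero, add_zero, Pi.sub_apply, Pi.add_apply, Pi.smul_apply,
          Pi.single_apply, smul_eq_mul, Pi.zero_apply, sub_zero]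
        split_ifs <;> ring
      refine ⟨?_, fun c hc => ⟨_, key _ _ c hc⟩⟩
      rw [key _ _ _ (fun h => ng_ne _ (Sum.inl.inj h))]
      have h2 : ∀ k : Fin 2, (ev2 (Sum.inl (ng (Em R.e o))) : Ix2 l → K) (Sum.inr k) = 0 := by
        intro k
        unfold ev2
        rw [Pi.single_apply, if_neg (by simp)]
      rw [h2, h2, mul_zero, mul_zero, add_zero, neg_zero, zero_smul, add_zero]
  | one =>
    rw [M_one]
    refine ⟨Matrix.one_mulVec _, fun c _ => ⟨0, by rw [Matrix.one_mulVec, zero_smul, add_zero]⟩⟩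
  | mul y y' _ _ ihy ihy' =>
    obtain ⟨h1, h2⟩ := ihy
    obtain ⟨h1', h2'⟩ := ihy'
    rw [M_mul]
    refine ⟨by rw [← Matrix.mulVec_mulVec, h1', h1], ?_⟩
    intro c hc
    obtain ⟨r, hr⟩ := h2 c hc
    obtain ⟨r', hr'⟩ := h2' c hc
    refine ⟨r + r', ?_⟩
    rw [← Matrix.mulVec_mulVec, hr', Matrix.mulVec_add, Matrix.mulVec_smul, h1, hr, add_smul, add_assoc]
  | inv y _ ihy =>
    obtain ⟨h1, h2⟩ := ihy
    have hfix : R.M y⁻¹ *ᵥ ev2 (E2 R.e (ng o)) = ev2 (E2 R.e (ng o)) := M_inv_mulVec R h1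
    refine ⟨hfix, ?_⟩
    intro c hc
    obtain ⟨r, hr⟩ := h2 c hc
    refine ⟨-r, ?_⟩
    have := congrArg (fun v => R.M y⁻¹ *ᵥ v) hr
    simp only [Matrix.mulVec_mulVec, st2r3_M_inv_mul, Matrix.one_mulVec, Matrix.mulVec_add,
      Matrix.mulVec_smul, hfix] at this
    rw [eq_sub_of_add_eq this.symm, neg_smul, sub_eq_add_neg]

/-- R7 [M] -/
theorem Yg_col : ∀ y ∈ S.Yg o, ∀ c : Ix2 l, c ≠ E2 R.e o → ∃ r : K, R.M y *ᵥ ev2 c = ev2 c + r • ev2 (E2 R.e (ng o)) :=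
  fun y hy => (st2r7_Yg_col_aux R o y hy).2

/-- `Yg o` fixes the vector `e_{-o}` -/
theorem st2r7_Yg_fix_ng : ∀ y ∈ S.Yg o, R.M y *ᵥ ev2 (E2 R.e (ng o)) = ev2 (E2 R.e (ng o)) :=
  fun y hy => (st2r7_Yg_col_aux R o y hy).1

end Rep

end Sys2

end Cfsg.Agent.Lib.Helper24.ST2
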