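import Mathlib
import Cfsg.Agent.Lib.helper15.St2
import Cfsg.Agent.Lib.helper7.StA
import Cfsg.Agent.Lib.helper7.StC
import Cfsg.Agent.Lib.helper7.StE
import Cfsg.Agent.Lib.helper3.STC.Defs
import Cfsg.Agent.Lib.helper3.STC.Defs2
import Cfsg.Agent.Lib.helper3.STC.Defs3
import Cfsg.Agent.Lib.Helper13.STCF10
import Cfsg.Agent.Lib.Helper9.STCF17core

/-!
# STC F17 (verbatim): left multiplication of the cell of `k` by a root element
-/

set_option autoImplicit false

namespace Cfsg.Agent.Lib.helper3.STC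

open Cfsg.Agent.Lib.helper15.St2 Cfsg.Agent.Lib.helper7.St

namespace SysC

variable {K : Type*} [Field K] {ι : Type*} {G : Type*} [Group G] (S : SysC K ι G)

section F
variable [DecidableEq ι] (o : ι ⊕ ι)

/-- F17 [M]  model `Sys.lemB`: `x a b t * w o k 1 = w o k 1 * x a' b' s` (`IsMon_move` for `hW`), `lemA_all` for `x a' b' s * (y * p)`; if the result is `w o j 1 * y₁ * p₁`, `ww_cell`:
`w o k 1 * w o j 1 * y₁ * p₁ = (w o k' 1 *) cj n y₁ * (n * p₁)`. -/
theorem lemB [Finite K] [Finite ι] (hW : S.HW) (hH : S.HH) {k : ι ⊕ ι} (hk : k ≠ o) {a b : ι ⊕ ι} (hab : a ≠ b) (t : K) {y p : G}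
    (hy : y ∈ S.Yg o) (hp : p ∈ S.Phat o) : S.InD o (S.x a b t * (S.w o k 1 * y * p)) :=
  S.stcf17_core o hW hH (fun hab t _ _ hy hp => S.lemA_all o hW hH hab t hy hp) hk hab t hy hp

end F

end SysC

end Cfsg.Agent.Lib.helper3.STC
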