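import Mathlib

set_option autoImplicit false

/-!
Lifting the elements of `p`-power order through a finite central extension whose kernel has no
element of order `p`: the lift is multiplicative on every `p`-subgroup.
-/

namespace Cfsg.Agent.Lib.Helper9

section
variable {E : Type*} {Δ : Type*} [Group E] [Group Δ]

theorem h9pl_noptors (p : ℕ) (pr : E →* Δ)
    (hN : ∀ z : E, pr z = 1 → z ^ p = 1 → z = 1) :
    ∀ (k : ℕ) (z : E), pr z = 1 → z ^ (p ^ k) = 1 → z = 1 := by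
  intro k
  induction k with
  | zero =>
    intro z _ h
    simpa using h
  | succ k ih =>
    intro z hz h
    apply ih z hz
    apply hN _ (by rw [map_pow, hz, one_pow])
    rw [← pow_mul, ← pow_succ]
    exact h

theorem h9pl_unique (p : ℕ) (pr : E →* Δ)
    (hcent : ∀ z : E, pr z = 1 → ∀ g : E, z * g = g * z)
    (hN : ∀ z : E, pr z = 1 → z ^ p = 1 → z = 1)
    (e e' : E) (h : pr e = pr e') (k k' : ℕ) (hk : e ^ (p ^ k) = 1) (hk' : e' ^ (p ^ k') = 1) :
    e = e' := by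
  have hz : pr (e⁻¹ * e') = 1 := by rw [map_mul, map_inv, h, inv_mul_cancel]
  have hc : Commute e (e⁻¹ * e') := (hcent _ hz e).symm
  have e1 : e' = e * (e⁻¹ * e') := by group
  have h1 : e ^ (p ^ (k + k')) = 1 := by rw [pow_add, pow_mul, hk, one_pow]
  have h2 : e' ^ (p ^ (k + k')) = 1 := by rw [pow_add, mul_comm, pow_mul, hk', one_pow]
  have h3 : (e⁻¹ * e') ^ (p ^ (k + k')) = 1 := by
    have := hc.mul_pow (p ^ (k + k'))
    rw [← e1, h2, h1, one_mul] at this
    exact this.symm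
  have h4 := h9pl_noptors p pr hN _ _ hz h3
  rw [e1, h4, mul_one]

/-- the canonical lift of the `p`-elements, multiplicative on `p`-subgroups -/
theorem h9plift [Finite E] (p : ℕ) [hp : Fact p.Prime] (pr : E →* Δ)
    (hsurj : Function.Surjective pr)
    (hcent : ∀ z : E, pr z = 1 → ∀ g : E, z * g = g * z)
    (hN : ∀ z : E, pr z = 1 → z ^ p = 1 → z = 1) :
    ∃ lam : Δ → E, ∀ Q : Subgroup Δ, IsPGroup p Q →
      (∀ d ∈ Q, pr (lam d) = d) ∧ (∀ d₁ ∈ Q, ∀ d₂ ∈ Q, lam (d₁ * d₂) = lam d₁ * lam d₂) := by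
  classical
  haveI : Finite Δ := Finite.of_surjective pr hsurj
  let good : Δ → E → Prop := fun d e => pr e = d ∧ ∃ k, e ^ (p ^ k) = 1
  let lam : Δ → E := fun d => if h : ∃ e, good d e then Classical.choose h else 1
  have hlam : ∀ d e, good d e → lam d = e := by
    intro d e he
    have h : ∃ e, good d e := ⟨e, he⟩
    have hs := Classical.choose_spec h
    show (if h : ∃ e, good d e then Classical.choose h else 1) = e
    rw [dif_pos h]
    obtain ⟨k, hk⟩ := hs.2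
    obtain ⟨k', hk'⟩ := he.2
    exact h9pl_unique p pr hcent hN _ _ (hs.1.trans he.1.symm) k k' hk hk'
  refine ⟨lam, ?_⟩
  intro Q hQ
  have key : ∃ S : Subgroup E, IsPGroup p S ∧ ∀ d ∈ Q, ∃ e ∈ S, pr e = d := by
    obtain ⟨T, hT⟩ := hQ.exists_le_sylow
    obtain ⟨S₁, hS₁⟩ := Sylow.mapSurjective_surjective hsurj p T
    refine ⟨S₁, S₁.isPGroup', ?_⟩
    intro d hd
    have hd' : d ∈ (T : Subgroup Δ) := hT hd
    rw [← hS₁, Sylow.coe_mapSurjective] at hd'
    obtain ⟨e, he, rfl⟩ := hd'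
    exact ⟨e, he, rfl⟩
  obtain ⟨S, hS, hSQ⟩ := key
  have hgood : ∀ e ∈ S, good (pr e) e := by
    intro e he
    refine ⟨rfl, ?_⟩
    obtain ⟨k, hk⟩ := hS ⟨e, he⟩
    refine ⟨k, ?_⟩
    have := congrArg Subtype.val hk
    simpa using this
  constructor
  · intro d hd
    obtain ⟨e, he, rfl⟩ := hSQ d hd
    rw [hlam _ e (hgood e he)]
  · intro d₁ h₁ d₂ h₂
    obtain ⟨e₁, he₁, rfl⟩ := hSQ d₁ h₁
    obtain ⟨e₂, he₂, rfl⟩ := hSQ d₂ h₂
    rw [hlam _ e₁ (hgood e₁ he₁), hlam _ e₂ (hgood e₂ he₂), ← map_mul]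
    exact hlam _ _ (hgood _ (S.mul_mem he₁ he₂))

end

end Cfsg.Agent.Lib.Helper9
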