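import Mathlib
import Cfsg.Prelude.Def_SteinbergCover
import Cfsg.Agent.Lib.helper8.ChevSt19
import Cfsg.Agent.Lib.helper8.ChevSt17
import Cfsg.Agent.Lib.helper8.ChevSt12
import Cfsg.Agent.Lib.helper8.ChevSt11

set_option autoImplicit false
set_option linter.unusedSectionVars false

/-!
Root combinatorics for the small-field case of the projective lifting theorem: every pair of
roots `r, s` with `s ≠ ±r` lies in a common positive system `w(Φ⁺)`, and the roots occurring in
the commutator formula for `(r, s)` lie there too.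
-/

namespace Cfsg.Agent.Lib.Helper9

open Cfsg.Lie Cfsg.Lie.ChevalleyDatum Cfsg.Agent.Lib.helper8

/-- every root is the image of a positive root under a word of simple reflections -/
theorem h9root_single (D : ChevalleyDatum)
    (hD : D ∈ [chevG2, chevB2, chevD4, chevF4, chevE6, chevE7, chevE8]) :
    ∀ r < D.nroots, ∃ v : List ℕ, (∀ i ∈ v, i < D.rank) ∧
      ∃ r', D.IsPosRoot r' ∧ h8sW D v r' = r := by
  have hB := h8base_all.{0} D hD
  have hL := h8all_all D hD
  have hWS := h8w0s_all D hD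
  obtain ⟨w, hchk, _⟩ := hWS.ex
  obtain ⟨hw, _, hneg, _⟩ := h8w0Chk_spec D hL.hA w hchk
  intro r hr
  rcases hB.posneg r hr with h | h
  · exact ⟨[], by simp, r, h, rfl⟩
  · exact ⟨w, hw, h8sW D w.reverse r, hneg r h, h8sW_reverse D hL.hA w hw r hr⟩

theorem h9refl_simple (D : ChevalleyDatum) (j : ℕ) :
    D.reflectRoot j (D.simple j) = D.negIdx.getD (D.simple j) 0 := by
  unfold ChevalleyDatum.reflectRoot
  simp [ChevalleyDatum.neg]

/-- two roots `r, s` with `s ≠ ±r` lie in a common positive system -/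
theorem h9root_pair (D : ChevalleyDatum)
    (hD : D ∈ [chevG2, chevB2, chevD4, chevF4, chevE6, chevE7, chevE8]) :
    ∀ r < D.nroots, ∀ s < D.nroots, s ≠ r → s ≠ D.negIdx.getD r 0 →
      ∃ v : List ℕ, (∀ i ∈ v, i < D.rank) ∧ ∃ r' s', D.IsPosRoot r' ∧ D.IsPosRoot s' ∧
        h8sW D v r' = r ∧ h8sW D v s' = s := by
  have hB := h8base_all.{0} D hD
  have hL := h8all_all D hD
  have hWS := h8w0s_all D hD
  obtain ⟨w, hchk, _⟩ := hWS.ex
  obtain ⟨hw, _, hneg, _⟩ := h8w0Chk_spec D hL.hA w hchk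
  obtain ⟨dep, par, horb⟩ := hL.hBN.orb
  apply h8orb_induction D hL.hA dep par horb
    (fun r => ∀ s < D.nroots, s ≠ r → s ≠ D.negIdx.getD r 0 →
      ∃ v : List ℕ, (∀ i ∈ v, i < D.rank) ∧ ∃ r' s', D.IsPosRoot r' ∧ D.IsPosRoot s' ∧
        h8sW D v r' = r ∧ h8sW D v s' = s)
  · intro j hj s hs h1 h2
    have hjp := h8simple_pos D hL.hBN j hj
    rcases hB.posneg s hs with h | h
    · exact ⟨[], by simp, D.simple j, s, hjp, h, rfl, rfl⟩
    · obtain ⟨η, hR⟩ := h8reflAll_spec D hL.hA j hj
      obtain ⟨hn1, _⟩ := h8refl_neg hB hL j hj s h h2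
      have hn2 : D.IsNegRoot (D.reflectRoot j (D.simple j)) := by
        rw [h9refl_simple]
        exact h8stNegOfPos hB hL _ hjp
      refine ⟨j :: w, ?_, h8sW D w.reverse (D.reflectRoot j (D.simple j)),
        h8sW D w.reverse (D.reflectRoot j s), hneg _ hn2, hneg _ hn1, ?_, ?_⟩
      · intro i hi
        rcases List.mem_cons.mp hi with rfl | hi
        · exact hj
        · exact hw i hi
      · show D.reflectRoot j (h8sW D w (h8sW D w.reverse _)) = _
        rw [h8sW_reverse D hL.hA w hw _ hn2.1, hR.invol _ hjp.1]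
      · show D.reflectRoot j (h8sW D w (h8sW D w.reverse _)) = _
        rw [h8sW_reverse D hL.hA w hw _ hn1.1, hR.invol _ hs]
  · intro i hi r hr ih s hs h1 h2
    obtain ⟨η, hR⟩ := h8reflAll_spec D hL.hA i hi
    have h1' : D.reflectRoot i s ≠ D.reflectRoot i r :=
      fun h => h1 (h8refl_inj D i η hR s r hs hr h)
    have h2' : D.reflectRoot i s ≠ D.negIdx.getD (D.reflectRoot i r) 0 := by
      intro h
      rw [← hR.negc r hr] at h
      exact h2 (h8refl_inj D i η hR s _ hs (hR.neglt r hr) h)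
    obtain ⟨v, hv, r', s', hr', hs', e1, e2⟩ := ih (D.reflectRoot i s) (hR.lt s hs) h1' h2'
    refine ⟨i :: v, ?_, r', s', hr', hs', ?_, ?_⟩
    · intro k hk
      rcases List.mem_cons.mp hk with rfl | hk
      · exact hi
      · exact hv k hk
    · show D.reflectRoot i (h8sW D v r') = r
      rw [e1, hR.invol r hr]
    · show D.reflectRoot i (h8sW D v s') = s
      rw [e2, hR.invol s hs]

/-- the roots of the commutator terms transform with a word of simple reflections -/
theorem h9terms_word (D : ChevalleyDatum) (hL : H8All D) : ∀ (v : List ℕ),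
    (∀ i ∈ v, i < D.rank) → ∀ r < D.nroots, ∀ s < D.nroots,
    ∀ c ∈ D.commTerms (h8sW D v r) (h8sW D v s), ∃ c' ∈ D.commTerms r s,
      c.1 = h8sW D v c'.1 := by
  intro v
  induction v with
  | nil =>
    intro _ r _ s _ c hc
    exact ⟨c, hc, rfl⟩
  | cons i w ih =>
    intro hv r hr s hs c hc
    have hi := hv i List.mem_cons_self
    have hw : ∀ j ∈ w, j < D.rank := fun j hj => hv j (List.mem_cons_of_mem _ hj)
    obtain ⟨eta, _, _, _, hTw⟩ := hL.hT.refl i hi
    have hc' : c ∈ D.commTerms (D.reflectRoot i (h8sW D w r))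
        (D.reflectRoot i (h8sW D w s)) := hc
    rw [hTw _ (h8sW_lt D hL.hA w hw r hr) _ (h8sW_lt D hL.hA w hw s hs), List.mem_map] at hc'
    obtain ⟨c₁, hc₁, rfl⟩ := hc'
    obtain ⟨c', hc', e⟩ := ih hw r hr s hs c₁ hc₁
    refine ⟨c', hc', ?_⟩
    show D.reflectRoot i c₁.1 = D.reflectRoot i (h8sW D w c'.1)
    rw [e]

/-- the roots of the commutator terms of two distinct positive roots are positive -/
def h9posTermsChk (D : ChevalleyDatum) : Bool :=
  (List.range D.nroots).all fun r => (List.range D.nroots).all fun s =>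
    (!(decide (D.nroots / 2 ≤ r) && decide (D.nroots / 2 ≤ s)) || r == s) ||
      (D.commTerms r s).all fun c => decide (D.nroots / 2 ≤ c.1) && decide (c.1 < D.nroots)

theorem h9posTermsChk_spec (D : ChevalleyDatum) (h : h9posTermsChk D = true) (r s : ℕ)
    (hr : r < D.nroots) (hs : s < D.nroots) (hrp : D.nroots / 2 ≤ r) (hsp : D.nroots / 2 ≤ s)
    (hne : r ≠ s) : ∀ c ∈ D.commTerms r s, D.nroots / 2 ≤ c.1 ∧ c.1 < D.nroots := by
  unfold h9posTermsChk at h
  simp only [List.all_eq_true, List.mem_range, Bool.or_eq_true, Bool.and_eq_true,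
    Bool.not_eq_true', decide_eq_true_eq, beq_iff_eq, Bool.and_eq_false_iff,
    decide_eq_false_iff_not] at h
  intro c hc
  rcases h r hr s hs with (h1 | h1) | h1
  · rcases h1 with h1 | h1
    · exact absurd hrp h1
    · exact absurd hsp h1
  · exact absurd h1 hne
  · exact h1 c hc

end Cfsg.Agent.Lib.Helper9
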