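import Mathlib
import Cfsg.Prelude.Def_ChevE6
import Cfsg.Agent.Lib.Helper9.ScLiftRoots

set_option autoImplicit false

namespace Cfsg.Agent.Lib.Helper9

open Cfsg.Lie Cfsg.Lie.ChevalleyDatum

set_option maxRecDepth 100000 in
theorem h9posTerms_E6 : h9posTermsChk chevE6 = true := by decide +kernel

end Cfsg.Agent.Lib.Helper9
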