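import Mathlib
import Cfsg.Prelude.Def_ChevG2
import Cfsg.Prelude.Def_ChevB2
import Cfsg.Prelude.Def_ChevD4
import Cfsg.Prelude.Def_ChevF4
import Cfsg.Agent.Lib.Helper9.ScLiftRoots

set_option autoImplicit false

namespace Cfsg.Agent.Lib.Helper9

open Cfsg.Lie Cfsg.Lie.ChevalleyDatum

set_option maxRecDepth 100000 in
theorem h9posTerms_G2 : h9posTermsChk chevG2 = true := by decide +kernel

set_option maxRecDepth 100000 in
theorem h9posTerms_B2 : h9posTermsChk chevB2 = true := by decide +kernel

set_option maxRecDepth 100000 in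
theorem h9posTerms_D4 : h9posTermsChk chevD4 = true := by decide +kernel

set_option maxRecDepth 100000 in
theorem h9posTerms_F4 : h9posTermsChk chevF4 = true := by decide +kernel

end Cfsg.Agent.Lib.Helper9
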