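import Mathlib
import Cfsg.Prelude.Def_SteinbergCover
import Cfsg.Agent.Lib.helper8.ChevSt19
import Cfsg.Agent.Lib.helper8.ChevPair
import Cfsg.Agent.Lib.Helper9.ScLiftRoots
import Cfsg.Agent.Lib.Helper9.ScLiftChkS
import Cfsg.Agent.Lib.Helper9.ScLiftChkE6
import Cfsg.Agent.Lib.Helper9.ScLiftChkE7
import Cfsg.Agent.Lib.Helper9.ScLiftChkE8

set_option autoImplicit false
set_option linter.unusedSectionVars false

/-!
Over a finite field of characteristic `p`, the subgroups of the Steinberg cover generated by the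
root elements of a positive system `w(Φ⁺)` are `p`-groups, and a map which is multiplicative on
all `p`-subgroups carries the root elements to a family satisfying the relations (A), (B).
-/

namespace Cfsg.Agent.Lib.Helper9

open Cfsg.Lie Cfsg.Lie.ChevalleyDatum Cfsg.Agent.Lib.helper8

universe u w

variable {K : Type u} [Field K]

theorem h9posTerms_all (D : ChevalleyDatum)
    (hD : D ∈ [chevG2, chevB2, chevD4, chevF4, chevE6, chevE7, chevE8]) :
    h9posTermsChk D = true := by
  simp only [List.mem_cons, List.not_mem_nil, or_false] at hD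
  rcases hD with rfl | rfl | rfl | rfl | rfl | rfl | rfl
  · exact h9posTerms_G2
  · exact h9posTerms_B2
  · exact h9posTerms_D4
  · exact h9posTerms_F4
  · exact h9posTerms_E6
  · exact h9posTerms_E7
  · exact h9posTerms_E8

/-- the subgroup generated by the root elements of `w(Φ⁺)` is a `p`-group -/
theorem h9Qv_isPGroup [Finite K] (p : ℕ) [Fact p.Prime] [CharP K p] (D : ChevalleyDatum)
    (hD : D ∈ [chevG2, chevB2, chevD4, chevF4, chevE6, chevE7, chevE8])
    (v : List ℕ) (hv : ∀ i ∈ v, i < D.rank) :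
    IsPGroup p (Subgroup.closure (h8VwS D (D.scGen K) v)) := by
  classical
  letI : Fintype K := Fintype.ofFinite K
  have hB := h8base_all.{u} D hD
  have hC := h8commAll.{u} D hD
  have hL := h8all_all D hD
  have hP := h8sc_pair (K := K) D hB hC
  obtain ⟨X', g', ε, hP', he1, _, he3⟩ := h8pair_twW hL.hT hL.hA v hv _ 1 hP
  have hUall : ∀ y ∈ Subgroup.closure (h8VkS D X' 0),
      g' * h8scPi D hB hC y * g'⁻¹ ∈ D.posUnipotent K := by
    intro y hy'
    induction hy' using Subgroup.closure_induction with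
    | mem z hz =>
      obtain ⟨r, t, hr, _, rfl⟩ := hz
      rw [hP'.im r hr.1 t]
      exact Subgroup.subset_closure ⟨r, t, hr, h8xU_val D hB r t⟩
    | one =>
      rw [map_one, mul_one, mul_inv_cancel]
      exact Subgroup.one_mem _
    | mul a b _ _ ha hb =>
      have e : g' * h8scPi D hB hC (a * b) * g'⁻¹ =
          (g' * h8scPi D hB hC a * g'⁻¹) * (g' * h8scPi D hB hC b * g'⁻¹) := by
        rw [map_mul]
        group
      rw [e]
      exact Subgroup.mul_mem _ ha hb
    | inv a _ ha =>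
      have e : g' * h8scPi D hB hC a⁻¹ * g'⁻¹ = (g' * h8scPi D hB hC a * g'⁻¹)⁻¹ := by
        rw [map_inv]
        group
      rw [e]
      exact Subgroup.inv_mem _ ha
  rintro ⟨y, hy⟩
  have hy' : y ∈ Subgroup.closure (h8VkS D X' 0) := by
    refine Subgroup.closure_mono ?_ hy
    rintro z ⟨r, t, hr, rfl⟩
    refine ⟨r, ((ε r : ℤ) : K) * t, hr, Nat.zero_le _, ?_⟩
    rw [he3 r hr.1, ← mul_assoc, h8eta_sqK _ (he1 r hr.1), one_mul]
  have hU := hUall y hy'
  obtain ⟨k, hk⟩ := (h8U_isPGroup p D hD) ⟨_, hU⟩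
  refine ⟨k, ?_⟩
  apply Subtype.ext
  show y ^ (p ^ k) = 1
  apply h8pair_inj_w hL.hT hL.hA hP hL.hO hL.hO2 v hv (y ^ (p ^ k)) (Subgroup.pow_mem _ hy _)
  have hk' : (g' * h8scPi D hB hC y * g'⁻¹) ^ (p ^ k) = 1 := by
    have := congrArg Subtype.val hk
    simpa using this
  rw [conj_pow] at hk'
  rw [map_pow]
  have := congrArg (fun z => g'⁻¹ * z * g') hk'
  simpa [mul_assoc] using this

/-- a map which is multiplicative on `p`-subgroups carries the root elements of the cover to a
family satisfying the relations (A), (B) -/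
theorem h9sys [Finite K] (p : ℕ) [Fact p.Prime] [CharP K p] (D : ChevalleyDatum)
    (hD : D ∈ [chevG2, chevB2, chevD4, chevF4, chevE6, chevE7, chevE8])
    {E₁ : Type w} [Group E₁] (lam : D.SteinbergCover K → E₁)
    (hlam : ∀ Q : Subgroup (D.SteinbergCover K), IsPGroup p Q →
      ∀ d₁ ∈ Q, ∀ d₂ ∈ Q, lam (d₁ * d₂) = lam d₁ * lam d₂) :
    H8Sys D (fun r t => lam (D.scGen K r t)) := by
  have hB := h8base_all.{u} D hD
  have hL := h8all_all D hD
  have hS := h8sc_sys (K := K) D
  have hone : lam 1 = 1 := by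
    have := hlam ⊥ IsPGroup.of_bot 1 (Subgroup.one_mem _) 1 (Subgroup.one_mem _)
    rw [mul_one] at this
    exact (mul_eq_left.mp this.symm)
  have hprod : ∀ Q : Subgroup (D.SteinbergCover K), IsPGroup p Q →
      ∀ l : List (ℕ × K), (∀ q ∈ l, D.scGen K q.1 q.2 ∈ Q) →
        lam (h8wX (D.scGen K) l) = h8wX (fun r t => lam (D.scGen K r t)) l := by
    intro Q hQ l
    induction l with
    | nil =>
      intro _
      rw [h8wX_nil, h8wX_nil, hone]
    | cons q l ih =>
      intro hl
      have hl' : ∀ q' ∈ l, D.scGen K q'.1 q'.2 ∈ Q :=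
        fun q' hq' => hl q' (List.mem_cons_of_mem _ hq')
      rw [h8wX_cons, h8wX_cons, hlam Q hQ _ (hl q List.mem_cons_self) _
        (h8wX_mem _ Q l hl'), ih hl']
  constructor
  · intro r hr t u
    obtain ⟨v, hv, r', hr', e⟩ := h9root_single D hD r hr
    have hQ := h9Qv_isPGroup (K := K) p D hD v hv
    have hmem : ∀ a : K, D.scGen K r a ∈ Subgroup.closure (h8VwS D (D.scGen K) v) := by
      intro a
      apply Subgroup.subset_closure
      exact ⟨r', a, hr', by rw [e]⟩
    show lam (D.scGen K r t) * lam (D.scGen K r u) = lam (D.scGen K r (t + u))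
    rw [← hlam _ hQ _ (hmem t) _ (hmem u), hS.add r hr]
  · intro r hr s hs h1 h2 t u
    obtain ⟨v, hv, r', s', hr', hs', e1, e2⟩ := h9root_pair D hD r hr s hs h1 h2
    have hQ := h9Qv_isPGroup (K := K) p D hD v hv
    have hne : r' ≠ s' := by
      intro h
      apply h1
      rw [← e1, ← e2, h]
    have hmemr : ∀ a : K, D.scGen K r a ∈ Subgroup.closure (h8VwS D (D.scGen K) v) := by
      intro a
      apply Subgroup.subset_closure
      exact ⟨r', a, hr', by rw [e1]⟩
    have hmems : ∀ a : K, D.scGen K s a ∈ Subgroup.closure (h8VwS D (D.scGen K) v) := by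
      intro a
      apply Subgroup.subset_closure
      exact ⟨s', a, hs', by rw [e2]⟩
    have hmemw : ∀ q ∈ D.commWord K r s t u,
        D.scGen K q.1 q.2 ∈ Subgroup.closure (h8VwS D (D.scGen K) v) := by
      intro q hq
      unfold ChevalleyDatum.commWord at hq
      rw [List.mem_map] at hq
      obtain ⟨c, hc, rfl⟩ := hq
      rw [← e1, ← e2] at hc
      obtain ⟨c', hc', e⟩ := h9terms_word D hL v hv r' hr'.1 s' hs'.1 c hc
      have hpos := h9posTermsChk_spec D (h9posTerms_all D hD) r' s' hr'.1 hs'.1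
        ((h8isPos_iff hB hL r' hr'.1).mp hr') ((h8isPos_iff hB hL s' hs'.1).mp hs') hne c' hc'
      have hc'p : D.IsPosRoot c'.1 := (h8isPos_iff hB hL _ hpos.2).mpr hpos.1
      apply Subgroup.subset_closure
      exact ⟨c'.1, _, hc'p, by rw [e]⟩
    have key := hS.comm r hr s hs h1 h2 t u
    have key2 := congrArg lam key
    rw [hlam _ hQ _ (hmems u) _ (hmemr t),
      hlam _ hQ _ (Subgroup.mul_mem _ (hmemr t) (hmems u)) _ (h8wX_mem _ _ _ hmemw),
      hlam _ hQ _ (hmemr t) _ (hmems u), hprod _ hQ _ hmemw] at key2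
    exact key2

end Cfsg.Agent.Lib.Helper9
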