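import Mathlib
import Cfsg.Prelude.Def_SteinbergCover
import Cfsg.Agent.Lib.helper8.ChevUC12
import Cfsg.Agent.Lib.helper8.ChevUC19
import Cfsg.Agent.Lib.helper8.ChevSt37
import Cfsg.Agent.Lib.helper8.ChevStC4
import Cfsg.Agent.Lib.helper7.Sg.Fin
import Cfsg.Agent.Lib.Helper9.ScLiftA
import Cfsg.Agent.Lib.Helper9.ScLiftSys

set_option autoImplicit false
set_option linter.unusedSectionVars false

/-!
Small fields: a central extension of the Steinberg cover over a finite field of characteristic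
`p` whose kernel has no element of order `p` splits; hence projective representations in the
natural characteristic lift.
-/

namespace Cfsg.Agent.Lib.Helper9

open Cfsg.Lie Cfsg.Lie.ChevalleyDatum Cfsg.Agent.Lib.helper8
open scoped MatrixGroups commutatorElement

universe u v w

variable {K : Type u} [Field K]

theorem h9sc_finite [Finite K] (D : ChevalleyDatum)
    (hD : D ∈ [chevG2, chevB2, chevD4, chevF4, chevE6, chevE7, chevE8]) :
    Finite (D.SteinbergCover K) := by
  obtain ⟨e, _⟩ := h8sc_iso (K := K) D hD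
  haveI := Cfsg.Agent.Lib.helper7.Sg.st_finite (K := K) D hD
  exact Finite.of_equiv _ e.symm.toEquiv

/-- a central extension of the cover with no `p`-torsion in the kernel splits -/
theorem h9sc_split_small [Finite K] (p : ℕ) [Fact p.Prime] [CharP K p] (D : ChevalleyDatum)
    (hD : D ∈ [chevG2, chevB2, chevD4, chevF4, chevE6, chevE7, chevE8])
    (hK : D ∈ [chevB2, chevG2] → ∃ x : K, x ≠ 0 ∧ x ≠ 1)
    {P : Type w} [Group P] (ρ : P →* D.SteinbergCover K) (hρ : H8CE ρ)
    (hN : ∀ z : P, ρ z = 1 → z ^ p = 1 → z = 1) :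
    ∃ τ : D.SteinbergCover K →* P, ρ.comp τ = MonoidHom.id _ := by
  classical
  haveI := h9sc_finite (K := K) D hD
  have hperf := h8sc_perfect_all (K := K) D hD hK
  haveI : Finite (commutatorSet P) := by
    let f : D.SteinbergCover K × D.SteinbergCover K → P :=
      fun d => ⁅hρ.lift d.1, hρ.lift d.2⁆
    have hsub : commutatorSet P ⊆ Set.range f := by
      rintro g ⟨g₁, g₂, rfl⟩
      refine ⟨(ρ g₁, ρ g₂), ?_⟩
      show ⁅hρ.lift (ρ g₁), hρ.lift (ρ g₂)⁆ = ⁅g₁, g₂⁆
      rw [commutatorElement_def, commutatorElement_def]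
      exact hρ.comm_eq (hρ.lift_spec _) (hρ.lift_spec _)
    exact ((Set.finite_range f).subset hsub).to_subtype
  haveI : Finite ↥(commutator P) := inferInstance
  let pr : ↥(commutator P) →* D.SteinbergCover K := ρ.comp (commutator P).subtype
  have hmap : (commutator P).map ρ = ⊤ := by
    rw [← hperf, commutator_def, commutator_def, Subgroup.map_commutator,
      ← MonoidHom.range_eq_map, MonoidHom.range_eq_top.mpr hρ.surj]
  have hsurj : Function.Surjective pr := by
    intro d
    have hd : d ∈ (commutator P).map ρ := by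
      rw [hmap]
      exact Subgroup.mem_top d
    obtain ⟨g, hg, rfl⟩ := hd
    exact ⟨⟨g, hg⟩, rfl⟩
  have hcent : ∀ z : ↥(commutator P), pr z = 1 → ∀ g : ↥(commutator P), z * g = g * z := by
    intro z hz g
    apply Subtype.ext
    exact hρ.central z.1 hz g.1
  have hN' : ∀ z : ↥(commutator P), pr z = 1 → z ^ p = 1 → z = 1 := by
    intro z hz hzp
    apply Subtype.ext
    apply hN z.1 hz
    have := congrArg Subtype.val hzp
    simpa using this
  obtain ⟨lam, hlam⟩ := h9plift p pr hsurj hcent hN'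
  let lam' : D.SteinbergCover K → P := fun d => (lam d : P)
  have hmul : ∀ Q : Subgroup (D.SteinbergCover K), IsPGroup p Q →
      ∀ d₁ ∈ Q, ∀ d₂ ∈ Q, lam' (d₁ * d₂) = lam' d₁ * lam' d₂ := by
    intro Q hQ d₁ h₁ d₂ h₂
    show ((lam (d₁ * d₂) : ↥(commutator P)) : P) = lam d₁ * lam d₂
    rw [(hlam Q hQ).2 d₁ h₁ d₂ h₂]
    rfl
  have hS : H8Sys D (fun r t => lam' (D.scGen K r t)) := h9sys p D hD lam' hmul
  have hone : lam' 1 = 1 := by
    have := hmul ⊥ IsPGroup.of_bot 1 (Subgroup.one_mem _) 1 (Subgroup.one_mem _)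
    rw [mul_one] at this
    exact (mul_eq_left.mp this.symm)
  have hY0 : ∀ q, D.nroots ≤ q → ∀ v : K, lam' (D.scGen K q v) = 1 := by
    intro q hq v
    have h1 : D.scGen K q v = 1 := by
      unfold ChevalleyDatum.scGen ChevalleyDatum.stX
      rw [dif_neg (not_lt.mpr hq)]
      exact map_one _
    rw [h1, hone]
  refine ⟨h8ucSigma D _ hS hY0, ?_⟩
  apply PresentedGroup.ext
  intro q
  rw [MonoidHom.comp_apply, MonoidHom.id_apply]
  have e : (PresentedGroup.of q : D.SteinbergCover K) = D.scGen K q.1.val q.2 := by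
    unfold ChevalleyDatum.scGen ChevalleyDatum.stX
    rw [dif_pos q.1.2]
    rfl
  rw [e, h8ucSigma_gen]
  obtain ⟨v, hv, r', hr', e'⟩ := h9root_single D hD q.1.val q.1.2
  have hQ := h9Qv_isPGroup (K := K) p D hD v hv
  exact (hlam _ hQ).1 _ (Subgroup.subset_closure ⟨r', q.2, hr', by rw [e']⟩)

/-- unique lifting through a central extension without `p`-torsion in the kernel -/
theorem h9lift_small [Finite K] (p : ℕ) [Fact p.Prime] [CharP K p] (D : ChevalleyDatum)
    (hD : D ∈ [chevG2, chevB2, chevD4, chevF4, chevE6, chevE7, chevE8])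
    (hK : D ∈ [chevB2, chevG2] → ∃ x : K, x ≠ 0 ∧ x ≠ 1)
    {G₁ : Type v} {E : Type w} [Group G₁] [Group E]
    (π₁ : E →* G₁) (hπ : Function.Surjective π₁) (hc : π₁.ker ≤ Subgroup.center E)
    (hNE : ∀ z : E, π₁ z = 1 → z ^ p = 1 → z = 1)
    (σ : D.SteinbergCover K →* G₁) : ∃! τ : D.SteinbergCover K →* E, π₁.comp τ = σ := by
  have hperf := h8sc_perfect_all (K := K) D hD hK
  have hCE1 : H8CE π₁ := by
    refine ⟨hπ, ?_⟩
    intro z hz g
    exact ((Subgroup.mem_center_iff.mp (hc (MonoidHom.mem_ker.mpr hz))) g).symm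
  let P : Subgroup (D.SteinbergCover K × E) :=
    MonoidHom.eqLocus (σ.comp (MonoidHom.fst _ _)) (π₁.comp (MonoidHom.snd _ _))
  have hPmem : ∀ q : D.SteinbergCover K × E, q ∈ P ↔ σ q.1 = π₁ q.2 := fun q => Iff.rfl
  let ρ : ↥P →* D.SteinbergCover K := (MonoidHom.fst _ _).comp P.subtype
  have hρ : H8CE ρ := by
    constructor
    · intro d
      obtain ⟨e, he⟩ := hπ (σ d)
      exact ⟨⟨(d, e), (hPmem _).mpr he.symm⟩, rfl⟩
    · rintro ⟨⟨d, e⟩, hde⟩ hz ⟨⟨d', e'⟩, hde'⟩
      have hd : d = 1 := hz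
      subst hd
      have he : π₁ e = 1 := by
        have := (hPmem _).mp hde
        rw [← this]
        exact map_one σ
      have hcomm := hCE1.central e he e'
      apply Subtype.ext
      show ((1 : D.SteinbergCover K), e) * (d', e') = (d', e') * ((1 : D.SteinbergCover K), e)
      rw [Prod.mk_mul_mk, Prod.mk_mul_mk, one_mul, mul_one, hcomm]
  have hNρ : ∀ z : ↥P, ρ z = 1 → z ^ p = 1 → z = 1 := by
    rintro ⟨⟨d, e⟩, hde⟩ hz hzp
    have hd : d = 1 := hz
    subst hd
    have he : π₁ e = 1 := by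
      have := (hPmem _).mp hde
      rw [← this]
      exact map_one σ
    have hep : e ^ p = 1 := by
      have := congrArg (fun z : ↥P => (z : D.SteinbergCover K × E).2) hzp
      simpa using this
    have := hNE e he hep
    subst this
    rfl
  obtain ⟨s, hs⟩ := h9sc_split_small p D hD hK ρ hρ hNρ
  have hs' : ∀ d, ((s d : D.SteinbergCover K × E)).1 = d := fun d => by
    have := congrArg (fun f => f d) hs
    exact this
  set τ₀ : D.SteinbergCover K →* E := (MonoidHom.snd _ _).comp (P.subtype.comp s) with hτ₀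
  have hτ₀' : ∀ d, π₁ (τ₀ d) = σ d := by
    intro d
    show π₁ ((s d : D.SteinbergCover K × E)).2 = σ d
    have := (hPmem _).mp (s d).2
    rw [← this, hs']
  refine ⟨τ₀, MonoidHom.ext hτ₀', ?_⟩
  intro τ' hτ'
  have hτ'' : ∀ d, π₁ (τ' d) = σ d := fun d => by
    have := congrArg (fun f => f d) hτ'
    exact this
  have hle : commutator (D.SteinbergCover K) ≤ MonoidHom.eqLocus τ' τ₀ := by
    rw [commutator_def, Subgroup.commutator_le]
    intro a _ b _
    change τ' _ = τ₀ _
    rw [commutatorElement_def, map_mul, map_mul, map_mul, map_inv, map_inv, map_mul, map_mul,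
      map_mul, map_inv, map_inv]
    apply hCE1.comm_eq
    · rw [hτ'', hτ₀']
    · rw [hτ'', hτ₀']
  rw [hperf] at hle
  exact MonoidHom.ext fun d => hle (Subgroup.mem_top d)

/-- the centre of `GL_n(L)` has no element of order `p = char L` -/
theorem h9center_noptors {L : Type*} [Field L] (p : ℕ) [Fact p.Prime] [CharP L p] {n : ℕ}
    (z : GL (Fin n) L) (hz : z ∈ Subgroup.center (GL (Fin n) L)) (hp : z ^ p = 1) : z = 1 := by
  obtain ⟨a, ha⟩ := Matrix.GeneralLinearGroup.mem_center_iff_val_mem_range_scalar.mp hz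
  rcases Nat.eq_zero_or_pos n with rfl | hn
  · apply Units.ext
    exact Subsingleton.elim _ _
  · haveI : Nonempty (Fin n) := ⟨⟨0, hn⟩⟩
    have h1 : ((z ^ p : GL (Fin n) L) : Matrix (Fin n) (Fin n) L) = 1 := by
      rw [hp]
      rfl
    rw [Units.val_pow_eq_pow_val, ← ha, ← map_pow] at h1
    have h2 : a ^ p = 1 := by
      have : Matrix.scalar (Fin n) (a ^ p) = Matrix.scalar (Fin n) 1 := by rw [h1, map_one]
      exact Matrix.scalar_inj.mp this
    have h3 : (a - 1) ^ p = 0 := by rw [sub_pow_char, h2, one_pow, sub_self]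
    have h4 : a = 1 := sub_eq_zero.mp (pow_eq_zero_iff (Fact.out : p.Prime).ne_zero |>.mp h3)
    apply Units.ext
    rw [← ha, h4, map_one]
    rfl

end Cfsg.Agent.Lib.Helper9
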