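import Mathlib

set_option autoImplicit false

namespace Cfsg.Agent.Lib.Helper9

open scoped commutatorElement

section Soft1

variable {G : Type*} [Group G]

/-- soft subgroup: abelian, self-centralizing, of index `p` in its normalizer -/
def SoftSub (p : ℕ) (E : Subgroup G) : Prop :=
  (∀ x ∈ E, ∀ y ∈ E, x * y = y * x) ∧ Subgroup.centralizer (E : Set G) ≤ E ∧
    E.relIndex (Subgroup.normalizer (E : Set G)) = p

theorem SoftSub.le_normalizer {p : ℕ} {E : Subgroup G} (_h : SoftSub p E) :
    E ≤ Subgroup.normalizer (E : Set G) := Subgroup.le_normalizer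

/-- an element of `H ≥ E` normalizing `E ⊓ H` inside `H` normalizes `E` -/
theorem soft_mem_normalizer_of_subgroupOf {E H : Subgroup G} (hEH : E ≤ H) (x : ↥H)
    (hx : x ∈ Subgroup.normalizer ((E.subgroupOf H : Subgroup ↥H) : Set ↥H)) :
    (x : G) ∈ Subgroup.normalizer (E : Set G) := by
  rw [Subgroup.mem_normalizer_iff] at hx ⊢
  intro g
  constructor
  · intro hg
    have := (hx ⟨g, hEH hg⟩).1 (by rw [Subgroup.mem_subgroupOf]; exact hg)
    rw [Subgroup.mem_subgroupOf] at this
    simpa using this
  · intro hg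
    have hgH : g ∈ H := by
      have h1 : (x : G) * g * (x : G)⁻¹ ∈ H := hEH hg
      have h2 : g = (x : G)⁻¹ * ((x : G) * g * (x : G)⁻¹) * (x : G) := by group
      rw [h2]
      exact H.mul_mem (H.mul_mem (H.inv_mem x.2) h1) x.2
    have := (hx ⟨g, hgH⟩).2 (by rw [Subgroup.mem_subgroupOf]; simpa using hg)
    rw [Subgroup.mem_subgroupOf] at this
    exact this

theorem soft_normalizer_subgroupOf {E H : Subgroup G} (hEH : E ≤ H) :
    Subgroup.normalizer ((E.subgroupOf H : Subgroup ↥H) : Set ↥H) =
      (Subgroup.normalizer (E : Set G)).subgroupOf H := by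
  ext x
  constructor
  · intro hx
    rw [Subgroup.mem_subgroupOf]
    exact soft_mem_normalizer_of_subgroupOf hEH x hx
  · intro hx
    rw [Subgroup.mem_subgroupOf, Subgroup.mem_normalizer_iff] at hx
    rw [Subgroup.mem_normalizer_iff]
    intro y
    rw [Subgroup.mem_subgroupOf, Subgroup.mem_subgroupOf]
    simpa using hx (y : G)

variable [Finite G] {p : ℕ} [hp : Fact p.Prime]

/-- every proper overgroup of a soft subgroup contains its normalizer -/
theorem soft_normalizer_le (hG : IsPGroup p G) {E : Subgroup G} (hE : SoftSub p E)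
    {H : Subgroup G} (hEH : E ≤ H) (hne : H ≠ E) :
    Subgroup.normalizer (E : Set G) ≤ H := by
  haveI : Group.IsNilpotent ↥H := (hG.to_subgroup H).isNilpotent
  have hlt : E.subgroupOf H < ⊤ := by
    rw [lt_top_iff_ne_top]
    intro h
    exact hne (le_antisymm (Subgroup.subgroupOf_eq_top.1 h) hEH)
  have hnc := (Group.normalizerCondition_of_isNilpotent (G := ↥H)) (E.subgroupOf H) hlt
  obtain ⟨x, hxN, hxE⟩ := SetLike.exists_of_lt hnc
  have hxN' : (x : G) ∈ Subgroup.normalizer (E : Set G) :=
    soft_mem_normalizer_of_subgroupOf hEH x hxN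
  have hxE' : (x : G) ∉ E := by
    intro h; exact hxE (by rw [Subgroup.mem_subgroupOf]; exact h)
  set X : Subgroup G := E ⊔ Subgroup.zpowers (x : G) with hX
  have hEX : E ≤ X := le_sup_left
  have hXN : X ≤ Subgroup.normalizer (E : Set G) :=
    sup_le Subgroup.le_normalizer (by rw [Subgroup.zpowers_le]; exact hxN')
  have hXH : X ≤ H := sup_le hEH (by rw [Subgroup.zpowers_le]; exact x.2)
  have hmul := Subgroup.relIndex_mul_relIndex E X (Subgroup.normalizer (E : Set G)) hEX hXN
  rw [hE.2.2] at hmul
  have hdvd : E.relIndex X ∣ p := Dvd.intro _ hmul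
  have hne1 : E.relIndex X ≠ 1 := by
    intro h
    rw [Subgroup.relIndex_eq_one] at h
    exact hxE' (h (by rw [hX]; exact Subgroup.mem_sup_right (Subgroup.mem_zpowers _)))
  have hep : E.relIndex X = p := by
    rcases (Nat.dvd_prime hp.out).1 hdvd with h | h
    · exact (hne1 h).elim
    · exact h
  rw [hep] at hmul
  have h1 : X.relIndex (Subgroup.normalizer (E : Set G)) = 1 := by
    have hp0 : 0 < p := hp.out.pos
    exact Nat.eq_of_mul_eq_mul_left hp0 (by rw [hmul, mul_one])
  rw [Subgroup.relIndex_eq_one] at h1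
  exact h1.trans hXH

end Soft1

end Cfsg.Agent.Lib.Helper9
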