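import Mathlib
import Cfsg.Agent.Lib.Helper9.Soft1

set_option autoImplicit false

namespace Cfsg.Agent.Lib.Helper9

open scoped commutatorElement

section Soft2

variable {G : Type*} [Group G] [Finite G] {p : ℕ} [hp : Fact p.Prime]

/-- conjugation by `k` preserves `N` when `k` normalizes `N` -/
theorem soft_conj_mem {N : Subgroup G} {k : G} (hk : k ∈ Subgroup.normalizer (N : Set G)) {g : G}
    (hg : g ∈ N) : k * g * k⁻¹ ∈ N := (Subgroup.mem_normalizer_iff.1 hk g).1 hg

theorem soft_conj_inv_mem {N : Subgroup G} {k : G} (hk : k ∈ Subgroup.normalizer (N : Set G))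
    {g : G} (hg : g ∈ N) : k⁻¹ * g * k ∈ N := by
  have := soft_conj_mem ((Subgroup.normalizer (N : Set G)).inv_mem hk) hg
  simpa using this

/-- if conjugation by `k` maps `E` into `E` (finite case) then `k` normalizes `E` -/
theorem soft_mem_normalizer_of_conj_le {E : Subgroup G} {k : G}
    (h : ∀ e ∈ E, k * e * k⁻¹ ∈ E) : k ∈ Subgroup.normalizer (E : Set G) := by
  set Ek : Subgroup G := E.map (MulAut.conj k).toMonoidHom with hEk
  have hle : Ek ≤ E := by
    rintro _ ⟨e, he, rfl⟩
    exact h e he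
  have hcard : Nat.card ↥Ek = Nat.card ↥E :=
    Subgroup.card_map_of_injective (MulAut.conj k).injective
  have heq : Ek = E := Subgroup.eq_of_le_of_card_ge hle hcard.ge
  rw [Subgroup.mem_normalizer_iff]
  intro g
  refine ⟨h g, fun hg => ?_⟩
  rw [← heq] at hg
  obtain ⟨e, he, hee⟩ := hg
  have : e = g := (MulAut.conj k).injective hee
  rw [← this]; exact he

/-- `E ∩ E^k` is central in `N₁ = N(E)` for `k ∈ N(N₁) ∖ N₁` -/
theorem soft_inf_conj_central (hG : IsPGroup p G) {E : Subgroup G} (hE : SoftSub p E) {k : G}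
    (hk : k ∈ Subgroup.normalizer ((Subgroup.normalizer (E : Set G) : Subgroup G) : Set G))
    (hk' : k ∉ Subgroup.normalizer (E : Set G)) {y : G} (hy : y ∈ E) (hy' : k⁻¹ * y * k ∈ E) :
    y ∈ Subgroup.centralizer ((Subgroup.normalizer (E : Set G) : Subgroup G) : Set G) := by
  set N₁ : Subgroup G := Subgroup.normalizer (E : Set G) with hN₁
  set Ek : Subgroup G := E.map (MulAut.conj k).toMonoidHom with hEk
  have hEkN : Ek ≤ N₁ := by
    rintro _ ⟨e, he, rfl⟩
    exact soft_conj_mem hk (Subgroup.le_normalizer he)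
  have hne : E ⊔ Ek ≠ E := by
    intro h
    apply hk'
    apply soft_mem_normalizer_of_conj_le
    intro e he
    have : k * e * k⁻¹ ∈ Ek := ⟨e, he, rfl⟩
    exact h ▸ (le_sup_right : Ek ≤ E ⊔ Ek) this
  have hN₁le : N₁ ≤ E ⊔ Ek := soft_normalizer_le hG hE le_sup_left hne
  have h1 : E ≤ Subgroup.centralizer ({y} : Set G) := by
    intro e he
    rw [Subgroup.mem_centralizer_iff]
    intro h hh
    rw [Set.mem_singleton_iff] at hh
    rw [hh]; exact hE.1 y hy e he
  have h2 : Ek ≤ Subgroup.centralizer ({y} : Set G) := by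
    rintro _ ⟨e, he, rfl⟩
    rw [Subgroup.mem_centralizer_iff]
    intro h hh
    rw [Set.mem_singleton_iff] at hh
    rw [hh]
    have hc := hE.1 (k⁻¹ * y * k) hy' e he
    show y * (k * e * k⁻¹) = k * e * k⁻¹ * y
    have e1 : y * (k * e * k⁻¹) = k * ((k⁻¹ * y * k) * e) * k⁻¹ := by group
    have e2 : k * e * k⁻¹ * y = k * (e * (k⁻¹ * y * k)) * k⁻¹ := by group
    rw [e1, e2, hc]
  rw [Subgroup.mem_centralizer_iff]
  intro h hh
  have hh' : h ∈ Subgroup.centralizer ({y} : Set G) := (sup_le h1 h2) (hN₁le hh)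
  exact (Subgroup.mem_centralizer_iff.1 hh' y rfl).symm

end Soft2

end Cfsg.Agent.Lib.Helper9
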