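import Mathlib
import Cfsg.Agent.Lib.Helper9.Soft2

set_option autoImplicit false

namespace Cfsg.Agent.Lib.Helper9

open scoped commutatorElement

section Soft3

variable {G : Type*} [Group G] [Finite G] {p : ℕ} [hp : Fact p.Prime]

open Classical in
theorem soft_card_filter_mem [Fintype G] (H : Subgroup G) :
    (Finset.univ.filter (fun g : G => g ∈ H)).card = Nat.card ↥H := by
  rw [Nat.card_eq_fintype_card, Fintype.card_subtype]

open Classical in
theorem soft_card_filter_diff [Fintype G] {H K : Subgroup G} (hKH : K ≤ H) :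
    (Finset.univ.filter (fun g : G => g ∈ H ∧ g ∉ K)).card = Nat.card ↥H - Nat.card ↥K := by
  have h1 : Finset.univ.filter (fun g : G => g ∈ H ∧ g ∉ K) =
      Finset.univ.filter (fun g : G => g ∈ H) \ Finset.univ.filter (fun g : G => g ∈ K) := by
    ext g; simp
  rw [h1, Finset.card_sdiff_of_subset, soft_card_filter_mem, soft_card_filter_mem]
  intro g hg
  simp only [Finset.mem_filter, Finset.mem_univ, true_and] at hg ⊢
  exact hKH hg

/-- the center of `N₁` as a subgroup of `G` -/
def softZ (E : Subgroup G) : Subgroup G :=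
  Subgroup.normalizer (E : Set G) ⊓
    Subgroup.centralizer ((Subgroup.normalizer (E : Set G) : Subgroup G) : Set G)

theorem softZ_le {E : Subgroup G} (hE : SoftSub p E) : softZ E ≤ E := by
  intro z hz
  apply hE.2.1
  exact Subgroup.centralizer_le (Subgroup.le_normalizer) hz.2

theorem softZ_conj_mem {E : Subgroup G} {k : G}
    (hk : k ∈ Subgroup.normalizer ((Subgroup.normalizer (E : Set G) : Subgroup G) : Set G))
    {z : G} (hz : z ∈ softZ E) : k * z * k⁻¹ ∈ softZ E := by
  refine ⟨soft_conj_mem hk hz.1, ?_⟩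
  show k * z * k⁻¹ ∈ Subgroup.centralizer _
  rw [Subgroup.mem_centralizer_iff]
  intro h hh
  have h1 : k⁻¹ * h * k ∈ Subgroup.normalizer (E : Set G) := soft_conj_inv_mem hk hh
  have h2 := Subgroup.mem_centralizer_iff.1 hz.2 _ h1
  calc h * (k * z * k⁻¹) = k * ((k⁻¹ * h * k) * z) * k⁻¹ := by group
    _ = k * (z * (k⁻¹ * h * k)) * k⁻¹ := by rw [h2]
    _ = k * z * k⁻¹ * h := by group

theorem soft_double_count (hG : IsPGroup p G) {E : Subgroup G} (hE : SoftSub p E) :
    Nat.card ↥(Subgroup.normalizer ((Subgroup.normalizer (E : Set G) : Subgroup G) : Set G)) *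
        (Nat.card ↥E - Nat.card ↥(softZ E)) ≤
      Nat.card ↥(Subgroup.normalizer (E : Set G)) *
        (Nat.card ↥(Subgroup.normalizer (E : Set G)) - Nat.card ↥(softZ E)) := by
  classical
  haveI : Fintype G := Fintype.ofFinite G
  set N₁ : Subgroup G := Subgroup.normalizer (E : Set G) with hN₁
  set N₂ : Subgroup G := Subgroup.normalizer (N₁ : Set G) with hN₂
  set Z₁ : Subgroup G := softZ E with hZ₁
  have hZE : Z₁ ≤ E := softZ_le hE
  have hEN : E ≤ N₁ := Subgroup.le_normalizer
  set s : Finset (G × G) := (Finset.univ.filter (fun g : G => g ∈ N₂)) ×ˢ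
    (Finset.univ.filter (fun g : G => g ∈ E ∧ g ∉ Z₁)) with hs
  set t : Finset G := Finset.univ.filter (fun g : G => g ∈ N₁ ∧ g ∉ Z₁) with ht
  set f : G × G → G := fun q => q.1 * q.2 * q.1⁻¹ with hf
  have hmaps : ∀ a ∈ s, f a ∈ t := by
    rintro ⟨k, y⟩ ha
    simp only [hs, Finset.mem_product, Finset.mem_filter, Finset.mem_univ, true_and] at ha
    simp only [ht, hf, Finset.mem_filter, Finset.mem_univ, true_and]
    refine ⟨soft_conj_mem ha.1 (hEN ha.2.1), fun hcon => ha.2.2 ?_⟩
    have := softZ_conj_mem (N₂.inv_mem ha.1) hcon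
    have e : k⁻¹ * (k * y * k⁻¹) * k⁻¹⁻¹ = y := by group
    rwa [e] at this
  have hfib : ∀ b ∈ t, (s.filter (fun a => f a = b)).card ≤ Nat.card ↥N₁ := by
    intro w _
    by_cases hne : (s.filter (fun a => f a = w)).Nonempty
    · obtain ⟨⟨k₀, y₀⟩, h0⟩ := hne
      simp only [hs, hf, Finset.mem_filter, Finset.mem_product, Finset.mem_univ, true_and] at h0
      rw [← soft_card_filter_mem N₁]
      apply Finset.card_le_card_of_injOn (fun q => k₀⁻¹ * q.1)
      · rintro ⟨k, y⟩ hq
        simp only [hs, hf, Finset.coe_filter, Finset.mem_product, Finset.mem_filter,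
          Finset.mem_univ, true_and, Set.mem_ofPred_eq] at hq
        simp only [Finset.coe_filter, Finset.mem_univ, true_and, Set.mem_ofPred_eq]
        by_contra hc
        have hcN₂ : k₀⁻¹ * k ∈ N₂ := N₂.mul_mem (N₂.inv_mem h0.1.1) hq.1.1
        -- y₀ = c y c⁻¹
        have hy₀ : (k₀⁻¹ * k)⁻¹ * y₀ * (k₀⁻¹ * k) = y := by
          have : y₀ = k₀⁻¹ * w * k₀ := by rw [← h0.2]; group
          rw [this, ← hq.2]; group
        have := soft_inf_conj_central hG hE hcN₂ hc h0.1.2.1 (by rw [hy₀]; exact hq.1.2.1)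
        exact h0.1.2.2 ⟨hEN h0.1.2.1, this⟩
      · rintro ⟨k, y⟩ hq ⟨k', y'⟩ hq' heq
        simp only [hs, hf, Finset.coe_filter, Finset.mem_product, Finset.mem_filter,
          Finset.mem_univ, true_and, Set.mem_ofPred_eq] at hq hq'
        have hk : k = k' := mul_left_cancel heq
        subst hk
        have : y = y' := by
          have h1 : k * y * k⁻¹ = k * y' * k⁻¹ := hq.2.trans hq'.2.symm
          exact mul_left_cancel (mul_right_cancel h1)
        rw [this]
    · rw [Finset.not_nonempty_iff_eq_empty] at hne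
      rw [hne, Finset.card_empty]; exact Nat.zero_le _
  have hmain := Finset.card_le_mul_card_image_of_maps_to hmaps (Nat.card ↥N₁) hfib
  rw [hs, Finset.card_product, soft_card_filter_mem, soft_card_filter_diff hZE, ht,
    soft_card_filter_diff (hZE.trans hEN)] at hmain
  exact hmain

end Soft3

section Soft3b

variable {G : Type*} [Group G] [Finite G] {p : ℕ} [hp : Fact p.Prime]

theorem soft_card_mul_relIndex {H K : Subgroup G} (h : H ≤ K) :
    Nat.card ↥H * H.relIndex K = Nat.card ↥K := by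
  have := Subgroup.relIndex_mul_relIndex ⊥ H K bot_le h
  rwa [Subgroup.relIndex_bot_left, Subgroup.relIndex_bot_left] at this

theorem softZ_ne {E : Subgroup G} (hE : SoftSub p E) : softZ E ≠ E := by
  intro h
  have h1 : E ≤ Subgroup.centralizer ((Subgroup.normalizer (E : Set G) : Subgroup G) : Set G) := by
    intro e he
    have : e ∈ softZ E := by rw [h]; exact he
    exact this.2
  have h2 : Subgroup.normalizer (E : Set G) ≤ E := by
    rw [Subgroup.le_centralizer_iff] at h1
    exact h1.trans hE.2.1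
  have h3 := Subgroup.relIndex_eq_one.2 h2
  rw [hE.2.2] at h3
  exact hp.out.one_lt.ne' h3

/-- the second normalizer has index `p` over the first -/
theorem soft_relIndex_normalizer_normalizer (hG : IsPGroup p G) {E : Subgroup G} (hE : SoftSub p E)
    (hN : Subgroup.normalizer (E : Set G) ≠ ⊤) :
    (Subgroup.normalizer (E : Set G)).relIndex
      (Subgroup.normalizer ((Subgroup.normalizer (E : Set G) : Subgroup G) : Set G)) = p := by
  set N₁ : Subgroup G := Subgroup.normalizer (E : Set G) with hN₁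
  set N₂ : Subgroup G := Subgroup.normalizer (N₁ : Set G) with hN₂
  set Z₁ : Subgroup G := softZ E with hZ₁
  have hp2 : 2 ≤ p := hp.out.two_le
  have hZE : Z₁ ≤ E := softZ_le hE
  have hEN : E ≤ N₁ := Subgroup.le_normalizer
  have hNN : N₁ ≤ N₂ := Subgroup.le_normalizer
  have hdc := soft_double_count hG hE
  rw [← hN₁, ← hN₂, ← hZ₁] at hdc
  have c1 := soft_card_mul_relIndex hEN
  rw [hE.2.2] at c1
  have c2 := soft_card_mul_relIndex hNN
  have c3 := soft_card_mul_relIndex hZE
  set m := N₁.relIndex N₂ with hm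
  set e := Nat.card ↥E with he
  set z := Nat.card ↥Z₁ with hz
  set n₁ := Nat.card ↥N₁ with hn₁
  set n₂ := Nat.card ↥N₂ with hn₂
  have hzpos : 0 < z := Nat.card_pos
  have hepos : 0 < e := Nat.card_pos
  -- r ≥ 2
  have hr2 : 2 ≤ Z₁.relIndex E := by
    have h0 : Z₁.relIndex E ≠ 0 := by
      intro h; rw [h, mul_zero] at c3; omega
    have h1 : Z₁.relIndex E ≠ 1 := by
      intro h
      rw [Subgroup.relIndex_eq_one] at h
      exact softZ_ne hE (le_antisymm hZE h)
    omega
  have hez : 2 * z ≤ e := by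
    rw [← c3]; nlinarith
  -- m is a power of p, not 1
  have hm1 : m ≠ 1 := by
    intro h
    rw [hm, Subgroup.relIndex_eq_one] at h
    haveI : Group.IsNilpotent G := hG.isNilpotent
    have := (Group.normalizerCondition_of_isNilpotent (G := G)) N₁ (lt_top_iff_ne_top.2 hN)
    exact absurd (le_antisymm h hNN) this.ne'
  obtain ⟨j, hj⟩ : ∃ j, m = p ^ j := by
    obtain ⟨a, ha⟩ := (hG.to_subgroup N₂).exists_card_eq
    have hdvd : m ∣ p ^ a := by
      rw [← ha, ← hn₂, ← c2]; exact Dvd.intro_left _ rfl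
    obtain ⟨j, -, hj⟩ := (Nat.dvd_prime_pow hp.out).1 hdvd
    exact ⟨j, hj⟩
  have hj1 : j = 1 := by
    have hj0 : j ≠ 0 := by
      rintro rfl; exact hm1 (by rw [hj, pow_zero])
    by_contra hcon
    have hj2 : 2 ≤ j := by omega
    have hmp : p * p ≤ m := by
      rw [hj, ← pow_two]; exact Nat.pow_le_pow_right hp.out.pos hj2
    -- n₂ (e - z) ≤ n₁ (n₁ - z)
    have h1 : n₁ * (p * p) * (e - z) ≤ n₁ * (n₁ - z) := by
      calc n₁ * (p * p) * (e - z) ≤ n₁ * m * (e - z) :=
            Nat.mul_le_mul_right _ (Nat.mul_le_mul_left _ hmp)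
        _ = n₂ * (e - z) := by rw [c2]
        _ ≤ n₁ * (n₁ - z) := hdc
    have hn₁pos : 0 < n₁ := Nat.card_pos
    have h2 : p * p * (e - z) ≤ n₁ - z := by
      rw [mul_assoc] at h1
      exact Nat.le_of_mul_le_mul_left h1 hn₁pos
    have h3 : p * p * (e - z) < e * p := by
      have : n₁ - z < n₁ := Nat.sub_lt hn₁pos hzpos
      rw [c1]
      exact lt_of_le_of_lt h2 this
    -- p (e - z) < e
    have h4 : p * (e - z) < e := by
      have : p * (p * (e - z)) < p * e := by rw [← mul_assoc, mul_comm p e]; exact h3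
      exact Nat.lt_of_mul_lt_mul_left this
    have h5 : 2 * (e - z) ≤ p * (e - z) := Nat.mul_le_mul_right _ hp2
    omega
  rw [hj, hj1, pow_one]

end Soft3b

end Cfsg.Agent.Lib.Helper9
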