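import Mathlib
import Cfsg.Agent.Lib.Helper9.Soft3

set_option autoImplicit false

namespace Cfsg.Agent.Lib.Helper9

open scoped commutatorElement

section Soft4

variable {G Q : Type*} [Group G] [Group Q] {π : G →* Q}

theorem soft_map_le_map_iff {K L : Subgroup G} (hL : π.ker ≤ L) :
    K.map π ≤ L.map π ↔ K ≤ L := by
  rw [Subgroup.map_le_map_iff, sup_eq_left.2 hL]

theorem soft_normalizer_map (hπ : Function.Surjective π) {K : Subgroup G} (hK : π.ker ≤ K) :
    Subgroup.normalizer ((K.map π : Subgroup Q) : Set Q) =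
      (Subgroup.normalizer (K : Set G)).map π := by
  have h := Subgroup.comap_normalizer_eq_of_surjective (K.map π) hπ
  rw [Subgroup.comap_map_eq_self hK] at h
  rw [← h, Subgroup.map_comap_eq_self_of_surjective hπ]

theorem soft_relIndex_normalizer_map (hπ : Function.Surjective π) {K : Subgroup G}
    (hK : π.ker ≤ K) :
    (K.map π).relIndex (Subgroup.normalizer ((K.map π : Subgroup Q) : Set Q)) =
      K.relIndex (Subgroup.normalizer (K : Set G)) := by
  rw [soft_normalizer_map hπ hK, Subgroup.relIndex_map_map, sup_eq_left.2 hK,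
    sup_eq_left.2 (hK.trans Subgroup.le_normalizer)]

theorem soft_map_ne_top {K : Subgroup G} (hK : π.ker ≤ K) (hne : K ≠ ⊤) : K.map π ≠ ⊤ := by
  intro h
  apply hne
  have := congrArg (Subgroup.comap π) h
  rwa [Subgroup.comap_map_eq_self hK, Subgroup.comap_top] at this

/-- an element centralizing `E` modulo `ker π ≤ E` normalizes `E` -/
theorem soft_mem_normalizer_of_map_centralizer [Finite G] {E : Subgroup G} (hker : π.ker ≤ E)
    {g : G} (hg : π g ∈ Subgroup.centralizer ((E.map π : Subgroup Q) : Set Q)) :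
    g ∈ Subgroup.normalizer (E : Set G) := by
  apply soft_mem_normalizer_of_conj_le
  intro e he
  have h1 := Subgroup.mem_centralizer_iff.1 hg (π e) ⟨e, he, rfl⟩
  have h2 : g * e * g⁻¹ * e⁻¹ ∈ π.ker := by
    rw [MonoidHom.mem_ker, map_mul, map_mul, map_mul, map_inv, map_inv, ← h1]
    group
  have h3 : g * e * g⁻¹ = (g * e * g⁻¹ * e⁻¹) * e := by group
  rw [h3]
  exact E.mul_mem (hker h2) he

theorem soft_map_softSub {p : ℕ} (hπ : Function.Surjective π) {E : Subgroup G}
    (hE : SoftSub p E) (hker : π.ker ≤ E)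
    (hC : Subgroup.centralizer ((E.map π : Subgroup Q) : Set Q) ≤ E.map π) :
    SoftSub p (E.map π) := by
  refine ⟨?_, hC, ?_⟩
  · rintro _ ⟨x, hx, rfl⟩ _ ⟨y, hy, rfl⟩
    rw [← map_mul, ← map_mul, hE.1 x hx y hy]
  · rw [soft_relIndex_normalizer_map hπ hker, hE.2.2]

end Soft4

end Cfsg.Agent.Lib.Helper9
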