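import Mathlib
import Cfsg.Agent.Lib.Helper9.Soft4

set_option autoImplicit false

namespace Cfsg.Agent.Lib.Helper9

open scoped commutatorElement

section Soft5

variable {G Q : Type*} [Group G] [Group Q] {π : G →* Q} [Finite G] {p : ℕ} [hp : Fact p.Prime]

theorem soft_normalizer_eq_sup (hG : IsPGroup p G) {E : Subgroup G} (hE : SoftSub p E) {g : G}
    (hg : g ∈ Subgroup.normalizer (E : Set G)) (hgE : g ∉ E) :
    Subgroup.normalizer (E : Set G) = E ⊔ Subgroup.zpowers g := by
  apply le_antisymm
  · apply soft_normalizer_le hG hE le_sup_left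
    intro h
    apply hgE
    rw [← h]
    exact Subgroup.mem_sup_right (Subgroup.mem_zpowers g)
  · exact sup_le Subgroup.le_normalizer (by rw [Subgroup.zpowers_le]; exact hg)

theorem soft_map_normalizer_softSub (hG : IsPGroup p G) (hπ : Function.Surjective π)
    {E : Subgroup G} (hE : SoftSub p E) (hker : π.ker ≤ E)
    (hN : Subgroup.normalizer (E : Set G) ≠ ⊤) {g : G}
    (hg : π g ∈ Subgroup.centralizer ((E.map π : Subgroup Q) : Set Q)) (hgE : g ∉ E) :
    SoftSub p ((Subgroup.normalizer (E : Set G)).map π) := by
  set N₁ : Subgroup G := Subgroup.normalizer (E : Set G) with hN₁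
  have hgN : g ∈ N₁ := soft_mem_normalizer_of_map_centralizer hker hg
  have hsup : N₁ = E ⊔ Subgroup.zpowers g := soft_normalizer_eq_sup hG hE hgN hgE
  set A : Subgroup Q := E.map π with hA
  set q : Q := π g with hq
  have hmap : N₁.map π = A ⊔ Subgroup.zpowers q := by
    rw [hsup, Subgroup.map_sup, MonoidHom.map_zpowers]
  have hAA : A ≤ Subgroup.centralizer (A : Set Q) := by
    rintro _ ⟨x, hx, rfl⟩
    rw [Subgroup.mem_centralizer_iff]
    rintro _ ⟨y, hy, rfl⟩
    rw [← map_mul, ← map_mul, hE.1 y hy x hx]
  have hqA : Subgroup.zpowers q ≤ Subgroup.centralizer (A : Set Q) := by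
    rw [Subgroup.zpowers_le]; exact hg
  have hAq : A ≤ Subgroup.centralizer ((Subgroup.zpowers q : Subgroup Q) : Set Q) :=
    Subgroup.le_centralizer_iff.1 hqA
  have hqq : Subgroup.zpowers q ≤ Subgroup.centralizer ((Subgroup.zpowers q : Subgroup Q) : Set Q) :=
    Subgroup.le_centralizer_iff_isMulCommutative.2 inferInstance
  have hBB : A ⊔ Subgroup.zpowers q ≤
      Subgroup.centralizer ((A ⊔ Subgroup.zpowers q : Subgroup Q) : Set Q) := by
    apply sup_le
    · exact Subgroup.le_centralizer_iff.1 (sup_le hAA hqA)
    · exact Subgroup.le_centralizer_iff.1 (sup_le hAq hqq)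
  refine ⟨?_, ?_, ?_⟩
  · intro x hx y hy
    rw [hmap] at hx hy
    exact (Subgroup.mem_centralizer_iff.1 (hBB hy) x hx)
  · intro c hc
    have hcA : c ∈ Subgroup.centralizer (A : Set Q) :=
      Subgroup.centralizer_le (by rw [hmap]; exact (le_sup_left : A ≤ A ⊔ Subgroup.zpowers q)) hc
    obtain ⟨h, rfl⟩ := hπ c
    exact ⟨h, soft_mem_normalizer_of_map_centralizer hker hcA, rfl⟩
  · rw [soft_relIndex_normalizer_map hπ (hker.trans Subgroup.le_normalizer)]
    exact soft_relIndex_normalizer_normalizer hG hE hN

end Soft5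

section Soft5b

universe u

/-- Héthelyi: the overgroups of a soft subgroup form a chain with steps of index `p`. -/
theorem soft_chain_aux (p : ℕ) [hp : Fact p.Prime] : ∀ n : ℕ, ∀ (G : Type u) [Group G] [Finite G],
    Nat.card G = n → IsPGroup p G → ∀ E : Subgroup G, SoftSub p E →
      (∀ K L : Subgroup G, E ≤ K → E ≤ L → K ≤ L ∨ L ≤ K) ∧
      (∀ K : Subgroup G, E ≤ K → K ≠ ⊤ → K.relIndex (Subgroup.normalizer (K : Set G)) = p) := by
  intro n
  induction n using Nat.strong_induction_on with
  | _ n ih =>
  intro G _ _ hcard hG E hE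
  set N₁ : Subgroup G := Subgroup.normalizer (E : Set G) with hN₁
  have hover : ∀ K : Subgroup G, E ≤ K → K = E ∨ N₁ ≤ K := by
    intro K hK
    by_cases h : K = E
    · exact Or.inl h
    · exact Or.inr (soft_normalizer_le hG hE hK h)
  by_cases hN : N₁ = ⊤
  · constructor
    · intro K L hK hL
      rcases hover K hK with h | h
      · left; rw [h]; exact hL
      · right; rw [hN, top_le_iff] at h; rw [h]; exact le_top
    · intro K hK hKt
      rcases hover K hK with h | h
      · rw [h]; exact hE.2.2
      · rw [hN, top_le_iff] at h; exact (hKt h).elim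
  · -- pass to `G / Z(G)`
    haveI : Nontrivial G := by
      by_contra h
      rw [not_nontrivial_iff_subsingleton] at h
      exact hN (Subsingleton.elim _ _)
    set Z : Subgroup G := Subgroup.center G with hZ
    have hZE : Z ≤ E := by
      intro z hz
      apply hE.2.1
      rw [Subgroup.mem_centralizer_iff]
      intro h _
      exact (Subgroup.mem_center_iff.1 hz h)
    set π : G →* G ⧸ Z := QuotientGroup.mk' Z with hπdef
    have hπ : Function.Surjective π := QuotientGroup.mk'_surjective Z
    have hker : π.ker ≤ E := by rw [hπdef, QuotientGroup.ker_mk']; exact hZE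
    have hcardQ : Nat.card (G ⧸ Z) < n := by
      have h1 := Subgroup.card_eq_card_quotient_mul_card_subgroup Z
      have h2 : 1 < Nat.card ↥Z := by
        haveI := hG.center_nontrivial
        exact Finite.one_lt_card
      rw [hcard] at h1
      have h3 : 0 < Nat.card (G ⧸ Z) := Nat.card_pos
      nlinarith
    have hGQ : IsPGroup p (G ⧸ Z) := hG.to_quotient Z
    by_cases hC : Subgroup.centralizer ((E.map π : Subgroup (G ⧸ Z)) : Set (G ⧸ Z)) ≤ E.map π
    · -- `E / Z` is soft in `G / Z`
      obtain ⟨hch, hno⟩ := ih _ hcardQ (G ⧸ Z) rfl hGQ (E.map π) (soft_map_softSub hπ hE hker hC)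
      constructor
      · intro K L hK hL
        rcases hch (K.map π) (L.map π) (Subgroup.map_mono hK) (Subgroup.map_mono hL) with h | h
        · left; exact (soft_map_le_map_iff (hker.trans hL)).1 h
        · right; exact (soft_map_le_map_iff (hker.trans hK)).1 h
      · intro K hK hKt
        rw [← soft_relIndex_normalizer_map hπ (hker.trans hK)]
        exact hno (K.map π) (Subgroup.map_mono hK) (soft_map_ne_top (hker.trans hK) hKt)
    · -- `N₁ / Z` is soft in `G / Z`
      obtain ⟨c, hc, hcE⟩ := Set.not_subset.1 hC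
      obtain ⟨g, rfl⟩ := hπ c
      have hgE : g ∉ E := fun h => hcE ⟨g, h, rfl⟩
      have hsoft := soft_map_normalizer_softSub hG hπ hE hker hN hc hgE
      obtain ⟨hch, hno⟩ := ih _ hcardQ (G ⧸ Z) rfl hGQ _ hsoft
      have hkerN : π.ker ≤ N₁ := hker.trans Subgroup.le_normalizer
      constructor
      · intro K L hK hL
        rcases hover K hK with h | h
        · left; rw [h]; exact hL
        · rcases hover L hL with h' | h'
          · right; rw [h']; exact hK
          · rcases hch (K.map π) (L.map π) (Subgroup.map_mono h) (Subgroup.map_mono h') with h'' | h''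
            · left; exact (soft_map_le_map_iff (hker.trans hL)).1 h''
            · right; exact (soft_map_le_map_iff (hker.trans hK)).1 h''
      · intro K hK hKt
        rcases hover K hK with h | h
        · rw [h]; exact hE.2.2
        · rw [← soft_relIndex_normalizer_map hπ (hker.trans hK)]
          exact hno (K.map π) (Subgroup.map_mono h) (soft_map_ne_top (hker.trans hK) hKt)

end Soft5b

end Cfsg.Agent.Lib.Helper9
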