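import Mathlib
import Cfsg.Agent.Lib.Helper9.Soft5

set_option autoImplicit false

namespace Cfsg.Agent.Lib.Helper9

open scoped commutatorElement

section Soft6

theorem soft_nilpotencyClass_congr {A B : Type*} [Group A] [Group B] (e : A ≃* B)
    [hA : Group.IsNilpotent A] [hB : Group.IsNilpotent B] :
    Group.nilpotencyClass A = Group.nilpotencyClass B := by
  apply le_antisymm
  · exact Group.nilpotencyClass_le_of_surjective e.symm.toMonoidHom e.symm.surjective
  · exact Group.nilpotencyClass_le_of_surjective e.toMonoidHom e.surjective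

variable {G Q : Type*} [Group G] [Group Q]

theorem soft_class_of_map (π : G →* Q) (M : Subgroup G)
    (hker : ∀ x ∈ M, π x = 1 ↔ x ∈ Subgroup.centralizer (M : Set G))
    [hM : Group.IsNilpotent ↥M] [hM' : Group.IsNilpotent ↥(M.map π)] [Nontrivial ↥M] :
    Group.nilpotencyClass ↥M = Group.nilpotencyClass ↥(M.map π) + 1 := by
  set φ : ↥M →* ↥(M.map π) := π.subgroupMap M with hφ
  have hφs : Function.Surjective φ := π.subgroupMap_surjective M
  have hk : φ.ker = Subgroup.center ↥M := by
    ext x
    rw [MonoidHom.mem_ker, Subgroup.mem_center_iff]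
    have h1 : φ x = 1 ↔ π (x : G) = 1 := by
      rw [Subtype.ext_iff]; rfl
    rw [h1, hker (x : G) x.2, Subgroup.mem_centralizer_iff]
    constructor
    · intro h g
      exact Subtype.ext (h (g : G) g.2)
    · intro h g hg
      exact congrArg Subtype.val (h ⟨g, hg⟩)
  have e1 : ↥M ⧸ φ.ker ≃* ↥(M.map π) := QuotientGroup.quotientKerEquivOfSurjective φ hφs
  have e2 : ↥M ⧸ Subgroup.center ↥M ≃* ↥M ⧸ φ.ker := QuotientGroup.quotientMulEquivOfEq hk.symm
  rw [Group.nilpotencyClass_eq_quotient_center_plus_one (G := ↥M)]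
  haveI : Group.IsNilpotent (↥M ⧸ φ.ker) :=
    Group.nilpotent_of_surjective e2.toMonoidHom e2.surjective
  rw [soft_nilpotencyClass_congr (e2.trans e1)]

end Soft6

end Cfsg.Agent.Lib.Helper9
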