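import Mathlib
import Cfsg.Agent.Lib.Helper9.Soft6

set_option autoImplicit false

namespace Cfsg.Agent.Lib.Helper9

open scoped commutatorElement

section Soft7

universe u

variable {G : Type u} [Group G] [Finite G] {p : ℕ} [hp : Fact p.Prime]

/-- the normal closure of a soft subgroup contains every subgroup of index `p` over it -/
theorem soft_le_normalClosure (hG : IsPGroup p G) {E M : Subgroup G} (hE : SoftSub p E)
    (hEM : E ≤ M) (hMidx : M.index = p) : M ≤ Subgroup.normalClosure (E : Set G) := by
  obtain ⟨hch, hno⟩ := soft_chain_aux p _ G rfl hG E hE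
  set T : Subgroup G := Subgroup.normalClosure (E : Set G) with hT
  have hET : E ≤ T := Subgroup.le_normalClosure
  by_cases hTt : T = ⊤
  · rw [hTt]; exact le_top
  · have h1 := hno T hET hTt
    rw [Subgroup.normalizer_eq_top, Subgroup.relIndex_top_right] at h1
    rcases hch T M hET hEM with h | h
    · have h2 := Subgroup.relIndex_mul_index h
      rw [hMidx, h1] at h2
      have h3 : T.relIndex M = 1 := by
        have hp0 : 0 < p := hp.out.pos
        exact Nat.eq_of_mul_eq_mul_right hp0 (by rw [h2, one_mul])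
      exact Subgroup.relIndex_eq_one.1 h3
    · exact h

/-- in `G / Z(M)` the image of `E` is not self-centralizing (when `M ≠ E`) -/
theorem soft_not_self_centralizing (hG : IsPGroup p G) {E M : Subgroup G} (hE : SoftSub p E)
    (hEM : E ≤ M) (hMidx : M.index = p) (hME : M ≠ E) [hMn : M.Normal] {Q : Type u} [Group Q]
    (π : G →* Q) (hπ : Function.Surjective π)
    (hker : π.ker = M ⊓ Subgroup.centralizer (M : Set G)) :
    ¬ Subgroup.centralizer ((E.map π : Subgroup Q) : Set Q) ≤ E.map π := by
  intro hC
  have hZE : π.ker ≤ E := by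
    rw [hker]
    intro z hz
    exact hE.2.1 (Subgroup.centralizer_le hEM hz.2)
  set Mb : Subgroup Q := M.map π with hMb
  haveI : Finite Q := Finite.of_surjective π hπ
  haveI hMbn : Mb.Normal := hMn.map π hπ
  -- `Mb` is a nontrivial `p`-group
  obtain ⟨m, hmM, hmE⟩ : ∃ m ∈ M, m ∉ E := by
    by_contra h
    push Not at h
    exact hME (le_antisymm h hEM)
  haveI : Nontrivial ↥Mb := by
    refine ⟨⟨⟨π m, m, hmM, rfl⟩, 1, ?_⟩⟩
    intro h
    have h1 : π m = 1 := congrArg Subtype.val h
    exact hmE (hZE (MonoidHom.mem_ker.2 h1))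
  have hpMb : IsPGroup p ↥Mb := (hG.of_surjective π hπ).to_subgroup Mb
  haveI := hpMb.center_nontrivial
  obtain ⟨cb, hcb⟩ := exists_ne (1 : ↥(Subgroup.center ↥Mb))
  obtain ⟨c, hcM, hc⟩ := (cb : ↥Mb).2
  set W : Subgroup G := M ⊓ (Subgroup.centralizer (Mb : Set Q)).comap π with hW
  have hcW : c ∈ W := by
    refine ⟨hcM, ?_⟩
    show π c ∈ Subgroup.centralizer (Mb : Set Q)
    rw [Subgroup.mem_centralizer_iff]
    intro h hh
    have := Subgroup.mem_center_iff.1 cb.2 ⟨h, hh⟩
    have h2 := congrArg Subtype.val this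
    rw [hc]
    exact h2
  haveI hWn : W.Normal := by
    rw [hW]
    haveI : (Subgroup.centralizer (Mb : Set Q)).Normal := inferInstance
    haveI : ((Subgroup.centralizer (Mb : Set Q)).comap π).Normal := Subgroup.Normal.comap inferInstance π
    infer_instance
  have hWE : W ≤ E := by
    intro w hw
    have h1 : π w ∈ Subgroup.centralizer ((E.map π : Subgroup Q) : Set Q) :=
      Subgroup.centralizer_le (Subgroup.map_mono hEM) hw.2
    have h2 := hC h1
    rw [← Subgroup.mem_comap, Subgroup.comap_map_eq_self hZE] at h2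
    exact h2
  have hEcW : (E : Set G) ⊆ Subgroup.centralizer (W : Set G) := by
    intro e he
    rw [SetLike.mem_coe, Subgroup.mem_centralizer_iff]
    intro w hw
    exact hE.1 w (hWE hw) e he
  have hT : Subgroup.normalClosure (E : Set G) ≤ Subgroup.centralizer (W : Set G) :=
    Subgroup.normalClosure_le_normal hEcW
  have hMW : M ≤ Subgroup.centralizer (W : Set G) :=
    (soft_le_normalClosure hG hE hEM hMidx).trans hT
  have hWZ : W ≤ π.ker := by
    rw [hker]
    exact le_inf inf_le_left (Subgroup.le_centralizer_iff.1 hMW)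
  have : π c = 1 := MonoidHom.mem_ker.1 (hWZ hcW)
  apply hcb
  apply Subtype.ext
  apply Subtype.ext
  rw [← hc, this]
  rfl

end Soft7

end Cfsg.Agent.Lib.Helper9
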