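import Mathlib
import Cfsg.Agent.Lib.Helper9.Soft7

set_option autoImplicit false

namespace Cfsg.Agent.Lib.Helper9

open scoped commutatorElement

section Soft8

universe u

/-- the maximal subgroup over a soft subgroup of index `p ^ k` has class `k` -/
theorem soft_class_aux (p : ℕ) [hp : Fact p.Prime] : ∀ n : ℕ, ∀ (G : Type u) [Group G] [Finite G],
    Nat.card G = n → IsPGroup p G → ∀ E M : Subgroup G, SoftSub p E → E ≤ M → M.index = p →
      ∀ k : ℕ, E.index = p ^ k →
        Group.nilpotencyClass ↥M = k := by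
  intro n
  induction n using Nat.strong_induction_on with
  | _ n ih =>
  intro G _ _ hcard hG E M hE hEM hMidx k hk
  haveI hM : Group.IsNilpotent ↥M := (hG.to_subgroup M).isNilpotent
  have hp0 : 0 < p := hp.out.pos
  have hp1 : 1 < p := hp.out.one_lt
  have hrel : E.relIndex M * p = p ^ k := by
    rw [← hk, ← Subgroup.relIndex_mul_index hEM, hMidx]
  have hMtop : M ≠ ⊤ := by
    intro h
    rw [h, Subgroup.index_top] at hMidx
    omega
  by_cases hk1 : k = 1
  · subst hk1
    rw [pow_one] at hrel
    have h1 : E.relIndex M = 1 := Nat.eq_of_mul_eq_mul_right hp0 (by rw [hrel, one_mul])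
    have hME : M ≤ E := Subgroup.relIndex_eq_one.1 h1
    apply le_antisymm
    · rw [Group.IsNilpotent.nilpotencyClass_le_one_iff]
      exact ⟨⟨fun a b => Subtype.ext (hE.1 a (hME a.2) b (hME b.2))⟩⟩
    · rw [Nat.one_le_iff_ne_zero, Ne, Group.nilpotencyClass_zero_iff_subsingleton]
      intro hsub
      apply hMtop
      rw [eq_top_iff]
      intro g _
      apply hEM
      apply hE.2.1
      rw [Subgroup.mem_centralizer_iff]
      intro e he
      have : (⟨e, hEM he⟩ : ↥M) = 1 := Subsingleton.elim _ _
      have he1 : e = 1 := congrArg Subtype.val this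
      rw [he1, one_mul, mul_one]
  · have hk0 : k ≠ 0 := by
      rintro rfl
      rw [pow_zero] at hrel
      have : p ∣ 1 := Dvd.intro_left _ hrel
      have := Nat.le_of_dvd one_pos this
      omega
    have hk2 : 2 ≤ k := by omega
    have hMne : M ≠ E := by
      intro h
      rw [h] at hMidx
      rw [hMidx] at hk
      have : p ^ 1 = p ^ k := by rw [pow_one]; exact hk
      exact hk1 (Nat.pow_right_injective hp.out.two_le this).symm
    set N₁ : Subgroup G := Subgroup.normalizer (E : Set G) with hN₁
    have hN₁M : N₁ ≤ M := soft_normalizer_le hG hE hEM hMne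
    have hN₁top : N₁ ≠ ⊤ := fun h => hMtop (top_le_iff.1 (h ▸ hN₁M))
    haveI hMn : M.Normal := by
      apply Subgroup.normal_of_index_eq_minFac_card
      obtain ⟨a, ha⟩ := hG.exists_card_eq
      have ha0 : a ≠ 0 := by
        rintro rfl
        rw [pow_zero] at ha
        have := Subgroup.index_dvd_card M
        rw [ha, hMidx] at this
        have := Nat.le_of_dvd one_pos this
        omega
      rw [ha, hp.out.pow_minFac ha0, hMidx]
    set Z : Subgroup G := M ⊓ Subgroup.centralizer (M : Set G) with hZ
    haveI hZn : Z.Normal := by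
      rw [hZ]
      haveI : (Subgroup.centralizer (M : Set G)).Normal := inferInstance
      infer_instance
    have hZE : Z ≤ E := by
      intro z hz
      exact hE.2.1 (Subgroup.centralizer_le hEM hz.2)
    obtain ⟨m, hmM, hmE⟩ : ∃ m ∈ M, m ∉ E := by
      by_contra h
      push Not at h
      exact hMne (le_antisymm h hEM)
    haveI hMnt : Nontrivial ↥M := by
      refine ⟨⟨⟨m, hmM⟩, 1, ?_⟩⟩
      intro h
      have h1 : m = 1 := congrArg Subtype.val h
      exact hmE (h1 ▸ E.one_mem)
    have hZbot : 1 < Nat.card ↥Z := by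
      haveI := (hG.to_subgroup M).center_nontrivial
      obtain ⟨x, hx⟩ := exists_ne (1 : ↥(Subgroup.center ↥M))
      have hxZ : ((x : ↥M) : G) ∈ Z := by
        refine ⟨(x : ↥M).2, ?_⟩
        show ((x : ↥M) : G) ∈ Subgroup.centralizer (M : Set G)
        rw [Subgroup.mem_centralizer_iff]
        intro h hh
        exact congrArg Subtype.val (Subgroup.mem_center_iff.1 x.2 ⟨h, hh⟩)
      haveI : Nontrivial ↥Z := by
        refine ⟨⟨⟨_, hxZ⟩, 1, ?_⟩⟩
        intro h
        apply hx
        apply Subtype.ext
        apply Subtype.ext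
        show ((x : ↥M) : G) = 1
        exact congrArg Subtype.val h
      exact Finite.one_lt_card
    set π : G →* G ⧸ Z := QuotientGroup.mk' Z with hπdef
    have hπ : Function.Surjective π := QuotientGroup.mk'_surjective Z
    have hkerZ : π.ker = Z := by rw [hπdef, QuotientGroup.ker_mk']
    have hker : π.ker ≤ E := by rw [hkerZ]; exact hZE
    have hcardQ : Nat.card (G ⧸ Z) < n := by
      have h1 := Subgroup.card_eq_card_quotient_mul_card_subgroup Z
      rw [hcard] at h1
      have h3 : 0 < Nat.card (G ⧸ Z) := Nat.card_pos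
      nlinarith
    have hGQ : IsPGroup p (G ⧸ Z) := hG.to_quotient Z
    have hcase := soft_not_self_centralizing hG hE hEM hMidx hMne π hπ hkerZ
    obtain ⟨c, hc, hcE⟩ := Set.not_subset.1 hcase
    obtain ⟨g, rfl⟩ := hπ c
    have hgE : g ∉ E := fun h => hcE ⟨g, h, rfl⟩
    have hsoft := soft_map_normalizer_softSub hG hπ hE hker hN₁top hc hgE
    have hidxM : (M.map π).index = p := by
      rw [Subgroup.index_map_eq M hπ (hker.trans hEM), hMidx]
    have hidxN : (N₁.map π).index = p ^ (k - 1) := by
      rw [Subgroup.index_map_eq N₁ hπ (hker.trans Subgroup.le_normalizer)]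
      have h1 := Subgroup.relIndex_mul_index (Subgroup.le_normalizer : E ≤ N₁)
      rw [hE.2.2, hk] at h1
      have h2 : p ^ k = p * p ^ (k - 1) := by
        rw [← pow_succ', Nat.sub_add_cancel (by omega)]
      rw [h2] at h1
      exact Nat.eq_of_mul_eq_mul_left hp0 h1
    haveI hMb : Group.IsNilpotent ↥(M.map π) := (hGQ.to_subgroup _).isNilpotent
    have hcl := ih _ hcardQ (G ⧸ Z) rfl hGQ (N₁.map π) (M.map π) hsoft (Subgroup.map_mono hN₁M)
      hidxM (k - 1) hidxN
    have hkey := soft_class_of_map π M (fun x hx => by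
      rw [← MonoidHom.mem_ker, hkerZ, hZ, Subgroup.mem_inf]
      exact ⟨fun h => h.2, fun h => ⟨hx, h⟩⟩)
    rw [hkey, hcl]
    omega

end Soft8

end Cfsg.Agent.Lib.Helper9
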