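import Mathlib
import Cfsg.Agent.Lib.Helper9.Soft8

set_option autoImplicit false

namespace Cfsg.Agent.Lib.Helper9

open scoped commutatorElement

section Soft9

universe u

variable {P : Type u} [Group P] [Finite P]

theorem soft_main (p : ℕ) [hp : Fact p.Prime] (hP : IsPGroup p P)
    (E : Subgroup P) (hEab : IsMulCommutative ↥E) (hC : Subgroup.centralizer (E : Set P) ≤ E)
    (hN : (E.subgroupOf (Subgroup.normalizer (E : Set P))).index = p) :
    (∀ K L : Subgroup P, E ≤ K → E ≤ L → K ≤ L ∨ L ≤ K) ∧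
      (∀ K : Subgroup P, E ≤ K → K ≠ ⊤ →
        (K.subgroupOf (Subgroup.normalizer (K : Set P))).index = p) ∧
      ∀ (i : ℕ) (K : Subgroup P), E ≤ K → K ≠ ⊤ → K.index * p ^ i = E.index →
        Group.nilpotencyClass ↥K = i + 1 := by
  have hE : SoftSub p E :=
    ⟨fun x hx y hy => congrArg Subtype.val (mul_comm' (⟨x, hx⟩ : ↥E) ⟨y, hy⟩), hC, hN⟩
  obtain ⟨hch, hno⟩ := soft_chain_aux p _ P rfl hP E hE
  refine ⟨hch, fun K hK hKt => hno K hK hKt, ?_⟩
  intro i K hK hKt hidxK
  set H : Subgroup P := Subgroup.normalizer (K : Set P) with hH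
  have hKH : K ≤ H := Subgroup.le_normalizer
  have hEH : E ≤ H := hK.trans hKH
  set N₁ : Subgroup P := Subgroup.normalizer (E : Set P) with hN₁
  have hN₁H : N₁ ≤ H := by
    by_cases h : K = E
    · rw [hH, h]
    · exact (soft_normalizer_le hP hE hK h).trans hKH
  have hsoft : SoftSub p (E.subgroupOf H) := by
    refine ⟨?_, ?_, ?_⟩
    · intro x hx y hy
      apply Subtype.ext
      exact hE.1 x hx y hy
    · intro c hc
      rw [Subgroup.mem_subgroupOf]
      apply hC
      rw [Subgroup.mem_centralizer_iff]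
      intro e he
      have := Subgroup.mem_centralizer_iff.1 hc ⟨e, hEH he⟩ (by rw [SetLike.mem_coe, Subgroup.mem_subgroupOf]; exact he)
      exact congrArg Subtype.val this
    · rw [soft_normalizer_subgroupOf hEH, Subgroup.relIndex_subgroupOf hN₁H]
      exact hN
  have hidxK' : (K.subgroupOf H).index = p := hno K hK hKt
  have hle : E.subgroupOf H ≤ K.subgroupOf H := Subgroup.comap_mono hK
  have hEK : E.relIndex K = p ^ i := by
    have h1 := Subgroup.relIndex_mul_index hK
    rw [← hidxK, mul_comm] at h1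
    have hpos : 0 < K.index := Nat.pos_of_ne_zero Subgroup.index_ne_zero_of_finite
    exact Nat.eq_of_mul_eq_mul_left hpos h1
  have hidxE' : (E.subgroupOf H).index = p ^ (i + 1) := by
    have h1 := Subgroup.relIndex_mul_relIndex E K H hK hKH
    rw [hEK] at h1
    have h2 : K.relIndex H = p := hidxK'
    rw [h2] at h1
    rw [pow_succ, h1]
    rfl
  have hcl := soft_class_aux p _ ↥H rfl (hP.to_subgroup H) (E.subgroupOf H) (K.subgroupOf H)
    hsoft hle hidxK' (i + 1) hidxE'
  haveI : Group.IsNilpotent ↥K := (hP.to_subgroup K).isNilpotent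
  haveI : Group.IsNilpotent ↥(K.subgroupOf H) :=
    ((hP.to_subgroup H).to_subgroup (K.subgroupOf H)).isNilpotent
  rw [← hcl]
  exact (soft_nilpotencyClass_congr (Subgroup.subgroupOfEquivOfLe hKH)).symm

end Soft9

end Cfsg.Agent.Lib.Helper9
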