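import Mathlib
import Cfsg.Prelude.Def_Solvable
import Cfsg.Agent.S0035
import Cfsg.Agent.S0042
import Cfsg.Agent.Lib.Helper22.SolvRad

set_option autoImplicit false

namespace Cfsg.Agent.Lib.Helper9

open Cfsg.Agent.Lib.Helper22.SolvRad

universe u

/-- the hypothesis of the theorem, as a predicate -/
def SccHyp {G : Type*} [Group G] (A : Subgroup G) : Prop :=
  ∀ S : Subgroup G, A ≤ S → Group.IsSolvable S → ∀ a ∈ A, ∀ s ∈ S, a * s = s * a

/-- the hypothesis passes to subgroups containing `A` -/
theorem sccHyp_subgroupOf {G : Type*} [Group G] (A M : Subgroup G) (hAM : A ≤ M)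
    (hc : SccHyp A) : SccHyp (A.subgroupOf M) := by
  intro S' hAS hS a' ha' s' hs'
  have hsolv : Group.IsSolvable (S'.map M.subtype) := by
    have e := Subgroup.equivMapOfInjective S' M.subtype M.subtype_injective
    exact Group.isSolvable_of_isSolvable_injective (f := e.symm.toMonoidHom) e.symm.injective
  have hAle : A ≤ S'.map M.subtype := by
    intro a ha
    exact ⟨⟨a, hAM ha⟩, hAS (Subgroup.mem_subgroupOf.mpr ha), rfl⟩
  have := hc _ hAle hsolv (a' : G) (Subgroup.mem_subgroupOf.mp ha') (s' : G) ⟨s', hs', rfl⟩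
  exact Subtype.ext this

theorem scc_solvable_zpowers {G : Type*} [Group G] (g : G) :
    Group.IsSolvable (Subgroup.zpowers g) := by
  apply Group.isSolvable_of_comm
  rintro ⟨a, ha⟩ ⟨b, hb⟩
  obtain ⟨i, rfl⟩ := Subgroup.mem_zpowers_iff.mp ha
  obtain ⟨j, rfl⟩ := Subgroup.mem_zpowers_iff.mp hb
  apply Subtype.ext
  show g ^ i * g ^ j = g ^ j * g ^ i
  rw [← zpow_add, ← zpow_add, add_comm]

theorem scc_aux : ∀ (n : ℕ) (G : Type u) [Group G] [Finite G], Nat.card G = n →
    ∀ A : Subgroup G, Group.IsSolvable A → SccHyp A → A ≤ Subgroup.center G := by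
  intro n
  induction n using Nat.strong_induction_on with
  | _ n ih =>
  intro G _ _ hn A hA hc
  classical
  set C : Subgroup G := Subgroup.centralizer (A : Set G) with hC
  by_contra hcon
  have hCtop : C ≠ ⊤ := by
    intro h
    apply hcon
    intro a ha
    rw [Subgroup.mem_center_iff]
    intro g
    have hg : g ∈ C := h ▸ Subgroup.mem_top g
    exact (Subgroup.mem_centralizer_iff.mp hg a ha).symm
  -- `A` is abelian, so `A ≤ C`
  have hAC : A ≤ C := by
    intro a ha
    rw [hC, Subgroup.mem_centralizer_iff]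
    intro b hb
    exact hc A le_rfl hA b hb a ha
  -- every proper subgroup containing `A` lies in `C`
  have hmax : ∀ M : Subgroup G, M ≠ ⊤ → A ≤ M → M ≤ C := by
    intro M hM hAM m hm
    rw [hC, Subgroup.mem_centralizer_iff]
    intro a ha
    have hcard : Nat.card M < n := by
      rw [← hn]
      by_contra hlt
      exact hM (Subgroup.eq_top_of_le_card _ (not_lt.mp hlt))
    have hsolv : Group.IsSolvable (A.subgroupOf M) :=
      Group.isSolvable_of_isSolvable_injective
        (f := (Subgroup.subgroupOfEquivOfLe hAM).toMonoidHom)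
        (Subgroup.subgroupOfEquivOfLe hAM).injective
    have h1 := ih (Nat.card M) hcard M rfl (A.subgroupOf M) hsolv
      (sccHyp_subgroupOf A M hAM hc)
    have h2 : (⟨a, hAM ha⟩ : M) ∈ Subgroup.center M := h1 (Subgroup.mem_subgroupOf.mpr ha)
    rw [Subgroup.mem_center_iff] at h2
    have h3 := h2 ⟨m, hm⟩
    exact (congrArg Subtype.val h3).symm
  have hZC : Subgroup.center G ≤ C := by
    intro z hz
    rw [hC, Subgroup.mem_centralizer_iff]
    intro a _
    exact (Subgroup.mem_center_iff.mp hz a)
  obtain ⟨g₀, hg₀⟩ : ∃ g : G, g ∉ C := by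
    by_contra h
    push Not at h
    exact hCtop ((Subgroup.eq_top_iff' C).mpr h)
  -- `C` is not normal
  have hCnn : ¬ C.Normal := by
    intro hCn
    haveI := hCn
    set N : Subgroup G := (Subgroup.center C).map C.subtype with hN
    haveI hNn : N.Normal := by rw [hN]; infer_instance
    have hAN : A ≤ N := by
      intro a ha
      refine ⟨⟨a, hAC ha⟩, ?_, rfl⟩
      show (⟨a, hAC ha⟩ : C) ∈ Subgroup.center C
      rw [Subgroup.mem_center_iff]
      intro c
      apply Subtype.ext
      have := Subgroup.mem_centralizer_iff.mp c.2 a ha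
      exact this.symm
    have hNs : Group.IsSolvable N := by
      have e := Subgroup.equivMapOfInjective (Subgroup.center C) C.subtype C.subtype_injective
      haveI : Group.IsSolvable (Subgroup.center C) :=
        Group.isSolvable_of_comm (fun a b =>
          Subtype.ext ((Subgroup.mem_center_iff.mp a.2 (b : C)).symm))
      exact Group.isSolvable_of_isSolvable_injective (f := e.symm.toMonoidHom) e.symm.injective
    have hS := solvable_sup N (Subgroup.zpowers g₀) hNs (scc_solvable_zpowers g₀)
    apply hg₀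
    rw [hC, Subgroup.mem_centralizer_iff]
    intro a ha
    exact hc _ (hAN.trans le_sup_left) hS a ha g₀
      ((le_sup_right : Subgroup.zpowers g₀ ≤ _) (Subgroup.mem_zpowers g₀))
  -- `C` is self-normalizing
  have hNC : Subgroup.normalizer (C : Set G) ≤ C := by
    apply hmax
    · intro h
      exact hCnn (Subgroup.normalizer_eq_top_iff.mp h)
    · exact hAC.trans Subgroup.le_normalizer
  -- intersections of distinct conjugates are central
  have hTI : ∀ g : G, g ∉ C → ∀ x ∈ C, g⁻¹ * x * g ∈ C → x ∈ Subgroup.center G := by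
    intro g hg x hxC hxg
    by_contra hxZ
    set M : Subgroup G := Subgroup.centralizer ({x} : Set G) with hM
    have hMtop : M ≠ ⊤ := by
      intro h
      apply hxZ
      rw [Subgroup.mem_center_iff]
      intro y
      have hy : y ∈ M := h ▸ Subgroup.mem_top y
      exact (Subgroup.mem_centralizer_iff.mp hy x rfl).symm
    have hAM : A ≤ M := by
      intro a ha
      rw [hM, Subgroup.mem_centralizer_iff]
      intro y hy
      rw [Set.mem_singleton_iff] at hy
      rw [hy]
      exact (Subgroup.mem_centralizer_iff.mp hxC a ha).symm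
    have hMC := hmax M hMtop hAM
    -- `g A g⁻¹ ≤ M ≤ C`
    have hgA : ∀ a ∈ A, g * a * g⁻¹ ∈ C := by
      intro a ha
      apply hMC
      rw [hM, Subgroup.mem_centralizer_iff]
      intro y hy
      rw [Set.mem_singleton_iff] at hy
      rw [hy]
      have h1 := Subgroup.mem_centralizer_iff.mp hxg a ha
      -- a * (g⁻¹ x g) = (g⁻¹ x g) * a
      calc x * (g * a * g⁻¹) = g * ((g⁻¹ * x * g) * a) * g⁻¹ := by group
        _ = g * (a * (g⁻¹ * x * g)) * g⁻¹ := by rw [h1]
        _ = g * a * g⁻¹ * x := by group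
    -- `A ≤ g⁻¹ C g`
    set M' : Subgroup G := C.map (MulAut.conj g⁻¹).toMonoidHom with hM'
    have hAM' : A ≤ M' := by
      intro a ha
      refine ⟨g * a * g⁻¹, hgA a ha, ?_⟩
      simp only [MulEquiv.coe_toMonoidHom, MulAut.conj_apply, inv_inv]
      group
    have hcardM' : Nat.card M' = Nat.card C :=
      Subgroup.card_map_of_injective (MulAut.conj g⁻¹).injective
    have hM'top : M' ≠ ⊤ := by
      intro h
      apply hCtop
      apply Subgroup.eq_top_of_le_card
      rw [← hcardM', h, Subgroup.card_top]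
    have hM'C := hmax M' hM'top hAM'
    have hM'eq : M' = C := Subgroup.eq_of_le_of_card_ge hM'C hcardM'.ge
    apply hg
    apply hNC
    have : g⁻¹ ∈ Subgroup.normalizer (C : Set G) := by
      rw [Subgroup.mem_normalizer_iff_map_conj_eq]
      exact hM'eq
    simpa using Subgroup.inv_mem _ this
  -- pass to the quotient by the centre
  set Z : Subgroup G := Subgroup.center G with hZ
  set Cb : Subgroup (G ⧸ Z) := C.map (QuotientGroup.mk' Z) with hCb
  have hmemCb : ∀ g : G, (QuotientGroup.mk' Z g) ∈ Cb → g ∈ C := by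
    intro g hg
    obtain ⟨c, hc', hcg⟩ := hg
    have h1 : c⁻¹ * g ∈ Z := QuotientGroup.eq.mp hcg
    have h2 := C.mul_mem hc' (hZC h1)
    simpa using h2
  have hFrob : Cfsg.IsFrobeniusComplement Cb := by
    refine ⟨?_, ?_, ?_⟩
    · intro h
      apply hcon
      intro a ha
      have h1 : QuotientGroup.mk' Z a ∈ Cb := ⟨a, hAC ha, rfl⟩
      rw [h, Subgroup.mem_bot] at h1
      exact (QuotientGroup.eq_one_iff a).mp h1
    · intro h
      apply hg₀
      apply hmemCb
      rw [h]; exact Subgroup.mem_top _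
    · intro gb hgb
      obtain ⟨g, rfl⟩ := QuotientGroup.mk'_surjective Z gb
      have hg : g ∉ C := fun hg => hgb ⟨g, hg, rfl⟩
      rw [eq_bot_iff]
      rintro xb ⟨hx1, hx2⟩
      obtain ⟨x, hxC, rfl⟩ := hx1
      rw [Subgroup.mem_bot]
      have hx2' := Subgroup.mem_pointwise_smul_iff_inv_smul_mem.mp hx2
      have h3 : g⁻¹ * x * g ∈ C := by
        apply hmemCb
        simpa [MulAut.smul_def] using hx2'
      exact (QuotientGroup.eq_one_iff x).mpr (hTI g hg x hxC h3)
  obtain ⟨K1, hK1set, hK1n, hK1c⟩ := Cfsg.Agent.S0035.result Cb hFrob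
  obtain ⟨K2, hK2set, _, hK2nil⟩ := Cfsg.Agent.S0042.result Cb hFrob
  have hK12 : K2 = K1 := SetLike.coe_injective (hK2set.trans hK1set.symm)
  subst hK12
  haveI := hK1n
  set K : Subgroup G := K2.comap (QuotientGroup.mk' Z) with hK
  haveI hKn : K.Normal := by rw [hK]; infer_instance
  have hZK : Z ≤ K := by
    intro z hz
    rw [hK, Subgroup.mem_comap]
    have h1 : QuotientGroup.mk' Z z = 1 := (QuotientGroup.eq_one_iff z).mpr hz
    rw [h1]; exact K2.one_mem
  have hKs : Group.IsSolvable K := by
    haveI : Group.IsSolvable K2 := by haveI := hK2nil; infer_instance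
    haveI : Group.IsSolvable Z :=
      Group.isSolvable_of_comm (fun a b =>
        Subtype.ext ((Subgroup.mem_center_iff.mp a.2 (b : G)).symm))
    apply Group.isSolvable_of_ker_le_range (Subgroup.inclusion hZK)
      ((QuotientGroup.mk' Z).subgroupComap K2)
    intro k hk
    rw [MonoidHom.mem_ker] at hk
    have h1 : QuotientGroup.mk' Z (k : G) = 1 := congrArg Subtype.val hk
    have h2 : (k : G) ∈ Z := (QuotientGroup.eq_one_iff _).mp h1
    exact ⟨⟨k, h2⟩, Subtype.ext rfl⟩
  have hS := solvable_sup K A hKs hA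
  have hKC : K ≤ C := by
    intro k hk
    rw [hC, Subgroup.mem_centralizer_iff]
    intro a ha
    exact hc _ le_sup_right hS a ha k ((le_sup_left : K ≤ K ⊔ A) hk)
  apply hg₀
  obtain ⟨⟨kb, cb⟩, hkc, -⟩ := Subgroup.IsComplement.existsUnique hK1c (QuotientGroup.mk' Z g₀)
  obtain ⟨k, hk⟩ := QuotientGroup.mk'_surjective Z kb.1
  have hkK : k ∈ K := by rw [hK, Subgroup.mem_comap, hk]; exact kb.2
  obtain ⟨c, hcC, hc'⟩ := cb.2
  have h4 : QuotientGroup.mk' Z (k * c) = QuotientGroup.mk' Z g₀ := by
    rw [map_mul, hk, hc']; exact hkc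
  have h3 : (k * c)⁻¹ * g₀ ∈ Z := QuotientGroup.eq.mp h4
  have h5 := C.mul_mem (C.mul_mem (hKC hkK) hcC) (hZC h3)
  have e : k * c * ((k * c)⁻¹ * g₀) = g₀ := by group
  rw [e] at h5
  exact h5

/-- A solvable subgroup central in every solvable subgroup containing it is central. -/
theorem scc_main {G : Type u} [Group G] [Finite G] (A : Subgroup G) (hA : Group.IsSolvable A)
    (hc : ∀ S : Subgroup G, A ≤ S → Group.IsSolvable S → ∀ a ∈ A, ∀ s ∈ S, a * s = s * a) :
    A ≤ Subgroup.center G :=
  scc_aux _ G rfl A hA hc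

end Cfsg.Agent.Lib.Helper9
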