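import Mathlib
import Cfsg.Agent.Lib.Helper9.CycNorm1
import Cfsg.Agent.Lib.Helper12.Symplectic

set_option autoImplicit false

namespace Cfsg.Agent.Lib.Helper9

section SympA
variable {T : Type*} [Group T]

/-- the subgroup generated by the squares -/
def sympSq (T : Type*) [Group T] : Subgroup T :=
  Subgroup.closure {y : T | ∃ x : T, y = x * x}

theorem sympSq_sq_mem (x : T) : x * x ∈ sympSq T :=
  Subgroup.subset_closure ⟨x, rfl⟩

theorem sympSq_characteristic : (sympSq T).Characteristic := by
  rw [Subgroup.characteristic_iff_map_le]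
  intro φ
  rw [sympSq, MonoidHom.map_closure, Subgroup.closure_le]
  rintro _ ⟨y, ⟨x, rfl⟩, rfl⟩
  apply Subgroup.subset_closure
  exact ⟨φ x, by simp⟩

theorem sympSq_comm_mem (x y : T) : x * y * x⁻¹ * y⁻¹ ∈ sympSq T := by
  have h : x * y * x⁻¹ * y⁻¹ = (x * x) * ((x⁻¹ * y) * (x⁻¹ * y)) * (y⁻¹ * y⁻¹) := by group
  rw [h]
  exact (sympSq T).mul_mem ((sympSq T).mul_mem (sympSq_sq_mem x) (sympSq_sq_mem _))
    (sympSq_sq_mem _)

/-- if all squares commute with `w` then the whole square subgroup does -/
theorem sympSq_le_centralizer (w : T) (h : ∀ x : T, (x * x) * w = w * (x * x)) :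
    ∀ f ∈ sympSq T, f * w = w * f := by
  intro f hf
  have : sympSq T ≤ Subgroup.centralizer ({w} : Set T) := by
    rw [sympSq, Subgroup.closure_le]
    rintro _ ⟨x, rfl⟩
    rw [SetLike.mem_coe, Subgroup.mem_centralizer_singleton_iff]
    exact h x
  have h2 := this hf
  rw [Subgroup.mem_centralizer_singleton_iff] at h2
  exact h2

/-- the centre of the square subgroup, as a subgroup of `T` -/
def sympZF (T : Type*) [Group T] : Subgroup T :=
  sympSq T ⊓ Subgroup.centralizer (sympSq T : Set T)

theorem sympZF_characteristic : (sympZF T).Characteristic := by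
  haveI := sympSq_characteristic (T := T)
  unfold sympZF
  infer_instance

theorem sympZF_comm : IsMulCommutative ↥(sympZF T) := by
  refine ⟨⟨fun a b => ?_⟩⟩
  apply Subtype.ext
  have ha : (a : T) ∈ Subgroup.centralizer (sympSq T : Set T) := a.2.2
  rw [Subgroup.mem_centralizer_iff] at ha
  exact (ha b b.2.1).symm

theorem mem_sympZF {n : T} : n ∈ sympZF T ↔ n ∈ sympSq T ∧ ∀ f ∈ sympSq T, f * n = n * f := by
  unfold sympZF
  rw [Subgroup.mem_inf, Subgroup.mem_centralizer_iff]
  rfl

theorem symp_zpow_cases4 (c : T) (hc4 : c ^ 4 = 1) (k : ℤ) :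
    c ^ k = 1 ∨ c ^ k = c ∨ c ^ k = c * c ∨ c ^ k = c * c * c := by
  have h1 : c ^ k = c ^ (k % 4) := by
    conv_lhs => rw [← Int.mul_ediv_add_emod k 4]
    rw [zpow_add, zpow_mul]
    have : c ^ (4 : ℤ) = 1 := by
      rw [show (4 : ℤ) = ((4 : ℕ) : ℤ) from rfl, zpow_natCast, hc4]
    rw [this, one_zpow, one_mul]
  have h2 : 0 ≤ k % 4 := Int.emod_nonneg k (by norm_num)
  have h3 : k % 4 < 4 := Int.emod_lt_of_pos k (by norm_num)
  obtain ⟨m, hm⟩ := Int.eq_ofNat_of_zero_le h2
  rw [h1, hm, zpow_natCast]
  have hm4 : m < 4 := by omega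
  interval_cases m
  · left; simp
  · right; left; simp
  · right; right; left; rw [pow_two]
  · right; right; right; rw [pow_succ, pow_two]

section Main
variable [Finite T]

/-- elements of a cyclic subgroup generated (as a subgroup of itself) -/
theorem symp_cyclic_gen (A : Subgroup T) (hA : IsCyclic ↥A) :
    ∃ c ∈ A, ∀ n ∈ A, ∃ k : ℤ, c ^ k = n := by
  obtain ⟨c, hc⟩ := hA.exists_generator
  refine ⟨c, c.2, fun n hn => ?_⟩
  obtain ⟨k, hk⟩ := Subgroup.mem_zpowers_iff.mp (hc ⟨n, hn⟩)
  refine ⟨k, ?_⟩
  have := congrArg Subtype.val hk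
  simpa using this

/-- an element of `ZF` of square one is fixed by every conjugation -/
theorem symp_zf_invol_central
    (hchar : ∀ A : Subgroup T, A.Characteristic → IsMulCommutative A → IsCyclic A)
    (n : T) (hn : n ∈ sympZF T) (hn2 : n * n = 1) (x : T) : x * n * x⁻¹ = n := by
  by_cases hn1 : n = 1
  · rw [hn1]; group
  have hcyc : IsCyclic ↥(sympZF T) := hchar _ sympZF_characteristic sympZF_comm
  haveI := sympZF_characteristic (T := T)
  have hnorm : (sympZF T).Normal := inferInstance
  have hmem : x * n * x⁻¹ ∈ sympZF T := hnorm.conj_mem n hn x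
  have h2 : (x * n * x⁻¹) ^ 2 = 1 := by
    rw [conj_pow, pow_two, hn2, mul_one, mul_inv_cancel]
  have h1 : x * n * x⁻¹ ≠ 1 := by
    intro h
    apply hn1
    have : n = x⁻¹ * (x * n * x⁻¹) * x := by group
    rw [this, h]; group
  have h := @Cfsg.Agent.Lib.Helper12.eq_of_sq_eq_one_of_isCyclic ↥(sympZF T) _ _ hcyc
    ⟨x * n * x⁻¹, hmem⟩ ⟨n, hn⟩ (Subtype.ext h2) (Subtype.ext (by rw [pow_two]; exact hn2))
    (fun h => h1 (congrArg Subtype.val h)) (fun h => hn1 (congrArg Subtype.val h))
  exact congrArg Subtype.val h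

/-- squares commute with the involutions of `ZF ⟨w⟩` -/
theorem symp_sq_comm_invol
    (hchar : ∀ A : Subgroup T, A.Characteristic → IsMulCommutative A → IsCyclic A)
    (w : T) (hw : ∀ g : T, g * w * g⁻¹ * w⁻¹ ∈ sympZF T)
    (n : T) (hnF : n ∈ sympSq T) (hn2 : n * n = 1)
    (hcase : n ∈ sympZF T ∨ n * w⁻¹ ∈ sympZF T) (x : T) : (x * x) * n = n * (x * x) := by
  haveI := sympZF_characteristic (T := T)
  have hnorm : (sympZF T).Normal := inferInstance
  rcases hcase with h | h
  · have h1 := symp_zf_invol_central hchar n h hn2 x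
    have h2 : x * n = n * x := by
      calc x * n = x * n * x⁻¹ * x := by group
        _ = n * x := by rw [h1]
    calc x * x * n = x * (x * n) := by group
      _ = x * (n * x) := by rw [h2]
      _ = (x * n) * x := by group
      _ = n * x * x := by rw [h2]
      _ = n * (x * x) := by group
  · -- e := x n x⁻¹ n⁻¹ ∈ ZF
    set a := n * w⁻¹ with ha
    have hna : n = a * w := by rw [ha]; group
    have he : x * n * x⁻¹ * n⁻¹ ∈ sympZF T := by
      have : x * n * x⁻¹ * n⁻¹ = (x * a * x⁻¹) * (x * w * x⁻¹ * w⁻¹) * a⁻¹ := by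
        rw [hna]; group
      rw [this]
      exact (sympZF T).mul_mem ((sympZF T).mul_mem (hnorm.conj_mem a h x) (hw x))
        ((sympZF T).inv_mem h)
    set e := x * n * x⁻¹ * n⁻¹ with hedef
    have hen : e * n = n * e := ((mem_sympZF.mp he).2 n hnF).symm
    have hxn : x * n * x⁻¹ = e * n := by rw [hedef]; group
    have hninv : n⁻¹ = n := inv_eq_of_mul_eq_one_left hn2
    have he2 : e * e = 1 := by
      have h1 : (x * n * x⁻¹) * (x * n * x⁻¹) = 1 := by
        calc (x * n * x⁻¹) * (x * n * x⁻¹) = x * (n * n) * x⁻¹ := by group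
          _ = 1 := by rw [hn2]; group
      rw [hxn] at h1
      calc e * e = e * e * (n * n) := by rw [hn2, mul_one]
        _ = e * (e * n) * n := by group
        _ = e * (n * e) * n := by rw [hen]
        _ = (e * n) * (e * n) := by group
        _ = 1 := h1
    have hxe := symp_zf_invol_central hchar e he he2 x
    have key : (x * x) * n * (x * x)⁻¹ = n := by
      calc (x * x) * n * (x * x)⁻¹ = x * (x * n * x⁻¹) * x⁻¹ := by group
        _ = x * (e * n) * x⁻¹ := by rw [hxn]
        _ = (x * e * x⁻¹) * (x * n * x⁻¹) := by group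
        _ = e * (e * n) := by rw [hxe, hxn]
        _ = (e * e) * n := by group
        _ = n := by rw [he2, one_mul]
    calc x * x * n = (x * x) * n * (x * x)⁻¹ * (x * x) := by group
      _ = n * (x * x) := by rw [key]

/-- the square subgroup is abelian -/
theorem symp_sq_le_zf (hP : IsPGroup 2 T)
    (hchar : ∀ A : Subgroup T, A.Characteristic → IsMulCommutative A → IsCyclic A)
    (h4 : ∀ t : T, t ^ 4 = 1) : sympSq T ≤ sympZF T := by
  by_contra hne
  haveI : Fact (Nat.Prime 2) := ⟨Nat.prime_two⟩
  haveI := sympZF_characteristic (T := T)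
  haveI := sympSq_characteristic (T := T)
  have hle : sympZF T ≤ sympSq T := inf_le_left
  have hne' : sympZF T ≠ sympSq T := fun h => hne (h ▸ le_refl _)
  obtain ⟨w, hwF, hwZ, hw2, hwc⟩ := cn_exists_central_mod hP (sympSq T) (sympZF T) hle hne'
  rw [pow_two] at hw2
  -- key consequence
  have hB2 : ∀ n ∈ sympSq T, n * n = 1 → (n ∈ sympZF T ∨ n * w⁻¹ ∈ sympZF T) → n ∈ sympZF T := by
    intro n hnF hn2 hcase
    rw [mem_sympZF]
    refine ⟨hnF, ?_⟩
    exact sympSq_le_centralizer n (fun x => symp_sq_comm_invol hchar w hwc n hnF hn2 hcase x)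
  have hcyc : IsCyclic ↥(sympZF T) := hchar _ sympZF_characteristic sympZF_comm
  obtain ⟨c, hcZ, hcgen⟩ := symp_cyclic_gen (sympZF T) hcyc
  have hc4 : c ^ 4 = 1 := h4 c
  have hcw : c * w = w * c := ((mem_sympZF.mp hcZ).2 w hwF).symm
  have hw4 : w * w * (w * w) = 1 := by
    have := h4 w
    rw [show (4 : ℕ) = 2 + 2 from rfl, pow_add, pow_two] at this
    exact this
  obtain ⟨k, hk⟩ := hcgen (w * w) hw2
  have hcases := symp_zpow_cases4 c hc4 k
  rw [hk] at hcases
  -- the final case: c * c = 1 and w * w = c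
  have hfinal : c * c = 1 → w * w = c → False := by
    intro hc2 hwc2
    apply hwZ
    rw [mem_sympZF]
    refine ⟨hwF, ?_⟩
    apply sympSq_le_centralizer
    intro x
    obtain ⟨j, hj⟩ := hcgen _ (hwc x)
    have hd := symp_zpow_cases4 c hc4 j
    rw [hj] at hd
    have hd' : x * w * x⁻¹ * w⁻¹ = 1 ∨ x * w * x⁻¹ * w⁻¹ = c := by
      rcases hd with h | h | h | h
      · left; exact h
      · right; exact h
      · left; rw [h, hc2]
      · right; rw [h, hc2, one_mul]
    rcases hd' with h | h
    · have h2 : x * w = w * x := by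
        calc x * w = (x * w * x⁻¹ * w⁻¹) * w * x := by group
          _ = w * x := by rw [h, one_mul]
      calc x * x * w = x * (x * w) := by group
        _ = x * (w * x) := by rw [h2]
        _ = (x * w) * x := by group
        _ = w * x * x := by rw [h2]
        _ = w * (x * x) := by group
    · have h2 : x * w * x⁻¹ = w * w * w := by
        calc x * w * x⁻¹ = (x * w * x⁻¹ * w⁻¹) * w := by group
          _ = w * w * w := by rw [h, ← hwc2]
      have key : (x * x) * w * (x * x)⁻¹ = w := by
        calc (x * x) * w * (x * x)⁻¹ = x * (x * w * x⁻¹) * x⁻¹ := by group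
          _ = x * (w * w * w) * x⁻¹ := by rw [h2]
          _ = (x * w * x⁻¹) * (x * w * x⁻¹) * (x * w * x⁻¹) := by group
          _ = (w * w * w) * (w * w * w) * (w * w * w) := by rw [h2]
          _ = (w * w * (w * w)) * (w * w * (w * w)) * w := by group
          _ = w := by rw [hw4]; group
      calc x * x * w = (x * x) * w * (x * x)⁻¹ * (x * x) := by group
        _ = w * (x * x) := by rw [key]
  rcases hcases with h | h | h | h
  · -- w * w = 1
    apply hwZ
    apply hB2 w hwF h
    right
    rw [mul_inv_cancel]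
    exact (sympZF T).one_mem
  · -- w * w = c
    have hc2 : c * c = 1 := by rw [← h]; exact hw4
    exact hfinal hc2 h
  · -- w * w = c * c
    apply hwZ
    have hn : c⁻¹ * w ∈ sympZF T := by
      apply hB2 (c⁻¹ * w) ((sympSq T).mul_mem ((sympSq T).inv_mem (hle hcZ)) hwF)
      · have hcw' : w * c⁻¹ = c⁻¹ * w := by
          calc w * c⁻¹ = c⁻¹ * (c * w) * c⁻¹ := by group
            _ = c⁻¹ * (w * c) * c⁻¹ := by rw [hcw]
            _ = c⁻¹ * w := by group
        calc c⁻¹ * w * (c⁻¹ * w) = c⁻¹ * (w * c⁻¹) * w := by group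
          _ = c⁻¹ * (c⁻¹ * w) * w := by rw [hcw']
          _ = c⁻¹ * c⁻¹ * (w * w) := by group
          _ = c⁻¹ * c⁻¹ * (c * c) := by rw [h]
          _ = 1 := by group
      · right
        have : c⁻¹ * w * w⁻¹ = c⁻¹ := by group
        rw [this]
        exact (sympZF T).inv_mem hcZ
    have : w = c * (c⁻¹ * w) := by group
    rw [this]
    exact (sympZF T).mul_mem hcZ hn
  · -- w * w = c * c * c
    have hc2 : c * c = 1 := by
      have h1 : (c * c * c) * (c * c * c) = 1 := by rw [← h]; exact hw4
      have h2 : c * c * c * c = 1 := by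
        have := hc4
        rw [show (4 : ℕ) = 1 + 1 + 1 + 1 from rfl, pow_add, pow_add, pow_add, pow_one] at this
        exact this
      calc c * c = (c * c * c * c) * (c * c) := by rw [h2, one_mul]
        _ = (c * c * c) * (c * c * c) := by group
        _ = 1 := h1
    have h' : w * w = c := by rw [h, hc2, one_mul]
    exact hfinal hc2 h'

/-- Frattini structure of a 2-group of symplectic type and exponent dividing 4: all squares and all
commutators lie in a central subgroup of order at most 2 -/
theorem symp_frattini (hP : IsPGroup 2 T)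
    (hchar : ∀ A : Subgroup T, A.Characteristic → IsMulCommutative A → IsCyclic A)
    (h4 : ∀ t : T, t ^ 4 = 1) :
    ∃ z0 : T, z0 * z0 = 1 ∧ (∀ t : T, t * z0 = z0 * t) ∧ (∀ x : T, x * x = 1 ∨ x * x = z0) ∧
      ∀ x y : T, x * y * x⁻¹ * y⁻¹ = 1 ∨ x * y * x⁻¹ * y⁻¹ = z0 := by
  haveI := sympSq_characteristic (T := T)
  have hnorm : (sympSq T).Normal := inferInstance
  have hab := symp_sq_le_zf hP hchar h4
  have hcomm : IsMulCommutative ↥(sympSq T) := by
    refine ⟨⟨fun a b => ?_⟩⟩
    apply Subtype.ext
    exact ((mem_sympZF.mp (hab a.2)).2 b b.2).symm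
  have hcyc : IsCyclic ↥(sympSq T) := hchar _ sympSq_characteristic hcomm
  obtain ⟨f, hfF, hfgen⟩ := symp_cyclic_gen (sympSq T) hcyc
  have hf4 : f ^ 4 = 1 := h4 f
  have hf4' : f * f * (f * f) = 1 := by
    have := hf4
    rw [show (4 : ℕ) = 2 + 2 from rfl, pow_add, pow_two] at this
    exact this
  have hmem : ∀ n ∈ sympSq T, n = 1 ∨ n = f ∨ n = f * f ∨ n = f * f * f := by
    intro n hn
    obtain ⟨k, hk⟩ := hfgen n hn
    have := symp_zpow_cases4 f hf4 k
    rw [hk] at this
    exact this
  -- f * f = 1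
  have hf2 : f * f = 1 := by
    by_contra hf2
    -- all squares lie in {1, f*f}
    have hsq : ∀ x : T, x * x = 1 ∨ x * x = f * f := by
      intro x
      have hx4 : x * x * (x * x) = 1 := by
        have := h4 x
        rw [show (4 : ℕ) = 2 + 2 from rfl, pow_add, pow_two] at this
        exact this
      rcases hmem _ (sympSq_sq_mem x) with h | h | h | h
      · left; exact h
      · exfalso; apply hf2; rw [← h]; exact hx4
      · right; exact h
      · exfalso; apply hf2
        have h1 : (f * f * f) * (f * f * f) = 1 := by rw [← h]; exact hx4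
        calc f * f = (f * f * (f * f)) * (f * f) := by rw [hf4', one_mul]
          _ = (f * f * f) * (f * f * f) := by group
          _ = 1 := h1
    have hle : sympSq T ≤ Subgroup.zpowers (f * f) := by
      rw [sympSq, Subgroup.closure_le]
      rintro _ ⟨x, rfl⟩
      rcases hsq x with h | h
      · rw [h]; exact Subgroup.one_mem _
      · rw [h]; exact Subgroup.mem_zpowers _
    obtain ⟨k, hk⟩ := Subgroup.mem_zpowers_iff.mp (hle hfF)
    have hff4 : (f * f) ^ 4 = 1 := h4 _
    have := symp_zpow_cases4 (f * f) hff4 k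
    rw [hk] at this
    rcases this with h | h | h | h
    · apply hf2; rw [h]; group
    · apply hf2
      have : f = 1 := by
        calc f = f⁻¹ * (f * f) := by group
          _ = f⁻¹ * f := by rw [← h]
          _ = 1 := by group
      rw [this]; group
    · apply hf2
      have h1 : f = 1 := by rw [h, hf4']
      rw [h1]; group
    · apply hf2
      have h1 : f = f * f := by
        calc f = f * f * (f * f) * (f * f) := h
          _ = f * f := by rw [hf4', one_mul]
      have : f = 1 := by
        calc f = f⁻¹ * (f * f) := by group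
          _ = f⁻¹ * f := by rw [← h1]
          _ = 1 := by group
      rw [this]; group
  have hmem2 : ∀ n ∈ sympSq T, n = 1 ∨ n = f := by
    intro n hn
    rcases hmem n hn with h | h | h | h
    · left; exact h
    · right; exact h
    · left; rw [h, hf2]
    · right; rw [h, hf2, one_mul]
  refine ⟨f, hf2, ?_, fun x => hmem2 _ (sympSq_sq_mem x), fun x y => hmem2 _ (sympSq_comm_mem x y)⟩
  intro t
  have h1 : t * f * t⁻¹ ∈ sympSq T := hnorm.conj_mem f hfF t
  rcases hmem2 _ h1 with h | h
  · have : f = 1 := by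
      calc f = t⁻¹ * (t * f * t⁻¹) * t := by group
        _ = 1 := by rw [h]; group
    rw [this]; group
  · calc t * f = (t * f * t⁻¹) * t := by group
      _ = f * t := by rw [h]

end Main

end SympA

end Cfsg.Agent.Lib.Helper9
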