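import Mathlib
import Cfsg.Agent.Lib.Helper9.SympA
import Cfsg.Agent.S1265

set_option autoImplicit false

namespace Cfsg.Agent.Lib.Helper9

open Cfsg.Agent.Lib.Helper12

section SympB
variable {G : Type*} [Group G]

/-- `F*(C_G(a))` as a subgroup of `G` -/
def sgQ (a : G) : Subgroup G :=
  (Cfsg.generalizedFittingSubgroup ↥(Subgroup.centralizer ({a} : Set G))).map
    (Subgroup.centralizer ({a} : Set G)).subtype

theorem mem_sgQ {a x : G} : x ∈ sgQ a ↔
    ∃ t : ↥(Cfsg.generalizedFittingSubgroup ↥(Subgroup.centralizer ({a} : Set G))),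
      ((t : ↥(Subgroup.centralizer ({a} : Set G))) : G) = x := by
  constructor
  · rintro ⟨c, hc, rfl⟩
    exact ⟨⟨c, hc⟩, rfl⟩
  · rintro ⟨t, rfl⟩
    exact ⟨t.1, t.2, rfl⟩

/-- the package of properties of `Q = F*(C_G(z))` used in the analysis -/
structure SgPair (z : G) (Q : Subgroup G) : Prop where
  z2 : z * z = 1
  z1 : z ≠ 1
  zmem : z ∈ Q
  le : ∀ q ∈ Q, q * z = z * q
  normal : ∀ c : G, c * z = z * c → ∀ q ∈ Q, c * q * c⁻¹ ∈ Q
  selfc : ∀ c : G, c * z = z * c → (∀ q ∈ Q, c * q = q * c) → c ∈ Q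
  comm : ∀ x ∈ Q, ∀ y ∈ Q, x * y * x⁻¹ * y⁻¹ = 1 ∨ x * y * x⁻¹ * y⁻¹ = z
  sq : ∀ x ∈ Q, x * x = 1 ∨ x * x = z
  cinv : ∀ u ∈ Q, (∀ q ∈ Q, u * q = q * u) → u * u = 1 → u = 1 ∨ u = z

/-- conjugation isomorphism between centralizers -/
def sgCentConj (g a : G) :
    ↥(Subgroup.centralizer ({a} : Set G)) ≃* ↥(Subgroup.centralizer ({g * a * g⁻¹} : Set G)) where
  toFun c := ⟨g * c * g⁻¹, by
    have hc := Subgroup.mem_centralizer_singleton_iff.mp c.2
    rw [Subgroup.mem_centralizer_singleton_iff]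
    calc g * ↑c * g⁻¹ * (g * a * g⁻¹) = g * (↑c * a) * g⁻¹ := by group
      _ = g * (a * ↑c) * g⁻¹ := by rw [hc]
      _ = g * a * g⁻¹ * (g * ↑c * g⁻¹) := by group⟩
  invFun c := ⟨g⁻¹ * c * g, by
    have hc := Subgroup.mem_centralizer_singleton_iff.mp c.2
    rw [Subgroup.mem_centralizer_singleton_iff]
    have : g⁻¹ * ↑c * g * a = g⁻¹ * (↑c * (g * a * g⁻¹)) * g := by group
    rw [this, hc]
    group⟩
  left_inv c := by
    apply Subtype.ext
    show g⁻¹ * (g * ↑c * g⁻¹) * g = ↑c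
    group
  right_inv c := by
    apply Subtype.ext
    show g * (g⁻¹ * ↑c * g) * g⁻¹ = ↑c
    group
  map_mul' c d := by
    apply Subtype.ext
    show g * (↑c * ↑d) * g⁻¹ = (g * ↑c * g⁻¹) * (g * ↑d * g⁻¹)
    group

theorem sgQ_conj (g a : G) :
    sgQ (g * a * g⁻¹) = (sgQ a).map (MulAut.conj g).toMonoidHom := by
  unfold sgQ
  rw [← generalizedFittingSubgroup_map_mulEquiv (sgCentConj g a), Subgroup.map_map,
    Subgroup.map_map]
  congr 1

/-- the package is invariant under conjugation -/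
theorem SgPair.conj {z : G} {Q : Subgroup G} (h : SgPair z Q) (g : G) :
    SgPair (g * z * g⁻¹) (Q.map (MulAut.conj g).toMonoidHom) := by
  have key : ∀ c : G, c * (g * z * g⁻¹) = (g * z * g⁻¹) * c → (g⁻¹ * c * g) * z = z * (g⁻¹ * c * g) := by
    intro c hc
    calc g⁻¹ * c * g * z = g⁻¹ * (c * (g * z * g⁻¹)) * g := by group
      _ = g⁻¹ * ((g * z * g⁻¹) * c) * g := by rw [hc]
      _ = z * (g⁻¹ * c * g) := by group
  refine ⟨?_, ?_, ?_, ?_, ?_, ?_, ?_, ?_, ?_⟩
  · calc g * z * g⁻¹ * (g * z * g⁻¹) = g * (z * z) * g⁻¹ := by group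
      _ = 1 := by rw [h.z2]; group
  · intro h1
    apply h.z1
    calc z = g⁻¹ * (g * z * g⁻¹) * g := by group
      _ = 1 := by rw [h1]; group
  · rw [mem_map_conj_iff]
    have : g⁻¹ * (g * z * g⁻¹) * g = z := by group
    rw [this]; exact h.zmem
  · intro q hq
    rw [mem_map_conj_iff] at hq
    have := h.le _ hq
    calc q * (g * z * g⁻¹) = g * ((g⁻¹ * q * g) * z) * g⁻¹ := by group
      _ = g * (z * (g⁻¹ * q * g)) * g⁻¹ := by rw [this]
      _ = g * z * g⁻¹ * q := by group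
  · intro c hc q hq
    rw [mem_map_conj_iff] at hq ⊢
    have := h.normal _ (key c hc) _ hq
    have e : g⁻¹ * (c * q * c⁻¹) * g = (g⁻¹ * c * g) * (g⁻¹ * q * g) * (g⁻¹ * c * g)⁻¹ := by group
    rw [e]; exact this
  · intro c hc hcq
    rw [mem_map_conj_iff]
    apply h.selfc _ (key c hc)
    intro q hq
    have hq' : g * q * g⁻¹ ∈ Q.map (MulAut.conj g).toMonoidHom := by
      rw [mem_map_conj_iff]
      have : g⁻¹ * (g * q * g⁻¹) * g = q := by group
      rw [this]; exact hq
    have := hcq _ hq'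
    calc g⁻¹ * c * g * q = g⁻¹ * (c * (g * q * g⁻¹)) * g := by group
      _ = g⁻¹ * ((g * q * g⁻¹) * c) * g := by rw [this]
      _ = q * (g⁻¹ * c * g) := by group
  · intro x hx y hy
    rw [mem_map_conj_iff] at hx hy
    have e : x * y * x⁻¹ * y⁻¹ =
        g * ((g⁻¹ * x * g) * (g⁻¹ * y * g) * (g⁻¹ * x * g)⁻¹ * (g⁻¹ * y * g)⁻¹) * g⁻¹ := by group
    rcases h.comm _ hx _ hy with h1 | h1
    · left; rw [e, h1]; group
    · right; rw [e, h1]
  · intro x hx
    rw [mem_map_conj_iff] at hx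
    have e : x * x = g * ((g⁻¹ * x * g) * (g⁻¹ * x * g)) * g⁻¹ := by group
    rcases h.sq _ hx with h1 | h1
    · left; rw [e, h1]; group
    · right; rw [e, h1]
  · intro u hu hcen hu2
    rw [mem_map_conj_iff] at hu
    have h1 : ∀ q ∈ Q, (g⁻¹ * u * g) * q = q * (g⁻¹ * u * g) := by
      intro q hq
      have hq' : g * q * g⁻¹ ∈ Q.map (MulAut.conj g).toMonoidHom := by
        rw [mem_map_conj_iff]
        have : g⁻¹ * (g * q * g⁻¹) * g = q := by group
        rw [this]; exact hq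
      have := hcen _ hq'
      calc g⁻¹ * u * g * q = g⁻¹ * (u * (g * q * g⁻¹)) * g := by group
        _ = g⁻¹ * ((g * q * g⁻¹) * u) * g := by rw [this]
        _ = q * (g⁻¹ * u * g) := by group
    have h2 : (g⁻¹ * u * g) * (g⁻¹ * u * g) = 1 := by
      calc (g⁻¹ * u * g) * (g⁻¹ * u * g) = g⁻¹ * (u * u) * g := by group
        _ = 1 := by rw [hu2]; group
    rcases h.cinv _ hu h1 h2 with h3 | h3
    · left
      calc u = g * (g⁻¹ * u * g) * g⁻¹ := by group
        _ = 1 := by rw [h3]; group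
    · right
      calc u = g * (g⁻¹ * u * g) * g⁻¹ := by group
        _ = g * z * g⁻¹ := by rw [h3]

/-- the package holds for `F*(C_G(z))` of symplectic type and exponent dividing 4 -/
theorem sgPair_of_symp [Finite G] (z : G) (hz : orderOf z = 2)
    (hQ : Cfsg.IsOfSymplecticType
      ↥(Cfsg.generalizedFittingSubgroup ↥(Subgroup.centralizer ({z} : Set G))))
    (h4 : ∀ q ∈ sgQ z, q ^ 4 = 1) : SgPair z (sgQ z) := by
  set C := Subgroup.centralizer ({z} : Set G) with hC
  set T := Cfsg.generalizedFittingSubgroup ↥C with hT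
  have hz2 : z * z = 1 := by
    have := pow_orderOf_eq_one z
    rw [hz, pow_two] at this
    exact this
  have hz1 : z ≠ 1 := by
    intro h
    rw [h, orderOf_one] at hz
    omega
  have h4T : ∀ t : ↥T, t ^ 4 = 1 := by
    intro t
    apply Subtype.ext
    apply Subtype.ext
    have := h4 _ (mem_sgQ.mpr ⟨t, rfl⟩)
    simpa using this
  obtain ⟨z0, hz02, hz0c, hsq, hcomm⟩ := symp_frattini hQ.1 hQ.2 h4T
  have hz0 : z0 = 1 ∨ z0 = zQ z := by
    by_cases h1 : z0 = 1
    · left; exact h1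
    · right
      apply central_involution_unique hQ _ (by rw [pow_two]; exact hz02) h1 (zQ_mem_center z)
        (zQ_sq z hz) (zQ_ne_one z hz)
      rw [Subgroup.mem_center_iff]
      intro t
      exact hz0c t
  have coe_eq : ∀ a b : ↥T, a = b → ((a : ↥C) : G) = ((b : ↥C) : G) := by
    intro a b h; rw [h]
  have hTn : T.Normal := generalizedFittingSubgroup_normal ↥C
  refine ⟨hz2, hz1, mem_sgQ.mpr ⟨zQ z, zQ_coe z⟩, ?_, ?_, ?_, ?_, ?_, ?_⟩
  · intro q hq
    obtain ⟨t, rfl⟩ := mem_sgQ.mp hq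
    exact Subgroup.mem_centralizer_singleton_iff.mp (t : ↥C).2
  · intro c hc q hq
    obtain ⟨t, rfl⟩ := mem_sgQ.mp hq
    have hcC : c ∈ C := Subgroup.mem_centralizer_singleton_iff.mpr hc
    have := hTn.conj_mem (t : ↥C) t.2 ⟨c, hcC⟩
    exact mem_sgQ.mpr ⟨⟨_, this⟩, rfl⟩
  · intro c hc hcq
    have hcC : c ∈ C := Subgroup.mem_centralizer_singleton_iff.mpr hc
    have h1 : (⟨c, hcC⟩ : ↥C) ∈ Subgroup.centralizer (T : Set ↥C) := by
      rw [Subgroup.mem_centralizer_iff]
      intro t ht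
      apply Subtype.ext
      have := hcq _ (mem_sgQ.mpr ⟨⟨t, ht⟩, rfl⟩)
      exact this.symm
    have h2 := Cfsg.Agent.S1265.result (G := ↥C) h1
    exact mem_sgQ.mpr ⟨⟨_, h2⟩, rfl⟩
  · intro x hx y hy
    obtain ⟨tx, rfl⟩ := mem_sgQ.mp hx
    obtain ⟨ty, rfl⟩ := mem_sgQ.mp hy
    rcases hcomm tx ty with h | h
    · left
      have := coe_eq _ _ h
      simpa using this
    · rcases hz0 with h0 | h0
      · left
        have := coe_eq _ _ (h.trans h0)
        simpa using this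
      · right
        have := coe_eq _ _ (h.trans h0)
        simpa [zQ_coe] using this
  · intro x hx
    obtain ⟨tx, rfl⟩ := mem_sgQ.mp hx
    rcases hsq tx with h | h
    · left
      have := coe_eq _ _ h
      simpa using this
    · rcases hz0 with h0 | h0
      · left
        have := coe_eq _ _ (h.trans h0)
        simpa using this
      · right
        have := coe_eq _ _ (h.trans h0)
        simpa [zQ_coe] using this
  · intro u hu hcen hu2
    obtain ⟨tu, rfl⟩ := mem_sgQ.mp hu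
    by_cases h1 : tu = 1
    · left; rw [h1]; rfl
    · right
      have hc : tu ∈ Subgroup.center ↥T := by
        rw [Subgroup.mem_center_iff]
        intro t
        apply Subtype.ext
        apply Subtype.ext
        have := hcen _ (mem_sgQ.mpr ⟨t, rfl⟩)
        simpa using this.symm
      have h2 : tu ^ 2 = 1 := by
        apply Subtype.ext
        apply Subtype.ext
        rw [pow_two]
        simpa using hu2
      have := central_involution_unique hQ hc h2 h1 (zQ_mem_center z) (zQ_sq z hz) (zQ_ne_one z hz)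
      rw [this]
      exact zQ_coe z

end SympB

end Cfsg.Agent.Lib.Helper9
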