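import Mathlib
import Cfsg.Agent.Lib.Helper9.SympB

set_option autoImplicit false

namespace Cfsg.Agent.Lib.Helper9

section SympC
variable {G : Type*} [Group G] {z t : G} {Q R : Subgroup G}

theorem sg_zt (hQ : SgPair z Q) (htQ : t ∈ Q) : z * t = t * z := (hQ.le t htQ).symm

theorem sg_inv_self {a : G} (h : a * a = 1) : a⁻¹ = a := inv_eq_of_mul_eq_one_left h

theorem sg_exists_q0 (hQ : SgPair z Q) (hR : SgPair t R) (htQ : t ∈ Q) (hne : t ≠ z) :
    ∃ q0 ∈ Q, q0 * t * q0⁻¹ = z * t := by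
  by_contra hno
  push Not at hno
  have hcen : ∀ q ∈ Q, t * q = q * t := by
    intro q hq
    rcases hQ.comm q hq t htQ with h | h
    · calc t * q = (q * t * q⁻¹ * t⁻¹)⁻¹ * q * t := by group
        _ = q * t := by rw [h]; group
    · exfalso
      apply hno q hq
      calc q * t * q⁻¹ = (q * t * q⁻¹ * t⁻¹) * t := by group
        _ = z * t := by rw [h]
  rcases hQ.cinv t htQ hcen hR.z2 with h | h
  · exact hR.z1 h
  · exact hne h

/-- `q0⁻¹ t q0 = z t` -/
theorem sg_q0_inv (hQ : SgPair z Q) {q0 : G} (hq0 : q0 ∈ Q) (hq0t : q0 * t * q0⁻¹ = z * t) :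
    q0⁻¹ * t * q0 = z * t := by
  have hz := hQ.le q0 hq0
  have hzi := sg_inv_self hQ.z2
  have h1 : q0⁻¹ * z * q0 = z := by
    calc q0⁻¹ * z * q0 = q0⁻¹ * (z * q0) := by group
      _ = q0⁻¹ * (q0 * z) := by rw [hz]
      _ = z := by group
  have h2 : t = z * (q0⁻¹ * t * q0) := by
    calc t = q0⁻¹ * (q0 * t * q0⁻¹) * q0 := by group
      _ = q0⁻¹ * (z * t) * q0 := by rw [hq0t]
      _ = (q0⁻¹ * z * q0) * (q0⁻¹ * t * q0) := by group
      _ = z * (q0⁻¹ * t * q0) := by rw [h1]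
  calc q0⁻¹ * t * q0 = z⁻¹ * (z * (q0⁻¹ * t * q0)) := by group
    _ = z⁻¹ * t := by rw [← h2]
    _ = z * t := by rw [hzi]

/-- every element of `Q` centralizes `t` or is `q0` times such an element -/
theorem sg_decomp (hQ : SgPair z Q) (htQ : t ∈ Q) {q0 : G} (hq0 : q0 ∈ Q)
    (hq0t : q0 * t * q0⁻¹ = z * t) (q : G) (hq : q ∈ Q) :
    q * t = t * q ∨ (q0⁻¹ * q ∈ Q ∧ (q0⁻¹ * q) * t = t * (q0⁻¹ * q)) := by
  rcases hQ.comm q hq t htQ with h | h
  · left
    calc q * t = (q * t * q⁻¹ * t⁻¹) * t * q := by group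
      _ = t * q := by rw [h, one_mul]
  · right
    refine ⟨Q.mul_mem (Q.inv_mem hq0) hq, ?_⟩
    have h1 : q * t * q⁻¹ = z * t := by
      calc q * t * q⁻¹ = (q * t * q⁻¹ * t⁻¹) * t := by group
        _ = z * t := by rw [h]
    have h2 := sg_q0_inv hQ hq0 hq0t
    have hz := hQ.le q0 hq0
    have h3 : q0⁻¹ * z * q0 = z := by
      calc q0⁻¹ * z * q0 = q0⁻¹ * (z * q0) := by group
        _ = q0⁻¹ * (q0 * z) := by rw [hz]
        _ = z := by group
    have h4 : (q0⁻¹ * q) * t * (q0⁻¹ * q)⁻¹ = t := by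
      calc (q0⁻¹ * q) * t * (q0⁻¹ * q)⁻¹ = q0⁻¹ * (q * t * q⁻¹) * q0 := by group
        _ = q0⁻¹ * (z * t) * q0 := by rw [h1]
        _ = (q0⁻¹ * z * q0) * (q0⁻¹ * t * q0) := by group
        _ = z * (z * t) := by rw [h3, h2]
        _ = (z * z) * t := by group
        _ = t := by rw [hQ.z2, one_mul]
    calc (q0⁻¹ * q) * t = ((q0⁻¹ * q) * t * (q0⁻¹ * q)⁻¹) * (q0⁻¹ * q) := by group
      _ = t * (q0⁻¹ * q) := by rw [h4]

/-- an element commuting with `q0` and with `C_Q(t)` is central in `Q` -/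
theorem sg_central_of (hQ : SgPair z Q) (htQ : t ∈ Q) {q0 : G} (hq0 : q0 ∈ Q)
    (hq0t : q0 * t * q0⁻¹ = z * t) (u : G) (hu0 : u * q0 = q0 * u)
    (huX : ∀ x ∈ Q, x * t = t * x → u * x = x * u) : ∀ q ∈ Q, u * q = q * u := by
  intro q hq
  rcases sg_decomp hQ htQ hq0 hq0t q hq with h | ⟨hx, h⟩
  · exact huX q hq h
  · have h1 := huX _ hx h
    calc u * q = (u * q0) * (q0⁻¹ * q) := by group
      _ = (q0 * u) * (q0⁻¹ * q) := by rw [hu0]
      _ = q0 * (u * (q0⁻¹ * q)) := by group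
      _ = q0 * ((q0⁻¹ * q) * u) := by rw [h1]
      _ = q * u := by group

/-- a general lemma: if `u q0 u⁻¹ q0⁻¹ = z` then `q0 u q0⁻¹ = z u` -/
theorem sg_swap_comm (hQ : SgPair z Q) {u q0 : G} (h : u * q0 * u⁻¹ * q0⁻¹ = z) :
    q0 * u * q0⁻¹ = z * u := by
  have hzi := sg_inv_self hQ.z2
  calc q0 * u * q0⁻¹ = (u⁻¹ * (u * q0 * u⁻¹ * q0⁻¹))⁻¹ := by group
    _ = (u⁻¹ * z)⁻¹ := by rw [h]
    _ = z⁻¹ * u := by group
    _ = z * u := by rw [hzi]

/-- `Q ∩ R = {1, t}` when `z ∉ R` -/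
theorem sg_inter (hQ : SgPair z Q) (hR : SgPair t R) (htQ : t ∈ Q) (hzR : z ∉ R)
    {q0 : G} (hq0 : q0 ∈ Q) (hq0t : q0 * t * q0⁻¹ = z * t)
    (u : G) (huQ : u ∈ Q) (huR : u ∈ R) : u = 1 ∨ u = t := by
  have hzt := sg_zt hQ htQ
  have hut : u * t = t * u := hR.le u huR
  have huz : u * z = z * u := hQ.le u huQ
  have hX : ∀ x ∈ Q, x * t = t * x → u * x = x * u := by
    intro x hx hxt
    have hmem : u * x * u⁻¹ * x⁻¹ ∈ R := by
      have : u * x * u⁻¹ * x⁻¹ = u * (x * u⁻¹ * x⁻¹) := by group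
      rw [this]
      exact R.mul_mem huR (hR.normal x hxt u⁻¹ (R.inv_mem huR))
    rcases hQ.comm u huQ x hx with h | h
    · calc u * x = (u * x * u⁻¹ * x⁻¹) * x * u := by group
        _ = x * u := by rw [h, one_mul]
    · exfalso; rw [h] at hmem; exact hzR hmem
  have hu2 : u * u = 1 := by
    rcases hQ.sq u huQ with h | h
    · exact h
    · exfalso; apply hzR; rw [← h]; exact R.mul_mem huR huR
  by_cases hA : u * q0 = q0 * u
  · have hcen := sg_central_of hQ htQ hq0 hq0t u hA hX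
    rcases hQ.cinv u huQ hcen hu2 with h | h
    · left; exact h
    · exfalso; apply hzR; rw [← h]; exact huR
  · have hc : u * q0 * u⁻¹ * q0⁻¹ = z := by
      rcases hQ.comm u huQ q0 hq0 with h | h
      · exfalso; apply hA
        calc u * q0 = (u * q0 * u⁻¹ * q0⁻¹) * q0 * u := by group
          _ = q0 * u := by rw [h, one_mul]
      · exact h
    have hq0u := sg_swap_comm hQ hc
    have hvQ : u * t ∈ Q := Q.mul_mem huQ htQ
    have hv0 : (u * t) * q0 = q0 * (u * t) := by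
      have : q0 * (u * t) * q0⁻¹ = u * t := by
        calc q0 * (u * t) * q0⁻¹ = (q0 * u * q0⁻¹) * (q0 * t * q0⁻¹) := by group
          _ = (z * u) * (z * t) := by rw [hq0u, hq0t]
          _ = z * (u * z) * t := by group
          _ = z * (z * u) * t := by rw [huz]
          _ = (z * z) * (u * t) := by group
          _ = u * t := by rw [hQ.z2, one_mul]
      calc (u * t) * q0 = (q0 * (u * t) * q0⁻¹) * q0 := by rw [this]
        _ = q0 * (u * t) := by group
    have hvX : ∀ x ∈ Q, x * t = t * x → (u * t) * x = x * (u * t) := by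
      intro x hx hxt
      have h1 := hX x hx hxt
      calc (u * t) * x = u * (t * x) := by group
        _ = u * (x * t) := by rw [hxt]
        _ = (u * x) * t := by group
        _ = (x * u) * t := by rw [h1]
        _ = x * (u * t) := by group
    have hcen := sg_central_of hQ htQ hq0 hq0t (u * t) hv0 hvX
    have hv2 : (u * t) * (u * t) = 1 := by
      calc (u * t) * (u * t) = u * (t * u) * t := by group
        _ = u * (u * t) * t := by rw [hut]
        _ = (u * u) * (t * t) := by group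
        _ = 1 := by rw [hu2, hR.z2, one_mul]
    rcases hQ.cinv (u * t) hvQ hcen hv2 with h | h
    · right
      have hti := sg_inv_self hR.z2
      calc u = (u * t) * t⁻¹ := by group
        _ = t := by rw [h, one_mul, hti]
    · exfalso; apply hzR; rw [← h]; exact R.mul_mem huR hR.zmem

/-- commutators between `C_Q(t)` and `C_R(z)` -/
theorem sg_comm_XY (hQ : SgPair z Q) (hR : SgPair t R) (htQ : t ∈ Q) (hzR : z ∉ R)
    {q0 : G} (hq0 : q0 ∈ Q) (hq0t : q0 * t * q0⁻¹ = z * t)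
    (x : G) (hx : x ∈ Q) (hxt : x * t = t * x) (y : G) (hy : y ∈ R) (hyz : y * z = z * y) :
    x * y * x⁻¹ * y⁻¹ = 1 ∨ x * y * x⁻¹ * y⁻¹ = t := by
  apply sg_inter hQ hR htQ hzR hq0 hq0t
  · have : x * y * x⁻¹ * y⁻¹ = x * (y * x⁻¹ * y⁻¹) := by group
    rw [this]
    exact Q.mul_mem hx (hQ.normal y hyz x⁻¹ (Q.inv_mem hx))
  · exact R.mul_mem (hR.normal x hxt y hy) (R.inv_mem hy)

/-- no element of `R` maps `z` to `t z` -/
theorem sg_no_swap (hQ : SgPair z Q) (hR : SgPair t R) (htQ : t ∈ Q) (hzR : z ∉ R)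
    (hconj : ∀ n : G, n * t * n⁻¹ = z → ∀ r : G, n * r * n⁻¹ ∈ Q → r ∈ R)
    {q0 : G} (hq0 : q0 ∈ Q) (hq0t : q0 * t * q0⁻¹ = z * t)
    (r : G) (hr : r ∈ R) (hrz : r * z * r⁻¹ = t * z) : False := by
  have hzt := sg_zt hQ htQ
  have hrt : r * t = t * r := hR.le r hr
  have hq0z : q0 * z = z * q0 := hQ.le q0 hq0
  apply hzR
  apply hconj (r * q0)
  · have h1 : r * t * r⁻¹ = t := by
      calc r * t * r⁻¹ = (t * r) * r⁻¹ := by rw [hrt]
        _ = t := by group
    calc r * q0 * t * (r * q0)⁻¹ = r * (q0 * t * q0⁻¹) * r⁻¹ := by group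
      _ = r * (z * t) * r⁻¹ := by rw [hq0t]
      _ = (r * z * r⁻¹) * (r * t * r⁻¹) := by group
      _ = (t * z) * t := by rw [hrz, h1]
      _ = t * (z * t) := by group
      _ = t * (t * z) := by rw [hzt]
      _ = (t * t) * z := by group
      _ = z := by rw [hR.z2, one_mul]
  · have h1 : q0 * z * q0⁻¹ = z := by
      calc q0 * z * q0⁻¹ = (z * q0) * q0⁻¹ := by rw [hq0z]
        _ = z := by group
    have : r * q0 * z * (r * q0)⁻¹ = t * z := by
      calc r * q0 * z * (r * q0)⁻¹ = r * (q0 * z * q0⁻¹) * r⁻¹ := by group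
        _ = r * z * r⁻¹ := by rw [h1]
        _ = t * z := hrz
    rw [this]
    exact Q.mul_mem htQ hQ.zmem

/-- elements of `{1, t}` are central in `R` -/
theorem sg_central_of_mem (hR : SgPair t R) {c : G} (hc : c = 1 ∨ c = t) :
    ∀ s ∈ R, c * s = s * c := by
  intro s hs
  rcases hc with h | h
  · rw [h]; group
  · rw [h]; exact (hR.le s hs).symm

theorem sg_mul_mem (hR : SgPair t R) {a b : G} (ha : a = 1 ∨ a = t) (hb : b = 1 ∨ b = t) :
    a * b = 1 ∨ a * b = t := by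
  rcases ha with h | h <;> rcases hb with h' | h' <;> rw [h, h']
  · left; group
  · right; group
  · right; group
  · left; exact hR.z2

/-- the key rigidity: a commutator `[r, z]` central in `R` is trivial -/
theorem sg_star (hQ : SgPair z Q) (hR : SgPair t R) (htQ : t ∈ Q) (hzR : z ∉ R)
    (hconj : ∀ n : G, n * t * n⁻¹ = z → ∀ r : G, n * r * n⁻¹ ∈ Q → r ∈ R)
    {q0 : G} (hq0 : q0 ∈ Q) (hq0t : q0 * t * q0⁻¹ = z * t)
    (r : G) (hr : r ∈ R)
    (hcen : ∀ s ∈ R, (r * z * r⁻¹ * z⁻¹) * s = s * (r * z * r⁻¹ * z⁻¹)) :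
    r * z * r⁻¹ * z⁻¹ = 1 := by
  have hzt := sg_zt hQ htQ
  set c := r * z * r⁻¹ * z⁻¹ with hcdef
  have hcR : c ∈ R := by
    have : c = r * (z * r⁻¹ * z⁻¹) := by rw [hcdef]; group
    rw [this]
    exact R.mul_mem hr (hR.normal z hzt r⁻¹ (R.inv_mem hr))
  by_contra hc1
  have hrz : r * z * r⁻¹ = c * z := by rw [hcdef]; group
  rcases hR.sq c hcR with h | h
  · rcases hR.cinv c hcR hcen h with h1 | h1
    · exact hc1 h1
    · rw [h1] at hrz
      exact sg_no_swap hQ hR htQ hzR hconj hq0 hq0t r hr hrz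
  · have hcr : c * r = r * c := hcen r hr
    have h2 : (r * r) * z * (r * r)⁻¹ = t * z := by
      calc (r * r) * z * (r * r)⁻¹ = r * (r * z * r⁻¹) * r⁻¹ := by group
        _ = r * (c * z) * r⁻¹ := by rw [hrz]
        _ = (r * c) * r⁻¹ * (r * z * r⁻¹) := by group
        _ = (c * r) * r⁻¹ * (c * z) := by rw [hcr, hrz]
        _ = (c * c) * z := by group
        _ = t * z := by rw [h]
    exact sg_no_swap hQ hR htQ hzR hconj hq0 hq0t (r * r) (R.mul_mem hr hr) h2

end SympC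

end Cfsg.Agent.Lib.Helper9
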