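import Mathlib
import Cfsg.Agent.Lib.Helper9.SympC

set_option autoImplicit false

namespace Cfsg.Agent.Lib.Helper9

section SympD
variable {G : Type*} [Group G] {z t : G} {Q R : Subgroup G}

/-- `ρ = r⁻¹ r^z` lies in `C_R(z)` -/
theorem sg_rho (hQ : SgPair z Q) (hR : SgPair t R) (htQ : t ∈ Q) (hzR : z ∉ R)
    (hconj : ∀ n : G, n * t * n⁻¹ = z → ∀ r : G, n * r * n⁻¹ ∈ Q → r ∈ R)
    {q0 : G} (hq0 : q0 ∈ Q) (hq0t : q0 * t * q0⁻¹ = z * t)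
    (r : G) (hr : r ∈ R) :
    r⁻¹ * (z * r * z⁻¹) ∈ R ∧ (r⁻¹ * (z * r * z⁻¹)) * z = z * (r⁻¹ * (z * r * z⁻¹)) := by
  have hzt := sg_zt hQ htQ
  have hzi := sg_inv_self hQ.z2
  set ρ := r⁻¹ * (z * r * z⁻¹) with hρ
  have hρR : ρ ∈ R := R.mul_mem (R.inv_mem hr) (hR.normal z hzt r hr)
  refine ⟨hρR, ?_⟩
  have hc : ρ * z * ρ⁻¹ * z⁻¹ = ρ * ρ := by
    calc ρ * z * ρ⁻¹ * z⁻¹ = r⁻¹ * z * r * (z * r⁻¹ * z⁻¹) * r * z⁻¹ := by rw [hρ]; group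
      _ = r⁻¹ * z * r * (z⁻¹ * r⁻¹ * z) * r * z⁻¹ := by
          have : z * r⁻¹ * z⁻¹ = z⁻¹ * r⁻¹ * z := by rw [hzi]
          rw [this]
      _ = ρ * ρ := by rw [hρ]; group
  have hcen : ∀ s ∈ R, (ρ * z * ρ⁻¹ * z⁻¹) * s = s * (ρ * z * ρ⁻¹ * z⁻¹) := by
    rw [hc]
    exact sg_central_of_mem hR (hR.sq ρ hρR)
  have h1 := sg_star hQ hR htQ hzR hconj hq0 hq0t ρ hρR hcen
  calc ρ * z = (ρ * z * ρ⁻¹ * z⁻¹) * z * ρ := by group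
    _ = z * ρ := by rw [h1, one_mul]

/-- `η = r⁻¹ r^x` lies in `C_R(z)` for `x ∈ C_Q(t)` -/
theorem sg_eta (hQ : SgPair z Q) (hR : SgPair t R) (htQ : t ∈ Q) (hzR : z ∉ R)
    (hconj : ∀ n : G, n * t * n⁻¹ = z → ∀ r : G, n * r * n⁻¹ ∈ Q → r ∈ R)
    {q0 : G} (hq0 : q0 ∈ Q) (hq0t : q0 * t * q0⁻¹ = z * t)
    (x : G) (hx : x ∈ Q) (hxt : x * t = t * x) (r : G) (hr : r ∈ R) :
    r⁻¹ * (x * r * x⁻¹) ∈ R ∧ (r⁻¹ * (x * r * x⁻¹)) * z = z * (r⁻¹ * (x * r * x⁻¹)) := by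
  have hzt := sg_zt hQ htQ
  have hxz : x * z = z * x := hQ.le x hx
  set η := r⁻¹ * (x * r * x⁻¹) with hη
  have hηR : η ∈ R := R.mul_mem (R.inv_mem hr) (hR.normal x hxt r hr)
  refine ⟨hηR, ?_⟩
  obtain ⟨hρR, hρz⟩ := sg_rho hQ hR htQ hzR hconj hq0 hq0t r hr
  set ρ := r⁻¹ * (z * r * z⁻¹) with hρ
  have hτ := sg_comm_XY hQ hR htQ hzR hq0 hq0t x hx hxt ρ hρR hρz
  set τ := x * ρ * x⁻¹ * ρ⁻¹ with hτdef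
  -- z η z⁻¹ = ρ⁻¹ η τ ρ
  have h1 : z * η * z⁻¹ = ρ⁻¹ * η * τ * ρ := by
    calc z * η * z⁻¹ = (z * r * z⁻¹)⁻¹ * ((z * x) * r * (z * x)⁻¹) := by rw [hη]; group
      _ = (z * r * z⁻¹)⁻¹ * ((x * z) * r * (x * z)⁻¹) := by rw [hxz]
      _ = ρ⁻¹ * η * τ * ρ := by rw [hρ, hη, hτdef, hρ]; group
  have hc : η * z * η⁻¹ * z⁻¹ = η * ρ⁻¹ * τ⁻¹ * η⁻¹ * ρ := by
    calc η * z * η⁻¹ * z⁻¹ = η * (z * η * z⁻¹)⁻¹ := by group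
      _ = η * (ρ⁻¹ * η * τ * ρ)⁻¹ := by rw [h1]
      _ = η * ρ⁻¹ * τ⁻¹ * η⁻¹ * ρ := by group
  have hcomm := hR.comm η hηR ρ⁻¹ (R.inv_mem hρR)
  have hcmem : η * z * η⁻¹ * z⁻¹ = 1 ∨ η * z * η⁻¹ * z⁻¹ = t := by
    rw [hc]
    rcases hτ with h | h
    · have : η * ρ⁻¹ * τ⁻¹ * η⁻¹ * ρ = η * ρ⁻¹ * η⁻¹ * (ρ⁻¹)⁻¹ := by rw [h]; group
      rw [this]; exact hcomm
    · have hti := sg_inv_self hR.z2
      have hηt : η * t = t * η := hR.le η hηR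
      have hρt : ρ⁻¹ * t = t * ρ⁻¹ := hR.le _ (R.inv_mem hρR)
      have : η * ρ⁻¹ * τ⁻¹ * η⁻¹ * ρ = t * (η * ρ⁻¹ * η⁻¹ * (ρ⁻¹)⁻¹) := by
        rw [h, hti]
        calc η * ρ⁻¹ * t * η⁻¹ * ρ = η * (ρ⁻¹ * t) * η⁻¹ * ρ := by group
          _ = η * (t * ρ⁻¹) * η⁻¹ * ρ := by rw [hρt]
          _ = (η * t) * ρ⁻¹ * η⁻¹ * ρ := by group
          _ = (t * η) * ρ⁻¹ * η⁻¹ * ρ := by rw [hηt]
          _ = t * (η * ρ⁻¹ * η⁻¹ * (ρ⁻¹)⁻¹) := by group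
      rw [this]
      exact sg_mul_mem hR (Or.inr rfl) hcomm
  have hcen : ∀ s ∈ R, (η * z * η⁻¹ * z⁻¹) * s = s * (η * z * η⁻¹ * z⁻¹) :=
    sg_central_of_mem hR hcmem
  have h2 := sg_star hQ hR htQ hzR hconj hq0 hq0t η hηR hcen
  calc η * z = (η * z * η⁻¹ * z⁻¹) * z * η := by group
    _ = z * η := by rw [h2, one_mul]

/-- if every `s⁻¹ z s z⁻¹` (`s ∈ R`) lies in `{1, t}` we reach a contradiction -/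
theorem sg_false_of_central (hQ : SgPair z Q) (hR : SgPair t R) (htQ : t ∈ Q) (hzR : z ∉ R)
    (hconj : ∀ n : G, n * t * n⁻¹ = z → ∀ r : G, n * r * n⁻¹ ∈ Q → r ∈ R)
    {q0 : G} (hq0 : q0 ∈ Q) (hq0t : q0 * t * q0⁻¹ = z * t)
    (h : ∀ s ∈ R, s⁻¹ * z * s * z⁻¹ = 1 ∨ s⁻¹ * z * s * z⁻¹ = t) : False := by
  have hzt := sg_zt hQ htQ
  apply hzR
  apply hR.selfc z hzt
  intro s hs
  have h1 : s * z * s⁻¹ * z⁻¹ = 1 ∨ s * z * s⁻¹ * z⁻¹ = t := by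
    have := h s⁻¹ (R.inv_mem hs)
    rw [inv_inv] at this
    exact this
  have hcen : ∀ s' ∈ R, (s * z * s⁻¹ * z⁻¹) * s' = s' * (s * z * s⁻¹ * z⁻¹) :=
    sg_central_of_mem hR h1
  have h2 := sg_star hQ hR htQ hzR hconj hq0 hq0t s hs hcen
  calc z * s = (s * z * s⁻¹ * z⁻¹)⁻¹ * s * z := by group
    _ = s * z := by rw [h2]; group

end SympD

end Cfsg.Agent.Lib.Helper9
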