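import Mathlib
import Cfsg.Agent.Lib.Helper9.SympD

set_option autoImplicit false

namespace Cfsg.Agent.Lib.Helper9

section SympE
variable {G : Type*} [Group G] {z t : G} {Q R : Subgroup G}

theorem sg_inv_mem (hR : SgPair t R) {a : G} (ha : a = 1 ∨ a = t) : a⁻¹ = 1 ∨ a⁻¹ = t := by
  rcases ha with h | h
  · left; rw [h]; group
  · right; rw [h]; exact sg_inv_self hR.z2

/-- no element of `C_Q(t)` squares to `z` -/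
theorem sg_sq_false (hQ : SgPair z Q) (hR : SgPair t R) (htQ : t ∈ Q) (hzR : z ∉ R)
    (hconj : ∀ n : G, n * t * n⁻¹ = z → ∀ r : G, n * r * n⁻¹ ∈ Q → r ∈ R)
    {q0 : G} (hq0 : q0 ∈ Q) (hq0t : q0 * t * q0⁻¹ = z * t)
    (x : G) (hx : x ∈ Q) (hxt : x * t = t * x) (hxx : x * x = z) : False := by
  apply sg_false_of_central hQ hR htQ hzR hconj hq0 hq0t
  intro s hs
  obtain ⟨hηR, hηz⟩ := sg_eta hQ hR htQ hzR hconj hq0 hq0t x hx hxt s hs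
  set η := s⁻¹ * (x * s * x⁻¹) with hη
  have hτ := sg_comm_XY hQ hR htQ hzR hq0 hq0t x hx hxt η hηR hηz
  set τ := x * η * x⁻¹ * η⁻¹ with hτdef
  have hτc := sg_central_of_mem hR hτ η hηR
  have h1 : s⁻¹ * z * s * z⁻¹ = τ * (η * η) := by
    calc s⁻¹ * z * s * z⁻¹ = s⁻¹ * ((x * x) * s * (x * x)⁻¹) := by rw [hxx]; group
      _ = η * τ * η := by rw [hτdef, hη]; group
      _ = (η * τ) * η := by group
      _ = (τ * η) * η := by rw [hτc]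
      _ = τ * (η * η) := by group
  rw [h1]
  exact sg_mul_mem hR hτ (hR.sq η hηR)

/-- no commutator of elements of `C_Q(t)` equals `z` -/
theorem sg_comm_false (hQ : SgPair z Q) (hR : SgPair t R) (htQ : t ∈ Q) (hzR : z ∉ R)
    (hconj : ∀ n : G, n * t * n⁻¹ = z → ∀ r : G, n * r * n⁻¹ ∈ Q → r ∈ R)
    {q0 : G} (hq0 : q0 ∈ Q) (hq0t : q0 * t * q0⁻¹ = z * t)
    (x1 : G) (hx1 : x1 ∈ Q) (hx1t : x1 * t = t * x1)
    (x2 : G) (hx2 : x2 ∈ Q) (hx2t : x2 * t = t * x2)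
    (hcz : x1 * x2 * x1⁻¹ * x2⁻¹ = z) : False := by
  apply sg_false_of_central hQ hR htQ hzR hconj hq0 hq0t
  intro s hs
  have hyt : (x2 * x1)⁻¹ * t = t * (x2 * x1)⁻¹ := by
    have h1 : (x2 * x1) * t = t * (x2 * x1) := by
      calc (x2 * x1) * t = x2 * (x1 * t) := by group
        _ = x2 * (t * x1) := by rw [hx1t]
        _ = (x2 * t) * x1 := by group
        _ = (t * x2) * x1 := by rw [hx2t]
        _ = t * (x2 * x1) := by group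
    calc (x2 * x1)⁻¹ * t = (x2 * x1)⁻¹ * (t * (x2 * x1)) * (x2 * x1)⁻¹ := by group
      _ = (x2 * x1)⁻¹ * ((x2 * x1) * t) * (x2 * x1)⁻¹ := by rw [h1]
      _ = t * (x2 * x1)⁻¹ := by group
  have huR : (x2 * x1)⁻¹ * s * ((x2 * x1)⁻¹)⁻¹ ∈ R := hR.normal _ hyt s hs
  set u := (x2 * x1)⁻¹ * s * ((x2 * x1)⁻¹)⁻¹ with hu
  obtain ⟨hη1R, hη1z⟩ := sg_eta hQ hR htQ hzR hconj hq0 hq0t x1 hx1 hx1t u huR
  obtain ⟨hη2R, hη2z⟩ := sg_eta hQ hR htQ hzR hconj hq0 hq0t x2 hx2 hx2t u huR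
  set η1 := u⁻¹ * (x1 * u * x1⁻¹) with hη1
  set η2 := u⁻¹ * (x2 * u * x2⁻¹) with hη2
  have hτ21 := sg_comm_XY hQ hR htQ hzR hq0 hq0t x2 hx2 hx2t η1 hη1R hη1z
  have hτ12 := sg_comm_XY hQ hR htQ hzR hq0 hq0t x1 hx1 hx1t η2 hη2R hη2z
  set a := x2 * η1 * x2⁻¹ * η1⁻¹ with ha
  set b := x1 * η2 * x1⁻¹ * η2⁻¹ with hb
  have hs1 : s = u * η2 * a * η1 := by
    rw [ha, hη1, hη2, hu]; group
  have hs2 : z * s * z⁻¹ = u * η1 * b * η2 := by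
    rw [← hcz, hb, hη1, hη2, hu]; group
  have hA := sg_inv_mem hR hτ21
  have hAc := sg_central_of_mem hR hA
  have hbc := sg_central_of_mem hR hτ12
  have hcomm := hR.comm η1⁻¹ (R.inv_mem hη1R) η2⁻¹ (R.inv_mem hη2R)
  have h1 : s⁻¹ * z * s * z⁻¹ = a⁻¹ * b * (η1⁻¹ * η2⁻¹ * (η1⁻¹)⁻¹ * (η2⁻¹)⁻¹) := by
    have e1 := hAc η1⁻¹ (R.inv_mem hη1R)
    have e2 := hbc (η1⁻¹ * η2⁻¹ * η1)
      (R.mul_mem (R.mul_mem (R.inv_mem hη1R) (R.inv_mem hη2R)) hη1R)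
    calc s⁻¹ * z * s * z⁻¹ = s⁻¹ * (z * s * z⁻¹) := by group
      _ = (u * η2 * a * η1)⁻¹ * (u * η1 * b * η2) := by rw [hs2, ← hs1]
      _ = (η1⁻¹ * a⁻¹) * η2⁻¹ * η1 * b * η2 := by group
      _ = (a⁻¹ * η1⁻¹) * η2⁻¹ * η1 * b * η2 := by rw [e1]
      _ = a⁻¹ * ((η1⁻¹ * η2⁻¹ * η1) * b) * η2 := by group
      _ = a⁻¹ * (b * (η1⁻¹ * η2⁻¹ * η1)) * η2 := by rw [e2]
      _ = a⁻¹ * b * (η1⁻¹ * η2⁻¹ * (η1⁻¹)⁻¹ * (η2⁻¹)⁻¹) := by group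
  rw [h1]
  exact sg_mul_mem hR (sg_mul_mem hR hA hτ12) hcomm

end SympE

end Cfsg.Agent.Lib.Helper9
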