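import Mathlib
import Cfsg.Agent.Lib.Helper9.SympE

set_option autoImplicit false

namespace Cfsg.Agent.Lib.Helper9

section SympF
variable {G : Type*} [Group G] {z t : G} {Q R : Subgroup G}

/-- if `C_Q(t)` is elementary abelian it is `{1, z, t, z t}` -/
theorem sg_X_small (hQ : SgPair z Q) (hR : SgPair t R) (htQ : t ∈ Q)
    {q0 : G} (hq0 : q0 ∈ Q) (hq0t : q0 * t * q0⁻¹ = z * t)
    (hsq : ∀ x ∈ Q, x * t = t * x → x * x = 1)
    (hab : ∀ x1 ∈ Q, x1 * t = t * x1 → ∀ x2 ∈ Q, x2 * t = t * x2 → x1 * x2 = x2 * x1)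
    (x : G) (hx : x ∈ Q) (hxt : x * t = t * x) : x = 1 ∨ x = z ∨ x = t ∨ x = z * t := by
  have hzt := sg_zt hQ htQ
  have hxz : x * z = z * x := hQ.le x hx
  have hti := sg_inv_self hR.z2
  by_cases hA : x * q0 = q0 * x
  · have hcen := sg_central_of hQ htQ hq0 hq0t x hA (fun x' hx' hx't => hab x hx hxt x' hx' hx't)
    rcases hQ.cinv x hx hcen (hsq x hx hxt) with h | h
    · left; exact h
    · right; left; exact h
  · have hc : x * q0 * x⁻¹ * q0⁻¹ = z := by
      rcases hQ.comm x hx q0 hq0 with h | h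
      · exfalso; apply hA
        calc x * q0 = (x * q0 * x⁻¹ * q0⁻¹) * q0 * x := by group
          _ = q0 * x := by rw [h, one_mul]
      · exact h
    have hq0x := sg_swap_comm hQ hc
    have hvQ : x * t ∈ Q := Q.mul_mem hx htQ
    have hvt : (x * t) * t = t * (x * t) := by
      calc (x * t) * t = (t * x) * t := by rw [hxt]
        _ = t * (x * t) := by group
    have hv0 : (x * t) * q0 = q0 * (x * t) := by
      have : q0 * (x * t) * q0⁻¹ = x * t := by
        calc q0 * (x * t) * q0⁻¹ = (q0 * x * q0⁻¹) * (q0 * t * q0⁻¹) := by group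
          _ = (z * x) * (z * t) := by rw [hq0x, hq0t]
          _ = z * (x * z) * t := by group
          _ = z * (z * x) * t := by rw [hxz]
          _ = (z * z) * (x * t) := by group
          _ = x * t := by rw [hQ.z2, one_mul]
      calc (x * t) * q0 = (q0 * (x * t) * q0⁻¹) * q0 := by rw [this]
        _ = q0 * (x * t) := by group
    have hcen := sg_central_of hQ htQ hq0 hq0t (x * t) hv0
      (fun x' hx' hx't => hab (x * t) hvQ hvt x' hx' hx't)
    rcases hQ.cinv (x * t) hvQ hcen (hsq (x * t) hvQ hvt) with h | h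
    · right; right; left
      calc x = (x * t) * t⁻¹ := by group
        _ = t := by rw [h, one_mul, hti]
    · right; right; right
      calc x = (x * t) * t⁻¹ := by group
        _ = z * t := by rw [h, hti]

/-- in the small case `C_R(z) ⊆ {1, t}` -/
theorem sg_Y_small (hQ : SgPair z Q) (hR : SgPair t R) (htQ : t ∈ Q) (hzR : z ∉ R)
    {q0 : G} (hq0 : q0 ∈ Q) (hq0t : q0 * t * q0⁻¹ = z * t)
    (hX : ∀ x ∈ Q, x * t = t * x → x = 1 ∨ x = z ∨ x = t ∨ x = z * t)
    (y : G) (hy : y ∈ R) (hyz : y * z = z * y) : y = 1 ∨ y = t := by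
  have hzt := sg_zt hQ htQ
  have hti := sg_inv_self hR.z2
  have hzi := sg_inv_self hQ.z2
  have hyt : y * t = t * y := hR.le y hy
  have hq0z : q0 * z = z * q0 := hQ.le q0 hq0
  have hq0i := sg_q0_inv hQ hq0 hq0t
  have hq0iz : q0⁻¹ * z * q0 = z := by
    calc q0⁻¹ * z * q0 = q0⁻¹ * (z * q0) := by group
      _ = q0⁻¹ * (q0 * z) := by rw [hq0z]
      _ = z := by group
  -- y commutes with all of C_Q(t)
  have hyX : ∀ x ∈ Q, x * t = t * x → y * x = x * y := by
    intro x hx hxt
    rcases hX x hx hxt with h | h | h | h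
    · rw [h]; group
    · rw [h]; exact hyz
    · rw [h]; exact hyt
    · rw [h]
      calc y * (z * t) = (y * z) * t := by group
        _ = (z * y) * t := by rw [hyz]
        _ = z * (y * t) := by group
        _ = z * (t * y) := by rw [hyt]
        _ = z * t * y := by group
  -- an element of R centralizing z, q0 and C_Q(t) is 1 or t
  have hfin : ∀ w ∈ R, w * z = z * w → w * q0 = q0 * w →
      (∀ x ∈ Q, x * t = t * x → w * x = x * w) → w = 1 ∨ w = t := by
    intro w hw hwz hw0 hwX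
    have hcen := sg_central_of hQ htQ hq0 hq0t w hw0 hwX
    have hwQ := hQ.selfc w hwz hcen
    exact sg_inter hQ hR htQ hzR hq0 hq0t w hwQ hw
  set v := q0⁻¹ * (y * q0 * y⁻¹) with hv
  have hvQ : v ∈ Q := Q.mul_mem (Q.inv_mem hq0) (hQ.normal y hyz q0 hq0)
  have hyty : y⁻¹ * t * y = t := by
    calc y⁻¹ * t * y = y⁻¹ * (t * y) := by group
      _ = y⁻¹ * (y * t) := by rw [hyt]
      _ = t := by group
  have hyzt : y * (z * t) * y⁻¹ = z * t := by
    calc y * (z * t) * y⁻¹ = (y * z) * t * y⁻¹ := by group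
      _ = (z * y) * t * y⁻¹ := by rw [hyz]
      _ = z * (y * t) * y⁻¹ := by group
      _ = z * (t * y) * y⁻¹ := by rw [hyt]
      _ = z * t := by group
  have hvt : v * t = t * v := by
    have h1 : v * t * v⁻¹ = t := by
      calc v * t * v⁻¹ = q0⁻¹ * (y * (q0 * (y⁻¹ * t * y) * q0⁻¹) * y⁻¹) * q0 := by rw [hv]; group
        _ = q0⁻¹ * (y * (z * t) * y⁻¹) * q0 := by rw [hyty, hq0t]
        _ = q0⁻¹ * (z * t) * q0 := by rw [hyzt]
        _ = (q0⁻¹ * z * q0) * (q0⁻¹ * t * q0) := by group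
        _ = z * (z * t) := by rw [hq0iz, hq0i]
        _ = (z * z) * t := by group
        _ = t := by rw [hQ.z2, one_mul]
    calc v * t = (v * t * v⁻¹) * v := by group
      _ = t * v := by rw [h1]
  -- the square condition
  have hq02 : y * (q0 * q0) * y⁻¹ = q0 * q0 := by
    rcases hQ.sq q0 hq0 with h | h
    · rw [h]; group
    · rw [h]
      calc y * z * y⁻¹ = (z * y) * y⁻¹ := by rw [hyz]
        _ = z := by group
  have hsqc : (q0⁻¹ * v * q0) * v = 1 := by
    have h1 : (q0 * v) * (q0 * v) = q0 * q0 := by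
      calc (q0 * v) * (q0 * v) = y * (q0 * q0) * y⁻¹ := by rw [hv]; group
        _ = q0 * q0 := hq02
    calc (q0⁻¹ * v * q0) * v = q0⁻¹ * q0⁻¹ * ((q0 * v) * (q0 * v)) := by group
      _ = q0⁻¹ * q0⁻¹ * (q0 * q0) := by rw [h1]
      _ = 1 := by group
  have hyq0 : y * q0 * y⁻¹ = q0 * v := by rw [hv]; group
  rcases hX v hvQ hvt with h | h | h | h
  · -- v = 1
    have hw0 : y * q0 = q0 * y := by
      calc y * q0 = (y * q0 * y⁻¹) * y := by group
        _ = q0 * y := by rw [hyq0, h, mul_one]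
    exact hfin y hy hyz hw0 hyX
  · -- v = z: then y t centralizes Q
    have htq0 : t * q0 * t⁻¹ = q0 * z := by
      calc t * q0 * t⁻¹ = q0 * (q0⁻¹ * t * q0) * t⁻¹ := by group
        _ = q0 * (z * t) * t⁻¹ := by rw [hq0i]
        _ = q0 * z := by group
    have hw0 : (y * t) * q0 = q0 * (y * t) := by
      have h1 : (y * t) * q0 * (y * t)⁻¹ = q0 := by
        calc (y * t) * q0 * (y * t)⁻¹ = y * (t * q0 * t⁻¹) * y⁻¹ := by group
          _ = y * (q0 * z) * y⁻¹ := by rw [htq0]
          _ = (y * q0 * y⁻¹) * (y * z * y⁻¹) := by group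
          _ = (q0 * z) * ((z * y) * y⁻¹) := by rw [hyq0, h, hyz]
          _ = q0 * (z * z) := by group
          _ = q0 := by rw [hQ.z2, mul_one]
      calc (y * t) * q0 = ((y * t) * q0 * (y * t)⁻¹) * (y * t) := by group
        _ = q0 * (y * t) := by rw [h1]
    have hwz : (y * t) * z = z * (y * t) := by
      calc (y * t) * z = y * (t * z) := by group
        _ = y * (z * t) := by rw [hzt]
        _ = (y * z) * t := by group
        _ = (z * y) * t := by rw [hyz]
        _ = z * (y * t) := by group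
    have hwX : ∀ x ∈ Q, x * t = t * x → (y * t) * x = x * (y * t) := by
      intro x hx hxt
      have h1 := hyX x hx hxt
      calc (y * t) * x = y * (t * x) := by group
        _ = y * (x * t) := by rw [hxt]
        _ = (y * x) * t := by group
        _ = (x * y) * t := by rw [h1]
        _ = x * (y * t) := by group
    rcases hfin (y * t) (R.mul_mem hy hR.zmem) hwz hw0 hwX with h1 | h1
    · right
      calc y = (y * t) * t⁻¹ := by group
        _ = t := by rw [h1, one_mul, hti]
    · left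
      calc y = (y * t) * t⁻¹ := by group
        _ = 1 := by rw [h1]; group
  · -- v = t: impossible
    exfalso
    rw [h] at hsqc
    rw [hq0i] at hsqc
    have : z = 1 := by
      calc z = z * (t * t) := by rw [hR.z2, mul_one]
        _ = z * t * t := by group
        _ = 1 := hsqc
    exact hQ.z1 this
  · -- v = z t: impossible
    exfalso
    rw [h] at hsqc
    have h1 : q0⁻¹ * (z * t) * q0 = t := by
      calc q0⁻¹ * (z * t) * q0 = (q0⁻¹ * z * q0) * (q0⁻¹ * t * q0) := by group
        _ = z * (z * t) := by rw [hq0iz, hq0i]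
        _ = (z * z) * t := by group
        _ = t := by rw [hQ.z2, one_mul]
    rw [h1] at hsqc
    have : z = 1 := by
      calc z = (t * t) * z := by rw [hR.z2, one_mul]
        _ = t * (t * z) := by group
        _ = t * (z * t) := by rw [hzt]
        _ = 1 := hsqc
    exact hQ.z1 this

/-- main lemma: `z ∈ R` -/
theorem sg_main (hQ : SgPair z Q) (hR : SgPair t R) (htQ : t ∈ Q) (hne : t ≠ z)
    (hconj : ∀ n : G, n * t * n⁻¹ = z → ∀ r : G, n * r * n⁻¹ ∈ Q → r ∈ R) : z ∈ R := by
  by_contra hzR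
  have hzt := sg_zt hQ htQ
  obtain ⟨q0, hq0, hq0t⟩ := sg_exists_q0 hQ hR htQ hne
  have hsq : ∀ x ∈ Q, x * t = t * x → x * x = 1 := by
    intro x hx hxt
    rcases hQ.sq x hx with h | h
    · exact h
    · exact (sg_sq_false hQ hR htQ hzR hconj hq0 hq0t x hx hxt h).elim
  have hab : ∀ x1 ∈ Q, x1 * t = t * x1 → ∀ x2 ∈ Q, x2 * t = t * x2 → x1 * x2 = x2 * x1 := by
    intro x1 hx1 hx1t x2 hx2 hx2t
    rcases hQ.comm x1 hx1 x2 hx2 with h | h
    · calc x1 * x2 = (x1 * x2 * x1⁻¹ * x2⁻¹) * x2 * x1 := by group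
        _ = x2 * x1 := by rw [h, one_mul]
    · exact (sg_comm_false hQ hR htQ hzR hconj hq0 hq0t x1 hx1 hx1t x2 hx2 hx2t h).elim
  have hX := sg_X_small hQ hR htQ hq0 hq0t hsq hab
  have hY := sg_Y_small hQ hR htQ hzR hq0 hq0t hX
  -- z does not centralize R
  have hex : ∃ r1 ∈ R, z * r1 ≠ r1 * z := by
    by_contra hno
    push Not at hno
    exact hzR (hR.selfc z hzt hno)
  obtain ⟨r1, hr1, hr1z⟩ := hex
  obtain ⟨hρR, hρz⟩ := sg_rho hQ hR htQ hzR hconj hq0 hq0t r1 hr1
  rcases hY _ hρR hρz with h | h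
  · apply hr1z
    calc z * r1 = r1 * (r1⁻¹ * (z * r1 * z⁻¹)) * z := by group
      _ = r1 * z := by rw [h, mul_one]
  · apply sg_no_swap hQ hR htQ hzR hconj hq0 hq0t r1⁻¹ (R.inv_mem hr1)
    calc r1⁻¹ * z * (r1⁻¹)⁻¹ = (r1⁻¹ * (z * r1 * z⁻¹)) * z := by group
      _ = t * z := by rw [h]

end SympF

end Cfsg.Agent.Lib.Helper9
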