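import Mathlib
import Cfsg.Agent.Lib.Helper9.SympF
import Cfsg.Agent.Lib.Helper9.SylowConj

set_option autoImplicit false

namespace Cfsg.Agent.Lib.Helper9

section SympG
variable {G : Type*} [Group G] {z t : G} {Q R : Subgroup G}

theorem sg_cj_mul (x x' y : G) : (x * x') * y * (x * x')⁻¹ = x * (x' * y * x'⁻¹) * x⁻¹ := by
  group

theorem sg_cj_mul2 (x y y' : G) : x * (y * y') * x⁻¹ = (x * y * x⁻¹) * (x * y' * x⁻¹) := by
  group

/-- elements of the four-group generated by two commuting involutions -/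
theorem sg_closure_four (hzz : z * z = 1) (htt : t * t = 1) (htz : t * z = z * t) :
    ∀ w ∈ Subgroup.closure ({z, t} : Set G), w = 1 ∨ w = z ∨ w = t ∨ w = z * t := by
  have e1 : ∀ x, z * (z * x) = x := fun x => by rw [← mul_assoc, hzz, one_mul]
  have e2 : ∀ x, t * (t * x) = x := fun x => by rw [← mul_assoc, htt, one_mul]
  have e3 : ∀ x, t * (z * x) = z * (t * x) := fun x => by rw [← mul_assoc, htz, mul_assoc]
  have hzi : z⁻¹ = z := inv_eq_of_mul_eq_one_left hzz
  have hti : t⁻¹ = t := inv_eq_of_mul_eq_one_left htt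
  intro w hw
  induction hw using Subgroup.closure_induction with
  | mem x hx =>
    rcases hx with rfl | hx
    · exact Or.inr (Or.inl rfl)
    · rw [Set.mem_singleton_iff] at hx
      exact Or.inr (Or.inr (Or.inl hx))
  | one => exact Or.inl rfl
  | mul x y _ _ hx hy =>
    rcases hx with rfl | rfl | rfl | rfl <;> rcases hy with rfl | rfl | rfl | rfl <;>
      simp [mul_assoc, hzz, htt, htz, e1, e2, e3]
  | inv x _ hx =>
    rcases hx with rfl | rfl | rfl | rfl
    · simp
    · rw [hzi]; simp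
    · rw [hti]; simp
    · rw [mul_inv_rev, hzi, hti, htz]; simp

/-- `⟨Q, R⟩` induces the full automorphism group on the four-group `⟨z, t⟩` -/
theorem sg_four (hQ : SgPair z Q) (hR : SgPair t R) (htQ : t ∈ Q) (hzR : z ∈ R) (hne : t ≠ z) :
    ∀ u ∈ Subgroup.closure ({z, t} : Set G), ∀ v ∈ Subgroup.closure ({z, t} : Set G),
      u ≠ 1 → v ≠ 1 → u ≠ v → ∃ x ∈ Q ⊔ R, x * z * x⁻¹ = u ∧ x * t * x⁻¹ = v := by
  have hzz := hQ.z2
  have htt := hR.z2
  have htz : t * z = z * t := hQ.le t htQ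
  have e1 : ∀ x, z * (z * x) = x := fun x => by rw [← mul_assoc, hzz, one_mul]
  have e2 : ∀ x, t * (t * x) = x := fun x => by rw [← mul_assoc, htt, one_mul]
  obtain ⟨a, ha, hat⟩ := sg_exists_q0 hQ hR htQ hne
  obtain ⟨b, hb, hbz⟩ := sg_exists_q0 hR hQ hzR (Ne.symm hne)
  rw [htz] at hbz
  have haz : a * z * a⁻¹ = z := by
    rw [mul_inv_eq_iff_eq_mul]; exact hQ.le a ha
  have hbt : b * t * b⁻¹ = t := by
    rw [mul_inv_eq_iff_eq_mul]; exact hR.le b hb
  have haS : a ∈ Q ⊔ R := Subgroup.mem_sup_left ha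
  have hbS : b ∈ Q ⊔ R := Subgroup.mem_sup_right hb
  have hab_z : (a * b) * z * (a * b)⁻¹ = t := by
    rw [sg_cj_mul, hbz, sg_cj_mul2, haz, hat, e1]
  have hab_t : (a * b) * t * (a * b)⁻¹ = z * t := by
    rw [sg_cj_mul, hbt, hat]
  have hba_z : (b * a) * z * (b * a)⁻¹ = z * t := by
    rw [sg_cj_mul, haz, hbz]
  have hba_t : (b * a) * t * (b * a)⁻¹ = z := by
    rw [sg_cj_mul, hat, sg_cj_mul2, hbz, hbt, mul_assoc, htt, mul_one]
  have haba_z : (a * b * a) * z * (a * b * a)⁻¹ = t := by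
    rw [sg_cj_mul (a * b) a z, haz, hab_z]
  have haba_t : (a * b * a) * t * (a * b * a)⁻¹ = z := by
    rw [sg_cj_mul (a * b) a t, hat, sg_cj_mul2 (a * b) z t, hab_z, hab_t, ← mul_assoc, htz,
      mul_assoc, htt, mul_one]
  intro u hu v hv hu1 hv1 huv
  have hu' := sg_closure_four hzz htt htz u hu
  have hv' := sg_closure_four hzz htt htz v hv
  rcases hu' with hu' | hu' | hu' | hu'
  · exact absurd hu' hu1
  · rcases hv' with hv' | hv' | hv' | hv'
    · exact absurd hv' hv1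
    · exact absurd (hu'.trans hv'.symm) huv
    · rw [hu', hv']
      exact ⟨1, Subgroup.one_mem _, by simp, by simp⟩
    · rw [hu', hv']
      exact ⟨a, haS, haz, hat⟩
  · rcases hv' with hv' | hv' | hv' | hv'
    · exact absurd hv' hv1
    · rw [hu', hv']
      exact ⟨a * b * a, Subgroup.mul_mem _ (Subgroup.mul_mem _ haS hbS) haS, haba_z, haba_t⟩
    · exact absurd (hu'.trans hv'.symm) huv
    · rw [hu', hv']
      exact ⟨a * b, Subgroup.mul_mem _ haS hbS, hab_z, hab_t⟩
  · rcases hv' with hv' | hv' | hv' | hv'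
    · exact absurd hv' hv1
    · rw [hu', hv']
      exact ⟨b * a, Subgroup.mul_mem _ hbS haS, hba_z, hba_t⟩
    · rw [hu', hv']
      exact ⟨b, hbS, hbz, hbt⟩
    · exact absurd (hu'.trans hv'.symm) huv

end SympG

end Cfsg.Agent.Lib.Helper9
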