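import Mathlib
import Cfsg.Agent.Lib.helper3.T2E.Defs3
import Cfsg.Agent.Lib.helper8.ChevTwE6H16

/-!
# T2E (S2108), row S0 `field_facts` (helper9): facts on `K = F_{q²}`, `q ≥ 3`.
Everything by counting roots of a polynomial of degree `< q²`.
-/

set_option autoImplicit false

namespace Cfsg.Agent.Lib.Helper9.T2ES0

universe u

/-- a nonzero polynomial of degree `< |K|` has a non root -/
theorem t2es0helper9_nonroot {K : Type u} [Field K] [Fintype K] (p : Polynomial K) (hp : p ≠ 0)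
    (hd : p.natDegree < Fintype.card K) : ∃ r : K, p.eval r ≠ 0 := by
  apply Polynomial.exists_eval_ne_zero_of_natDegree_lt_card p hp
  rw [Cardinal.mk_fintype]
  exact_mod_cast hd

open Polynomial in
theorem t2es0helper9_facts {K : Type u} [Field K] [Fintype K] (q : ℕ) (hq3 : 3 ≤ q)
    (hK : Fintype.card K = q ^ 2) (hqq : ∀ t : K, (t ^ q) ^ q = t)
    (hadd : ∀ a b : K, (a + b) ^ q = a ^ q + b ^ q) :
    (∃ a : K, a ≠ 0 ∧ a + 1 ≠ 0 ∧ a ^ 2 + a + 1 ≠ 0) ∧ (∃ c : K, c ≠ 0 ∧ c ≠ 1 ∧ c ^ q = c) ∧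
    (∃ c : K, c ≠ 0 ∧ c * c ^ q ≠ 1) ∧ (∃ c : K, c ≠ 0 ∧ c ^ q ≠ c) ∧
    (∀ v : K, v ^ q = v → ∃ w : K, w + w ^ q = v) := by
  classical
  have hlt4 : 4 < Fintype.card K := by rw [hK]; nlinarith
  have hltq : q + 2 < Fintype.card K := by rw [hK]; nlinarith
  have h1 : ∃ a : K, a ≠ 0 ∧ a + 1 ≠ 0 ∧ a ^ 2 + a + 1 ≠ 0 := by
    have hm : (X * (X + 1) * (X ^ 2 + X + 1) : K[X]).Monic := by
      apply Monic.mul
      · apply Monic.mul monic_X
        exact monic_X_add_C (1 : K)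
      · have : (X ^ 2 + X + 1 : K[X]) = X ^ 2 + (X + 1) := by ring
        rw [this]
        apply monic_X_pow_add
        rw [show (X + 1 : K[X]) = X + C 1 by simp]
        rw [degree_X_add_C]
        norm_num
    have hd : (X * (X + 1) * (X ^ 2 + X + 1) : K[X]).natDegree ≤ 4 := by
      compute_degree
    obtain ⟨a, ha⟩ := t2es0helper9_nonroot (X * (X + 1) * (X ^ 2 + X + 1) : K[X]) hm.ne_zero
      (by omega)
    simp only [eval_mul, eval_add, eval_X, eval_one, eval_pow] at ha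
    exact ⟨a, fun h => ha (by rw [h]; ring), fun h => ha (by rw [h]; ring),
      fun h => ha (by rw [h]; ring)⟩
  have hnorm : ∃ c : K, c ≠ 0 ∧ c * c ^ q ≠ 1 := by
    have hm : (X * (X ^ (q + 1) - 1) : K[X]).Monic := by
      apply Monic.mul monic_X
      apply monic_X_pow_sub
      rw [degree_one]
      exact_mod_cast Nat.succ_pos q
    have hd : (X * (X ^ (q + 1) - 1) : K[X]).natDegree ≤ q + 2 := by
      compute_degree
      omega
    obtain ⟨a, ha⟩ := t2es0helper9_nonroot (X * (X ^ (q + 1) - 1) : K[X]) hm.ne_zero (by omega)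
    simp only [eval_mul, eval_sub, eval_X, eval_one, eval_pow] at ha
    refine ⟨a, fun h => ha (by rw [h]; ring), fun h => ha ?_⟩
    rw [pow_succ', h]
    ring
  refine ⟨h1, ?_, hnorm, ?_, ?_⟩
  · obtain ⟨d, hd0, hd1⟩ := hnorm
    refine ⟨d * d ^ q, mul_ne_zero hd0 (pow_ne_zero _ hd0), hd1, ?_⟩
    rw [mul_pow, hqq, mul_comm]
  · have hm : (X ^ q - X : K[X]).Monic := by
      apply monic_X_pow_sub
      rw [degree_X]
      exact_mod_cast (by omega : 1 < q)
    have hd : (X ^ q - X : K[X]).natDegree ≤ q := by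
      compute_degree
      omega
    obtain ⟨a, ha⟩ := t2es0helper9_nonroot (X ^ q - X : K[X]) hm.ne_zero (by omega)
    simp only [eval_sub, eval_X, eval_pow] at ha
    refine ⟨a, fun h => ha ?_, fun h => ha (by rw [h]; ring)⟩
    rw [h, zero_pow (by omega)]
    ring
  · intro v hv
    have hm : (X ^ q + X : K[X]).Monic := by
      apply monic_X_pow_add
      rw [degree_X]
      exact_mod_cast (by omega : 1 < q)
    have hd : (X ^ q + X : K[X]).natDegree ≤ q := by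
      compute_degree
      omega
    obtain ⟨c, hc⟩ := t2es0helper9_nonroot (X ^ q + X : K[X]) hm.ne_zero (by omega)
    simp only [eval_add, eval_X, eval_pow] at hc
    refine ⟨v * c / (c ^ q + c), ?_⟩
    have hdq : (c ^ q + c) ^ q = c ^ q + c := by
      rw [hadd, hqq, add_comm]
    rw [div_pow, mul_pow, hdq, hv]
    field_simp
    ring

end Cfsg.Agent.Lib.Helper9.T2ES0

namespace Cfsg.Agent.Lib.helper3.T2E

open Cfsg.Lie Cfsg.Lie.ChevalleyDatum Matrix
open Cfsg.Agent.Lib.helper8 Cfsg.Agent.Lib.Helper10.TEM Cfsg.Agent.Lib.helper7.Ce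
  Cfsg.Agent.Lib.helper15.St2

universe u

variable {K : Type u} [Field K] {q : ℕ} {f : K ≃+* K}

theorem field_facts [Fintype K] (hq : IsPrimePow q) (hK : Fintype.card K = q ^ 2) (h2 : q ≠ 2)
    (hF : Frob q f) :
    (∃ a : K, a ≠ 0 ∧ a + 1 ≠ 0 ∧ a ^ 2 + a + 1 ≠ 0) ∧ (∃ c : K, c ≠ 0 ∧ c ≠ 1 ∧ c ^ q = c) ∧
    (∃ c : K, c ≠ 0 ∧ c * c ^ q ≠ 1) ∧ (∃ c : K, c ≠ 0 ∧ c ^ q ≠ c) ∧
    (∀ v : K, v ^ q = v → ∃ w : K, w + w ^ q = v) := by
  have hq3 : 3 ≤ q := by
    have := hq.two_le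
    omega
  have hqq : ∀ t : K, (t ^ q) ^ q = t := by
    intro t
    have := hF.inv t
    rwa [hF.pow, hF.pow] at this
  have hadd : ∀ a b : K, (a + b) ^ q = a ^ q + b ^ q := by
    intro a b
    rw [← hF.pow, ← hF.pow, ← hF.pow, map_add]
  exact Cfsg.Agent.Lib.Helper9.T2ES0.t2es0helper9_facts q hq3 hK hqq hadd

end Cfsg.Agent.Lib.helper3.T2E
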