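import Mathlib
import Cfsg.Agent.Lib.helper3.T2E.Defs3
import Cfsg.Agent.Lib.helper8.ChevTwE6H16
import Cfsg.Agent.Lib.Helper20.T2ED10b

/-!
# T2E (S2108), row S1 `chi_surj` (helper9): the torus acts on a short root group through all of `K^×`.
-/

set_option autoImplicit false

namespace Cfsg.Agent.Lib.helper3.T2E

open Cfsg.Lie Cfsg.Lie.ChevalleyDatum Matrix
open Cfsg.Agent.Lib.helper8 Cfsg.Agent.Lib.Helper10.TEM Cfsg.Agent.Lib.helper7.Ce
  Cfsg.Agent.Lib.helper15.St2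

universe u

theorem t2es1helper9_table : ∀ r < 72, h8sE6 r ≠ r → ∃ b ∈ [56, 42],
    (h8K chevE6 b r, h8K chevE6 (h8sE6 b) r) ∈ [((1 : ℤ), (0 : ℤ)), (-1, 0), (0, 1), (0, -1)] := by
  decide +kernel

variable {K : Type u} [Field K] {q : ℕ} {f : K ≃+* K}

theorem chi_surj (hF : Frob q f) (r : ℕ) (hr : r < 72) (hσ : h8sE6 r ≠ r) (c : K) (hc : c ≠ 0) :
    ∃ h ∈ T1 K q, h8chi chevE6 hB h r = c := by
  have hqq : ∀ t : K, (t ^ q) ^ q = t := by
    intro t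
    have := hF.inv t
    rwa [hF.pow, hF.pow] at this
  obtain ⟨b, hb, hK⟩ := t2es1helper9_table r hr hσ
  have hb72 : b < 72 := by
    simp only [List.mem_cons, List.not_mem_nil, or_false] at hb
    rcases hb with rfl | rfl <;> norm_num
  have hbσ : h8sE6 b ≠ b := by
    simp only [List.mem_cons, List.not_mem_nil, or_false] at hb
    rcases hb with rfl | rfl <;> decide
  have hadm : ∀ c' : K, Adm q b c' := fun c' h => absurd h hbσ
  have key : ∀ c' : K, c' ≠ 0 → HT q b c' ∈ T1 K q ∧ h8chi chevE6 hB (HT q b c') r =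
      c' ^ (h8K chevE6 b r) * (c' ^ q) ^ (h8K chevE6 (h8sE6 b) r) := by
    intro c' hc'
    refine ⟨HT_mem hF b hb72 c' hc' (hadm c'), ?_⟩
    rw [HT_chi hF b hb72 c' hc' r hr, if_neg hbσ]
  simp only [List.mem_cons, List.not_mem_nil, or_false, Prod.mk.injEq] at hK
  rcases hK with ⟨h1, h2⟩ | ⟨h1, h2⟩ | ⟨h1, h2⟩ | ⟨h1, h2⟩
  · obtain ⟨hm, hchi⟩ := key c hc
    refine ⟨_, hm, ?_⟩
    rw [hchi, h1, h2]
    simp
  · obtain ⟨hm, hchi⟩ := key c⁻¹ (inv_ne_zero hc)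
    refine ⟨_, hm, ?_⟩
    rw [hchi, h1, h2]
    simp
  · obtain ⟨hm, hchi⟩ := key (c ^ q) (pow_ne_zero _ hc)
    refine ⟨_, hm, ?_⟩
    rw [hchi, h1, h2, hqq]
    simp
  · obtain ⟨hm, hchi⟩ := key (c ^ q)⁻¹ (inv_ne_zero (pow_ne_zero _ hc))
    refine ⟨_, hm, ?_⟩
    rw [hchi, h1, h2, inv_pow, hqq]
    simp

end Cfsg.Agent.Lib.helper3.T2E
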