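import Mathlib
import Cfsg.Agent.Lib.helper17.T3.DefsC
import Cfsg.Agent.Lib.helper3.SL2Mult
import Cfsg.Agent.Lib.helper23.CEUE1
import Cfsg.Agent.Lib.Helper13.T3CA3
import Cfsg.Agent.Lib.Helper21.T3CA1b
import Cfsg.Agent.Lib.Helper22.T3CA1c
import Cfsg.Agent.Lib.helper4.T3CH5

/-!
# Family T3 (S2110), project T3C (designer helper17), row D9 `Z3_tor` (helper9): CORE on the STATEMENT of E1 `LongLift.eqv`
(A3 A1b A1c H5 cited from main; own-name copies of the A1d facts `nm_nm_div_sq`, `sharp_nm_div_sq` and of D7 `Z3_map`).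
-/

set_option autoImplicit false

namespace Cfsg.Agent.Lib.helper17.T3

open Cfsg.Agent.Lib.helper15.St2 Cfsg.Agent.Lib.helper7.Ce Matrix

variable {F K : Type*} [Field F] [Field K] [Algebra F K]

/-- own-name copy of A1d `Cub.sharp_nm_div_sq` -/
theorem t3cd9_sharp_nm_div_sq (C : Cub F K) {u : K} (hu : u ≠ 0) :
    C.sharp (algebraMap F K (C.nm u) * u⁻¹ ^ 2) = u ^ 2 := by
  have h1 : C.θ u ≠ 0 := fun h => hu (by simpa using (map_eq_zero C.θ).mp h)
  have h2 : C.θ (C.θ u) ≠ 0 := fun h => h1 (by simpa using (map_eq_zero C.θ).mp h)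
  simp only [Cub.sharp, map_mul, map_pow, map_inv₀, C.hnm, C.θ3]
  field_simp

/-- own-name copy of A1d `Cub.nm_nm_div_sq` -/
theorem t3cd9_nm_nm_div_sq (C : Cub F K) {u : K} (hu : u ≠ 0) :
    C.nm (algebraMap F K (C.nm u) * u⁻¹ ^ 2) = C.nm u := by
  have h1 : C.θ u ≠ 0 := fun h => hu (by simpa using (map_eq_zero C.θ).mp h)
  have h2 : C.θ (C.θ u) ≠ 0 := fun h => h1 (by simpa using (map_eq_zero C.θ).mp h)
  apply (algebraMap F K).injective
  simp only [C.hnm, map_mul, map_pow, map_inv₀, C.θ3]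
  field_simp

variable {C : Cub F K} {G Γ : Type*} [Group G] [Group Γ]

section D

variable {S : SysT C G} {σ : Γ →* G} {L : ShortLift S σ}

/-- own-name copy of D7 `Z3_map` -/
theorem t3cd9_Z3_map (M : LongLift S σ L) (k : ZMod 6) (s : K) (c : F) : σ (Z3 L M k s c) = 1 := by
  unfold Z3 R3
  rw [map_mul, map_inv, map_cm, map_mul, map_mul, map_mul, L.map, L.map, L.map, M.map, M.map, M.map, S.sl,
    mul_inv_cancel]

/-- D9 on the statement of E1 `LongLift.eqv` -/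
theorem t3cd9_core [Finite K] (hC : C.Good) (h : IsCE σ) (hT : CLT S σ) (M : LongLift S σ L)
    (hE1 : ∀ (e : Γ) (k k' : ZMod 6) {a b : K} {c0 : F}, a ≠ 0 → b ≠ 0 → S.MapsPair (σ e) k k' a →
      S.MapsPair (σ e) (k + 1) (k' + 1) b → a * b = algebraMap F K c0 → ∀ c : F, cj e (M.Y k c) = M.Y k' (c0 * c))
    (k : ZMod 6) {l : K} (hl : l ≠ 0) (s : K) (c : F) : Z3 L M k (l * s) c = Z3 L M k s c := by
  obtain ⟨u, hu0, hul⟩ := C.exists_nm_div_sq l hl
  have hN0 : algebraMap F K (C.nm u) ≠ 0 := t3ch5helper4_nm_ne C hu0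
  have hu2 : u ^ 2 ≠ 0 := pow_ne_zero 2 hu0
  set e : Γ := lf h (S.hs (k + 1) u) with he
  have hσe : σ e = S.hs (k + 1) u := map_lf h _
  -- index arithmetic
  have i5 : k + 1 + 5 = k := by
    have : (1 : ZMod 6) + 5 = 0 := by decide
    rw [add_assoc, this, add_zero]
  have i0 : k + 1 + 0 = k + 1 := add_zero _
  have i1 : k + 1 + 1 = k + 2 := by
    have : (1 : ZMod 6) + 1 = 2 := by decide
    rw [add_assoc, this]
  have i2 : k + 1 + 2 = k + 2 + 1 := by
    have : (1 : ZMod 6) + 2 = 2 + 1 := by decide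
    rw [add_assoc, this, ← add_assoc]
  -- the four pairs
  have p0 : S.MapsPair (σ e) k k l := by
    have := S.hs_mapsPair (k + 1) 5 u hu0
    rw [i5] at this
    rw [hσe, ← hul]
    exact this
  have p1 : S.MapsPair (σ e) (k + 1) (k + 1) (u ^ 2) := by
    have := S.hs_mapsPair (k + 1) 0 u hu0
    rw [i0] at this
    rw [hσe]
    exact this
  have p2 : S.MapsPair (σ e) (k + 2) (k + 2) l := by
    have := S.hs_mapsPair (k + 1) 1 u hu0
    rw [i1] at this
    rw [hσe, ← hul]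
    exact this
  have p3 : S.MapsPair (σ e) (k + 2 + 1) (k + 2 + 1) (u ^ 2 * (algebraMap F K (C.nm u))⁻¹) := by
    have := S.hs_mapsPair (k + 1) 2 u hu0
    rw [i2] at this
    rw [hσe]
    exact this
  have hp3 : u ^ 2 * (algebraMap F K (C.nm u))⁻¹ ≠ 0 := mul_ne_zero hu2 (inv_ne_zero hN0)
  -- the action of `e`
  have hX0 : ∀ t, cj e (L.X k t) = L.X k (l * t) := L.eqv e k k l hl p0
  have hX1 : ∀ t, cj e (L.X (k + 1) t) = L.X (k + 1) (u ^ 2 * t) := L.eqv e (k + 1) (k + 1) (u ^ 2) hu2 p1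
  have hX2 : ∀ t, cj e (L.X (k + 2) t) = L.X (k + 2) (l * t) := L.eqv e (k + 2) (k + 2) l hl p2
  have hY0 : ∀ a, cj e (M.Y k a) = M.Y k (C.nm u * a) :=
    hE1 e k k hl hu2 p0 p1 (by rw [← hul]; field_simp)
  have hY1 : ∀ a, cj e (M.Y (k + 1) a) = M.Y (k + 1) (C.nm u * a) := by
    have q : S.MapsPair (σ e) (k + 1 + 1) (k + 1 + 1) l := by rw [i1]; exact p2
    exact hE1 e (k + 1) (k + 1) hu2 hl p1 q (by rw [← hul]; field_simp)
  have hY2 : ∀ a, cj e (M.Y (k + 2) a) = M.Y (k + 2) (1 * a) :=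
    hE1 e (k + 2) (k + 2) hl hp3 p2 p3 (by rw [← hul, map_one]; field_simp)
  -- the norm and the adjoint of `l`
  have hnl : C.nm l = C.nm u := by rw [← hul]; exact t3cd9_nm_nm_div_sq C hu0
  have hsl : C.sharp l = u ^ 2 := by rw [← hul]; exact t3cd9_sharp_nm_div_sq C hu0
  have hfix : cj e (Z3 L M k s c) = Z3 L M k s c := h.cj_of_map_one (t3cd9_Z3_map M k s c) e
  rw [← hfix]
  unfold Z3 R3
  rw [cj_mul, cj_cm, cj_inv, cj_mul, cj_mul, cj_mul, hX0, hX1, hX2, hY0, hY1, hY2, one_mul,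
    C.nm_mul, C.sharp_mul, hnl, hsl]
  have a1 : c * (C.nm u * C.nm s) = C.nm u * (c * C.nm s) := by ring
  have a2 : -(c • (u ^ 2 * C.sharp s)) = u ^ 2 * -(c • C.sharp s) := by
    simp only [Algebra.smul_def]; ring
  have a3 : c ^ 2 * (C.nm u * C.nm s) = C.nm u * (c ^ 2 * C.nm s) := by ring
  have a4 : -(c • (l * s)) = l * -(c • s) := by
    simp only [Algebra.smul_def]; ring
  rw [a1, a2, a3, a4]

end D

end Cfsg.Agent.Lib.helper17.T3
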