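import Mathlib
import Cfsg.Agent.Lib.helper17.T3.DefsC
import Cfsg.Agent.Lib.helper3.SL2Mult
import Cfsg.Agent.Lib.helper23.CEUE1
import Cfsg.Agent.Lib.helper15.T3CE1
import Cfsg.Agent.Lib.Helper9.T3CD9core

/-!
# Family T3 (S2110), project T3C (designer helper17), row D9 `Z3_tor` (helper9), verbatim from `helper17/T3/SkelC.lean.txt`
-/

set_option autoImplicit false

namespace Cfsg.Agent.Lib.helper17.T3

open Cfsg.Agent.Lib.helper15.St2 Cfsg.Agent.Lib.helper7.Ce Matrix

variable {F K : Type*} [Field F] [Field K] [Algebra F K]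

variable {C : Cub F K} {G Γ : Type*} [Group G] [Group Γ]

section D

variable {S : SysT C G} {σ : Γ →* G} {L : ShortLift S σ}

/-- [D9] [M] invariance under `e = lf h (S.hs (k+1) u)`, `algebraMap (nm u) * u⁻¹ ^ 2 = l`. -/
theorem Z3_tor [Finite K] (hC : C.Good) (h : IsCE σ) (hT : CLT S σ) (M : LongLift S σ L) (k : ZMod 6) {l : K} (hl : l ≠ 0) (s : K) (c : F) : Z3 L M k (l * s) c = Z3 L M k s c :=
  t3cd9_core hC h hT M (fun e k k' _ _ _ ha hb hk hk1 hab c => LongLift.eqv hC M e k k' ha hb hk hk1 hab c) k hl s c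

end D

end Cfsg.Agent.Lib.helper17.T3
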