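import Mathlib
import Cfsg.Agent.Lib.helper17.T3.DefsC
import Cfsg.Agent.Lib.helper3.SL2Mult
import Cfsg.Agent.Lib.helper23.CEUE1
import Cfsg.Agent.Lib.helper17.T3CD8
import Cfsg.Agent.Lib.helper23.T3CA6
import Cfsg.Agent.Lib.Helper9.T3CD9

/-!
# Family T3 (S2110), project T3C (designer helper17), row D10 `sl_up` (helper9): CORE on the STATEMENT of D6 `ss2_up`
(D8 `Z3_add_left`, D9 `Z3_tor`, A6 `card_K_facts`, `exists_sq_ne_one'` cited from main).
-/

set_option autoImplicit false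

namespace Cfsg.Agent.Lib.helper17.T3

open Cfsg.Agent.Lib.helper15.St2 Cfsg.Agent.Lib.helper7.Ce Matrix

variable {F K : Type*} [Field F] [Field K] [Algebra F K]

variable {C : Cub F K} {G Γ : Type*} [Group G] [Group Γ]

section D

variable {S : SysT C G} {σ : Γ →* G} {L : ShortLift S σ}

/-- D10 on the statement of D6 `ss2_up` -/
theorem t3cd10_core [Finite K] (hC : C.Good) (hcard : Nat.card K = Nat.card F ^ 3) (h : IsCE σ) (hT : CLT S σ) (M : LongLift S σ L)
    (hss2 : ∀ k s t, cm (L.X k s) (L.X (k + 2) t) = M.Y k (-(C.tr (C.sharp s * t))) * L.X (k + 1) (C.cross s t) * M.Y (k + 1) (C.tr (s * C.sharp t)))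
    (k : ZMod 6) (s : K) (c : F) :
    cm (L.X k s) (M.Y (k + 2) c) = M.Y k (c * C.nm s) * L.X (k + 1) (-(c • C.sharp s)) * M.Y (k + 1) (c ^ 2 * C.nm s) * L.X (k + 2) (-(c • s)) := by
  obtain ⟨h8, _⟩ := card_K_facts (F := F) (K := K) hcard
  obtain ⟨l, hl0, hl2⟩ := exists_sq_ne_one' (K := K) (by omega)
  have hl1 : l - 1 ≠ 0 := by
    intro h1
    apply hl2
    rw [sub_eq_zero.mp h1, one_pow]
  have hz : ∀ s' : K, Z3 L M k ((l - 1) * s') c = 1 := by
    intro s'
    have h1 := Z3_tor hC h hT M k hl0 s' c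
    have h2 := Z3_add_left h hT M hss2 k ((l - 1) * s') s' c
    rw [show (l - 1) * s' + s' = l * s' by ring, h1] at h2
    exact (right_eq_mul.mp h2)
  have h1 := hz ((l - 1)⁻¹ * s)
  rw [← mul_assoc, mul_inv_cancel₀ hl1, one_mul] at h1
  unfold Z3 R3 at h1
  exact mul_inv_eq_one.mp h1

end D

end Cfsg.Agent.Lib.helper17.T3
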