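import Mathlib
import Cfsg.Agent.Lib.helper17.T3.DefsC
import Cfsg.Agent.Lib.helper3.SL2Mult
import Cfsg.Agent.Lib.helper23.CEUE1
import Cfsg.Agent.Lib.Helper9.T3CD10core
import Cfsg.Agent.Lib.Helper24.T3CD6

/-!
# Family T3 (S2110), project T3C (designer helper17), row D10 `sl_up` (helper9), verbatim from `helper17/T3/SkelC.lean.txt`
-/

set_option autoImplicit false

namespace Cfsg.Agent.Lib.helper17.T3

open Cfsg.Agent.Lib.helper15.St2 Cfsg.Agent.Lib.helper7.Ce Matrix

variable {F K : Type*} [Field F] [Field K] [Algebra F K]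

variable {C : Cub F K} {G Γ : Type*} [Group G] [Group Γ]

section D

variable {S : SysT C G} {σ : Γ →* G} {L : ShortLift S σ}

/-- [D10] [S] -/
theorem sl_up [Finite K] (hC : C.Good) (hcard : Nat.card K = Nat.card F ^ 3) (h : IsCE σ) (hT : CLT S σ) (M : LongLift S σ L) (k : ZMod 6) (s : K) (c : F) :
    cm (L.X k s) (M.Y (k + 2) c) = M.Y k (c * C.nm s) * L.X (k + 1) (-(c • C.sharp s)) * M.Y (k + 1) (c ^ 2 * C.nm s) * L.X (k + 2) (-(c • s)) :=
  t3cd10_core hC hcard h hT M (fun k s t => ss2_up hC hcard h hT M k s t) k s c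

end D

end Cfsg.Agent.Lib.helper17.T3
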