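import Cfsg.Agent.Lib.helper23.TD4V.Defs
import Cfsg.Agent.Lib.helper8.ChevTwD4U
import Cfsg.Agent.Lib.helper8.ChevBNAll
import Cfsg.Agent.Lib.helper8.ChevOrdAll
import Cfsg.Agent.Lib.helper8.ChevCommAll
import Cfsg.Agent.Lib.helper8.ChevTw8

/-!
# TD4V row M2, parts 1 and 2 (`Xlevi_mem`, `Xlong_mem_Q`), and the core of part 3 (`Xlong_mem_Qm`)
-/

set_option autoImplicit false

namespace Cfsg.Agent.Lib.helper23.TD4V

open Cfsg.Lie Cfsg.Lie.ChevalleyDatum Matrix
open Cfsg.Agent.Lib.helper8 Cfsg.Agent.Lib.helper8.TD4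
open Cfsg.Agent.Lib.helper23.P4V

universe u v

/-- the roots `±β` lie in the root subsystem of `{1}` -/
theorem td4vm2_inRootSub (r : ℕ) (hr : r ∈ [14, 9]) : chevD4.InRootSub ({1} : Set ℕ) r := by
  simp only [List.mem_cons, List.mem_nil_iff, or_false] at hr
  unfold ChevalleyDatum.InRootSub
  rcases hr with rfl | rfl
  all_goals
    refine ⟨by decide, ?_⟩
    intro i hi hiJ
    have hi4 : i < 4 := hi
    have hi1 : i ≠ 1 := by
      intro h0
      apply hiJ
      rw [h0]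
      exact Set.mem_singleton _
    interval_cases i
    · decide
    · exact absurd rfl hi1
    · decide
    · decide

/-- the roots `±(3a+b)`, `±ρ` do not lie in the root subsystem of `{1}` -/
theorem td4vm2_not_inRootSub (r : ℕ) (hr : r ∈ [22, 23, 1, 0]) :
    ¬ chevD4.InRootSub ({1} : Set ℕ) r := by
  simp only [List.mem_cons, List.mem_nil_iff, or_false] at hr
  unfold ChevalleyDatum.InRootSub
  rcases hr with rfl | rfl | rfl | rfl
  all_goals
    intro h
    have := h.2 0 (by decide) (by simp)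
    revert this
    decide

theorem td4vm2_fixdata : (h8sD4 22 = 22 ∧ h8eD4 22 = 1) ∧ (h8sD4 23 = 23 ∧ h8eD4 23 = 1) ∧
    (h8sD4 1 = 1 ∧ h8eD4 1 = 1) ∧ (h8sD4 0 = 0 ∧ h8eD4 0 = 1) := by decide +kernel

section M

variable {K : Type u} [Field K] [Fintype K] (q : ℕ)

omit [Fintype K] in
/-- the root elements of the long roots with parameter in the fixed field are `Fr`-fixed -/
theorem td4vm2_Fr_fix (hA : H8ReflAll chevD4) (f : K ≃+* K) (hf : ∀ t, f t = t ^ q) (r : ℕ)
    (hr : r ∈ [22, 23, 1, 0]) (c : K) (hc : c ^ q = c) : Fr hA f (X r c) = X r c := by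
  obtain ⟨h22, h23, h1, h0⟩ := td4vm2_fixdata
  simp only [List.mem_cons, List.mem_nil_iff, or_false] at hr
  unfold Fr X
  rcases hr with rfl | rfl | rfl | rfl
  · rw [h8Sig_xU chevD4 _ _ _ _ _ (h8autD4 hA) f hB 22 (by decide), h22.1, h22.2, Int.cast_one,
      one_mul, hf, hc]
  · rw [h8Sig_xU chevD4 _ _ _ _ _ (h8autD4 hA) f hB 23 (by decide), h23.1, h23.2, Int.cast_one,
      one_mul, hf, hc]
  · rw [h8Sig_xU chevD4 _ _ _ _ _ (h8autD4 hA) f hB 1 (by decide), h1.1, h1.2, Int.cast_one,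
      one_mul, hf, hc]
  · rw [h8Sig_xU chevD4 _ _ _ _ _ (h8autD4 hA) f hB 0 (by decide), h0.1, h0.2, Int.cast_one,
      one_mul, hf, hc]

/-- **M2** [M] (all three).  `14`, `9`: `h8twD4_x1`.  `22`, `23` lie in `QK K` and are `Fr`-fixed (`h8sD4 22 = 22`, `h8sD4 23 = 23`, sign `+1`,
`f c = c`): U6; `1`, `0` lie in `QmK K` and are `Fr`-fixed: U7. -/
theorem Xlevi_mem (hq : IsPrimePow q) (hK : Fintype.card K = q ^ 3) (r : ℕ) (hr : r ∈ [14, 9]) (c : K)
    (hc : c ^ q = c) : X r c ∈ twistedD4 K q ∧ X r c ∈ LK K := by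
  refine ⟨h8twD4_x1 hB q r hr c hc, ?_⟩
  show X r c ∈ chevD4.leviSubgroup K ({1} : Set ℕ)
  unfold ChevalleyDatum.leviSubgroup
  apply Subgroup.mem_sup_right
  apply Subgroup.subset_closure
  exact ⟨r, c, td4vm2_inRootSub r hr, rfl⟩

theorem Xlong_mem_Q (hq : IsPrimePow q) (hK : Fintype.card K = q ^ 3) (r : ℕ) (hr : r ∈ [22, 23]) (c : K)
    (hc : c ^ q = c) : X r c ∈ Q K q := by
  have hD : chevD4 ∈ [chevG2, chevB2, chevD4, chevF4, chevE6, chevE7, chevE8] := by simp
  have hC := h8commAll.{u} chevD4 hD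
  have hA := h8reflAll chevD4 hD
  have hBN := h8bn_all chevD4 hD
  have hO2 := (h8ord_all chevD4 hD).2
  obtain ⟨f, hf, hfff3, hneg⟩ := h8frob_exists hq 3 (by norm_num) hK
  have hfff : ∀ t, f (f (f t)) = t := fun t => hfff3 t
  have hr4 : r ∈ [22, 23, 1, 0] := by
    simp only [List.mem_cons, List.mem_nil_iff, or_false] at hr ⊢
    rcases hr with rfl | rfl <;> simp
  have hpos : chevD4.IsPosRoot r := by
    simp only [List.mem_cons, List.mem_nil_iff, or_false] at hr
    rcases hr with rfl | rfl <;> decide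
  unfold Q
  refine Subgroup.mem_inf.mpr ⟨?_, ?_⟩
  · show X r c ∈ chevD4.unipotentRadical K ({1} : Set ℕ)
    unfold ChevalleyDatum.unipotentRadical
    apply Subgroup.subset_closure
    exact ⟨r, c, hpos, td4vm2_not_inRootSub r hr4, rfl⟩
  · apply h8twD4_U_fix hB hC hA hBN hO2 q f hf hfff hneg
    · unfold ChevalleyDatum.posUnipotent
      apply Subgroup.subset_closure
      exact ⟨r, c, hpos, rfl⟩
    · exact td4vm2_Fr_fix q hA f hf r hr4 c hc

/-- core of the third part of M2: from the statement of U7 (`QmK_fix_mem`). -/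
theorem td4vm2_core_Qm
    (hU7 : ∀ (hA : H8ReflAll chevD4) (f : K ≃+* K), (∀ t, f t = t ^ q) → ∀ g : GG K, g ∈ QmK K →
      Fr hA f g = g → g ∈ twistedD4 K q)
    (hq : IsPrimePow q) (hK : Fintype.card K = q ^ 3) (r : ℕ) (hr : r ∈ [1, 0]) (c : K)
    (hc : c ^ q = c) : X r c ∈ Qm K q := by
  have hD : chevD4 ∈ [chevG2, chevB2, chevD4, chevF4, chevE6, chevE7, chevE8] := by simp
  have hA := h8reflAll chevD4 hD
  obtain ⟨f, hf, hfff3, hneg⟩ := h8frob_exists hq 3 (by norm_num) hK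
  have hr4 : r ∈ [22, 23, 1, 0] := by
    simp only [List.mem_cons, List.mem_nil_iff, or_false] at hr ⊢
    rcases hr with rfl | rfl <;> simp
  have hneg' : chevD4.IsNegRoot r := by
    simp only [List.mem_cons, List.mem_nil_iff, or_false] at hr
    rcases hr with rfl | rfl <;> decide
  have hmem : X r c ∈ QmK K := by
    unfold QmK
    apply Subgroup.subset_closure
    exact ⟨r, c, hneg', td4vm2_not_inRootSub r hr4, rfl⟩
  unfold Qm
  exact Subgroup.mem_inf.mpr ⟨hmem, hU7 hA f hf _ hmem (td4vm2_Fr_fix q hA f hf r hr4 c hc)⟩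

end M

end Cfsg.Agent.Lib.helper23.TD4V
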