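import Cfsg.Agent.Lib.Helper9.TOOWG7core
import Cfsg.Agent.Lib.helper7.TOOWG4
import Cfsg.Agent.Lib.helper4.TOOWG3

set_option autoImplicit false
namespace Cfsg.Agent.Lib.Helper28.TOO

open Matrix
open scoped Kronecker
open Cfsg.Agent.Lib.helper7.TP Cfsg.Agent.Lib.Helper21.TS

variable {ι : Type*} [Fintype ι] [DecidableEq ι] {F : Type*} [Field F] {J : Matrix ι ι F}

theorem w1_all_of_two (h2 : (2 : F) ≠ 0) (hJ : Jᵀ = J) (hdet : J.det ≠ 0)
    (M : Subgroup (Matrix.GeneralLinearGroup ι F)) (hM : M ≤ Iso J) (p p' : ι → F)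
    (hp : bf J p p = 0) (hp' : bf J p' p' = 0) (hpp' : bf J p p' ≠ 0)
    (hX : ∀ v, bf J p v = 0 → InM M (sieg J p v)) (hX' : ∀ v, bf J p' v = 0 → InM M (sieg J p' v)) :
    ∀ s v : ι → F, bf J s s = 0 → bf J s v = 0 → InM M (sieg J s v) :=
  toowg7_core h2 hJ hdet (fun w₁ w₂ h11 h12 hind => w1_far_pair h2 hJ hdet w₁ w₂ h11 h12 hind)
    (fun p z s hp hz hs hzp hsp => w1_opp h2 hJ p z s hp hz hs hzp hsp) M hM p p' hp hp' hpp' hX hX'

end Cfsg.Agent.Lib.Helper28.TOO
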