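import Cfsg.Agent.Lib.Helper28.TOO.Defs
import Cfsg.Agent.Lib.helper6.TSSIEG

/-!
# Project TOO, row WG7 (helper9), core: two non-orthogonal singular points with full Siegel groups in `M` give all of them.
The rows WG3 (`w1_far_pair`) and WG4 (`w1_opp`) are hypotheses here; WG5b is proved inline (`toowg7_sieg_conj`).
-/

set_option autoImplicit false
set_option linter.unusedVariables false
set_option linter.unusedSectionVars false

namespace Cfsg.Agent.Lib.Helper28.TOO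

open Matrix
open scoped Kronecker
open Cfsg.Agent.Lib.helper7.TP Cfsg.Agent.Lib.Helper21.TS

variable {ι : Type*} [Fintype ι] [DecidableEq ι] {F : Type*} [Field F] {J : Matrix ι ι F}

/-- conjugation of Siegel elements by isometries (= row WG5b) -/
theorem toowg7_sieg_conj (g : Matrix.GeneralLinearGroup ι F) (hg : g ∈ Iso J) (p v : ι → F) :
    (g : Matrix ι ι F) * sieg J p v * ((g⁻¹ : Matrix.GeneralLinearGroup ι F) : Matrix ι ι F) =
      sieg J ((g : Matrix ι ι F) *ᵥ p) ((g : Matrix ι ι F) *ᵥ v) := by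
  have hbf := (mem_Iso_iff_bf J g).mp hg
  unfold sieg
  rw [Matrix.mul_sub, Matrix.mul_sub, Matrix.mul_add, Matrix.sub_mul, Matrix.sub_mul, Matrix.add_mul, Matrix.mul_one,
    ← Units.val_mul, mul_inv_cancel, Units.val_one, Matrix.mul_smul, Matrix.smul_mul, opm_conj g hg, opm_conj g hg,
    opm_conj g hg, hbf]

/-- rescaling a Siegel element -/
theorem toowg7_sieg_smul (c : F) (hc : c ≠ 0) (s v : ι → F) :
    sieg J (c • s) (c⁻¹ • v) = sieg J s v := by
  unfold sieg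
  rw [opm_smul_left, opm_smul_right, opm_smul_left, opm_smul_right, opm_smul_left, opm_smul_right, bf_smul_left,
    bf_smul_right, smul_smul, smul_smul, smul_smul, smul_smul]
  have h1 : c * c⁻¹ = 1 := mul_inv_cancel₀ hc
  have h2 : c⁻¹ * c = 1 := inv_mul_cancel₀ hc
  rw [h1, h2, one_smul, one_smul]
  congr 1
  congr 1
  field_simp

/-- Lemma A: an element of `M` moves good points to good points -/
theorem toowg7_move (M : Subgroup (Matrix.GeneralLinearGroup ι F)) (hM : M ≤ Iso J) (q s : ι → F)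
    (hq : ∀ v, bf J q v = 0 → InM M (sieg J q v)) (g : Matrix.GeneralLinearGroup ι F) (hg : g ∈ M) (c : F) (hc : c ≠ 0)
    (hgq : (g : Matrix ι ι F) *ᵥ q = c • s) : ∀ v, bf J s v = 0 → InM M (sieg J s v) := by
  intro v hv
  have hgI : g ∈ Iso J := hM hg
  have hbf := (mem_Iso_iff_bf J g).mp hgI
  have hgi : ∀ y, (g : Matrix ι ι F) *ᵥ (((g⁻¹ : Matrix.GeneralLinearGroup ι F) : Matrix ι ι F) *ᵥ y) = y := by
    intro y
    rw [Matrix.mulVec_mulVec, ← Units.val_mul, mul_inv_cancel, Units.val_one, Matrix.one_mulVec]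
  set v' : ι → F := c⁻¹ • (((g⁻¹ : Matrix.GeneralLinearGroup ι F) : Matrix ι ι F) *ᵥ v) with hv'
  have hgv' : (g : Matrix ι ι F) *ᵥ v' = c⁻¹ • v := by
    rw [hv', Matrix.mulVec_smul, hgi]
  have hqv' : bf J q v' = 0 := by
    rw [← hbf q v', hgq, hgv', bf_smul_left, bf_smul_right, hv, mul_zero, mul_zero]
  have h1 := (hq v' hqv').conj hg
  rw [toowg7_sieg_conj g hgI, hgq, hgv', toowg7_sieg_smul c hc] at h1
  exact h1

/-- WG7 with WG3 and WG4 as hypotheses -/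
theorem toowg7_core (h2 : (2 : F) ≠ 0) (hJ : Jᵀ = J) (hdet : J.det ≠ 0)
    (hWG3 : ∀ w₁ w₂ : ι → F, bf J w₁ w₁ = 0 → bf J w₁ w₂ = 0 →
      (∀ c₁ c₂ : F, c₁ • w₁ + c₂ • w₂ = 0 → c₁ = 0 ∧ c₂ = 0) →
      ∃ s : ι → F, bf J s s = 0 ∧ bf J s w₁ ≠ 0 ∧ bf J s w₂ ≠ 0)
    (hWG4 : ∀ p z s : ι → F, bf J p p = 0 → bf J z z = 0 → bf J s s = 0 → bf J p z ≠ 0 → bf J p s ≠ 0 →
      ∃ (y : ι → F) (c : F), bf J p y = 0 ∧ c ≠ 0 ∧ sieg J p y *ᵥ z = c • s)
    (M : Subgroup (Matrix.GeneralLinearGroup ι F)) (hM : M ≤ Iso J) (p p' : ι → F)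
    (hp : bf J p p = 0) (hp' : bf J p' p' = 0) (hpp' : bf J p p' ≠ 0)
    (hX : ∀ v, bf J p v = 0 → InM M (sieg J p v)) (hX' : ∀ v, bf J p' v = 0 → InM M (sieg J p' v)) :
    ∀ s v : ι → F, bf J s s = 0 → bf J s v = 0 → InM M (sieg J s v) := by
  -- Lemma B
  have hB : ∀ q q' : ι → F, bf J q q = 0 → bf J q' q' = 0 → bf J q q' ≠ 0 →
      (∀ v, bf J q v = 0 → InM M (sieg J q v)) → (∀ v, bf J q' v = 0 → InM M (sieg J q' v)) →
      ∀ s : ι → F, bf J s s = 0 → bf J q' s ≠ 0 → ∀ v, bf J s v = 0 → InM M (sieg J s v) := by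
    intro q q' hq hq' hqq' hgq hgq' s hs hq's
    have hq'q : bf J q' q ≠ 0 := by rw [bf_symm hJ]; exact hqq'
    obtain ⟨y, c, hy, hc, hyc⟩ := hWG4 q' q s hq' hq hs hq'q hq's
    obtain ⟨g, hg, hge⟩ := hgq' y hy
    exact toowg7_move M hM q s hgq g hg c hc (by rw [hge]; exact hyc)
  intro s v hs hsv
  by_cases hs0 : s = 0
  · subst hs0
    have h1 : sieg J (0 : ι → F) v = 1 := by
      rw [Matrix.ext_iff_mulVec]
      intro x
      rw [sieg_mulVec, Matrix.one_mulVec, bf_zero_left, smul_zero, zero_smul, mul_zero, zero_smul, add_zero, sub_zero,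
        sub_zero]
    rw [h1]
    exact InM_one M
  by_cases h1 : bf J p' s ≠ 0
  · exact hB p p' hp hp' hpp' hX hX' s hs h1 v hsv
  rw [not_not] at h1
  by_cases h3 : bf J p s ≠ 0
  · have hp'p : bf J p' p ≠ 0 := by rw [bf_symm hJ]; exact hpp'
    exact hB p' p hp' hp hp'p hX' hX s hs h3 v hsv
  rw [not_not] at h3
  -- `s ⊥ p, p'`
  have hind : ∀ c₁ c₂ : F, c₁ • p' + c₂ • s = 0 → c₁ = 0 ∧ c₂ = 0 := by
    intro c₁ c₂ h
    have h4 : bf J p (c₁ • p' + c₂ • s) = 0 := by rw [h, bf_zero_right]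
    rw [bf_add_right, bf_smul_right, bf_smul_right, h3, mul_zero, add_zero] at h4
    have hc1 : c₁ = 0 := by
      rcases mul_eq_zero.mp h4 with h5 | h5
      · exact h5
      · exact absurd h5 hpp'
    refine ⟨hc1, ?_⟩
    rw [hc1, zero_smul, zero_add] at h
    rcases smul_eq_zero.mp h with h5 | h5
    · exact h5
    · exact absurd h5 hs0
  obtain ⟨w₀, hw₀, hw₀p', hw₀s⟩ := hWG3 p' s hp' h1 hind
  have hp'w₀ : bf J p' w₀ ≠ 0 := by rw [bf_symm hJ]; exact hw₀p'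
  have hgw₀ : ∀ v, bf J w₀ v = 0 → InM M (sieg J w₀ v) := hB p p' hp hp' hpp' hX hX' w₀ hw₀ hp'w₀
  exact hB p' w₀ hp' hw₀ hp'w₀ hX' hgw₀ s hs hw₀s v hsv

end Cfsg.Agent.Lib.Helper28.TOO
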