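import Cfsg.Agent.Lib.Helper28.TOO.Defs
import Cfsg.Agent.Lib.helper6.TSSIEG
import Cfsg.Agent.Lib.Helper25.TOOTR1
import Cfsg.Agent.Lib.Helper28.OTrans
import Cfsg.Agent.Lib.helper6.Quad
import Cfsg.Agent.S0795

/-!
# Project TOO, row WG8 (helper9; SPARE copy under prefixed names - the row is helper23.TOOWG8): `Om J` is generated by the long root elements (transport of S0795).
-/

set_option autoImplicit false
set_option linter.unusedVariables false
set_option linter.unusedSectionVars false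

namespace Cfsg.Agent.Lib.Helper28.TOO

open Matrix
open scoped Kronecker
open Cfsg.Agent.Lib.helper7.TP Cfsg.Agent.Lib.Helper21.TS

section bridge

variable {ι : Type} [Fintype ι] [DecidableEq ι] {F : Type*} [Field F] {J : Matrix ι ι F}

/-- the bundled quadratic form `x ↦ f(x,x)/2`. -/
noncomputable def toowg8h9_Q (J : Matrix ι ι F) : QuadraticForm F (ι → F) :=
  (((2 : F)⁻¹) • Matrix.toBilin' J).toQuadraticMap

theorem toowg8h9_Q_apply (J : Matrix ι ι F) (x : ι → F) : toowg8h9_Q J x = bf J x x / 2 := by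
  unfold toowg8h9_Q
  rw [LinearMap.BilinMap.toQuadraticMap_apply, LinearMap.smul_apply, LinearMap.smul_apply,
    Matrix.toBilin'_apply', smul_eq_mul, div_eq_mul_inv, mul_comm]
  rfl

theorem toowg8h9_Q_coe (J : Matrix ι ι F) : ⇑(toowg8h9_Q J) = fun x : ι → F => bf J x x / 2 := by
  funext x
  exact toowg8h9_Q_apply J x

theorem toowg8h9_polar (h2 : (2 : F) ≠ 0) (hJ : Jᵀ = J) (x y : ι → F) :
    QuadraticMap.polar (⇑(toowg8h9_Q J)) x y = bf J x y := by
  unfold QuadraticMap.polar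
  rw [toowg8h9_Q_apply, toowg8h9_Q_apply, toowg8h9_Q_apply, tootr1_polar hJ]
  field_simp
  ring

theorem toowg8h9_nondeg (h2 : (2 : F) ≠ 0) (hJ : Jᵀ = J) (hdet : J.det ≠ 0) :
    (QuadraticMap.polarBilin (toowg8h9_Q J)).Nondegenerate := by
  constructor
  · intro x hx
    by_contra h0
    obtain ⟨y, hy⟩ := bf_nondeg hdet h0
    apply hy
    have := hx y
    rw [QuadraticMap.polarBilin_apply_apply, toowg8h9_polar h2 hJ] at this
    exact this
  · intro x hx
    by_contra h0
    obtain ⟨y, hy⟩ := bf_nondeg hdet h0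
    apply hy
    have := hx y
    rw [QuadraticMap.polarBilin_apply_apply, toowg8h9_polar h2 hJ, bf_symm hJ] at this
    exact this

/-- WG8 OMGEN [M-L]. -/
theorem toowg8h9_om_le_of_sieg [Fintype F] (h2 : (2 : F) ≠ 0) (hJ : Jᵀ = J) (hdet : J.det ≠ 0)
    (hn : 5 ≤ Fintype.card ι) (M : Subgroup (Matrix.GeneralLinearGroup ι F))
    (h : ∀ s v : ι → F, bf J s s = 0 → bf J v v = 0 → bf J s v = 0 → InM M (sieg J s v)) :
    Om J ≤ M := by
  classical
  set e : ι ≃ Fin (Fintype.card ι) := Fintype.equivFin ι with he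
  set Q' : QuadraticForm F (Fin (Fintype.card ι) → F) :=
    Cfsg.Agent.Lib.Lead.RI.qReindex e (toowg8h9_Q J) with hQ'
  have hQ'nd : (QuadraticMap.polarBilin Q').Nondegenerate :=
    Cfsg.Agent.Lib.Lead.RI.qReindex_nondeg e (toowg8h9_Q J) (toowg8h9_nondeg h2 hJ hdet)
  have hQ'app : ∀ x : Fin (Fintype.card ι) → F, Q' x = bf J (x ∘ e) (x ∘ e) / 2 := by
    intro x
    rw [hQ']
    show toowg8h9_Q J (x ∘ e) = _
    rw [toowg8h9_Q_apply]
  have hpol : ∀ x y : Fin (Fintype.card ι) → F,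
      QuadraticMap.polar (⇑Q') x y = bf J (x ∘ e) (y ∘ e) := by
    intro x y
    rw [← toowg8h9_polar h2 hJ]
    rfl
  have S := Cfsg.Agent.S0795.result h2 hn Q' hQ'nd
  have hmap : (Cfsg.Geo.omegaGL (⇑(toowg8h9_Q J))).map
      (Cfsg.Agent.Lib.Lead.RI.glReindex (F := F) e).toMonoidHom = Cfsg.Geo.omegaGL (⇑Q') :=
    Cfsg.Agent.Lib.Helper28.OTrans.map_omegaGL e (⇑(toowg8h9_Q J))
  have h1 : Cfsg.Geo.omegaGL (⇑Q') ≤
      M.map (Cfsg.Agent.Lib.Lead.RI.glReindex (F := F) e).toMonoidHom := by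
    unfold Cfsg.Geo.omegaGL
    rw [S, MonoidHom.map_closure, Subgroup.closure_le]
    rintro _ ⟨g, ⟨u, v, c, hu, hv, huv, hg⟩, rfl⟩
    obtain ⟨t, ht⟩ := (Cfsg.Agent.Lib.Lead.RI.glReindex (F := F) e).surjective
      (g : Matrix.GeneralLinearGroup (Fin (Fintype.card ι)) F)
    refine ⟨t, ?_, ht⟩
    -- `t` is the Siegel element `sieg J (c • v') u'`
    have hu' : bf J (u ∘ e) (u ∘ e) = 0 := by
      have := hu
      rw [hQ'app] at this
      have h3 := div_eq_zero_iff.mp this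
      rcases h3 with h3 | h3
      · exact h3
      · exact absurd h3 h2
    have hv' : bf J (v ∘ e) (v ∘ e) = 0 := by
      have := hv
      rw [hQ'app] at this
      have h3 := div_eq_zero_iff.mp this
      rcases h3 with h3 | h3
      · exact h3
      · exact absurd h3 h2
    have huv' : bf J (u ∘ e) (v ∘ e) = 0 := by
      rw [← hpol]; exact huv
    have hs1 : bf J (c • (v ∘ e)) (c • (v ∘ e)) = 0 := by
      rw [bf_smul_left, bf_smul_right, hv', mul_zero, mul_zero]
    have hs2 : bf J (c • (v ∘ e)) (u ∘ e) = 0 := by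
      rw [bf_smul_left, bf_symm hJ, huv', mul_zero]
    obtain ⟨t', ht'M, ht'⟩ := h (c • (v ∘ e)) (u ∘ e) hs1 hu' hs2
    have : t = t' := by
      apply Units.ext
      rw [ht', Matrix.ext_iff_mulVec]
      intro y
      have h4 := congrArg (fun A : Matrix.GeneralLinearGroup (Fin (Fintype.card ι)) F =>
        (A : Matrix (Fin (Fintype.card ι)) (Fin (Fintype.card ι)) F) *ᵥ (y ∘ e.symm)) ht
      beta_reduce at h4
      rw [Cfsg.Agent.Lib.Lead.RI.glReindex_coe, Cfsg.Agent.Lib.Lead.RI.reindex_mulVec, hg,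
        Cfsg.Agent.Lib.helper6.siegelMatrix_mulVec, hpol, hpol] at h4
      have e1 : (y ∘ e.symm) ∘ e = y := by funext i; simp
      rw [e1] at h4
      have h5 := congrArg (fun z => z ∘ e) h4
      beta_reduce at h5
      have e2 : ((((t : Matrix ι ι F) *ᵥ y) ∘ e.symm) ∘ e) = (t : Matrix ι ι F) *ᵥ y := by
        funext i; simp
      rw [e2] at h5
      rw [h5, sieg_mulVec, hu', bf_smul_left]
      funext i
      simp only [Function.comp_apply, Pi.add_apply, Pi.sub_apply, Pi.smul_apply, smul_eq_mul,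
        Equiv.symm_apply_apply]
      ring
    rw [this]
    exact ht'M
  rw [← hmap] at h1
  rw [← tr_omegaGL_eq_Om h2 hJ, ← toowg8h9_Q_coe]
  intro g hg
  obtain ⟨g0, hg0, h2'⟩ := h1 (Subgroup.mem_map_of_mem _ hg)
  have : g0 = g := (Cfsg.Agent.Lib.Lead.RI.glReindex (F := F) e).injective h2'
  rw [← this]
  exact hg0

end bridge

end Cfsg.Agent.Lib.Helper28.TOO
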