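import Cfsg.Agent.Lib.Helper9.TOOWT3core
import Cfsg.Agent.Lib.helper17.TOOWT2
import Cfsg.Agent.Lib.Helper11.TOOWX0
import Cfsg.Agent.Lib.helper14.TOOWG9
import Cfsg.Agent.Lib.helper14.TOOWG10

/-!
# Project TOO, row WT3 (helper9): `w1_th_full`, verbatim.
-/

set_option autoImplicit false
set_option linter.unusedVariables false
set_option linter.unusedSectionVars false

namespace Cfsg.Agent.Lib.Helper28.TOO

open Matrix
open scoped Kronecker
open Cfsg.Agent.Lib.helper7.TP Cfsg.Agent.Lib.Helper21.TS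

variable {a b : ℕ} {F : Type*} [Field F]
variable {J1 : Matrix (Fin a) (Fin a) F} {J2 : Matrix (Fin b) (Fin b) F}

theorem w1_th_full [Fintype F] (C : OCtx J1 J2) (ha : 3 ≤ a) (hb : 5 ≤ b)
    (M : Subgroup (Matrix.GeneralLinearGroup (Fin a × Fin b) F))
    (hXi : ∀ (ξ : Matrix (Fin a) (Fin a) F) (w : Fin b → F), SkewAdj J1 ξ → bf J2 w w = 0 →
      InM M (XBm J2 ξ w)) :
    ∀ (η : Matrix (Fin b) (Fin b) F) (u : Fin a → F), SkewAdj J2 η → bf J1 u u = 0 →
      InM M (XAm J1 u η) :=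
  toowt3_core C M
    (fun u hu0 hu w w' hw hw' hww' c => w1_th_comm C ha M hXi u hu0 hu w w' hw hw' hww' c)
    (fun Ξ h ξ hξ => w1_skew_span C.two C.sym2 C.det2 Ξ h ξ hξ)
    (fun u hu0 hu S h => w1_sing_span C.two C.sym2 C.det2 u hu0 hu S h)
    (w1_ex_sing C.two C.sym2 C.det2 (by omega))

end Cfsg.Agent.Lib.Helper28.TOO
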