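import Cfsg.Agent.Lib.Helper28.TOO.Defs
import Cfsg.Agent.Lib.helper6.TSSIEG
import Cfsg.Agent.Lib.helper7.TOOWG1

/-!
# Project TOO, row WT3 (helper9), core: all `1 + u u^* ⊗ η` lie in `M`.
The rows WT2, WG9, WG10, WX0 are hypotheses here (WG1 is imported).
-/

set_option autoImplicit false
set_option linter.unusedVariables false
set_option linter.unusedSectionVars false

namespace Cfsg.Agent.Lib.Helper28.TOO

open Matrix
open scoped Kronecker
open Cfsg.Agent.Lib.helper7.TP Cfsg.Agent.Lib.Helper21.TS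

section gen

variable {ι : Type*} [Fintype ι] [DecidableEq ι] {F : Type*} [Field F]

theorem toowt3_Nw_mulVec (J : Matrix ι ι F) (w₁ w₂ x : ι → F) :
    Nw J w₁ w₂ *ᵥ x = bf J w₂ x • w₁ - bf J w₁ x • w₂ := by
  rw [Nw, Matrix.sub_mulVec, opm_mulVec, opm_mulVec]

theorem toowt3_Nw_add_right (J : Matrix ι ι F) (w y y' : ι → F) :
    Nw J w (y + y') = Nw J w y + Nw J w y' := by
  rw [Matrix.ext_iff_mulVec]
  intro x
  rw [Matrix.add_mulVec, toowt3_Nw_mulVec, toowt3_Nw_mulVec, toowt3_Nw_mulVec, bf_add_left]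
  funext i
  simp only [Pi.add_apply, Pi.sub_apply, Pi.smul_apply, smul_eq_mul]
  ring

theorem toowt3_Nw_smul_right (J : Matrix ι ι F) (c : F) (w y : ι → F) :
    Nw J w (c • y) = c • Nw J w y := by
  rw [Matrix.ext_iff_mulVec]
  intro x
  rw [Matrix.smul_mulVec, toowt3_Nw_mulVec, toowt3_Nw_mulVec, bf_smul_left]
  funext i
  simp only [Pi.add_apply, Pi.sub_apply, Pi.smul_apply, smul_eq_mul]
  ring

theorem toowt3_Nw_add_left (J : Matrix ι ι F) (w w' y : ι → F) :
    Nw J (w + w') y = Nw J w y + Nw J w' y := by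
  rw [Matrix.ext_iff_mulVec]
  intro x
  rw [Matrix.add_mulVec, toowt3_Nw_mulVec, toowt3_Nw_mulVec, toowt3_Nw_mulVec, bf_add_left]
  funext i
  simp only [Pi.add_apply, Pi.sub_apply, Pi.smul_apply, smul_eq_mul]
  ring

theorem toowt3_Nw_smul_left (J : Matrix ι ι F) (c : F) (w y : ι → F) :
    Nw J (c • w) y = c • Nw J w y := by
  rw [Matrix.ext_iff_mulVec]
  intro x
  rw [Matrix.smul_mulVec, toowt3_Nw_mulVec, toowt3_Nw_mulVec, bf_smul_left]
  funext i
  simp only [Pi.add_apply, Pi.sub_apply, Pi.smul_apply, smul_eq_mul]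
  ring

theorem toowt3_Nw_self (J : Matrix ι ι F) (w : ι → F) : Nw J w w = 0 := by
  rw [Nw, sub_self]

theorem toowt3_Nw_zero_left (J : Matrix ι ι F) (y : ι → F) : Nw J 0 y = 0 := by
  rw [Matrix.ext_iff_mulVec]
  intro x
  rw [toowt3_Nw_mulVec, Matrix.zero_mulVec, smul_zero, bf_zero_left, zero_smul, sub_zero]

end gen

variable {a b : ℕ} {F : Type*} [Field F]
variable {J1 : Matrix (Fin a) (Fin a) F} {J2 : Matrix (Fin b) (Fin b) F}

/-- the subspace `Θ = {η | ∀ c, 1 + u u^* ⊗ c η ∈ M}` -/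
def toowt3_Theta (J1 : Matrix (Fin a) (Fin a) F) (M : Subgroup (Matrix.GeneralLinearGroup (Fin a × Fin b) F))
    (u : Fin a → F) (hu : bf J1 u u = 0) : Submodule F (Matrix (Fin b) (Fin b) F) where
  carrier := {η | ∀ c : F, InM M (XAm J1 u (c • η))}
  add_mem' := by
    intro η η' h h' c
    rw [smul_add, ← XAm_mul J1 u hu]
    exact (h c).mul (h' c)
  zero_mem' := by
    intro c
    rw [smul_zero, XAm_zero]
    exact InM_one M
  smul_mem' := by
    intro t η h c
    rw [smul_smul]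
    exact h (c * t)

theorem toowt3_mem_Theta (M : Subgroup (Matrix.GeneralLinearGroup (Fin a × Fin b) F))
    (u : Fin a → F) (hu : bf J1 u u = 0) (η : Matrix (Fin b) (Fin b) F) :
    η ∈ toowt3_Theta J1 M u hu ↔ ∀ c : F, InM M (XAm J1 u (c • η)) := Iff.rfl

/-- WT3 with WT2, WG9, WG10, WX0 (for `J2`) as hypotheses -/
theorem toowt3_core (C : OCtx J1 J2)
    (M : Subgroup (Matrix.GeneralLinearGroup (Fin a × Fin b) F))
    (hWT2 : ∀ (u : Fin a → F), u ≠ 0 → bf J1 u u = 0 → ∀ (w w' : Fin b → F), bf J2 w w = 0 →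
      bf J2 w' w' = 0 → bf J2 w w' ≠ 0 → ∀ c : F, InM M (XAm J1 u (c • Nw J2 w w')))
    (hWG9 : ∀ (Ξ : Submodule F (Matrix (Fin b) (Fin b) F)), (∀ x y : Fin b → F, Nw J2 x y ∈ Ξ) →
      ∀ ξ : Matrix (Fin b) (Fin b) F, SkewAdj J2 ξ → ξ ∈ Ξ)
    (hWG10 : ∀ (u : Fin b → F), u ≠ 0 → bf J2 u u = 0 → ∀ S : Submodule F (Fin b → F),
      (∀ s : Fin b → F, bf J2 s s = 0 → s ∈ S) → S = ⊤)
    (hWX0 : ∃ u : Fin b → F, u ≠ 0 ∧ bf J2 u u = 0) :
    ∀ (η : Matrix (Fin b) (Fin b) F) (u : Fin a → F), SkewAdj J2 η → bf J1 u u = 0 →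
      InM M (XAm J1 u η) := by
  intro η u hη hu
  by_cases hu0 : u = 0
  · subst hu0
    have h1 : XAm J1 (0 : Fin a → F) η = 1 := by
      have h0 : opm J1 (0 : Fin a → F) 0 = 0 := by
        rw [Matrix.ext_iff_mulVec]
        intro x
        rw [opm_mulVec, smul_zero, Matrix.zero_mulVec]
      rw [XAm, h0, Matrix.zero_kronecker, add_zero]
    rw [h1]
    exact InM_one M
  obtain ⟨u₂, hu₂0, hu₂⟩ := hWX0
  set Θ := toowt3_Theta J1 M u hu with hΘ
  -- step 1: `w ∧ w' ∈ Θ` for singular `w ≠ 0` and singular `w'`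
  have h1 : ∀ w w' : Fin b → F, w ≠ 0 → bf J2 w w = 0 → bf J2 w' w' = 0 → Nw J2 w w' ∈ Θ := by
    intro w w' hw0 hw hw'
    by_cases hww' : bf J2 w w' ≠ 0
    · exact fun c => hWT2 u hu0 hu w w' hw hw' hww' c
    rw [not_not] at hww'
    obtain ⟨ws, hws, hwws⟩ := w1_hyp_partner C.two C.sym2 C.det2 w hw0 hw
    set w'' : Fin b → F := w' + ws - bf J2 w' ws • w with hw''
    have hww'' : bf J2 w w'' = 1 := by
      rw [hw'', bf_sub_right, bf_add_right, bf_smul_right, hww', hwws, hw, mul_zero, zero_add, sub_zero]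
    have hw''s : bf J2 w'' w'' = 0 := by
      have e1 : bf J2 ws w' = bf J2 w' ws := bf_symm C.sym2 ws w'
      have e2 : bf J2 w' w = 0 := by rw [bf_symm C.sym2]; exact hww'
      have e3 : bf J2 ws w = 1 := by rw [bf_symm C.sym2]; exact hwws
      rw [hw'']
      simp only [bf_sub_left, bf_sub_right, bf_add_left, bf_add_right, bf_smul_left, bf_smul_right, hw, hw', hws,
        hww', hwws, e1, e2, e3]
      ring
    have e : Nw J2 w w' = Nw J2 w w'' - Nw J2 w ws := by
      have e0 : w'' = (w' + ws) + (-(bf J2 w' ws)) • w := by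
        rw [hw'', neg_smul, sub_eq_add_neg]
      rw [e0, toowt3_Nw_add_right, toowt3_Nw_add_right, toowt3_Nw_smul_right,
        toowt3_Nw_self, smul_zero, add_zero]
      abel
    rw [e]
    refine Θ.sub_mem ?_ ?_
    · exact fun c => hWT2 u hu0 hu w w'' hw hw''s (by rw [hww'']; exact one_ne_zero) c
    · exact fun c => hWT2 u hu0 hu w ws hw hws (by rw [hwws]; exact one_ne_zero) c
  -- step 2: `w ∧ y ∈ Θ` for singular `w` and all `y`
  have h2 : ∀ w : Fin b → F, bf J2 w w = 0 → ∀ y : Fin b → F, Nw J2 w y ∈ Θ := by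
    intro w hw y
    by_cases hw0 : w = 0
    · rw [hw0, toowt3_Nw_zero_left]
      exact Θ.zero_mem
    let S : Submodule F (Fin b → F) :=
      { carrier := {y | Nw J2 w y ∈ Θ}
        add_mem' := by
          intro y y' hy hy'
          show Nw J2 w (y + y') ∈ Θ
          rw [toowt3_Nw_add_right]
          exact Θ.add_mem hy hy'
        zero_mem' := by
          show Nw J2 w 0 ∈ Θ
          have : Nw J2 w (0 : Fin b → F) = 0 := by
            rw [← zero_smul F (0 : Fin b → F), toowt3_Nw_smul_right, zero_smul]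
          rw [this]
          exact Θ.zero_mem
        smul_mem' := by
          intro c y hy
          show Nw J2 w (c • y) ∈ Θ
          rw [toowt3_Nw_smul_right]
          exact Θ.smul_mem c hy }
    have hS : S = ⊤ := hWG10 u₂ hu₂0 hu₂ S (fun s hs => h1 w s hw0 hw hs)
    have : y ∈ S := by rw [hS]; exact Submodule.mem_top
    exact this
  -- step 3: `x ∧ y ∈ Θ` for all `x, y`
  have h3 : ∀ x y : Fin b → F, Nw J2 x y ∈ Θ := by
    intro x y
    let S : Submodule F (Fin b → F) :=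
      { carrier := {x | ∀ y, Nw J2 x y ∈ Θ}
        add_mem' := by
          intro x x' hx hx' y
          rw [toowt3_Nw_add_left]
          exact Θ.add_mem (hx y) (hx' y)
        zero_mem' := by
          intro y
          rw [toowt3_Nw_zero_left]
          exact Θ.zero_mem
        smul_mem' := by
          intro c x hx y
          rw [toowt3_Nw_smul_left]
          exact Θ.smul_mem c (hx y) }
    have hS : S = ⊤ := hWG10 u₂ hu₂0 hu₂ S (fun s hs => h2 s hs)
    have : x ∈ S := by rw [hS]; exact Submodule.mem_top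
    exact this y
  have h4 := hWG9 Θ h3 η hη 1
  rw [one_smul] at h4
  exact h4

end Cfsg.Agent.Lib.Helper28.TOO
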