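import Cfsg.Agent.Lib.helper7.TO.Basic

/-!
# Project TO (S5704), piece STABA2 : `stabA_two`

For `a = 2`: an element of `M` mapping an `A`-line `u ⊗ B` into an `A`-line lies in `K0`
(under `UnipA M`).
-/

set_option autoImplicit false
set_option linter.unusedVariables false
set_option linter.unusedSectionVars false

namespace Cfsg.Agent.Lib.helper7.TO

open Matrix Cfsg.Agent.Lib.helper7.TP Cfsg.Agent.Lib.Helper28.SympAbs
open scoped Kronecker

variable {a b : ℕ} {F : Type*} [Field F]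

/-! ## general helpers -/

/-- `y ↦ ctrA φ (G (u ⊗ y))` as a linear map -/
def tostaba2_lin (G : Matrix (Fin a × Fin b) (Fin a × Fin b) F) (φ u : Fin a → F) :
    (Fin b → F) →ₗ[F] (Fin b → F) where
  toFun y := ctrA φ (G *ᵥ ten u y)
  map_add' y y' := by rw [ten_add_right, Matrix.mulVec_add, ctrA_add]
  map_smul' c y := by
    rw [ten_smul_right, Matrix.mulVec_smul, ctrA_smul]
    rfl

/-- the matrix of `y ↦ ctrA φ (G (u ⊗ y))` -/
noncomputable def tostaba2_mat (G : Matrix (Fin a × Fin b) (Fin a × Fin b) F) (φ u : Fin a → F) :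
    Matrix (Fin b) (Fin b) F :=
  LinearMap.toMatrix' (tostaba2_lin G φ u)

theorem tostaba2_mat_mulVec (G : Matrix (Fin a × Fin b) (Fin a × Fin b) F) (φ u : Fin a → F)
    (y : Fin b → F) : tostaba2_mat G φ u *ᵥ y = ctrA φ (G *ᵥ ten u y) := by
  rw [tostaba2_mat, LinearMap.toMatrix'_mulVec]
  rfl

/-- a matrix with trivial kernel is a unit -/
theorem tostaba2_isUnit {n : ℕ} (μ : Matrix (Fin n) (Fin n) F)
    (h : ∀ y : Fin n → F, μ *ᵥ y = 0 → y = 0) : IsUnit μ.det := by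
  rw [← Matrix.isUnit_iff_isUnit_det, ← Matrix.mulVec_injective_iff_isUnit]
  intro y y' hyy
  have h1 : μ *ᵥ (y - y') = 0 := by
    rw [Matrix.mulVec_sub]
    exact sub_eq_zero.2 hyy
  exact sub_eq_zero.1 (h _ h1)

/-- an element of `GL` acting on pure tensors as `α ⊗ μ` lies in `K0` -/
theorem tostaba2_mem_K0 (ha : 0 < a) (hb : 0 < b)
    (g : Matrix.GeneralLinearGroup (Fin a × Fin b) F) (α : Matrix (Fin a) (Fin a) F)
    (μ : Matrix (Fin b) (Fin b) F)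
    (h : ∀ (x : Fin a → F) (y : Fin b → F),
      (g : Matrix (Fin a × Fin b) (Fin a × Fin b) F) *ᵥ ten x y = ten (α *ᵥ x) (μ *ᵥ y)) :
    g ∈ K0 a b F := by
  classical
  have hinj : ∀ v : Fin a × Fin b → F,
      (g : Matrix (Fin a × Fin b) (Fin a × Fin b) F) *ᵥ v = 0 → v = 0 := by
    intro v hv
    have := Ctx.inv_mulVec_mulVec g v
    rw [hv, Matrix.mulVec_zero] at this
    exact this.symm
  have ha0 : (Pi.single (⟨0, ha⟩ : Fin a) (1 : F) : Fin a → F) ≠ 0 := by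
    intro h0
    have := congrFun h0 ⟨0, ha⟩
    simp at this
  have hb0 : (Pi.single (⟨0, hb⟩ : Fin b) (1 : F) : Fin b → F) ≠ 0 := by
    intro h0
    have := congrFun h0 ⟨0, hb⟩
    simp at this
  have hα : IsUnit α.det := by
    apply tostaba2_isUnit
    intro x hx
    have h1 := h x (Pi.single ⟨0, hb⟩ 1)
    rw [hx, ten_zero_left] at h1
    rcases ten_eq_zero (hinj _ h1) with h2 | h2
    · exact h2
    · exact absurd h2 hb0
  have hμ : IsUnit μ.det := by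
    apply tostaba2_isUnit
    intro y hy
    have h1 := h (Pi.single ⟨0, ha⟩ 1) y
    rw [hy, ten_zero_right] at h1
    rcases ten_eq_zero (hinj _ h1) with h2 | h2
    · exact absurd h2 ha0
    · exact h2
  rw [mem_K0]
  refine ⟨Matrix.GeneralLinearGroup.mk'' α hα, Matrix.GeneralLinearGroup.mk'' μ hμ, ?_⟩
  apply mat_ext_ten
  intro x y
  rw [h, kron_mulVec_ten]
  rfl

/-! ## the plane `A = F²` -/

theorem tostaba2_f₁_two (C : Ctx 2 b F) (x y : Fin 2 → F) :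
    C.f₁ x y = C.f₁ (Pi.single 0 1) (Pi.single 1 1) * (x 0 * y 1 - x 1 * y 0) := by
  have hx : x = x 0 • (Pi.single 0 1 : Fin 2 → F) + x 1 • (Pi.single 1 1 : Fin 2 → F) := by
    funext i
    fin_cases i <;> simp
  have hy : y = y 0 • (Pi.single 0 1 : Fin 2 → F) + y 1 • (Pi.single 1 1 : Fin 2 → F) := by
    funext i
    fin_cases i <;> simp
  have hsk := C.hf₁.skew (Pi.single 1 1) (Pi.single 0 1)
  conv_lhs => rw [hx, hy]
  simp only [C.hf₁.bilinear.add_left, C.hf₁.bilinear.add_right, C.hf₁.bilinear.smul_left,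
    C.hf₁.bilinear.smul_right, C.hf₁.alternating, hsk]
  ring

/-- coordinates with respect to a hyperbolic pair of `F²` -/
theorem tostaba2_decomp (C : Ctx 2 b F) (u u₂ : Fin 2 → F) (h : C.f₁ u u₂ = 1) (x : Fin 2 → F) :
    x = C.f₁ x u₂ • u - C.f₁ x u • u₂ := by
  rw [tostaba2_f₁_two C x u₂, tostaba2_f₁_two C x u]
  rw [tostaba2_f₁_two C u u₂] at h
  funext i
  fin_cases i
  · simp only [Fin.zero_eta, Fin.isValue, Pi.sub_apply, Pi.smul_apply, smul_eq_mul]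
    linear_combination (-(x 0)) * h
  · simp only [Fin.mk_one, Fin.isValue, Pi.sub_apply, Pi.smul_apply, smul_eq_mul]
    linear_combination (-(x 1)) * h

theorem tostaba2_ten_decomp (C : Ctx 2 b F) (u u₂ : Fin 2 → F) (h : C.f₁ u u₂ = 1) (x : Fin 2 → F)
    (y : Fin b → F) : ten x y = C.f₁ x u₂ • ten u y - C.f₁ x u • ten u₂ y := by
  conv_lhs => rw [tostaba2_decomp C u u₂ h x]
  rw [ten_sub_left, ten_smul_left, ten_smul_left]

/-- every vector of `V` in terms of its two contractions -/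
theorem tostaba2_vec_decomp (C : Ctx 2 b F) (u u₂ : Fin 2 → F) (h : C.f₁ u u₂ = 1)
    (X : Fin 2 × Fin b → F) :
    X = ten u (ctrA (C.fl₁ u₂) X) - ten u₂ (ctrA (C.fl₁ u) X) := by
  have key : ∀ (x : Fin 2 → F) (y : Fin b → F),
      ten x y = ten u (ctrA (C.fl₁ u₂) (ten x y)) - ten u₂ (ctrA (C.fl₁ u) (ten x y)) := by
    intro x y
    rw [C.ctrA_fl₁_ten, C.ctrA_fl₁_ten, ten_smul_right, ten_smul_right]
    exact tostaba2_ten_decomp C u u₂ h x y
  have hsum : ∀ (s : Finset (Fin 2)) (g : Fin 2 → (Fin 2 × Fin b → F)),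
      (∀ i, g i = ten u (ctrA (C.fl₁ u₂) (g i)) - ten u₂ (ctrA (C.fl₁ u) (g i))) →
      (∑ i ∈ s, g i) = ten u (ctrA (C.fl₁ u₂) (∑ i ∈ s, g i)) -
        ten u₂ (ctrA (C.fl₁ u) (∑ i ∈ s, g i)) := by
    intro s g hg
    classical
    induction s using Finset.induction_on with
    | empty =>
      have h0 : ∀ φ : Fin 2 → F, ctrA φ (0 : Fin 2 × Fin b → F) = 0 := by
        intro φ
        funext j
        simp [ctrA]
      simp only [Finset.sum_empty, h0, ten_zero_right, sub_zero]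
    | insert k s hk ih =>
      rw [Finset.sum_insert hk, ctrA_add, ctrA_add, ten_add_right, ten_add_right]
      conv_lhs => rw [ih, hg k]
      abel
  conv_lhs => rw [eq_sum_ten X]
  rw [hsum Finset.univ _ (fun i => key _ _), ← eq_sum_ten X]

/-- the shape lemma: a matrix fixing `u ⊗ B` pointwise and acting trivially modulo `u ⊗ B`
is `1 + u u* ⊗ η` -/
theorem tostaba2_shape (C : Ctx 2 b F) (u u₂ : Fin 2 → F) (h : C.f₁ u u₂ = 1)
    (T : Matrix (Fin 2 × Fin b) (Fin 2 × Fin b) F)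
    (h1 : ∀ y : Fin b → F, T *ᵥ ten u y = ten u y)
    (h2 : ∀ y : Fin b → F, ∃ z : Fin b → F, T *ᵥ ten u₂ y = ten u₂ y + ten u z) :
    ∃ η : Matrix (Fin b) (Fin b) F, T = ERm η u (C.fl₁ u) ∧
      ∀ y : Fin b → F, T *ᵥ ten u₂ y = ten u₂ y - ten u (η *ᵥ y) := by
  have hu₂u : C.f₁ u₂ u = -1 := by rw [C.hf₁.skew, h]
  refine ⟨-tostaba2_mat T (C.fl₁ u₂) u₂, ?_, ?_⟩
  · apply mat_ext_ten
    intro x y
    obtain ⟨z, hz⟩ := h2 y
    rw [ERm_mulVec, C.ctrA_fl₁_ten, Matrix.mulVec_smul, Matrix.neg_mulVec, tostaba2_mat_mulVec, hz,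
      ctrA_add, C.ctrA_fl₁_ten, C.ctrA_fl₁_ten, C.hf₁.alternating, h, zero_smul, one_smul, zero_add]
    conv_lhs => rw [tostaba2_ten_decomp C u u₂ h x y]
    rw [Matrix.mulVec_sub, Matrix.mulVec_smul, Matrix.mulVec_smul, h1, hz, ten_smul_right, ten_neg_right]
    conv_rhs => rw [tostaba2_ten_decomp C u u₂ h x y]
    module
  · intro y
    obtain ⟨z, hz⟩ := h2 y
    rw [Matrix.neg_mulVec, tostaba2_mat_mulVec, hz, ctrA_add, C.ctrA_fl₁_ten, C.ctrA_fl₁_ten,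
      C.hf₁.alternating, h, zero_smul, one_smul, zero_add, ten_neg_right, sub_neg_eq_add]

/-! ## two small facts of linear algebra -/

/-- two linear forms on `F^b`, `b ≥ 3`, have a common non-zero zero -/
theorem tostaba2_common_zero {n : ℕ} {f : (Fin n → F) → (Fin n → F) → F}
    (hf : Cfsg.Geo.IsSymplecticForm f) (hn : 3 ≤ n) (v₁ v₂ : Fin n → F) :
    ∃ y : Fin n → F, y ≠ 0 ∧ f y v₁ = 0 ∧ f y v₂ = 0 := by
  let L : (Fin n → F) →ₗ[F] (Fin 2 → F) :=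
    { toFun := fun y => ![f y v₁, f y v₂]
      map_add' := by
        intro y y'
        funext i
        fin_cases i
        · simp [hf.bilinear.add_left]
        · simp [hf.bilinear.add_left]
      map_smul' := by
        intro c y
        funext i
        fin_cases i
        · simp [hf.bilinear.smul_left]
        · simp [hf.bilinear.smul_left] }
  have hker : LinearMap.ker L ≠ ⊥ := by
    intro hbot
    have hinj : Function.Injective L := LinearMap.ker_eq_bot.mp hbot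
    have h1 := LinearMap.finrank_le_finrank_of_injective hinj
    rw [Module.finrank_fin_fun, Module.finrank_fin_fun] at h1
    omega
  obtain ⟨y, hy, hy0⟩ := Submodule.exists_mem_ne_zero_of_ne_bot hker
  refine ⟨y, hy0, ?_, ?_⟩
  · have := congrFun (LinearMap.mem_ker.mp hy) 0
    simpa [L] using this
  · have := congrFun (LinearMap.mem_ker.mp hy) 1
    simpa [L] using this

/-- if `P w ∈ F (μ w)` for all `w` and `μ` is injective then `P = s μ` -/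
theorem tostaba2_prop {n : ℕ} (P μ : Matrix (Fin n) (Fin n) F)
    (hμ : ∀ y : Fin n → F, μ *ᵥ y = 0 → y = 0)
    (h : ∀ w : Fin n → F, ∃ l : F, P *ᵥ w = l • (μ *ᵥ w)) :
    ∃ s : F, ∀ y : Fin n → F, P *ᵥ y = s • (μ *ᵥ y) := by
  classical
  choose l hl using h
  by_cases hn : 0 < n
  · have hall : ∀ k k' : Fin n, l (Pi.single k 1) = l (Pi.single k' 1) := by
      intro k k'
      by_cases hkk : k = k'
      · rw [hkk]
      have h1 := hl (Pi.single k 1 + Pi.single k' 1)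
      rw [Matrix.mulVec_add, Matrix.mulVec_add, hl, hl] at h1
      have h2 : μ *ᵥ ((l (Pi.single k 1) - l (Pi.single k 1 + Pi.single k' 1)) • Pi.single k 1 +
          (l (Pi.single k' 1) - l (Pi.single k 1 + Pi.single k' 1)) • Pi.single k' 1) = 0 := by
        rw [Matrix.mulVec_add, Matrix.mulVec_smul, Matrix.mulVec_smul]
        linear_combination (norm := module) h1
      have h3 := hμ _ h2
      have h4 := congrFun h3 k
      have h5 := congrFun h3 k'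
      simp only [Pi.add_apply, Pi.smul_apply, Pi.single_apply, smul_eq_mul, Pi.zero_apply, hkk,
        Ne.symm hkk, if_true, if_false, mul_one, mul_zero, add_zero, zero_add] at h4 h5
      rw [sub_eq_zero.mp h4, sub_eq_zero.mp h5]
    refine ⟨l (Pi.single ⟨0, hn⟩ 1), ?_⟩
    have hmat : P = l (Pi.single ⟨0, hn⟩ 1) • μ := by
      ext i k
      have h1 := congrFun (hl (Pi.single k 1)) i
      rw [Matrix.mulVec_single_one, Matrix.mulVec_single_one, hall k ⟨0, hn⟩] at h1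
      simpa using h1
    intro y
    rw [hmat, Matrix.smul_mulVec]
  · refine ⟨0, ?_⟩
    intro y
    funext i
    exact absurd i.pos (by omega)

/-! ## the main lemma: the case `u' = u` -/

theorem tostaba2_same (C : Ctx 2 b F) (hb : 3 ≤ b)
    (M : Subgroup (Matrix.GeneralLinearGroup (Fin 2 × Fin b) F)) (hT : C.T1 ≤ M) (hG : M ≤ C.G)
    (hU : C.UnipA M) (g : Matrix.GeneralLinearGroup (Fin 2 × Fin b) F) (hg : g ∈ M)
    (u : Fin 2 → F) (hu : u ≠ 0)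
    (h : ∀ y : Fin b → F, ∃ y' : Fin b → F,
      (g : Matrix (Fin 2 × Fin b) (Fin 2 × Fin b) F) *ᵥ ten u y = ten u y') :
    g ∈ K0 2 b F := by
  classical
  obtain ⟨G, hGdef⟩ : ∃ G : Matrix (Fin 2 × Fin b) (Fin 2 × Fin b) F,
      (g : Matrix (Fin 2 × Fin b) (Fin 2 × Fin b) F) = G := ⟨_, rfl⟩
  obtain ⟨Gi, hGidef⟩ : ∃ Gi : Matrix (Fin 2 × Fin b) (Fin 2 × Fin b) F,
      ((g⁻¹ : Matrix.GeneralLinearGroup (Fin 2 × Fin b) F) :
        Matrix (Fin 2 × Fin b) (Fin 2 × Fin b) F) = Gi := ⟨_, rfl⟩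
  have hGGi : ∀ v : Fin 2 × Fin b → F, G *ᵥ (Gi *ᵥ v) = v := by
    intro v
    rw [← hGdef, ← hGidef]
    exact Ctx.mulVec_inv_mulVec g v
  have hGiG : ∀ v : Fin 2 × Fin b → F, Gi *ᵥ (G *ᵥ v) = v := by
    intro v
    rw [← hGdef, ← hGidef]
    exact Ctx.inv_mulVec_mulVec g v
  have hgG : g ∈ C.G := hG hg
  have hGf : ∀ x y : Fin 2 × Fin b → F, C.f (G *ᵥ x) (G *ᵥ y) = C.f x y := by
    intro x y
    rw [← hGdef]
    exact C.G_f hgG x y
  -- the partner `u₂`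
  obtain ⟨x₀, hx₀⟩ := (C.hf₁.nondegenerate u hu).2
  obtain ⟨u₂, hu₂def⟩ : ∃ u₂ : Fin 2 → F, u₂ = (C.f₁ u x₀)⁻¹ • x₀ := ⟨_, rfl⟩
  have huu₂ : C.f₁ u u₂ = 1 := by
    rw [hu₂def, C.hf₁.bilinear.smul_right, inv_mul_cancel₀ hx₀]
  have hu₂u : C.f₁ u₂ u = -1 := by rw [C.hf₁.skew, huu₂]
  -- `μ`
  obtain ⟨μ, hμdef⟩ : ∃ μ : Matrix (Fin b) (Fin b) F, μ = tostaba2_mat G (C.fl₁ u₂) u := ⟨_, rfl⟩
  have hμ : ∀ y : Fin b → F, G *ᵥ ten u y = ten u (μ *ᵥ y) := by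
    intro y
    obtain ⟨y', hy'⟩ := h y
    rw [hGdef] at hy'
    rw [hμdef, tostaba2_mat_mulVec, hy', C.ctrA_fl₁_ten, huu₂, one_smul]
  have hμinj : ∀ y : Fin b → F, μ *ᵥ y = 0 → y = 0 := by
    intro y hy
    have h1 := hμ y
    rw [hy, ten_zero_right] at h1
    have h2 := hGiG (ten u y)
    rw [h1, Matrix.mulVec_zero] at h2
    rcases ten_eq_zero h2.symm with h3 | h3
    · exact absurd h3 hu
    · exact h3
  have hμdet : IsUnit μ.det := tostaba2_isUnit μ hμinj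
  obtain ⟨μi, hμidef⟩ : ∃ μi : Matrix (Fin b) (Fin b) F, μi = μ⁻¹ := ⟨_, rfl⟩
  have hμμi : ∀ z : Fin b → F, μ *ᵥ (μi *ᵥ z) = z := by
    intro z
    rw [hμidef, Matrix.mulVec_mulVec, Matrix.mul_nonsing_inv μ hμdet, Matrix.one_mulVec]
  have hμiμ : ∀ z : Fin b → F, μi *ᵥ (μ *ᵥ z) = z := by
    intro z
    rw [hμidef, Matrix.mulVec_mulVec, Matrix.nonsing_inv_mul μ hμdet, Matrix.one_mulVec]
  -- `P`, `R`
  obtain ⟨P, hPdef⟩ : ∃ P : Matrix (Fin b) (Fin b) F, P = tostaba2_mat G (C.fl₁ u₂) u₂ := ⟨_, rfl⟩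
  obtain ⟨R, hRdef⟩ : ∃ R : Matrix (Fin b) (Fin b) F, R = -tostaba2_mat G (C.fl₁ u) u₂ := ⟨_, rfl⟩
  have hPR : ∀ y : Fin b → F, G *ᵥ ten u₂ y = ten u (P *ᵥ y) + ten u₂ (R *ᵥ y) := by
    intro y
    rw [hPdef, hRdef, Matrix.neg_mulVec, tostaba2_mat_mulVec, tostaba2_mat_mulVec, ten_neg_right,
      ← sub_eq_add_neg]
    exact tostaba2_vec_decomp C u u₂ huu₂ _
  -- the adjoint of `μ`
  obtain ⟨A, hAdef⟩ : ∃ A : Matrix (Fin b) (Fin b) F, A = C.adj₂ μ := ⟨_, rfl⟩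
  have hA : ∀ z y' : Fin b → F, C.f₂ z (μ *ᵥ y') = C.f₂ (A *ᵥ z) y' := by
    intro z y'
    rw [C.hf₂.skew z, C.f₂_adj, ← hAdef, C.hf₂.skew y', neg_neg]
  -- UnipA for `g (τ_u ⊗ 1) g⁻¹`
  have ht₁M : g * C.tvA u 1 * g⁻¹ ∈ M :=
    M.mul_mem (M.mul_mem hg (hT (C.tvA_mem_T1 u 1))) (M.inv_mem hg)
  have hctr : ∀ X : Fin 2 × Fin b → F,
      ctrA (C.fl₁ u) (Gi *ᵥ X) = A *ᵥ ctrA (C.fl₁ u) X := by
    intro X
    by_contra hne
    obtain ⟨y', hy'⟩ := (C.hf₂.nondegenerate _ (sub_ne_zero.mpr hne)).2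
    apply hy'
    have e1 : C.f₂ (ctrA (C.fl₁ u) (Gi *ᵥ X)) y' = C.f X (G *ᵥ ten u y') := by
      rw [← C.f_ten_right_A, ← hGidef, C.G_f_inv hgG, hGdef]
    have e2 : C.f₂ (A *ᵥ ctrA (C.fl₁ u) X) y' = C.f X (G *ᵥ ten u y') := by
      rw [← hA, ← C.f_ten_right_A, hμ]
    rw [f_sub_left C.hf₂, e1, e2, sub_self]
  have ht₁ : ((g * C.tvA u 1 * g⁻¹ : Matrix.GeneralLinearGroup (Fin 2 × Fin b) F) :
      Matrix (Fin 2 × Fin b) (Fin 2 × Fin b) F) = ERm (μ * A) u (C.fl₁ u) := by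
    rw [Matrix.ext_iff_mulVec]
    intro X
    rw [Units.val_mul, Units.val_mul, hGdef, hGidef, ← Matrix.mulVec_mulVec,
      ← Matrix.mulVec_mulVec, Ctx.tvA, ER_coe, ERm_mulVec, ERm_mulVec, Matrix.mulVec_add, hGGi,
      Matrix.smul_mulVec, Matrix.one_mulVec, one_smul, hμ, hctr, Matrix.mulVec_mulVec]
  obtain ⟨c, hc⟩ := hU _ ht₁M u (μ * A) hu ht₁
  -- `R = c⁻¹ μ`
  have hμR : ∀ y y' : Fin b → F, C.f₂ (μ *ᵥ y) (R *ᵥ y') = C.f₂ y y' := by
    intro y y'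
    have h1 := hGf (ten u y) (ten u₂ y')
    rw [hμ, hPR, C.hf.add_right, C.f_ten, C.f_ten, C.f_ten, C.hf₁.alternating, huu₂, zero_mul,
      zero_add, one_mul, one_mul] at h1
    exact h1
  have hAR : ∀ y' : Fin b → F, A *ᵥ (R *ᵥ y') = y' := by
    intro y'
    by_contra hne
    obtain ⟨y, hy⟩ := (C.hf₂.nondegenerate _ (sub_ne_zero.mpr hne)).1
    apply hy
    rw [f_sub_right C.hf₂, hAdef, ← C.f₂_adj, hμR, sub_self]
  have hμcR : ∀ y : Fin b → F, μ *ᵥ y = c • (R *ᵥ y) := by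
    intro y
    conv_lhs => rw [← hAR y]
    rw [Matrix.mulVec_mulVec, hc, Matrix.smul_mulVec, Matrix.one_mulVec]
  have hb0 : 0 < b := by omega
  have hc0 : c ≠ 0 := by
    intro h0
    have h1 := hμcR (Pi.single ⟨0, hb0⟩ 1)
    rw [h0, zero_smul] at h1
    have h2 := congrFun (hμinj _ h1) ⟨0, hb0⟩
    simp at h2
  have hRinj : ∀ y : Fin b → F, R *ᵥ y = 0 → y = 0 := by
    intro y hy
    apply hμinj
    rw [hμcR, hy, smul_zero]
  have hμμ : ∀ y w : Fin b → F, C.f₂ (μ *ᵥ y) (μ *ᵥ w) = c * C.f₂ y w := by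
    intro y w
    rw [hμcR w, C.hf₂.bilinear.smul_right, hμR]
  have hRμ : ∀ y w : Fin b → F, C.f₂ (R *ᵥ y) (μ *ᵥ w) = C.f₂ y w := by
    intro y w
    rw [C.hf₂.skew, hμR, ← C.hf₂.skew]
  have hRsurj : ∀ z : Fin b → F, ∃ y : Fin b → F, R *ᵥ y = z := by
    intro z
    refine ⟨c • (μi *ᵥ z), ?_⟩
    have h1 := hμcR (μi *ᵥ z)
    rw [hμμi] at h1
    rw [Matrix.mulVec_smul, ← h1]
  -- the key: `P w ∈ F (μ w)`
  have hkey : ∀ w : Fin b → F, ∃ s : F, ∀ y : Fin b → F,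
      (c * C.f₂ y w) • (P *ᵥ w) - (c * C.f₂ y w * C.f₂ (P *ᵥ w) (μ *ᵥ w)) • (μ *ᵥ w)
        - (c * C.f₂ (μi *ᵥ (P *ᵥ y)) w) • (μ *ᵥ w) = -(s • (R *ᵥ y)) := by
    intro w
    obtain ⟨T, hTdef⟩ : ∃ T : Matrix.GeneralLinearGroup (Fin 2 × Fin b) F,
        T = C.tvB (μ *ᵥ w) (-1) * g * C.tvB w c * g⁻¹ := ⟨_, rfl⟩
    have hTM : T ∈ M := by
      rw [hTdef]
      exact M.mul_mem (M.mul_mem (M.mul_mem (hT (C.tvB_mem_T1 _ _)) hg) (hT (C.tvB_mem_T1 _ _)))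
        (M.inv_mem hg)
    have hTv : ∀ X : Fin 2 × Fin b → F,
        (T : Matrix (Fin 2 × Fin b) (Fin 2 × Fin b) F) *ᵥ X =
          (C.tvB (μ *ᵥ w) (-1) : Matrix (Fin 2 × Fin b) (Fin 2 × Fin b) F) *ᵥ
            (G *ᵥ ((C.tvB w c : Matrix (Fin 2 × Fin b) (Fin 2 × Fin b) F) *ᵥ (Gi *ᵥ X))) := by
      intro X
      rw [hTdef, Units.val_mul, Units.val_mul, Units.val_mul, hGdef, hGidef,
        ← Matrix.mulVec_mulVec, ← Matrix.mulVec_mulVec, ← Matrix.mulVec_mulVec]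
    have hGiu : ∀ y : Fin b → F, Gi *ᵥ ten u (μ *ᵥ y) = ten u y := by
      intro y
      rw [← hμ, hGiG]
    have hGiu₂ : ∀ y : Fin b → F,
        Gi *ᵥ ten u₂ (R *ᵥ y) = ten u₂ y - ten u (μi *ᵥ (P *ᵥ y)) := by
      intro y
      have h3 : ten u₂ (R *ᵥ y) = G *ᵥ (ten u₂ y - ten u (μi *ᵥ (P *ᵥ y))) := by
        rw [Matrix.mulVec_sub, hPR, hμ, hμμi, add_sub_cancel_left]
      rw [h3, hGiG]
    have h1' : ∀ y : Fin b → F,
        (T : Matrix (Fin 2 × Fin b) (Fin 2 × Fin b) F) *ᵥ ten u (μ *ᵥ y) = ten u (μ *ᵥ y) := by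
      intro y
      rw [hTv, hGiu, C.tvB_mulVec_ten, Matrix.mulVec_add, Matrix.mulVec_smul, hμ, hμ,
        Matrix.mulVec_add, Matrix.mulVec_smul, C.tvB_mulVec_ten, C.tvB_mulVec_ten, hμμ,
        C.hf₂.alternating]
      module
    have h2' : ∀ y : Fin b → F,
        (T : Matrix (Fin 2 × Fin b) (Fin 2 × Fin b) F) *ᵥ ten u₂ (R *ᵥ y) = ten u₂ (R *ᵥ y) +
          ten u ((c * C.f₂ y w) • (P *ᵥ w) - (c * C.f₂ y w * C.f₂ (P *ᵥ w) (μ *ᵥ w)) • (μ *ᵥ w)
            - (c * C.f₂ (μi *ᵥ (P *ᵥ y)) w) • (μ *ᵥ w)) := by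
      intro y
      rw [hTv, hGiu₂]
      simp only [Matrix.mulVec_sub, Matrix.mulVec_add, Matrix.mulVec_smul, C.tvB_mulVec_ten, hPR,
        hμ, hμμi, hRμ, hμμ, C.hf₂.alternating]
      rw [ten_sub_right, ten_sub_right, ten_smul_right, ten_smul_right, ten_smul_right]
      have e : ten u₂ (μ *ᵥ w) = c • ten u₂ (R *ᵥ w) := by rw [hμcR w, ten_smul_right]
      rw [e]
      module
    have hz1 : ∀ z : Fin b → F,
        (T : Matrix (Fin 2 × Fin b) (Fin 2 × Fin b) F) *ᵥ ten u z = ten u z := by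
      intro z
      have := h1' (μi *ᵥ z)
      rwa [hμμi] at this
    have hz2 : ∀ z : Fin b → F, ∃ Z : Fin b → F,
        (T : Matrix (Fin 2 × Fin b) (Fin 2 × Fin b) F) *ᵥ ten u₂ z = ten u₂ z + ten u Z := by
      intro z
      obtain ⟨y, rfl⟩ := hRsurj z
      exact ⟨_, h2' y⟩
    obtain ⟨η, hη1, hη2⟩ := tostaba2_shape C u u₂ huu₂ _ hz1 hz2
    obtain ⟨s, hs⟩ := hU T hTM u η hu hη1
    refine ⟨s, ?_⟩
    intro y
    have h3 := hη2 (R *ᵥ y)
    rw [h2' y, hs, Matrix.smul_mulVec, Matrix.one_mulVec] at h3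
    have h4 := add_left_cancel (h3.trans (sub_eq_add_neg _ _))
    rw [← ten_neg_right] at h4
    exact ten_right_inj hu h4
  have hPw : ∀ w : Fin b → F, ∃ l : F, P *ᵥ w = l • (μ *ᵥ w) := by
    intro w
    by_cases hw : w = 0
    · refine ⟨0, ?_⟩
      rw [hw, Matrix.mulVec_zero, Matrix.mulVec_zero, smul_zero]
    obtain ⟨s, hs⟩ := hkey w
    -- `s = 0`
    obtain ⟨y₁, hy₁0, hy₁w, hy₁p⟩ := tostaba2_common_zero C.hf₂ hb w (C.adj₂ (μi * P) *ᵥ w)
    have hs0 : s = 0 := by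
      have h1 := hs y₁
      have h2 : C.f₂ (μi *ᵥ (P *ᵥ y₁)) w = 0 := by
        rw [Matrix.mulVec_mulVec, C.f₂_adj]
        exact hy₁p
      rw [hy₁w, h2] at h1
      simp only [mul_zero, zero_mul, zero_smul, sub_zero] at h1
      have h3 : s • (R *ᵥ y₁) = 0 := by
        rw [← neg_eq_zero]
        exact h1.symm
      rcases smul_eq_zero.mp h3 with h4 | h4
      · exact h4
      · exact absurd (hRinj _ h4) hy₁0
    obtain ⟨x₁, hx₁⟩ := (C.hf₂.nondegenerate w hw).1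
    obtain ⟨y₂, hy₂def⟩ : ∃ y₂ : Fin b → F, y₂ = (C.f₂ x₁ w)⁻¹ • x₁ := ⟨_, rfl⟩
    have hy₂ : C.f₂ y₂ w = 1 := by
      rw [hy₂def, C.hf₂.bilinear.smul_left, inv_mul_cancel₀ hx₁]
    have h1 := hs y₂
    rw [hs0, zero_smul, neg_zero, hy₂, mul_one] at h1
    refine ⟨C.f₂ (P *ᵥ w) (μ *ᵥ w) + C.f₂ (μi *ᵥ (P *ᵥ y₂)) w, ?_⟩
    have h2 : c • (P *ᵥ w - (C.f₂ (P *ᵥ w) (μ *ᵥ w) + C.f₂ (μi *ᵥ (P *ᵥ y₂)) w) • (μ *ᵥ w)) = 0 := by
      rw [← h1]
      module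
    rcases smul_eq_zero.mp h2 with h3 | h3
    · exact absurd h3 hc0
    · exact sub_eq_zero.mp h3
  obtain ⟨s₀, hs₀⟩ := tostaba2_prop P μ hμinj hPw
  -- the Kronecker decomposition
  obtain ⟨ci, hci⟩ : ∃ ci : F, ci = c⁻¹ := ⟨_, rfl⟩
  have hRci : ∀ y : Fin b → F, R *ᵥ y = ci • (μ *ᵥ y) := by
    intro y
    rw [hμcR, smul_smul, hci, inv_mul_cancel₀ hc0, one_smul]
  let L : (Fin 2 → F) →ₗ[F] (Fin 2 → F) :=
    { toFun := fun x => C.f₁ x u₂ • u - C.f₁ x u • (s₀ • u + ci • u₂)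
      map_add' := by
        intro x x'
        simp only [C.hf₁.bilinear.add_left]
        module
      map_smul' := by
        intro k x
        simp only [C.hf₁.bilinear.smul_left, RingHom.id_apply]
        module }
  apply tostaba2_mem_K0 (by norm_num) hb0 g (LinearMap.toMatrix' L) μ
  intro x y
  rw [hGdef, LinearMap.toMatrix'_mulVec]
  show G *ᵥ ten x y = ten (C.f₁ x u₂ • u - C.f₁ x u • (s₀ • u + ci • u₂)) (μ *ᵥ y)
  conv_lhs => rw [tostaba2_ten_decomp C u u₂ huu₂ x y]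
  rw [Matrix.mulVec_sub, Matrix.mulVec_smul, Matrix.mulVec_smul, hμ, hPR, hs₀, hRci, ten_sub_left,
    ten_smul_left, ten_smul_left, ten_add_left, ten_smul_left, ten_smul_left, ten_smul_right,
    ten_smul_right]

/-- STABA2: the case `a = 2` (`u ⊗ B` is a maximal totally singular subspace). -/
theorem stabA_two (C : Ctx 2 b F) (hb : 3 ≤ b)
    (M : Subgroup (Matrix.GeneralLinearGroup (Fin 2 × Fin b) F)) (hT : C.T1 ≤ M) (hG : M ≤ C.G)
    (hU : C.UnipA M) : StabA M := by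
  intro g hg u u' hu hu' h
  -- move `u'` back to `u`
  obtain ⟨α, hα, hαu, -, -⟩ := trans_vec C.hf₁ ⊤
    (fun x _ hx => by
      obtain ⟨t, ht⟩ := (C.hf₁.nondegenerate x hx).2
      exact ⟨t, Submodule.mem_top, ht⟩)
    u' u Submodule.mem_top Submodule.mem_top hu' hu
  have hkM : kA 2 b F α ∈ M := hT (C.kA_mem_T1 hα)
  have h1 : kA 2 b F α * g ∈ K0 2 b F := by
    apply tostaba2_same C hb M hT hG hU (kA 2 b F α * g) (M.mul_mem hkM hg) u hu
    intro y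
    obtain ⟨y', hy'⟩ := h y
    refine ⟨y', ?_⟩
    rw [Units.val_mul, ← Matrix.mulVec_mulVec, hy', kA_mulVec_ten, hαu]
  have h2 : g = (kA 2 b F α)⁻¹ * (kA 2 b F α * g) := by group
  rw [h2]
  exact (K0 2 b F).mul_mem ((K0 2 b F).inv_mem (kA_mem_K0 α)) h1

end Cfsg.Agent.Lib.helper7.TO
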