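import Cfsg.Agent.Lib.helper6.TS4.Defs
import Cfsg.Agent.Lib.Helper9.TSHTI

/-!
# TS4 BURNTI (core): `burnTI_of_genA` with the statement of `pair_of_genA` as a hypothesis (helper9)
-/

set_option autoImplicit false
set_option linter.unusedSectionVars false
set_option linter.unusedVariables false

namespace Cfsg.Agent.Lib.Helper21.TS

open Matrix
open scoped Kronecker
open Cfsg.Agent.Lib.helper7.TP

variable {a b : ℕ} {F : Type*} [Field F]
variable {J1 : Matrix (Fin a) (Fin a) F} {J2 : Matrix (Fin b) (Fin b) F}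

theorem ts4burnti_JV_det (C : Ctx J1 J2) : (JV J1 J2).det ≠ 0 := by
  rw [JV, Matrix.det_kronecker]
  exact mul_ne_zero (pow_ne_zero _ C.det1) (pow_ne_zero _ C.det2)

theorem ts4burnti_core (C : Ctx J1 J2) (ha : 3 ≤ a) (hb : 1 ≤ b)
    (g : Matrix.GeneralLinearGroup (Fin a × Fin b) F) (hgS : g ∈ SpV J1 J2)
    (u₀ : Fin a → F) (hu₀ : u₀ ≠ 0) (hG : GenA J1 J2 g u₀)
    (hP : ∀ u : Fin a → F, u ≠ 0 → ∀ v : Fin a × Fin b → F,
      (∃ y₁ : Fin b → F, ∀ y' : Fin b → F, bf (JV J1 J2) (v - ten u y₁)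
        ((g : Matrix (Fin a × Fin b) (Fin a × Fin b) F) *ᵥ ten u₀ y') = 0) ∧
      (∃ y₂ : Fin b → F, ∀ y' : Fin b → F, bf (JV J1 J2)
        (v - (g : Matrix (Fin a × Fin b) (Fin a × Fin b) F) *ᵥ ten u₀ y₂) (ten u y') = 0))
    (u : Fin a → F) (hu : u ≠ 0)
    (h : Matrix.GeneralLinearGroup (Fin a × Fin b) F) (hhK : h ∈ K0 a b F) (hhS : h ∈ SpV J1 J2)
    (hL : ∀ y : Fin b → F, ∃ y' : Fin b → F,
      (h : Matrix (Fin a × Fin b) (Fin a × Fin b) F) *ᵥ ten u y = ten u y')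
    (hfix : ∀ v : Fin a × Fin b → F, (∀ y' : Fin b → F, bf (JV J1 J2) v (ten u y') = 0) →
      (∀ y' : Fin b → F, bf (JV J1 J2) v
        ((g : Matrix (Fin a × Fin b) (Fin a × Fin b) F) *ᵥ ten u₀ y') = 0) →
      (h : Matrix (Fin a × Fin b) (Fin a × Fin b) F) *ᵥ v = v) :
    ∃ c : F, (h : Matrix (Fin a × Fin b) (Fin a × Fin b) F) =
      XAm J1 u (c • (1 : Matrix (Fin b) (Fin b) F)) := by
  have huu : bf J1 u u = 0 := bf_self_alt C.alt C.two u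
  have hJVt : (JV J1 J2)ᵀ = -JV J1 J2 := JV_transpose C.alt C.sym
  set Wp : Set (Fin a × Fin b → F) :=
    {v | (∀ y' : Fin b → F, bf (JV J1 J2) v (ten u y') = 0) ∧
      (∀ y' : Fin b → F, bf (JV J1 J2) v
        ((g : Matrix (Fin a × Fin b) (Fin a × Fin b) F) *ᵥ ten u₀ y') = 0)} with hWp
  apply tshti_coreK C ha hb u hu Wp ?_ ?_ h hhK hhS hL ?_
  · -- hW2
    intro v hv
    obtain ⟨⟨y₁, hy₁⟩, _⟩ := hP u hu v
    refine ⟨y₁, ?_, hy₁⟩
    intro y'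
    rw [bf_sub_left, hv y', bf_JV_ten, huu, zero_mul, sub_zero]
  · -- hW3
    intro u1 hu1 y hmem
    by_contra hy
    have hne : ten u1 y ≠ 0 := fun h0 => hy (tshti_ten_zero hu1 h0)
    obtain ⟨v', hv'⟩ := bf_nondeg' (ts4burnti_JV_det C) hne
    obtain ⟨_, ⟨y₂, hy₂⟩⟩ := hP u1 hu1 v'
    have h1 := hy₂ y
    rw [bf_sub_left] at h1
    have h2 : bf (JV J1 J2) ((g : Matrix (Fin a × Fin b) (Fin a × Fin b) F) *ᵥ ten u₀ y₂) (ten u1 y) = 0 := by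
      rw [bf_alt hJVt, hmem.2 y₂, neg_zero]
    rw [h2, sub_zero] at h1
    exact hv' h1
  · -- hγW
    intro v hv
    exact hfix v hv.1 hv.2

end Cfsg.Agent.Lib.Helper21.TS
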