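import Cfsg.Agent.Lib.helper6.TS4.Defs
import Cfsg.Agent.Lib.helper6.TSSIEG
import Cfsg.Agent.Lib.Helper9.TSHTI
import Cfsg.Agent.Lib.Helper9.TS2PAPPcore

/-!
# Project TS4, row C1A: the `B`-type half (helper9)
`t = m x_u(c) m⁻¹ = 1 ⊗ (1 + N)`, `N² = 0` is impossible (`3 ≤ a`, `NtsA`): `ts4c1ab_false`.
-/

set_option autoImplicit false
set_option linter.unusedSectionVars false
set_option linter.unusedVariables false

namespace Cfsg.Agent.Lib.Helper21.TS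

open Matrix
open scoped Kronecker
open Cfsg.Agent.Lib.helper7.TP

variable {a b : ℕ} {F : Type*} [Field F]
variable {J1 : Matrix (Fin a) (Fin a) F} {J2 : Matrix (Fin b) (Fin b) F}

/-- every vector is a sum of pure tensors. -/
theorem ts4c1ab_sum_ten (v : Fin a × Fin b → F) :
    v = ∑ i : Fin a, ten (Pi.single i 1) (fun j => v (i, j)) := by
  funext p
  obtain ⟨i, j⟩ := p
  rw [Finset.sum_apply, Finset.sum_eq_single i]
  · simp [ten]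
  · intro i' _ hi'
    simp [ten, Ne.symm hi']
  · intro h; exact (h (Finset.mem_univ i)).elim

theorem ts4c1ab_span {P : (Fin a × Fin b → F) → Prop} (h0 : P 0)
    (hadd : ∀ v v', P v → P v' → P (v + v'))
    (hten : ∀ (x : Fin a → F) (y : Fin b → F), P (ten x y)) (v : Fin a × Fin b → F) : P v := by
  rw [ts4c1ab_sum_ten v]
  exact Finset.sum_induction _ P hadd h0 (fun i _ => hten _ _)

theorem ts4c1ab_ten_zero (u : Fin a → F) : ten u (0 : Fin b → F) = 0 := by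
  funext p; simp [ten]

theorem ts4c1ab_opm_kron (J1 : Matrix (Fin a) (Fin a) F) (u : Fin a → F)
    (η : Matrix (Fin b) (Fin b) F) (v : Fin a × Fin b → F) :
    ∃ y : Fin b → F, (opm J1 u u ⊗ₖ η) *ᵥ v = ten u y := by
  refine ts4c1ab_span (P := fun v => ∃ y : Fin b → F, (opm J1 u u ⊗ₖ η) *ᵥ v = ten u y) ?_ ?_ ?_ v
  · exact ⟨0, by rw [Matrix.mulVec_zero, ts4c1ab_ten_zero]⟩
  · rintro v v' ⟨y, hy⟩ ⟨y', hy'⟩
    exact ⟨y + y', by rw [Matrix.mulVec_add, hy, hy', ten_add_right]⟩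
  · intro x y
    exact ⟨bf J1 u x • (η *ᵥ y), by rw [kron_mulVec_ten, opm_mulVec, ten_smul_left, ten_smul_right]⟩

/-- skew-adjointness and total singularity of `N`, in `bf` form. -/
theorem ts4c1ab_skew (N : Matrix (Fin b) (Fin b) F) (hNN : N * N = 0)
    (hiso : ∀ y y' : Fin b → F, bf J2 (y + N *ᵥ y) (y' + N *ᵥ y') = bf J2 y y') :
    (∀ y y' : Fin b → F, bf J2 (N *ᵥ y) (N *ᵥ y') = 0) ∧
      (∀ y y' : Fin b → F, bf J2 (N *ᵥ y) y' = - bf J2 y (N *ᵥ y')) := by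
  have hNNv : ∀ y : Fin b → F, N *ᵥ (N *ᵥ y) = 0 := fun y => by
    rw [Matrix.mulVec_mulVec, hNN, Matrix.zero_mulVec]
  have e1 : ∀ y y' : Fin b → F,
      bf J2 (N *ᵥ y) y' + bf J2 y (N *ᵥ y') + bf J2 (N *ᵥ y) (N *ᵥ y') = 0 := by
    intro y y'
    have := hiso y y'
    rw [bf_add_left, bf_add_right, bf_add_right] at this
    linear_combination this
  have e2 : ∀ y y' : Fin b → F, bf J2 (N *ᵥ y) (N *ᵥ y') = 0 := by
    intro y y'
    have := e1 y (N *ᵥ y')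
    rw [hNNv, bf_zero_right, bf_zero_right] at this
    linear_combination this
  refine ⟨e2, fun y y' => ?_⟩
  have := e1 y y'
  rw [e2] at this
  linear_combination this

/-- the Siegel element in `GL`. -/
noncomputable def ts4c1ab_siegG {J : Matrix (Fin b) (Fin b) F} (hJ : Jᵀ = J) (two : (2 : F) ≠ 0)
    {w z : Fin b → F} (hw : bf J w w = 0) (hz : bf J w z = 0) :
    Matrix.GeneralLinearGroup (Fin b) F :=
  ⟨sieg J w z, sieg J w (-z), by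
      have h1 : bf J w (-z) = 0 := by rw [bf_neg_right, hz, neg_zero]
      rw [sieg_mul hJ two hw hz h1, add_neg_cancel, tssieg_zero],
    by
      have h1 : bf J w (-z) = 0 := by rw [bf_neg_right, hz, neg_zero]
      rw [sieg_mul hJ two hw h1 hz, neg_add_cancel, tssieg_zero]⟩

theorem ts4c1ab_siegG_coe {J : Matrix (Fin b) (Fin b) F} (hJ : Jᵀ = J) (two : (2 : F) ≠ 0)
    {w z : Fin b → F} (hw : bf J w w = 0) (hz : bf J w z = 0) :
    ((ts4c1ab_siegG hJ two hw hz : Matrix.GeneralLinearGroup (Fin b) F) :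
      Matrix (Fin b) (Fin b) F) = sieg J w z := rfl

theorem ts4c1ab_siegG_mem {J : Matrix (Fin b) (Fin b) F} (hJ : Jᵀ = J) (two : (2 : F) ≠ 0)
    {w z : Fin b → F} (hw : bf J w w = 0) (hz : bf J w z = 0) :
    ts4c1ab_siegG hJ two hw hz ∈ Iso J := by
  rw [mem_Iso_iff_bf]
  intro x y
  rw [ts4c1ab_siegG_coe]
  exact tssieg_iso hJ two hw hz x y

/-- `ρ_{w,z}` fixes `im N` pointwise (`w ∈ im N`, `z ∈ ker N`). -/
theorem ts4c1ab_rho1 (C : Ctx J1 J2) (N : Matrix (Fin b) (Fin b) F)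
    (hts : ∀ y y' : Fin b → F, bf J2 (N *ᵥ y) (N *ᵥ y') = 0)
    (hskew : ∀ y y' : Fin b → F, bf J2 (N *ᵥ y) y' = - bf J2 y (N *ᵥ y'))
    (w₀ z : Fin b → F) (hNz : N *ᵥ z = 0) (q : Fin b → F) :
    sieg J2 (N *ᵥ w₀) z *ᵥ (N *ᵥ q) = N *ᵥ q := by
  have e1 : bf J2 z (N *ᵥ q) = 0 := by
    rw [bf_symm C.sym, hskew, hNz, bf_zero_right, neg_zero]
  rw [sieg_mulVec, e1, hts w₀ q]
  simp

/-- `ρ_{w,z}` on `ker N`. -/
theorem ts4c1ab_rho2 (C : Ctx J1 J2) (N : Matrix (Fin b) (Fin b) F)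
    (hskew : ∀ y y' : Fin b → F, bf J2 (N *ᵥ y) y' = - bf J2 y (N *ᵥ y'))
    (w₀ z : Fin b → F) (k : Fin b → F) (hk : N *ᵥ k = 0) :
    sieg J2 (N *ᵥ w₀) z *ᵥ k = k + bf J2 z k • (N *ᵥ w₀) := by
  have e1 : bf J2 (N *ᵥ w₀) k = 0 := by
    rw [hskew, hk, bf_zero_right, neg_zero]
  rw [sieg_mulVec, e1]
  simp

/-- case (i): `im (ρ - 1) ⊆ im N` is impossible. -/
theorem ts4c1ab_caseI (C : Ctx J1 J2) (N : Matrix (Fin b) (Fin b) F)
    (w₀ z : Fin b → F) (hw : N *ᵥ w₀ ≠ 0) (hzim : ∀ q : Fin b → F, z ≠ N *ᵥ q)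
    (h : ∀ q : Fin b → F, ∃ q' : Fin b → F, sieg J2 (N *ᵥ w₀) z *ᵥ q - q = N *ᵥ q') : False := by
  obtain ⟨q, hq⟩ := bf_nondeg C.det2 hw
  obtain ⟨q', hq'⟩ := h q
  rw [sieg_mulVec] at hq'
  apply hzim ((bf J2 (N *ᵥ w₀) q)⁻¹ •
    ((bf J2 z q - bf J2 z z / 2 * bf J2 (N *ᵥ w₀) q) • w₀ - q'))
  rw [Matrix.mulVec_smul, Matrix.mulVec_sub, Matrix.mulVec_smul, ← hq']
  rw [eq_inv_smul_iff₀ hq]
  module

/-- case (ii): `im N ⊆ im (ρ - 1)` is impossible. -/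
theorem ts4c1ab_caseII (C : Ctx J1 J2) (N : Matrix (Fin b) (Fin b) F)
    (hskew : ∀ y y' : Fin b → F, bf J2 (N *ᵥ y) y' = - bf J2 y (N *ᵥ y'))
    (w₀ z : Fin b → F) (hw : N *ᵥ w₀ ≠ 0) (hzim : ∀ q : Fin b → F, z ≠ N *ᵥ q)
    (h : ∀ q : Fin b → F, ∃ q' : Fin b → F, N *ᵥ q = sieg J2 (N *ᵥ w₀) z *ᵥ q' - q') : False := by
  -- `N q ∈ F w`
  have h1 : ∀ q : Fin b → F, ∃ α : F, N *ᵥ q = α • (N *ᵥ w₀) := by
    intro q
    obtain ⟨q', hq'⟩ := h q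
    rw [sieg_mulVec] at hq'
    by_cases hβ : bf J2 (N *ᵥ w₀) q' = 0
    · refine ⟨bf J2 z q', ?_⟩
      rw [hq', hβ]
      simp
    · exfalso
      apply hzim ((bf J2 (N *ᵥ w₀) q')⁻¹ •
        ((bf J2 z q' - bf J2 z z / 2 * bf J2 (N *ᵥ w₀) q') • w₀ - q))
      rw [Matrix.mulVec_smul, Matrix.mulVec_sub, Matrix.mulVec_smul, hq']
      rw [eq_inv_smul_iff₀ hβ]
      module
  have h2 : bf J2 (N *ᵥ w₀) w₀ = 0 := by
    have := hskew w₀ w₀
    rw [bf_symm C.sym w₀ (N *ᵥ w₀)] at this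
    have h3 : (2 : F) * bf J2 (N *ᵥ w₀) w₀ = 0 := by linear_combination this
    rcases mul_eq_zero.mp h3 with h4 | h4
    · exact absurd h4 C.two
    · exact h4
  obtain ⟨y, hy⟩ := bf_nondeg C.det2 hw
  apply hy
  obtain ⟨α, hα⟩ := h1 y
  rw [hskew, hα, bf_smul_right, bf_symm C.sym w₀ (N *ᵥ w₀), h2, mul_zero, neg_zero]

/-- rows of `(1 ⊗ B) v`. -/
theorem ts4c1ab_row (B : Matrix (Fin b) (Fin b) F) (v : Fin a × Fin b → F) (i : Fin a) :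
    (fun j => (((1 : Matrix (Fin a) (Fin a) F) ⊗ₖ B) *ᵥ v) (i, j)) = B *ᵥ fun j => v (i, j) :=
  funext fun j => ts2papp_one_kron_mulVec B v i j

/-- the matrix core of the `B`-type half. -/
theorem ts4c1ab_core (C : Ctx J1 J2) (ha : 3 ≤ a) (hb : 1 ≤ b) (u : Fin a → F) (hu : u ≠ 0) (c : F)
    (hc : c ≠ 0)
    (mm mi : Matrix (Fin a × Fin b) (Fin a × Fin b) F) (h1 : mm * mi = 1) (h2 : mi * mm = 1)
    (N : Matrix (Fin b) (Fin b) F)
    (hstar : ∀ (x : Fin a → F) (y : Fin b → F),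
      ((1 : Matrix (Fin a) (Fin a) F) ⊗ₖ N) *ᵥ (mm *ᵥ ten x y) = (c * bf J1 u x) • (mm *ᵥ ten u y))
    (hS2 : ∀ v' : Fin a × Fin b → F, ∃ y : Fin b → F,
      ((1 : Matrix (Fin a) (Fin a) F) ⊗ₖ N) *ᵥ v' = mm *ᵥ ten u y)
    (hts : ∀ y y' : Fin b → F, bf J2 (N *ᵥ y) (N *ᵥ y') = 0)
    (hskew : ∀ y y' : Fin b → F, bf J2 (N *ᵥ y) y' = - bf J2 y (N *ᵥ y'))
    (hNts : ∀ w z : Fin b → F, bf J2 w w = 0 → bf J2 w z = 0 →
      (∀ y : Fin b → F,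
        mi *ᵥ (((1 : Matrix (Fin a) (Fin a) F) ⊗ₖ sieg J2 w z) *ᵥ (mm *ᵥ ten u y)) = ten u y) →
      (∀ x : Fin a → F, bf J1 x u = 0 → ∀ y : Fin b → F, ∃ y' : Fin b → F,
        mi *ᵥ (((1 : Matrix (Fin a) (Fin a) F) ⊗ₖ sieg J2 w z) *ᵥ (mm *ᵥ ten x y)) =
          ten x y + ten u y') →
      ∃ (x₀ : Fin a → F) (c₀ : F), bf J1 x₀ u = 0 ∧ ∀ (x : Fin a → F) (y : Fin b → F),
        mi *ᵥ (((1 : Matrix (Fin a) (Fin a) F) ⊗ₖ sieg J2 w z) *ᵥ (mm *ᵥ ten x y)) =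
          ten x y + bf J1 x x₀ • ten u y + bf J1 x u • ten x₀ y + (bf J1 x u * c₀) • ten u y) :
    False := by
  classical
  have hmi_mm : ∀ v : Fin a × Fin b → F, mi *ᵥ (mm *ᵥ v) = v := fun v => by
    rw [Matrix.mulVec_mulVec, h2, Matrix.one_mulVec]
  have hmm_mi : ∀ v : Fin a × Fin b → F, mm *ᵥ (mi *ᵥ v) = v := fun v => by
    rw [Matrix.mulVec_mulVec, h1, Matrix.one_mulVec]
  -- (S1)
  obtain ⟨e, he⟩ := bf_nondeg C.det1 hu
  set e' : Fin a → F := (c * bf J1 u e)⁻¹ • e with he'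
  have hce : c * bf J1 u e ≠ 0 := mul_ne_zero hc he
  have hS1 : ∀ y : Fin b → F, mm *ᵥ ten u y =
      ((1 : Matrix (Fin a) (Fin a) F) ⊗ₖ N) *ᵥ (mm *ᵥ ten e' y) := by
    intro y
    rw [hstar, he', bf_smul_right]
    have : c * ((c * bf J1 u e)⁻¹ * bf J1 u e) = 1 := by
      field_simp
    rw [this, one_smul]
  -- `w`
  have hb' : 0 < b := hb
  set y0 : Fin b → F := Pi.single ⟨0, hb'⟩ 1 with hy0
  have hy0ne : y0 ≠ 0 := by
    intro h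
    have := congrFun h ⟨0, hb'⟩
    rw [hy0] at this
    simp at this
  have hk0 : mm *ᵥ ten u y0 ≠ 0 := by
    intro h
    have h3 := hmi_mm (ten u y0)
    rw [h, Matrix.mulVec_zero] at h3
    exact hy0ne (tshti_ten_zero hu h3.symm)
  rw [hS1 y0] at hk0
  obtain ⟨⟨i0, j0⟩, hp⟩ := Function.ne_iff.mp hk0
  rw [ts2papp_one_kron_mulVec] at hp
  set w₀ : Fin b → F := fun j' => (mm *ᵥ ten e' y0) (i0, j') with hw₀
  have hw : N *ᵥ w₀ ≠ 0 := by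
    intro h
    apply hp
    rw [h]
    rfl
  -- `z`
  have hz : ∃ z : Fin b → F, N *ᵥ z = 0 ∧ ∀ q : Fin b → F, z ≠ N *ᵥ q := by
    by_contra hcon
    push Not at hcon
    obtain ⟨x, z', hxu, hz'u, hz'x⟩ := tshti_pair C.alt C.det1 ha hu
    have hux : bf J1 u x = 0 := by rw [bf_alt C.alt, hxu, neg_zero]
    have hk : ((1 : Matrix (Fin a) (Fin a) F) ⊗ₖ N) *ᵥ (mm *ᵥ ten x y0) = 0 := by
      rw [hstar, hux, mul_zero, zero_smul]
    have hrowk : ∀ i : Fin a, N *ᵥ (fun j => (mm *ᵥ ten x y0) (i, j)) = 0 := by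
      intro i
      rw [← ts4c1ab_row, hk]
      rfl
    choose q hq using fun i => hcon _ (hrowk i)
    have hk' : mm *ᵥ ten x y0 =
        ((1 : Matrix (Fin a) (Fin a) F) ⊗ₖ N) *ᵥ (fun p : Fin a × Fin b => q p.1 p.2) := by
      funext p
      obtain ⟨i, j⟩ := p
      rw [ts2papp_one_kron_mulVec]
      exact congrFun (hq i) j
    obtain ⟨y', hy'⟩ := hS2 (fun p : Fin a × Fin b => q p.1 p.2)
    have h3 : ten x y0 = ten u y' := by
      have h4 := congrArg (fun v => mi *ᵥ v) (hk'.trans hy')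
      simp only [hmi_mm] at h4
      exact h4
    obtain ⟨e₁, he₁⟩ := tshti_ten_eq hy0ne h3
    apply hz'x
    rw [he₁, bf_smul_right, hz'u, mul_zero]
  obtain ⟨z, hNz, hzim⟩ := hz
  have hww : bf J2 (N *ᵥ w₀) (N *ᵥ w₀) = 0 := hts w₀ w₀
  have hwz : bf J2 (N *ᵥ w₀) z = 0 := by rw [hskew, hNz, bf_zero_right, neg_zero]
  -- `R`
  have hR1 : ∀ v' : Fin a × Fin b → F,
      ((1 : Matrix (Fin a) (Fin a) F) ⊗ₖ sieg J2 (N *ᵥ w₀) z) *ᵥ
        (((1 : Matrix (Fin a) (Fin a) F) ⊗ₖ N) *ᵥ v') =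
        ((1 : Matrix (Fin a) (Fin a) F) ⊗ₖ N) *ᵥ v' := by
    intro v'
    funext p
    obtain ⟨i, j⟩ := p
    rw [ts2papp_one_kron_mulVec, ts4c1ab_row, ts4c1ab_rho1 C N hts hskew w₀ z hNz,
      ts2papp_one_kron_mulVec]
  have hR2 : ∀ k : Fin a × Fin b → F, ((1 : Matrix (Fin a) (Fin a) F) ⊗ₖ N) *ᵥ k = 0 →
      ((1 : Matrix (Fin a) (Fin a) F) ⊗ₖ sieg J2 (N *ᵥ w₀) z) *ᵥ k =
        k + ((1 : Matrix (Fin a) (Fin a) F) ⊗ₖ N) *ᵥ
          ten (fun i => bf J2 z (fun j => k (i, j))) w₀ := by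
    intro k hk
    have hrowk : ∀ i : Fin a, N *ᵥ (fun j => k (i, j)) = 0 := by
      intro i
      rw [← ts4c1ab_row, hk]
      rfl
    funext p
    obtain ⟨i, j⟩ := p
    rw [ts2papp_one_kron_mulVec, ts4c1ab_rho2 C N hskew w₀ z _ (hrowk i), kron_mulVec_ten,
      Matrix.one_mulVec]
    simp only [Pi.add_apply, Pi.smul_apply, smul_eq_mul, ten]
  -- the hypotheses of `NtsA`
  have hfix : ∀ y : Fin b → F,
      mi *ᵥ (((1 : Matrix (Fin a) (Fin a) F) ⊗ₖ sieg J2 (N *ᵥ w₀) z) *ᵥ (mm *ᵥ ten u y)) =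
        ten u y := by
    intro y
    rw [hS1 y, hR1, ← hS1 y, hmi_mm]
  have hsh : ∀ x : Fin a → F, bf J1 x u = 0 → ∀ y : Fin b → F, ∃ y' : Fin b → F,
      mi *ᵥ (((1 : Matrix (Fin a) (Fin a) F) ⊗ₖ sieg J2 (N *ᵥ w₀) z) *ᵥ (mm *ᵥ ten x y)) =
        ten x y + ten u y' := by
    intro x hxu y
    have hux : bf J1 u x = 0 := by rw [bf_alt C.alt, hxu, neg_zero]
    have hk : ((1 : Matrix (Fin a) (Fin a) F) ⊗ₖ N) *ᵥ (mm *ᵥ ten x y) = 0 := by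
      rw [hstar, hux, mul_zero, zero_smul]
    obtain ⟨y', hy'⟩ := hS2 (ten (fun i => bf J2 z (fun j => (mm *ᵥ ten x y) (i, j))) w₀)
    refine ⟨y', ?_⟩
    rw [hR2 _ hk, hy', Matrix.mulVec_add, hmi_mm, hmi_mm]
  obtain ⟨x₀, c₀, hx₀u, hHA⟩ := hNts (N *ᵥ w₀) z hww hwz hfix hsh
  by_cases hx₀ : ∃ k₀ : F, x₀ = k₀ • u
  · -- case (i)
    obtain ⟨k₀, hk₀⟩ := hx₀
    have hA : ∀ (x : Fin a → F) (y : Fin b → F), ∃ y'' : Fin b → F,
        mi *ᵥ (((1 : Matrix (Fin a) (Fin a) F) ⊗ₖ sieg J2 (N *ᵥ w₀) z) *ᵥ (mm *ᵥ ten x y)) =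
          ten x y + ten u y'' := by
      intro x y
      refine ⟨(bf J1 x x₀ + bf J1 x u * k₀ + bf J1 x u * c₀) • y, ?_⟩
      rw [hHA x y, hk₀, ten_smul_left, ten_smul_right]
      module
    have hP : ∀ v : Fin a × Fin b → F, ∃ v' : Fin a × Fin b → F,
        ((1 : Matrix (Fin a) (Fin a) F) ⊗ₖ sieg J2 (N *ᵥ w₀) z) *ᵥ (mm *ᵥ v) - mm *ᵥ v =
          ((1 : Matrix (Fin a) (Fin a) F) ⊗ₖ N) *ᵥ v' := by
      intro v
      refine ts4c1ab_span (P := fun v => ∃ v' : Fin a × Fin b → F,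
        ((1 : Matrix (Fin a) (Fin a) F) ⊗ₖ sieg J2 (N *ᵥ w₀) z) *ᵥ (mm *ᵥ v) - mm *ᵥ v =
          ((1 : Matrix (Fin a) (Fin a) F) ⊗ₖ N) *ᵥ v') ?_ ?_ ?_ v
      · exact ⟨0, by simp only [Matrix.mulVec_zero, sub_zero]⟩
      · rintro v v' ⟨s, hs⟩ ⟨s', hs'⟩
        refine ⟨s + s', ?_⟩
        rw [Matrix.mulVec_add, Matrix.mulVec_add, Matrix.mulVec_add, ← hs, ← hs']
        abel
      · intro x y
        obtain ⟨y'', hy''⟩ := hA x y
        have h3 := congrArg (fun v => mm *ᵥ v) hy''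
        simp only [hmm_mi, Matrix.mulVec_add] at h3
        refine ⟨mm *ᵥ ten e' y'', ?_⟩
        rw [h3, ← hS1, add_sub_cancel_left]
    apply ts4c1ab_caseI C N w₀ z hw hzim
    intro q
    obtain ⟨v', hv'⟩ := hP (mi *ᵥ ten (Pi.single i0 1) q)
    rw [hmm_mi, kron_mulVec_ten, Matrix.one_mulVec] at hv'
    refine ⟨fun j => v' (i0, j), ?_⟩
    rw [← ts4c1ab_row N v' i0, ← hv']
    funext j
    simp [ten]
  · -- case (ii)
    have hx₁ : ∃ x₁ : Fin a → F, bf J1 x₁ u = 0 ∧ bf J1 x₁ x₀ ≠ 0 := by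
      by_contra hcon
      push Not at hcon
      exact hx₀ (tshti_dperp C.alt C.det1 hu hcon)
    obtain ⟨x₁, hx₁u, hx₁x₀⟩ := hx₁
    apply ts4c1ab_caseII C N hskew w₀ z hw hzim
    intro q
    obtain ⟨y, hy⟩ := hS2 (ten (Pi.single i0 1) q)
    rw [kron_mulVec_ten, Matrix.one_mulVec] at hy
    have h3 := hHA x₁ y
    rw [hx₁u, zero_smul, zero_mul, zero_smul, add_zero, add_zero] at h3
    have h4 := congrArg (fun v => mm *ᵥ v) h3
    simp only [hmm_mi, Matrix.mulVec_add, Matrix.mulVec_smul] at h4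
    -- `mm (u ⊗ y) = κ⁻¹ (R k - k)`
    set k' : Fin a × Fin b → F := (bf J1 x₁ x₀)⁻¹ • (mm *ᵥ ten x₁ y) with hk'
    have h5 : mm *ᵥ ten u y =
        ((1 : Matrix (Fin a) (Fin a) F) ⊗ₖ sieg J2 (N *ᵥ w₀) z) *ᵥ k' - k' := by
      rw [hk', Matrix.mulVec_smul, h4, smul_add, smul_smul, inv_mul_cancel₀ hx₁x₀, one_smul,
        add_sub_cancel_left]
    refine ⟨fun j => k' (i0, j), ?_⟩
    rw [← ts4c1ab_row (sieg J2 (N *ᵥ w₀) z) k' i0]
    funext j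
    have h6 := congrFun (hy.trans h5) (i0, j)
    simp only [ten, Pi.single_eq_same, one_mul, Pi.sub_apply] at h6
    rw [h6]
    rfl

/-- what `t = m x_u(c) m⁻¹ = 1 ⊗ (1 + N)` says. -/
theorem ts4c1ab_setup (C : Ctx J1 J2) (m : Matrix.GeneralLinearGroup (Fin a × Fin b) F)
    (hmS : m ∈ SpV J1 J2) (u : Fin a → F) (hu : u ≠ 0) (c : F) (N : Matrix (Fin b) (Fin b) F)
    (ht : ((m * xA C u c * m⁻¹ : Matrix.GeneralLinearGroup (Fin a × Fin b) F) :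
      Matrix (Fin a × Fin b) (Fin a × Fin b) F) = (1 : Matrix (Fin a) (Fin a) F) ⊗ₖ (1 + N)) :
    (∀ (x : Fin a → F) (y : Fin b → F),
      ((1 : Matrix (Fin a) (Fin a) F) ⊗ₖ N) *ᵥ
        ((m : Matrix (Fin a × Fin b) (Fin a × Fin b) F) *ᵥ ten x y) =
        (c * bf J1 u x) • ((m : Matrix (Fin a × Fin b) (Fin a × Fin b) F) *ᵥ ten u y)) ∧
    (∀ v' : Fin a × Fin b → F, ∃ y : Fin b → F,
      ((1 : Matrix (Fin a) (Fin a) F) ⊗ₖ N) *ᵥ v' =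
        (m : Matrix (Fin a × Fin b) (Fin a × Fin b) F) *ᵥ ten u y) ∧
    (∀ y y' : Fin b → F, bf J2 (y + N *ᵥ y) (y' + N *ᵥ y') = bf J2 y y') := by
  have h1 : (m : Matrix (Fin a × Fin b) (Fin a × Fin b) F) *
      ((m⁻¹ : Matrix.GeneralLinearGroup (Fin a × Fin b) F) :
        Matrix (Fin a × Fin b) (Fin a × Fin b) F) = 1 := by
    rw [← Units.val_mul, mul_inv_cancel, Units.val_one]
  have h2 : ((m⁻¹ : Matrix.GeneralLinearGroup (Fin a × Fin b) F) :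
      Matrix (Fin a × Fin b) (Fin a × Fin b) F) *
      (m : Matrix (Fin a × Fin b) (Fin a × Fin b) F) = 1 := by
    rw [← Units.val_mul, inv_mul_cancel, Units.val_one]
  have ht' : (m : Matrix (Fin a × Fin b) (Fin a × Fin b) F) *
      XAm J1 u (c • (1 : Matrix (Fin b) (Fin b) F)) *
      ((m⁻¹ : Matrix.GeneralLinearGroup (Fin a × Fin b) F) :
        Matrix (Fin a × Fin b) (Fin a × Fin b) F) =
      (1 : Matrix (Fin a) (Fin a) F) ⊗ₖ (1 + N) := by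
    rw [← ht, Units.val_mul, Units.val_mul, xA_coe]
  have hNt : (1 : Matrix (Fin a) (Fin a) F) ⊗ₖ N =
      (m : Matrix (Fin a × Fin b) (Fin a × Fin b) F) *
        (opm J1 u u ⊗ₖ (c • (1 : Matrix (Fin b) (Fin b) F))) *
        ((m⁻¹ : Matrix.GeneralLinearGroup (Fin a × Fin b) F) :
          Matrix (Fin a × Fin b) (Fin a × Fin b) F) := by
    have e1 : (1 : Matrix (Fin a) (Fin a) F) ⊗ₖ (1 + N) =
        1 + (1 : Matrix (Fin a) (Fin a) F) ⊗ₖ N := by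
      rw [Matrix.kronecker_add, Matrix.one_kronecker_one]
    have e2 : (m : Matrix (Fin a × Fin b) (Fin a × Fin b) F) *
        XAm J1 u (c • (1 : Matrix (Fin b) (Fin b) F)) *
        ((m⁻¹ : Matrix.GeneralLinearGroup (Fin a × Fin b) F) :
          Matrix (Fin a × Fin b) (Fin a × Fin b) F) =
        1 + (m : Matrix (Fin a × Fin b) (Fin a × Fin b) F) *
          (opm J1 u u ⊗ₖ (c • (1 : Matrix (Fin b) (Fin b) F))) *
          ((m⁻¹ : Matrix.GeneralLinearGroup (Fin a × Fin b) F) :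
            Matrix (Fin a × Fin b) (Fin a × Fin b) F) := by
      rw [XAm, Matrix.mul_add, Matrix.add_mul, Matrix.mul_one, h1]
    rw [e1, e2] at ht'
    exact (add_left_cancel ht').symm
  have hK : ∀ (x : Fin a → F) (y : Fin b → F),
      (opm J1 u u ⊗ₖ (c • (1 : Matrix (Fin b) (Fin b) F))) *ᵥ ten x y =
        (c * bf J1 u x) • ten u y := by
    intro x y
    rw [kron_mulVec_ten, opm_mulVec, Matrix.smul_mulVec, Matrix.one_mulVec, ten_smul_left,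
      ten_smul_right, smul_smul, mul_comm]
  refine ⟨?_, ?_, ?_⟩
  · intro x y
    rw [hNt, Matrix.mulVec_mulVec, Matrix.mul_assoc _ _ (m : Matrix (Fin a × Fin b) (Fin a × Fin b) F),
      h2, Matrix.mul_one, ← Matrix.mulVec_mulVec, hK, Matrix.mulVec_smul]
  · intro v'
    obtain ⟨y, hy⟩ := ts4c1ab_opm_kron J1 u (c • (1 : Matrix (Fin b) (Fin b) F))
      (((m⁻¹ : Matrix.GeneralLinearGroup (Fin a × Fin b) F) :
        Matrix (Fin a × Fin b) (Fin a × Fin b) F) *ᵥ v')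
    refine ⟨y, ?_⟩
    rw [hNt, ← hy, Matrix.mulVec_mulVec, Matrix.mulVec_mulVec]
  · have hxS : xA C u c ∈ SpV J1 J2 :=
      XAG_mem_SpV C.alt u (bf_self_alt C.alt C.two u) ((selfAdj_one J2).smul c)
    have htS : m * xA C u c * m⁻¹ ∈ SpV J1 J2 :=
      (SpV J1 J2).mul_mem ((SpV J1 J2).mul_mem hmS hxS) ((SpV J1 J2).inv_mem hmS)
    have h3 := (mem_Iso_iff_bf (JV J1 J2) _).mp htS
    intro y y'
    obtain ⟨e, he⟩ := bf_nondeg C.det1 hu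
    have h4 := h3 (ten u y) (ten e y')
    rw [ht, kron_mulVec_ten, kron_mulVec_ten, Matrix.one_mulVec, Matrix.one_mulVec, bf_JV_ten,
      bf_JV_ten, Matrix.add_mulVec, Matrix.one_mulVec, Matrix.add_mulVec, Matrix.one_mulVec] at h4
    exact mul_left_cancel₀ he h4

/-- **C1A, `B`-type half**: `m x_u(c) m⁻¹ = 1 ⊗ (1 + N)` with `N² = 0` is impossible. -/
theorem ts4c1ab_false (C : Ctx J1 J2) (ha : 3 ≤ a) (hb : 1 ≤ b)
    (M : Subgroup (Matrix.GeneralLinearGroup (Fin a × Fin b) F)) (hT0 : T0 J1 J2 ≤ M)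
    (hMS : M ≤ SpV J1 J2) (hN : NtsA J1 M)
    (m : Matrix.GeneralLinearGroup (Fin a × Fin b) F) (hm : m ∈ M) (u : Fin a → F) (c : F)
    (hu : u ≠ 0) (hc : c ≠ 0) (N : Matrix (Fin b) (Fin b) F) (hNN : N * N = 0)
    (ht : ((m * xA C u c * m⁻¹ : Matrix.GeneralLinearGroup (Fin a × Fin b) F) :
      Matrix (Fin a × Fin b) (Fin a × Fin b) F) = (1 : Matrix (Fin a) (Fin a) F) ⊗ₖ (1 + N)) :
    False := by
  obtain ⟨hstar, hS2, hiso⟩ := ts4c1ab_setup C m (hMS hm) u hu c N ht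
  obtain ⟨hts, hskew⟩ := ts4c1ab_skew N hNN hiso
  have h1 : (m : Matrix (Fin a × Fin b) (Fin a × Fin b) F) *
      ((m⁻¹ : Matrix.GeneralLinearGroup (Fin a × Fin b) F) :
        Matrix (Fin a × Fin b) (Fin a × Fin b) F) = 1 := by
    rw [← Units.val_mul, mul_inv_cancel, Units.val_one]
  have h2 : ((m⁻¹ : Matrix.GeneralLinearGroup (Fin a × Fin b) F) :
      Matrix (Fin a × Fin b) (Fin a × Fin b) F) *
      (m : Matrix (Fin a × Fin b) (Fin a × Fin b) F) = 1 := by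
    rw [← Units.val_mul, inv_mul_cancel, Units.val_one]
  refine ts4c1ab_core C ha hb u hu c hc (m : Matrix (Fin a × Fin b) (Fin a × Fin b) F)
    ((m⁻¹ : Matrix.GeneralLinearGroup (Fin a × Fin b) F) :
      Matrix (Fin a × Fin b) (Fin a × Fin b) F) h1 h2 N hstar hS2 hts hskew ?_
  intro w z hww hwz hfix hsh
  have hr : kronG (1 : Matrix.GeneralLinearGroup (Fin a) F)
      (ts4c1ab_siegG C.sym C.two hww hwz) ∈ T0 J1 J2 :=
    kronG_mem_T0 (Subgroup.one_mem _) (ts4c1ab_siegG_mem C.sym C.two hww hwz)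
  have hr'M : m⁻¹ * kronG (1 : Matrix.GeneralLinearGroup (Fin a) F)
      (ts4c1ab_siegG C.sym C.two hww hwz) * m ∈ M :=
    M.mul_mem (M.mul_mem (M.inv_mem hm) (hT0 hr)) hm
  have hcoe : ∀ v : Fin a × Fin b → F,
      ((m⁻¹ * kronG (1 : Matrix.GeneralLinearGroup (Fin a) F)
        (ts4c1ab_siegG C.sym C.two hww hwz) * m : Matrix.GeneralLinearGroup (Fin a × Fin b) F) :
        Matrix (Fin a × Fin b) (Fin a × Fin b) F) *ᵥ v =
      ((m⁻¹ : Matrix.GeneralLinearGroup (Fin a × Fin b) F) :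
        Matrix (Fin a × Fin b) (Fin a × Fin b) F) *ᵥ
        (((1 : Matrix (Fin a) (Fin a) F) ⊗ₖ sieg J2 w z) *ᵥ
          ((m : Matrix (Fin a × Fin b) (Fin a × Fin b) F) *ᵥ v)) := by
    intro v
    rw [Units.val_mul, Units.val_mul, kronG_coe, Units.val_one, ts4c1ab_siegG_coe,
      Matrix.mulVec_mulVec, Matrix.mulVec_mulVec]
  obtain ⟨x₀, c₀, hx₀u, hHA⟩ := hN _ hr'M u hu (fun y => by rw [hcoe]; exact hfix y)
    (fun x hx y => by
      obtain ⟨y', hy'⟩ := hsh x hx y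
      exact ⟨y', by rw [hcoe]; exact hy'⟩)
  refine ⟨x₀, c₀, hx₀u, fun x y => ?_⟩
  rw [← hcoe, hHA x y, Matrix.one_mulVec, Matrix.smul_mulVec, Matrix.one_mulVec, ten_smul_right,
    smul_smul]

end Cfsg.Agent.Lib.Helper21.TS
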