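import Mathlib
import Cfsg.Agent.Lib.Helper5.UNI.Defs

/-!
# UNI row A5A (helper9): `relFix_eq_fixedBy`.
-/

set_option autoImplicit false

namespace Cfsg.Agent.Lib.Helper5.UNI

section Abstract

variable {G : Type*} [Group G]

/-- the natural map `X ⧸ (Y ∩ X) → G ⧸ Y` -/
def unia5a_map (X Y : Subgroup G) : ↥X ⧸ Y.subgroupOf X → G ⧸ Y :=
  Quotient.map' (fun x : X => (x : G)) (by
    intro a b hab
    rw [QuotientGroup.leftRel_apply] at hab ⊢
    rw [Subgroup.mem_subgroupOf] at hab
    simpa using hab)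

theorem unia5a_map_mk (X Y : Subgroup G) (x : X) :
    unia5a_map X Y (x : ↥X ⧸ Y.subgroupOf X) = ((x : G) : G ⧸ Y) := rfl

theorem unia5a_map_smul (X Y : Subgroup G) (g : X) (c : ↥X ⧸ Y.subgroupOf X) :
    unia5a_map X Y (g • c) = (g : G) • unia5a_map X Y c := by
  induction c using QuotientGroup.induction_on with
  | H x => rfl

theorem unia5a_map_injective (X Y : Subgroup G) : Function.Injective (unia5a_map X Y) := by
  intro a b hab
  induction a using QuotientGroup.induction_on with
  | H x =>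
    induction b using QuotientGroup.induction_on with
    | H y =>
      rw [unia5a_map_mk, unia5a_map_mk, QuotientGroup.eq] at hab
      rw [QuotientGroup.eq, Subgroup.mem_subgroupOf]
      simpa using hab

/-- A5a: `relFix` is the number of fixed points on `X ⧸ Y` -/
theorem relFix_eq_fixedBy (X Y : Subgroup G) (hYX : Y ≤ X) (g : ↥X) :
    relFix X Y (g : G) = Nat.card (MulAction.fixedBy (↥X ⧸ Y.subgroupOf X) g) := by
  unfold relFix
  symm
  refine Nat.card_congr (Equiv.ofBijective
    (fun c : MulAction.fixedBy (↥X ⧸ Y.subgroupOf X) g =>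
      (⟨unia5a_map X Y c.1, ?_, ?_⟩ :
        {c : G ⧸ Y // (g : G) • c = c ∧ ∃ x ∈ X, c = ((x : G) : G ⧸ Y)})) ⟨?_, ?_⟩)
  · have h := c.2
    rw [MulAction.mem_fixedBy] at h
    rw [← unia5a_map_smul, h]
  · obtain ⟨c, hc⟩ := c
    induction c using QuotientGroup.induction_on with
    | H x => exact ⟨(x : G), x.2, rfl⟩
  · intro a b hab
    have := congrArg Subtype.val hab
    exact Subtype.ext (unia5a_map_injective X Y this)
  · rintro ⟨c, hc1, x, hx, rfl⟩
    refine ⟨⟨((⟨x, hx⟩ : X) : ↥X ⧸ Y.subgroupOf X), ?_⟩, rfl⟩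
    rw [MulAction.mem_fixedBy]
    apply unia5a_map_injective X Y
    rw [unia5a_map_smul]
    exact hc1

end Abstract

end Cfsg.Agent.Lib.Helper5.UNI
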