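import Mathlib
import Cfsg.Agent.Lib.Helper11.UNS.Defs
import Cfsg.Agent.Lib.Helper11.UNSK

/-!
Project UNS (S2316), row W3 (`rev_cross`), verbatim vs `Helper11/UNS/Skel.lean.txt`.
-/

set_option autoImplicit false

namespace Cfsg.Agent.Lib.Helper11.UNS

open Matrix Cfsg.Agent.Lib.helper14.SpBN

universe u

variable {F : Type u} [Field F] {m : ℕ}

/-- W3. -/
theorem rev_cross (J : Finset ℕ) {π : Equiv.Perm (Fin m ⊕ Fin m)} (h : BP J π)
    {x y : Fin m ⊕ Fin m} (hxy : bfJ J x < bfJ J y) : rk (π x) < rk (π y) := by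
  apply rk_lt_of_bfJ_lt J
  rw [h x, h y]
  exact hxy

end Cfsg.Agent.Lib.Helper11.UNS
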