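import Cfsg.Agent.Lib.Helper9.UT.Defs
import Cfsg.Agent.Lib.Helper25.UTE1
import Cfsg.Agent.Lib.Helper20.UTES
import Cfsg.Agent.Lib.Helper20.UTDICHB
import Cfsg.Agent.Lib.helper8.UTRC1
import Cfsg.Agent.Lib.Helper13.UTRC2
import Cfsg.Agent.Lib.Helper13.UTPIG
import Cfsg.Agent.Lib.Helper1.UTRCG
import Cfsg.Agent.Lib.Helper25.UTRCTVcore

/-!
# Project UT, piece BMAIN: without `C0` there is a full root group (assembly of Part B)
-/

set_option autoImplicit false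

open Cfsg

namespace Cfsg.Agent.Lib.Helper9.UT

open Matrix Cfsg.Agent.Lib.Helper29.ExtrL Cfsg.Agent.Lib.Helper28.UMax

variable {n q : ℕ} {F : Type*} [Field F] [Fintype F] {σ : F ≃+* F}
  {M : Subgroup (Matrix.GeneralLinearGroup (Fin n) F)}

/-- in characteristic two `q` is even, so `3 ≤ q` gives `4 ≤ q` -/
theorem utbmain_four_le (S : UF n q σ) (hq : 3 ≤ q) (h2 : (2 : F) = 0) : 4 ≤ q := by
  haveI : CharP F 2 := CharTwo.of_one_ne_zero_of_two_eq_zero one_ne_zero h2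
  haveI : Fact (Nat.Prime 2) := ⟨Nat.prime_two⟩
  obtain ⟨k, _, hk⟩ := FiniteField.card F 2
  rw [S.hF] at hk
  have hdvd : 2 ∣ q ^ 2 := by
    rw [hk]
    exact dvd_pow_self 2 (PNat.ne_zero k)
  have h2q : 2 ∣ q := Nat.Prime.dvd_of_dvd_pow Nat.prime_two hdvd
  omega

/-- `rc_tv` from its core (`Helper25.UTRCTVcore`), `pig` and `rc_g` -/
theorem utbmain_rc_tv (S : UTS n q σ M) (hq : 3 ≤ q) (h2 : (2 : F) ≠ 0) {k : Fin n} {y : Fin n → F}
    (hRC : RC n q σ M k y) (l : Fin n) (hl : y l ≠ 0) (hν1 : y l * σ (y l) ≠ 1) :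
    ∃ t ∈ M, ∃ (w : Fin n → F) (c : F), w ≠ 0 ∧ Cfsg.hermForm n F q w w = 0 ∧ w k = 0 ∧ c ≠ 0 ∧
      σ c = -c ∧ IsTv n q t w c :=
  utrctv_core S hq h2 hRC l hl hν1
    (fun ν hν hν0 hν1' => pig S.toUF hq h2 ν hν hν0 hν1')
    (fun lam mu hlam hmu hl1 hm1 hm2 htr =>
      rc_g S h2 hRC l hl hν1 lam mu hlam hmu hl1 hm1 hm2 htr)

/-- BMAIN -/
theorem xs_of_notC0 (S : UTS n q σ M) (hq : 3 ≤ q) (hn : 13 ≤ n) (hC0 : ¬ C0 M) :
    ∃ w ∈ XS (Cfsg.hermForm n F q) σ M, w ≠ 0 ∧ ∃ k : Fin n, w k = 0 := by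
  by_cases h2 : (2 : F) = 0
  · have hq4 : 4 ≤ q := utbmain_four_le S.toUF hq h2
    obtain ⟨t, ht, w, k, hT, hw, hk, i1, i2, i3, h12, h13, h23, h1, h2', h3⟩ :=
      e1_even S hq (by omega) h2 hC0
    by_cases hall : ∀ i, w i ≠ 0 → w i * σ (w i) = 1
    · obtain ⟨w'', hw'', hw''0, hw''k⟩ := es_even S hq4 h2 ht hT hw hk hall h12 h13 h23 h1 h2' h3
      exact ⟨w'', hw'', hw''0, k, hw''k⟩
    · push Not at hall
      obtain ⟨i, hi, hne⟩ := hall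
      have hc : σ (1 : F) = -1 := by
        rw [map_one]
        linear_combination h2
      refine ⟨w, dich S hq ht hw hc one_ne_zero hT hi hk (Or.inr (by rw [one_mul]; exact hne)),
        ?_, k, hk⟩
      intro h0
      rw [h0] at h1
      exact h1 rfl
  · obtain ⟨k, y, hRC, l, l', hll', hl, hl'⟩ := rc_of_notC0 S hC0
    obtain ⟨y', l₁, hRC', hl₁, hν1⟩ := rc_good S hq hRC hll' hl hl'
    obtain ⟨t, ht, w, c, hw0, hw, hwk, hc0, hc, hT⟩ := utbmain_rc_tv S hq h2 hRC' l₁ hl₁ hν1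
    have hex : ∃ i, w i ≠ 0 := by
      by_contra hcon
      push Not at hcon
      exact hw0 (funext hcon)
    obtain ⟨i, hi⟩ := hex
    exact ⟨w, dich S hq ht hw hc hc0 hT hi hwk (Or.inl h2), hw0, k, hwk⟩

end Cfsg.Agent.Lib.Helper9.UT
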