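import Cfsg.Agent.Lib.Helper9.UT.Defs

/-!
# Project UT, piece PAIRS: choice of the pairs `P2`, `P3`
-/

set_option autoImplicit false

open Cfsg

namespace Cfsg.Agent.Lib.Helper9.UT

open Matrix Cfsg.Agent.Lib.Helper29.ExtrL Cfsg.Agent.Lib.Helper28.UMax

variable {n q : ℕ} {F : Type*} [Field F]

open Classical in
/-- support of a vector -/
noncomputable def utpairs_supp (x : Fin n → F) : Finset (Fin n) :=
  Finset.univ.filter (fun m => x m ≠ 0)

theorem utpairs_mem_supp (x : Fin n → F) (m : Fin n) : m ∈ utpairs_supp x ↔ x m ≠ 0 := by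
  unfold utpairs_supp
  simp

def utpairs_P1 (x : Fin n → F) (i j : Fin n) : Prop :=
  ∀ m, m ≠ i → m ≠ j → x m ≠ 0 → ∃ m', m' ≠ m ∧ m' ≠ i ∧ m' ≠ j ∧ x m' ≠ 0

def utpairs_P2 (x : Fin n → F) (i2 j2 i3 j3 : Fin n) : Prop :=
  ∀ m, m ≠ i2 → m ≠ j2 → m ≠ i3 → m ≠ j3 → x m ≠ 0 →
    ∃ m' m'', m' ≠ m ∧ m'' ≠ m ∧ m' ≠ m'' ∧
      m' ≠ i2 ∧ m' ≠ j2 ∧ m' ≠ i3 ∧ m' ≠ j3 ∧ m'' ≠ i2 ∧ m'' ≠ j2 ∧ m'' ≠ i3 ∧ m'' ≠ j3 ∧
      x m' ≠ 0 ∧ x m'' ≠ 0

def utpairs_P3 (x : Fin n → F) (i2 j2 i3 j3 : Fin n) : Prop :=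
  (∀ m, m ≠ i2 → m ≠ j2 → m ≠ i3 → m ≠ j3 → x m = 0) → x i3 = 0 ∧ x j3 = 0

theorem utpairs_exists_notMem (s : Finset (Fin n)) (hs : s.card < n) : ∃ a, a ∉ s := by
  by_contra hcon
  push Not at hcon
  have : s = Finset.univ := Finset.eq_univ_iff_forall.mpr hcon
  rw [this, Finset.card_univ, Fintype.card_fin] at hs
  exact lt_irrefl _ hs

/-- there is an element of `s` outside the small set `t` -/
theorem utpairs_exists_mem_sdiff (s t : Finset (Fin n)) (h : t.card < s.card) :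
    ∃ a ∈ s, a ∉ t := by
  have h1 := Finset.le_card_sdiff t s
  have h2 : 0 < (s \ t).card := by omega
  obtain ⟨a, ha⟩ := Finset.card_pos.1 h2
  rw [Finset.mem_sdiff] at ha
  exact ⟨a, ha.1, ha.2⟩

theorem utpairs_two_mem_sdiff (s t : Finset (Fin n)) (h : t.card + 1 < s.card) :
    ∃ a ∈ s, ∃ b ∈ s, a ≠ b ∧ a ∉ t ∧ b ∉ t := by
  have h1 := Finset.le_card_sdiff t s
  have h2 : 1 < (s \ t).card := by omega
  obtain ⟨a, ha, b, hb, hab⟩ := Finset.one_lt_card.1 h2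
  rw [Finset.mem_sdiff] at ha hb
  exact ⟨a, ha.1, b, hb.1, hab, ha.2, hb.2⟩

theorem utpairs_heavy (x : Fin n → F) (hx : 7 ≤ (utpairs_supp x).card) (i2 j2 i3 j3 : Fin n) :
    utpairs_P1 x i2 j2 ∧ utpairs_P1 x i3 j3 ∧ utpairs_P2 x i2 j2 i3 j3 ∧
      utpairs_P3 x i2 j2 i3 j3 := by
  classical
  have hP1 : ∀ i j, utpairs_P1 x i j := by
    intro i j m _ _ _
    have hc : ({m, i, j} : Finset (Fin n)).card ≤ 3 := Finset.card_le_three
    obtain ⟨a, ha, hat⟩ := utpairs_exists_mem_sdiff (utpairs_supp x) {m, i, j} (by omega)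
    simp only [Finset.mem_insert, Finset.mem_singleton, not_or] at hat
    exact ⟨a, hat.1, hat.2.1, hat.2.2, (utpairs_mem_supp x a).1 ha⟩
  refine ⟨hP1 i2 j2, hP1 i3 j3, ?_, ?_⟩
  · intro m _ _ _ _ _
    have hc : ({m, i2, j2, i3, j3} : Finset (Fin n)).card ≤ 5 := Finset.card_le_five
    obtain ⟨a, ha, b, hb, hab, hat, hbt⟩ :=
      utpairs_two_mem_sdiff (utpairs_supp x) {m, i2, j2, i3, j3} (by omega)
    simp only [Finset.mem_insert, Finset.mem_singleton, not_or] at hat hbt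
    exact ⟨a, b, hat.1, hbt.1, hab, hat.2.1, hat.2.2.1, hat.2.2.2.1, hat.2.2.2.2,
      hbt.2.1, hbt.2.2.1, hbt.2.2.2.1, hbt.2.2.2.2, (utpairs_mem_supp x a).1 ha,
      (utpairs_mem_supp x b).1 hb⟩
  · intro h
    exfalso
    have hsub : utpairs_supp x ⊆ ({i2, j2, i3, j3} : Finset (Fin n)) := by
      intro m hm
      rw [utpairs_mem_supp] at hm
      simp only [Finset.mem_insert, Finset.mem_singleton]
      by_contra hcon
      push Not at hcon
      exact hm (h m hcon.1 hcon.2.1 hcon.2.2.1 hcon.2.2.2)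
    have h1 := Finset.card_le_card hsub
    have h2 : ({i2, j2, i3, j3} : Finset (Fin n)).card ≤ 4 := Finset.card_le_four
    omega

theorem utpairs_zero (i2 j2 i3 j3 : Fin n) :
    utpairs_P1 (0 : Fin n → F) i2 j2 ∧ utpairs_P1 (0 : Fin n → F) i3 j3 ∧
      utpairs_P2 (0 : Fin n → F) i2 j2 i3 j3 ∧ utpairs_P3 (0 : Fin n → F) i2 j2 i3 j3 := by
  refine ⟨?_, ?_, ?_, ?_⟩
  · intro m _ _ h; exact absurd rfl h
  · intro m _ _ h; exact absurd rfl h
  · intro m _ _ _ _ h; exact absurd rfl h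
  · intro _; exact ⟨rfl, rfl⟩

theorem utpairs_smul (x : Fin n → F) (c : F) (hc : c ≠ 0) (i2 j2 i3 j3 : Fin n)
    (h : utpairs_P1 x i2 j2 ∧ utpairs_P1 x i3 j3 ∧ utpairs_P2 x i2 j2 i3 j3 ∧
      utpairs_P3 x i2 j2 i3 j3) :
    utpairs_P1 (c • x) i2 j2 ∧ utpairs_P1 (c • x) i3 j3 ∧ utpairs_P2 (c • x) i2 j2 i3 j3 ∧
      utpairs_P3 (c • x) i2 j2 i3 j3 := by
  have hiff : ∀ m, (c • x) m ≠ 0 ↔ x m ≠ 0 := by
    intro m
    rw [Pi.smul_apply, smul_eq_mul]
    exact ⟨fun h => right_ne_zero_of_mul h, fun h => mul_ne_zero hc h⟩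
  have hiff0 : ∀ m, (c • x) m = 0 ↔ x m = 0 := fun m => not_iff_not.1 (hiff m)
  obtain ⟨h1, h2, h3, h4⟩ := h
  refine ⟨?_, ?_, ?_, ?_⟩
  · intro m a1 a2 hm
    obtain ⟨m', b1, b2, b3, b4⟩ := h1 m a1 a2 ((hiff m).1 hm)
    exact ⟨m', b1, b2, b3, (hiff m').2 b4⟩
  · intro m a1 a2 hm
    obtain ⟨m', b1, b2, b3, b4⟩ := h2 m a1 a2 ((hiff m).1 hm)
    exact ⟨m', b1, b2, b3, (hiff m').2 b4⟩
  · intro m a1 a2 a3 a4 hm
    obtain ⟨m', m'', c1, c2, c3, c4, c5, c6, c7, c8, c9, c10, c11, c12, c13⟩ :=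
      h3 m a1 a2 a3 a4 ((hiff m).1 hm)
    exact ⟨m', m'', c1, c2, c3, c4, c5, c6, c7, c8, c9, c10, c11, (hiff m').2 c12,
      (hiff m'').2 c13⟩
  · intro h
    have := h4 (fun m a1 a2 a3 a4 => (hiff0 m).1 (h m a1 a2 a3 a4))
    exact ⟨(hiff0 i3).2 this.1, (hiff0 j3).2 this.2⟩

variable [Fintype F]

/-- PAIRS -/
theorem pairs_exist (hn : 13 ≤ n) (b1 b2 : Fin n → F)
    (hB1 : ∀ α β : F, (α ≠ 0 ∨ β ≠ 0) → ∀ m, ∃ m', m' ≠ m ∧ (α • b1 + β • b2) m' ≠ 0)
    (hB2 : ∀ α β α' β' : F, α * β' - α' * β ≠ 0 → ∀ m,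
      ¬ ((α • b1 + β • b2) m = 0 ∧ (α' • b1 + β' • b2) m = 0)) :
    ∃ i2 j2 i3 j3 : Fin n, i2 ≠ j2 ∧ i2 ≠ i3 ∧ i2 ≠ j3 ∧ j2 ≠ i3 ∧ j2 ≠ j3 ∧ i3 ≠ j3 ∧
      Hyp1 b1 b2 i2 j2 ∧ Hyp1 b1 b2 i3 j3 ∧ Hyp2 b1 b2 i2 j2 i3 j3 ∧ Hyp3 b1 b2 i2 j2 i3 j3 := by
  classical
  -- reformulation
  suffices hsuff : ∃ i2 j2 i3 j3 : Fin n, i2 ≠ j2 ∧ i2 ≠ i3 ∧ i2 ≠ j3 ∧ j2 ≠ i3 ∧ j2 ≠ j3 ∧
      i3 ≠ j3 ∧ ∀ α β : F, utpairs_P1 (α • b1 + β • b2) i2 j2 ∧
        utpairs_P1 (α • b1 + β • b2) i3 j3 ∧ utpairs_P2 (α • b1 + β • b2) i2 j2 i3 j3 ∧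
        utpairs_P3 (α • b1 + β • b2) i2 j2 i3 j3 by
    obtain ⟨i2, j2, i3, j3, d1, d2, d3, d4, d5, d6, h⟩ := hsuff
    exact ⟨i2, j2, i3, j3, d1, d2, d3, d4, d5, d6, fun α β => (h α β).1, fun α β => (h α β).2.1,
      fun α β => (h α β).2.2.1, fun α β => (h α β).2.2.2⟩
  -- two independent light vectors cannot exist
  have hlight : ∀ α β α' β' : F, (utpairs_supp (α • b1 + β • b2)).card ≤ 6 →
      (utpairs_supp (α' • b1 + β' • b2)).card ≤ 6 → α * β' - α' * β = 0 := by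
    intro α β α' β' h1 h2
    by_contra hdet
    set Z := (utpairs_supp (α • b1 + β • b2))ᶜ with hZ
    set Z' := (utpairs_supp (α' • b1 + β' • b2))ᶜ with hZ'
    have hdisj : Disjoint Z Z' := by
      rw [Finset.disjoint_left]
      intro m hm hm'
      rw [hZ, Finset.mem_compl, utpairs_mem_supp, not_not] at hm
      rw [hZ', Finset.mem_compl, utpairs_mem_supp, not_not] at hm'
      exact hB2 α β α' β' hdet m ⟨hm, hm'⟩
    have hle1 : (utpairs_supp (α • b1 + β • b2)).card ≤ n := by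
      have := Finset.card_le_univ (utpairs_supp (α • b1 + β • b2))
      rwa [Fintype.card_fin] at this
    have hle2 : (utpairs_supp (α' • b1 + β' • b2)).card ≤ n := by
      have := Finset.card_le_univ (utpairs_supp (α' • b1 + β' • b2))
      rwa [Fintype.card_fin] at this
    have hc1 : Z.card = n - (utpairs_supp (α • b1 + β • b2)).card := by
      rw [hZ, Finset.card_compl, Fintype.card_fin]
    have hc2 : Z'.card = n - (utpairs_supp (α' • b1 + β' • b2)).card := by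
      rw [hZ', Finset.card_compl, Fintype.card_fin]
    have hc3 : (Z ∪ Z').card = Z.card + Z'.card := Finset.card_union_of_disjoint hdisj
    have hc4 : (Z ∪ Z').card ≤ n := by
      have := Finset.card_le_univ (Z ∪ Z')
      rwa [Fintype.card_fin] at this
    omega
  by_cases hex : ∃ α0 β0 : F, (α0 ≠ 0 ∨ β0 ≠ 0) ∧ (utpairs_supp (α0 • b1 + β0 • b2)).card ≤ 6
  · obtain ⟨α0, β0, hne0, hl0⟩ := hex
    set x0 : Fin n → F := α0 • b1 + β0 • b2 with hx0
    set S0 := utpairs_supp x0 with hS0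
    -- light vectors are multiples of x0
    have hmult : ∀ α β : F, (utpairs_supp (α • b1 + β • b2)).card ≤ 6 →
        ∃ c : F, α • b1 + β • b2 = c • x0 := by
      intro α β hl
      have hdet := hlight α0 β0 α β hl0 hl
      rcases hne0 with h0 | h0
      · refine ⟨α / α0, ?_⟩
        have hβ : β = α / α0 * β0 := by
          field_simp
          linear_combination hdet
        rw [hx0, smul_add, smul_smul, smul_smul, div_mul_cancel₀ _ h0, ← hβ]
      · refine ⟨β / β0, ?_⟩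
        have hα : α = β / β0 * α0 := by
          field_simp
          linear_combination -hdet
        rw [hx0, smul_add, smul_smul, smul_smul, div_mul_cancel₀ _ h0, ← hα]
    -- reduce to x0
    have hred : ∀ i2 j2 i3 j3 : Fin n,
        (utpairs_P1 x0 i2 j2 ∧ utpairs_P1 x0 i3 j3 ∧ utpairs_P2 x0 i2 j2 i3 j3 ∧
          utpairs_P3 x0 i2 j2 i3 j3) →
        ∀ α β : F, utpairs_P1 (α • b1 + β • b2) i2 j2 ∧
          utpairs_P1 (α • b1 + β • b2) i3 j3 ∧ utpairs_P2 (α • b1 + β • b2) i2 j2 i3 j3 ∧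
          utpairs_P3 (α • b1 + β • b2) i2 j2 i3 j3 := by
      intro i2 j2 i3 j3 h0 α β
      by_cases hl : (utpairs_supp (α • b1 + β • b2)).card ≤ 6
      · obtain ⟨c, hc⟩ := hmult α β hl
        rw [hc]
        by_cases hc0 : c = 0
        · rw [hc0, zero_smul]
          exact utpairs_zero i2 j2 i3 j3
        · exact utpairs_smul x0 c hc0 i2 j2 i3 j3 h0
      · exact utpairs_heavy _ (by omega) i2 j2 i3 j3
    -- S0 has at least two elements
    have hS0two : 2 ≤ S0.card := by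
      have hn0 : 0 < n := by omega
      obtain ⟨m1, _, hm1⟩ := hB1 α0 β0 hne0 ⟨0, hn0⟩
      obtain ⟨m2, hm21, hm2⟩ := hB1 α0 β0 hne0 m1
      have h1 : m1 ∈ S0 := (utpairs_mem_supp x0 m1).2 hm1
      have h2 : m2 ∈ S0 := (utpairs_mem_supp x0 m2).2 hm2
      have : ({m1, m2} : Finset (Fin n)) ⊆ S0 := by
        intro a ha
        simp only [Finset.mem_insert, Finset.mem_singleton] at ha
        rcases ha with rfl | rfl <;> assumption
      have hc := Finset.card_le_card this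
      rw [Finset.card_pair (Ne.symm hm21)] at hc
      exact hc
    by_cases hS02 : S0.card = 2
    · -- weight two
      obtain ⟨i2, j2, h22, hS0eq⟩ := Finset.card_eq_two.1 hS02
      obtain ⟨i3, hi3⟩ := utpairs_exists_notMem S0 (by omega)
      obtain ⟨j3, hj3⟩ := utpairs_exists_notMem (insert i3 S0) (by
        have := Finset.card_insert_le i3 S0
        omega)
      rw [Finset.mem_insert, not_or] at hj3
      rw [hS0eq] at hi3 hj3
      simp only [Finset.mem_insert, Finset.mem_singleton, not_or] at hi3 hj3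
      have hx0i : ∀ m, x0 m ≠ 0 ↔ (m = i2 ∨ m = j2) := by
        intro m
        rw [← utpairs_mem_supp, ← hS0, hS0eq]
        simp
      refine ⟨i2, j2, i3, j3, h22, Ne.symm hi3.1, Ne.symm hj3.2.1, Ne.symm hi3.2,
        Ne.symm hj3.2.2, Ne.symm hj3.1, hred i2 j2 i3 j3 ⟨?_, ?_, ?_, ?_⟩⟩
      · intro m a1 a2 hm
        rcases (hx0i m).1 hm with h | h
        · exact absurd h a1
        · exact absurd h a2
      · intro m _ _ hm
        rcases (hx0i m).1 hm with h | h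
        · exact ⟨j2, by rw [h]; exact Ne.symm h22, Ne.symm hi3.2, Ne.symm hj3.2.2,
            (hx0i j2).2 (Or.inr rfl)⟩
        · exact ⟨i2, by rw [h]; exact h22, Ne.symm hi3.1, Ne.symm hj3.2.1,
            (hx0i i2).2 (Or.inl rfl)⟩
      · intro m a1 a2 _ _ hm
        rcases (hx0i m).1 hm with h | h
        · exact absurd h a1
        · exact absurd h a2
      · intro _
        constructor
        · by_contra h
          rcases (hx0i i3).1 h with h' | h'
          · exact hi3.1 h'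
          · exact hi3.2 h'
        · by_contra h
          rcases (hx0i j3).1 h with h' | h'
          · exact hj3.2.1 h'
          · exact hj3.2.2 h'
    · -- weight between 3 and 6: four indices outside S0
      have hS03 : 3 ≤ S0.card := by omega
      obtain ⟨i2, hi2⟩ := utpairs_exists_notMem S0 (by omega)
      obtain ⟨j2, hj2⟩ := utpairs_exists_notMem (insert i2 S0) (by
        have := Finset.card_insert_le i2 S0
        omega)
      obtain ⟨i3, hi3⟩ := utpairs_exists_notMem (insert j2 (insert i2 S0)) (by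
        have := Finset.card_insert_le i2 S0
        have := Finset.card_insert_le j2 (insert i2 S0)
        omega)
      obtain ⟨j3, hj3⟩ := utpairs_exists_notMem (insert i3 (insert j2 (insert i2 S0))) (by
        have := Finset.card_insert_le i2 S0
        have := Finset.card_insert_le j2 (insert i2 S0)
        have := Finset.card_insert_le i3 (insert j2 (insert i2 S0))
        omega)
      simp only [Finset.mem_insert, not_or] at hj2 hi3 hj3
      have hoff : ∀ m, x0 m ≠ 0 → m ≠ i2 ∧ m ≠ j2 ∧ m ≠ i3 ∧ m ≠ j3 := by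
        intro m hm
        have hmS : m ∈ S0 := (utpairs_mem_supp x0 m).2 hm
        refine ⟨?_, ?_, ?_, ?_⟩
        · rintro rfl; exact hi2 hmS
        · rintro rfl; exact hj2.2 hmS
        · rintro rfl; exact hi3.2.2 hmS
        · rintro rfl; exact hj3.2.2.2 hmS
      -- two further elements of S0
      have htwo : ∀ m, ∃ m' m'', m' ≠ m ∧ m'' ≠ m ∧ m' ≠ m'' ∧ x0 m' ≠ 0 ∧ x0 m'' ≠ 0 := by
        intro m
        have hc : ({m} : Finset (Fin n)).card = 1 := Finset.card_singleton m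
        obtain ⟨a, ha, b, hb, hab, hat, hbt⟩ := utpairs_two_mem_sdiff S0 {m} (by omega)
        rw [Finset.mem_singleton] at hat hbt
        exact ⟨a, b, hat, hbt, hab, (utpairs_mem_supp x0 a).1 ha, (utpairs_mem_supp x0 b).1 hb⟩
      refine ⟨i2, j2, i3, j3, Ne.symm hj2.1, Ne.symm hi3.2.1, Ne.symm hj3.2.2.1, Ne.symm hi3.1,
        Ne.symm hj3.2.1, Ne.symm hj3.1, hred i2 j2 i3 j3 ⟨?_, ?_, ?_, ?_⟩⟩
      · intro m _ _ _
        obtain ⟨m', _, hm', _, _, hx', _⟩ := htwo m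
        obtain ⟨o1, o2, _, _⟩ := hoff m' hx'
        exact ⟨m', hm', o1, o2, hx'⟩
      · intro m _ _ _
        obtain ⟨m', _, hm', _, _, hx', _⟩ := htwo m
        obtain ⟨_, _, o3, o4⟩ := hoff m' hx'
        exact ⟨m', hm', o3, o4, hx'⟩
      · intro m _ _ _ _ _
        obtain ⟨m', m'', hm', hm'', hne, hx', hx''⟩ := htwo m
        obtain ⟨o1, o2, o3, o4⟩ := hoff m' hx'
        obtain ⟨p1, p2, p3, p4⟩ := hoff m'' hx''
        exact ⟨m', m'', hm', hm'', hne, o1, o2, o3, o4, p1, p2, p3, p4, hx', hx''⟩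
      · intro h
        exfalso
        obtain ⟨m', _, _, _, _, hx', _⟩ := htwo i2
        obtain ⟨o1, o2, o3, o4⟩ := hoff m' hx'
        exact hx' (h m' o1 o2 o3 o4)
  · -- no light vector
    push Not at hex
    have h0 : (⟨0, by omega⟩ : Fin n) ≠ ⟨1, by omega⟩ := by
      intro h; simpa using congrArg Fin.val h
    have h1 : (⟨0, by omega⟩ : Fin n) ≠ ⟨2, by omega⟩ := by
      intro h; simpa using congrArg Fin.val h
    have h2 : (⟨0, by omega⟩ : Fin n) ≠ ⟨3, by omega⟩ := by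
      intro h; simpa using congrArg Fin.val h
    have h3 : (⟨1, by omega⟩ : Fin n) ≠ ⟨2, by omega⟩ := by
      intro h; simpa using congrArg Fin.val h
    have h4 : (⟨1, by omega⟩ : Fin n) ≠ ⟨3, by omega⟩ := by
      intro h; simpa using congrArg Fin.val h
    have h5 : (⟨2, by omega⟩ : Fin n) ≠ ⟨3, by omega⟩ := by
      intro h; simpa using congrArg Fin.val h
    refine ⟨⟨0, by omega⟩, ⟨1, by omega⟩, ⟨2, by omega⟩, ⟨3, by omega⟩, h0, h1, h2, h3, h4, h5, ?_⟩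
    intro α β
    by_cases hαβ : α ≠ 0 ∨ β ≠ 0
    · have := hex α β hαβ
      exact utpairs_heavy _ (by omega) _ _ _ _
    · push Not at hαβ
      rw [hαβ.1, hαβ.2, zero_smul, zero_smul, add_zero]
      exact utpairs_zero _ _ _ _

end Cfsg.Agent.Lib.Helper9.UT
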