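import Cfsg.Agent.Lib.Helper9.UTGEO
import Cfsg.Agent.Lib.Helper9.UTPAIRS
import Cfsg.Agent.Lib.helper8.UTCARD
import Cfsg.Agent.Lib.Helper13.UTCLO
import Cfsg.Agent.Lib.Helper20.UTW1
import Cfsg.Agent.Lib.Helper21.UTSYL
import Cfsg.Agent.Lib.Helper13.UTLIGHT

/-!
# Project UT, piece KILL: the `C0` world is empty (assembly of Part A)
-/

set_option autoImplicit false

open Cfsg

namespace Cfsg.Agent.Lib.Helper9.UT

open Matrix Cfsg.Agent.Lib.Helper29.ExtrL Cfsg.Agent.Lib.Helper28.UMax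

variable {n q : ℕ} {F : Type*} [Field F] [Fintype F] {σ : F ≃+* F}
  {M : Subgroup (Matrix.GeneralLinearGroup (Fin n) F)}

/-- a column of a monomial invertible matrix is a non-zero multiple of a basis vector -/
theorem utkill_col (k : Matrix.GeneralLinearGroup (Fin n) F)
    (hk : IsMono (k : Matrix (Fin n) (Fin n) F)) (a : Fin n) :
    ∃ (m : Fin n) (c : F), c ≠ 0 ∧
      (k : Matrix (Fin n) (Fin n) F) *ᵥ Pi.single a (1 : F) = c • Pi.single m (1 : F) := by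
  obtain ⟨m, hm⟩ := hk a
  refine ⟨m, (k : Matrix (Fin n) (Fin n) F) m a, ?_, ?_⟩
  · obtain ⟨i, hi⟩ := gl_col_ne_zero k a
    by_cases him : i = m
    · rw [← him]; exact hi
    · exact absurd (hm i him) hi
  · funext r
    rw [Matrix.mulVec_single_one]
    by_cases hr : r = m
    · subst hr
      simp
    · rw [Pi.smul_apply, utgeo_single_ne hr, smul_zero]
      exact hm r hr

/-- KILL -/
theorem c0_false (S : UTS n q σ M) (hn : 13 ≤ n) (hq : 3 ≤ q) (hC0 : C0 M)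
    (hne : ∃ g ∈ M, ¬ IsMono ((g : Matrix.GeneralLinearGroup (Fin n) F) :
      Matrix (Fin n) (Fin n) F)) : False := by
  have hW1 : W1 M := c0_w1 S hq (by omega) hC0
  obtain ⟨r, u, hr, hu, hu1, hur⟩ := exists_prime_unit S.toUF
  haveI : Fact r.Prime := ⟨hr⟩
  obtain ⟨g, hg, hgm⟩ := hne
  have hgS : g ∈ SUg n F q := S.hMS hg
  set a : Fin n := ⟨0, by omega⟩ with ha
  set b : Fin n := ⟨1, by omega⟩ with hb
  have hab : a ≠ b := by
    intro h
    have := congrArg Fin.val h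
    simp [ha, hb] at this
  set b1 : Fin n → F := (g : Matrix (Fin n) (Fin n) F) *ᵥ Pi.single a (1 : F) with hb1
  set b2 : Fin n → F := (g : Matrix (Fin n) (Fin n) F) *ᵥ Pi.single b (1 : F) with hb2
  obtain ⟨hB1, hB2⟩ := light S hn hW1 hg hgm hab
  obtain ⟨i2, j2, i3, j3, d1, d2, d3, d4, d5, d6, H12, H13, H2, H3⟩ :=
    pairs_exist hn b1 b2 hB1 hB2
  obtain ⟨h2, hh2, hm2⟩ := syl S (by omega) hW1 r u hu hu1 hur hg d1 hab
  obtain ⟨h3, hh3, hm3⟩ := syl S (by omega) hW1 r u hu hu1 hur hg d6 hab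
  have hli : ∀ α β : F, α • b1 + β • b2 = 0 → α = 0 ∧ β = 0 := by
    intro α β h
    have h0 : (g : Matrix (Fin n) (Fin n) F) *ᵥ
        (α • Pi.single a (1 : F) + β • Pi.single b (1 : F)) = 0 := by
      rw [Matrix.mulVec_add, Matrix.mulVec_smul, Matrix.mulVec_smul]
      exact h
    have h1 := utgeo_inj g _ h0
    have e1 := congrFun h1 a
    have e2 := congrFun h1 b
    simp [Pi.single_apply, hab, hab.symm] at e1 e2
    exact ⟨e1, e2⟩
  have hcol : ∀ h : Matrix.GeneralLinearGroup (Fin n) F,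
      IsMono ((h * g : Matrix.GeneralLinearGroup (Fin n) F) : Matrix (Fin n) (Fin n) F) →
      ∀ x : Fin n → F, x = b1 ∨ x = b2 → ∃ (m : Fin n) (c : F), c ≠ 0 ∧
        (h : Matrix (Fin n) (Fin n) F) *ᵥ x = c • Pi.single m (1 : F) := by
    intro h hm x hx
    rcases hx with rfl | rfl
    · obtain ⟨m, c, hc, e⟩ := utkill_col (h * g) hm a
      rw [Cfsg.Agent.S5643.mul_mv] at e
      exact ⟨m, c, hc, e⟩
    · obtain ⟨m, c, hc, e⟩ := utkill_col (h * g) hm b
      rw [Cfsg.Agent.S5643.mul_mv] at e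
      exact ⟨m, c, hc, e⟩
  have hmono : IsMono ((h2 * h3⁻¹ : Matrix.GeneralLinearGroup (Fin n) F) :
      Matrix (Fin n) (Fin n) F) := by
    have e : h2 * h3⁻¹ = (h2 * g) * (h3 * g)⁻¹ := by group
    rw [e, Units.val_mul]
    exact isMono_mul hm2 (isMono_inv _ hm3)
  exact geo S.toUF b1 b2 hli i2 j2 i3 j3 d1 d2 d3 d4 d5 d6 H12 H13 H2 H3 h2 h3
    (fun v hvi hvj hva hvb => clo_fix S.toUF u hgS i2 j2 a b hh2 v hvi hvj hva hvb)
    (fun v hvi hvj hva hvb => clo_fix S.toUF u hgS i3 j3 a b hh3 v hvi hvj hva hvb)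
    (fun v => clo_move u g i2 j2 a b hh2 v)
    (fun v => clo_move u g i3 j3 a b hh3 v)
    (hcol h2 hm2) (hcol h3 hm3) hmono

end Cfsg.Agent.Lib.Helper9.UT
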