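import Cfsg.Agent.Lib.Helper9.UTGEOcore

/-!
# Project UT, pieces PLANE, MF, GEO (verbatim statements of the skeleton)
-/

set_option autoImplicit false

open Cfsg

namespace Cfsg.Agent.Lib.Helper9.UT

open Matrix Cfsg.Agent.Lib.Helper29.ExtrL Cfsg.Agent.Lib.Helper28.UMax

variable {n q : ℕ} {F : Type*} [Field F]

theorem utgeo_span6 (a b c d e₁ e₂ x : Fin n → F)
    (hx : x ∈ Submodule.span F ({a, b, c, d, e₁, e₂} : Set (Fin n → F))) :
    ∃ r s t u α β : F, x = r • a + s • b + t • c + u • d + (α • e₁ + β • e₂) := by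
  rw [Submodule.mem_span_insert] at hx
  obtain ⟨r, z, hz, rfl⟩ := hx
  rw [Submodule.mem_span_insert] at hz
  obtain ⟨s, z', hz', rfl⟩ := hz
  obtain ⟨t, u, α, β, rfl⟩ := utgeo_span4 _ _ _ _ _ hz'
  exact ⟨r, s, t, u, α, β, by abel⟩

variable [Fintype F] {σ : F ≃+* F}

/-- PLANE -/
theorem plane (b1 b2 : Fin n → F) (i j : Fin n) (H1 : Hyp1 b1 b2 i j)
    (h : Matrix.GeneralLinearGroup (Fin n) F)
    (hmove : ∀ v : Fin n → F, (h : Matrix (Fin n) (Fin n) F) *ᵥ v - v ∈ Submodule.span F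
      ({Pi.single i (1 : F), Pi.single j (1 : F), b1, b2} : Set (Fin n → F)))
    (x : Fin n → F) (hx : x = b1 ∨ x = b2) (m : Fin n) (c : F) (hc : c ≠ 0)
    (hcol : (h : Matrix (Fin n) (Fin n) F) *ᵥ x = c • Pi.single m (1 : F)) : m = i ∨ m = j := by
  classical
  by_contra hcon
  push Not at hcon
  obtain ⟨hmi, hmj⟩ := hcon
  obtain ⟨r, s, α, β, hdec⟩ := utgeo_span4 _ _ _ _ _ (hmove x)
  rw [hcol] at hdec
  rcases hx with rfl | rfl
  · have hy : (α + 1) • x + β • b2 = c • Pi.single m (1 : F) - r • Pi.single i (1 : F) -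
        s • Pi.single j (1 : F) := by
      have : c • (Pi.single m (1 : F) : Fin n → F) = r • Pi.single i (1 : F) +
          s • Pi.single j (1 : F) + (α • x + β • b2) + x := by
        rw [← hdec]; abel
      rw [this, add_smul, one_smul]; abel
    have hym : ((α + 1) • x + β • b2) m ≠ 0 := by
      rw [hy]
      simp [Pi.single_apply, hmi, hmj, hc]
    obtain ⟨m', hm', hm'i, hm'j, hne⟩ := H1 (α + 1) β m hmi hmj hym
    apply hne
    rw [hy]
    simp [Pi.single_apply, hm', hm'i, hm'j]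
  · have hy : α • b1 + (β + 1) • x = c • Pi.single m (1 : F) - r • Pi.single i (1 : F) -
        s • Pi.single j (1 : F) := by
      have : c • (Pi.single m (1 : F) : Fin n → F) = r • Pi.single i (1 : F) +
          s • Pi.single j (1 : F) + (α • b1 + β • x) + x := by
        rw [← hdec]; abel
      rw [this, add_smul, one_smul]; abel
    have hym : (α • b1 + (β + 1) • x) m ≠ 0 := by
      rw [hy]
      simp [Pi.single_apply, hmi, hmj, hc]
    obtain ⟨m', hm', hm'i, hm'j, hne⟩ := H1 α (β + 1) m hmi hmj hym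
    apply hne
    rw [hy]
    simp [Pi.single_apply, hm', hm'i, hm'j]

/-- MF -/
theorem mf (S : UF n q σ) (b1 b2 : Fin n → F) (i2 j2 i3 j3 : Fin n)
    (H2 : Hyp2 b1 b2 i2 j2 i3 j3) (n' : Matrix.GeneralLinearGroup (Fin n) F)
    (hmono : IsMono (n' : Matrix (Fin n) (Fin n) F))
    (hfix : ∀ v : Fin n → F, v i2 = 0 → v j2 = 0 → v i3 = 0 → v j3 = 0 →
      Cfsg.hermForm n F q v b1 = 0 → Cfsg.hermForm n F q v b2 = 0 →
      (n' : Matrix (Fin n) (Fin n) F) *ᵥ v = v)
    (m : Fin n) (hm2 : m ≠ i2) (hm2' : m ≠ j2) (hm3 : m ≠ i3) (hm3' : m ≠ j3) :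
    (n' : Matrix (Fin n) (Fin n) F) *ᵥ Pi.single m (1 : F) = Pi.single m (1 : F) := by
  classical
  have hf := S.hU
  obtain ⟨κ, hκ⟩ := hmono m
  set c : F := (n' : Matrix (Fin n) (Fin n) F) κ m with hc
  have hval : (n' : Matrix (Fin n) (Fin n) F) *ᵥ Pi.single m (1 : F) = c • Pi.single κ (1 : F) := by
    funext r'
    rw [Matrix.mulVec_single_one]
    by_cases hr' : r' = κ
    · subst hr'
      simp [hc]
    · rw [Pi.smul_apply, utgeo_single_ne hr', smul_zero]
      exact hκ r' hr'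
  have hc0 : c ≠ 0 := by
    intro h0
    rw [h0, zero_smul] at hval
    have := congrFun (utgeo_inj n' _ hval) m
    rw [Pi.single_eq_same, Pi.zero_apply] at this
    exact one_ne_zero this
  -- row κ of n' has its only non-zero entry in column m
  have hrow : ∀ s, s ≠ m → (n' : Matrix (Fin n) (Fin n) F) κ s = 0 := by
    intro s hs
    obtain ⟨κs, hκs⟩ := hmono s
    by_cases hks : κs = κ
    · exfalso
      subst hks
      exact hs (gl_colAt_inj n' hκs hκ)
    · exact hκs κ (Ne.symm hks)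
  -- fixed vectors satisfy v κ = c v m
  have hcoord : ∀ v : Fin n → F, (n' : Matrix (Fin n) (Fin n) F) *ᵥ v = v → v κ = c * v m := by
    intro v hv
    have := congrFun hv κ
    rw [Matrix.mulVec, dotProduct, Finset.sum_eq_single m] at this
    · rw [← this]
    · intro s _ hs
      rw [hrow s hs, zero_mul]
    · intro h
      exact absurd (Finset.mem_univ _) h
  -- z ∈ span
  set z : Fin n → F := Pi.single κ (1 : F) - σ c • Pi.single m (1 : F) with hz
  have hmem : z ∈ Submodule.span F ({Pi.single i2 (1 : F), Pi.single j2 (1 : F),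
      Pi.single i3 (1 : F), Pi.single j3 (1 : F), b1, b2} : Set (Fin n → F)) := by
    by_contra hnot
    obtain ⟨y, hyS, hy2⟩ := dperp hf _ _ hnot
    have hcoordy : ∀ r, (Pi.single r (1 : F) : Fin n → F) ∈ ({Pi.single i2 (1 : F),
        Pi.single j2 (1 : F), Pi.single i3 (1 : F), Pi.single j3 (1 : F), b1, b2} :
        Set (Fin n → F)) → y r = 0 := by
      intro r hr
      have := hyS (Pi.single r (1 : F)) (Submodule.subset_span hr)
      rw [herm_single_left S, one_mul] at this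
      exact (map_eq_zero σ).1 this
    have hyb1 : Cfsg.hermForm n F q y b1 = 0 :=
      Cfsg.Agent.Lib.Helper28.UForm.f_swap_zero hf (hyS b1 (Submodule.subset_span (by simp)))
    have hyb2 : Cfsg.hermForm n F q y b2 = 0 :=
      Cfsg.Agent.Lib.Helper28.UForm.f_swap_zero hf (hyS b2 (Submodule.subset_span (by simp)))
    have hyfix := hfix y (hcoordy i2 (by simp)) (hcoordy j2 (by simp)) (hcoordy i3 (by simp))
      (hcoordy j3 (by simp)) hyb1 hyb2
    have hyκ := hcoord y hyfix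
    apply hy2
    rw [hz, Cfsg.Agent.Lib.Helper28.UForm.f_sub_left hf, hf.smul_left, herm_single_left S,
      herm_single_left S, hyκ, map_mul]
    ring
  obtain ⟨r1, r2, r3, r4, α, β, hdec⟩ := utgeo_span6 _ _ _ _ _ _ _ hmem
  have hx : α • b1 + β • b2 = z - r1 • Pi.single i2 (1 : F) - r2 • Pi.single j2 (1 : F) -
      r3 • Pi.single i3 (1 : F) - r4 • Pi.single j3 (1 : F) := by
    rw [hdec]; abel
  have hxoff : ∀ r, r ≠ i2 → r ≠ j2 → r ≠ i3 → r ≠ j3 → (α • b1 + β • b2) r = z r := by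
    intro r a1 a2 a3 a4
    rw [hx]
    simp [Pi.single_apply, a1, a2, a3, a4]
  have hσc0 : σ c ≠ 0 := fun h => hc0 ((map_eq_zero σ).1 h)
  by_cases hκm : κ = m
  · rw [hκm] at hval
    by_cases hc1 : c = 1
    · rw [hval, hc1, one_smul]
    · exfalso
      have hσc1 : σ c ≠ 1 := by
        intro h
        apply hc1
        have := congrArg σ h
        rw [hf.involutive, map_one] at this
        exact this
      have hzm : z m ≠ 0 := by
        rw [hz, hκm]
        simp only [Pi.sub_apply, Pi.smul_apply, Pi.single_eq_same, smul_eq_mul, mul_one]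
        exact sub_ne_zero.2 (Ne.symm hσc1)
      have hxm : (α • b1 + β • b2) m ≠ 0 := by rw [hxoff m hm2 hm2' hm3 hm3']; exact hzm
      obtain ⟨m', m'', hm', _, _, a1, a2, a3, a4, _, _, _, _, hne', _⟩ :=
        H2 α β m hm2 hm2' hm3 hm3' hxm
      apply hne'
      rw [hxoff m' a1 a2 a3 a4, hz, hκm]
      simp [Pi.single_apply, hm']
  · exfalso
    have hzm : z m ≠ 0 := by
      rw [hz]
      simp only [Pi.sub_apply, Pi.smul_apply, Pi.single_eq_same, smul_eq_mul, mul_one]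
      rw [utgeo_single_ne (Ne.symm hκm), zero_sub]
      exact neg_ne_zero.2 hσc0
    have hxm : (α • b1 + β • b2) m ≠ 0 := by rw [hxoff m hm2 hm2' hm3 hm3']; exact hzm
    obtain ⟨m', m'', hm', hm'', hm'm'', a1, a2, a3, a4, a1', a2', a3', a4', hne', hne''⟩ :=
      H2 α β m hm2 hm2' hm3 hm3' hxm
    have h1 : m' = κ := by
      by_contra hcon
      apply hne'
      rw [hxoff m' a1 a2 a3 a4, hz]
      simp [Pi.single_apply, hm', hcon]
    have h2 : m'' = κ := by
      by_contra hcon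
      apply hne''
      rw [hxoff m'' a1' a2' a3' a4', hz]
      simp [Pi.single_apply, hm'', hcon]
    exact hm'm'' (h1.trans h2.symm)

/-- GEO -/
theorem geo (S : UF n q σ) (b1 b2 : Fin n → F)
    (hli : ∀ α β : F, α • b1 + β • b2 = 0 → α = 0 ∧ β = 0)
    (i2 j2 i3 j3 : Fin n) (h22 : i2 ≠ j2) (h23 : i2 ≠ i3) (h23' : i2 ≠ j3) (h32 : j2 ≠ i3)
    (h32' : j2 ≠ j3) (h33 : i3 ≠ j3)
    (H12 : Hyp1 b1 b2 i2 j2) (H13 : Hyp1 b1 b2 i3 j3) (H2 : Hyp2 b1 b2 i2 j2 i3 j3)
    (H3 : Hyp3 b1 b2 i2 j2 i3 j3) (h2 h3 : Matrix.GeneralLinearGroup (Fin n) F)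
    (hfix2 : ∀ v : Fin n → F, v i2 = 0 → v j2 = 0 → Cfsg.hermForm n F q v b1 = 0 →
      Cfsg.hermForm n F q v b2 = 0 → (h2 : Matrix (Fin n) (Fin n) F) *ᵥ v = v)
    (hfix3 : ∀ v : Fin n → F, v i3 = 0 → v j3 = 0 → Cfsg.hermForm n F q v b1 = 0 →
      Cfsg.hermForm n F q v b2 = 0 → (h3 : Matrix (Fin n) (Fin n) F) *ᵥ v = v)
    (hmove2 : ∀ v : Fin n → F, (h2 : Matrix (Fin n) (Fin n) F) *ᵥ v - v ∈ Submodule.span F
      ({Pi.single i2 (1 : F), Pi.single j2 (1 : F), b1, b2} : Set (Fin n → F)))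
    (hmove3 : ∀ v : Fin n → F, (h3 : Matrix (Fin n) (Fin n) F) *ᵥ v - v ∈ Submodule.span F
      ({Pi.single i3 (1 : F), Pi.single j3 (1 : F), b1, b2} : Set (Fin n → F)))
    (hcol2 : ∀ x : Fin n → F, x = b1 ∨ x = b2 → ∃ (m : Fin n) (c : F), c ≠ 0 ∧
      (h2 : Matrix (Fin n) (Fin n) F) *ᵥ x = c • Pi.single m (1 : F))
    (hcol3 : ∀ x : Fin n → F, x = b1 ∨ x = b2 → ∃ (m : Fin n) (c : F), c ≠ 0 ∧
      (h3 : Matrix (Fin n) (Fin n) F) *ᵥ x = c • Pi.single m (1 : F))
    (hmono : IsMono ((h2 * h3⁻¹ : Matrix.GeneralLinearGroup (Fin n) F) :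
      Matrix (Fin n) (Fin n) F)) : False := by
  refine utgeo_core S b1 b2 hli i2 j2 i3 j3 h22 h23 h23' h32 h32' h33 H13 H3 h2 h3 hfix2 hfix3
    hmove2 hcol2 hcol3 hmono
    (fun x hx m c hc hcol => plane b1 b2 i2 j2 H12 h2 hmove2 x hx m c hc hcol)
    (fun x hx m c hc hcol => plane b1 b2 i3 j3 H13 h3 hmove3 x hx m c hc hcol)
    (fun m a1 a2 a3 a4 => mf S b1 b2 i2 j2 i3 j3 H2 (h2 * h3⁻¹) hmono ?_ m a1 a2 a3 a4)
  intro v hv2 hv2' hv3 hv3' hvb1 hvb2
  have h3v := hfix3 v hv3 hv3' hvb1 hvb2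
  have h3v' : ((h3⁻¹ : Matrix.GeneralLinearGroup (Fin n) F) : Matrix (Fin n) (Fin n) F) *ᵥ v = v := by
    have := Cfsg.Agent.S5643.inv_mv h3 v
    rw [h3v] at this
    exact this
  rw [Cfsg.Agent.S5643.mul_mv, h3v']
  exact hfix2 v hv2 hv2' hvb1 hvb2

end Cfsg.Agent.Lib.Helper9.UT
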