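import Cfsg.Agent.Lib.Helper9.UT.Defs

/-!
# Project UT, piece GEO (core): the geometric contradiction, with the statements of `plane` and `mf`
as hypotheses.
-/

set_option autoImplicit false

open Cfsg

namespace Cfsg.Agent.Lib.Helper9.UT

open Matrix Cfsg.Agent.Lib.Helper29.ExtrL Cfsg.Agent.Lib.Helper28.UMax

variable {n q : ℕ} {F : Type*} [Field F]

theorem utgeo_span4 (a b c d x : Fin n → F)
    (hx : x ∈ Submodule.span F ({a, b, c, d} : Set (Fin n → F))) :
    ∃ r s α β : F, x = r • a + s • b + (α • c + β • d) := by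
  rw [Submodule.mem_span_insert] at hx
  obtain ⟨r, z, hz, rfl⟩ := hx
  rw [Submodule.mem_span_insert] at hz
  obtain ⟨s, z', hz', rfl⟩ := hz
  rw [Submodule.mem_span_pair] at hz'
  obtain ⟨α, β, rfl⟩ := hz'
  exact ⟨r, s, α, β, by rw [add_assoc]⟩

theorem utgeo_inj (h : Matrix.GeneralLinearGroup (Fin n) F) (v : Fin n → F)
    (hv : (h : Matrix (Fin n) (Fin n) F) *ᵥ v = 0) : v = 0 := by
  have := Cfsg.Agent.S5643.inv_mv h v
  rw [hv, Matrix.mulVec_zero] at this
  exact this.symm

theorem utgeo_single_ne {m m' : Fin n} (h : m' ≠ m) : (Pi.single m (1 : F) : Fin n → F) m' = 0 :=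
  Pi.single_eq_of_ne h 1

theorem utgeo_sum_single (v : Fin n → F) : v = ∑ m, v m • (Pi.single m (1 : F) : Fin n → F) := by
  funext r
  rw [Finset.sum_apply, Finset.sum_eq_single r]
  · simp
  · intro b _ hb
    simp [hb.symm]
  · intro h
    exact absurd (Finset.mem_univ _) h

/-- a matrix fixing the `e_m` with `v m ≠ 0` fixes `v` -/
theorem utgeo_fix_of_basis (g : Matrix.GeneralLinearGroup (Fin n) F) (v : Fin n → F)
    (h : ∀ m, v m ≠ 0 → (g : Matrix (Fin n) (Fin n) F) *ᵥ Pi.single m (1 : F) = Pi.single m (1 : F)) :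
    (g : Matrix (Fin n) (Fin n) F) *ᵥ v = v := by
  conv_lhs => rw [utgeo_sum_single v]
  conv_rhs => rw [utgeo_sum_single v]
  rw [Matrix.mulVec_sum]
  apply Finset.sum_congr rfl
  intro m _
  rw [Matrix.mulVec_smul]
  by_cases hm : v m = 0
  · rw [hm, zero_smul, zero_smul]
  · rw [h m hm]

variable [Fintype F] {σ : F ≃+* F}

theorem utgeo_core (S : UF n q σ) (b1 b2 : Fin n → F)
    (hli : ∀ α β : F, α • b1 + β • b2 = 0 → α = 0 ∧ β = 0)
    (i2 j2 i3 j3 : Fin n) (h22 : i2 ≠ j2) (h23 : i2 ≠ i3) (h23' : i2 ≠ j3) (h32 : j2 ≠ i3)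
    (h32' : j2 ≠ j3) (h33 : i3 ≠ j3)
    (H13 : Hyp1 b1 b2 i3 j3)
    (H3 : Hyp3 b1 b2 i2 j2 i3 j3) (h2 h3 : Matrix.GeneralLinearGroup (Fin n) F)
    (hfix2 : ∀ v : Fin n → F, v i2 = 0 → v j2 = 0 → Cfsg.hermForm n F q v b1 = 0 →
      Cfsg.hermForm n F q v b2 = 0 → (h2 : Matrix (Fin n) (Fin n) F) *ᵥ v = v)
    (hfix3 : ∀ v : Fin n → F, v i3 = 0 → v j3 = 0 → Cfsg.hermForm n F q v b1 = 0 →
      Cfsg.hermForm n F q v b2 = 0 → (h3 : Matrix (Fin n) (Fin n) F) *ᵥ v = v)
    (hmove2 : ∀ v : Fin n → F, (h2 : Matrix (Fin n) (Fin n) F) *ᵥ v - v ∈ Submodule.span F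
      ({Pi.single i2 (1 : F), Pi.single j2 (1 : F), b1, b2} : Set (Fin n → F)))
    (hcol2 : ∀ x : Fin n → F, x = b1 ∨ x = b2 → ∃ (m : Fin n) (c : F), c ≠ 0 ∧
      (h2 : Matrix (Fin n) (Fin n) F) *ᵥ x = c • Pi.single m (1 : F))
    (hcol3 : ∀ x : Fin n → F, x = b1 ∨ x = b2 → ∃ (m : Fin n) (c : F), c ≠ 0 ∧
      (h3 : Matrix (Fin n) (Fin n) F) *ᵥ x = c • Pi.single m (1 : F))
    (hmono : IsMono ((h2 * h3⁻¹ : Matrix.GeneralLinearGroup (Fin n) F) :
      Matrix (Fin n) (Fin n) F))
    -- consequences of `plane`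
    (hPL2 : ∀ x : Fin n → F, x = b1 ∨ x = b2 → ∀ (m : Fin n) (c : F), c ≠ 0 →
      (h2 : Matrix (Fin n) (Fin n) F) *ᵥ x = c • Pi.single m (1 : F) → m = i2 ∨ m = j2)
    (hPL3 : ∀ x : Fin n → F, x = b1 ∨ x = b2 → ∀ (m : Fin n) (c : F), c ≠ 0 →
      (h3 : Matrix (Fin n) (Fin n) F) *ᵥ x = c • Pi.single m (1 : F) → m = i3 ∨ m = j3)
    -- consequence of `mf`
    (hMF : ∀ m : Fin n, m ≠ i2 → m ≠ j2 → m ≠ i3 → m ≠ j3 →
      ((h2 * h3⁻¹ : Matrix.GeneralLinearGroup (Fin n) F) : Matrix (Fin n) (Fin n) F) *ᵥ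
        Pi.single m (1 : F) = Pi.single m (1 : F)) : False := by
  classical
  have hf := S.hU
  set n' : Matrix.GeneralLinearGroup (Fin n) F := h2 * h3⁻¹ with hn'
  -- (a) the images of b1, b2
  obtain ⟨m21, c21, hc21, e21⟩ := hcol2 b1 (Or.inl rfl)
  obtain ⟨m22, c22, hc22, e22⟩ := hcol2 b2 (Or.inr rfl)
  obtain ⟨m31, c31, hc31, e31⟩ := hcol3 b1 (Or.inl rfl)
  obtain ⟨m32, c32, hc32, e32⟩ := hcol3 b2 (Or.inr rfl)
  have hm21 := hPL2 b1 (Or.inl rfl) m21 c21 hc21 e21
  have hm22 := hPL2 b2 (Or.inr rfl) m22 c22 hc22 e22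
  have hm31 := hPL3 b1 (Or.inl rfl) m31 c31 hc31 e31
  have hm32 := hPL3 b2 (Or.inr rfl) m32 c32 hc32 e32
  have hne3 : m31 ≠ m32 := by
    intro heq
    have h0 : (h3 : Matrix (Fin n) (Fin n) F) *ᵥ (c32 • b1 + (-c31) • b2) = 0 := by
      rw [Matrix.mulVec_add, Matrix.mulVec_smul, Matrix.mulVec_smul, e31, e32, heq, smul_smul,
        smul_smul]
      rw [← add_smul]
      have : c32 * c31 + -c31 * c32 = 0 := by ring
      rw [this, zero_smul]
    have := hli _ _ (utgeo_inj h3 _ h0)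
    exact hc32 this.1
  -- n' on the images
  have hn31 : (n' : Matrix (Fin n) (Fin n) F) *ᵥ Pi.single m31 (1 : F) =
      (c31⁻¹ * c21) • Pi.single m21 (1 : F) := by
    have h1 : ((h3⁻¹ : Matrix.GeneralLinearGroup (Fin n) F) : Matrix (Fin n) (Fin n) F) *ᵥ
        Pi.single m31 (1 : F) = c31⁻¹ • b1 := by
      have := congrArg (fun t => ((h3⁻¹ : Matrix.GeneralLinearGroup (Fin n) F) :
        Matrix (Fin n) (Fin n) F) *ᵥ t) e31
      simp only [Cfsg.Agent.S5643.inv_mv, Matrix.mulVec_smul] at this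
      rw [this, smul_smul, inv_mul_cancel₀ hc31, one_smul]
    rw [hn', Cfsg.Agent.S5643.mul_mv, h1, Matrix.mulVec_smul, e21, smul_smul]
  have hn32 : (n' : Matrix (Fin n) (Fin n) F) *ᵥ Pi.single m32 (1 : F) =
      (c32⁻¹ * c22) • Pi.single m22 (1 : F) := by
    have h1 : ((h3⁻¹ : Matrix.GeneralLinearGroup (Fin n) F) : Matrix (Fin n) (Fin n) F) *ᵥ
        Pi.single m32 (1 : F) = c32⁻¹ • b2 := by
      have := congrArg (fun t => ((h3⁻¹ : Matrix.GeneralLinearGroup (Fin n) F) :
        Matrix (Fin n) (Fin n) F) *ᵥ t) e32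
      simp only [Cfsg.Agent.S5643.inv_mv, Matrix.mulVec_smul] at this
      rw [this, smul_smul, inv_mul_cancel₀ hc32, one_smul]
    rw [hn', Cfsg.Agent.S5643.mul_mv, h1, Matrix.mulVec_smul, e22, smul_smul]
  -- n'⁻¹ maps E_{P2}... we only need: for r ∈ P3, n' e_r is supported in P2
  have hP3 : ∀ r, r = i3 ∨ r = j3 → ∀ m, m ≠ i2 → m ≠ j2 →
      ((n' : Matrix (Fin n) (Fin n) F) *ᵥ Pi.single r (1 : F)) m = 0 := by
    intro r hr m hmi hmj
    have hr' : r = m31 ∨ r = m32 := by
      rcases hr with rfl | rfl <;> rcases hm31 with h1 | h1 <;> rcases hm32 with h2' | h2' <;>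
        first
        | exact Or.inl h1.symm
        | exact Or.inr h2'.symm
        | exact absurd (h1.trans h2'.symm) hne3
    rcases hr' with rfl | rfl
    · rw [hn31, Pi.smul_apply, smul_eq_mul]
      have : m ≠ m21 := by rcases hm21 with h | h <;> rw [h] <;> assumption
      rw [utgeo_single_ne this, mul_zero]
    · rw [hn32, Pi.smul_apply, smul_eq_mul]
      have : m ≠ m22 := by rcases hm22 with h | h <;> rw [h] <;> assumption
      rw [utgeo_single_ne this, mul_zero]
  -- (e) for m ∈ P2, n' e_m is supported in P3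
  have hP2 : ∀ m, m = i2 ∨ m = j2 → ∀ r, r ≠ i3 → r ≠ j3 →
      ((n' : Matrix (Fin n) (Fin n) F) *ᵥ Pi.single m (1 : F)) r = 0 := by
    intro m hm r hri hrj
    obtain ⟨κ, hκ⟩ := hmono m
    -- column m of n' is supported at κ
    have hcolm : ∀ r', r' ≠ κ → ((n' : Matrix (Fin n) (Fin n) F) *ᵥ Pi.single m (1 : F)) r' = 0 := by
      intro r' hr'
      rw [Matrix.mulVec_single_one]
      exact hκ r' hr'
    by_cases hrκ : r = κ
    · -- then κ ∉ P3; derive a contradiction from e_m = c n'⁻¹ e_κ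
      exfalso
      subst hrκ
      have hval : (n' : Matrix (Fin n) (Fin n) F) *ᵥ Pi.single m (1 : F) =
          ((n' : Matrix (Fin n) (Fin n) F) r m) • Pi.single r (1 : F) := by
        funext r'
        by_cases hr' : r' = r
        · subst hr'
          rw [Matrix.mulVec_single_one]
          simp
        · rw [hcolm r' hr', Pi.smul_apply, utgeo_single_ne hr', smul_zero]
      by_cases hrP2 : r = i2 ∨ r = j2
      · -- n' e_r with r ∈ P2 ... use injectivity: n' e_m = c e_r, and apply n' to get contradiction?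
        -- n' e_m is supported at r ∈ P2; but then consider n' (e_m) vs n' applied to preimages
        -- e_r = n' (d⁻¹ e_{m3x}) for the m3x with m2x = r; so n' e_m = c n' (d⁻¹ e_{m3x}), m = m3x ∈ P3
        have hr21 : r = m21 ∨ r = m22 := by
          have hne2 : m21 ≠ m22 := by
            intro heq
            have h0 : (h2 : Matrix (Fin n) (Fin n) F) *ᵥ (c22 • b1 + (-c21) • b2) = 0 := by
              rw [Matrix.mulVec_add, Matrix.mulVec_smul, Matrix.mulVec_smul, e21, e22, heq,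
                smul_smul, smul_smul, ← add_smul]
              have : c22 * c21 + -c21 * c22 = 0 := by ring
              rw [this, zero_smul]
            have := hli _ _ (utgeo_inj h2 _ h0)
            exact hc22 this.1
          rcases hrP2 with rfl | rfl <;> rcases hm21 with h1 | h1 <;> rcases hm22 with h2' | h2' <;>
            first
            | exact Or.inl h1.symm
            | exact Or.inr h2'.symm
            | exact absurd (h1.trans h2'.symm) hne2
        rcases hr21 with rfl | rfl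
        · -- n' e_m = c e_{m21} = c (c31⁻¹ c21)⁻¹ n' e_{m31}
          have hd : c31⁻¹ * c21 ≠ 0 := mul_ne_zero (inv_ne_zero hc31) hc21
          have h0 : (n' : Matrix (Fin n) (Fin n) F) *ᵥ (Pi.single m (1 : F) -
              ((n' : Matrix (Fin n) (Fin n) F) r m * (c31⁻¹ * c21)⁻¹) • Pi.single m31 (1 : F)) = 0 := by
            rw [Matrix.mulVec_sub, Matrix.mulVec_smul, hn31, hval, smul_smul, mul_assoc,
              inv_mul_cancel₀ hd, mul_one, sub_self]
          have h1 := utgeo_inj n' _ h0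
          have h2' := congrFun h1 m
          have hmm : m ≠ m31 := by
            rcases hm with rfl | rfl <;> rcases hm31 with h | h <;> rw [h] <;> assumption
          rw [Pi.sub_apply, Pi.single_eq_same, Pi.smul_apply, utgeo_single_ne hmm, smul_zero,
            sub_zero, Pi.zero_apply] at h2'
          exact one_ne_zero h2'
        · have hd : c32⁻¹ * c22 ≠ 0 := mul_ne_zero (inv_ne_zero hc32) hc22
          have h0 : (n' : Matrix (Fin n) (Fin n) F) *ᵥ (Pi.single m (1 : F) -
              ((n' : Matrix (Fin n) (Fin n) F) r m * (c32⁻¹ * c22)⁻¹) • Pi.single m32 (1 : F)) = 0 := by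
            rw [Matrix.mulVec_sub, Matrix.mulVec_smul, hn32, hval, smul_smul, mul_assoc,
              inv_mul_cancel₀ hd, mul_one, sub_self]
          have h1 := utgeo_inj n' _ h0
          have h2' := congrFun h1 m
          have hmm : m ≠ m32 := by
            rcases hm with rfl | rfl <;> rcases hm32 with h | h <;> rw [h] <;> assumption
          rw [Pi.sub_apply, Pi.single_eq_same, Pi.smul_apply, utgeo_single_ne hmm, smul_zero,
            sub_zero, Pi.zero_apply] at h2'
          exact one_ne_zero h2'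
      · -- r ∈ K': n' e_r = e_r, so n' (e_m - c e_r) = 0
        push Not at hrP2
        have hfixr := hMF r hrP2.1 hrP2.2 hri hrj
        have h0 : (n' : Matrix (Fin n) (Fin n) F) *ᵥ (Pi.single m (1 : F) -
            ((n' : Matrix (Fin n) (Fin n) F) r m) • Pi.single r (1 : F)) = 0 := by
          rw [Matrix.mulVec_sub, Matrix.mulVec_smul, hfixr, hval, sub_self]
        have h1 := utgeo_inj n' _ h0
        have h2' := congrFun h1 m
        have hmr : m ≠ r := by
          rcases hm with rfl | rfl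
          · exact fun h => hrP2.1 h.symm
          · exact fun h => hrP2.2 h.symm
        rw [Pi.sub_apply, Pi.single_eq_same, Pi.smul_apply, utgeo_single_ne hmr, smul_zero,
          sub_zero, Pi.zero_apply] at h2'
        exact one_ne_zero h2'
    · exact hcolm r hrκ
  -- (f) vectors perpendicular to E_{P3} + B vanish on P2
  have hF : ∀ v : Fin n → F, v i3 = 0 → v j3 = 0 → Cfsg.hermForm n F q v b1 = 0 →
      Cfsg.hermForm n F q v b2 = 0 → v i2 = 0 ∧ v j2 = 0 := by
    intro v hv3 hv3' hvb1 hvb2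
    have h3v := hfix3 v hv3 hv3' hvb1 hvb2
    have h3v' : ((h3⁻¹ : Matrix.GeneralLinearGroup (Fin n) F) : Matrix (Fin n) (Fin n) F) *ᵥ v = v := by
      have := Cfsg.Agent.S5643.inv_mv h3 v
      rw [h3v] at this
      exact this
    have hn'v : (n' : Matrix (Fin n) (Fin n) F) *ᵥ v = (h2 : Matrix (Fin n) (Fin n) F) *ᵥ v := by
      rw [hn', Cfsg.Agent.S5643.mul_mv, h3v']
    obtain ⟨r, s, α, β, hdec⟩ := utgeo_span4 _ _ _ _ _ (hmove2 v)
    rw [← hn'v] at hdec
    -- v2 and vK
    set v2 : Fin n → F := v i2 • Pi.single i2 (1 : F) + v j2 • Pi.single j2 (1 : F) with hv2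
    set vK : Fin n → F := v - v2 with hvK
    have hvKsupp : ∀ m, vK m ≠ 0 → m ≠ i2 ∧ m ≠ j2 ∧ m ≠ i3 ∧ m ≠ j3 := by
      intro m hm
      refine ⟨?_, ?_, ?_, ?_⟩
      · rintro rfl
        apply hm
        simp [hvK, hv2, Pi.single_apply, h22]
      · rintro rfl
        apply hm
        simp [hvK, hv2, Pi.single_apply, h22.symm]
      · rintro rfl
        apply hm
        simp [hvK, hv2, Pi.single_apply, h23.symm, h32.symm, hv3]
      · rintro rfl
        apply hm
        simp [hvK, hv2, Pi.single_apply, h23'.symm, h32'.symm, hv3']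
    have hvKfix : (n' : Matrix (Fin n) (Fin n) F) *ᵥ vK = vK :=
      utgeo_fix_of_basis n' vK (fun m hm => by
        obtain ⟨a1, a2, a3, a4⟩ := hvKsupp m hm
        exact hMF m a1 a2 a3 a4)
    have hvsum : v = vK + v2 := by rw [hvK]; abel
    -- p3 := n' v2 is supported on P3
    set p3 : Fin n → F := (n' : Matrix (Fin n) (Fin n) F) *ᵥ v2 with hp3
    have hp3supp : ∀ r, r ≠ i3 → r ≠ j3 → p3 r = 0 := by
      intro r hr hr'
      rw [hp3, hv2, Matrix.mulVec_add, Matrix.mulVec_smul, Matrix.mulVec_smul, Pi.add_apply,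
        Pi.smul_apply, Pi.smul_apply, hP2 i2 (Or.inl rfl) r hr hr', hP2 j2 (Or.inr rfl) r hr hr',
        smul_zero, smul_zero, add_zero]
    have hdiff : (n' : Matrix (Fin n) (Fin n) F) *ᵥ v - v = p3 - v2 := by
      conv_lhs => rw [hvsum]
      rw [Matrix.mulVec_add, hvKfix]
      abel
    -- y := α b1 + β b2 = p3 - v2 - r e_i2 - s e_j2
    have hy : α • b1 + β • b2 = p3 - v2 - r • Pi.single i2 (1 : F) - s • Pi.single j2 (1 : F) := by
      rw [← hdiff, hdec]
      abel
    have hyK : ∀ m, m ≠ i2 → m ≠ j2 → m ≠ i3 → m ≠ j3 → (α • b1 + β • b2) m = 0 := by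
      intro m a1 a2 a3 a4
      rw [hy]
      simp [hp3supp m a3 a4, hv2, Pi.single_apply, a1, a2]
    obtain ⟨y3, y3'⟩ := H3 α β hyK
    have hp3i : p3 i3 = 0 := by
      have := y3
      rw [hy] at this
      simpa [hv2, Pi.single_apply, h23.symm, h32.symm] using this
    have hp3j : p3 j3 = 0 := by
      have := y3'
      rw [hy] at this
      simpa [hv2, Pi.single_apply, h23'.symm, h32'.symm] using this
    have hp30 : p3 = 0 := by
      funext r
      by_cases hr : r = i3
      · rw [hr]; exact hp3i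
      · by_cases hr' : r = j3
        · rw [hr']; exact hp3j
        · exact hp3supp r hr hr'
    have hv20 : v2 = 0 := utgeo_inj n' v2 hp30
    have e1 := congrFun hv20 i2
    have e2 := congrFun hv20 j2
    simp [hv2, Pi.single_apply, h22, h22.symm] at e1 e2
    exact ⟨e1, e2⟩
  -- (g) e_{i2} ∈ span {e_i3, e_j3, b1, b2}
  have hmem : (Pi.single i2 (1 : F) : Fin n → F) ∈ Submodule.span F
      ({Pi.single i3 (1 : F), Pi.single j3 (1 : F), b1, b2} : Set (Fin n → F)) := by
    by_contra hnot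
    obtain ⟨y, hyS, hy2⟩ := dperp hf _ _ hnot
    have hy3 : y i3 = 0 := by
      have := hyS (Pi.single i3 (1 : F)) (Submodule.subset_span (by simp))
      rw [herm_single_left S, one_mul] at this
      exact (map_eq_zero σ).1 this
    have hy3' : y j3 = 0 := by
      have := hyS (Pi.single j3 (1 : F)) (Submodule.subset_span (by simp))
      rw [herm_single_left S, one_mul] at this
      exact (map_eq_zero σ).1 this
    have hyb1 : Cfsg.hermForm n F q y b1 = 0 :=
      Cfsg.Agent.Lib.Helper28.UForm.f_swap_zero hf (hyS b1 (Submodule.subset_span (by simp)))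
    have hyb2 : Cfsg.hermForm n F q y b2 = 0 :=
      Cfsg.Agent.Lib.Helper28.UForm.f_swap_zero hf (hyS b2 (Submodule.subset_span (by simp)))
    have := (hF y hy3 hy3' hyb1 hyb2).1
    apply hy2
    rw [herm_single_left S, this, map_zero, mul_zero]
  obtain ⟨r, s, α, β, hdec⟩ := utgeo_span4 _ _ _ _ _ hmem
  have hy : α • b1 + β • b2 = Pi.single i2 (1 : F) - r • Pi.single i3 (1 : F) -
      s • Pi.single j3 (1 : F) := by
    rw [hdec]; abel
  have hyi2 : (α • b1 + β • b2) i2 ≠ 0 := by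
    rw [hy]
    simp [Pi.single_apply, h23, h23']
  obtain ⟨m', hm', hm'3, hm'3', hne⟩ := H13 α β i2 h23 h23' hyi2
  apply hne
  rw [hy]
  simp [Pi.single_apply, hm', hm'3, hm'3']

end Cfsg.Agent.Lib.Helper9.UT
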