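import Mathlib
import Cfsg.Prelude.Def_Transfer
import Cfsg.Prelude.Def_Solvable
import Cfsg.Agent.Lib.Helper9.ZCorBS
import Cfsg.Agent.Lib.Helper18.ZStarFus
import Cfsg.Agent.Lib.Helper5.PConstr
import Cfsg.Agent.Lib.Helper9.SylowConj

set_option autoImplicit false

namespace Cfsg.Agent.Lib.Helper9

open Cfsg.Agent.Lib.Helper18 Cfsg.Agent.Lib.Helper18.ZStar

/-- weak closure of a cyclic subgroup: a conjugate of `y` inside `S` lies in `⟨y⟩` -/
theorem wcz_mem_zpowers {H : Type*} [Group H] (S : Subgroup H) (y : H)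
    (hwc : Cfsg.IsWeaklyClosed (Subgroup.zpowers y) S) (g : H) (hg : g * y * g⁻¹ ∈ S) :
    g * y * g⁻¹ ∈ Subgroup.zpowers y := by
  have h1 : (Subgroup.zpowers y).map (MulAut.conj g).toMonoidHom = Subgroup.zpowers (g * y * g⁻¹) := by
    rw [MonoidHom.map_zpowers]
    rfl
  have h2 := hwc.2 g (by rw [h1, Subgroup.zpowers_le]; exact hg)
  rw [h1] at h2
  rw [← h2]
  exact Subgroup.mem_zpowers _

theorem wcz_isolated {H : Type*} [Group H] [Finite H] (S : Sylow 2 H) (Z : Subgroup H)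
    (hZS : Z ≤ (S : Subgroup H)) (hZc : ∀ z ∈ Z, ∀ s ∈ (S : Subgroup H), s * z = z * s)
    (hwc : ∀ Z₀ : Subgroup H, Z₀ ≤ Z → Cfsg.IsWeaklyClosed Z₀ (S : Subgroup H)) :
    ∀ (n : ℕ) (y : H), orderOf y = n → y ∈ Z → ∀ g : H, g * y * g⁻¹ ∈ (S : Subgroup H) →
      g * y * g⁻¹ = y := by
  classical
  haveI : Fact (Nat.Prime 2) := ⟨Nat.prime_two⟩
  intro n
  induction n using Nat.strong_induction_on with
  | _ n ih =>
  intro y hyn hyZ g hgS
  by_cases hy1 : y = 1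
  · subst hy1; group
  have hwcy : Cfsg.IsWeaklyClosed (Subgroup.zpowers y) (S : Subgroup H) :=
    hwc _ (Subgroup.zpowers_le.mpr hyZ)
  have hy'mem := wcz_mem_zpowers (S : Subgroup H) y hwcy g hgS
  obtain ⟨i, hi⟩ := Subgroup.mem_zpowers_iff.mp hy'mem
  -- order of `y`
  have hyS : y ∈ (S : Subgroup H) := hZS hyZ
  obtain ⟨k, hk⟩ : ∃ k : ℕ, orderOf y = 2 ^ k := by
    obtain ⟨k, hk⟩ := (IsPGroup.iff_orderOf.mp S.isPGroup') ⟨y, hyS⟩
    rw [Subgroup.orderOf_mk] at hk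
    exact ⟨k, hk⟩
  have hk0 : k ≠ 0 := by
    rintro rfl
    rw [pow_zero, orderOf_eq_one_iff] at hk
    exact hy1 hk
  have hord2 : orderOf (y ^ 2) < n := by
    rw [← hyn, orderOf_pow' y (by norm_num : (2 : ℕ) ≠ 0), hk]
    have h2 : Nat.gcd (2 ^ k) 2 = 2 := by
      obtain ⟨j, rfl⟩ := Nat.exists_eq_succ_of_ne_zero hk0
      rw [pow_succ]
      simp
    rw [h2]
    exact Nat.div_lt_self (by positivity) (by norm_num)
  have hsq : g * y ^ 2 * g⁻¹ = y ^ 2 := by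
    apply ih _ hord2 (y ^ 2) rfl (Z.pow_mem hyZ 2) g
    have : g * y ^ 2 * g⁻¹ = (g * y * g⁻¹) ^ 2 := by rw [conj_pow]
    rw [this]
    exact (S : Subgroup H).pow_mem hgS 2
  -- `w = y' y⁻¹ = y^(i-1)`
  set w : H := y ^ (i - 1) with hw
  have hwy : w * y = g * y * g⁻¹ := by
    rw [hw, ← hi, zpow_sub_one, inv_mul_cancel_right]
  have hww : w * w = 1 := by
    have h1 : (g * y * g⁻¹) ^ 2 = y ^ 2 := by rw [conj_pow]; exact hsq
    rw [← hi] at h1
    have h2 : (y ^ i) ^ 2 = y ^ (i * 2) := by rw [← zpow_natCast, ← zpow_mul]; rfl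
    rw [h2] at h1
    have h3 : y ^ (i * 2 - 2) = 1 := by
      rw [zpow_sub, h1]
      have : y ^ (2 : ℤ) = y ^ (2 : ℕ) := by rw [← zpow_natCast]; rfl
      rw [this, mul_inv_cancel]
    rw [hw, ← zpow_add]
    have : i - 1 + (i - 1) = i * 2 - 2 := by ring
    rw [this, h3]
  by_cases hw1 : w = 1
  · rw [← hwy, hw1, one_mul]
  exfalso
  have hwo : orderOf w = 2 := by
    apply orderOf_eq_prime
    · rw [pow_two]; exact hww
    · exact hw1
  have hwmem : w ∈ Subgroup.zpowers y := Subgroup.zpow_mem _ (Subgroup.mem_zpowers y) _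
  -- `g` centralizes `w`
  have hgw : g * w * g⁻¹ = w := by
    have h1 : g * w * g⁻¹ = (g * y * g⁻¹) ^ (i - 1) := by rw [hw, conj_zpow]
    have h2 : g * w * g⁻¹ ∈ Subgroup.zpowers y := by
      rw [h1]; exact Subgroup.zpow_mem _ hy'mem _
    have h3 : orderOf (g * w * g⁻¹) = 2 := by rw [orderOf_conj_eq]; exact hwo
    have := zs_cyclic_invol_unique (A := Subgroup.zpowers y)
      (a := ⟨g * w * g⁻¹, h2⟩) (b := ⟨w, hwmem⟩)
      (by rw [Subgroup.orderOf_mk]; exact h3) (by rw [Subgroup.orderOf_mk]; exact hwo)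
    exact congrArg Subtype.val this
  have hpow : ∀ j : ℕ, g ^ j * y * (g ^ j)⁻¹ = w ^ j * y := by
    intro j
    induction j with
    | zero => simp
    | succ j ihj =>
      have e : g ^ (j + 1) * y * (g ^ (j + 1))⁻¹ = g * (g ^ j * y * (g ^ j)⁻¹) * g⁻¹ := by
        rw [pow_succ']; group
      rw [e, ihj]
      have e2 : g * (w ^ j * y) * g⁻¹ = (g * w * g⁻¹) ^ j * (g * y * g⁻¹) := by
        rw [conj_pow]; group
      rw [e2, hgw, ← hwy, pow_succ, mul_assoc]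
  have hpoww : ∀ j : ℕ, g ^ j * w * (g ^ j)⁻¹ = w := by
    intro j
    induction j with
    | zero => simp
    | succ j ihj =>
      have e : g ^ (j + 1) * w * (g ^ (j + 1))⁻¹ = g * (g ^ j * w * (g ^ j)⁻¹) * g⁻¹ := by
        rw [pow_succ']; group
      rw [e, ihj, hgw]
  have hd0 : orderOf g ≠ 0 := (orderOf_pos g).ne'
  obtain ⟨a, m, hm, hd⟩ := Nat.exists_eq_two_pow_mul_odd hd0
  set u : H := g ^ m with hu
  have hu2 : u ^ (2 ^ a) = 1 := by
    rw [hu, ← pow_mul, mul_comm, ← hd, pow_orderOf_eq_one]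
  have hwm : w ^ m = w := by
    obtain ⟨r, rfl⟩ := hm
    rw [pow_succ, pow_mul, pow_two, hww, one_pow, one_mul]
  have huy : u * y * u⁻¹ = w * y := by rw [hu, hpow m, hwm]
  have huw : u * w * u⁻¹ = w := by rw [hu, hpoww m]
  have hwinv : w⁻¹ = w := inv_eq_of_mul_eq_one_left hww
  have huy' : u⁻¹ * y * u = w * y := by
    have h1 : u⁻¹ * (w * y) * u = y := by rw [← huy]; group
    have h2 : u⁻¹ * w * u = w := by
      calc u⁻¹ * w * u = u⁻¹ * (u * w * u⁻¹) * u := by rw [huw]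
        _ = w := by group
    calc u⁻¹ * y * u = (u⁻¹ * w * u)⁻¹ * (u⁻¹ * (w * y) * u) := by group
      _ = w * y := by rw [h2, h1, hwinv]
      
  have hwy_mem : w * y ∈ Subgroup.zpowers y :=
    (Subgroup.zpowers y).mul_mem hwmem (Subgroup.mem_zpowers y)
  -- `u` normalizes `⟨y⟩`
  have hun : Subgroup.zpowers u ≤ Subgroup.normalizer ((Subgroup.zpowers y : Subgroup H) : Set H) := by
    rw [Subgroup.zpowers_le, Subgroup.mem_normalizer_iff]
    intro h
    constructor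
    · intro hh
      obtain ⟨j, rfl⟩ := Subgroup.mem_zpowers_iff.mp hh
      have : u * y ^ j * u⁻¹ = (u * y * u⁻¹) ^ j := by rw [conj_zpow]
      rw [this, huy]
      exact Subgroup.zpow_mem _ hwy_mem _
    · intro hh
      obtain ⟨j, hj⟩ := Subgroup.mem_zpowers_iff.mp hh
      have e : h = u⁻¹ * (y ^ j) * u := by rw [hj]; group
      have : u⁻¹ * y ^ j * u = (u⁻¹ * y * u) ^ j := by
        have := conj_zpow (a := u⁻¹) (b := y) (i := j)
        rw [inv_inv] at this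
        exact this.symm
      rw [e, this, huy']
      exact Subgroup.zpow_mem _ hwy_mem _
  have hup : IsPGroup 2 (Subgroup.zpowers u) := by
    rw [IsPGroup.iff_card, Nat.card_zpowers]
    exact (Nat.dvd_prime_pow Nat.prime_two).mp (orderOf_dvd_of_pow_eq_one hu2) |>.imp
      (fun j hj => hj.2)
  have hyp : IsPGroup 2 (Subgroup.zpowers y) := by
    rw [IsPGroup.iff_card, Nat.card_zpowers]
    exact ⟨k, hk⟩
  have hT : IsPGroup 2 (Subgroup.zpowers u ⊔ Subgroup.zpowers y : Subgroup H) :=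
    IsPGroup.to_sup_of_normal_right' hup hyp hun
  obtain ⟨x, hx⟩ := exists_sylow_conj_le S _ hT
  have hxy : x * y * x⁻¹ ∈ (S : Subgroup H) :=
    hx y ((le_sup_right : Subgroup.zpowers y ≤ _) (Subgroup.mem_zpowers y))
  have hxu : x * u * x⁻¹ ∈ (S : Subgroup H) :=
    hx u ((le_sup_left : Subgroup.zpowers u ≤ _) (Subgroup.mem_zpowers u))
  have hxyZ : x * y * x⁻¹ ∈ Z :=
    (Subgroup.zpowers_le.mpr hyZ) (wcz_mem_zpowers (S : Subgroup H) y hwcy x hxy)
  have hcomm := hZc _ hxyZ _ hxu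
  have huycomm : u * y = y * u := by
    have e1 : x * u * x⁻¹ * (x * y * x⁻¹) = x * (u * y) * x⁻¹ := by group
    have e2 : x * y * x⁻¹ * (x * u * x⁻¹) = x * (y * u) * x⁻¹ := by group
    rw [e1, e2] at hcomm
    have := mul_left_cancel (mul_right_cancel hcomm)
    exact this
  apply hw1
  have : u * y * u⁻¹ = y := by rw [huycomm]; group
  rw [huy] at this
  exact mul_right_cancel (this.trans (one_mul y).symm)

theorem wcz_main {H : Type*} [Group H] [Finite H] (S : Sylow 2 H)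
    (hwc : ∀ Z₀ : Subgroup H,
      Z₀ ≤ ((Subgroup.center (S : Subgroup H)).map (S : Subgroup H).subtype) →
        Cfsg.IsWeaklyClosed Z₀ (S : Subgroup H)) (h : H) :
    ∃ o ∈ Cfsg.oddCore H, ∃ c ∈ Subgroup.centralizer
      (((Subgroup.center (S : Subgroup H)).map (S : Subgroup H).subtype : Subgroup H) : Set H),
      h = o * c := by
  classical
  haveI : Fact (Nat.Prime 2) := ⟨Nat.prime_two⟩
  set Z : Subgroup H := (Subgroup.center (S : Subgroup H)).map (S : Subgroup H).subtype with hZ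
  have hZS : Z ≤ (S : Subgroup H) := by
    rintro _ ⟨c, -, rfl⟩
    exact c.2
  have hZc : ∀ z ∈ Z, ∀ s ∈ (S : Subgroup H), s * z = z * s := by
    rintro _ ⟨c, hc, rfl⟩ s hs
    have := Subgroup.mem_center_iff.mp hc ⟨s, hs⟩
    exact congrArg Subtype.val this
  have hiso : ∀ y ∈ Z, ∀ g : H, g * y * g⁻¹ ∈ (S : Subgroup H) → g * y * g⁻¹ = y :=
    fun y hy g hg => wcz_isolated S Z hZS hZc hwc _ y rfl hy g hg
  have hcomm := zs_iso_subgroup zc_bsHyp _ H rfl S Z hZS hiso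
  haveI hNn : (Cfsg.pPrimeCore 2 H).Normal := pPrimeCore_normal_h18 2 H
  have hNc : (Nat.card (Cfsg.pPrimeCore 2 H)).Coprime 2 := pPrimeCore_card_coprime_h18 2
  have hZ2 : IsPGroup 2 Z := S.2.to_le hZS
  have hy : QuotientGroup.mk' (Cfsg.pPrimeCore 2 H) h ∈ Subgroup.centralizer
      ((Z.map (QuotientGroup.mk' (Cfsg.pPrimeCore 2 H)) : Subgroup (H ⧸ Cfsg.pPrimeCore 2 H)) :
        Set (H ⧸ Cfsg.pPrimeCore 2 H)) := by
    rw [Subgroup.mem_centralizer_iff]
    rintro _ ⟨z, hz, rfl⟩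
    show (QuotientGroup.mk z : H ⧸ Cfsg.pPrimeCore 2 H) * QuotientGroup.mk h =
      QuotientGroup.mk h * QuotientGroup.mk z
    rw [← QuotientGroup.mk_mul, ← QuotientGroup.mk_mul, QuotientGroup.eq]
    have h1 := hcomm z⁻¹ (Z.inv_mem hz) h
    have h2 := hNn.conj_mem _ h1 h⁻¹
    have e : (z * h)⁻¹ * (h * z) = h⁻¹ * (z⁻¹ * h * z⁻¹⁻¹ * h⁻¹) * h⁻¹⁻¹ := by group
    rw [e]
    exact h2
  obtain ⟨d, hd, hc⟩ := Cfsg.Agent.Lib.Helper5.h5_exists_lift_centralizer
    (Cfsg.pPrimeCore 2 H) hNc Z hZ2 h hy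
  refine ⟨(h * d) * d⁻¹ * (h * d)⁻¹, ?_, h * d, hc, ?_⟩
  · exact hNn.conj_mem _ ((Cfsg.pPrimeCore 2 H).inv_mem hd) _
  · group

end Cfsg.Agent.Lib.Helper9
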