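import Mathlib
import Cfsg.Prelude.Def_TwoFusion
import Cfsg.Agent.Lib.Helper9.Isolated
import Cfsg.Agent.Lib.Helper5.InvSylow

set_option autoImplicit false

namespace Cfsg.Agent.Lib.Helper9

variable {G : Type*} [Group G]

/-- an involution normalising an odd-order subgroup normalises one of its Sylow subgroups -/
theorem zc_invariant_sylow [Finite G] (Y : Subgroup G) (d : G) (hd2 : orderOf d = 2)
    (hdY : d ∈ Subgroup.normalizer (Y : Set G)) (hodd : Odd (Nat.card Y)) (r : ℕ) [Fact r.Prime] :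
    ∃ Q : Subgroup G, Q ≤ Y ∧ IsPGroup r Q ∧ d ∈ Subgroup.normalizer (Q : Set G) ∧
      Nat.card Q = r ^ (Nat.card Y).factorization r := by
  have hA : Subgroup.zpowers d ≤ Subgroup.normalizer (Y : Set G) := by
    rw [Subgroup.zpowers_le]; exact hdY
  have hcop : (Nat.card (Subgroup.zpowers d)).Coprime (Nat.card Y) := by
    rw [Nat.card_zpowers, hd2]; exact Nat.coprime_two_left.mpr hodd
  have hsolv : Group.IsSolvable (Subgroup.zpowers d) := inferInstance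
  obtain ⟨Q, hQY, hQp, hQn, hQc⟩ :=
    Cfsg.Agent.Lib.Helper5.exists_invariant_sylow_sub (Subgroup.zpowers d) Y hA hcop hsolv r
  exact ⟨Q, hQY, hQp, hQn (Subgroup.mem_zpowers d), hQc⟩

theorem zc_mul_self {d : G} (hd : d⁻¹ = d) : d * d = 1 := by
  nth_rewrite 1 [← hd]; exact inv_mul_cancel d

theorem zc_inv_mul_inv {d : G} (hd : d⁻¹ = d) : d⁻¹ * d⁻¹ = 1 := by
  nth_rewrite 1 [hd]; exact mul_inv_cancel d

/-- `x⁻¹ * d x d⁻¹` is inverted by the involution `d` -/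
theorem zc_comm_inverted {d : G} (hd : d⁻¹ = d) (x : G) :
    d * (x⁻¹ * (d * x * d⁻¹)) * d⁻¹ = (x⁻¹ * (d * x * d⁻¹))⁻¹ := by
  have e1 : d * (x⁻¹ * (d * x * d⁻¹)) * d⁻¹ = d * x⁻¹ * d * x * (d⁻¹ * d⁻¹) := by group
  have e2 : (x⁻¹ * (d * x * d⁻¹))⁻¹ = d * x⁻¹ * d⁻¹ * x := by group
  rw [e1, e2, zc_inv_mul_inv hd, mul_one, hd]

/-- an involution with no nontrivial inverted element in `Q` centralises `Q` -/
theorem zc_centralizes_of_no_inverted {d : G} (hd : d⁻¹ = d) (Q : Subgroup G)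
    (hdQ : d ∈ Subgroup.normalizer (Q : Set G))
    (h : ∀ x ∈ Q, d * x * d⁻¹ = x⁻¹ → x = 1) : ∀ x ∈ Q, d * x * d⁻¹ = x := by
  intro x hx
  have hdx : d * x * d⁻¹ ∈ Q := (Subgroup.mem_normalizer_iff.mp hdQ x).mp hx
  have hy : x⁻¹ * (d * x * d⁻¹) ∈ Q := Q.mul_mem (Q.inv_mem hx) hdx
  have := h _ hy (zc_comm_inverted hd x)
  exact (inv_mul_eq_one.mp this).symm

/-- counting inverted elements of an odd-order subgroup -/
theorem zc_card_inverted [Finite G] {d : G} (hd : d⁻¹ = d) (X : Subgroup G)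
    (hdX : d ∈ Subgroup.normalizer (X : Set G)) (hodd : Odd (Nat.card X)) :
    (X ⊓ Subgroup.centralizer ({d} : Set G)).relIndex X
      = Nat.card {x : G // x ∈ X ∧ d * x * d⁻¹ = x⁻¹} := by
  have hdd : d * d = 1 := zc_mul_self hd
  have hii : d⁻¹ * d⁻¹ = 1 := zc_inv_mul_inv hd
  have hnorm : ∀ x ∈ X, d * x * d⁻¹ ∈ X := fun x hx => (Subgroup.mem_normalizer_iff.mp hdX x).mp hx
  have hmem : ∀ x : ↥X, (x : G) * (d * (x : G)⁻¹ * d⁻¹) ∈ X ∧
      d * ((x : G) * (d * (x : G)⁻¹ * d⁻¹)) * d⁻¹ = ((x : G) * (d * (x : G)⁻¹ * d⁻¹))⁻¹ := by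
    intro x
    refine ⟨X.mul_mem x.2 (hnorm _ (X.inv_mem x.2)), ?_⟩
    have e1 : d * ((x : G) * (d * (x : G)⁻¹ * d⁻¹)) * d⁻¹
        = d * (x : G) * (d * (x : G)⁻¹) * (d⁻¹ * d⁻¹) := by group
    have e2 : ((x : G) * (d * (x : G)⁻¹ * d⁻¹))⁻¹ = d * (x : G) * (d⁻¹ * (x : G)⁻¹) := by group
    rw [e1, e2, hii, mul_one, hd]
  let f : ↥X → {x : G // x ∈ X ∧ d * x * d⁻¹ = x⁻¹} :=
    fun x => ⟨(x : G) * (d * (x : G)⁻¹ * d⁻¹), hmem x⟩
  have hkey : ∀ x y : ↥X, f x = f y ↔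
      x⁻¹ * y ∈ (X ⊓ Subgroup.centralizer ({d} : Set G)).subgroupOf X := by
    intro x y
    rw [Subgroup.mem_subgroupOf, Subgroup.mem_inf, Subgroup.mem_centralizer_iff]
    simp only [f, Subtype.mk.injEq, Set.mem_singleton_iff, forall_eq, Subgroup.coe_mul,
      Subgroup.coe_inv]
    constructor
    · intro h
      refine ⟨X.mul_mem (X.inv_mem x.2) y.2, ?_⟩
      have h1 : (x : G) * d * (x : G)⁻¹ = (y : G) * d * (y : G)⁻¹ := by
        have := congrArg (fun t => t * d) h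
        calc (x : G) * d * (x : G)⁻¹ = (x : G) * (d * (x : G)⁻¹ * d⁻¹) * d := by group
          _ = (y : G) * (d * (y : G)⁻¹ * d⁻¹) * d := this
          _ = (y : G) * d * (y : G)⁻¹ := by group
      calc d * ((x : G)⁻¹ * (y : G)) = (x : G)⁻¹ * ((x : G) * d * (x : G)⁻¹) * (y : G) := by group
        _ = (x : G)⁻¹ * ((y : G) * d * (y : G)⁻¹) * (y : G) := by rw [h1]
        _ = (x : G)⁻¹ * (y : G) * d := by group
    · rintro ⟨_, h⟩
      have h1 : (y : G) * d * (y : G)⁻¹ = (x : G) * d * (x : G)⁻¹ := by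
        calc (y : G) * d * (y : G)⁻¹
            = (x : G) * (((x : G)⁻¹ * (y : G)) * d) * ((x : G)⁻¹ * (y : G))⁻¹ * (x : G)⁻¹ := by group
          _ = (x : G) * (d * ((x : G)⁻¹ * (y : G))) * ((x : G)⁻¹ * (y : G))⁻¹ * (x : G)⁻¹ := by
              rw [h]
          _ = (x : G) * d * (x : G)⁻¹ := by group
      calc (x : G) * (d * (x : G)⁻¹ * d⁻¹) = ((x : G) * d * (x : G)⁻¹) * d⁻¹ := by group
        _ = ((y : G) * d * (y : G)⁻¹) * d⁻¹ := by rw [h1]
        _ = (y : G) * (d * (y : G)⁻¹ * d⁻¹) := by group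
  have hsurj : Function.Surjective f := by
    rintro ⟨y, hyX, hy⟩
    have hoy : Odd (orderOf y) := by
      have h1 : orderOf y ∣ Nat.card X := by
        have : orderOf (⟨y, hyX⟩ : ↥X) ∣ Nat.card X := orderOf_dvd_natCard _
        rwa [Subgroup.orderOf_mk] at this
      exact Odd.of_dvd_nat hodd h1
    obtain ⟨j, hj⟩ := hoy
    have hw : y ^ (j + 1) ∈ X := X.pow_mem hyX _
    have hww : y ^ (j + 1) * y ^ (j + 1) = y := by
      rw [← pow_add]
      have : j + 1 + (j + 1) = orderOf y + 1 := by omega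
      rw [this, pow_succ, pow_orderOf_eq_one, one_mul]
    have hwinv : d * (y ^ (j + 1))⁻¹ * d⁻¹ = y ^ (j + 1) := by
      rw [← inv_pow, ← conj_pow]
      have : d * y⁻¹ * d⁻¹ = y := by
        calc d * y⁻¹ * d⁻¹ = (d * y * d⁻¹)⁻¹ := by group
          _ = y := by rw [hy, inv_inv]
      rw [this]
    refine ⟨⟨y ^ (j + 1), hw⟩, ?_⟩
    simp only [f, Subtype.mk.injEq]
    rw [hwinv, hww]
  have hcard : Nat.card (↥X ⧸ (X ⊓ Subgroup.centralizer ({d} : Set G)).subgroupOf X)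
      = Nat.card {x : G // x ∈ X ∧ d * x * d⁻¹ = x⁻¹} := by
    apply Nat.card_congr
    refine Equiv.ofBijective (Quotient.lift f ?_) ⟨?_, ?_⟩
    · intro a b hab
      rw [hkey]
      exact QuotientGroup.leftRel_apply.mp hab
    · intro a b
      induction a using Quotient.inductionOn with | _ a => ?_
      induction b using Quotient.inductionOn with | _ b => ?_
      intro h
      simp only [Quotient.lift_mk] at h
      exact Quotient.sound (QuotientGroup.leftRel_apply.mpr ((hkey a b).mp h))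
    · intro y
      obtain ⟨x, hx⟩ := hsurj y
      exact ⟨Quotient.mk _ x, by simpa using hx⟩
  rw [← hcard]
  rfl

end Cfsg.Agent.Lib.Helper9
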