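import Mathlib
import Cfsg.Agent.Lib.Helper9.ZCor1

set_option autoImplicit false

namespace Cfsg.Agent.Lib.Helper9

variable {G : Type*} [Group G]

theorem zc_card_mul_relIndex {H K : Subgroup G} (h : H ≤ K) :
    Nat.card H * H.relIndex K = Nat.card K := by
  rw [← Subgroup.relIndex_bot_left, ← Subgroup.relIndex_bot_left (H := K)]
  exact Subgroup.relIndex_mul_relIndex ⊥ H K bot_le h

/-- If every element of the odd-order subgroup `W` inverted by the involution `d` is a `p`-element,
then the index of `C_W(d)` in `W` is prime to every other prime. -/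
theorem zc_not_dvd_relIndex [Finite G] {d : G} (hd2 : orderOf d = 2) (W : Subgroup G)
    (hdW : d ∈ Subgroup.normalizer (W : Set G)) (hodd : Odd (Nat.card W)) (p : ℕ) [hp : Fact p.Prime]
    (hI : ∀ x ∈ W, d * x * d⁻¹ = x⁻¹ → ∃ k : ℕ, orderOf x = p ^ k)
    (q : ℕ) [hq : Fact q.Prime] (hqp : q ≠ p) :
    ¬ q ∣ (W ⊓ Subgroup.centralizer ({d} : Set G)).relIndex W := by
  have hd : d⁻¹ = d := inv_eq_self_of_orderOf_two hd2
  obtain ⟨Q, hQW, hQq, hdQ, hQc⟩ := zc_invariant_sylow W d hd2 hdW hodd q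
  have hcent : ∀ x ∈ Q, d * x * d⁻¹ = x := by
    apply zc_centralizes_of_no_inverted hd Q hdQ
    intro x hx hinv
    obtain ⟨k, hk⟩ := hI x (hQW hx) hinv
    obtain ⟨l, hl⟩ := (IsPGroup.iff_orderOf.mp hQq) ⟨x, hx⟩
    rw [Subgroup.orderOf_mk] at hl
    rcases Nat.eq_zero_or_pos k with h0 | hpos
    · rw [h0, pow_zero] at hk
      exact orderOf_eq_one_iff.mp hk
    · exfalso
      have h1 : p ∣ q ^ l := by
        rw [← hl, hk]; exact dvd_pow_self p (by omega)
      have h2 : p ∣ q := hp.out.dvd_of_dvd_pow h1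
      exact hqp ((Nat.prime_dvd_prime_iff_eq hp.out hq.out).mp h2).symm
  have hQC : Q ≤ W ⊓ Subgroup.centralizer ({d} : Set G) := by
    intro x hx
    refine Subgroup.mem_inf.mpr ⟨hQW hx, ?_⟩
    rw [Subgroup.mem_centralizer_iff]
    intro h hh
    rw [Set.mem_singleton_iff] at hh
    subst hh
    have := hcent x hx
    calc h * x = (h * x * h⁻¹) * h := by group
      _ = x * h := by rw [this]
  intro hdvd
  have h1 : Nat.card Q ∣ Nat.card (W ⊓ Subgroup.centralizer ({d} : Set G) : Subgroup G) :=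
    Subgroup.card_dvd_of_le hQC
  have h2 := zc_card_mul_relIndex (inf_le_left : W ⊓ Subgroup.centralizer ({d} : Set G) ≤ W)
  have h3 : q ^ ((Nat.card W).factorization q + 1) ∣ Nat.card W := by
    rw [pow_succ, ← hQc, ← h2]
    exact Nat.mul_dvd_mul h1 hdvd
  exact Nat.pow_succ_factorization_not_dvd Nat.card_pos.ne' hq.out h3

/-- Fischer-type core lemma: if every element of the odd-order subgroup `W` inverted by the
involution `d` is a `p`-element, all of them lie in one `d`-invariant `p`-subgroup of `W`. -/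
theorem zc_inverted_le_pgroup [Finite G] {d : G} (hd2 : orderOf d = 2) (W : Subgroup G)
    (hdW : d ∈ Subgroup.normalizer (W : Set G)) (hodd : Odd (Nat.card W)) (p : ℕ) [hp : Fact p.Prime]
    (hI : ∀ x ∈ W, d * x * d⁻¹ = x⁻¹ → ∃ k : ℕ, orderOf x = p ^ k) :
    ∃ P : Subgroup G, P ≤ W ∧ IsPGroup p P ∧ d ∈ Subgroup.normalizer (P : Set G) ∧
      ∀ x ∈ W, d * x * d⁻¹ = x⁻¹ → x ∈ P := by
  have hd : d⁻¹ = d := inv_eq_self_of_orderOf_two hd2
  obtain ⟨P, hPW, hPp, hdP, hPc⟩ := zc_invariant_sylow W d hd2 hdW hodd p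
  refine ⟨P, hPW, hPp, hdP, ?_⟩
  have hoddP : Odd (Nat.card P) := Odd.of_dvd_nat hodd (Subgroup.card_dvd_of_le hPW)
  set C := W ⊓ Subgroup.centralizer ({d} : Set G) with hC
  set CP := P ⊓ Subgroup.centralizer ({d} : Set G) with hCP
  have hiW := zc_card_inverted hd W hdW hodd
  have hiP := zc_card_inverted hd P hdP hoddP
  set iW := C.relIndex W with hiWdef
  set iP := CP.relIndex P with hiPdef
  have hW : Nat.card C * iW = Nat.card W := zc_card_mul_relIndex inf_le_left
  have hP : Nat.card CP * iP = Nat.card P := zc_card_mul_relIndex inf_le_left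
  have hW0 : Nat.card W ≠ 0 := Nat.card_pos.ne'
  have hC0 : Nat.card C ≠ 0 := Nat.card_pos.ne'
  have hiW0 : iW ≠ 0 := by
    intro h; rw [h, mul_zero] at hW; exact hW0 hW.symm
  -- iW is a power of p
  have hpow : ∃ e : ℕ, iW = p ^ e := by
    refine ⟨_, Nat.eq_prime_pow_of_unique_prime_dvd hiW0 ?_⟩
    intro q hq hqd
    by_contra hne
    haveI : Fact q.Prime := ⟨hq⟩
    exact zc_not_dvd_relIndex hd2 W hdW hodd p hI q hne hqd
  obtain ⟨e, he⟩ := hpow
  obtain ⟨j, hj⟩ := (hPp.to_le (inf_le_left : CP ≤ P)).exists_card_eq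
  have hCPC : CP ≤ C := inf_le_inf_right _ hPW
  have hjle : j ≤ (Nat.card C).factorization p := by
    have : p ^ j ∣ Nat.card C := by rw [← hj]; exact Subgroup.card_dvd_of_le hCPC
    exact (hp.out.pow_dvd_iff_le_factorization hC0).mp this
  have hfac : (Nat.card W).factorization p = (Nat.card C).factorization p + e := by
    rw [← hW, Nat.factorization_mul hC0 hiW0, he]
    simp [hp.out.factorization_pow]
  have hiPval : iP = p ^ ((Nat.card C).factorization p + e - j) := by
    have h1 : p ^ j * iP = p ^ j * p ^ ((Nat.card C).factorization p + e - j) := by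
      rw [← hj, hP, hPc, hfac, hj, ← pow_add]
      congr 1; omega
    exact Nat.eq_of_mul_eq_mul_left (pow_pos hp.out.pos j) h1
  have hle : iW ≤ iP := by
    rw [he, hiPval]
    exact Nat.pow_le_pow_right hp.out.pos (by omega)
  -- the inclusion of inverted elements of P into those of W is a bijection
  let ι : {x : G // x ∈ P ∧ d * x * d⁻¹ = x⁻¹} → {x : G // x ∈ W ∧ d * x * d⁻¹ = x⁻¹} :=
    fun x => ⟨x.1, hPW x.2.1, x.2.2⟩
  have hιinj : Function.Injective ι := by
    intro a b h
    have := congrArg Subtype.val h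
    exact Subtype.ext this
  have hfinW : Finite {x : G // x ∈ W ∧ d * x * d⁻¹ = x⁻¹} := inferInstance
  have hιsurj : Function.Surjective ι := by
    have hcard : Nat.card {x : G // x ∈ W ∧ d * x * d⁻¹ = x⁻¹}
        ≤ Nat.card {x : G // x ∈ P ∧ d * x * d⁻¹ = x⁻¹} := by
      rw [← hiW, ← hiP]; exact hle
    exact (Function.Injective.bijective_of_nat_card_le hιinj hcard).2
  intro x hxW hx
  obtain ⟨⟨y, hyP, _⟩, hy⟩ := hιsurj ⟨x, hxW, hx⟩
  have := congrArg Subtype.val hy
  simp only [ι] at this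
  rw [← this]; exact hyP

end Cfsg.Agent.Lib.Helper9
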