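import Mathlib
import Cfsg.Prelude.Def_Solvable
import Cfsg.Agent.Lib.Helper9.ZCor2
import Cfsg.Agent.Lib.Helper18.ZStarMain
import Cfsg.Agent.Lib.Helper18.PPrimeCore

set_option autoImplicit false

namespace Cfsg.Agent.Lib.Helper9

open Cfsg.Agent.Lib.Helper18 Cfsg.Agent.Lib.Helper18.ZStar

theorem zc_mem_conjugatesOf {G : Type*} [Group G] (d g : G) : g * d * g⁻¹ ∈ conjugatesOf d :=
  isConj_iff.mpr ⟨g, rfl⟩

theorem zc_oddCore_odd {G : Type*} [Group G] [Finite G] : Odd (Nat.card (Cfsg.pPrimeCore 2 G)) := by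
  have := pPrimeCore_card_coprime_h18 (G := G) 2
  exact Nat.coprime_two_right.mp this

/-- every element of an odd-order subgroup has odd order -/
theorem zc_odd_orderOf {G : Type*} [Group G] [Finite G] {N : Subgroup G} (hN : Odd (Nat.card N))
    {x : G} (hx : x ∈ N) : Odd (orderOf x) := by
  have h1 : orderOf x ∣ Nat.card N := by
    have : orderOf (⟨x, hx⟩ : ↥N) ∣ Nat.card N := orderOf_dvd_natCard _
    rwa [Subgroup.orderOf_mk] at this
  exact Odd.of_dvd_nat hN h1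

/-- Fischer: if all products of two conjugates of the involution `d` are `p`-elements (`p` odd),
they all lie in `O_p(G)` — modulo the Brauer–Suzuki hypothesis. -/
theorem zc_fischer.{u} (hBS : BSHyp.{u}) {G : Type u} [Group G] [Finite G] {p : ℕ} (hp : p.Prime)
    (hp2 : p ≠ 2) (d : G) (hd : orderOf d = 2)
    (hprod : ∀ a ∈ conjugatesOf d, ∀ b ∈ conjugatesOf d, ∃ k : ℕ, orderOf (a * b) = p ^ k) :
    ∀ a ∈ conjugatesOf d, ∀ b ∈ conjugatesOf d, a * b ∈ Cfsg.pCore p G := by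
  haveI : Fact p.Prime := ⟨hp⟩
  have hdi : d⁻¹ = d := inv_eq_self_of_orderOf_two hd
  have hdd : d * d = 1 := mul_self_of_orderOf_two hd
  -- d is isolated
  have hiso : Cfsg.IsIsolatedInvolution d := by
    refine ⟨hd, ?_⟩
    intro g hg
    set w := g * d * g⁻¹ with hw
    have hw2 : w * w = 1 := mul_self_of_orderOf_two (conj_orderOf_two hd g)
    obtain ⟨k, hk⟩ := hprod d mem_conjugatesOf_self w (zc_mem_conjugatesOf d g)
    have hsq : (d * w) ^ 2 = 1 := by
      rw [sq]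
      calc d * w * (d * w) = d * (w * d) * w := by group
        _ = d * (d * w) * w := by rw [hg.eq]
        _ = (d * d) * (w * w) := by group
        _ = 1 := by rw [hdd, hw2, one_mul]
    have h1 : p ^ k ∣ 2 := by rw [← hk]; exact orderOf_dvd_of_pow_eq_one hsq
    have hk0 : k = 0 := by
      by_contra hne
      have h2 : p ∣ 2 := dvd_trans (dvd_pow_self p hne) h1
      exact hp2 ((Nat.prime_dvd_prime_iff_eq hp Nat.prime_two).mp h2)
    rw [hk0, pow_zero] at hk
    have h3 : d * w = 1 := orderOf_eq_one_iff.mp hk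
    calc w = d⁻¹ * (d * w) := by group
      _ = d := by rw [h3, mul_one, hdi]
  set N := Cfsg.pPrimeCore 2 G with hN
  haveI hNn : N.Normal := pPrimeCore_normal_h18 2 G
  have hNodd : Odd (Nat.card N) := zc_oddCore_odd
  have hZ : ∀ g : G, d * g * d⁻¹ * g⁻¹ ∈ N := fun g => zs_main hBS (Nat.card G) G rfl d hiso g
  have hdN : d ∈ Subgroup.normalizer (N : Set G) := by
    rw [Subgroup.normalizer_eq_top_iff.mpr hNn]; exact Subgroup.mem_top d
  have hI : ∀ x ∈ N, d * x * d⁻¹ = x⁻¹ → ∃ k : ℕ, orderOf x = p ^ k := by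
    intro x hx hinv
    obtain ⟨k, hk⟩ := hprod (x⁻¹ * d * x⁻¹⁻¹) (zc_mem_conjugatesOf d x⁻¹) d mem_conjugatesOf_self
    refine ⟨k, ?_⟩
    have e : x⁻¹ * d * x⁻¹⁻¹ * d = x⁻¹ ^ 2 := by
      rw [sq]
      calc x⁻¹ * d * x⁻¹⁻¹ * d = x⁻¹ * (d * x * d) := by group
        _ = x⁻¹ * (d * x * d⁻¹) := by rw [hdi]
        _ = x⁻¹ * x⁻¹ := by rw [hinv]
    rw [e] at hk
    have hodd : Odd (orderOf x⁻¹) := by rw [orderOf_inv]; exact zc_odd_orderOf hNodd hx
    have hcop : (orderOf x⁻¹).Coprime 2 := Nat.coprime_two_right.mpr hodd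
    rw [hcop.orderOf_pow, orderOf_inv] at hk
    exact hk
  obtain ⟨P, hPN, hPp, _, hPI⟩ := zc_inverted_le_pgroup hd N hdN hNodd p hI
  -- d * a ∈ P for every conjugate a
  have hda : ∀ a ∈ conjugatesOf d, d * a ∈ P := by
    intro a ha
    obtain ⟨g, rfl⟩ := isConj_iff.mp ha
    have h1 : d * (g * d * g⁻¹) ∈ N := by
      have := hZ g
      rw [hdi] at this
      have e : d * (g * d * g⁻¹) = d * g * d * g⁻¹ := by group
      rw [e]; exact this
    apply hPI _ h1
    have ha2 : (g * d * g⁻¹) * (g * d * g⁻¹) = 1 := mul_self_of_orderOf_two (conj_orderOf_two hd g)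
    have hai : (g * d * g⁻¹)⁻¹ = g * d * g⁻¹ := inv_conj_eq hd g
    calc d * (d * (g * d * g⁻¹)) * d⁻¹ = (d * d) * (g * d * g⁻¹) * d⁻¹ := by group
      _ = (g * d * g⁻¹)⁻¹ * d⁻¹ := by rw [hdd, one_mul, hai]
      _ = (d * (g * d * g⁻¹))⁻¹ := by group
  have hab : ∀ a ∈ conjugatesOf d, ∀ b ∈ conjugatesOf d, a * b ∈ P := by
    intro a ha b hb
    have h1 := hda a ha
    have h2 := hda b hb
    have hai : a⁻¹ = a := by
      obtain ⟨g, rfl⟩ := isConj_iff.mp ha
      exact inv_conj_eq hd g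
    have e : a * b = (d * a)⁻¹ * (d * b) := by
      calc a * b = a⁻¹ * b := by rw [hai]
        _ = (d * a)⁻¹ * (d * b) := by group
    rw [e]; exact P.mul_mem (P.inv_mem h1) h2
  set S : Set G := {t | ∃ a ∈ conjugatesOf d, ∃ b ∈ conjugatesOf d, t = a * b} with hS
  have hTP : Subgroup.normalClosure S ≤ P := by
    rw [Subgroup.normalClosure, Subgroup.closure_le]
    intro t ht
    obtain ⟨s, ⟨a, ha, b, hb, rfl⟩, hconj⟩ := Group.mem_conjugatesOfSet_iff.mp ht
    obtain ⟨c, rfl⟩ := isConj_iff.mp hconj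
    have e : c * (a * b) * c⁻¹ = (c * a * c⁻¹) * (c * b * c⁻¹) := by group
    rw [SetLike.mem_coe, e]
    apply hab
    · obtain ⟨g, rfl⟩ := isConj_iff.mp ha
      have : c * (g * d * g⁻¹) * c⁻¹ = (c * g) * d * (c * g)⁻¹ := by group
      rw [this]; exact zc_mem_conjugatesOf d _
    · obtain ⟨g, rfl⟩ := isConj_iff.mp hb
      have : c * (g * d * g⁻¹) * c⁻¹ = (c * g) * d * (c * g)⁻¹ := by group
      rw [this]; exact zc_mem_conjugatesOf d _
  have hTle : Subgroup.normalClosure S ≤ Cfsg.pCore p G :=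
    le_sSup ⟨Subgroup.normalClosure_normal, hPp.to_le hTP⟩
  intro a ha b hb
  exact hTle (Subgroup.subset_normalClosure ⟨a, ha, b, hb, rfl⟩)

end Cfsg.Agent.Lib.Helper9
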