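import Mathlib
import Cfsg.Prelude.Def_Solvable
import Cfsg.Agent.Lib.Helper9.ZCor3
import Cfsg.Agent.Lib.Helper18.PCore

set_option autoImplicit false

namespace Cfsg.Agent.Lib.Helper9

open Cfsg.Agent.Lib.Helper18 Cfsg.Agent.Lib.Helper18.ZStar

/-- Fischer: a group generated by a class of involutions with `p`-power pairwise products has
nilpotent derived subgroup — modulo the Brauer–Suzuki hypothesis. -/
theorem zc_fischer_commutator.{u} (hBS : BSHyp.{u}) {G : Type u} [Group G] [Finite G] (p : ℕ)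
    (hp : p.Prime) (hodd : p ≠ 2) {D : Set G} (hinv : ∀ d ∈ D, orderOf d = 2)
    (hconj : ∃ d ∈ D, D = conjugatesOf d) (hgen : Subgroup.closure D = ⊤)
    (hprod : ∀ x ∈ D, ∀ y ∈ D, x ≠ y → ∃ k : ℕ, orderOf (x * y) = p ^ k) :
    Group.IsNilpotent ↥(commutator G) := by
  haveI : Fact p.Prime := ⟨hp⟩
  obtain ⟨d, hdD, hD⟩ := hconj
  have hd : orderOf d = 2 := hinv d hdD
  have hdi : d⁻¹ = d := inv_eq_self_of_orderOf_two hd
  have hprod' : ∀ a ∈ conjugatesOf d, ∀ b ∈ conjugatesOf d, ∃ k : ℕ, orderOf (a * b) = p ^ k := by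
    intro a ha b hb
    by_cases hab : a = b
    · subst hab
      refine ⟨0, ?_⟩
      have : a * a = 1 := mul_self_of_orderOf_two (hinv a (hD ▸ ha))
      rw [this, orderOf_one, pow_zero]
    · exact hprod a (hD ▸ ha) b (hD ▸ hb) hab
  have hQ := zc_fischer hBS hp hodd d hd hprod'
  haveI hQn : (Cfsg.pCore p G).Normal := pCore_normal_h18 p G
  have hsup : Cfsg.pCore p G ⊔ Subgroup.zpowers d = ⊤ := by
    rw [eq_top_iff, ← hgen, Subgroup.closure_le]
    intro a ha
    rw [hD] at ha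
    have h1 : a * d ∈ Cfsg.pCore p G := hQ a ha d mem_conjugatesOf_self
    have h2 : d⁻¹ ∈ Subgroup.zpowers d := Subgroup.inv_mem _ (Subgroup.mem_zpowers d)
    have e : a = (a * d) * d⁻¹ := by group
    rw [SetLike.mem_coe, e]
    exact Subgroup.mul_mem_sup h1 h2
  have hcomm : commutator G ≤ Cfsg.pCore p G :=
    Subgroup.Normal.commutator_le_of_self_sup_commutative_eq_top hsup
      (Subgroup.zpowers_isMulCommutative d)
  have hpg : IsPGroup p ↥(commutator G) := (pCore_isPGroup p G).to_le hcomm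
  exact hpg.isNilpotent

end Cfsg.Agent.Lib.Helper9
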