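import Mathlib
import Cfsg.Prelude.Def_Solvable
import Cfsg.Agent.Lib.Helper9.ZCor3

set_option autoImplicit false

namespace Cfsg.Agent.Lib.Helper9

open Cfsg.Agent.Lib.Helper18 Cfsg.Agent.Lib.Helper18.ZStar

/-- Lemma B: if all commutators `[z,g]` of the isolated involution `z` lie in the normal subgroup
`N`, then `G = N C_G(z)`. -/
theorem zc_exists_mul_centralizer {X : Type*} [Group X] [Finite X] {z : X}
    (hz : Cfsg.IsIsolatedInvolution z) (N : Subgroup X) (hZ : ∀ g : X, z * g * z⁻¹ * g⁻¹ ∈ N)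
    (g : X) : ∃ n ∈ N, n⁻¹ * g ∈ Subgroup.centralizer ({z} : Set X) := by
  have hzi : z⁻¹ = z := inv_eq_self_of_orderOf_two hz.1
  obtain ⟨k, hk⟩ := isolated_conj_by_zpow hz g
  have hr : z * (g * z * g⁻¹) ∈ N := by
    have := hZ g
    rw [hzi] at this
    have e : z * (g * z * g⁻¹) = z * g * z * g⁻¹ := by group
    rw [e]; exact this
  refine ⟨(z * (g * z * g⁻¹)) ^ k, N.zpow_mem hr k, ?_⟩
  rw [Subgroup.mem_centralizer_iff]
  intro h hh
  rw [Set.mem_singleton_iff] at hh
  rw [hh]
  set n := (z * (g * z * g⁻¹)) ^ k with hn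
  have e1 : g * z * g⁻¹ = n * z * n⁻¹ := hk.symm
  calc z * (n⁻¹ * g) = n⁻¹ * (n * z * n⁻¹) * g := by group
    _ = n⁻¹ * (g * z * g⁻¹) * g := by rw [← e1]
    _ = n⁻¹ * g * z := by group

/-- an isolated involution normalises a nontrivial `p`-subgroup for every odd prime divisor `p`
of the group order (modulo the Brauer–Suzuki hypothesis) -/
theorem zc_exists_invariant_pgroup.{u} (hBS : BSHyp.{u}) {X : Type u} [Group X] [Finite X] {z : X}
    (hz : Cfsg.IsIsolatedInvolution z) (p : ℕ) [hp : Fact p.Prime] (hpX : p ∣ Nat.card X) :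
    ∃ R : Subgroup X, R ≠ ⊥ ∧ IsPGroup p R ∧ z ∈ Subgroup.normalizer (R : Set X) := by
  set N := Cfsg.pPrimeCore 2 X with hN
  haveI hNn : N.Normal := pPrimeCore_normal_h18 2 X
  have hNodd : Odd (Nat.card N) := zc_oddCore_odd
  have hZ : ∀ g : X, z * g * z⁻¹ * g⁻¹ ∈ N := fun g => zs_main hBS (Nat.card X) X rfl z hz g
  set C := Subgroup.centralizer ({z} : Set X) with hC
  have hsup : C ⊔ N = ⊤ := by
    rw [eq_top_iff]
    intro g _
    obtain ⟨n, hn, hc⟩ := zc_exists_mul_centralizer hz N hZ g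
    have e : g = n * (n⁻¹ * g) := by group
    rw [e, sup_comm]
    exact Subgroup.mul_mem_sup hn hc
  have hdvd : Nat.card X ∣ Nat.card C * Nat.card N := by
    have := card_sup_dvd_mul_h18 C N
    rwa [hsup, Subgroup.card_top] at this
  rcases (Nat.Prime.dvd_mul hp.out).mp (dvd_trans hpX hdvd) with h | h
  · -- a Sylow p-subgroup of C
    obtain ⟨P⟩ : Nonempty (Sylow p C) := inferInstance
    refine ⟨(P : Subgroup C).map C.subtype, ?_, P.isPGroup'.map _, ?_⟩
    · intro hbot
      have h1 : Nat.card ((P : Subgroup C).map C.subtype) = 1 := by rw [hbot]; simp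
      rw [Subgroup.card_map_of_injective C.subtype_injective, Sylow.card_eq_multiplicity] at h1
      have h2 : 0 < (Nat.card C).factorization p :=
        hp.out.factorization_pos_of_dvd Nat.card_pos.ne' h
      have h3 : 1 < p ^ (Nat.card C).factorization p := Nat.one_lt_pow (by omega) hp.out.one_lt
      omega
    · apply Subgroup.centralizer_le_normalizer
      rw [Subgroup.mem_centralizer_iff]
      rintro _ ⟨x, _, rfl⟩
      have hx : (x : X) ∈ Subgroup.centralizer ({z} : Set X) := x.2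
      rw [Subgroup.mem_centralizer_iff] at hx
      exact (hx z (Set.mem_singleton z)).symm
  · have hzN : z ∈ Subgroup.normalizer (N : Set X) := by
      rw [Subgroup.normalizer_eq_top_iff.mpr hNn]; exact Subgroup.mem_top z
    obtain ⟨Q, _, hQp, hzQ, hQc⟩ := zc_invariant_sylow N z hz.1 hzN hNodd p
    refine ⟨Q, ?_, hQp, hzQ⟩
    intro hbot
    have h1 : Nat.card Q = 1 := by rw [hbot]; simp
    rw [hQc] at h1
    have h2 : 0 < (Nat.card N).factorization p :=
      hp.out.factorization_pos_of_dvd Nat.card_pos.ne' h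
    have h3 : 1 < p ^ (Nat.card N).factorization p := Nat.one_lt_pow (by omega) hp.out.one_lt
    omega

/-- isolated involutions stay isolated in subgroups -/
theorem zc_isolated_subgroup {G : Type*} [Group G] {z : G} (hz : Cfsg.IsIsolatedInvolution z)
    (M : Subgroup G) (hzM : z ∈ M) : Cfsg.IsIsolatedInvolution (⟨z, hzM⟩ : ↥M) := by
  refine ⟨by rw [Subgroup.orderOf_mk]; exact hz.1, ?_⟩
  intro g hg
  have h1 : Commute z ((g : G) * z * (g : G)⁻¹) := by
    have := congrArg Subtype.val hg.eq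
    simpa [Commute, SemiconjBy] using this
  have h2 := hz.2 (g : G) h1
  exact Subtype.ext (by simpa using h2)

/-- isolated involutions stay isolated modulo an odd-order normal subgroup -/
theorem zc_isolated_quotient {M : Type*} [Group M] [Finite M] {z : M}
    (hz : Cfsg.IsIsolatedInvolution z) (Q : Subgroup M) [Q.Normal] (hQ : Odd (Nat.card Q)) :
    Cfsg.IsIsolatedInvolution (QuotientGroup.mk' Q z) := by
  haveI : Fact (Nat.Prime 2) := ⟨Nat.prime_two⟩
  have hzi : z⁻¹ = z := inv_eq_self_of_orderOf_two hz.1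
  have hzz : z * z = 1 := mul_self_of_orderOf_two hz.1
  have hzQ : z ∉ Q := by
    intro h
    have := zc_odd_orderOf hQ h
    rw [hz.1] at this
    exact absurd this (by decide)
  have hbar2 : QuotientGroup.mk' Q z * QuotientGroup.mk' Q z = 1 := by
    rw [← map_mul, hzz, map_one]
  have hbarne : QuotientGroup.mk' Q z ≠ 1 := by
    intro h
    rw [QuotientGroup.mk'_apply, QuotientGroup.eq_one_iff] at h
    exact hzQ h
  refine ⟨orderOf_eq_prime (by rw [sq]; exact hbar2) hbarne, ?_⟩
  intro gb hcomm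
  obtain ⟨g, rfl⟩ := QuotientGroup.mk'_surjective Q gb
  set w := g * z * g⁻¹ with hw
  have hwi : w⁻¹ = w := inv_conj_eq hz.1 g
  have hww : w * w = 1 := mul_self_of_orderOf_two (conj_orderOf_two hz.1 g)
  have hmap : QuotientGroup.mk' Q g * QuotientGroup.mk' Q z * (QuotientGroup.mk' Q g)⁻¹
      = QuotientGroup.mk' Q w := by
    rw [hw, map_mul, map_mul, map_inv]
  rw [hmap] at hcomm ⊢
  -- r = z * w has odd order and r^2 ∈ Q
  set r := z * w with hr
  have hrodd : Odd (orderOf r) := isolated_mul_conj_odd hz g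
  have hr2 : r * r ∈ Q := by
    have h1 : QuotientGroup.mk' Q (z * w) = QuotientGroup.mk' Q (w * z) := by
      rw [map_mul, map_mul]; exact hcomm.eq
    rw [QuotientGroup.mk'_apply, QuotientGroup.mk'_apply, QuotientGroup.eq] at h1
    have e : (z * w)⁻¹ * (w * z) = (r * r)⁻¹ := by
      rw [hr]
      have e1 : w * z = w⁻¹ * z⁻¹ := by rw [hwi, hzi]
      calc (z * w)⁻¹ * (w * z) = w⁻¹ * z⁻¹ * (w * z) := by group
        _ = w⁻¹ * z⁻¹ * (w⁻¹ * z⁻¹) := by rw [e1]
        _ = (z * w * (z * w))⁻¹ := by group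
    rw [e] at h1
    exact (Subgroup.inv_mem_iff Q).mp h1
  have hrQ : r ∈ Q := by
    obtain ⟨j, hj⟩ := hrodd
    have : r = (r * r) ^ (j + 1) := by
      rw [← sq, ← pow_mul]
      have : 2 * (j + 1) = orderOf r + 1 := by omega
      rw [this, pow_succ, pow_orderOf_eq_one, one_mul]
    rw [this]; exact Q.pow_mem hr2 _
  have h1 : QuotientGroup.mk' Q z * QuotientGroup.mk' Q w = 1 := by
    rw [← map_mul, QuotientGroup.mk'_apply, QuotientGroup.eq_one_iff]; exact hrQ
  calc QuotientGroup.mk' Q w = (QuotientGroup.mk' Q z * QuotientGroup.mk' Q z) * QuotientGroup.mk' Q w := by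
        rw [hbar2, one_mul]
    _ = QuotientGroup.mk' Q z * (QuotientGroup.mk' Q z * QuotientGroup.mk' Q w) := by group
    _ = QuotientGroup.mk' Q z := by rw [h1, mul_one]

end Cfsg.Agent.Lib.Helper9
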