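import Mathlib
import Cfsg.Prelude.Def_Solvable
import Cfsg.Agent.Lib.Helper9.ZCor5

set_option autoImplicit false

namespace Cfsg.Agent.Lib.Helper9

open Cfsg.Agent.Lib.Helper18 Cfsg.Agent.Lib.Helper18.ZStar

/-- maximal `z`-invariant `p`-subgroups are Sylow, for an isolated involution `z`
(modulo the Brauer–Suzuki hypothesis) -/
theorem zc_max_invariant_is_sylow.{u} (hBS : BSHyp.{u}) {G : Type u} [Group G] [Finite G] (z : G)
    (hz : Cfsg.IsIsolatedInvolution z) {p : ℕ} [hp : Fact p.Prime] (Q : Subgroup G)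
    (hQ : IsPGroup p Q) (hzQ : z ∈ Subgroup.normalizer (Q : Set G))
    (hmax : ∀ R : Subgroup G, IsPGroup p R → z ∈ Subgroup.normalizer (R : Set G) → Q ≤ R → R = Q) :
    ∃ P : Sylow p G, (P : Subgroup G) = Q := by
  have hzi : z⁻¹ = z := inv_eq_self_of_orderOf_two hz.1
  have hzz : z * z = 1 := mul_self_of_orderOf_two hz.1
  by_cases hp2 : p = 2
  · subst hp2
    have hzp : IsPGroup 2 (Subgroup.zpowers z) :=
      IsPGroup.of_card (n := 1) (by rw [Nat.card_zpowers, hz.1, pow_one])
    have hle : Subgroup.zpowers z ≤ Subgroup.normalizer (Q : Set G) := by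
      rw [Subgroup.zpowers_le]; exact hzQ
    have hsup : IsPGroup 2 (Q ⊔ Subgroup.zpowers z : Subgroup G) :=
      hQ.to_sup_of_normal_left' hzp hle
    have hzin : z ∈ Q ⊔ Subgroup.zpowers z := Subgroup.mem_sup_right (Subgroup.mem_zpowers z)
    have h1 := hmax (Q ⊔ Subgroup.zpowers z) hsup (Subgroup.le_normalizer hzin) le_sup_left
    have hzQ' : z ∈ Q := by rw [← h1]; exact hzin
    obtain ⟨P, hP⟩ := hQ.exists_le_sylow
    exact ⟨P, hmax P P.isPGroup' (Subgroup.le_normalizer (hP hzQ')) hP⟩
  · obtain ⟨n, hn⟩ := hQ.exists_card_eq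
    by_cases hdvd : p ^ (n + 1) ∣ Nat.card G
    · exfalso
      have hpodd : Odd p := hp.out.odd_of_ne_two hp2
      have hpd := Sylow.prime_dvd_card_quotient_normalizer hdvd hn
      set M := Subgroup.normalizer (Q : Set G) with hM
      set QM : Subgroup M := Q.comap M.subtype with hQM
      haveI hQMn : QM.Normal := Subgroup.normal_in_normalizer
      have hQMp : IsPGroup p QM := hQ.comap_subtype
      have hQModd : Odd (Nat.card QM) := by
        obtain ⟨k, hk⟩ := hQMp.exists_card_eq
        rw [hk]; exact hpodd.pow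
      have hisoM : Cfsg.IsIsolatedInvolution (⟨z, hzQ⟩ : ↥M) := zc_isolated_subgroup hz M hzQ
      have hisoq := zc_isolated_quotient hisoM QM hQModd
      obtain ⟨Rb, hRb1, hRbp, hRbn⟩ := zc_exists_invariant_pgroup hBS hisoq p hpd
      set R : Subgroup G := (Rb.comap (QuotientGroup.mk' QM)).map M.subtype with hR
      have hRp : IsPGroup p R := by
        apply IsPGroup.map
        apply hRbp.comap_of_ker_isPGroup
        rw [QuotientGroup.ker_mk']; exact hQMp
      have hQR : Q ≤ R := by
        intro x hx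
        have hxM : x ∈ M := Subgroup.le_normalizer hx
        refine Subgroup.mem_map.mpr ⟨⟨x, hxM⟩, ?_, rfl⟩
        rw [Subgroup.mem_comap]
        have : (QuotientGroup.mk' QM) ⟨x, hxM⟩ = 1 := by
          rw [QuotientGroup.mk'_apply, QuotientGroup.eq_one_iff]
          exact hx
        rw [this]; exact Rb.one_mem
      have hfwd : ∀ x ∈ R, z * x * z⁻¹ ∈ R := by
        intro x hx
        obtain ⟨y, hy, rfl⟩ := Subgroup.mem_map.mp hx
        rw [Subgroup.mem_comap] at hy
        refine Subgroup.mem_map.mpr ⟨(⟨z, hzQ⟩ : ↥M) * y * (⟨z, hzQ⟩ : ↥M)⁻¹, ?_, rfl⟩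
        rw [Subgroup.mem_comap, map_mul, map_mul, map_inv]
        exact (Subgroup.mem_normalizer_iff.mp hRbn _).mp hy
      have hzR : z ∈ Subgroup.normalizer (R : Set G) := by
        rw [Subgroup.mem_normalizer_iff]
        intro x
        refine ⟨hfwd x, fun h => ?_⟩
        have := hfwd _ h
        have e : z * (z * x * z⁻¹) * z⁻¹ = (z * z) * x * (z * z)⁻¹ := by group
        rw [e, hzz] at this
        simpa using this
      have hRQ := hmax R hRp hzR hQR
      apply hRb1
      rw [eq_bot_iff]
      intro yb hyb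
      obtain ⟨y, rfl⟩ := QuotientGroup.mk'_surjective QM yb
      have hyR : (y : G) ∈ R := Subgroup.mem_map.mpr ⟨y, Subgroup.mem_comap.mpr hyb, rfl⟩
      rw [hRQ] at hyR
      rw [Subgroup.mem_bot, QuotientGroup.mk'_apply, QuotientGroup.eq_one_iff]
      exact hyR
    · have hle : n ≤ (Nat.card G).factorization p := by
        have : p ^ n ∣ Nat.card G := by rw [← hn]; exact Subgroup.card_subgroup_dvd_card Q
        exact (hp.out.pow_dvd_iff_le_factorization Nat.card_pos.ne').mp this
      have hge : (Nat.card G).factorization p < n + 1 := by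
        by_contra h
        push Not at h
        exact hdvd ((hp.out.pow_dvd_iff_le_factorization Nat.card_pos.ne').mpr h)
      have hneq : n = (Nat.card G).factorization p := by omega
      exact ⟨Sylow.ofCard Q (by rw [hn, hneq]), rfl⟩

end Cfsg.Agent.Lib.Helper9
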