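import Mathlib
import Cfsg.Prelude.Def_Solvable
import Cfsg.Agent.Lib.Helper9.ZCor6

set_option autoImplicit false

namespace Cfsg.Agent.Lib.Helper9

open Cfsg.Agent.Lib.Helper18 Cfsg.Agent.Lib.Helper18.ZStar
open scoped Pointwise

/-- Two Sylow `p`-subgroups normalised by the isolated involution `z` are conjugate by an element
of `C_G(z)`. -/
theorem zc_invariant_sylow_conj {G : Type*} [Group G] [Finite G] {z : G}
    (hz : Cfsg.IsIsolatedInvolution z) {p : ℕ} [Fact p.Prime] (P R : Sylow p G)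
    (hzP : z ∈ Subgroup.normalizer ((P : Subgroup G) : Set G))
    (hzR : z ∈ Subgroup.normalizer ((R : Subgroup G) : Set G)) :
    ∃ c ∈ Subgroup.centralizer ({z} : Set G),
      ∀ x : G, x ∈ (R : Subgroup G) ↔ c⁻¹ * x * c ∈ (P : Subgroup G) := by
  obtain ⟨g, hg⟩ := MulAction.exists_smul_eq G P R
  have hRP : (R : Subgroup G) = MulAut.conj g • (P : Subgroup G) := by rw [← hg]; rfl
  have hmemR : ∀ x : G, x ∈ (R : Subgroup G) ↔ g⁻¹ * x * g ∈ (P : Subgroup G) := by
    intro x
    rw [hRP, Subgroup.mem_pointwise_smul_iff_inv_smul_mem]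
    simp [MulAut.smul_def, MulAut.conj_inv_apply]
  -- w = g⁻¹ z g normalises P
  set L := Subgroup.normalizer ((P : Subgroup G) : Set G) with hL
  have hwL : g⁻¹ * z * g⁻¹⁻¹ ∈ L := by
    rw [hL, Subgroup.mem_normalizer_iff]
    intro x
    have h1 := (Subgroup.mem_normalizer_iff.mp hzR (g * x * g⁻¹))
    rw [hmemR, hmemR] at h1
    have e1 : g⁻¹ * (g * x * g⁻¹) * g = x := by group
    have e2 : g⁻¹ * (z * (g * x * g⁻¹) * z⁻¹) * g
        = g⁻¹ * z * g⁻¹⁻¹ * x * (g⁻¹ * z * g⁻¹⁻¹)⁻¹ := by group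
    rw [e1, e2] at h1
    exact h1
  obtain ⟨k, hk⟩ := isolated_conj_by_zpow hz g⁻¹
  set l := (z * (g⁻¹ * z * g⁻¹⁻¹)) ^ k with hl
  have hlL : l ∈ L := L.zpow_mem (L.mul_mem hzP hwL) k
  refine ⟨g * l, ?_, ?_⟩
  · rw [Subgroup.mem_centralizer_iff]
    intro h hh
    rw [Set.mem_singleton_iff] at hh
    rw [hh]
    calc z * (g * l) = g * (g⁻¹ * z * g⁻¹⁻¹) * l := by group
      _ = g * (l * z * l⁻¹) * l := by rw [hk]
      _ = g * l * z := by group
  · intro x
    rw [hmemR]
    have h1 := Subgroup.mem_normalizer_iff.mp (L.inv_mem hlL) (g⁻¹ * x * g)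
    rw [h1]
    have e : l⁻¹ * (g⁻¹ * x * g) * l⁻¹⁻¹ = (g * l)⁻¹ * x * (g * l) := by group
    rw [e]

/-- S1253 modulo the Brauer–Suzuki hypothesis -/
theorem zc_sylow_inter_centralizer.{u} (hBS : BSHyp.{u}) {G : Type u} [Group G] [Finite G] (z : G)
    (hz : Cfsg.IsIsolatedInvolution z) {p : ℕ} [hp : Fact p.Prime] (hp2 : p ≠ 2) (P : Sylow p G)
    (hzP : z ∈ Subgroup.normalizer ((P : Subgroup G) : Set G)) :
    ¬ p ∣ ((P : Subgroup G) ⊓ Subgroup.centralizer ({z} : Set G)).relIndex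
        (Subgroup.centralizer ({z} : Set G)) ∧
      ((P : Subgroup G) ⊓ Subgroup.centralizer ({z} : Set G)).relIndex (P : Subgroup G)
        = Nat.card {x : G // x ∈ P ∧ z * x * z⁻¹ = x⁻¹} := by
  have hzi : z⁻¹ = z := inv_eq_self_of_orderOf_two hz.1
  have hpodd : Odd p := hp.out.odd_of_ne_two hp2
  constructor
  · set C := Subgroup.centralizer ({z} : Set G) with hC
    obtain ⟨PC⟩ : Nonempty (Sylow p C) := inferInstance
    set R0 : Subgroup G := (PC : Subgroup C).map C.subtype with hR0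
    have hR0p : IsPGroup p R0 := PC.isPGroup'.map _
    have hR0C : R0 ≤ C := by
      rintro _ ⟨x, _, rfl⟩; exact x.2
    have hR0card : Nat.card R0 = p ^ (Nat.card C).factorization p := by
      rw [hR0, Subgroup.card_map_of_injective C.subtype_injective, Sylow.card_eq_multiplicity]
    have hcentR : ∀ R' : Subgroup G, R' ≤ C → z ∈ Subgroup.normalizer (R' : Set G) := by
      intro R' hR'
      apply Subgroup.centralizer_le_normalizer
      rw [Subgroup.mem_centralizer_iff]
      intro x hx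
      have := hR' hx
      rw [hC, Subgroup.mem_centralizer_iff] at this
      exact (this z (Set.mem_singleton z)).symm
    -- a maximal z-invariant p-subgroup containing R0
    let S : Set (Subgroup G) :=
      {R | IsPGroup p R ∧ z ∈ Subgroup.normalizer (R : Set G) ∧ R0 ≤ R}
    have hR0S : R0 ∈ S := ⟨hR0p, hcentR R0 hR0C, le_refl _⟩
    obtain ⟨R, hR0R, hRmax⟩ := (Set.toFinite S).exists_le_maximal hR0S
    obtain ⟨hRp, hzR, _⟩ := hRmax.prop
    have hmax : ∀ R' : Subgroup G, IsPGroup p R' → z ∈ Subgroup.normalizer (R' : Set G) →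
        R ≤ R' → R' = R := by
      intro R' h1 h2 h3
      exact le_antisymm (hRmax.le_of_ge ⟨h1, h2, le_trans hR0R h3⟩ h3) h3
    obtain ⟨PR, hPR⟩ := zc_max_invariant_is_sylow hBS z hz R hRp hzR hmax
    have hzPR : z ∈ Subgroup.normalizer ((PR : Subgroup G) : Set G) := by rw [hPR]; exact hzR
    obtain ⟨c, hcC, hc⟩ := zc_invariant_sylow_conj hz P PR hzP hzPR
    set K := (P : Subgroup G) ⊓ C with hK
    have hle : R0 ≤ K.map (MulAut.conj c).toMonoidHom := by
      intro x hx
      have hxR : x ∈ (PR : Subgroup G) := by rw [hPR]; exact hR0R hx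
      have hxC : x ∈ C := hR0C hx
      refine Subgroup.mem_map.mpr ⟨c⁻¹ * x * c, ?_, ?_⟩
      · exact Subgroup.mem_inf.mpr ⟨(hc x).mp hxR, C.mul_mem (C.mul_mem (C.inv_mem hcC) hxC) hcC⟩
      · simp only [MulEquiv.coe_toMonoidHom, MulAut.conj_apply]; group
    have hdvd : p ^ (Nat.card C).factorization p ∣ Nat.card K := by
      rw [← hR0card]
      have hcm : Nat.card (K.map (MulAut.conj c).toMonoidHom) = Nat.card K :=
        Subgroup.card_map_of_injective (MulAut.conj c).injective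
      have := Subgroup.card_dvd_of_le hle
      rwa [hcm] at this
    intro hpd
    have h2 := zc_card_mul_relIndex (inf_le_right : K ≤ C)
    have h3 : p ^ ((Nat.card C).factorization p + 1) ∣ Nat.card C := by
      rw [pow_succ]
      have := Nat.mul_dvd_mul hdvd hpd
      rwa [h2] at this
    exact Nat.pow_succ_factorization_not_dvd Nat.card_pos.ne' hp.out h3
  · have hPodd : Odd (Nat.card (P : Subgroup G)) := by
      obtain ⟨k, hk⟩ := P.isPGroup'.exists_card_eq
      rw [hk]; exact hpodd.pow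
    exact zc_card_inverted hzi (P : Subgroup G) hzP hPodd

end Cfsg.Agent.Lib.Helper9
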